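import Cfsg.Statements.S3780
import Mathlib
import Cfsg.Agent.Lib.PGroups.Basic

set_option autoImplicit false
open Cfsg Cfsg.Agent.PGroups.Basic

namespace Cfsg.Agent.S3780

/-- Let V be a finite abelian p-group and α an automorphism of V of order p whose fixed-point subgroup has order p^n. Then V can be generated by pn elements: some subset of V with at most pn elements generates V. -/
theorem result {V : Type*} [CommGroup V] [Finite V] {p : ℕ} [Fact p.Prime] (hV : IsPGroup p V) (α : MulAut V) (hα : orderOf α = p) (n : ℕ) (hfix : Nat.card {v : V // α v = v} = p ^ n) : ∃ S : Finset V, S.card ≤ p * n ∧ Subgroup.closure (S : Set V) = ⊤ := by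
  classical
  let W : Subgroup V := (powMonoidHom p : V →* V).ker
  have hWmem : ∀ v : V, v ∈ W ↔ v ^ p = 1 := fun v => by simp [W]
  let aW : Additive W →+ Additive W := MonoidHom.toAdditive
    { toFun := fun w => ⟨α w, by rw [hWmem, ← map_pow, (hWmem w).mp w.2, map_one]⟩
      map_one' := by ext; simp
      map_mul' := fun x y => by ext; simp }
  let a : AddMonoid.End (Additive W) := aW
  have hiter : ∀ k : ℕ, ∀ w : Additive W,
      ((Additive.toMul ((a ^ k) w) : W) : V) = (α ^ k) ((Additive.toMul w : W) : V) := by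
    intro k
    induction k with
    | zero => intro w; simp
    | succ k ih =>
      intro w
      rw [pow_succ, pow_succ, AddMonoid.End.coe_mul, Function.comp_apply, ih]
      rfl
  have hp0 : (p : AddMonoid.End (Additive W)) = 0 := by
    ext w
    rw [AddMonoid.End.natCast_apply]
    change ((((Additive.toMul w : W) ^ p : W)) : V) = ((1 : W) : V)
    rw [Subgroup.coe_pow, (hWmem _).mp (Additive.toMul w : W).2, Subgroup.coe_one]
  have hap : a ^ p = 1 := by
    ext w
    show ((Additive.toMul ((a ^ p) w) : W) : V) = ((Additive.toMul w : W) : V)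
    rw [hiter, ← hα, pow_orderOf_eq_one]
    simp
  have hnil : (a - 1) ^ p = 0 := by
    obtain ⟨r, hr⟩ := (Commute.one_right (a - 1)).exists_add_pow_prime_eq (Fact.out : p.Prime)
    rw [sub_add_cancel, hp0, hap, one_pow] at hr
    simpa using hr
  set δ : Additive W →+ Additive W := (a - 1 : AddMonoid.End (Additive W))
  have hkerbound : ∀ k : ℕ, Nat.card {w : Additive W // ((a - 1) ^ k) w = 0} ≤ (p ^ n) ^ k := by
    have h1 : Nat.card δ.ker ≤ p ^ n := by
      rw [← hfix]
      refine Nat.card_le_card_of_injective (fun w => ⟨((Additive.toMul w.1 : W) : V), ?_⟩)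
        (fun x y h => Subtype.ext (Additive.toMul.injective (Subtype.ext (congrArg Subtype.val h :))))
      have hw := w.2
      rw [AddMonoidHom.mem_ker] at hw
      have : a w.1 = w.1 := by rwa [show δ w.1 = a w.1 - w.1 from rfl, sub_eq_zero] at hw
      have := congrArg (fun z : Additive W => ((Additive.toMul z : W) : V)) this
      exact this
    intro k
    induction k with
    | zero =>
      rw [pow_zero, Nat.pow_zero]
      haveI : Subsingleton {w : Additive W // (1 : AddMonoid.End (Additive W)) w = 0} :=
        ⟨fun x y => Subtype.ext (by simpa using x.2.trans y.2.symm)⟩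
      exact Finite.card_le_one_iff_subsingleton.mpr inferInstance
    | succ k ih =>
      let H : AddSubgroup (Additive W) := AddMonoidHom.ker ((a - 1) ^ (k + 1) : AddMonoid.End (Additive W))
      let g : H →+ Additive W := δ.comp H.subtype
      have hr : Nat.card g.range ≤ Nat.card {w : Additive W // ((a - 1) ^ k) w = 0} := by
        refine Nat.card_le_card_of_injective (fun w => ⟨w.1, ?_⟩) (fun x y h => Subtype.ext (congrArg Subtype.val h :))
        obtain ⟨v, hv⟩ := w.2
        have := v.2
        rw [← hv]
        simp only [H, AddMonoidHom.mem_ker, pow_succ] at this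
        exact this
      have hk : Nat.card g.ker ≤ Nat.card δ.ker :=
        Nat.card_le_card_of_injective (fun w => ⟨w.1.1, w.2⟩)
          (fun x y h => Subtype.ext (Subtype.ext (congrArg Subtype.val h :)))
      calc Nat.card {w : Additive W // ((a - 1) ^ (k + 1)) w = 0} = Nat.card H := rfl
        _ = Nat.card g.ker * Nat.card g.range := by rw [← AddSubgroup.index_ker, AddSubgroup.card_mul_index]
        _ ≤ p ^ n * (p ^ n) ^ k := Nat.mul_le_mul (hk.trans h1) (hr.trans ih)
        _ = (p ^ n) ^ (k + 1) := by ring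
  have hW : Nat.card W ≤ p ^ (p * n) := by
    refine le_trans ?_ ((hkerbound p).trans_eq (by rw [← pow_mul, mul_comm]))
    exact Nat.card_le_card_of_injective (fun w => ⟨Additive.ofMul w, by rw [hnil]; rfl⟩)
      (fun x y h => congrArg Subtype.val h)
  set Φ := (powMonoidHom p : V →* V).range
  have hQ : Nat.card (V ⧸ Φ) ≤ p ^ (p * n) := by
    rw [← Subgroup.index_eq_card, Subgroup.index_range]; exact hW
  obtain ⟨S, hS, htop⟩ := exists_generators (hV.to_quotient Φ) (p * n) hQ
  refine ⟨S.image Quotient.out, Finset.card_image_le.trans hS, ?_⟩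
  set H := Subgroup.closure ((S.image Quotient.out : Finset V) : Set V)
  have hmap : H.map (QuotientGroup.mk' Φ) = ⊤ := by
    rw [eq_top_iff, ← htop, Subgroup.closure_le]
    exact fun s hs => ⟨Quotient.out s, Subgroup.subset_closure (Finset.mem_coe.mpr (Finset.mem_image_of_mem _ hs)), QuotientGroup.out_eq' s⟩
  have hstep : ∀ v : V, ∃ h ∈ H, ∃ w : V, v = h * w ^ p := by
    intro v
    obtain ⟨h, hh, he⟩ := Subgroup.mem_map.mp (hmap ▸ Subgroup.mem_top (QuotientGroup.mk' Φ v))
    obtain ⟨w, hw⟩ := QuotientGroup.eq.mp he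
    exact ⟨h, hh, w, by simp only [powMonoidHom_apply] at hw; rw [hw]; group⟩
  have hk : ∀ k : ℕ, ∀ v : V, ∃ h ∈ H, ∃ w : V, v = h * w ^ p ^ k := by
    intro k
    induction k with
    | zero => exact fun v => ⟨1, one_mem H, v, by simp⟩
    | succ k ih =>
      intro v
      obtain ⟨h, hh, w, rfl⟩ := ih v
      obtain ⟨h', hh', w', rfl⟩ := hstep w
      exact ⟨h * h' ^ p ^ k, mul_mem hh (pow_mem hh' _), w', by rw [mul_pow, ← pow_mul, ← pow_succ', mul_assoc]⟩
  obtain ⟨e, he⟩ := IsPGroup.iff_card.mp hV
  refine eq_top_iff.mpr fun v _ => ?_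
  obtain ⟨h, hh, w, rfl⟩ := hk e v
  rwa [← he, pow_card_eq_one', mul_one]

end Cfsg.Agent.S3780
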