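import Cfsg.Statements.S3785
import Mathlib
import Cfsg.Agent.Lib.Cores.Fitting
import Cfsg.Agent.OddLocal.Coprime

set_option autoImplicit false
open Cfsg
open scoped commutatorElement

namespace Cfsg.Agent.S3785

/-- Let G be a finite solvable group whose Fitting subgroup F(G) has odd order. If an element g of G commutes with every element of prime order of F(G), then g ∈ F(G). -/
theorem result {G : Type*} [Group G] [Finite G] (hG : Group.IsSolvable G) (hodd : Odd (Nat.card (Cfsg.fittingSubgroup G))) (g : G) (hg : ∀ x ∈ Cfsg.fittingSubgroup G, (orderOf x).Prime → g * x = x * g) : g ∈ Cfsg.fittingSubgroup G := by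
  classical
  set S : Set G := {x | x ∈ fittingSubgroup G ∧ (orderOf x).Prime}
  set C := Subgroup.centralizer S
  have hCn : C.Normal := ⟨fun c hc h => by
    rw [Subgroup.mem_centralizer_iff] at hc ⊢
    intro x hx
    have h2 := hc (h⁻¹ * x * h) ⟨by simpa using (Cfsg.Agent.Cores.fittingSubgroup_normal (G := G)).conj_mem x hx.1 h⁻¹,
      by rw [show h⁻¹ * x * h = MulAut.conj h⁻¹ x by simp, MulEquiv.orderOf_eq]; exact hx.2⟩
    calc x * (h * c * h⁻¹) = h * ((h⁻¹ * x * h) * c) * h⁻¹ := by group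
      _ = h * (c * (h⁻¹ * x * h)) * h⁻¹ := by rw [h2]
      _ = h * c * h⁻¹ * x := by group⟩
  haveI := hCn
  suffices hnil : Group.IsNilpotent C from
    (Cfsg.Agent.Cores.le_fittingSubgroup hnil) (Subgroup.mem_centralizer_iff.mpr fun x hx => (hg x hx.1 hx.2).symm)
  -- an element of `C` of order prime to `t` centralizes `O_t(G)`
  have hfix : ∀ (t : ℕ) [Fact t.Prime] (x : G), x ∈ C → (orderOf x).Coprime t → ∀ u ∈ Cfsg.pCore t G, x * u = u * x := by
    intro t _ x hx hcop u hu
    have hle : Cfsg.pCore t G ≤ fittingSubgroup G := Cfsg.Agent.Cores.pCore_le_fitting t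
    by_cases h1 : Cfsg.pCore t G = ⊥
    · rw [h1, Subgroup.mem_bot] at hu; simp [hu]
    have ht2 : t ≠ 2 := by
      rintro rfl
      have hd : 2 ∣ Nat.card (Cfsg.pCore 2 G) :=
        ((Cfsg.Agent.Cores.pCore_isPGroup 2).card_eq_or_dvd).resolve_left fun h => h1 (Subgroup.eq_bot_of_card_eq _ h)
      exact Nat.not_even_iff_odd.mpr hodd (even_iff_two_dvd.mpr (hd.trans (Subgroup.card_dvd_of_le hle)))
    have h3 := Cfsg.Agent.OddLocal.Coprime.le_centralizer_of_fix_order_p ht2 (P := Cfsg.pCore t G) (A := Subgroup.zpowers x)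
      (Cfsg.Agent.Cores.pCore_isPGroup t) Subgroup.le_normalizer_of_normal (by rwa [Nat.card_zpowers]) (by
        intro y hy hyt a ha
        by_cases hy1 : y = 1
        · simp [hy1]
        have hyo : (orderOf y).Prime := by
          rw [orderOf_eq_prime hyt hy1]; exact Fact.out
        obtain ⟨k, rfl⟩ := ha
        exact ((show Commute x y from (Subgroup.mem_centralizer_iff.mp hx y ⟨hle hy, hyo⟩).symm).zpow_left k).eq)
    exact (Subgroup.mem_centralizer_iff.mp (h3 (Subgroup.mem_zpowers x)) u hu).symm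
  -- coprime elements of prime power order in `C` commute
  have hcomm : ∀ (r s : ℕ) [Fact r.Prime] [Fact s.Prime], r ≠ s → ∀ x y : G, x ∈ C → y ∈ C →
      (∃ i : ℕ, orderOf x = r ^ i) → (∃ j : ℕ, orderOf y = s ^ j) → x * y = y * x := by
    intro r s _ _ hrs x y hx hy hxo hyo
    obtain ⟨i, hi⟩ := hxo
    obtain ⟨j, hj⟩ := hyo
    have hxt : ∀ t : ℕ, t.Prime → t ≠ r → (orderOf x).Coprime t := fun t ht hne =>
      hi ▸ Nat.Coprime.pow_left i ((Nat.coprime_primes Fact.out ht).mpr (Ne.symm hne))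
    have hyt : ∀ t : ℕ, t.Prime → t ≠ s → (orderOf y).Coprime t := fun t ht hne =>
      hj ▸ Nat.Coprime.pow_left j ((Nat.coprime_primes Fact.out ht).mpr (Ne.symm hne))
    set c := x * y * x⁻¹ * y⁻¹ with hc
    have hcF : c ∈ fittingSubgroup G := by
      refine Cfsg.Agent.Cores.centralizer_fittingSubgroup_le (Subgroup.mem_centralizer_iff.mpr fun f hf => ?_)
      rw [SetLike.mem_coe, Cfsg.Agent.Cores.fittingSubgroup_eq_iSup] at hf
      suffices (⨆ p : (Nat.card G).primeFactors, Cfsg.pCore (p : ℕ) G) ≤ Subgroup.centralizer ({c} : Set G) from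
        Subgroup.mem_centralizer_singleton_iff.mp (this hf)
      refine iSup_le fun t u hu => Subgroup.mem_centralizer_singleton_iff.mpr ?_
      haveI : Fact (t : ℕ).Prime := ⟨Nat.prime_of_mem_primeFactors t.2⟩
      have hconj : ∀ g : G, g⁻¹ * u * g ∈ Cfsg.pCore (t : ℕ) G := fun g => by
        simpa using (inferInstance : (Cfsg.pCore (t : ℕ) G).Normal).conj_mem u hu g⁻¹
      by_cases hts : (t : ℕ) = s
      · have hfx : ∀ v ∈ Cfsg.pCore (t : ℕ) G, x * v = v * x :=
          hfix t x hx (hxt t Fact.out (fun h => hrs (h ▸ hts)))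
        have e1 := hfx _ (hconj y⁻¹)
        simp only [inv_inv] at e1
        have e2 := hfx u hu
        have ex : x⁻¹ * u = u * x⁻¹ := (show Commute x u from e2).inv_left.eq
        have ey : x⁻¹ * (y * u * y⁻¹) = y * u * y⁻¹ * x⁻¹ := (show Commute x (y * u * y⁻¹) from e1).inv_left.eq
        have h1 := hfx _ (hconj y)
        show u * c = c * u
        calc u * c = (u * x) * y * x⁻¹ * y⁻¹ := by rw [hc]; group
          _ = x * y * (y⁻¹ * u * y) * x⁻¹ * y⁻¹ := by rw [← e2]; group
          _ = x * y * x⁻¹ * (y⁻¹ * u * y) * y⁻¹ := by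
            rw [mul_assoc (x * y), ← (show Commute x (y⁻¹ * u * y) from h1).inv_left.eq]; group
          _ = c * u := by rw [hc]; group
      · have hfy : ∀ v ∈ Cfsg.pCore (t : ℕ) G, y * v = v * y := hfix t y hy (hyt t Fact.out hts)
        have e2 := hfy u hu
        have h1 : y * (x⁻¹ * u * x) = x⁻¹ * u * x * y := hfy _ (hconj x)
        show u * c = c * u
        calc u * c = x * ((x⁻¹ * u * x) * y) * x⁻¹ * y⁻¹ := by rw [hc]; group
          _ = x * y * x⁻¹ * (u * y⁻¹) := by rw [← h1]; group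
          _ = c * u := by
            rw [← (show Commute y u from e2).inv_left.eq, hc]; group
    -- decompose `F`
    let U := Cfsg.pCore r G
    let V := ⨆ (t : (Nat.card G).primeFactors) (_ : (t : ℕ) ≠ r), Cfsg.pCore (t : ℕ) G
    have hxV : V ≤ Subgroup.centralizer ({x} : Set G) := iSup₂_le fun t htr u hu => by
      haveI : Fact (t : ℕ).Prime := ⟨Nat.prime_of_mem_primeFactors t.2⟩
      exact Subgroup.mem_centralizer_singleton_iff.mpr (hfix t x hx (hxt t Fact.out htr) u hu).symm
    have hFUV : fittingSubgroup G ≤ U ⊔ V := by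
      rw [Cfsg.Agent.Cores.fittingSubgroup_eq_iSup]
      refine iSup_le fun t => ?_
      by_cases htr : (t : ℕ) = r
      · rw [htr]; exact le_sup_left
      · exact le_sup_of_le_right (le_iSup₂ (f := fun (t : (Nat.card G).primeFactors) (_ : (t : ℕ) ≠ r) => Cfsg.pCore (t : ℕ) G) t htr)
    have hVle : V ≤ Cfsg.pPrimeCore r G := iSup₂_le fun t htr => by
      haveI : Fact (t : ℕ).Prime := ⟨Nat.prime_of_mem_primeFactors t.2⟩
      refine Cfsg.Agent.Cores.le_pPrimeCore ?_
      obtain ⟨k, hk⟩ := IsPGroup.iff_card.mp (Cfsg.Agent.Cores.pCore_isPGroup (G := G) (t : ℕ))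
      rw [hk]
      exact Nat.Coprime.pow_left k ((Nat.coprime_primes Fact.out Fact.out).mpr htr)
    haveI hVn : V.Normal := ⟨fun v hv g => by
      have : V ≤ V.comap (MulAut.conj g).toMonoidHom := iSup₂_le fun t htr w hw =>
        le_iSup₂ (f := fun (t : (Nat.card G).primeFactors) (_ : (t : ℕ) ≠ r) => Cfsg.pCore (t : ℕ) G) t htr
          ((inferInstance : (Cfsg.pCore (t : ℕ) G).Normal).conj_mem w hw g)
      exact this hv⟩
    obtain ⟨u, hu, v, hv, huv⟩ := Subgroup.mem_sup_of_normal_left.mp (hFUV hcF)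
    have hUV : U ⊓ V ≤ ⊥ := (inf_le_inf le_rfl hVle).trans (le_of_eq (Cfsg.Agent.Cores.pCore_inf_pPrimeCore r))
    have hu1 : u = 1 := by
      -- the conjugate of `y` by `x` equals `u * (v * y)`
      have e : x * y * x⁻¹ = u * (v * y) := by rw [← mul_assoc, huv, hc]; group
      have hyu : y * u = u * y := hfix r y hy (hyt r Fact.out hrs) u hu
      have hcu : Commute u (v * y) := by
        refine Commute.mul_right ?_ hyu.symm
        exact Subgroup.commute_of_normal_of_disjoint U V inferInstance hVn (disjoint_iff.mpr (le_bot_iff.mp hUV)) u v hu hv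
      have hn : u ^ orderOf y * (v * y) ^ orderOf y = 1 := by
        rw [← hcu.mul_pow, ← e, conj_pow, pow_orderOf_eq_one]; group
      have hvy : (v * y) ^ orderOf y ∈ V := by
        rw [← QuotientGroup.eq_one_iff, QuotientGroup.mk_pow, QuotientGroup.mk_mul,
          (QuotientGroup.eq_one_iff (N := V) v).mpr hv, one_mul, ← QuotientGroup.mk_pow, pow_orderOf_eq_one, QuotientGroup.mk_one]
      have huV : u ^ orderOf y ∈ V := by rw [eq_inv_of_mul_eq_one_left hn]; exact inv_mem hvy
      have h1 : u ^ orderOf y = 1 := Subgroup.mem_bot.mp (hUV (Subgroup.mem_inf.mpr ⟨pow_mem hu _, huV⟩))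
      obtain ⟨k, hk⟩ := IsPGroup.iff_orderOf.mp (Cfsg.Agent.Cores.pCore_isPGroup (G := G) r) ⟨u, hu⟩
      rw [Subgroup.orderOf_mk] at hk
      exact orderOf_eq_one_iff.mp (Nat.eq_one_of_dvd_coprimes
        (Nat.Coprime.pow_left k (hyt r Fact.out hrs).symm) hk.dvd (orderOf_dvd_of_pow_eq_one h1))
    rw [hu1, one_mul] at huv
    have hcx : Commute c x := Subgroup.mem_centralizer_singleton_iff.mp (hxV (huv ▸ hv))
    -- hence conjugation by `y` multiplies `x` by `c`
    have e : y * x * y⁻¹ = c⁻¹ * x := by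
      rw [hc]; group
    have hpow : c⁻¹ ^ orderOf x = 1 := by
      have h1 : (c⁻¹ * x) ^ orderOf x = 1 := by rw [← e, conj_pow, pow_orderOf_eq_one]; group
      rwa [hcx.inv_left.mul_pow, pow_orderOf_eq_one, mul_one] at h1
    -- and symmetrically `c` has order prime to `r`
    have hn : (orderOf c).Coprime r := by
      have hVcop : (Nat.card V).Coprime r :=
        Nat.Coprime.coprime_dvd_left (Subgroup.card_dvd_of_le hVle) (Cfsg.Agent.Cores.pPrimeCore_card_coprime r)
      have h4 := orderOf_dvd_natCard (⟨c, huv ▸ hv⟩ : V)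
      rw [Subgroup.orderOf_mk] at h4
      exact hVcop.coprime_dvd_left h4
    rw [inv_pow, inv_eq_one] at hpow
    have hc1 : c = 1 := orderOf_eq_one_iff.mp
      (Nat.eq_one_of_dvd_coprimes (Nat.Coprime.pow_right i hn) dvd_rfl (hi ▸ orderOf_dvd_of_pow_eq_one hpow))
    rw [hc, mul_inv_eq_one, mul_inv_eq_iff_eq_mul] at hc1
    exact hc1
  -- every Sylow subgroup of `C` is normal
  refine ((Group.isNilpotent_of_finite_tfae (G := C)).out 0 3 rfl rfl).mpr ?_
  intro r _ P
  rw [← Subgroup.normalizer_eq_top_iff]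
  refine Cfsg.Agent.Cores.eq_top_of_sylow_le fun s hs _ => ?_
  haveI : Fact s.Prime := ⟨hs⟩
  by_cases hrs : r = s
  · subst hrs; exact ⟨P, Subgroup.le_normalizer⟩
  obtain ⟨Q⟩ : Nonempty (Sylow s C) := inferInstance
  refine ⟨Q, fun y hy => ?_⟩
  have hP : ∀ p ∈ (P : Subgroup C), y * p = p * y := by
    intro p hp
    obtain ⟨i, hi⟩ := IsPGroup.iff_orderOf.mp P.isPGroup' ⟨p, hp⟩
    obtain ⟨j, hj⟩ := IsPGroup.iff_orderOf.mp Q.isPGroup' ⟨y, hy⟩
    rw [Subgroup.orderOf_mk] at hi hj
    exact Subtype.ext (hcomm s r (Ne.symm hrs) y p y.2 p.2 ⟨j, by rw [Subgroup.orderOf_coe]; exact hj⟩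
      ⟨i, by rw [Subgroup.orderOf_coe]; exact hi⟩)
  exact Subgroup.centralizer_le_normalizer (P : Subgroup C) (Subgroup.mem_centralizer_iff.mpr fun p hp => (hP p hp).symm)

end Cfsg.Agent.S3785
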