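import Cfsg.Statements.S3787
import Mathlib
import Cfsg.Agent.GenA.HallHigmanReduction
import Cfsg.Agent.GenA.WreathSection
import Cfsg.Agent.S3784

set_option autoImplicit false
open Cfsg
open scoped commutatorElement

namespace Cfsg.Agent.S3787

/-- Let G be a finite p-soluble group, p an odd prime not of the form 2^k + 1, and suppose the wreath product C_p ≀ C_p (of order p^(p+1)) is not involved in a Sylow p-subgroup of G: no section of a Sylow p-subgroup is isomorphic to it. Then G has p-length at most 1. -/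
theorem result {G : Type*} [Group G] [Finite G] {p : ℕ} [Fact p.Prime] (hp2 : p ≠ 2) (hnf : (¬ ∃ k : ℕ, p = 2 ^ k + 1)) (hG : Cfsg.IsPSolvable p G) (P : Sylow p G) (hwr : ∀ (W : Type) [Group W] [Finite W], (∃ (B : Subgroup W) (t : W), B.Normal ∧ IsMulCommutative B ∧ (∀ b ∈ B, b ^ p = 1) ∧ Nat.card B = p ^ p ∧ orderOf t = p ∧ t ∉ B ∧ Nat.card W = p ^ (p + 1) ∧ Nat.card ↥(B ⊓ Subgroup.centralizer ({t} : Set W)) = p) → ¬ Cfsg.Involves W ↥(P : Subgroup G)) : Cfsg.PLengthLE p 1 G := by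
  classical
  have hpp : p.Prime := Fact.out
  rw [OddLocal.pLengthLE_one_iff, Nat.coprime_comm, hpp.coprime_iff_not_dvd]
  have hex : ¬ GenA.HallHigmanReduction.Exceptional p G := by
    rintro ⟨q, n₀, k, hq, h1, h2, h3, -⟩
    have h4 : p ^ n₀ = q ^ k + 1 := by
      have := Nat.one_le_pow n₀ p hpp.pos
      omega
    rcases S3784.result p q n₀ k hpp hq h1 h2 h4 with ⟨hp, -⟩ | ⟨-, -, -, hp⟩ | ⟨h9, -⟩
    · exact hp2 hp
    · exact hnf ⟨k, hp⟩
    · have : p ∣ 3 := hpp.dvd_of_dvd_pow (show p ∣ 3 ^ 2 by rw [show (3 : ℕ) ^ 2 = 9 from rfl, ← h9]; exact dvd_pow_self p (by omega))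
      exact hnf ⟨1, by rw [(Nat.prime_dvd_prime_iff_eq hpp Nat.prime_three).mp this]; norm_num⟩
  have hP : (P : Subgroup G) ≤ pPrimePCore p G := by
    intro x hx
    by_contra hxU
    obtain ⟨k, hk⟩ : ∃ k, x ^ p ^ k ∈ pPrimePCore p G := by
      obtain ⟨k, hk⟩ := P.2 ⟨x, hx⟩
      exact ⟨k, by rw [show x ^ p ^ k = 1 from congrArg Subtype.val hk]; exact one_mem _⟩
    have hexk : ∃ k, x ^ p ^ k ∈ pPrimePCore p G := ⟨k, hk⟩
    obtain ⟨m, hm⟩ : ∃ m, Nat.find hexk = m + 1 := ⟨Nat.find hexk - 1, by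
      have h0 : Nat.find hexk ≠ 0 := fun h0 => hxU (by
        have := Nat.find_spec hexk; rw [h0, pow_zero, pow_one] at this; exact this)
      omega⟩
    have hy : x ^ p ^ m ∉ pPrimePCore p G := Nat.find_min hexk (by omega)
    have hy' : (x ^ p ^ m) ^ p ∈ pPrimePCore p G := by
      have := Nat.find_spec hexk
      rwa [hm, pow_succ, pow_mul] at this
    refine GenA.HallHigmanReduction.reduction hG fun M _ _ φ hφ hM V _ hV hVc hcore hmem => ?_
    set g := φ (x ^ p ^ m) with hg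
    have hgV : g ∉ V := fun h => hy ((hmem _).mp h)
    have hgp : g ^ p ∈ V := by rw [hg, ← map_pow]; exact (hmem _).mpr hy'
    rcases GenA.HallHigmanReduction.exists_pow_ne hM V hV hVc hcore g (m := 1) le_rfl (by rwa [pow_one])
      (by simpa using hgV) with ⟨v, hv, hne⟩ | h
    · rw [pow_one] at hne
      obtain ⟨W, iW, iF, hW, hinv⟩ := GenA.WreathSection.exists_section V hV ((P : Subgroup G).map φ)
        (hcore ▸ PLocal.Cores.pCore_le_sylow (P.mapSurjective hφ)) g ⟨_, pow_mem hx _, rfl⟩ hgV hgp hv hne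
      exact hwr W hW (Fusion.LocalModels.involves_of_surjective (φ.subgroupMap (P : Subgroup G))
        (φ.subgroupMap_surjective _) hinv)
    · exact hex (h.of_surjective hφ)
  exact fun hd => P.not_dvd_index (hd.trans (Subgroup.index_dvd_of_le hP))

end Cfsg.Agent.S3787
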