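import Cfsg.Statements.S3788
import Mathlib
import Cfsg.Agent.GenA.CyclicNormal
import Cfsg.Agent.Lib.PLocal.Quadratic
import Cfsg.Agent.Lib.Coprime.Commutator

set_option autoImplicit false
open Cfsg
open scoped commutatorElement

namespace Cfsg.Agent.S3788
open Subgroup in
theorem main {M : Type*} [Group M] [Finite M] {p : ℕ} [Fact p.Prime] (hsol : Cfsg.IsPSolvable p M)
    (hO : pPrimeCore p M = ⊥) (P : Sylow p M) (A : Subgroup M) (hAP : A ≤ (P : Subgroup M))
    (hAn : (P : Subgroup M) ≤ normalizer (A : Set M)) (hA : IsCyclic A)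
    (h : p ≠ 2 ∨ ¬ Cfsg.Involves (Equiv.Perm (Fin 4)) M) : A ≤ pCore p M := by
  classical
  have hpp : p.Prime := Fact.out
  obtain ⟨a, rfl⟩ : ∃ a, A = zpowers a := by
    obtain ⟨g, hg⟩ := (Subgroup.isCyclic_iff_exists_zpowers_eq_top A).mp hA
    exact ⟨g, hg.symm⟩
  set Q := pCore p M with hQd
  rw [zpowers_le]
  by_contra haQ
  have haP : a ∈ (P : Subgroup M) := hAP (mem_zpowers a)
  obtain ⟨k, hk⟩ : ∃ k, a ^ p ^ k ∈ Q := by
    obtain ⟨k, hk⟩ := P.2 ⟨a, haP⟩
    exact ⟨k, by rw [show a ^ p ^ k = 1 from congrArg Subtype.val hk]; exact one_mem _⟩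
  have hex : ∃ k, a ^ p ^ k ∈ Q := ⟨k, hk⟩
  obtain ⟨m, hm⟩ : ∃ m, Nat.find hex = m + 1 := ⟨Nat.find hex - 1, by
    have h0 : Nat.find hex ≠ 0 := fun h0 => haQ (by
      have := Nat.find_spec hex; rw [h0, pow_zero, pow_one] at this; exact this)
    omega⟩
  set a₁ := a ^ p ^ m with ha₁
  have ha₁Q : a₁ ∉ Q := Nat.find_min hex (by omega)
  have ha₁p : a₁ ^ p ∈ Q := by
    have := Nat.find_spec hex
    rwa [hm, pow_succ, pow_mul] at this
  have ha₁n : (P : Subgroup M) ≤ normalizer (zpowers a₁ : Set M) := by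
    intro g hg
    refine PLocal.GlaubermanReplacement.mem_normalizer_of_conj_mem ?_
    rintro _ ⟨j, rfl⟩
    obtain ⟨i, hi⟩ := (mem_normalizer_iff.mp (hAn hg) a).mp (mem_zpowers a)
    refine ⟨i * j, ?_⟩
    show a₁ ^ (i * j) = g * a₁ ^ j * g⁻¹
    rw [← conj_zpow, ha₁, ← conj_pow, ← (show a ^ i = g * a * g⁻¹ from hi), ← zpow_natCast, ← zpow_natCast,
      ← zpow_mul, ← zpow_mul, ← zpow_mul]
    ring_nf
  have hQp : IsPGroup p Q := PLocal.Cores.isPGroup_pCore
  set F := (frattini Q).map Q.subtype with hF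
  have hFQ : F ≤ Q := map_subtype_le _
  set f := QuotientGroup.mk' F with hfd
  have hfs : Function.Surjective f := QuotientGroup.mk'_surjective F
  have hker : f.ker = F := QuotientGroup.ker_mk' F
  set V := Q.map f with hVd
  haveI : V.Normal := Subgroup.Normal.map inferInstance f hfs
  have hV : IsElementaryAbelian p V := PLocal.Quadratic.frattini_quotient_elementary hQp
  have hVcore : pCore p (M ⧸ F) = V :=
    (PLocal.Cores.map_pCore_of_ker_isPGroup hfs (by rw [hker]; exact hQp.to_le hFQ)).symm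
  have hVc : centralizer (V : Set (M ⧸ F)) = V := by
    refine le_antisymm ?_ fun v hv => mem_centralizer_iff.mpr fun u hu => congrArg Subtype.val (hV.1.is_comm.comm (⟨u, hu⟩ : V) ⟨v, hv⟩)
    set C := (centralizer (V : Set (M ⧸ F))).comap f with hC
    have hCp : IsPGroup p C := by
      refine IsPGroup.of_card (n := (Nat.card C).primeFactorsList.length)
        (Nat.eq_prime_pow_of_unique_prime_dvd Nat.card_pos.ne' fun {r} hr hrd => ?_)
      by_contra hrp
      haveI : Fact r.Prime := ⟨hr⟩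
      obtain ⟨y, hy⟩ := exists_prime_orderOf_dvd_card' (p := r) hrd
      have hyo : orderOf (y : M) = r := (Subgroup.orderOf_coe y).trans hy
      have hcop : ∀ n, (Nat.card (zpowers (y : M))).Coprime (p ^ n) := fun n => by
        rw [Nat.card_zpowers, hyo]
        exact Nat.Coprime.pow_right n ((Nat.coprime_primes hr hpp).mpr hrp)
      have hle : zpowers (y : M) ≤ centralizer (Q : Set M) := by
        obtain ⟨n, hn⟩ := (hQp.to_subgroup (frattini Q)).exists_card_eq
        refine Coprime.le_centralizer_of_frattini (K := Q) le_normalizer_of_normal (by rw [hn]; exact hcop n) ?_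
        intro z hz q hq
        have hzC : f z ∈ centralizer (V : Set (M ⧸ F)) := (zpowers_le.mpr y.2 : zpowers (y : M) ≤ C) hz
        have h1 := mem_centralizer_iff.mp hzC (f q) ⟨q, hq, rfl⟩
        rw [← hF, ← hker, MonoidHom.mem_ker, map_mul, map_mul, map_mul, map_inv, map_inv, ← h1]
        group
      have hyQ : (y : M) ∈ Q := PLocal.PSolvable.centralizer_pCore_le hO (PLocal.PSolvable.subgroup hsol _) (hle (mem_zpowers _))
      obtain ⟨n, hn⟩ := hQp.exists_card_eq
      have h2 : orderOf (y : M) ∣ p ^ n := hn ▸ Subgroup.orderOf_dvd_natCard Q hyQ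
      rw [hyo] at h2
      exact hrp ((Nat.prime_dvd_prime_iff_eq hr hpp).mp (hr.dvd_of_dvd_pow h2))
    intro c hc
    obtain ⟨d, rfl⟩ := hfs c
    exact mem_map_of_mem f (PLocal.Cores.le_pCore hCp (show d ∈ C from hc))
  have hmem : ∀ d, f d ∈ V → d ∈ Q := fun d hd => by
    have : d ∈ (Q.map f).comap f := hd
    rwa [comap_map_eq, hker, sup_eq_left.mpr hFQ] at this
  obtain ⟨hp2, hinv⟩ := GenA.CyclicNormal.core (PLocal.PSolvable.quotient hsol F) V hV hVc hVcore
    (P.mapSurjective hfs) (f a₁) ⟨a₁, pow_mem haP _, rfl⟩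
    (by rw [← MonoidHom.map_zpowers]; exact (map_mono ha₁n).trans (le_normalizer_map f))
    (fun h1 => ha₁Q (hmem _ h1)) ⟨_, ha₁p, map_pow f _ _⟩
  rcases h with h | h
  · exact h hp2
  · exact h (PLocal.S4Section.involves_of_quotient hinv)

/-- Let G be a finite p-soluble group, P a Sylow p-subgroup of G and A a cyclic normal subgroup of P. If p is odd, or if no section of G is isomorphic to the symmetric group of degree 4, then A ≤ O_{p',p}(G). -/
theorem result {G : Type*} [Group G] [Finite G] {p : ℕ} [Fact p.Prime] (hG : Cfsg.IsPSolvable p G) (P : Sylow p G) (A : Subgroup G) (hAP : A ≤ (P : Subgroup G)) (hAn : (P : Subgroup G) ≤ Subgroup.normalizer (A : Set G)) (hA : IsCyclic A) (h : p ≠ 2 ∨ ¬ Cfsg.Involves (Equiv.Perm (Fin 4)) G) : A ≤ Cfsg.pPrimePCore p G := by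
  intro x hx
  show QuotientGroup.mk' (pPrimeCore p G) x ∈ pCore p (G ⧸ pPrimeCore p G)
  set q := QuotientGroup.mk' (pPrimeCore p G)
  have hs : Function.Surjective q := QuotientGroup.mk'_surjective _
  refine main (PLocal.PSolvable.quotient hG _) PLocal.Cores.pPrimeCore_quotient_pPrimeCore (P.mapSurjective hs)
    (A.map q) (Subgroup.map_mono hAP) ((Subgroup.map_mono hAn).trans (Subgroup.le_normalizer_map q)) ?_
    (h.imp_right fun h1 h2 => h1 (PLocal.S4Section.involves_of_quotient h2)) ⟨x, hx, rfl⟩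
  exact isCyclic_of_surjective (q.subgroupMap A) (q.subgroupMap_surjective A)

end Cfsg.Agent.S3788
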