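import Cfsg.Statements.S3790
import Mathlib
import Cfsg.Agent.GenA.UpperPSeries

set_option autoImplicit false
open Cfsg
open scoped commutatorElement

namespace Cfsg.Agent.S3790

/-- Let G be a finite solvable group and p a prime. Suppose p₁, …, p_r are distinct primes, all different from p, that include every prime dividing the order of G other than p, and that G has p_i-length at most l_i for each i. Then G has p-length at most the product of the numbers 1 + l_i. -/
theorem result {G : Type*} [Group G] [Finite G] (hG : Group.IsSolvable G) (p : ℕ) [Fact p.Prime] (r : ℕ) (q : Fin r → ℕ) (hq : ∀ i, (q i).Prime ∧ q i ≠ p) (hinj : Function.Injective q) (hcover : ∀ s : ℕ, s.Prime → s ∣ Nat.card G → s ≠ p → ∃ i, q i = s) (l : Fin r → ℕ) (hl : ∀ i, Cfsg.PLengthLE (q i) (l i) G) : Cfsg.PLengthLE p (Finset.univ.prod fun i => 1 + l i) G := by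
  classical
  have hprod : ((List.ofFn fun i => (q i, l i)).map fun x => 1 + x.2).prod = Finset.univ.prod fun i => 1 + l i := by
    rw [List.map_ofFn, List.prod_ofFn]
    rfl
  have h := Cfsg.Agent.GenA.UpperPSeries.interval_le (p := p) (List.ofFn fun i => (q i, l i))
    (fun x hx => by
      obtain ⟨i, rfl⟩ := List.mem_ofFn.mp hx
      exact ⟨(hq i).1, (hq i).2, hl i⟩)
    (⊥ : Subgroup G) ⊤ inferInstance inferInstance bot_le (fun s hs hd => by
      rw [Subgroup.relIndex_bot_left, Subgroup.card_top] at hd
      by_cases hsp : s = p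
      · exact Or.inl hsp
      · obtain ⟨i, hi⟩ := hcover s hs hd hsp
        exact Or.inr ⟨_, List.mem_ofFn.mpr ⟨i, rfl⟩, hi⟩) 0 bot_le
  rw [zero_add, hprod] at h
  exact top_le_iff.mp h

end Cfsg.Agent.S3790
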