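import Cfsg.Statements.S3793
import Cfsg.Agent.GenA.ShultGross.Group

set_option autoImplicit false
open Cfsg

namespace Cfsg.Agent.S3793

open Cfsg.Agent.GenA.ShultGross Subgroup in
theorem chain_of_fpf.{u} {p : ℕ} [hp : Fact p.Prime] (hp2 : p ≠ 2) : ∀ (n : ℕ) (G : Type u) [Group G] [Finite G],
    Group.IsSolvable G → ∀ σ : MulAut G, σ ^ p ^ n = 1 → (∀ g : G, σ g = g → g = 1) →
    ∃ F : Fin (n + 1) → Subgroup G, F 0 = ⊥ ∧ F (Fin.last n) = ⊤ ∧ Monotone F ∧ (∀ i, (F i).Normal) ∧
      ∀ i : Fin n, ∃ k : ℕ, (F i.succ).lowerCentralSeries k ≤ F i.castSucc := by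
  intro n
  induction n with
  | zero =>
    intro G _ _ _ σ hσ hfpf
    refine ⟨fun _ => ⊥, rfl, ?_, monotone_const, fun _ => inferInstance, fun i => Fin.elim0 i⟩
    refine eq_top_iff.mpr fun g _ => mem_bot.mpr (hfpf g ?_)
    rw [pow_zero, pow_one] at hσ
    rw [hσ, MulAut.one_apply]
  | succ n ih =>
    intro G _ _ hG σ hσ hfpf
    haveI hFc : (fittingSubgroup G).Characteristic := Cores.fittingSubgroup_characteristic
    have hFnil : Group.IsNilpotent (fittingSubgroup G) := Cores.fittingSubgroup_isNilpotent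
    set F := fittingSubgroup G with hF
    set π := QuotientGroup.mk' F with hπ
    let sq : MulAut (G ⧸ F) := QuotientGroup.congr F F σ
      (le_antisymm (by rintro _ ⟨a, ha, rfl⟩; exact map_char σ a ha)
        (fun a ha => ⟨σ.symm a, map_char σ.symm a ha, σ.apply_symm_apply a⟩))
    have hsq : ∀ a : G, sq (π a) = π (σ a) := fun a => rfl
    have hsqk : ∀ (i : ℕ) (a : G), (sq ^ i) (π a) = π ((σ ^ i) a) := by
      intro i
      induction i with
      | zero => intro a; rfl
      | succ i ihi => intro a; rw [pow_succ', MulAut.mul_apply, ihi, hsq, pow_succ' σ, MulAut.mul_apply]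
    have hsq1 : sq ^ p ^ n = 1 := MulEquiv.ext fun u => by
      obtain ⟨g, rfl⟩ := QuotientGroup.mk'_surjective F u
      rw [hsqk, MulAut.one_apply]
      exact (QuotientGroup.eq.mpr (pow_trivial_mod_fitting hp2 hG σ hσ hfpf g)).symm
    have hsqf : ∀ u : G ⧸ F, sq u = u → u = 1 := fun u hu => by
      obtain ⟨g, rfl⟩ := QuotientGroup.mk'_surjective F u
      rw [hsq] at hu
      exact (QuotientGroup.eq_one_iff g).mpr
        (fix_quotient σ hfpf F (map_char σ) (QuotientGroup.eq.mp hu.symm))
    haveI := hG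
    obtain ⟨E, hE0, hEl, hEm, hEn, hEk⟩ := ih (G ⧸ F) inferInstance sq hsq1 hsqf
    refine ⟨Fin.cases ⊥ fun i => (E i).comap π, rfl, ?_, ?_, ?_, ?_⟩
    · beta_reduce
      rw [← Fin.succ_last, Fin.cases_succ, hEl, comap_top]
    · refine Fin.monotone_iff_le_succ.mpr fun i => ?_
      induction i using Fin.cases with
      | zero => exact bot_le
      | succ i =>
        beta_reduce
        rw [Fin.castSucc_succ, Fin.cases_succ, Fin.cases_succ]
        exact comap_mono (hEm (Fin.castSucc_le_succ i))
    · intro i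
      induction i using Fin.cases with
      | zero => beta_reduce; rw [Fin.cases_zero]; infer_instance
      | succ i => beta_reduce; rw [Fin.cases_succ]; exact (hEn i).comap π
    · intro i
      induction i using Fin.cases with
      | zero =>
        obtain ⟨k, hk⟩ := (isNilpotent_iff_lowerCentralSeries F).mp hFnil
        refine ⟨k, ?_⟩
        beta_reduce
        rw [Fin.cases_succ, hE0, MonoidHom.comap_bot, hπ, QuotientGroup.ker_mk', hk]
        exact bot_le
      | succ i =>
        obtain ⟨k, hk⟩ := hEk i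
        refine ⟨k, ?_⟩
        beta_reduce
        rw [Fin.castSucc_succ, Fin.cases_succ, Fin.cases_succ, ← map_le_iff_le_comap,
          map_lowerCentralSeries, map_comap_eq_self_of_surjective (QuotientGroup.mk'_surjective F)]
        exact hk

/-- The Shult–Gross Theorem: let p be an odd prime and G a finite solvable group with an automorphism σ of order p^n fixing only the identity. Then G has Fitting height at most n: G has Fitting height at most m when there is a chain of normal subgroups 1 = F₀ ≤ F₁ ≤ ⋯ ≤ F_m = G with each F_{i+1}/F_i nilpotent. -/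
theorem result {G : Type*} [Group G] [Finite G] (hG : Group.IsSolvable G) {p : ℕ} (hp : p.Prime) (hp2 : p ≠ 2) (σ : MulAut G) (n : ℕ) (hσ : orderOf σ = p ^ n) (hfpf : ∀ g : G, σ g = g → g = 1) : ∃ F : Fin (n + 1) → Subgroup G, F 0 = ⊥ ∧ F (Fin.last n) = ⊤ ∧ Monotone F ∧ (∀ i, (F i).Normal) ∧ ∀ i : Fin n, ∃ k : ℕ, (F i.succ).lowerCentralSeries k ≤ F i.castSucc := by
  haveI := Fact.mk hp
  exact chain_of_fpf hp2 n G hG σ (hσ ▸ pow_orderOf_eq_one σ) hfpf

end Cfsg.Agent.S3793
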