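import Cfsg.Statements.S3795
import Cfsg.Agent.GenA.ShultGross.TwoGroup
import Cfsg.Agent.S3794

set_option autoImplicit false
open Cfsg

namespace Cfsg.Agent.S3795

/-- A chain with nilpotent factors of length `m`. -/
def HasChain.{u} (G : Type u) [Group G] (m : ℕ) : Prop :=
  ∃ F : Fin (m + 1) → Subgroup G, F 0 = ⊥ ∧ F (Fin.last m) = ⊤ ∧ Monotone F ∧ (∀ i, (F i).Normal) ∧
    ∀ i : Fin m, ∃ k : ℕ, (F i.succ).lowerCentralSeries k ≤ F i.castSucc

open Subgroup in
theorem hasChain_succ.{u} {G : Type u} [Group G] [Finite G] [(fittingSubgroup G).Normal] {m : ℕ}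
    (h : HasChain (G ⧸ fittingSubgroup G) m) : HasChain G (m + 1) := by
  have hFnil : Group.IsNilpotent (fittingSubgroup G) := Cores.fittingSubgroup_isNilpotent
  set F := fittingSubgroup G with hF
  set π := QuotientGroup.mk' F with hπ
  obtain ⟨E, hE0, hEl, hEm, hEn, hEk⟩ := h
  refine ⟨Fin.cases ⊥ fun i => (E i).comap π, rfl, ?_, ?_, ?_, ?_⟩
  · beta_reduce
    rw [← Fin.succ_last, Fin.cases_succ, hEl, comap_top]
  · refine Fin.monotone_iff_le_succ.mpr fun i => ?_
    induction i using Fin.cases with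
    | zero => exact bot_le
    | succ i =>
      beta_reduce
      rw [Fin.castSucc_succ, Fin.cases_succ, Fin.cases_succ]
      exact comap_mono (hEm (Fin.castSucc_le_succ i))
  · intro i
    induction i using Fin.cases with
    | zero => beta_reduce; rw [Fin.cases_zero]; infer_instance
    | succ i => beta_reduce; rw [Fin.cases_succ]; exact (hEn i).comap π
  · intro i
    induction i using Fin.cases with
    | zero =>
      obtain ⟨k, hk⟩ := (isNilpotent_iff_lowerCentralSeries F).mp hFnil
      refine ⟨k, ?_⟩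
      beta_reduce
      rw [Fin.cases_succ, hE0, MonoidHom.comap_bot, hπ, QuotientGroup.ker_mk', hk]
      exact bot_le
    | succ i =>
      obtain ⟨k, hk⟩ := hEk i
      refine ⟨k, ?_⟩
      beta_reduce
      rw [Fin.castSucc_succ, Fin.cases_succ, Fin.cases_succ, ← map_le_iff_le_comap,
        map_lowerCentralSeries, map_comap_eq_self_of_surjective (QuotientGroup.mk'_surjective F)]
      exact hk

open Cfsg.Agent.GenA.ShultGross Subgroup in
theorem chain_of_fpf.{u} : ∀ (n : ℕ) (G : Type u) [Group G] [Finite G], Group.IsSolvable G → ∀ σ : MulAut G,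
    σ ^ 2 ^ (n + 2) = 1 → (∀ g : G, σ g = g → g = 1) → HasChain G (2 * n + 2) := by
  intro n
  induction n with
  | zero =>
    intro G _ _ hG σ hσ hfpf
    have hnil := Cfsg.Agent.S3794.result hG σ hσ hfpf
    refine ⟨![⊥, _root_.commutator G, ⊤], rfl, rfl, ?_, ?_, ?_⟩
    · refine Fin.monotone_iff_le_succ.mpr fun i => ?_
      fin_cases i
      · exact bot_le
      · exact le_top
    · intro i
      fin_cases i
      · exact (inferInstance : (⊥ : Subgroup G).Normal)
      · exact (inferInstance : (_root_.commutator G).Normal)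
      · exact (inferInstance : (⊤ : Subgroup G).Normal)
    · intro i
      fin_cases i
      · obtain ⟨k, hk⟩ := (isNilpotent_iff_lowerCentralSeries _).mp hnil
        exact ⟨k, hk.le⟩
      · exact ⟨1, le_of_eq (by rw [_root_.commutator_def]; rfl)⟩
  | succ n ih =>
    intro G _ _ hG σ hσ hfpf
    haveI hFc : (fittingSubgroup G).Characteristic := Cores.fittingSubgroup_characteristic
    set F := fittingSubgroup G with hF
    haveI hFc2 : (fittingSubgroup (G ⧸ F)).Characteristic := Cores.fittingSubgroup_characteristic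
    set F' := fittingSubgroup (G ⧸ F) with hF'
    set π := QuotientGroup.mk' F with hπ
    set π' := QuotientGroup.mk' F' with hπ'
    let sq : MulAut (G ⧸ F) := QuotientGroup.congr F F σ
      (le_antisymm (by rintro _ ⟨a, ha, rfl⟩; exact map_char σ a ha)
        (fun a ha => ⟨σ.symm a, map_char σ.symm a ha, σ.apply_symm_apply a⟩))
    have hsq : ∀ a : G, sq (π a) = π (σ a) := fun a => rfl
    let sq' : MulAut ((G ⧸ F) ⧸ F') := QuotientGroup.congr F' F' sq
      (le_antisymm (by rintro _ ⟨a, ha, rfl⟩; exact map_char sq a ha)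
        (fun a ha => ⟨sq.symm a, map_char sq.symm a ha, sq.apply_symm_apply a⟩))
    have hsq'k : ∀ (i : ℕ) (a : G), (sq' ^ i) (π' (π a)) = π' (π ((σ ^ i) a)) := by
      intro i
      induction i with
      | zero => intro a; rfl
      | succ i ihi =>
        intro a
        rw [pow_succ', MulAut.mul_apply, ihi, pow_succ' σ, MulAut.mul_apply]
        rfl
    have hsqf : ∀ u : G ⧸ F, sq u = u → u = 1 := fun u hu => by
      obtain ⟨g, rfl⟩ := QuotientGroup.mk'_surjective F u
      rw [hsq] at hu
      exact (QuotientGroup.eq_one_iff g).mpr (fix_quotient σ hfpf F (map_char σ) (QuotientGroup.eq.mp hu.symm))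
    have hsq1 : sq' ^ 2 ^ (n + 2) = 1 := MulEquiv.ext fun u => by
      obtain ⟨u, rfl⟩ := QuotientGroup.mk'_surjective F' u
      obtain ⟨g, rfl⟩ := QuotientGroup.mk'_surjective F u
      rw [hsq'k, MulAut.one_apply]
      exact (QuotientGroup.eq.mpr (Two.pow_trivial_mod_second_fitting hG σ hσ hfpf g)).symm
    have hsqf' : ∀ u : (G ⧸ F) ⧸ F', sq' u = u → u = 1 := fun u hu => by
      obtain ⟨g, rfl⟩ := QuotientGroup.mk'_surjective F' u
      exact (QuotientGroup.eq_one_iff g).mpr
        (fix_quotient sq hsqf F' (map_char sq) (QuotientGroup.eq.mp hu.symm))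
    haveI := hG
    haveI : Group.IsSolvable (G ⧸ F) := inferInstance
    exact hasChain_succ (hasChain_succ (ih ((G ⧸ F) ⧸ F') inferInstance sq' hsq1 hsqf'))

/-- Gross's Theorem: let G be a finite solvable group with an automorphism σ of order 2^n, n > 1, fixing only the identity. Then G has Fitting height at most 2n − 2: G has Fitting height at most m when there is a chain of normal subgroups 1 = F₀ ≤ F₁ ≤ ⋯ ≤ F_m = G with each F_{i+1}/F_i nilpotent. -/
theorem result {G : Type*} [Group G] [Finite G] (hG : Group.IsSolvable G) (σ : MulAut G) (n : ℕ) (hn : 1 < n) (hσ : orderOf σ = 2 ^ n) (hfpf : ∀ g : G, σ g = g → g = 1) : ∃ F : Fin ((2 * n - 2) + 1) → Subgroup G, F 0 = ⊥ ∧ F (Fin.last (2 * n - 2)) = ⊤ ∧ Monotone F ∧ (∀ i, (F i).Normal) ∧ ∀ i : Fin (2 * n - 2), ∃ k : ℕ, (F i.succ).lowerCentralSeries k ≤ F i.castSucc := by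
  obtain ⟨m, rfl⟩ : ∃ m, n = m + 2 := ⟨n - 2, by omega⟩
  have h := chain_of_fpf m G hG σ (hσ ▸ pow_orderOf_eq_one σ) hfpf
  have e : 2 * (m + 2) - 2 = 2 * m + 2 := by omega
  rw [HasChain, ← e] at h
  exact h

end Cfsg.Agent.S3795
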