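import Cfsg.Statements.S3796
import Mathlib
import Cfsg.Agent.GenA.WardMain

set_option autoImplicit false
open Cfsg
open scoped commutatorElement

namespace Cfsg.Agent.S3796
open Subgroup in
theorem quotient_nilpotent {G : Type*} [Group G] [Finite G] (hG : Group.IsSolvable G) {p : ℕ} (hp : p.Prime)
    (A : Subgroup (MulAut G)) (hA : Cfsg.IsElementaryAbelian p A) (hcard : Nat.card A = p ^ 2)
    (hfpf : ∀ g : G, (∀ a ∈ A, a g = g) → g = 1) :
    ∃ k : ℕ, (⊤ : Subgroup G).lowerCentralSeries k ≤ Cfsg.fittingSubgroup G := by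
  classical
  haveI := Fact.mk hp
  let φ : ↥A →* MulAut G := A.subtype
  let Γ := G ⋊[φ] ↥A
  haveI : Finite Γ := Finite.of_equiv _ SemidirectProduct.equivProd.symm
  let ι : G →* Γ := SemidirectProduct.inl
  let κ : ↥A →* Γ := SemidirectProduct.inr
  have hconj : ∀ (a : A) (g : G), κ a * ι g * (κ a)⁻¹ = ι ((a : MulAut G) g) := fun a g => by
    rw [← map_inv]
    exact (SemidirectProduct.inl_aut (φ := φ) a g).symm
  haveI hNn : ι.range.Normal := by
    rw [show ι.range = (SemidirectProduct.rightHom : Γ →* A).ker from SemidirectProduct.range_inl_eq_ker_rightHom]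
    infer_instance
  have hι : Function.Injective ι := SemidirectProduct.inl_injective
  have hκ : Function.Injective κ := SemidirectProduct.inr_injective
  have hcN : Nat.card ι.range = Nat.card G := (Nat.card_congr (MonoidHom.ofInjective hι).toEquiv).symm
  have hcop : (Nat.card G).Coprime p := by
    letI : MulAction (↥A) G := MulAction.compHom G φ
    have hAp : IsPGroup p A := IsPGroup.of_card (n := 2) hcard
    have h1 := hAp.card_modEq_card_fixedPoints G
    have h2 : MulAction.fixedPoints (↥A) G = {1} := by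
      ext g
      simp only [MulAction.mem_fixedPoints, Set.mem_singleton_iff]
      exact ⟨fun h => hfpf g fun a ha => h ⟨a, ha⟩, fun h a => by subst h; exact map_one (φ a)⟩
    rw [h2] at h1
    rw [Nat.coprime_comm, hp.coprime_iff_not_dvd]
    intro hd
    have h3 : p ∣ Nat.card ({1} : Set G) := (Nat.ModEq.dvd_iff h1 (dvd_refl p)).mp hd
    rw [Nat.card_unique] at h3
    exact hp.not_dvd_one h3
  have hS : GenA.Ward.Setup p κ.range ι.range := by
    refine ⟨hp, ⟨⟨⟨?_⟩⟩, ?_⟩, ?_, le_normalizer_of_normal, by rwa [hcN], ?_⟩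
    · rintro ⟨_, a, rfl⟩ ⟨_, b, rfl⟩
      refine Subtype.ext ?_
      show κ a * κ b = κ b * κ a
      rw [← map_mul, ← map_mul, hA.1.is_comm.comm]
    · rintro _ ⟨a, rfl⟩
      rw [← map_pow, show a ^ p = 1 from Subtype.ext (hA.2 a a.2), map_one]
    · rw [← hcard]; exact (Nat.card_congr (MonoidHom.ofInjective hκ).toEquiv).symm
    · refine le_bot_iff.mp ?_
      rintro _ ⟨⟨g, rfl⟩, hc⟩
      rw [mem_bot, hfpf g fun a ha => hι (by
        rw [← hconj ⟨a, ha⟩ g, mem_centralizer_iff.mp hc (κ ⟨a, ha⟩) ⟨_, rfl⟩, mul_inv_cancel_right]), map_one]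
  have hN := GenA.Ward.ward hS (haveI := hG; solvable_of_surjective ι.rangeRestrict_surjective)
  let e : G ≃* ι.range := MonoidHom.ofInjective hι
  let f : G →* ↥(ι.range.map (QuotientGroup.mk' (GenA.Ward.fit ι.range))) :=
    ((QuotientGroup.mk' (GenA.Ward.fit ι.range)).subgroupMap ι.range).comp e.toMonoidHom
  have hf : f.ker ≤ Cfsg.fittingSubgroup G := by
    intro g hg
    have h1 : ι g ∈ GenA.Ward.fit ι.range := (QuotientGroup.eq_one_iff _).mp (congrArg Subtype.val hg)
    obtain ⟨y, hy, hye⟩ := h1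
    have h2 : e g = y := Subtype.ext hye.symm
    rw [← Cores.map_fittingSubgroup_eq e.symm]
    exact ⟨y, hy, by rw [← h2]; exact e.symm_apply_apply g⟩
  obtain ⟨k, hk⟩ := Subgroup.nilpotent_iff_lowerCentralSeries.mp hN
  refine ⟨k, le_trans ?_ hf⟩
  intro x hx
  have h1 : f x ∈ (⊤ : Subgroup ↥(ι.range.map (QuotientGroup.mk' (GenA.Ward.fit ι.range)))).lowerCentralSeries k :=
    (Subgroup.lowerCentralSeries.map f k) (mem_map_of_mem f hx)
  rw [hk] at h1
  exact h1

/-- Ward's Theorem: let G be a finite solvable group and A an elementary abelian group of automorphisms of G of order p² (p a prime) with no non-identity common fixed point. Then G has Fitting height at most 2: G has Fitting height at most m when there is a chain of normal subgroups 1 = F₀ ≤ F₁ ≤ ⋯ ≤ F_m = G with each F_{i+1}/F_i nilpotent. -/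
theorem result {G : Type*} [Group G] [Finite G] (hG : Group.IsSolvable G) {p : ℕ} (hp : p.Prime) (A : Subgroup (MulAut G)) (hA : Cfsg.IsElementaryAbelian p A) (hcard : Nat.card A = p ^ 2) (hfpf : ∀ g : G, (∀ a ∈ A, a g = g) → g = 1) : ∃ F : Fin (2 + 1) → Subgroup G, F 0 = ⊥ ∧ F (Fin.last 2) = ⊤ ∧ Monotone F ∧ (∀ i, (F i).Normal) ∧ ∀ i : Fin 2, ∃ k : ℕ, (F i.succ).lowerCentralSeries k ≤ F i.castSucc := by
  classical
  obtain ⟨k₁, hk₁⟩ := quotient_nilpotent hG hp A hA hcard hfpf
  have hF : Group.IsNilpotent (Cfsg.fittingSubgroup G) := Cores.fittingSubgroup_isNilpotent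
  refine ⟨![⊥, Cfsg.fittingSubgroup G, ⊤], rfl, rfl, ?_, ?_, ?_⟩
  · intro i j hij
    fin_cases i <;> fin_cases j <;> simp_all
  · intro i
    fin_cases i
    · exact inferInstanceAs (⊥ : Subgroup G).Normal
    · exact inferInstanceAs (Cfsg.fittingSubgroup G).Normal
    · exact inferInstanceAs (⊤ : Subgroup G).Normal
  · intro i
    fin_cases i
    · obtain ⟨k, hk⟩ := (Subgroup.isNilpotent_iff_lowerCentralSeries _).mp hF
      exact ⟨k, le_of_eq hk⟩
    · exact ⟨k₁, hk₁⟩

end Cfsg.Agent.S3796
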