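import Cfsg.Statements.S3797
import Cfsg.Agent.GenA.OneClass.Main
import Cfsg.Agent.OddLocal.PLength

set_option autoImplicit false
open Cfsg Subgroup

namespace Cfsg.Agent.S3797

open Cfsg.Agent in
/-- An abelian 2-group whose involutions are permuted transitively by automorphisms is homocyclic. -/
theorem homocyclic {S : Type*} [CommGroup S] [Finite S] (hS : IsPGroup 2 S)
    (htr : ∀ x y : S, x ≠ 1 → x ^ 2 = 1 → y ≠ 1 → y ^ 2 = 1 → ∃ a : MulAut S, a x = y) :
    ∃ m r : ℕ, Nonempty (S ≃* (Fin r → Multiplicative (ZMod (2 ^ m)))) := by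
  classical
  obtain ⟨ι, _, n, hn1, ⟨e⟩⟩ := CommGroup.equiv_prod_multiplicative_zmod_of_finite S
  obtain ⟨N, hN⟩ := hS.exists_card_eq
  have hpow : ∀ i, ∃ a, n i = 2 ^ (a + 1) := by
    intro i
    have hd : n i ∣ 2 ^ N := by
      rw [← hN, Nat.card_congr e.toEquiv, Nat.card_pi]
      refine dvd_trans (dvd_of_eq ?_) (Finset.dvd_prod_of_mem _ (Finset.mem_univ i))
      show n i = Nat.card (ZMod (n i))
      rw [Nat.card_zmod]
    obtain ⟨a, -, ha⟩ := (Nat.dvd_prime_pow Nat.prime_two).mp hd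
    rcases a with _ | a
    · exact absurd (hn1 i) (by rw [ha]; norm_num)
    · exact ⟨a, ha⟩
  choose a ha using hpow
  let t : ι → S := fun i => e.symm (Pi.mulSingle i (Multiplicative.ofAdd ((2 ^ a i : ℕ) : ZMod (n i))))
  have ht1 : ∀ i, (e (t i)) i ≠ 1 := by
    intro i h
    simp only [t, MulEquiv.apply_symm_apply, Pi.mulSingle_eq_same] at h
    have h' := (ZMod.natCast_eq_zero_iff (2 ^ a i) (n i)).mp (ofAdd_eq_one.mp h)
    rw [ha i] at h'
    have := Nat.le_of_dvd (Nat.two_pow_pos _) h'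
    rw [pow_succ] at this
    have := Nat.two_pow_pos (a i)
    omega
  have ht0 : ∀ i, t i ≠ 1 := fun i h => ht1 i (by rw [h, map_one]; rfl)
  have ht2 : ∀ i, t i ^ 2 = 1 := by
    intro i
    rw [← map_pow, ← Pi.mulSingle_pow, ← ofAdd_nsmul, nsmul_eq_mul, ← Nat.cast_mul, mul_comm 2, ← pow_succ,
      ← ha i, ZMod.natCast_self, ofAdd_zero, Pi.mulSingle_one, map_one]
  have hle : ∀ i j, a i ≤ a j := by
    intro i j
    by_contra hlt
    obtain ⟨σ, hσ⟩ := htr (t i) (t j) (ht0 i) (ht2 i) (ht0 j) (ht2 j)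
    set u := e.symm (Pi.mulSingle i (Multiplicative.ofAdd (1 : ZMod (n i))))
    have hu : t i = u ^ 2 ^ a i := by
      rw [← map_pow, ← Pi.mulSingle_pow, ← ofAdd_nsmul, nsmul_eq_mul, mul_one]
    refine ht1 j ?_
    rw [← hσ, hu, map_pow, map_pow, Pi.pow_apply]
    obtain ⟨k, hk⟩ := Nat.exists_eq_add_of_lt (not_le.mp hlt)
    rw [hk, show a j + k + 1 = (a j + 1) + k by omega, pow_add, pow_mul, ← ha j]
    have : ∀ z : Multiplicative (ZMod (n j)), z ^ n j = 1 := fun z => by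
      refine Multiplicative.toAdd.injective ?_
      rw [toAdd_pow, toAdd_one, nsmul_eq_mul, ZMod.natCast_self, zero_mul]
    rw [this, one_pow]
  rcases isEmpty_or_nonempty ι with hι | ⟨⟨i₀⟩⟩
  · exact ⟨0, Fintype.card ι, ⟨e.trans ((MulEquiv.piCongrRight fun i => (hι.false i).elim).trans
      (MulEquiv.arrowCongr (Fintype.equivFin ι) (MulEquiv.refl _)))⟩⟩
  · exact ⟨a i₀ + 1, Fintype.card ι, ⟨e.trans ((MulEquiv.piCongrRight fun i => AddEquiv.toMultiplicative
      (ZMod.ringEquivCongr (by rw [ha i, le_antisymm (hle i i₀) (hle i₀ i)])).toAddEquiv).trans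
      (MulEquiv.arrowCongr (Fintype.equivFin ι) (MulEquiv.refl _)))⟩⟩

open Cfsg.Agent in
theorem result {G : Type*} [Group G] [Finite G] (hG : Group.IsSolvable G) (heven : Even (Nat.card G)) (S : Sylow 2 G) (htwo : ∃ x y : G, x ∈ (S : Subgroup G) ∧ y ∈ (S : Subgroup G) ∧ x ≠ y ∧ x ≠ 1 ∧ x ^ 2 = 1 ∧ y ≠ 1 ∧ y ^ 2 = 1) (hconj : ∀ x y : G, x ≠ 1 → x ^ 2 = 1 → y ≠ 1 → y ^ 2 = 1 → IsConj x y) : Cfsg.PLengthLE 2 1 G ∧ ((∃ m r : ℕ, Nonempty (↥(S : Subgroup G) ≃* (Fin r → Multiplicative (ZMod (2 ^ m))))) ∨ (¬ IsMulCommutative (S : Subgroup G) ∧ ∃ Y : Subgroup (MulAut ↥(S : Subgroup G)), Group.IsSolvable Y ∧ ∀ x y : ↥(S : Subgroup G), x ≠ 1 → x ^ 2 = 1 → y ≠ 1 → y ^ 2 = 1 → ∃ a ∈ Y, a x = y)) := by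
  haveI : Fact (Nat.Prime 2) := ⟨Nat.prime_two⟩
  haveI := hG
  set O := pPrimeCore 2 G with hO
  set π := QuotientGroup.mk' O with hπ
  have hπs : Function.Surjective π := QuotientGroup.mk'_surjective O
  have hOodd : (Nat.card O).Coprime 2 := PLocal.Cores.coprime_card_pPrimeCore
  have hlift : ∀ a : G, a ∉ O → a * a ∈ O → ∃ s : G, π s = π a ∧ s ≠ 1 ∧ s * s = 1 := by
    intro a ha ha2
    obtain ⟨j, m, hm, hjm⟩ := Nat.exists_eq_two_pow_mul_odd (orderOf_pos a).ne'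
    have hs : π (a ^ m) = π a := by
      obtain ⟨l, rfl⟩ := hm
      rw [map_pow, pow_succ, pow_mul, ← map_pow, show π (a ^ 2) = 1 from
        (QuotientGroup.eq_one_iff _).mpr (by rw [pow_two]; exact ha2), one_pow, one_mul]
    refine ⟨a ^ m, hs, fun h => ha ((QuotientGroup.eq_one_iff a).mp ?_), ?_⟩
    · rw [← QuotientGroup.mk'_apply, ← hπ, ← hs, h, map_one]
    · have hmem : a ^ m * a ^ m ∈ O := by
        rw [← pow_add, ← two_mul, pow_mul, pow_two]; exact pow_mem ha2 m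
      have hord : (a ^ m * a ^ m) ^ 2 ^ j = 1 := by
        rw [← pow_add, ← pow_mul, show (m + m) * 2 ^ j = orderOf a * 2 by rw [hjm]; ring, pow_mul,
          pow_orderOf_eq_one, one_pow]
      exact orderOf_eq_one_iff.mp (Nat.eq_one_of_dvd_coprimes (hOodd.pow_right j)
        (Subgroup.orderOf_dvd_natCard O hmem) (orderOf_dvd_of_pow_eq_one hord))
  set f := π.comp (S : Subgroup G).subtype with hf
  have hfi : Function.Injective f := (injective_iff_map_eq_one f).mpr fun x hx => Subtype.ext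
    (mem_bot.mp ((PLocal.Cores.inf_eq_bot_of_isPGroup_of_coprime S.isPGroup' hOodd).le
      ⟨x.2, (QuotientGroup.eq_one_iff _).mp hx⟩))
  have hset : GenA.OneClass.Setting (G ⧸ O) := by
    refine ⟨PLocal.Cores.pPrimeCore_quotient_pPrimeCore, inferInstance, ?_, ?_⟩
    · intro a b ha ha2 hb hb2
      obtain ⟨a, rfl⟩ := hπs a
      obtain ⟨b, rfl⟩ := hπs b
      rw [← map_mul] at ha2 hb2
      obtain ⟨s, hs, hs1, hs2⟩ := hlift a (fun h => ha ((QuotientGroup.eq_one_iff a).mpr h))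
        ((QuotientGroup.eq_one_iff _).mp ha2)
      obtain ⟨t, ht, ht1, ht2⟩ := hlift b (fun h => hb ((QuotientGroup.eq_one_iff b).mpr h))
        ((QuotientGroup.eq_one_iff _).mp hb2)
      obtain ⟨g, hg⟩ := isConj_iff.mp (hconj s t hs1 (by rw [pow_two]; exact hs2) ht1 (by rw [pow_two]; exact ht2))
      exact ⟨π g, by rw [← hs, ← ht, ← map_inv, ← map_mul, ← map_mul, hg]⟩
    · obtain ⟨x, y, hx, hy, hxy, hx1, hx2, hy1, hy2⟩ := htwo
      rw [pow_two] at hx2 hy2
      refine ⟨f ⟨x, hx⟩, f ⟨y, hy⟩, fun h => hxy (congrArg Subtype.val (hfi h)),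
        fun h => hx1 (congrArg Subtype.val (hfi (h.trans (map_one f).symm))), ?_,
        fun h => hy1 (congrArg Subtype.val (hfi (h.trans (map_one f).symm))), ?_⟩
      · rw [← map_mul, show (⟨x, hx⟩ : (S : Subgroup G)) * ⟨x, hx⟩ = 1 from Subtype.ext hx2, map_one]
      · rw [← map_mul, show (⟨y, hy⟩ : (S : Subgroup G)) * ⟨y, hy⟩ = 1 from Subtype.ext hy2, map_one]
  have hidx := GenA.OneClass.not_dvd_index _ _ rfl hset
  refine ⟨?_, ?_⟩
  · rw [OddLocal.pLengthLE_one_iff]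
    unfold pPrimePCore
    rw [index_comap_of_surjective _ hπs]
    exact GenA.OneClass.coprime_two hidx
  have hrange : f.range = pCore 2 (G ⧸ O) := by
    rw [hf, MonoidHom.range_comp, range_subtype]
    refine le_antisymm ?_ ((PLocal.Cores.pCore_le_sylow (S.mapSurjective hπs)).trans (le_of_eq rfl))
    rw [← relIndex_eq_one]
    obtain ⟨i, hi⟩ := (S.isPGroup'.map π).exists_card_eq
    exact Nat.eq_one_of_dvd_coprimes ((GenA.OneClass.coprime_two hidx).pow_right i).symm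
      (hi ▸ relIndex_dvd_card _ _) (relIndex_dvd_index_of_normal _ _)
  set e : (S : Subgroup G) ≃* pCore 2 (G ⧸ O) :=
    (MonoidHom.ofInjective hfi).trans (MulEquiv.subgroupCongr hrange) with he
  have hev : ∀ x, ((e x : pCore 2 (G ⧸ O)) : G ⧸ O) = π x := fun x => rfl
  let Φ : G ⧸ O →* MulAut (S : Subgroup G) :=
    (MulAut.congr e.symm).toMonoidHom.comp (MulAut.conjNormal (H := pCore 2 (G ⧸ O)))
  have htr : ∀ x y : (S : Subgroup G), x ≠ 1 → x ^ 2 = 1 → y ≠ 1 → y ^ 2 = 1 → ∃ a ∈ Φ.range, a x = y := by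
    intro x y hx1 hx2 hy1 hy2
    obtain ⟨g, hg⟩ := isConj_iff.mp (hconj x y (fun h => hx1 (Subtype.ext h))
      (congrArg Subtype.val hx2) (fun h => hy1 (Subtype.ext h)) (congrArg Subtype.val hy2))
    refine ⟨Φ (π g), ⟨_, rfl⟩, ?_⟩
    show e.symm (MulAut.conjNormal (π g) (e x)) = y
    rw [MulEquiv.symm_apply_eq]
    refine Subtype.ext ?_
    rw [MulAut.conjNormal_apply, hev, hev, ← map_inv, ← map_mul, ← map_mul, hg]
  by_cases hab : IsMulCommutative (S : Subgroup G)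
  · left
    letI : CommGroup (S : Subgroup G) :=
      { (inferInstance : Group (S : Subgroup G)) with mul_comm := fun a b => hab.is_comm.comm a b }
    exact homocyclic S.isPGroup' fun x y a b c d => (htr x y a b c d).imp fun _ h => h.2
  · refine Or.inr ⟨hab, Φ.range, ?_, htr⟩
    haveI : Group.IsSolvable (G ⧸ O) := inferInstance
    exact solvable_of_surjective Φ.rangeRestrict_surjective

end Cfsg.Agent.S3797
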