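import Cfsg.Statements.S3798
import Mathlib
import Cfsg.Agent.OddLocal.PLength
import Cfsg.Agent.OddLocal.Coprime
import Cfsg.Agent.Lib.PLocal.PSolvable
import Cfsg.Agent.Lib.PLocal.Cores
import Cfsg.Agent.Lib.Coprime.SchurZassenhaus

set_option autoImplicit false
open Cfsg
open scoped commutatorElement

namespace Cfsg.Agent.S3798
open Subgroup in
open scoped Pointwise in
theorem core_case {M : Type*} [Group M] [Finite M] {p : ℕ} [hp : Fact p.Prime] (hp2 : p ≠ 2)
    (hsol : Cfsg.IsPSolvable p M) (hO : Cfsg.pPrimeCore p M = ⊥)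
    (htrans : ∀ U V : Subgroup M, Nat.card U = p → Nat.card V = p → ∃ a : MulAut M, U.map a.toMonoidHom = V) :
    (Cfsg.pCore p M).index.Coprime p := by
  classical
  rcases subsingleton_or_nontrivial M with hM | hM
  · rw [Subgroup.eq_bot_of_subsingleton (pCore p M), index_bot, Nat.card_unique]; exact Nat.coprime_one_left _
  set Q := pCore p M with hQd
  have hQp : IsPGroup p Q := PLocal.Cores.isPGroup_pCore
  have hQc : Q.Characteristic := PLocal.Cores.pCore_characteristic
  have hQne : Q ≠ ⊥ := (PLocal.PSolvable.exists_core_ne_bot hsol).resolve_right (not_not_intro hO)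
  haveI : Nontrivial Q := (Subgroup.nontrivial_iff_ne_bot Q).mpr hQne
  haveI := hQp.center_nontrivial
  obtain ⟨z, hz⟩ : ∃ z : center ↥Q, orderOf z = p := by
    obtain ⟨k, hk⟩ := (hQp.to_subgroup (center ↥Q)).exists_card_eq
    refine exists_prime_orderOf_dvd_card' p ?_
    rw [hk]; exact dvd_pow_self p (by rintro rfl; rw [pow_zero] at hk; exact Finite.one_lt_card.ne' hk)
  have hzo : orderOf ((z : ↥Q) : M) = p := by rw [Subgroup.orderOf_coe, Subgroup.orderOf_coe, hz]
  have hall : ∀ x : M, x ^ p = 1 → x ∈ Q ∧ x ∈ centralizer (Q : Set M) := by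
    intro x hx
    rcases eq_or_ne x 1 with rfl | hx1
    · exact ⟨one_mem _, one_mem _⟩
    have hxo : orderOf x = p := orderOf_eq_prime hx hx1
    obtain ⟨a, ha⟩ := htrans (zpowers ((z : ↥Q) : M)) (zpowers x)
      (by rw [Nat.card_zpowers, hzo]) (by rw [Nat.card_zpowers, hxo])
    have hx' : x ∈ (zpowers ((z : ↥Q) : M)).map a.toMonoidHom := ha ▸ mem_zpowers x
    obtain ⟨y, hy, rfl⟩ := hx'
    have hchar := characteristic_iff_map_eq.mp hQc a
    obtain ⟨i, rfl⟩ := mem_zpowers_iff.mp hy
    refine ⟨hchar.le (mem_map_of_mem _ (zpow_mem (z : ↥Q).2 i)), mem_centralizer_iff.mpr fun q hq => ?_⟩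
    rw [SetLike.mem_coe, ← hchar] at hq
    obtain ⟨q', hq', rfl⟩ := hq
    rw [← map_mul, ← map_mul]
    congr 1
    have hcz : Commute (q' : M) ((z : ↥Q) : M) := congrArg Subtype.val (mem_center_iff.mp z.2 ⟨q', hq'⟩)
    exact (hcz.zpow_right i).eq
  have hsolX := PLocal.PSolvable.quotient hsol Q
  set π := QuotientGroup.mk' Q with hπ
  set K := (pPrimeCore p (M ⧸ Q)).comap π with hK
  have hQK : Q ≤ K := by rw [hK]; exact le_trans (le_of_eq (QuotientGroup.ker_mk' Q).symm) (MonoidHom.ker_le_comap _ _)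
  have hKchar : K.Characteristic := by
    refine characteristic_iff_comap_eq.mpr fun a => ?_
    have hchar := characteristic_iff_map_eq.mp hQc a
    let b : M ⧸ Q ≃* M ⧸ Q := QuotientGroup.congr Q Q a hchar
    haveI := PLocal.Cores.pPrimeCore_characteristic (p := p) (G := M ⧸ Q)
    have hb := characteristic_iff_comap_eq.mp (PLocal.Cores.pPrimeCore_characteristic (p := p) (G := M ⧸ Q)) b
    ext x
    show π (a x) ∈ pPrimeCore p (M ⧸ Q) ↔ π x ∈ pPrimeCore p (M ⧸ Q)
    constructor
    · intro h; rw [← hb]; exact h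
    · intro h; rw [← hb] at h; exact h
  obtain ⟨n, hn⟩ := hQp.exists_card_eq
  have hidxK : ((Q.subgroupOf K).index).Coprime p := by
    show (Q.relIndex K).Coprime p
    rw [← QuotientGroup.ker_mk' Q, relIndex_ker, hK, map_comap_eq_self_of_surjective (QuotientGroup.mk'_surjective Q)]
    exact PLocal.Cores.coprime_card_pPrimeCore
  haveI : (Q.subgroupOf K).Normal := Normal.subgroupOf inferInstance K
  obtain ⟨L₀, hL₀⟩ := exists_right_complement'_of_coprime (N := Q.subgroupOf K) (by
    rw [Nat.card_congr (subgroupOfEquivOfLe hQK).toEquiv, hn]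
    exact (hidxK.symm).pow_left n)
  set L := L₀.map K.subtype with hL
  have hcardL : Nat.card L = (Q.subgroupOf K).index := by
    rw [hL, card_subtype, ← hL₀.symm.index_eq_card]
  have hLp : (Nat.card L).Coprime p := hcardL ▸ hidxK
  have hLQ : (Nat.card L).Coprime (Nat.card Q) := hn ▸ hLp.pow_right n
  have hLK : L ≤ K := map_subtype_le _
  have hcK : Nat.card Q * Nat.card L = Nat.card K := by
    rw [hcardL, ← Nat.card_congr (subgroupOfEquivOfLe hQK).toEquiv, card_mul_index]
  have hsup : Q ⊔ L = K := eq_of_le_of_card_ge (sup_le hQK hLK) (le_of_eq (by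
    rw [Coprime.card_sup_of_coprime le_normalizer_of_normal hLQ.symm, hcK]))
  by_cases hLb : L = ⊥
  · -- then `M = Q`
    have hN : pPrimeCore p (M ⧸ Q) = ⊥ := by
      rw [← map_comap_eq_self_of_surjective (QuotientGroup.mk'_surjective Q) (pPrimeCore p (M ⧸ Q)), ← hπ, ← hK,
        ← hsup, hLb, sup_bot_eq, QuotientGroup.map_mk'_self]
    rcases subsingleton_or_nontrivial (M ⧸ Q) with h | h
    · rw [index_eq_card, Nat.card_unique]; exact Nat.coprime_one_left _
    · exact absurd hN ((PLocal.PSolvable.exists_core_ne_bot hsolX).resolve_left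
        (not_not_intro PLocal.Cores.pCore_quotient_pCore))
  have hCL : ∀ x ∈ Q, x ^ p = 1 → x ∈ centralizer (L : Set M) → x = 1 := by
    intro x hxQ hx hxL
    by_contra hx1
    refine hLb (le_bot_iff.mp ?_)
    have hxK : x ∈ centralizer (K : Set M) := by
      have h1 : K ≤ centralizer ({x} : Set M) := by
        rw [← hsup]
        refine sup_le (fun q hq => mem_centralizer_iff.mpr fun u hu => ?_) (fun l hl => mem_centralizer_iff.mpr fun u hu => ?_)
        · rw [Set.mem_singleton_iff.mp hu]; exact (mem_centralizer_iff.mp (hall x hx).2 q hq).symm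
        · rw [Set.mem_singleton_iff.mp hu]; exact (mem_centralizer_iff.mp hxL l hl).symm
      exact mem_centralizer_iff.mpr fun k hk => (mem_centralizer_iff.mp (h1 hk) x rfl).symm
    have hfix : ∀ y ∈ Q, y ^ p = 1 → ∀ l ∈ L, l * y = y * l := by
      intro y _ hy l hl
      rcases eq_or_ne y 1 with rfl | hy1
      · simp
      obtain ⟨a, ha⟩ := htrans (zpowers x) (zpowers y)
        (by rw [Nat.card_zpowers, orderOf_eq_prime hx hx1]) (by rw [Nat.card_zpowers, orderOf_eq_prime hy hy1])
      have hy' : y ∈ (zpowers x).map a.toMonoidHom := ha ▸ mem_zpowers y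
      obtain ⟨x', hx', rfl⟩ := hy'
      have hx'K : x' ∈ centralizer (K : Set M) := (zpowers_le.mpr hxK : zpowers x ≤ _) hx'
      have hchar := characteristic_iff_map_eq.mp hKchar a
      obtain ⟨k, hk, rfl⟩ : l ∈ K.map a.toMonoidHom := by rw [hchar]; exact hLK hl
      rw [← map_mul, ← map_mul, mem_centralizer_iff.mp hx'K k hk]
    have h1 : L ≤ centralizer (Q : Set M) :=
      OddLocal.Coprime.le_centralizer_of_fix_order_p hp2 hQp le_normalizer_of_normal hLp hfix
    have h2 : L ≤ Q := h1.trans (PLocal.PSolvable.centralizer_pCore_le hO (PLocal.PSolvable.subgroup hsol _))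
    intro l hl
    exact disjoint_def.mp (Coprime.disjoint_of_coprime hLQ) hl (h2 hl)
  set N := normalizer (L : Set M) with hN
  have hQN : Q ⊓ N = ⊥ := by
    by_contra hne
    haveI : Nontrivial ↥(Q ⊓ N) := (Subgroup.nontrivial_iff_ne_bot _).mpr hne
    obtain ⟨k, hk⟩ := (hQp.to_le (inf_le_left : Q ⊓ N ≤ Q)).exists_card_eq
    obtain ⟨y, hy⟩ : ∃ y : ↥(Q ⊓ N), orderOf y = p := exists_prime_orderOf_dvd_card' p (by
      rw [hk]; exact dvd_pow_self p (by rintro rfl; rw [pow_zero] at hk; exact Finite.one_lt_card.ne' hk))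
    have hyo : orderOf (y : M) = p := (Subgroup.orderOf_coe y).trans hy
    refine hp.out.ne_one (hyo.symm.trans (orderOf_eq_one_iff.mpr (hCL y y.2.1 (hyo ▸ pow_orderOf_eq_one _) ?_)))
    refine mem_centralizer_iff.mpr fun l hl => ?_
    have h1 : (y : M) * l * (y : M)⁻¹ * l⁻¹ ∈ Q := by
      have := mul_mem y.2.1 (Normal.conj_mem inferInstance _ (inv_mem y.2.1) l)
      simpa [mul_assoc] using this
    have h2 : (y : M) * l * (y : M)⁻¹ * l⁻¹ ∈ L := mul_mem ((mem_normalizer_iff.mp y.2.2 l).mp hl) (inv_mem hl)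
    have h3 : (y : M) * l * (y : M)⁻¹ * l⁻¹ = 1 := disjoint_def.mp (Coprime.disjoint_of_coprime hLQ.symm) h1 h2
    calc l * y = ((y : M) * l * (y : M)⁻¹ * l⁻¹) * (l * y) := by rw [h3, one_mul]
      _ = y * l := by group
  have htop : Q ⊔ N = ⊤ := by
    haveI : K.Normal := by rw [hK]; infer_instance
    refine eq_top_iff.mpr fun g _ => ?_
    obtain ⟨x, hx, hxe⟩ := Coprime.exists_conj_eq_of_sup_eq (N := Q) (H := MulAut.conj g • L) (K := L)
      le_normalizer_of_normal le_normalizer_of_normal (by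
        rw [hsup]
        calc Q ⊔ MulAut.conj g • L = MulAut.conj g • Q ⊔ MulAut.conj g • L := by
              rw [(Coprime.conj_smul_eq_self_iff (g := g) (H := Q)).mpr (le_normalizer_of_normal (mem_top g))]
          _ = K := by rw [← smul_sup, hsup, (Coprime.conj_smul_eq_self_iff (g := g) (H := K)).mpr (le_normalizer_of_normal (mem_top g))])
      (by rw [Coprime.card_conj_smul]; exact hLQ.symm) hLQ.symm
      (Or.inl (Coprime.isSolvable_of_isPGroup hQp))
    rw [← Coprime.conj_smul_mul, Coprime.conj_smul_eq_self_iff] at hxe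
    have := mul_mem_sup (inv_mem hx) hxe
    rwa [inv_mul_cancel_left] at this
  have hidx : Q.index = Nat.card N := by
    have h := Coprime.card_sup_of_disjoint (N := Q) (H := N) le_normalizer_of_normal (disjoint_iff.mpr hQN)
    rw [htop, card_top] at h
    exact Nat.eq_of_mul_eq_mul_left Nat.card_pos ((card_mul_index Q).trans h)
  rw [hidx, Nat.coprime_comm, hp.out.coprime_iff_not_dvd]
  intro hd
  obtain ⟨y, hy⟩ := exists_prime_orderOf_dvd_card' p hd
  have hyo : orderOf (y : M) = p := (Subgroup.orderOf_coe y).trans hy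
  have h1 : (y : M) ∈ Q ⊓ N := ⟨(hall y (hyo ▸ pow_orderOf_eq_one _)).1, y.2⟩
  rw [hQN, mem_bot] at h1
  have := h1
  rw [this, orderOf_one] at hyo
  exact hp.out.ne_one hyo.symm

/-- The Gaschütz–Yen Theorem: let G be a finite p-soluble group, p an odd prime dividing its order, such that the automorphism group of G permutes the subgroups of G of order p transitively. Then G has p-length at most 1. -/
theorem result {G : Type*} [Group G] [Finite G] {p : ℕ} [Fact p.Prime] (hp : p ≠ 2) (hdvd : p ∣ Nat.card G) (hG : Cfsg.IsPSolvable p G) (htrans : ∀ U V : Subgroup G, Nat.card U = p → Nat.card V = p → ∃ a : MulAut G, U.map a.toMonoidHom = V) : Cfsg.PLengthLE p 1 G := by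
  classical
  have hpp : p.Prime := Fact.out
  rw [OddLocal.pLengthLE_one_iff]
  set π := QuotientGroup.mk' (Cfsg.pPrimeCore p G) with hπ
  have hs : Function.Surjective π := QuotientGroup.mk'_surjective _
  have hlift : ∀ U : Subgroup (G ⧸ Cfsg.pPrimeCore p G), Nat.card U = p →
      ∃ V : Subgroup G, Nat.card V = p ∧ V.map π = U := by
    intro U hU
    haveI : Fintype ↥(U.comap π) := Fintype.ofFinite _
    have hcard : Nat.card ↥(U.comap π) = Nat.card (Cfsg.pPrimeCore p G) * p := by
      rw [PLocal.Cores.card_comap_eq U hs, hU, QuotientGroup.ker_mk']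
    obtain ⟨y, hy⟩ : ∃ y : ↥(U.comap π), orderOf y = p :=
      exists_prime_orderOf_dvd_card' p (hcard ▸ dvd_mul_left p _)
    have hyo : orderOf (y : G) = p := (Subgroup.orderOf_coe y).trans hy
    refine ⟨Subgroup.zpowers (y : G), by rw [Nat.card_zpowers, hyo], ?_⟩
    rw [MonoidHom.map_zpowers]
    refine Subgroup.eq_of_le_of_card_ge (Subgroup.zpowers_le.mpr y.2) ?_
    rw [hU, Nat.card_zpowers, orderOf_eq_prime (by rw [← map_pow, show (y : G) ^ p = 1 from (congrArg ((y : G) ^ ·) hyo.symm).trans (pow_orderOf_eq_one _), map_one]) ?_]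
    intro h1
    have h2 := Subgroup.orderOf_dvd_natCard _ ((QuotientGroup.eq_one_iff _).mp h1)
    rw [hyo] at h2
    exact PLocal.Cores.not_dvd_card_pPrimeCore hpp.ne_one h2
  have htr : ∀ U V : Subgroup (G ⧸ Cfsg.pPrimeCore p G), Nat.card U = p → Nat.card V = p →
      ∃ a : MulAut (G ⧸ Cfsg.pPrimeCore p G), U.map a.toMonoidHom = V := by
    intro U V hU hV
    obtain ⟨U', hU', rfl⟩ := hlift U hU
    obtain ⟨V', hV', rfl⟩ := hlift V hV
    obtain ⟨a, ha⟩ := htrans U' V' hU' hV'
    haveI := PLocal.Cores.pPrimeCore_characteristic (p := p) (G := G)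
    refine ⟨QuotientGroup.congr _ _ a (Subgroup.characteristic_iff_map_eq.mp inferInstance a), ?_⟩
    rw [← ha, Subgroup.map_map, Subgroup.map_map]
    congr 1
  have h := core_case hp (PLocal.PSolvable.quotient hG _) PLocal.Cores.pPrimeCore_quotient_pPrimeCore htr
  show ((Cfsg.pCore p (G ⧸ Cfsg.pPrimeCore p G)).comap π).index.Coprime p
  rwa [Subgroup.index_comap_of_surjective _ hs]

end Cfsg.Agent.S3798
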