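import Cfsg.Statements.S3799
import Mathlib

set_option autoImplicit false
open Cfsg
open scoped commutatorElement

namespace Cfsg.Agent.S3799
open Matrix

variable {p : ℕ} {n : ℕ}

/-- index type of the block decomposition -/
abbrev I (n : ℕ) := Unit ⊕ (Fin n ⊕ Unit)

/-- the Heisenberg matrix with parameters `(a, b, c)` -/
def heis (x : (Fin n → ZMod p) × (Fin n → ZMod p) × ZMod p) : Matrix (I n) (I n) (ZMod p) :=
  fromBlocks 1 (fromCols (of fun _ i => x.1 i) (of fun _ _ => x.2.2)) 0
    (fromBlocks 1 (of fun i _ => x.2.1 i) 0 1)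

/-- the Heisenberg multiplication on parameters -/
def hmul (x y : (Fin n → ZMod p) × (Fin n → ZMod p) × ZMod p) : (Fin n → ZMod p) × (Fin n → ZMod p) × ZMod p :=
  (x.1 + y.1, x.2.1 + y.2.1, x.2.2 + y.2.2 + dotProduct x.1 y.2.1)

theorem heis_mul (x y : (Fin n → ZMod p) × (Fin n → ZMod p) × ZMod p) :
    heis x * heis y = heis (hmul x y) := by
  rw [heis, heis, heis, fromBlocks_multiply, fromBlocks_multiply, fromCols_mul_fromBlocks]
  ext i j
  rcases i with i | i | i <;> rcases j with j | j | j <;>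
    simp [hmul, fromBlocks, fromCols, Matrix.mul_apply, Matrix.one_apply, dotProduct, add_comm, add_left_comm, add_assoc]

theorem heis_zero : heis (0 : (Fin n → ZMod p) × (Fin n → ZMod p) × ZMod p) = 1 := by
  ext i j
  rcases i with i | i | i <;> rcases j with j | j | j <;> simp [heis, fromBlocks, fromCols, Matrix.one_apply]

theorem heis_injective : Function.Injective (heis (p := p) (n := n)) := by
  intro x y h
  refine Prod.ext (funext fun i => ?_) (Prod.ext (funext fun i => ?_) ?_)
  · simpa [heis, fromBlocks, fromCols] using congrFun (congrFun h (Sum.inl ())) (Sum.inr (Sum.inl i))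
  · simpa [heis, fromBlocks, fromCols] using congrFun (congrFun h (Sum.inr (Sum.inl i))) (Sum.inr (Sum.inr ()))
  · simpa [heis, fromBlocks, fromCols] using congrFun (congrFun h (Sum.inl ())) (Sum.inr (Sum.inr ()))

/-- the inverse parameters -/
def hinv (x : (Fin n → ZMod p) × (Fin n → ZMod p) × ZMod p) : (Fin n → ZMod p) × (Fin n → ZMod p) × ZMod p :=
  (-x.1, -x.2.1, -x.2.2 + dotProduct x.1 x.2.1)

theorem hmul_hinv (x : (Fin n → ZMod p) × (Fin n → ZMod p) × ZMod p) : hmul x (hinv x) = 0 := by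
  simp [hmul, hinv, dotProduct_neg]

theorem hinv_hmul (x : (Fin n → ZMod p) × (Fin n → ZMod p) × ZMod p) : hmul (hinv x) x = 0 := by
  simp [hmul, hinv, neg_dotProduct]

/-- the matrices as units, transported to `Fin (n + 2)` -/
noncomputable def u (e : I n ≃ Fin (n + 2)) (x : (Fin n → ZMod p) × (Fin n → ZMod p) × ZMod p) :
    Matrix.GeneralLinearGroup (Fin (n + 2)) (ZMod p) :=
  Units.map (Matrix.reindexAlgEquiv (ZMod p) (ZMod p) e).toMonoidHom
    ⟨heis x, heis (hinv x), by rw [heis_mul, hmul_hinv, heis_zero], by rw [heis_mul, hinv_hmul, heis_zero]⟩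

theorem u_mul (e : I n ≃ Fin (n + 2)) (x y : (Fin n → ZMod p) × (Fin n → ZMod p) × ZMod p) :
    u e x * u e y = u e (hmul x y) := by
  rw [u, u, u, ← map_mul]
  congr 1
  exact Units.ext (heis_mul x y)

theorem u_one (e : I n ≃ Fin (n + 2)) : u e (0 : (Fin n → ZMod p) × (Fin n → ZMod p) × ZMod p) = 1 := by
  rw [u, ← map_one (Units.map (Matrix.reindexAlgEquiv (ZMod p) (ZMod p) e).toMonoidHom)]
  congr 1
  exact Units.ext heis_zero

theorem u_injective (e : I n ≃ Fin (n + 2)) : Function.Injective (u (p := p) e) := by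
  intro x y h
  have h1 : Matrix.reindexAlgEquiv (ZMod p) (ZMod p) e (heis x) = Matrix.reindexAlgEquiv (ZMod p) (ZMod p) e (heis y) :=
    congrArg Units.val h
  exact heis_injective ((Matrix.reindexAlgEquiv (ZMod p) (ZMod p) e).injective h1)

/-- the Heisenberg subgroup -/
noncomputable def H (e : I n ≃ Fin (n + 2)) : Subgroup (Matrix.GeneralLinearGroup (Fin (n + 2)) (ZMod p)) where
  carrier := Set.range (u e)
  mul_mem' := by rintro _ _ ⟨x, rfl⟩ ⟨y, rfl⟩; exact ⟨_, (u_mul e x y).symm⟩
  one_mem' := ⟨0, u_one e⟩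
  inv_mem' := by
    rintro _ ⟨x, rfl⟩
    exact ⟨hinv x, eq_inv_of_mul_eq_one_right (by rw [u_mul, hmul_hinv, u_one])⟩

/-- a parametrised element of the Heisenberg subgroup -/
noncomputable def el (e : I n ≃ Fin (n + 2)) (x : (Fin n → ZMod p) × (Fin n → ZMod p) × ZMod p) : ↥(H (p := p) e) :=
  ⟨u e x, x, rfl⟩

theorem el_mul (e : I n ≃ Fin (n + 2)) (x y : (Fin n → ZMod p) × (Fin n → ZMod p) × ZMod p) :
    el e x * el e y = el e (hmul x y) := Subtype.ext (u_mul e x y)

theorem el_one (e : I n ≃ Fin (n + 2)) : el e (0 : (Fin n → ZMod p) × (Fin n → ZMod p) × ZMod p) = 1 :=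
  Subtype.ext (u_one e)

theorem el_surjective (e : I n ≃ Fin (n + 2)) : Function.Surjective (el (p := p) e) := by
  rintro ⟨_, x, rfl⟩; exact ⟨x, rfl⟩

theorem el_injective (e : I n ≃ Fin (n + 2)) : Function.Injective (el (p := p) e) :=
  fun _ _ h => u_injective e (congrArg Subtype.val h)

theorem el_pow (e : I n ≃ Fin (n + 2)) (x : (Fin n → ZMod p) × (Fin n → ZMod p) × ZMod p) :
    ∀ k : ℕ, el e x ^ k = el e ((k : ZMod p) • x.1, (k : ZMod p) • x.2.1,
      (k : ZMod p) * x.2.2 + (k.choose 2 : ZMod p) * dotProduct x.1 x.2.1) := by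
  intro k
  induction k with
  | zero => simp [← el_one e]; rfl
  | succ k ih =>
    rw [pow_succ, ih, el_mul]
    congr 1
    simp only [hmul, Nat.choose_succ_succ', Nat.choose_one_right, Nat.cast_add, Nat.cast_one, smul_dotProduct, smul_eq_mul]
    refine Prod.ext ?_ (Prod.ext ?_ ?_) <;> simp only [add_smul, one_smul] <;> ring

theorem pow_p_eq [Fact p.Prime] (hp : p ≠ 2) (e : I n ≃ Fin (n + 2)) (g : ↥(H (p := p) e)) : g ^ p = 1 := by
  obtain ⟨x, rfl⟩ := el_surjective e g
  obtain ⟨q, hq⟩ : p ∣ p.choose 2 := (Fact.out : p.Prime).dvd_choose_self two_ne_zero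
    (lt_of_le_of_ne (Fact.out : p.Prime).two_le (Ne.symm hp))
  rw [el_pow, hq, Nat.cast_mul, ZMod.natCast_self]
  simp [← el_one e]
  rfl

theorem card_H [NeZero p] (e : I n ≃ Fin (n + 2)) : Nat.card ↥(H (p := p) e) = p ^ (1 + 2 * n) := by
  rw [← Nat.card_eq_of_bijective _ ⟨el_injective e, el_surjective e⟩, Nat.card_prod, Nat.card_prod, Nat.card_zmod,
    Nat.card_fun, Nat.card_fin, Nat.card_zmod]
  ring

theorem mem_center_iff' [Fact p.Prime] (hn : 1 ≤ n) (e : I n ≃ Fin (n + 2)) (x : (Fin n → ZMod p) × (Fin n → ZMod p) × ZMod p) :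
    el e x ∈ Subgroup.center ↥(H (p := p) e) ↔ x.1 = 0 ∧ x.2.1 = 0 := by
  rw [Subgroup.mem_center_iff]
  constructor
  · intro h
    constructor
    · funext i
      have h1 := congrArg (fun t => t.2.2) (el_injective e (by simpa only [el_mul] using h (el e (0, Pi.single i 1, 0))))
      simpa [hmul] using h1.symm
    · funext i
      have h1 := congrArg (fun t => t.2.2) (el_injective e (by simpa only [el_mul] using h (el e (Pi.single i 1, 0, 0))))
      simpa [hmul] using h1
  · rintro ⟨h1, h2⟩ g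
    obtain ⟨y, rfl⟩ := el_surjective e g
    rw [el_mul, el_mul]
    congr 1
    simp [hmul, h1, h2, add_comm]

theorem card_center_H [Fact p.Prime] (hn : 1 ≤ n) (e : I n ≃ Fin (n + 2)) : Nat.card ↥(Subgroup.center ↥(H (p := p) e)) = p := by
  let f : ZMod p → ↥(Subgroup.center ↥(H (p := p) e)) := fun c =>
    ⟨el e (0, 0, c), (mem_center_iff' hn e _).mpr ⟨rfl, rfl⟩⟩
  have hf : Function.Bijective f := by
    refine ⟨fun a b h => congrArg (fun t => t.2.2) (el_injective e (congrArg Subtype.val h)), ?_⟩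
    rintro ⟨g, hg⟩
    obtain ⟨⟨a, b, c⟩, rfl⟩ := el_surjective e g
    obtain ⟨h1, h2⟩ := (mem_center_iff' hn e _).mp hg
    refine ⟨c, Subtype.ext ?_⟩
    show el e (0, 0, c) = el e (a, b, c)
    rw [show a = 0 from h1, show b = 0 from h2]
  rw [← Nat.card_eq_of_bijective f hf, Nat.card_zmod]

theorem commutator_H [Fact p.Prime] (hn : 1 ≤ n) (e : I n ≃ Fin (n + 2)) :
    commutator ↥(H (p := p) e) = Subgroup.center ↥(H (p := p) e) := by
  refine le_antisymm ?_ ?_
  · rw [commutator_def, Subgroup.commutator_le]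
    intro g _ h _
    obtain ⟨x, rfl⟩ := el_surjective e g
    obtain ⟨y, rfl⟩ := el_surjective e h
    have : ⁅el e x, el e y⁆ = el e (0, 0, dotProduct x.1 y.2.1 - dotProduct y.1 x.2.1) := by
      rw [commutatorElement_def, mul_inv_eq_iff_eq_mul, mul_inv_eq_iff_eq_mul, el_mul, el_mul, el_mul]
      congr 1
      simp only [hmul, zero_add, zero_dotProduct, add_zero]
      refine Prod.ext ?_ (Prod.ext ?_ ?_) <;> simp only [add_comm] <;> ring
    rw [this]
    exact (mem_center_iff' hn e _).mpr ⟨rfl, rfl⟩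
  · intro g hg
    obtain ⟨⟨a, b, c⟩, rfl⟩ := el_surjective e g
    obtain ⟨h1, h2⟩ := (mem_center_iff' hn e _).mp hg
    have hc : ⁅el e (Pi.single (⟨0, hn⟩ : Fin n) (1 : ZMod p), 0, 0), el e (0, Pi.single (⟨0, hn⟩ : Fin n) c, 0)⁆ = el e (a, b, c) := by
      rw [commutatorElement_def, mul_inv_eq_iff_eq_mul, mul_inv_eq_iff_eq_mul, el_mul, el_mul, el_mul]
      congr 1
      simp [hmul, show a = 0 from h1, show b = 0 from h2]
    rw [← hc]
    exact Subgroup.commutator_mem_commutator (Subgroup.mem_top _) (Subgroup.mem_top _)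

theorem le_frattini_of_pGroup {G : Type*} [Group G] [Finite G] [Fact p.Prime] (hG : IsPGroup p G) :
    commutator G ≤ frattini G := by
  haveI : Group.IsNilpotent G := hG.isNilpotent
  refine le_iInf₂ fun K (hK : IsCoatom K) => ?_
  have hKn : K.Normal := ((Group.isNilpotent_of_finite_tfae (G := G)).out 0 2 rfl rfl).mp inferInstance K hK
  obtain ⟨x, hx⟩ : ∃ x, x ∉ K := by
    by_contra hcon
    push Not at hcon
    exact hK.1 (eq_top_iff.mpr fun x _ => hcon x)
  have htop : K ⊔ Subgroup.zpowers x = ⊤ :=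
    hK.2 _ (lt_of_le_of_ne le_sup_left fun h => hx (h ▸ Subgroup.mem_sup_right (Subgroup.mem_zpowers x)))
  exact Subgroup.Normal.commutator_le_of_self_sup_commutative_eq_top htop inferInstance

theorem frattini_H [Fact p.Prime] (hp : p ≠ 2) (hn : 1 ≤ n) (e : I n ≃ Fin (n + 2)) :
    frattini ↥(H (p := p) e) = Subgroup.center ↥(H (p := p) e) := by
  have hP : IsPGroup p ↥(H (p := p) e) := fun g => ⟨1, by rw [pow_one]; exact pow_p_eq hp e g⟩
  refine le_antisymm (fun g hg => ?_) ((commutator_H hn e).symm.le.trans (le_frattini_of_pGroup hP))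
  obtain ⟨x, rfl⟩ := el_surjective e g
  -- each coordinate functional cuts out a maximal subgroup
  have key : ∀ f : ((Fin n → ZMod p) × (Fin n → ZMod p) × ZMod p) → ZMod p,
      (∀ x y, f (hmul x y) = f x + f y) → f x ≠ 0 → False := by
    intro f hf hfx
    let F : ↥(H (p := p) e) →* Multiplicative (ZMod p) :=
      MonoidHom.mk' (fun g => Multiplicative.ofAdd (f (el_surjective e g).choose)) (fun g h => by
        rw [← ofAdd_add, ← hf]
        congr 2
        apply el_injective e
        rw [← el_mul, (el_surjective e g).choose_spec, (el_surjective e h).choose_spec, (el_surjective e (g * h)).choose_spec])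
    have hFx : F (el e x) = Multiplicative.ofAdd (f x) := by
      show Multiplicative.ofAdd (f (el_surjective e (el e x)).choose) = _
      rw [el_injective e (el_surjective e (el e x)).choose_spec]
    have hcard : F.ker.index ∣ p := by
      rw [Subgroup.index_ker]
      have := Subgroup.card_subgroup_dvd_card F.range
      rwa [Nat.card_congr Multiplicative.toAdd, Nat.card_zmod] at this
    have hnot : el e x ∉ F.ker := by
      rw [MonoidHom.mem_ker, hFx]
      exact fun h => hfx (by simpa using h)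
    have hco : IsCoatom F.ker := by
      refine ⟨fun h => hnot (h ▸ Subgroup.mem_top _), fun K hK => ?_⟩
      have h1 := Subgroup.relIndex_mul_index hK.le
      rcases (Fact.out : p.Prime).eq_one_or_self_of_dvd _ ((Dvd.intro_left _ h1).trans hcard) with h | h
      · exact Subgroup.index_eq_one.mp h
      · exfalso
        rcases (Fact.out : p.Prime).eq_one_or_self_of_dvd _ hcard with h' | h'
        · exact hnot (Subgroup.index_eq_one.mp h' ▸ Subgroup.mem_top _)
        · rw [h, h'] at h1
          exact hK.not_ge (Subgroup.relIndex_eq_one.mp ((Nat.mul_eq_right (Fact.out : p.Prime).ne_zero).mp h1))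
    exact hnot (frattini_le_coatom hco hg)
  rw [mem_center_iff' hn]
  constructor <;> funext i <;> by_contra hi
  · exact key (fun t => t.1 i) (fun a b => rfl) hi
  · exact key (fun t => t.2.1 i) (fun a b => rfl) hi


/-- For every odd prime p and every n ≥ 1 there is an extraspecial p-group of order p^(1+2n) and exponent p; concretely, the general linear group of degree n + 2 over the field with p elements contains such a subgroup. -/
theorem result (p : ℕ) [Fact p.Prime] (hp : p ≠ 2) (n : ℕ) (hn : 1 ≤ n) : ∃ E : Subgroup (Matrix.GeneralLinearGroup (Fin (n + 2)) (ZMod p)), Cfsg.IsExtraspecial p ↥E ∧ Nat.card E = p ^ (1 + 2 * n) ∧ ∀ x ∈ E, x ^ p = 1 := by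
  let e : I n ≃ Fin (n + 2) := Fintype.equivFinOfCardEq (by simp [Fintype.card_sum]; ring)
  have hP : IsPGroup p ↥(H (p := p) e) := fun g => ⟨1, by rw [pow_one]; exact pow_p_eq hp e g⟩
  exact ⟨H e, ⟨⟨hP, frattini_H hp hn e, commutator_H hn e⟩, card_center_H hn e⟩, card_H e,
    fun x hx => congrArg Subtype.val (pow_p_eq hp e ⟨x, hx⟩)⟩

end Cfsg.Agent.S3799
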