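import Cfsg.Statements.S3802
import Mathlib
import Cfsg.Agent.GenA.Subnormal

set_option autoImplicit false
open Cfsg Cfsg.Agent.GenA.Subnormal
open scoped commutatorElement

namespace Cfsg.Agent.S3802

/-- Let G be a finite group, M a maximal subgroup of G and N a subnormal subgroup of G contained in M. Then N is contained in every conjugate of M, that is, N lies in the core of M in G. -/
theorem result {G : Type*} [Group G] [Finite G] (M N : Subgroup G) (hM : IsCoatom M) (hN : N.IsSubnormal) (hNM : N ≤ M) :
    N ≤ Subgroup.normalCore M := by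
  by_cases hMn : M.Normal
  · rw [Subgroup.normalCore_eq_self]; exact hNM
  obtain ⟨S, hNS, hSM, hSsn, hMS, hne⟩ := exists_invariant_normalizer_ne hM.1 hN hNM
  have htop : Subgroup.normalizer (S : Set G) = ⊤ := hM.2 _ (lt_of_le_of_ne hMS (Ne.symm hne))
  have hSn : S.Normal := Subgroup.normalizer_eq_top_iff.mp htop
  exact hNS.trans (Subgroup.normal_le_normalCore.mpr hSM)

end Cfsg.Agent.S3802
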