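import Cfsg.Statements.S3803
import Mathlib
import Cfsg.Agent.Lib.Coprime.PGroup
import Cfsg.Agent.GenA.MinimalAction

set_option autoImplicit false
open Cfsg
open scoped commutatorElement

namespace Cfsg.Agent.S3803
section
variable {X : Type*} [Group X] [Finite X]

theorem conj_inv_mem {A : Subgroup X} {K : Subgroup X} (h : A ≤ Subgroup.normalizer (K : Set X)) {a x : X} (ha : a ∈ A)
    (hx : x ∈ K) : a * x * a⁻¹ ∈ K := (Subgroup.mem_normalizer_iff.mp (h ha) x).mp hx

theorem noncyclic (Q A : Subgroup X) (hQ : IsPGroup 2 Q) (hA : Odd (Nat.card A))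
    (hAQ : A ≤ Subgroup.normalizer (Q : Set X)) (hnt : ⁅Q, A⁆ ≠ ⊥) : ¬ IsCyclic Q := by
  intro hc
  apply hnt
  rw [Subgroup.commutator_comm, Subgroup.commutator_eq_bot_iff_le_centralizer]
  intro a ha
  let f : ↥(Subgroup.normalizer (Q : Set X)) →* MulAut ↥Q := Q.normalizerMonoidHom
  set φ := f ⟨a, hAQ ha⟩
  obtain ⟨k, hk⟩ := IsPGroup.iff_card.mp hQ
  have h1 : orderOf φ ∣ Nat.card A := (orderOf_map_dvd f _).trans (by
    rw [Subgroup.orderOf_mk]; exact A.orderOf_dvd_natCard ha)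
  have h2 : orderOf φ ∣ 2 ^ k := by
    refine (orderOf_dvd_natCard φ).trans ?_
    rw [IsCyclic.card_mulAut, hk]
    rcases k with _ | k
    · simp
    · rw [Nat.totient_prime_pow_succ Nat.prime_two]; simp [pow_succ, Dvd.intro]
  have h3 : orderOf φ = 1 :=
    Nat.dvd_one.mp (((Nat.Coprime.pow_right k (Nat.coprime_two_right.mpr hA))) ▸ Nat.dvd_gcd h1 h2)
  rw [Subgroup.mem_centralizer_iff]
  intro x hx
  have h4 : φ ⟨x, hx⟩ = ⟨x, hx⟩ := by rw [orderOf_eq_one_iff.mp h3]; rfl
  have h5 : a * x * a⁻¹ = x := congrArg Subtype.val h4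
  calc x * a = (a * x * a⁻¹) * a := by rw [h5]
    _ = a * x := by group

theorem exists_sub (P H : Subgroup X) (hP : IsPGroup 2 P) (hH : H ≤ P) {h m : ℕ} (hc : Nat.card H = 2 ^ h)
    (hhm : h ≤ m) (hm : 2 ^ m ≤ Nat.card P) : ∃ E : Subgroup X, H ≤ E ∧ E ≤ P ∧ Nat.card E = 2 ^ m := by
  obtain ⟨k, hk⟩ := IsPGroup.iff_card.mp hP
  have hdvd : 2 ^ m ∣ Nat.card P := by
    rw [hk] at hm ⊢; exact pow_dvd_pow 2 ((Nat.pow_le_pow_iff_right (by norm_num)).mp hm)
  obtain ⟨K, hK, hle⟩ := Sylow.exists_subgroup_card_pow_prime_le 2 hdvd (H.subgroupOf P)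
    (by rw [Nat.card_congr (Subgroup.subgroupOfEquivOfLe hH).toEquiv, hc]) hhm
  refine ⟨K.map P.subtype, fun x hx => ⟨⟨x, hH hx⟩, hle hx, rfl⟩, Subgroup.map_subtype_le _, ?_⟩
  rw [Subgroup.card_map_of_injective P.subtype_injective, hK]

theorem main (P A : Subgroup X) (hP : IsPGroup 2 P) (hA : Odd (Nat.card A)) (hAP : A ≤ Subgroup.normalizer (P : Set X))
    (d : ℕ) (hd1 : 1 ≤ d) (hd2 : 2 ^ d < Nat.card P)
    (hinv : ∀ E : Subgroup X, E ≤ P → (Nat.card E = 2 ^ d ∨ (d = 1 ∧ Nat.card E = 4)) → A ≤ Subgroup.normalizer (E : Set X)) :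
    A ≤ Subgroup.centralizer (P : Set X) := by
  by_contra hne
  obtain ⟨Q, ⟨hQP, hQA, hnt⟩, hmin⟩ := (Set.toFinite {Q : Subgroup X | Q ≤ P ∧ A ≤ Subgroup.normalizer (Q : Set X) ∧ ⁅Q, A⁆ ≠ ⊥}).exists_minimal
    ⟨P, le_rfl, hAP, fun h => hne (Cfsg.Agent.Coprime.commutator_eq_bot_iff_le_centralizer'.mp h)⟩
  have hQ : IsPGroup 2 Q := hP.to_le hQP
  have hA2 : (Nat.card A).Coprime 2 := Nat.coprime_two_right.mpr hA
  have hnc := noncyclic Q A hQ hA hQA hnt
  have hmin' : ∀ U : Subgroup X, U < Q → A ≤ Subgroup.normalizer (U : Set X) → ⁅U, A⁆ = ⊥ := fun U hU hUA => by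
    by_contra h; exact hU.not_ge (hmin ⟨hU.le.trans hQP, hUA, h⟩ hU.le)
  obtain ⟨q, hq⟩ := IsPGroup.iff_card.mp hQ
  rcases le_or_gt q d with hqd | hqd
  · have hm : 2 ^ (d + 1) ≤ Nat.card P := by
      obtain ⟨k, hk⟩ := IsPGroup.iff_card.mp hP
      rw [hk] at hd2 ⊢
      exact Nat.pow_le_pow_right (by norm_num) ((Nat.pow_lt_pow_iff_right (by norm_num)).mp hd2)
    obtain ⟨E, hQE, hEP, hEc⟩ := exists_sub P Q hP hQP hq (hqd.trans (Nat.le_succ d)) hm
    have hE : IsPGroup 2 E := hP.to_le hEP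
    haveI : Group.IsNilpotent E := hE.isNilpotent
    have hEnc : ¬ IsCyclic E := fun h => hnc (isCyclic_of_injective (Subgroup.inclusion hQE) (Subgroup.inclusion_injective hQE))
    have hco : ∀ M : Subgroup ↥E, IsCoatom M → M.index = 2 ∧ A ≤ Subgroup.normalizer ((M.map E.subtype : Subgroup X) : Set X) := by
      intro M hM
      haveI := Subgroup.NormalizerCondition.normal_of_coatom M Group.normalizerCondition_of_isNilpotent hM
      obtain ⟨j, hj⟩ := hE.index M
      have hj1 : j = 1 := by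
        have hMi : 2 ∣ M.index := by
          rcases j with _ | j
          · exact absurd (Subgroup.index_eq_one.mp (by simpa using hj)) hM.1
          · rw [hj]; exact dvd_pow_self 2 (Nat.succ_ne_zero j)
        obtain ⟨z, hz⟩ : ∃ z, z = j := ⟨j, rfl⟩
        have hq2 : IsPGroup 2 (↥E ⧸ M) := hE.to_quotient M
        obtain ⟨y, hy⟩ := exists_prime_orderOf_dvd_card' 2 (G := ↥E ⧸ M) (by rw [← Subgroup.index_eq_card]; exact hMi)
        have htop : (Subgroup.zpowers y).comap (QuotientGroup.mk' M) = ⊤ := hM.2 _ (lt_of_le_of_ne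
          (fun x hx => by rw [Subgroup.mem_comap, QuotientGroup.mk'_apply, (QuotientGroup.eq_one_iff x).mpr hx]; exact one_mem _)
          fun h => by
            have h2 : Subgroup.zpowers y = M.map (QuotientGroup.mk' M) := by
              exact ((Subgroup.map_comap_eq_self_of_surjective (QuotientGroup.mk'_surjective M) _).symm.trans
                (congrArg (Subgroup.map (QuotientGroup.mk' M)) h.symm))
            rw [(Subgroup.map_eq_bot_iff _).mpr (QuotientGroup.ker_mk' M).ge, Subgroup.zpowers_eq_bot] at h2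
            rw [h2, orderOf_one] at hy; omega)
        have h3 : Nat.card (↥E ⧸ M) = 2 := by
          rw [← hy, ← Nat.card_zpowers, ← Subgroup.card_top (G := ↥E ⧸ M)]
          rw [← Subgroup.map_comap_eq_self_of_surjective (QuotientGroup.mk'_surjective M) (Subgroup.zpowers y), htop,
            Subgroup.map_top_of_surjective _ (QuotientGroup.mk'_surjective M)]
        rw [← Subgroup.index_eq_card, hj] at h3
        exact Nat.pow_right_injective (le_refl 2) (h3.trans (pow_one 2).symm)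
      rw [hj1, pow_one] at hj
      refine ⟨hj, hinv _ ((Subgroup.map_subtype_le _).trans hEP) (Or.inl ?_)⟩
      rw [Subgroup.card_map_of_injective E.subtype_injective]
      have := M.card_mul_index
      rw [hj, hEc, pow_succ] at this
      omega
    have hAE : A ≤ Subgroup.normalizer (E : Set X) := by
      refine Subgroup.le_normalizer_iff.mpr ?_
      intro a ha x hx
      have hne' : Subgroup.zpowers (⟨x, hx⟩ : ↥E) ≠ ⊤ := fun h => hEnc ⟨⟨⟨x, hx⟩, fun y => by
        rw [← Subgroup.mem_zpowers_iff, h]; trivial⟩⟩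
      obtain ⟨M, hM, hxM⟩ := (eq_top_or_exists_le_coatom (Subgroup.zpowers (⟨x, hx⟩ : ↥E))).resolve_left hne'
      exact Subgroup.map_subtype_le _ (conj_inv_mem (hco M hM).2 ha ⟨⟨x, hx⟩, hxM (Subgroup.mem_zpowers _), rfl⟩)
    have hcen : A ≤ Subgroup.centralizer (E : Set X) := by
      obtain ⟨f, hf⟩ := IsPGroup.iff_card.mp (hE.to_subgroup (frattini ↥E))
      refine Cfsg.Agent.Coprime.le_centralizer_of_frattini hAE (hf ▸ hA2.pow_right f) fun a ha k hk => ?_
      have hx : a * k * a⁻¹ * k⁻¹ ∈ E := mul_mem (conj_inv_mem hAE ha hk) (inv_mem hk)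
      refine ⟨⟨_, hx⟩, ?_, rfl⟩
      show _ ∈ frattini ↥E
      change _ ∈ Order.radical (Subgroup ↥E)
      simp only [Order.radical, Subgroup.mem_iInf]
      intro M hM
      obtain ⟨h2, hAM⟩ := hco M hM
      have e : (⟨_, hx⟩ : ↥E) = ⟨a * k * a⁻¹, conj_inv_mem hAE ha hk⟩ * (⟨k, hk⟩ : ↥E)⁻¹ := Subtype.ext rfl
      rw [e, Subgroup.mul_mem_iff_of_index_two h2, inv_mem_iff]
      constructor
      · rintro hin
        obtain ⟨y, hy, hyeq⟩ := conj_inv_mem hAM (inv_mem ha) (K := M.map E.subtype) ⟨_, hin, rfl⟩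
        have : y = (⟨k, hk⟩ : ↥E) := Subtype.ext (by simpa [mul_assoc] using hyeq)
        rwa [← this]
      · intro hin
        obtain ⟨y, hy, hyeq⟩ := conj_inv_mem hAM ha (K := M.map E.subtype) ⟨_, hin, rfl⟩
        have : y = (⟨a * k * a⁻¹, conj_inv_mem hAE ha hk⟩ : ↥E) := Subtype.ext (by simpa using hyeq)
        rwa [← this]
    exact hnt (Cfsg.Agent.Coprime.commutator_eq_bot_iff_le_centralizer'.mpr (hcen.trans (Subgroup.centralizer_le hQE)))
  · obtain ⟨_, hES, _, _⟩ := Cfsg.Agent.GenA.MinimalAction.reduction A A Q hQ hQA le_rfl Subgroup.le_normalizer hA2 hnt hmin'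
    have h4 : ∀ x ∈ Q, x ^ 4 = 1 := by
      intro x hx
      rcases hES with hel | ⟨-, hfz, hcz⟩
      · rw [show (4 : ℕ) = 2 * 2 from rfl, pow_mul, hel.2 x hx, one_pow]
      have hz : ∀ z : ↥Q, z ∈ Subgroup.center ↥Q → z ^ 2 = 1 := by
        intro z hz
        rw [← hcz, commutator_eq_closure] at hz
        induction hz using Subgroup.closure_induction with
        | mem c hc =>
          obtain ⟨u, v, rfl⟩ := hc
          have hcm : ⁅u, v⁆ ∈ Subgroup.center ↥Q := hcz ▸ Subgroup.commutator_mem_commutator (Subgroup.mem_top u) (Subgroup.mem_top v)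
          have h1 : u ^ 2 ∈ Subgroup.center ↥Q := hfz ▸ Cfsg.Agent.Solvable.Basics.pow_mem_frattini hQ u
          have h2 : ⁅u ^ 2, v⁆ = 1 := by
            rw [commutatorElement_eq_one_iff_mul_comm]; exact (Subgroup.mem_center_iff.mp h1 v).symm
          have h3 : ⁅u ^ 2, v⁆ = u * ⁅u, v⁆ * u⁻¹ * ⁅u, v⁆ := by rw [sq, commutatorElement_def, commutatorElement_def]; group
          rw [Subgroup.mem_center_iff.mp hcm u, mul_inv_cancel_right] at h3
          rw [sq, ← h3, h2]
        | one => simp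
        | mul a b ha hb h1 h2 =>
          have hab : Commute a b := by
            have : a ∈ Subgroup.center ↥Q := by rw [← hcz, commutator_eq_closure]; exact ha
            exact (Subgroup.mem_center_iff.mp this b).symm
          rw [hab.mul_pow, h1, h2, one_mul]
        | inv a ha h1 => rw [inv_pow, h1, inv_one]
      have h1 : ((⟨x, hx⟩ : ↥Q) ^ 2) ^ 2 = 1 := hz _ (hfz ▸ Cfsg.Agent.Solvable.Basics.pow_mem_frattini hQ _)
      rw [← pow_mul] at h1
      exact congrArg Subtype.val h1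
    apply hnt
    rw [Cfsg.Agent.Coprime.commutator_eq_bot_iff_le_centralizer']
    intro a ha
    rw [Subgroup.mem_centralizer_iff]
    intro x hx
    have hdvd : orderOf x ∣ 2 ^ 2 := orderOf_dvd_of_pow_eq_one (h4 x hx)
    obtain ⟨i, hi, hox⟩ := (Nat.dvd_prime_pow Nat.prime_two).mp hdvd
    have hgot : ∃ E : Subgroup X, x ∈ E ∧ E < Q ∧ A ≤ Subgroup.normalizer (E : Set X) := by
      rcases le_or_gt i d with h | h
      · obtain ⟨E, hxE, hEQ, hEc⟩ := exists_sub Q (Subgroup.zpowers x) hQ (Subgroup.zpowers_le.mpr hx)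
          (by rw [Nat.card_zpowers, hox]) h (hq ▸ Nat.pow_le_pow_right (by norm_num) hqd.le)
        refine ⟨E, hxE (Subgroup.mem_zpowers x), lt_of_le_of_ne hEQ fun he => ?_, hinv E (hEQ.trans hQP) (Or.inl hEc)⟩
        rw [he, hq] at hEc; exact absurd (Nat.pow_right_injective (le_refl 2) hEc) (by omega)
      · have hd : d = 1 ∧ i = 2 := by omega
        refine ⟨Subgroup.zpowers x, Subgroup.mem_zpowers x, lt_of_le_of_ne (Subgroup.zpowers_le.mpr hx) fun he => hnc (he ▸ Subgroup.isCyclic_zpowers x),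
          hinv _ ((Subgroup.zpowers_le.mpr hx).trans hQP) (Or.inr ⟨hd.1, by rw [Nat.card_zpowers, hox, hd.2]; rfl⟩)⟩
    obtain ⟨E, hxE, hEQ, hEA⟩ := hgot
    exact Subgroup.mem_centralizer_iff.mp (Cfsg.Agent.Coprime.commutator_eq_bot_iff_le_centralizer'.mp (hmin' E hEQ hEA) ha) x hxE

end


/-- Let P be a 2-subgroup and A a subgroup of odd order of a finite group, with A normalizing P. Let D ≤ P with 1 < |D| < |P|. If every subgroup of P of order |D|, and also every subgroup of P of order 4 in case |D| = 2, is normalized by A, then A centralizes P. -/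
theorem result {X : Type*} [Group X] [Finite X] (P A D : Subgroup X) (hP : IsPGroup 2 P) (hA : Odd (Nat.card A))
    (hAP : A ≤ Subgroup.normalizer (P : Set X)) (hDP : D ≤ P) (hD1 : 1 < Nat.card D) (hD2 : Nat.card D < Nat.card P)
    (hinv : ∀ E : Subgroup X, E ≤ P → (Nat.card E = Nat.card D ∨ (Nat.card D = 2 ∧ Nat.card E = 4)) → A ≤ Subgroup.normalizer (E : Set X)) :
    A ≤ Subgroup.centralizer (P : Set X) := by
  obtain ⟨d, hd⟩ := IsPGroup.iff_card.mp (hP.to_le hDP)
  refine main P A hP hA hAP d ?_ (hd ▸ hD2) fun E hE h => hinv E hE ?_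
  · rcases d with _ | d
    · simp [hd] at hD1
    · omega
  · rcases h with h | ⟨h1, h2⟩
    · exact Or.inl (h.trans hd.symm)
    · exact Or.inr ⟨by rw [hd, h1]; rfl, h2⟩

end Cfsg.Agent.S3803
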