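import Cfsg.Statements.S3804
import Mathlib

set_option autoImplicit false
open Cfsg
open scoped commutatorElement

namespace Cfsg.Agent.S3804
theorem card_mul_le {X : Type*} [Group X] [Finite X] (A B J : Subgroup X) (hA : A ≤ J) (hB : B ≤ J) :
    Nat.card A * Nat.card B ≤ Nat.card J * Nat.card ↥(A ⊓ B) ∧
      (Nat.card J * Nat.card ↥(A ⊓ B) ≤ Nat.card A * Nat.card B → ∀ j ∈ J, ∃ a ∈ A, ∃ b ∈ B, a * b = j) := by
  classical
  let f : A × B → J := fun q => ⟨(q.1 : X) * q.2, mul_mem (hA q.1.2) (hB q.2.2)⟩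
  have hfib : ∀ j, Nat.card {q // f q = j} ≤ Nat.card ↥(A ⊓ B) := by
    intro j
    rcases isEmpty_or_nonempty {q // f q = j} with h | h
    · simp
    obtain ⟨q₀⟩ := h
    have key : ∀ q : {q // f q = j}, ((q₀.1.1 : X))⁻¹ * q.1.1 = (q₀.1.2 : X) * (q.1.2 : X)⁻¹ := by
      intro q
      have h1 : (q.1.1 : X) * q.1.2 = q₀.1.1 * q₀.1.2 := congrArg Subtype.val (q.2.trans q₀.2.symm)
      rw [eq_mul_inv_iff_mul_eq, mul_assoc, h1, inv_mul_cancel_left]
    refine Nat.card_le_card_of_injective (fun q => ⟨(q₀.1.1 : X)⁻¹ * q.1.1,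
      Subgroup.mem_inf.mpr ⟨mul_mem (inv_mem q₀.1.1.2) q.1.1.2, key q ▸ mul_mem q₀.1.2.2 (inv_mem q.1.2.2)⟩⟩) ?_
    intro q q' h
    have h1 : (q.1.1 : X) = q'.1.1 := mul_left_cancel (congrArg Subtype.val h)
    have h2 : (q.1.2 : X) = q'.1.2 := by
      have := congrArg Subtype.val (q.2.trans q'.2.symm)
      simp only [f, h1] at this
      exact mul_left_cancel this
    exact Subtype.ext (Prod.ext (Subtype.ext h1) (Subtype.ext h2))
  let _ := Fintype.ofFinite J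
  have hsum : Nat.card A * Nat.card B = ∑ j, Nat.card {q // f q = j} := by
    rw [← Nat.card_prod, ← Nat.card_congr (Equiv.sigmaFiberEquiv f), Nat.card_sigma]
  have hle : Nat.card A * Nat.card B ≤ Nat.card J * Nat.card ↥(A ⊓ B) := by
    rw [hsum, Nat.card_eq_fintype_card (α := J)]
    exact (Finset.sum_le_card_nsmul _ _ _ fun j _ => hfib j).trans_eq (by simp)
  refine ⟨hle, fun hge j hj => ?_⟩
  by_contra hne
  push_neg at hne
  have h0 : Nat.card {q // f q = ⟨j, hj⟩} = 0 := by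
    rw [Nat.card_eq_zero]; left
    exact ⟨fun q => hne q.1.1 q.1.1.2 q.1.2 q.1.2.2 (congrArg Subtype.val q.2)⟩
  have hlt : ∑ j, Nat.card {q // f q = j} < ∑ _j : J, Nat.card ↥(A ⊓ B) :=
    Finset.sum_lt_sum (fun j _ => hfib j) ⟨⟨j, hj⟩, Finset.mem_univ _, by rw [h0]; exact Nat.card_pos⟩
  rw [← hsum, Finset.sum_const, Finset.card_univ, smul_eq_mul, ← Nat.card_eq_fintype_card] at hlt
  omega


/-- Let G and H be subgroups of a finite group with G normalizing H, fix a real number α > 0, and for a subgroup A of G put m(A) = |A|^α · |C_H(A)|. Let A and B be nontrivial subgroups of G at which m attains its maximum over all nontrivial subgroups of G, and assume that A ∩ B ≠ 1 or that this maximum is at least |H|. Then AB = BA is a subgroup at which m is again maximal, C_H(A ∩ B) = C_H(A) C_H(B), and if A ∩ B ≠ 1 then m is maximal at A ∩ B as well. -/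
theorem result {X : Type*} [Group X] [Finite X] (G H : Subgroup X) (hGH : G ≤ Subgroup.normalizer (H : Set X)) (α : ℝ) (hα : 0 < α)
    (A B : Subgroup X) (hA : A ≤ G) (hB : B ≤ G) (hA1 : A ≠ ⊥) (hB1 : B ≠ ⊥)
    (hAmax : ∀ A' : Subgroup X, A' ≤ G → A' ≠ ⊥ → (fun A : Subgroup X => ((Nat.card A : ℝ) ^ α) * (Nat.card ↥(H ⊓ Subgroup.centralizer (A : Set X)) : ℝ)) A' ≤ (fun A : Subgroup X => ((Nat.card A : ℝ) ^ α) * (Nat.card ↥(H ⊓ Subgroup.centralizer (A : Set X)) : ℝ)) A)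
    (hBmax : ∀ A' : Subgroup X, A' ≤ G → A' ≠ ⊥ → (fun A : Subgroup X => ((Nat.card A : ℝ) ^ α) * (Nat.card ↥(H ⊓ Subgroup.centralizer (A : Set X)) : ℝ)) A' ≤ (fun A : Subgroup X => ((Nat.card A : ℝ) ^ α) * (Nat.card ↥(H ⊓ Subgroup.centralizer (A : Set X)) : ℝ)) B)
    (hcase : A ⊓ B ≠ ⊥ ∨ (Nat.card H : ℝ) ≤ (fun A : Subgroup X => ((Nat.card A : ℝ) ^ α) * (Nat.card ↥(H ⊓ Subgroup.centralizer (A : Set X)) : ℝ)) A) :
    (∀ a ∈ A, ∀ b ∈ B, ∃ b' ∈ B, ∃ a' ∈ A, a * b = b' * a') ∧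
    (∀ A' : Subgroup X, A' ≤ G → A' ≠ ⊥ → (fun A : Subgroup X => ((Nat.card A : ℝ) ^ α) * (Nat.card ↥(H ⊓ Subgroup.centralizer (A : Set X)) : ℝ)) A' ≤ (fun A : Subgroup X => ((Nat.card A : ℝ) ^ α) * (Nat.card ↥(H ⊓ Subgroup.centralizer (A : Set X)) : ℝ)) (A ⊔ B)) ∧
    (∀ h ∈ H ⊓ Subgroup.centralizer ((A ⊓ B : Subgroup X) : Set X), ∃ u ∈ H ⊓ Subgroup.centralizer (A : Set X), ∃ v ∈ H ⊓ Subgroup.centralizer (B : Set X), h = u * v) ∧
    (A ⊓ B ≠ ⊥ → ∀ A' : Subgroup X, A' ≤ G → A' ≠ ⊥ → (fun A : Subgroup X => ((Nat.card A : ℝ) ^ α) * (Nat.card ↥(H ⊓ Subgroup.centralizer (A : Set X)) : ℝ)) A' ≤ (fun A : Subgroup X => ((Nat.card A : ℝ) ^ α) * (Nat.card ↥(H ⊓ Subgroup.centralizer (A : Set X)) : ℝ)) (A ⊓ B)) := by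
  set f : Subgroup X → ℝ := fun A => ((Nat.card A : ℝ) ^ α) * (Nat.card ↥(H ⊓ Subgroup.centralizer (A : Set X)) : ℝ) with hf
  set J := A ⊔ B with hJ
  set I := A ⊓ B with hI
  let C : Subgroup X → Subgroup X := fun K => H ⊓ Subgroup.centralizer (K : Set X)
  have hCJ : C A ⊓ C B = C J := by
    ext h
    simp only [C, Subgroup.mem_inf]
    constructor
    · rintro ⟨⟨hH, ha⟩, _, hb⟩
      refine ⟨hH, Subgroup.mem_centralizer_iff.mpr fun y hy => ?_⟩
      have : J ≤ Subgroup.centralizer ({h} : Set X) :=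
        sup_le (fun y hy => Subgroup.mem_centralizer_singleton_iff.mpr (Subgroup.mem_centralizer_iff.mp ha y hy))
          (fun y hy => Subgroup.mem_centralizer_singleton_iff.mpr (Subgroup.mem_centralizer_iff.mp hb y hy))
      exact Subgroup.mem_centralizer_singleton_iff.mp (this hy)
    · rintro ⟨hH, hc⟩
      exact ⟨⟨hH, Subgroup.centralizer_le (SetLike.coe_subset_coe.mpr le_sup_left) hc⟩,
        hH, Subgroup.centralizer_le (SetLike.coe_subset_coe.mpr le_sup_right) hc⟩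
  have hCA : C A ≤ C I := inf_le_inf le_rfl (Subgroup.centralizer_le (SetLike.coe_subset_coe.mpr inf_le_left))
  have hCB : C B ≤ C I := inf_le_inf le_rfl (Subgroup.centralizer_le (SetLike.coe_subset_coe.mpr inf_le_right))
  obtain ⟨h1, e1⟩ := card_mul_le A B J le_sup_left le_sup_right
  obtain ⟨h2, e2⟩ := card_mul_le (C A) (C B) (C I) hCA hCB
  rw [hCJ] at h2 e2
  have cpos : ∀ K : Subgroup X, (0 : ℝ) < (Nat.card K : ℝ) := fun K => by exact_mod_cast Nat.card_pos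
  have fpos : ∀ K, 0 < f K := fun K => mul_pos (Real.rpow_pos_of_pos (cpos K) α) (cpos _)
  have hfAB : f A * f B = ((Nat.card A * Nat.card B : ℕ) : ℝ) ^ α * ((Nat.card (C A) * Nat.card (C B) : ℕ) : ℝ) := by
    push_cast
    rw [Real.mul_rpow (cpos A).le (cpos B).le]
    simp only [hf, C]; ring
  have hfJI : f J * f I = ((Nat.card J * Nat.card I : ℕ) : ℝ) ^ α * ((Nat.card (C I) * Nat.card (C J) : ℕ) : ℝ) := by
    push_cast
    rw [Real.mul_rpow (cpos J).le (cpos I).le]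
    simp only [hf, C]; ring
  have hFA : f A = f B := le_antisymm (hBmax A hA hA1) (hAmax B hB hB1)
  have hJ1 : J ≠ ⊥ := fun h => hA1 (le_bot_iff.mp (h ▸ le_sup_left))
  have hfJ : f J ≤ f A := hAmax J (sup_le hA hB) hJ1
  have hfI : f I ≤ f A := by
    by_cases hI1 : I = ⊥
    · have hh : (Nat.card H : ℝ) ≤ f A := hcase.resolve_left (fun h => h hI1)
      refine le_trans ?_ hh
      simp only [hf, hI1, Subgroup.card_bot, Nat.cast_one, Real.one_rpow, one_mul, Nat.cast_le]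
      exact Subgroup.card_le_of_le inf_le_left
    · exact hAmax I (inf_le_left.trans hA) hI1
  have hmono : ((Nat.card A * Nat.card B : ℕ) : ℝ) ^ α ≤ ((Nat.card J * Nat.card I : ℕ) : ℝ) ^ α :=
    Real.rpow_le_rpow (Nat.cast_nonneg _) (by exact_mod_cast h1) hα.le
  have hc : ((Nat.card (C A) * Nat.card (C B) : ℕ) : ℝ) ≤ ((Nat.card (C I) * Nat.card (C J) : ℕ) : ℝ) := by exact_mod_cast h2
  have hcpos : (0 : ℝ) < ((Nat.card (C A) * Nat.card (C B) : ℕ) : ℝ) := by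
    exact_mod_cast Nat.mul_pos Nat.card_pos Nat.card_pos
  have hle1 : f A * f B ≤ f J * f I := by
    rw [hfAB, hfJI]; exact mul_le_mul hmono hc hcpos.le (Real.rpow_nonneg (Nat.cast_nonneg _) α)
  have hle2 : f J * f I ≤ f A * f A := mul_le_mul hfJ hfI (fpos I).le (fpos A).le
  have heq : f J * f I = f A * f B := le_antisymm (hFA ▸ hle2 |>.trans_eq (by rw [hFA])) hle1
  have hJA : f J = f A := by
    refine le_antisymm hfJ ?_
    have : f A * f A ≤ f J * f A := by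
      calc f A * f A = f J * f I := by rw [heq, hFA]
        _ ≤ f J * f A := mul_le_mul_of_nonneg_left hfI (fpos J).le
    exact le_of_mul_le_mul_right this (fpos A)
  have hIA : f I = f A := by
    have : f J * f I = f J * f A := by rw [heq, hJA, ← hFA]
    exact mul_left_cancel₀ (fpos J).ne' this
  rw [hfAB, hfJI] at heq
  have heqc : Nat.card J * Nat.card I ≤ Nat.card A * Nat.card B := by
    by_contra hlt
    push_neg at hlt
    have : ((Nat.card A * Nat.card B : ℕ) : ℝ) ^ α < ((Nat.card J * Nat.card I : ℕ) : ℝ) ^ α :=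
      Real.rpow_lt_rpow (Nat.cast_nonneg _) (by exact_mod_cast hlt) hα
    exact absurd heq (mul_lt_mul this hc hcpos (Real.rpow_nonneg (Nat.cast_nonneg _) α)).ne'
  have heqd : Nat.card (C I) * Nat.card (C J) ≤ Nat.card (C A) * Nat.card (C B) := by
    have h3 : ((Nat.card A * Nat.card B : ℕ) : ℝ) ^ α = ((Nat.card J * Nat.card I : ℕ) : ℝ) ^ α := by
      rw [le_antisymm h1 heqc]
    rw [h3] at heq
    have hne : ((Nat.card J * Nat.card I : ℕ) : ℝ) ^ α ≠ 0 :=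
      (Real.rpow_pos_of_pos (by exact_mod_cast Nat.mul_pos Nat.card_pos Nat.card_pos) α).ne'
    exact (Nat.cast_injective (mul_left_cancel₀ hne heq)).le
  refine ⟨?_, fun A' hA' hA'1 => (hAmax A' hA' hA'1).trans_eq hJA.symm, ?_, ?_⟩
  · intro a ha b hb
    obtain ⟨a₁, ha₁, b₁, hb₁, he⟩ := e1 heqc (a * b)⁻¹ (inv_mem (mul_mem (Subgroup.mem_sup_left ha) (Subgroup.mem_sup_right hb)))
    exact ⟨b₁⁻¹, inv_mem hb₁, a₁⁻¹, inv_mem ha₁, by rw [← mul_inv_rev, he, inv_inv]⟩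
  · intro h hh
    obtain ⟨u, hu, v, hv, he⟩ := e2 heqd h hh
    exact ⟨u, hu, v, hv, he.symm⟩
  · intro _ A' hA' hA'1
    exact (hAmax A' hA' hA'1).trans_eq hIA.symm

end Cfsg.Agent.S3804
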