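import Cfsg.Statements.S3805
import Cfsg.Agent.Lib.SelfNine.Klein
import Cfsg.Agent.Lib.SelfNine.KleinSetup

set_option autoImplicit false
open Cfsg

namespace Cfsg.Agent.S3805

/-- Let G be a finite group whose Sylow 3-subgroup T is elementary abelian of order 9 and self-centralizing, with N_G(T)/T a Klein four-group, and suppose that the centralizer of every nonidentity element of T lies in N_G(T). Then T is normal in G. -/
theorem result {G : Type*} [Group G] [Finite G]
    (T : Sylow 3 G) (hT : Cfsg.IsElementaryAbelian 3 (T : Subgroup G)) (hcard : Nat.card T = 9)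
    (hC : Subgroup.centralizer ((T : Subgroup G) : Set G) = T)
    [hn : ((T : Subgroup G).subgroupOf (Subgroup.normalizer ((T : Subgroup G) : Set G))).Normal]
    (hK : IsKleinFour (↥(Subgroup.normalizer ((T : Subgroup G) : Set G)) ⧸
      (T : Subgroup G).subgroupOf (Subgroup.normalizer ((T : Subgroup G) : Set G))))
    (hloc : ∀ t ∈ (T : Subgroup G), t ≠ 1 →
      Subgroup.centralizer ({t} : Set G) ≤ Subgroup.normalizer ((T : Subgroup G) : Set G)) :
    Subgroup.normalizer ((T : Subgroup G) : Set G) = ⊤ := by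
  haveI : Fact (Nat.Prime 3) := ⟨Nat.prime_three⟩
  have hti : Cfsg.Agent.SelfNine.NineTI T :=
    ⟨hcard, hT.2,
      fun a ha b hb => congrArg Subtype.val (hT.1.1.1 ⟨a, ha⟩ ⟨b, hb⟩), hloc⟩
  obtain ⟨e1, e2, r, s, D, hN⟩ := Cfsg.Agent.SelfNine.exists_kleinData hti hC hK
  have h72 := D.card_le
  have hmod := card_sylow_modEq_one 3 G
  rw [T.card_eq_index_normalizer] at hmod
  rw [← Subgroup.index_eq_one]
  have h := (Subgroup.normalizer ((T : Subgroup G) : Set G)).index_mul_card
  rw [hN] at h
  have : (Subgroup.normalizer ((T : Subgroup G) : Set G)).index % 3 = 1 := hmod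
  omega

end Cfsg.Agent.S3805
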