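import Cfsg.Statements.S3807
import Mathlib

set_option autoImplicit false
open Cfsg
open scoped commutatorElement

namespace Cfsg.Agent.S3807
/-- a group of order `p ^ 2` and exponent `p` has `p + 1` subgroups of order `p` -/
theorem card_order_p_subgroups {V : Type*} [Group V] {p : ℕ} [Fact p.Prime] (hV : Nat.card V = p ^ 2)
    (he : ∀ v : V, v ^ p = 1) : Nat.card {H : Subgroup V // Nat.card H = p} = p + 1 := by
  classical
  have hpp : p.Prime := Fact.out
  haveI : Finite V := Nat.finite_of_card_ne_zero (by rw [hV]; exact pow_ne_zero _ hpp.ne_zero)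
  haveI := Fintype.ofFinite V
  haveI := Fintype.ofFinite {H : Subgroup V // Nat.card H = p}
  let f : {v : V // v ≠ 1} → {H : Subgroup V // Nat.card H = p} := fun v =>
    ⟨Subgroup.zpowers v.1, by rw [Nat.card_zpowers]; exact orderOf_eq_prime (he _) v.2⟩
  have hfib : ∀ H, Nat.card {v // f v = H} = p - 1 := by
    intro H
    have e : {v // f v = H} ≃ {y : ↥H.1 // y ≠ 1} :=
      { toFun := fun v => ⟨⟨v.1.1, by rw [← congrArg Subtype.val v.2]; exact Subgroup.mem_zpowers _⟩,
          fun h => v.1.2 (congrArg Subtype.val h)⟩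
        invFun := fun y => ⟨⟨y.1.1, fun h => y.2 (Subtype.ext h)⟩, Subtype.ext (Subgroup.eq_of_le_of_card_ge
          (Subgroup.zpowers_le.mpr y.1.2) (by
            rw [H.2, Nat.card_zpowers, orderOf_eq_prime (he _) (fun h => y.2 (Subtype.ext h))]))⟩
        left_inv := fun v => rfl
        right_inv := fun y => rfl }
    haveI := Fintype.ofFinite ↥H.1
    rw [Nat.card_congr e, Nat.card_eq_fintype_card, Fintype.card_subtype_compl, Fintype.card_subtype_eq,
      ← Nat.card_eq_fintype_card, H.2]
  have h1 : Nat.card {v : V // v ≠ 1} = Nat.card {H : Subgroup V // Nat.card H = p} * (p - 1) := by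
    rw [← Nat.card_congr (Equiv.sigmaFiberEquiv f), Nat.card_sigma, Finset.sum_congr rfl (fun H _ => hfib H),
      Finset.sum_const, Finset.card_univ, smul_eq_mul, Nat.card_eq_fintype_card]
  rw [Nat.card_eq_fintype_card, Fintype.card_subtype_compl, Fintype.card_subtype_eq, ← Nat.card_eq_fintype_card, hV] at h1
  have h2 : (p + 1) * (p - 1) = p ^ 2 - 1 := by rw [← Nat.sq_sub_sq, one_pow]
  exact Nat.eq_of_mul_eq_mul_right (by have := hpp.two_le; omega : 0 < p - 1) (h1.symm.trans h2.symm)


/-- Let S be a non-abelian finite p-group with an abelian subgroup A of index p. Then [S : Z(S)] = p·#[S,S], and either [S,S] has order p, S/Z(S) is elementary abelian of order p², and S has exactly p + 1 abelian subgroups of index p; or [S,S] has order at least p² and A is the only abelian subgroup of index p in S. -/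
theorem result {S : Type*} [Group S] [Finite S] (p : ℕ) [Fact p.Prime] (hS : IsPGroup p S) (hna : ¬ IsMulCommutative S)
    (A : Subgroup S) (hA : IsMulCommutative ↥A) (hAi : A.index = p) :
    (Subgroup.center S).index = p * Nat.card (commutator S) ∧
      ((Nat.card (commutator S) = p ∧ Cfsg.IsElementaryAbelian p (⊤ : Subgroup (S ⧸ Subgroup.center S)) ∧
          Nat.card (S ⧸ Subgroup.center S) = p ^ 2 ∧
          Nat.card {B : Subgroup S // IsMulCommutative ↥B ∧ B.index = p} = p + 1) ∨
        (p ^ 2 ≤ Nat.card (commutator S) ∧ ∀ B : Subgroup S, IsMulCommutative ↥B → B.index = p → B = A)) := by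
  classical
  have hpp : p.Prime := Fact.out
  obtain ⟨k, hk⟩ := IsPGroup.iff_card.mp hS
  have hk0 : k ≠ 0 := fun h => by
    have h1 := A.card_mul_index
    rw [hAi, hk, h, pow_zero] at h1
    exact hpp.ne_one (Nat.eq_one_of_mul_eq_one_left h1)
  haveI := hA
  set Z := Subgroup.center S with hZdef
  have hnorm : ∀ B : Subgroup S, B.index = p → B.Normal := fun B hB =>
    Subgroup.normal_of_index_eq_minFac_card (by rw [hk, Nat.Prime.pow_minFac hpp hk0, hB])
  haveI := hnorm A hAi
  have hmax : ∀ B : Subgroup S, B.index = p → ∀ x, x ∉ B → B ⊔ Subgroup.zpowers x = ⊤ := by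
    intro B hB x hx
    have h1 := Subgroup.relIndex_mul_index (le_sup_left : B ≤ B ⊔ Subgroup.zpowers x)
    rw [hB] at h1
    rcases hpp.eq_one_or_self_of_dvd _ (Dvd.intro_left _ h1) with h | h
    · exact Subgroup.index_eq_one.mp h
    · rw [h] at h1
      exact absurd (Subgroup.relIndex_eq_one.mp ((Nat.mul_eq_right hpp.ne_zero).mp h1))
        (fun hl => hx (hl (Subgroup.mem_sup_right (Subgroup.mem_zpowers x))))
  have hZle : ∀ B : Subgroup S, IsMulCommutative ↥B → B.index = p → Z ≤ B := by
    intro B hB hBi z hz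
    by_contra hzB
    haveI := hB
    have htop := hmax B hBi z hzB
    have hc : B ⊔ Subgroup.zpowers z ≤ Subgroup.centralizer ((B ⊔ Subgroup.zpowers z : Subgroup S) : Set S) := by
      refine sup_le ?_ ((Subgroup.zpowers_le.mpr hz).trans (Subgroup.center_le_centralizer _))
      rw [Subgroup.le_centralizer_iff]
      exact sup_le (Subgroup.le_centralizer B) ((Subgroup.zpowers_le.mpr hz).trans (Subgroup.center_le_centralizer _))
    rw [htop] at hc
    exact hna ⟨⟨fun a b => Subgroup.mem_centralizer_iff.mp (hc (Subgroup.mem_top b)) a (Subgroup.mem_top a)⟩⟩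
  have hZA := hZle A hA hAi
  obtain ⟨x, hx⟩ : ∃ x, x ∉ A := by
    by_contra hcon
    push Not at hcon
    exact hna ⟨⟨fun a b => congrArg Subtype.val (hA.is_comm.comm ⟨a, hcon a⟩ ⟨b, hcon b⟩)⟩⟩
  have htop := hmax A hAi x hx
  have hcm : ∀ a ∈ A, ∀ b ∈ A, a * b = b * a := fun a ha b hb => congrArg Subtype.val (hA.is_comm.comm ⟨a, ha⟩ ⟨b, hb⟩)
  have hmemA : ∀ a ∈ A, x * a * x⁻¹ * a⁻¹ ∈ A := fun a ha =>
    A.mul_mem (‹A.Normal›.conj_mem a ha x) (A.inv_mem ha)
  let φ : ↥A →* S :=
    { toFun := fun a => x * a * x⁻¹ * (a : S)⁻¹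
      map_one' := by simp
      map_mul' := fun a b => by
        have h1 := hcm _ (hmemA b b.2) _ (A.inv_mem a.2)
        show x * ((a : S) * b) * x⁻¹ * ((a : S) * b)⁻¹ = x * a * x⁻¹ * (a : S)⁻¹ * (x * b * x⁻¹ * (b : S)⁻¹)
        calc x * ((a : S) * b) * x⁻¹ * ((a : S) * b)⁻¹
            = x * a * x⁻¹ * ((x * b * x⁻¹ * (b : S)⁻¹) * (a : S)⁻¹) := by group
          _ = x * a * x⁻¹ * ((a : S)⁻¹ * (x * b * x⁻¹ * (b : S)⁻¹)) := by rw [h1]
          _ = _ := by group }
  have hker : φ.ker = Z.subgroupOf A := by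
    ext a
    rw [MonoidHom.mem_ker, Subgroup.mem_subgroupOf, hZdef, Subgroup.mem_center_iff]
    constructor
    · intro h g
      have hxc : x * a = a * x := mul_inv_eq_iff_eq_mul.mp (mul_inv_eq_one.mp h)
      have hle : A ⊔ Subgroup.zpowers x ≤ Subgroup.centralizer ({(a : S)} : Set S) :=
        sup_le (fun b hb => Subgroup.mem_centralizer_singleton_iff.mpr (hcm b hb a a.2))
          (Subgroup.zpowers_le.mpr (Subgroup.mem_centralizer_singleton_iff.mpr hxc))
      rw [htop] at hle
      exact Subgroup.mem_centralizer_singleton_iff.mp (hle (Subgroup.mem_top g))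
    · intro h
      show x * a * x⁻¹ * (a : S)⁻¹ = 1
      rw [h x]; group
  set B := φ.range with hBdef
  have hBA : B ≤ A := by
    rintro _ ⟨a, rfl⟩; exact hmemA a a.2
  haveI hBn : B.Normal := by
    refine Subgroup.normalizer_eq_top_iff.mp (eq_top_iff.mpr ?_)
    rw [← htop]
    refine sup_le ?_ (Subgroup.zpowers_le.mpr (Subgroup.mem_normalizer_fintype ?_))
    · intro b hb
      refine Subgroup.mem_normalizer_fintype fun y hy => ?_
      rw [hcm b hb y (hBA hy), mul_inv_cancel_right]; exact hy
    · rintro _ ⟨a, rfl⟩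
      refine ⟨⟨x * a * x⁻¹, ‹A.Normal›.conj_mem a a.2 x⟩, ?_⟩
      show x * (x * a * x⁻¹) * x⁻¹ * (x * a * x⁻¹)⁻¹ = x * (x * a * x⁻¹ * (a : S)⁻¹) * x⁻¹
      group
  have hBS : B = commutator S := by
    refine le_antisymm ?_ ?_
    · rintro _ ⟨a, rfl⟩
      exact Subgroup.commutator_mem_commutator (Subgroup.mem_top x) (Subgroup.mem_top (a : S))
    · set q := QuotientGroup.mk' B
      have hc : (⊤ : Subgroup (S ⧸ B)) ≤ Subgroup.centralizer ((⊤ : Subgroup (S ⧸ B)) : Set (S ⧸ B)) := by
        rw [← Subgroup.map_top_of_surjective q (QuotientGroup.mk'_surjective B), ← htop, Subgroup.map_sup, MonoidHom.map_zpowers]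
        have hxA : ∀ a ∈ A, q x * q a = q a * q x := by
          intro a ha
          rw [← commutatorElement_eq_one_iff_mul_comm, ← map_commutatorElement]
          exact (QuotientGroup.eq_one_iff _).mpr ⟨⟨a, ha⟩, rfl⟩
        have h1 : Subgroup.zpowers (q x) ≤ Subgroup.centralizer ((A.map q : Subgroup (S ⧸ B)) : Set (S ⧸ B)) := by
          refine Subgroup.zpowers_le.mpr (Subgroup.mem_centralizer_iff.mpr ?_)
          rintro _ ⟨a, ha, rfl⟩
          exact (hxA a ha).symm
        refine sup_le ?_ ?_ <;> rw [Subgroup.le_centralizer_iff] <;> refine sup_le ?_ ?_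
        · rw [Subgroup.le_centralizer_iff]
          rintro _ ⟨a, ha, rfl⟩
          refine Subgroup.mem_centralizer_iff.mpr ?_
          rintro _ ⟨b, hb, rfl⟩
          rw [← map_mul, ← map_mul, hcm b hb a ha]
        · exact h1
        · exact Subgroup.le_centralizer_iff.mp h1
        · exact Subgroup.le_centralizer (Subgroup.zpowers (q x))
      rw [commutator_def, Subgroup.commutator_le]
      intro a _ b _
      rw [← QuotientGroup.eq_one_iff]
      show q ⁅a, b⁆ = 1
      rw [map_commutatorElement, commutatorElement_eq_one_iff_mul_comm]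
      exact (Subgroup.mem_centralizer_iff.mp (hc (Subgroup.mem_top (q a))) (q b) (Subgroup.mem_top _)).symm
  have hrel : Z.relIndex A = Nat.card (commutator S) := by
    rw [← hBS, hBdef, ← Subgroup.index_ker φ, hker]; rfl
  have hidx : Z.index = p * Nat.card (commutator S) := by
    rw [← Subgroup.relIndex_mul_index hZA, hrel, hAi, mul_comm]
  refine ⟨hidx, ?_⟩
  obtain ⟨j, hj⟩ := IsPGroup.iff_card.mp (hS.to_subgroup (commutator S))
  have hj0 : j ≠ 0 := fun h => by
    rw [h, pow_zero] at hj
    have hc := Subgroup.card_eq_one.mp hj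
    rw [commutator_eq_bot_iff_center_eq_top] at hc
    exact hna ⟨⟨fun a b => (Subgroup.mem_center_iff.mp (hc ▸ Subgroup.mem_top b) a)⟩⟩
  rcases Nat.lt_or_ge j 2 with hj1 | hj2
  · left
    have hc : Nat.card (commutator S) = p := by rw [hj, show j = 1 by omega, pow_one]
    have hq : Nat.card (S ⧸ Z) = p ^ 2 := by rw [← Subgroup.index_eq_card, hidx, hc, sq]
    haveI hqc : IsMulCommutative (S ⧸ Z) := IsPGroup.isMulCommutative_of_card_eq_prime_sq hq
    have hexp : ∀ a : S ⧸ Z, a ^ p = 1 := by
      intro a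
      obtain ⟨i, hi, hio⟩ := (Nat.dvd_prime_pow hpp).mp (hq ▸ orderOf_dvd_natCard a)
      rcases Nat.lt_or_ge i 2 with h | h
      · rw [← orderOf_dvd_iff_pow_eq_one, hio]
        exact (pow_dvd_pow p (show i ≤ 1 by omega)).trans (by rw [pow_one])
      · haveI : IsCyclic (S ⧸ Z) := isCyclic_of_orderOf_eq_card a (by rw [hio, hq, show i = 2 by omega])
        exact absurd (MonoidHom.isMulCommutative_of_isCyclic_of_ker_le_center (QuotientGroup.mk' Z) (by rw [QuotientGroup.ker_mk'])) hna
    refine ⟨hc, ⟨⟨⟨fun a b => Subtype.ext (hqc.is_comm.comm (a : S ⧸ Z) b)⟩⟩, fun a _ => hexp a⟩, hq, ?_⟩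
    -- abelian maximal subgroups correspond to the order `p` subgroups of `S ⧸ Z`
    have e : {B : Subgroup S // IsMulCommutative ↥B ∧ B.index = p} ≃ {V : Subgroup (S ⧸ Z) // Nat.card V = p} :=
      { toFun := fun B => ⟨B.1.map (QuotientGroup.mk' Z), by
          have h1 : (B.1.map (QuotientGroup.mk' Z)).index = p := by
            rw [Subgroup.index_map, QuotientGroup.ker_mk', sup_eq_left.mpr (hZle B.1 B.2.1 B.2.2),
              MonoidHom.range_eq_top.mpr (QuotientGroup.mk'_surjective Z), Subgroup.index_top, mul_one, B.2.2]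
          have h2 := (B.1.map (QuotientGroup.mk' Z)).card_mul_index
          rw [h1, hq, sq] at h2
          exact Nat.eq_of_mul_eq_mul_right hpp.pos h2⟩
        invFun := fun V => ⟨V.1.comap (QuotientGroup.mk' Z), by
          constructor
          · haveI : IsCyclic ↥V.1 := isCyclic_of_prime_card (p := p) V.2
            refine MonoidHom.isMulCommutative_of_isCyclic_of_ker_le_center ((QuotientGroup.mk' Z).subgroupComap V.1) ?_
            intro y hy
            have hyZ : (y : S) ∈ Z := (QuotientGroup.eq_one_iff _).mp (congrArg Subtype.val hy)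
            exact Subgroup.mem_center_iff.mpr fun g => Subtype.ext (Subgroup.mem_center_iff.mp hyZ g)
          · rw [Subgroup.index_comap_of_surjective _ (QuotientGroup.mk'_surjective Z)]
            have h2 := V.1.card_mul_index
            rw [V.2, hq, sq] at h2
            exact Nat.eq_of_mul_eq_mul_left hpp.pos h2⟩
        left_inv := fun B => Subtype.ext (by
          show (B.1.map (QuotientGroup.mk' Z)).comap (QuotientGroup.mk' Z) = B.1
          rw [Subgroup.comap_map_eq, QuotientGroup.ker_mk', sup_eq_left.mpr (hZle B.1 B.2.1 B.2.2)])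
        right_inv := fun V => Subtype.ext (Subgroup.map_comap_eq_self_of_surjective (QuotientGroup.mk'_surjective Z) _) }
    rw [Nat.card_congr e]
    exact card_order_p_subgroups hq hexp
  · right
    refine ⟨hj ▸ Nat.pow_le_pow_right hpp.pos hj2, fun C hC hCi => ?_⟩
    by_contra hne
    haveI := hC
    obtain ⟨y, hy, hyA⟩ : ∃ y ∈ C, y ∉ A := by
      refine SetLike.not_le_iff_exists.mp fun hle => hne ?_
      refine le_antisymm hle (Subgroup.relIndex_eq_one.mp ?_)
      have h := Subgroup.relIndex_mul_index hle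
      rw [hAi, hCi] at h
      exact (Nat.mul_eq_right hpp.ne_zero).mp h
    have htop' := hmax A hAi y hyA
    have hle : A ⊓ C ≤ Z := by
      intro w hw
      have h1 : A ⊔ Subgroup.zpowers y ≤ Subgroup.centralizer ({w} : Set S) :=
        sup_le (fun b hb => Subgroup.mem_centralizer_singleton_iff.mpr (hcm b hb w hw.1))
          (Subgroup.zpowers_le.mpr (Subgroup.mem_centralizer_singleton_iff.mpr
            (congrArg Subtype.val (hC.is_comm.comm ⟨y, hy⟩ ⟨w, hw.2⟩))))
      rw [htop'] at h1
      exact Subgroup.mem_center_iff.mpr fun g => Subgroup.mem_centralizer_singleton_iff.mp (h1 (Subgroup.mem_top g))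
    have h2 : Z.index ≤ p * p := by
      refine le_trans (Nat.le_of_dvd (Nat.pos_of_ne_zero Subgroup.index_ne_zero_of_finite) (Subgroup.index_dvd_of_le hle)) ?_
      refine le_trans (Subgroup.index_inf_le (H := A) (K := C)) ?_
      rw [hAi, hCi]
    rw [hidx, hj] at h2
    have h3 := Nat.le_of_mul_le_mul_left h2 hpp.pos
    have : p ^ j ≤ p ^ 1 := by simpa using h3
    have := (Nat.pow_le_pow_iff_right hpp.one_lt).mp this
    omega

end Cfsg.Agent.S3807
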