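import Cfsg.Statements.S3808
import Mathlib
import Cfsg.Agent.Lib.Cores.Nilpotent

set_option autoImplicit false
open Cfsg
open scoped commutatorElement

namespace Cfsg.Agent.S3808

/-- Let S be a finite p-group with an extraspecial subgroup Q of index p. Then either Z(S) = Z(Q), or S = Q·Z(S) and Z(S) has order p². -/
theorem result {S : Type*} [Group S] [Finite S] (p : ℕ) [Fact p.Prime] (hS : IsPGroup p S) (Q : Subgroup S) (hQ : Cfsg.IsExtraspecial p ↥Q) (hQi : Q.index = p) :
    Subgroup.center S = (Subgroup.center ↥Q).map Q.subtype ∨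
      (Q ⊔ Subgroup.center S = ⊤ ∧ Nat.card (Subgroup.center S) = p ^ 2) := by
  classical
  have hpp : p.Prime := Fact.out
  obtain ⟨k, hk⟩ := IsPGroup.iff_card.mp hS
  have hk0 : k ≠ 0 := fun h => by
    have h1 := Q.card_mul_index
    rw [hQi, hk, h, pow_zero] at h1
    exact hpp.ne_one (Nat.eq_one_of_mul_eq_one_left h1)
  haveI hQn : Q.Normal := Subgroup.normal_of_index_eq_minFac_card (by rw [hk, Nat.Prime.pow_minFac hpp hk0, hQi])
  set Z := Subgroup.center S
  set W := (Subgroup.center ↥Q).map Q.subtype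
  have hWc : Nat.card W = p := (Subgroup.card_subtype Q _).trans hQ.2
  have hle : Z ⊓ Q ≤ W := fun x hx =>
    ⟨⟨x, hx.2⟩, Subgroup.mem_center_iff.mpr fun g => Subtype.ext (Subgroup.mem_center_iff.mp hx.1 g), rfl⟩
  have hne : Z ⊓ Q ≠ ⊥ := by
    haveI : Group.IsNilpotent S := hS.isNilpotent
    have hQ0 : Q ≠ ⊥ := fun h => by
      have h1 := Subgroup.card_le_of_le (Subgroup.map_subtype_le (H := Q) (Subgroup.center ↥Q))
      rw [show Nat.card ↥((Subgroup.center ↥Q).map Q.subtype) = p from hWc, h, Subgroup.card_bot] at h1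
      exact absurd h1 (Nat.not_le.mpr hpp.one_lt)
    have := Cfsg.Agent.Cores.inf_center_ne_bot hQ0
    rwa [inf_comm]
  have heq : Z ⊓ Q = W := by
    refine Subgroup.eq_of_le_of_card_ge hle ?_
    obtain ⟨j, hj⟩ := IsPGroup.iff_card.mp (hS.to_subgroup (Z ⊓ Q))
    rw [hWc, hj]
    refine Nat.le_self_pow (fun h => hne ?_) p
    rw [h, pow_zero] at hj
    exact Subgroup.card_eq_one.mp hj
  by_cases hZQ : Z ≤ Q
  · left; rw [← heq, inf_eq_left.mpr hZQ]
  · right
    have hsup : Q ⊔ Z = ⊤ := by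
      have h1 := Subgroup.relIndex_mul_index (le_sup_left : Q ≤ Q ⊔ Z)
      rw [hQi] at h1
      rcases hpp.eq_one_or_self_of_dvd _ (Dvd.intro_left _ h1) with h | h
      · exact Subgroup.index_eq_one.mp h
      · rw [h] at h1
        exact absurd (Subgroup.relIndex_eq_one.mp ((Nat.mul_eq_right hpp.ne_zero).mp h1))
          (fun hl => hZQ (le_sup_right.trans hl))
    refine ⟨hsup, ?_⟩
    have h2 : (Z ⊓ Q).relIndex Z = p := by
      rw [inf_comm, Subgroup.inf_relIndex_right, ← Subgroup.relIndex_sup_right, sup_comm Z Q, hsup, Subgroup.relIndex_top_right, hQi]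
    have h3 := Subgroup.relIndex_mul_relIndex ⊥ (Z ⊓ Q) Z bot_le inf_le_left
    rw [Subgroup.relIndex_bot_left, Subgroup.relIndex_bot_left, h2, heq, hWc] at h3
    rw [← h3, sq]

end Cfsg.Agent.S3808
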