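import Cfsg.Statements.S3809
import Mathlib
import Cfsg.Agent.Lib.PGroups.Extraspecial

set_option autoImplicit false
open Cfsg
open scoped commutatorElement

namespace Cfsg.Agent.S3809

/-- Let S be a finite p-group with an extraspecial subgroup of index p. Then S has order p^(2+2n) for some n ≥ 1, derived length at most 3, and exponent dividing p³. -/
theorem result {S : Type*} [Group S] [Finite S] (p : ℕ) [Fact p.Prime] (hS : IsPGroup p S) (Q : Subgroup S) (hQ : Cfsg.IsExtraspecial p ↥Q) (hQi : Q.index = p) :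
    (∃ n : ℕ, 1 ≤ n ∧ Nat.card S = p ^ (2 + 2 * n)) ∧ derivedSeries S 3 = ⊥ ∧ ∀ x : S, x ^ (p ^ 3) = 1 := by
  classical
  have hpp : p.Prime := Fact.out
  obtain ⟨n, hn, hcard⟩ := Cfsg.Agent.PGroups.Extraspecial.exists_card_eq hQ
  have hSc : Nat.card S = p ^ (2 + 2 * n) := by
    rw [← Subgroup.card_mul_index Q, hQi, hcard, ← pow_succ]; congr 1; omega
  haveI hQn : Q.Normal := Subgroup.normal_of_index_eq_minFac_card (by rw [hSc, Nat.Prime.pow_minFac hpp (by omega), hQi])
  haveI : IsCyclic (S ⧸ Q) := isCyclic_of_prime_card (p := p) hQi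
  refine ⟨⟨n, hn, hSc⟩, ?_, ?_⟩
  · have h1 : derivedSeries S 1 ≤ Q := by
      rw [derivedSeries_one, commutator_def, Subgroup.commutator_le]
      intro a _ b _
      rw [← QuotientGroup.eq_one_iff, ← QuotientGroup.mk'_apply, map_commutatorElement, commutatorElement_eq_one_iff_commute]
      exact (IsCyclic.commutative : IsMulCommutative (S ⧸ Q)).is_comm.comm _ _
    have h2 : derivedSeries S 2 ≤ (Subgroup.center ↥Q).map Q.subtype := by
      rw [derivedSeries_succ]
      refine (Subgroup.commutator_mono h1 h1).trans (le_of_eq ?_)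
      rw [← hQ.1.2.2, commutator_def, Subgroup.map_commutator, ← MonoidHom.range_eq_map, Subgroup.range_subtype]
    rw [derivedSeries_succ, eq_bot_iff]
    refine (Subgroup.commutator_mono h2 h2).trans ?_
    rw [← Subgroup.map_commutator]
    refine le_of_eq ((Subgroup.map_eq_bot_iff_of_injective _ Q.subtype_injective).mpr ?_)
    rw [Subgroup.commutator_eq_bot_iff_le_centralizer]
    exact Subgroup.center_le_centralizer _
  · intro x
    have hx : x ^ p ∈ Q := by
      have h := pow_card_eq_one' (x := (x : S ⧸ Q))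
      rw [show Nat.card (S ⧸ Q) = p from hQi] at h
      exact (QuotientGroup.eq_one_iff _).mp h
    have h := congrArg Subtype.val (Cfsg.Agent.PGroups.Extraspecial.pow_prime_sq hQ ⟨x ^ p, hx⟩)
    rw [pow_succ' p 2, pow_mul]
    simpa using h

end Cfsg.Agent.S3809
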