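import Cfsg.Statements.S3918
import Mathlib
import Cfsg.Agent.Lib.PGroups.UniqueSubgroup
import Cfsg.Agent.Lib.PGroups.Normal

set_option autoImplicit false
open Cfsg
open scoped commutatorElement

namespace Cfsg.Agent.S3918
theorem index_centralizer_singleton_le {G : Type*} [Group G] [Finite G] {p : ℕ} [hp : Fact p.Prime] (hG : IsPGroup p G)
    (N : Subgroup G) [N.Normal] {k : ℕ} (hN : Nat.card ↥N = p ^ (k + 1)) {a : G} (ha : a ∈ N) (ha1 : a ≠ 1) :
    (Subgroup.centralizer ({a} : Set G)).index ≤ p ^ k := by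
  classical
  have hlt : (Subgroup.centralizer ({a} : Set G)).index < p ^ (k + 1) := by
    rw [← hN]
    let f : G ⧸ Subgroup.centralizer ({a} : Set G) → N := fun q => ⟨q.out * a * q.out⁻¹, ‹N.Normal›.conj_mem a ha _⟩
    have hf : Function.Injective f := by
      intro q r hqr
      have h : q.out * a * q.out⁻¹ = r.out * a * r.out⁻¹ := congrArg Subtype.val hqr
      rw [← QuotientGroup.out_eq' q, ← QuotientGroup.out_eq' r, QuotientGroup.eq, Subgroup.mem_centralizer_singleton_iff]
      calc q.out⁻¹ * r.out * a = q.out⁻¹ * (r.out * a * r.out⁻¹) * r.out := by group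
        _ = a * (q.out⁻¹ * r.out) := by rw [← h]; group
    haveI := Fintype.ofFinite (G ⧸ Subgroup.centralizer ({a} : Set G))
    haveI := Fintype.ofFinite ↥N
    rw [Subgroup.index, Nat.card_eq_fintype_card, Nat.card_eq_fintype_card]
    refine Fintype.card_lt_of_injective_of_notMem f hf (b := 1) ?_
    rintro ⟨q, hq⟩
    have hq' : q.out * a * q.out⁻¹ = 1 := congrArg Subtype.val hq
    exact ha1 (conj_eq_one_iff.mp hq')
  obtain ⟨j, hj⟩ := hG.index (Subgroup.centralizer ({a} : Set G))
  rw [hj] at hlt ⊢
  exact Nat.pow_le_pow_right hp.out.pos (Nat.lt_succ_iff.mp ((Nat.pow_lt_pow_iff_right hp.out.one_lt).mp hlt))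


/-- Say that a group has self-centralizing non-cyclic subgroups when every non-cyclic subgroup H satisfies C_G(H) ≤ H. For an odd prime p, a finite non-abelian p-group has self-centralizing non-cyclic subgroups if and only if it has order p³. -/
theorem result {G : Type*} [Group G] [Finite G] {p : ℕ} [Fact p.Prime] (hp : p ≠ 2) (hG : IsPGroup p G) (hna : ¬ IsMulCommutative G) :
    (∀ H : Subgroup G, ¬ IsCyclic ↥H → Subgroup.centralizer (H : Set G) ≤ H) ↔ Nat.card G = p ^ 3 := by
  classical
  have hpp : p.Prime := Fact.out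
  obtain ⟨n, hn⟩ := IsPGroup.iff_card.mp hG
  have hcomm2 : ∀ H : Subgroup G, Nat.card ↥H = p ^ 2 → IsMulCommutative ↥H := fun H hH =>
    IsPGroup.isMulCommutative_of_card_eq_prime_sq hH
  constructor
  · intro hX
    have hn3 : 3 ≤ n := by
      by_contra hlt
      apply hna
      interval_cases n
      · haveI : Subsingleton G := (Nat.card_eq_one_iff_unique.mp (by rw [hn, pow_zero])).1
        exact ⟨⟨fun a b => Subsingleton.elim _ _⟩⟩
      · haveI := isCyclic_of_prime_card (α := G) (p := p) (by rw [hn, pow_one])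
        exact IsCyclic.commutative
      · exact IsPGroup.isMulCommutative_of_card_eq_prime_sq hn
    refine hn.trans (congrArg (p ^ ·) (le_antisymm ?_ hn3))
    by_contra hn4
    have hdvd : p ^ 2 ≤ Nat.card ↥(⊤ : Subgroup G) := by
      rw [Subgroup.card_top, hn]; exact Nat.pow_le_pow_right hpp.pos (by omega)
    obtain ⟨N, hNn, -, hN⟩ := Cfsg.Agent.PGroups.Normal.exists_normal_le_card hG (⊤ : Subgroup G) 2 hdvd
    haveI := hNn
    obtain ⟨Z, hZn, hZN, hZ⟩ := Cfsg.Agent.PGroups.Normal.exists_normal_le_card hG N 1 (by rw [hN]; exact Nat.pow_le_pow_right hpp.pos (by norm_num))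
    haveI := hZn
    rw [pow_one] at hZ
    haveI := isCyclic_of_prime_card (α := ↥Z) hZ
    obtain ⟨⟨z, hzZ⟩, hzgen⟩ := IsCyclic.exists_generator (α := ↥Z)
    have hzz : Subgroup.zpowers z = Z := le_antisymm (Subgroup.zpowers_le.mpr hzZ) fun x hx => by
      obtain ⟨i, hi⟩ := hzgen ⟨x, hx⟩
      exact ⟨i, congrArg Subtype.val hi⟩
    have hoz : orderOf z = p := by rw [← Nat.card_zpowers, hzz, hZ]
    have hz1 : z ≠ 1 := fun h => hpp.ne_one (by rw [← hoz, h, orderOf_one])
    have hzc : ∀ g : G, g * z = z * g := by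
      intro g
      have hi := index_centralizer_singleton_le hG Z (k := 0) (by rw [hZ, pow_one]) hzZ hz1
      have htop : Subgroup.centralizer ({z} : Set G) = ⊤ := Subgroup.index_eq_one.mp
        (le_antisymm (by simpa using hi) (Nat.one_le_iff_ne_zero.mpr Subgroup.index_ne_zero_of_finite))
      exact Subgroup.mem_centralizer_singleton_iff.mp (htop ▸ Subgroup.mem_top g)
    -- elements of order `p` outside `Z` have small centralisers
    have hsmall : ∀ e : G, e ^ p = 1 → e ∉ Z → ∀ c : G, c * e = e * c → c ∈ Z ⊔ Subgroup.zpowers e ∧ c ^ p = 1 := by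
      intro e he heZ c hc
      set E := Z ⊔ Subgroup.zpowers e
      have hzE : z ∈ E := Subgroup.mem_sup_left hzZ
      have heE : e ∈ E := Subgroup.mem_sup_right (Subgroup.mem_zpowers e)
      have hne : e ≠ 1 := fun h => heZ (h ▸ one_mem _)
      have hexpE : ∀ w ∈ E, w ^ p = 1 := by
        intro w hw
        obtain ⟨u, hu, v, hv, rfl⟩ := Subgroup.mem_sup_of_normal_left.mp hw
        obtain ⟨i, rfl⟩ := hzz.symm ▸ hu
        obtain ⟨j, rfl⟩ := hv
        show (z ^ i * e ^ j) ^ p = 1
        rw [((show Commute z (e ^ j) from (hzc _).symm).zpow_left i).mul_pow, ← zpow_natCast, ← zpow_natCast,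
          ← zpow_mul, ← zpow_mul, mul_comm i, mul_comm j, zpow_mul, zpow_mul, zpow_natCast, zpow_natCast, he,
          orderOf_dvd_iff_pow_eq_one.mp hoz.dvd, one_zpow, one_zpow, one_mul]
      have hnc : ¬ IsCyclic ↥E := by
        intro hcy
        obtain ⟨⟨g, hg⟩, hgen⟩ := hcy.exists_generator
        have hcard : Nat.card ↥E ≤ p := by
          rw [← orderOf_eq_card_of_forall_mem_zpowers hgen, Subgroup.orderOf_mk]
          exact orderOf_le_of_pow_eq_one hpp.pos (hexpE g hg)
        have hEZ : Z = E := Subgroup.eq_of_le_of_card_ge le_sup_left (hZ.symm ▸ hcard)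
        exact heZ (hEZ.symm ▸ heE)
      have hcE : c ∈ E := by
        refine hX E hnc ?_
        have hle : E ≤ Subgroup.centralizer ({c} : Set G) := by
          refine sup_le (hzz ▸ Subgroup.zpowers_le.mpr ?_) (Subgroup.zpowers_le.mpr ?_)
          · exact Subgroup.mem_centralizer_singleton_iff.mpr (hzc c).symm
          · exact Subgroup.mem_centralizer_singleton_iff.mpr hc.symm
        exact Subgroup.mem_centralizer_iff.mpr fun y hy => Subgroup.mem_centralizer_singleton_iff.mp (hle hy)
      exact ⟨hcE, hexpE c hcE⟩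
    have h3 : p ^ 3 ≤ p ^ (n - 1) := Nat.pow_le_pow_right hpp.pos (by omega)
    obtain ⟨a, ha, haZ⟩ : ∃ a ∈ N, a ∉ Z := by
      refine SetLike.exists_of_lt (lt_of_le_of_ne hZN fun h => ?_)
      rw [h, hN] at hZ
      nlinarith [hpp.two_le]
    have hia : (Subgroup.centralizer ({a} : Set G)).index ≤ p := by
      simpa using index_centralizer_singleton_le hG N (k := 1) (by rw [hN]) ha (fun h => haZ (h ▸ one_mem _))
    have hM : p ^ 3 ≤ Nat.card ↥(Subgroup.centralizer ({a} : Set G)) := by
      have h := Subgroup.card_mul_index (Subgroup.centralizer ({a} : Set G))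
      rw [hn, show n = (n - 1) + 1 by omega, pow_succ] at h
      nlinarith [hpp.pos]
    rcases em (a ^ p = 1) with hap | hap
    · have hle : Subgroup.centralizer ({a} : Set G) ≤ N := fun c hc =>
        (sup_le hZN (Subgroup.zpowers_le.mpr ha)) (hsmall a hap haZ c (Subgroup.mem_centralizer_singleton_iff.mp hc)).1
      have := Subgroup.card_le_of_le hle
      rw [hN] at this
      nlinarith [hpp.two_le, pow_pos hpp.pos 2]
    · set M := Subgroup.centralizer ({a} : Set G) with hMdef
      -- all elements of order `p` of `M` lie in `Z`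
      have hMZ : ∀ y ∈ M, y ^ p = 1 → y ∈ Z := by
        intro y hy hyp
        by_contra hyZ
        exact hap (hsmall y hyp hyZ a (Subgroup.mem_centralizer_singleton_iff.mp hy).symm).2
      have hMc : IsCyclic ↥M := by
        refine (Cfsg.Agent.PGroups.UniqueSubgroup.isCyclic_or_quaternion (hG.to_subgroup M) ?_).resolve_right fun h => hp h.1
        intro H K hH hK
        have hsub : ∀ L : Subgroup ↥M, Nat.card ↥L = p → L.map M.subtype = Z := by
          intro L hL
          refine Subgroup.eq_of_le_of_card_ge ?_ (by rw [hZ, Subgroup.card_subtype, hL])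
          rintro _ ⟨x, hx, rfl⟩
          refine hMZ x x.2 ?_
          have := pow_card_eq_one' (x := (⟨x, hx⟩ : ↥L))
          rw [hL] at this
          simpa using congrArg (fun t : ↥L => ((t : ↥M) : G)) this
        exact Subgroup.map_injective M.subtype_injective ((hsub H hH).trans (hsub K hK).symm)
      -- an element of order `p` outside `Z`
      obtain ⟨x, hxp, hxZ⟩ : ∃ x : G, x ^ p = 1 ∧ x ∉ Z := by
        by_contra hcon
        push Not at hcon
        refine hna ?_
        haveI : IsCyclic G := by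
          refine (Cfsg.Agent.PGroups.UniqueSubgroup.isCyclic_or_quaternion hG ?_).resolve_right fun h => hp h.1
          intro H K hH hK
          have hsub : ∀ L : Subgroup G, Nat.card ↥L = p → L = Z := by
            intro L hL
            refine Subgroup.eq_of_le_of_card_ge ?_ (by rw [hZ, hL])
            intro x hx
            refine hcon x ?_
            have := pow_card_eq_one' (x := (⟨x, hx⟩ : ↥L))
            rw [hL] at this
            simpa using congrArg Subtype.val this
          exact (hsub H hH).trans (hsub K hK).symm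
        exact IsCyclic.commutative
      haveI hMn : M.Normal := by
        rcases Nat.lt_or_ge M.index p with h | h
        · obtain ⟨j, hj⟩ := hG.index M
          have : j = 0 := by
            by_contra hj0
            have := Nat.le_self_pow hj0 p
            omega
          rw [this, pow_zero] at hj
          rw [Subgroup.index_eq_one.mp hj]; infer_instance
        · exact Subgroup.normal_of_index_eq_minFac_card (by rw [hn, Nat.Prime.pow_minFac hpp (by omega)]; exact le_antisymm hia h)
      obtain ⟨⟨b, hbM⟩, hbgen⟩ := hMc.exists_generator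
      have hob : Nat.card ↥M = orderOf b := by
        rw [← Subgroup.orderOf_mk b hbM]; exact (orderOf_eq_card_of_forall_mem_zpowers hbgen).symm
      obtain ⟨m, hm⟩ := IsPGroup.iff_orderOf.mp hG b
      rw [hm] at hob
      have hm3 : 3 ≤ m := (Nat.pow_le_pow_iff_right hpp.one_lt).mp (hob ▸ hM)
      obtain ⟨i, hi⟩ := hbgen ⟨x * b * x⁻¹, hMn.conj_mem b hbM x⟩
      obtain ⟨r, hr⟩ : ∃ r : ℕ, x * b * x⁻¹ = b ^ r := by
        have hi' : b ^ i = x * b * x⁻¹ := congrArg Subtype.val hi
        obtain ⟨r, hr⟩ := (mem_powers_iff_mem_zpowers (x := b)).mpr ⟨i, hi'⟩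
        exact ⟨r, hr.symm⟩
      have hbz : ∀ j : ℕ, x * b ^ j * x⁻¹ = b ^ (j * r) := Cfsg.Agent.PGroups.UniqueSubgroup.conj_pow_eq hr
      have htZ : b ^ p ^ (m - 1) ∈ Z := hMZ _ (M.pow_mem hbM _) (by
        rw [← pow_mul, ← pow_succ, show m - 1 + 1 = m by omega, ← hm, pow_orderOf_eq_one])
      have hr1 : r % p = 1 := by
        have h := hbz (p ^ (m - 1))
        obtain ⟨l, hl⟩ := hzz.symm ▸ htZ
        simp only at hl
        rw [← hl, ((show Commute x z from hzc x).zpow_right l).eq, mul_inv_cancel_right, hl] at h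
        rw [pow_eq_pow_iff_modEq, hm, show p ^ m = p ^ (m - 1) * p by rw [← pow_succ]; congr 1; omega] at h
        have h2 : p ^ (m - 1) * 1 ≡ p ^ (m - 1) * r [MOD p ^ (m - 1) * p] := by simpa using h
        have h3 := Nat.ModEq.mul_left_cancel' (pow_ne_zero _ hpp.ne_zero) h2
        rw [← h3, Nat.one_mod_eq_one.mpr hpp.ne_one]
      obtain ⟨u, hu, hu2⟩ := Cfsg.Agent.PGroups.UniqueSubgroup.geom_sum_of_mod hpp hr1 (fun h => absurd h hp)
      have hrp : b ^ (r ^ p) = b := by
        rw [← Cfsg.Agent.PGroups.UniqueSubgroup.pow_conj_eq hr p, hxp]; group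
      have hcb : x * b ^ p * x⁻¹ = b ^ p := by
        rw [hbz, pow_eq_pow_iff_modEq, hm]
        have h1 : r ^ p ≡ 1 [MOD p ^ m] := by rw [← hm, ← pow_eq_pow_iff_modEq, hrp, pow_one]
        have hr0 : 1 ≤ r := by rcases Nat.eq_zero_or_pos r with rfl | h; simp at hr1; exact h
        have h2 : p ^ m ∣ r ^ p - 1 := (Nat.modEq_iff_dvd' (Nat.one_le_pow _ _ hr0)).mp h1.symm
        have h3 : (r - 1) * (p * u) = r ^ p - 1 := by
          rw [← hu]
          have := geom_sum_mul_add (r - 1) p
          rw [Nat.sub_add_cancel hr0] at this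
          rw [mul_comm]; omega
        have h4 : p ^ m ∣ p * (r - 1) := by
          have hco : (p ^ m).Coprime u := Nat.Coprime.pow_left m (hpp.coprime_iff_not_dvd.mpr hu2)
          refine hco.dvd_of_dvd_mul_right ?_
          rw [mul_comm p, mul_assoc, h3]; exact h2
        rw [Nat.mul_sub, mul_one] at h4
        exact ((Nat.modEq_iff_dvd' (Nat.le_mul_of_pos_right p hr0)).mpr h4).symm
      have hbp := (hsmall x hxp hxZ (b ^ p) (by rw [mul_inv_eq_iff_eq_mul] at hcb; exact hcb.symm)).2
      rw [← pow_mul, ← sq, ← orderOf_dvd_iff_pow_eq_one, hm] at hbp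
      have := (Nat.pow_dvd_pow_iff_le_right hpp.one_lt).mp hbp
      omega
  · intro h3 H hH
    obtain ⟨k, hk⟩ := IsPGroup.iff_card.mp (hG.to_subgroup H)
    have hk3 : k ≤ 3 := (Nat.pow_dvd_pow_iff_le_right hpp.one_lt).mp (hk ▸ h3 ▸ Subgroup.card_subgroup_dvd_card H)
    interval_cases k
    · haveI : Subsingleton ↥H := (Nat.card_eq_one_iff_unique.mp (by rw [hk, pow_zero])).1
      exact absurd isCyclic_of_subsingleton hH
    · exact absurd (isCyclic_of_prime_card (p := p) (by rw [hk, pow_one])) hH
    · have hc := hcomm2 H hk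
      have hle : H ≤ Subgroup.centralizer (H : Set G) := fun x hx => Subgroup.mem_centralizer_iff.mpr fun y hy =>
        congrArg Subtype.val (hc.is_comm.comm ⟨y, hy⟩ ⟨x, hx⟩)
      refine le_of_eq (Subgroup.eq_of_le_of_card_ge hle ?_).symm
      obtain ⟨j, hj⟩ := IsPGroup.iff_card.mp (hG.to_subgroup (Subgroup.centralizer (H : Set G)))
      have hj3 : j ≤ 3 := (Nat.pow_dvd_pow_iff_le_right hpp.one_lt).mp (hj ▸ h3 ▸ Subgroup.card_subgroup_dvd_card _)
      rw [hj, hk]
      refine Nat.pow_le_pow_right hpp.pos ?_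
      by_contra hj2
      have htop : Subgroup.centralizer (H : Set G) = ⊤ := Subgroup.eq_top_of_card_eq _ (by rw [hj, h3]; congr 1; omega)
      have hHZ : H ≤ Subgroup.center G := fun x hx => Subgroup.mem_center_iff.mpr fun g =>
        (Subgroup.mem_centralizer_iff.mp (htop ▸ Subgroup.mem_top g) x hx).symm
      refine hna ⟨⟨fun a b => ?_⟩⟩
      haveI hcq : IsCyclic (G ⧸ Subgroup.center G) := by
        have hd : (Subgroup.center G).index ∣ H.index := Subgroup.index_dvd_of_le hHZ
        have hHi : H.index = p := by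
          have := Subgroup.card_mul_index H
          rw [hk, h3, pow_succ p 2] at this
          exact Nat.eq_of_mul_eq_mul_left (pow_pos hpp.pos 2) this
        rw [hHi] at hd
        rcases hpp.eq_one_or_self_of_dvd _ hd with h1 | h1
        · haveI : Subsingleton (G ⧸ Subgroup.center G) := (Nat.card_eq_one_iff_unique.mp h1).1
          infer_instance
        · exact isCyclic_of_prime_card h1
      exact (MonoidHom.isMulCommutative_of_isCyclic_of_ker_le_center (QuotientGroup.mk' (Subgroup.center G)) (by rw [QuotientGroup.ker_mk'])).is_comm.comm a b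
    · rw [Subgroup.eq_top_of_card_eq H (by rw [hk, h3])]; exact le_top

end Cfsg.Agent.S3918
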