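import Cfsg.Statements.S3810
import Mathlib
import Cfsg.Agent.Lib.PGroups.Extraspecial
import Cfsg.Agent.Lib.PGroups.Normal
import Cfsg.Agent.S3918

set_option autoImplicit false
open Cfsg
open scoped commutatorElement

namespace Cfsg.Agent.S3810

/-- Let S be a finite p-group with an extraspecial subgroup of index p. Then S has an abelian subgroup of index p if and only if S has order p⁴. -/
theorem result {S : Type*} [Group S] [Finite S] (p : ℕ) [Fact p.Prime] (hS : IsPGroup p S) (Q : Subgroup S) (hQ : Cfsg.IsExtraspecial p ↥Q) (hQi : Q.index = p) :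
    (∃ A : Subgroup S, IsMulCommutative ↥A ∧ A.index = p) ↔ Nat.card S = p ^ 4 := by
  classical
  have hpp : p.Prime := Fact.out
  obtain ⟨n, hn, hcard⟩ := Cfsg.Agent.PGroups.Extraspecial.exists_card_eq hQ
  have hSc : Nat.card S = p ^ (2 + 2 * n) := by
    rw [← Subgroup.card_mul_index Q, hQi, hcard, ← pow_succ]; congr 1; omega
  constructor
  · rintro ⟨A, hA, hAi⟩
    haveI := hA
    haveI : IsMulCommutative ↥(A.subgroupOf Q) :=
      ⟨⟨fun u v => Subtype.ext (Subtype.ext (by
        have := congrArg Subtype.val (hA.is_comm.comm ⟨(u : ↥Q), u.2⟩ ⟨(v : ↥Q), v.2⟩)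
        simpa using this))⟩⟩
    have h1 := Cfsg.Agent.PGroups.Extraspecial.card_sq_le_of_abelian hQ (A.subgroupOf Q)
    have h2 : p ^ (2 * n) ≤ Nat.card (A.subgroupOf Q) := by
      have h3 := (A.subgroupOf Q).card_mul_index
      have h4 : (A.subgroupOf Q).index ≤ p := by
        show A.relIndex Q ≤ p
        have h6 := Subgroup.index_inf_le (H := A) (K := Q)
        rw [← Subgroup.relIndex_mul_index (inf_le_right : A ⊓ Q ≤ Q), Subgroup.inf_relIndex_right, hAi, hQi] at h6
        exact Nat.le_of_mul_le_mul_right h6 hpp.pos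
      rw [hcard, pow_succ] at h3
      nlinarith [hpp.pos]
    rw [hcard, ← pow_succ'] at h1
    have h5 : p ^ (2 * n * 2) ≤ p ^ (2 * n + 1 + 1) := by
      rw [pow_mul]; exact (Nat.pow_le_pow_left h2 2).trans h1
    have := (Nat.pow_le_pow_iff_right hpp.one_lt).mp h5
    rw [hSc]; congr 1; omega
  · intro h4
    have hn1 : n = 1 := by
      have := Nat.pow_right_injective hpp.two_le (hSc.symm.trans h4); omega
    have hna : ∀ A : Subgroup S, IsMulCommutative ↥A → A ≠ ⊤ := by
      intro A hA htop
      have hc : commutator ↥Q = ⊥ := by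
        rw [commutator_eq_bot_iff_center_eq_top, eq_top_iff]
        intro x _
        refine Subgroup.mem_center_iff.mpr fun y => Subtype.ext ?_
        have h := congrArg (Subtype.val : ↥A → S) (hA.is_comm.comm ⟨(y : S), htop ▸ Subgroup.mem_top _⟩ ⟨(x : S), htop ▸ Subgroup.mem_top _⟩)
        simpa using h
      have h := hQ.2
      rw [← hQ.1.2.2, hc, Subgroup.card_bot] at h
      exact hpp.ne_one h.symm
    obtain ⟨N, hNn, -, hN⟩ := Cfsg.Agent.PGroups.Normal.exists_normal_le_card hS (⊤ : Subgroup S) 2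
      (by rw [Subgroup.card_top, h4]; exact Nat.pow_le_pow_right hpp.pos (by norm_num))
    haveI := hNn
    haveI hNc : IsMulCommutative ↥N := IsPGroup.isMulCommutative_of_card_eq_prime_sq hN
    obtain ⟨Z, hZn, hZN, hZ⟩ := Cfsg.Agent.PGroups.Normal.exists_normal_le_card hS N 1 (hN ▸ Nat.pow_le_pow_right hpp.pos (by norm_num))
    haveI := hZn
    have hZc : ∀ a ∈ Z, ∀ g : S, g * a = a * g := by
      intro a ha g
      rcases eq_or_ne a 1 with rfl | ha1
      · simp
      · have hi := Cfsg.Agent.S3918.index_centralizer_singleton_le hS Z (k := 0) hZ ha ha1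
        have htop : Subgroup.centralizer ({a} : Set S) = ⊤ := Subgroup.index_eq_one.mp
          (le_antisymm (by simpa using hi) (Nat.one_le_iff_ne_zero.mpr Subgroup.index_ne_zero_of_finite))
        exact Subgroup.mem_centralizer_singleton_iff.mp (htop ▸ Subgroup.mem_top g)
    obtain ⟨a, ha, haZ⟩ : ∃ a ∈ N, a ∉ Z := by
      refine SetLike.exists_of_lt (lt_of_le_of_ne hZN fun h => ?_)
      rw [h, hN] at hZ
      exact absurd (Nat.pow_right_injective hpp.two_le hZ) (by norm_num)
    have hNeq : Z ⊔ Subgroup.zpowers a = N := by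
      refine Subgroup.eq_of_le_of_card_ge (sup_le hZN (Subgroup.zpowers_le.mpr ha)) ?_
      obtain ⟨j, hj⟩ := IsPGroup.iff_card.mp (hS.to_subgroup (Z ⊔ Subgroup.zpowers a))
      rw [hN, hj]
      refine Nat.pow_le_pow_right hpp.pos ?_
      by_contra hj2
      have h5 : Z = Z ⊔ Subgroup.zpowers a :=
        Subgroup.eq_of_le_of_card_ge le_sup_left (by rw [hZ, hj]; exact Nat.pow_le_pow_right hpp.pos (by omega))
      exact haZ (h5 ▸ Subgroup.mem_sup_right (Subgroup.mem_zpowers a))
    have hi := Cfsg.Agent.S3918.index_centralizer_singleton_le hS N (k := 1) hN ha (fun h => haZ (h ▸ one_mem _))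
    rw [pow_one] at hi
    obtain ⟨x, hx, hxN⟩ : ∃ x ∈ Subgroup.centralizer ({a} : Set S), x ∉ N := by
      refine SetLike.not_le_iff_exists.mp fun hle => ?_
      have h6 := Subgroup.card_mul_index (Subgroup.centralizer ({a} : Set S))
      have h7 := Subgroup.card_le_of_le hle
      rw [hN] at h7
      rw [h4] at h6
      have h8 : p ^ 4 ≤ p ^ 3 := by rw [← h6, pow_succ p 2]; exact Nat.mul_le_mul h7 hi
      exact absurd ((Nat.pow_le_pow_iff_right hpp.one_lt).mp h8) (by norm_num)
    set A := N ⊔ Subgroup.zpowers x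
    have hAc : A ≤ Subgroup.centralizer (A : Set S) := by
      have hxN' : Subgroup.zpowers x ≤ Subgroup.centralizer (N : Set S) := by
        refine Subgroup.le_centralizer_iff.mp ?_
        rw [← hNeq]
        refine sup_le (fun z hz => Subgroup.mem_centralizer_iff.mpr fun y _ => hZc z hz y) (Subgroup.zpowers_le.mpr ?_)
        refine Subgroup.mem_centralizer_iff.mpr ?_
        rintro _ ⟨i, rfl⟩
        exact ((show Commute x a from Subgroup.mem_centralizer_singleton_iff.mp hx).zpow_left i).eq
      refine sup_le ?_ ?_ <;> rw [Subgroup.le_centralizer_iff] <;> refine sup_le ?_ ?_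
      · exact Subgroup.le_centralizer N
      · exact hxN'
      · exact Subgroup.le_centralizer_iff.mp hxN'
      · exact Subgroup.le_centralizer (Subgroup.zpowers x)
    have hA : IsMulCommutative ↥A := ⟨⟨fun u v => Subtype.ext (Subgroup.mem_centralizer_iff.mp (hAc v.2) u u.2)⟩⟩
    refine ⟨A, hA, ?_⟩
    obtain ⟨j, hj⟩ := IsPGroup.iff_card.mp (hS.to_subgroup A)
    have hj2 : 2 < j := by
      by_contra hlt
      have h5 : N = A := Subgroup.eq_of_le_of_card_ge le_sup_left (by rw [hj, hN]; exact Nat.pow_le_pow_right hpp.pos (by omega))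
      exact hxN (h5 ▸ Subgroup.mem_sup_right (Subgroup.mem_zpowers x))
    have h6 := A.card_mul_index
    obtain ⟨i, hi'⟩ := hS.index A
    rw [hj, hi', h4, ← pow_add] at h6
    have h7 := Nat.pow_right_injective hpp.two_le h6
    have hi0 : i ≠ 0 := fun h => hna A hA (Subgroup.index_eq_one.mp (by rw [hi', h, pow_zero]))
    rw [hi', show i = 1 by omega, pow_one]

end Cfsg.Agent.S3810
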