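import Cfsg.Statements.S3814
import Cfsg.Agent.Lib.Components.FourPrimes.Main

set_option autoImplicit false
set_option linter.all false
open Cfsg

namespace Cfsg.Agent.S3814

/-- A criterion for nonsolvability from element orders: let G be a finite group and σ a set of at least four primes such that for all distinct p, q ∈ σ the product pq is the order of some element of G, while for all pairwise distinct p, q, r ∈ σ no element of G has order pqr. Then G is not solvable. -/
theorem result {G : Type*} [Group G] [Finite G]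
    (σ : Finset ℕ) (hσ : 4 ≤ σ.card) (hprime : ∀ p ∈ σ, p.Prime)
    (h2 : ∀ p ∈ σ, ∀ q ∈ σ, p ≠ q → ∃ g : G, orderOf g = p * q)
    (h3 : ∀ p ∈ σ, ∀ q ∈ σ, ∀ r ∈ σ, p ≠ q → q ≠ r → p ≠ r → ∀ g : G, orderOf g ≠ p * q * r) :
    ¬ Group.IsSolvable G := by
  intro hsolv
  obtain ⟨τ, hτσ, hτ⟩ := Finset.exists_subset_card_eq hσ
  have hp' : ∀ p ∈ τ, p.Prime := fun p hp => hprime p (hτσ hp)
  obtain ⟨K, hK⟩ := Cfsg.Agent.Hall.exists_hall (τ : Set ℕ) G
  refine Cfsg.Agent.Components.FourPrimes.four_absurd (G := K) hτ hp'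
    (fun p hp hd => Finset.mem_coe.mp (hK.1 p hp hd)) ?_ ?_
  · intro a ha b hb hab
    obtain ⟨g, hg⟩ := h2 a (hτσ ha) b (hτσ hb) hab
    have hcard : Nat.card (Subgroup.zpowers g) = a * b := by rw [Nat.card_zpowers, hg]
    obtain ⟨c, hc⟩ := Cfsg.Agent.Hall.exists_conj_le_hall hK (U := Subgroup.zpowers g) (by
      intro l hl hd
      rw [hcard] at hd
      rcases hl.dvd_mul.mp hd with h | h
      · exact (Nat.prime_dvd_prime_iff_eq hl (hp' a ha)).mp h ▸ ha
      · exact (Nat.prime_dvd_prime_iff_eq hl (hp' b hb)).mp h ▸ hb)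
    have hm : c⁻¹ * g * c ∈ K := by
      have := Cfsg.Agent.Coprime.mem_conj_smul.mp (hc (Subgroup.mem_zpowers g))
      simpa using this
    let k : K := ⟨c⁻¹ * g * c, hm⟩
    have hk : orderOf k = a * b := by
      rw [Subgroup.orderOf_mk]
      simpa using (Cfsg.Agent.Components.FourPrimes.orderOf_conj c⁻¹ g).trans hg
    refine ⟨k ^ b, k ^ a, ?_, ?_, (Commute.refl k).pow_pow b a⟩
    · rw [orderOf_pow_of_dvd (hp' b hb).ne_zero (by rw [hk]; exact dvd_mul_left b a), hk,
        Nat.mul_div_cancel _ (hp' b hb).pos]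
    · rw [orderOf_pow_of_dvd (hp' a ha).ne_zero (by rw [hk]; exact dvd_mul_right a b), hk,
        Nat.mul_div_cancel_left _ (hp' a ha).pos]
  · intro a ha b hb c hc hab hbc hac x y z hx hy hz hxy hyz hxz
    have hcop : ∀ {u v : ℕ}, u ∈ τ → v ∈ τ → u ≠ v → u.Coprime v := fun hu hv huv =>
      (Nat.coprime_primes (hp' _ hu) (hp' _ hv)).mpr huv
    refine h3 a (hτσ ha) b (hτσ hb) c (hτσ hc) hab hbc hac ((x : G) * y * z) ?_
    rw [← Subgroup.coe_mul, ← Subgroup.coe_mul, Subgroup.orderOf_coe,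
      (hxz.mul_left hyz).orderOf_mul_eq_mul_orderOf_of_coprime, hxy.orderOf_mul_eq_mul_orderOf_of_coprime,
      hx, hy, hz]
    · rw [hx, hy]; exact hcop ha hb hab
    · rw [hxy.orderOf_mul_eq_mul_orderOf_of_coprime (by rw [hx, hy]; exact hcop ha hb hab), hx, hy, hz]
      exact Nat.Coprime.mul_left (hcop ha hc hac) (hcop hb hc hbc)

end Cfsg.Agent.S3814
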