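import Cfsg.Statements.S3815

set_option autoImplicit false
open Cfsg

namespace Cfsg.Agent.S3815

/-- Let G be a finite group, p a prime and d ∈ G an element of order prime to p. If dg has order prime to p for every element g ∈ G of order prime to p, then d ∈ O_{p'}(G). -/
theorem result {G : Type*} [Group G] [Finite G] {p : ℕ} [Fact p.Prime]
    (d : G) (hd : (orderOf d).Coprime p)
    (h : ∀ g : G, (orderOf g).Coprime p → (orderOf (d * g)).Coprime p) :
    d ∈ Cfsg.pPrimeCore p G := by
  classical
  let X : Set G := {g | (orderOf g).Coprime p}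
  let D : Subgroup G :=
    { carrier := {d | ∀ g ∈ X, d * g ∈ X}
      mul_mem' := fun {a b} ha hb g hg => by rw [mul_assoc]; exact ha _ (hb g hg)
      one_mem' := fun g hg => by rwa [one_mul]
      inv_mem' := fun {a} ha g hg => by
        have hpow : ∀ k : ℕ, ∀ g ∈ X, a ^ k * g ∈ X := by
          intro k
          induction k with
          | zero => intro g hg; simpa using hg
          | succ k ih => intro g hg; rw [pow_succ, mul_assoc]; exact ih _ (ha g hg)
        have : a⁻¹ = a ^ (orderOf a - 1) := by
          rw [inv_eq_iff_mul_eq_one, ← pow_succ', Nat.sub_add_cancel (orderOf_pos a), pow_orderOf_eq_one]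
        rw [this]; exact hpow _ g hg }
  have hDn : D.Normal := ⟨fun a ha c g hg => by
    have hX : ∀ (c g : G), g ∈ X → c * g * c⁻¹ ∈ X := fun c g hg => by
      show (orderOf (c * g * c⁻¹)).Coprime p
      rw [show c * g * c⁻¹ = MulAut.conj c g from rfl, MulEquiv.orderOf_eq]; exact hg
    have h := hX c _ (ha _ (hX c⁻¹ g hg))
    simpa [mul_assoc] using h⟩
  have hDcop : (Nat.card D).Coprime p := by
    rw [Nat.coprime_comm, (Fact.out : p.Prime).coprime_iff_not_dvd]
    intro hdvd
    obtain ⟨x, hx⟩ := exists_prime_orderOf_dvd_card' (G := D) p hdvd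
    have := x.2 1 (by simp [X])
    rw [mul_one] at this
    simp only [X, Set.mem_setOf_eq, Subgroup.orderOf_coe, hx] at this
    exact (Fact.out : p.Prime).ne_one ((Nat.coprime_self p).mp this)
  exact le_sSup (s := {N : Subgroup G | N.Normal ∧ (Nat.card N).Coprime p}) ⟨hDn, hDcop⟩ (fun g hg => h g hg)

end Cfsg.Agent.S3815
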