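import Cfsg.Statements.S3816
import Cfsg.Agent.LocalFlavell.CommutatorFixedCentral
-- import your own Cfsg.Agent.* helpers here

set_option autoImplicit false
open Cfsg

namespace Cfsg.Agent.S3816

/-- Let p be an odd prime, H a finite solvable group of order prime to p, and x an automorphism of H of order p (so P = ⟨x⟩ has prime order p > 2 and acts coprimely on H). For h ∈ H let [h, P] be the subgroup generated by the commutators h⁻¹·xⁱ(h), and let [H, P] be the subgroup generated by all of these. Then the fixed points of x in [H, P] are generated by the fixed points of x in the subgroups [h, P], h ∈ H. -/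
theorem result {H : Type*} [Group H] [Finite H]
    [Group.IsSolvable H] {p : ℕ} [Fact p.Prime] (hp : p ≠ 2) (hcop : (Nat.card H).Coprime p)
    (x : MulAut H) (hx : orderOf x = p) :
    Subgroup.closure {c : H | ∃ h : H, ∃ i : ℕ, c = h⁻¹ * (x ^ i) h} ⊓ (x : H →* H).eqLocus (MonoidHom.id H) =
      ⨆ h : H, Subgroup.closure {c : H | ∃ i : ℕ, c = h⁻¹ * (x ^ i) h} ⊓ (x : H →* H).eqLocus (MonoidHom.id H) := by
  classical
  let φ : ↥(Subgroup.zpowers x) →* MulAut H := (Subgroup.zpowers x).subtype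
  let X₀ : ↥(Subgroup.zpowers x) := ⟨x, Subgroup.mem_zpowers x⟩
  have : Finite (SemidirectProduct H ↥(Subgroup.zpowers x) φ) := Finite.of_equiv _ SemidirectProduct.equivProd.symm
  let ι : H →* SemidirectProduct H ↥(Subgroup.zpowers x) φ := SemidirectProduct.inl
  set y : SemidirectProduct H ↥(Subgroup.zpowers x) φ := SemidirectProduct.inr X₀ with hy
  set X : Subgroup _ := Subgroup.zpowers y with hX
  have hι : Function.Injective ι := SemidirectProduct.inl_injective
  have hact : ∀ (i : ℕ) (h : H), y ^ i * ι h * (y ^ i)⁻¹ = ι ((x ^ i) h) := by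
    intro i h
    rw [hy, ← map_pow, ← map_inv]
    exact (SemidirectProduct.inl_aut (φ := φ) (X₀ ^ i) h).symm.trans (congrArg ι rfl)
  have hgen : ∀ (i : ℕ) (h : H),
      (ι h)⁻¹ * y ^ i * ι h * (y ^ i)⁻¹ = ι (h⁻¹ * (x ^ i) h) := by
    intro i h
    rw [map_mul, map_inv, ← hact i h]; group
  have hfix : ∀ c : H, ι c ∈ Subgroup.centralizer (X : Set _) ↔ x c = c := by
    intro c
    rw [hX, LocalFlavell.CommutatorFixed.mem_cent]
    have h1 := hact 1 c
    rw [pow_one, pow_one] at h1
    rw [← mul_inv_eq_iff_eq_mul, h1]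
    exact ⟨fun h => hι h, fun h => by rw [h]⟩
  set K : Subgroup (SemidirectProduct H ↥(Subgroup.zpowers x) φ) := ι.range with hK
  have hKn : K.Normal := by
    rw [hK]; show (SemidirectProduct.inl : H →* SemidirectProduct H ↥(Subgroup.zpowers x) φ).range.Normal
    rw [SemidirectProduct.range_inl_eq_ker_rightHom]; infer_instance
  have hyK : y ∈ Subgroup.normalizer (K : Set _) := Subgroup.le_normalizer_of_normal (Subgroup.mem_top y)
  have hyo : orderOf y = p := by
    rw [hy, orderOf_injective _ SemidirectProduct.inr_injective, ← hx]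
    exact (orderOf_injective (Subgroup.zpowers x).subtype Subtype.coe_injective X₀).symm
  have hKc : Nat.card K = Nat.card H := (Nat.card_congr (MonoidHom.ofInjective hι).toEquiv).symm
  have hKsol : Group.IsSolvable K := Group.isSolvable_of_surjective ι.rangeRestrict_surjective
  have hKp : ¬ p ∣ Nat.card K := by
    rw [hKc]; exact (Fact.out : p.Prime).coprime_iff_not_dvd.mp hcop.symm
  have hmain := LocalFlavell.CommutatorFixed.commutator_inf_centralizer_le (Nat.card K) y K le_rfl hyo hp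
    hyK hKsol hKp
  refine le_antisymm ?_ (iSup_le fun h => inf_le_inf_right _ (Subgroup.closure_mono
    (fun c ⟨i, hi⟩ => ⟨h, i, hi⟩)))
  intro c hc
  obtain ⟨hc1, hc2⟩ := Subgroup.mem_inf.mp hc
  have hmem : ι c ∈ ⁅K, Subgroup.zpowers y⁆ := by
    refine (Subgroup.closure_le (K := (⁅K, Subgroup.zpowers y⁆).comap ι)).mpr ?_ hc1
    rintro _ ⟨h, i, rfl⟩
    rw [SetLike.mem_coe, Subgroup.mem_comap, ← hgen i h]
    exact LocalFlavell.CommutatorFixed.D_le_commutator (MonoidHom.mem_range.mpr ⟨h, rfl⟩ : ι h ∈ K) (LocalFlavell.CommutatorFixed.mem_D y (ι h) i)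
  have hT := hmain (Subgroup.mem_inf.mpr ⟨hmem, (hfix c).mpr hc2⟩)
  have hle : LocalFlavell.CommutatorFixed.T y K ≤ (⨆ h : H, Subgroup.closure {c : H | ∃ i : ℕ, c = h⁻¹ * (x ^ i) h} ⊓
      (x : H →* H).eqLocus (MonoidHom.id H)).map ι := by
    refine iSup₂_le ?_
    rintro _ ⟨h, rfl⟩
    intro d hd
    obtain ⟨hd1, hd2⟩ := Subgroup.mem_inf.mp hd
    have hD : LocalFlavell.CommutatorFixed.D y (ι h) ≤
        (Subgroup.closure {c : H | ∃ i : ℕ, c = h⁻¹ * (x ^ i) h}).map ι := by
      refine (Subgroup.closure_le _).mpr ?_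
      rintro _ ⟨i, rfl⟩
      exact ⟨h⁻¹ * (x ^ i) h, Subgroup.subset_closure ⟨i, rfl⟩, (hgen i h).symm⟩
    obtain ⟨e, he, rfl⟩ := hD hd1
    exact ⟨e, le_iSup (fun h : H => Subgroup.closure {c : H | ∃ i : ℕ, c = h⁻¹ * (x ^ i) h} ⊓
      (x : H →* H).eqLocus (MonoidHom.id H)) h (Subgroup.mem_inf.mpr ⟨he, (hfix e).mp hd2⟩), rfl⟩
  obtain ⟨e, he, hec⟩ := hle hT
  rwa [hι hec] at he

end Cfsg.Agent.S3816
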