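import Cfsg.Statements.S3818
import Cfsg.Agent.LocalFlavell.HalfFixed.Main

set_option autoImplicit false
open Cfsg

namespace Cfsg.Agent.S3818

/-- Let G be a finite solvable group and P a subgroup of G of prime order p > 3 whose conjugates generate G. Let V be a faithful irreducible representation of G over a field of positive characteristic, finite-dimensional. Then the subspace of V fixed by P has dimension less than half the dimension of V. -/
theorem result {G : Type*} [Group G] [Finite G] [Group.IsSolvable G]
    {p : ℕ} [Fact p.Prime] (hp : 3 < p) (P : Subgroup G) (hP : Nat.card P = p) (hgen : Subgroup.normalClosure (P : Set G) = ⊤)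
    {k : Type*} [Field k] (ℓ : ℕ) [Fact ℓ.Prime] [CharP k ℓ]
    {V : Type*} [AddCommGroup V] [Module k V] [FiniteDimensional k V]
    (ρ : Representation k G V) [ρ.IsIrreducible] (hfaith : Function.Injective ρ) :
    2 * Module.finrank k ↥(⨅ g : ↥P, LinearMap.ker (ρ (g : G) - LinearMap.id)) < Module.finrank k V := by
  obtain ⟨x, hxP, hx1⟩ : ∃ x ∈ P, x ≠ 1 := by
    by_contra h
    push Not at h
    have h1 : P = ⊥ := (Subgroup.eq_bot_iff_forall _).mpr h
    rw [h1, Subgroup.card_bot] at hP
    omega
  have hxp : x ^ p = 1 := by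
    rw [← hP]
    exact congrArg Subtype.val (pow_card_eq_one' (x := (⟨x, hxP⟩ : P)))
  have hPz : P = Subgroup.zpowers x := by
    refine (Subgroup.eq_of_le_of_card_ge (Subgroup.zpowers_le.mpr hxP) ?_).symm
    rw [hP, Nat.card_zpowers, orderOf_eq_prime hxp hx1]
  have : IsSimpleOrder (Subrepresentation ρ) := inferInstance
  haveI : Nontrivial V := by
    by_contra hV
    haveI := not_nontrivial_iff_subsingleton.mp hV
    obtain ⟨a, b, hab⟩ := exists_pair_ne (Subrepresentation ρ)
    refine hab (Subrepresentation.toSubmodule_injective ?_)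
    ext v
    simp [Subsingleton.elim v 0]
  have S : LocalFlavell.HalfFixed.Setup p x ρ :=
    { hp := hp
      xp := hxp
      gen := fun N hN hxN => top_le_iff.mp (hgen.ge.trans (Subgroup.normalClosure_le_normal
        (by rw [hPz]; exact SetLike.coe_subset_coe.mpr (Subgroup.zpowers_le.mpr hxN))))
      faithful := hfaith
      irr := fun W hW => by
        rcases eq_bot_or_eq_top (⟨W, fun g v hv => hW g v hv⟩ : Subrepresentation ρ) with h | h
        · exact Or.inl (congrArg Subrepresentation.toSubmodule h)
        · exact Or.inr (congrArg Subrepresentation.toSubmodule h)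
      ne := hx1 }
  have heq : (⨅ g : ↥P, LinearMap.ker (ρ (g : G) - LinearMap.id)) = LocalFlavell.HalfFixed.fixed ρ x := by
    refine le_antisymm (iInf_le (fun g : ↥P => LinearMap.ker (ρ (g : G) - LinearMap.id)) ⟨x, hxP⟩)
      (le_iInf fun g v hv => ?_)
    obtain ⟨m, hm⟩ := (Submonoid.mem_powers_iff _ _).mp
      (mem_powers_iff_mem_zpowers.mpr (hPz.le g.2))
    rw [LinearMap.mem_ker, LinearMap.sub_apply, LinearMap.id_apply, sub_eq_zero, ← hm, map_pow]
    rw [LocalFlavell.HalfFixed.mem_fixed] at hv
    clear hm
    induction m with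
    | zero => rfl
    | succ m ih => rw [pow_succ, Module.End.mul_apply, hv, ih]
  rw [heq]
  exact LocalFlavell.HalfFixed.half inferInstance S

end Cfsg.Agent.S3818
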