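import Cfsg.Statements.S3820
import Mathlib

set_option autoImplicit false
open Cfsg
open scoped commutatorElement

namespace Cfsg.Agent.S3820

/-- Call a subgroup H of G pronormal if H and gHg⁻¹ are conjugate inside ⟨H, gHg⁻¹⟩ for every g ∈ G. Let S ≤ H ≤ G be subgroups of a finite group with S pronormal in G (for instance S a Sylow subgroup). Then H is pronormal in G if and only if H and gHg⁻¹ are conjugate inside ⟨H, gHg⁻¹⟩ for every g ∈ N_G(S). In particular H is pronormal whenever N_G(S) ≤ H. -/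
theorem result {G : Type*} [Group G] [Finite G] (S H : Subgroup G) (hSH : S ≤ H)
    (hS : Cfsg.IsPronormal S) :
    Cfsg.IsPronormal H ↔
      ∀ g ∈ Subgroup.normalizer (S : Set G), ∃ w ∈ H ⊔ H.map (MulAut.conj g).toMonoidHom,
        H.map (MulAut.conj g).toMonoidHom = H.map (MulAut.conj w).toMonoidHom := by
  constructor
  · intro h g _; exact h g
  intro h g
  obtain ⟨x, hx, hSx⟩ := hS g
  have hxJ : x ∈ H ⊔ H.map (MulAut.conj g).toMonoidHom := sup_le_sup hSH (Subgroup.map_mono hSH) hx
  have hmap : ∀ (a b : G) (K : Subgroup G), K.map (MulAut.conj (a * b)).toMonoidHom =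
      (K.map (MulAut.conj b).toMonoidHom).map (MulAut.conj a).toMonoidHom := by
    intro a b K; rw [map_mul, Subgroup.map_map]; rfl
  have hone : ∀ K : Subgroup G, K.map (MulAut.conj (1 : G)).toMonoidHom = K := by
    intro K; rw [map_one]; exact Subgroup.map_id K
  set n := x⁻¹ * g with hn
  have hnS : n ∈ Subgroup.normalizer (S : Set G) := by
    have : S.map (MulAut.conj n).toMonoidHom = S := by
      rw [hmap, hSx, ← hmap, inv_mul_cancel, hone]
    rw [Subgroup.mem_normalizer_iff]
    intro y
    constructor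
    · intro hy; rw [← this]; exact ⟨y, hy, rfl⟩
    · intro hy
      rw [← this] at hy
      obtain ⟨z, hz, hze⟩ := hy
      exact (MulAut.conj n).injective hze ▸ hz
  obtain ⟨w, hw, hHw⟩ := h n hnS
  have hsub : H ⊔ H.map (MulAut.conj n).toMonoidHom ≤ H ⊔ H.map (MulAut.conj g).toMonoidHom := by
    refine sup_le le_sup_left ?_
    rintro _ ⟨a, ha, rfl⟩
    have : g * a * g⁻¹ ∈ H ⊔ H.map (MulAut.conj g).toMonoidHom := Subgroup.mem_sup_right ⟨a, ha, rfl⟩
    have := mul_mem (mul_mem (inv_mem hxJ) this) hxJ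
    simpa [hn, mul_assoc] using this
  refine ⟨x * w, mul_mem hxJ (hsub hw), ?_⟩
  rw [hmap x w, ← hHw, ← hmap]
  simp [hn]

end Cfsg.Agent.S3820
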