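import Cfsg.Statements.S3821
import Mathlib

set_option autoImplicit false
open Cfsg
open scoped commutatorElement

namespace Cfsg.Agent.S3821

/-- Let A be a normal subgroup of the finite group G and H a subgroup of A. Then H is pronormal in G (H and gHg⁻¹ conjugate inside ⟨H, gHg⁻¹⟩ for every g ∈ G) if and only if H is pronormal in A and G = A · N_G(H). -/
theorem result {G : Type*} [Group G] [Finite G] (A H : Subgroup G) [A.Normal] (hHA : H ≤ A) :
    Cfsg.IsPronormal H ↔ (Cfsg.IsPronormal (H.subgroupOf A) ∧ A ⊔ Subgroup.normalizer (H : Set G) = ⊤) := by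
  have hsup : ∀ a : A, (H.subgroupOf A ⊔ (H.subgroupOf A).map (MulAut.conj a).toMonoidHom).map A.subtype =
      H ⊔ H.map (MulAut.conj (a : G)).toMonoidHom := by
    intro a
    rw [Subgroup.map_sup, Subgroup.map_map]
    congr 1
    · exact Subgroup.map_subgroupOf_eq_of_le hHA
    · conv_rhs => rw [← Subgroup.map_subgroupOf_eq_of_le hHA, Subgroup.map_map]
      rfl
  have hmap : ∀ a : A, ((H.subgroupOf A).map (MulAut.conj a).toMonoidHom).map A.subtype =
      H.map (MulAut.conj (a : G)).toMonoidHom := by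
    intro a
    rw [Subgroup.map_map]
    conv_rhs => rw [← Subgroup.map_subgroupOf_eq_of_le hHA, Subgroup.map_map]
    rfl
  have hle : ∀ g : G, H ⊔ H.map (MulAut.conj g).toMonoidHom ≤ A := fun g =>
    sup_le hHA (by rintro _ ⟨a, ha, rfl⟩; exact ‹A.Normal›.conj_mem a (hHA ha) g)
  constructor
  · intro h
    refine ⟨fun a => ?_, eq_top_iff.mpr fun g _ => ?_⟩
    · obtain ⟨x, hx, he⟩ := h a
      refine ⟨⟨x, hle _ hx⟩, ?_, ?_⟩
      · rw [← hsup a] at hx
        obtain ⟨y, hy, hye⟩ := hx
        rwa [show (⟨x, hle _ (by rw [← hsup a]; exact ⟨y, hy, hye⟩)⟩ : A) = y from Subtype.ext hye.symm]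
      · apply Subgroup.map_injective A.subtype_injective
        rw [hmap, hmap, he]
    · obtain ⟨x, hx, he⟩ := h g
      have hn : x⁻¹ * g ∈ Subgroup.normalizer (H : Set G) := by
        have : H.map (MulAut.conj (x⁻¹ * g)).toMonoidHom = H := by
          have h2 : ∀ a b : G, H.map (MulAut.conj (a * b)).toMonoidHom =
              (H.map (MulAut.conj b).toMonoidHom).map (MulAut.conj a).toMonoidHom := by
            intro a b; rw [map_mul, Subgroup.map_map]; rfl
          rw [h2, he, ← h2, inv_mul_cancel, map_one]; exact Subgroup.map_id H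
        rw [Subgroup.mem_normalizer_iff]
        intro y
        constructor
        · intro hy; rw [← this]; exact ⟨y, hy, rfl⟩
        · intro hy
          rw [← this] at hy
          obtain ⟨z, hz, hze⟩ := hy
          exact (MulAut.conj (x⁻¹ * g)).injective hze ▸ hz
      have := Subgroup.mul_mem _ (Subgroup.mem_sup_left (T := Subgroup.normalizer (H : Set G)) (hle g hx)) (Subgroup.mem_sup_right hn)
      rwa [mul_inv_cancel_left] at this
  · rintro ⟨h, htop⟩ g
    obtain ⟨a, ha, n, hn, rfl⟩ := Subgroup.mem_sup_of_normal_left.mp (show g ∈ A ⊔ Subgroup.normalizer (H : Set G) from htop ▸ Subgroup.mem_top g)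
    have hHn : H.map (MulAut.conj n).toMonoidHom = H := by
      ext y
      constructor
      · rintro ⟨z, hz, rfl⟩; exact (Subgroup.mem_normalizer_iff.mp hn z).mp hz
      · intro hy; exact ⟨n⁻¹ * y * n, (Subgroup.mem_normalizer_iff''.mp hn y).mp hy, by simp [mul_assoc]⟩
    have hg : H.map (MulAut.conj (a * n)).toMonoidHom = H.map (MulAut.conj a).toMonoidHom := by
      rw [map_mul]
      conv_rhs => rw [← hHn, Subgroup.map_map]
      rfl
    obtain ⟨x, hx, he⟩ := h ⟨a, ha⟩
    refine ⟨x, ?_, ?_⟩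
    · rw [hg, ← hsup ⟨a, ha⟩]; exact ⟨x, hx, rfl⟩
    · rw [hg, ← hmap ⟨a, ha⟩, he, hmap]

end Cfsg.Agent.S3821
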