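import Cfsg.Statements.S3822
import Cfsg.Agent.LocalFlavell.FittingTimes.Core
import Cfsg.Agent.Lib.Cores.Fitting
import Cfsg.Agent.Lib.Coprime.OmegaDetect

set_option autoImplicit false
open Cfsg

namespace Cfsg.Agent.S3822

/-- Let G be a finite group and P a subgroup of prime order p > 3. Consider the solvable subgroups A of G of the form A = ⟨P, aPa⁻¹⟩ for some a ∈ A, and let A be maximal under inclusion among them. Then for every nilpotent subgroup V of G normalized by A, the subgroup F(A)V generated by the Fitting subgroup of A and V is nilpotent. -/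
theorem result {G : Type*} [Group G] [Finite G]
    {p : ℕ} [Fact p.Prime] (hp : 3 < p) (P : Subgroup G) (hP : Nat.card P = p) (A : Subgroup G)
    (hA : Group.IsSolvable ↥A ∧ ∃ a ∈ A, A = P ⊔ P.map (MulAut.conj a).toMonoidHom)
    (hmax : ∀ B : Subgroup G, A ≤ B → Group.IsSolvable ↥B → (∃ b ∈ B, B = P ⊔ P.map (MulAut.conj b).toMonoidHom) → B = A)
    (V : Subgroup G) (hV : Group.IsNilpotent ↥V) (hAV : A ≤ Subgroup.normalizer (V : Set G)) :
    Group.IsNilpotent ↥((Cfsg.fittingSubgroup ↥A).map A.subtype ⊔ V) := by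
  obtain ⟨hsol, a, ha, hAeq⟩ := hA
  let ι := (Nat.card G).primeFactors
  let Xc : ι → Subgroup G := fun r => (Cfsg.pCore (r : ℕ) A).map A.subtype
  let Yc : ι → Subgroup G := fun r => (Cfsg.pCore (r : ℕ) V).map V.subtype
  haveI hfact : ∀ r : ι, Fact (r : ℕ).Prime := fun r => ⟨Nat.prime_of_mem_primeFactors r.2⟩
  have hVtop : Cfsg.fittingSubgroup V = ⊤ := Cores.fittingSubgroup_eq_top_iff.mpr hV
  have hsub : ∀ (H : Subgroup G), (Cfsg.fittingSubgroup H).map H.subtype ≤
      ⨆ r : ι, (Cfsg.pCore (r : ℕ) H).map H.subtype := by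
    intro H
    rw [Cores.fittingSubgroup_eq_iSup, Subgroup.map_iSup]
    refine iSup_le fun r => ?_
    have hr := r.2
    rw [Nat.mem_primeFactors] at hr
    exact le_iSup (fun r : ι => (Cfsg.pCore (r : ℕ) H).map H.subtype) ⟨r,
      hr.1.mem_primeFactors (hr.2.1.trans H.card_subgroup_dvd_card) Nat.card_pos.ne'⟩
  have hchar : ∀ (H : Subgroup G) (r : ι), Subgroup.normalizer (H : Set G) ≤
      Subgroup.normalizer (((Cfsg.pCore (r : ℕ) H).map H.subtype : Subgroup G) : Set G) :=
    fun H r => Coprime.OmegaDetect.normalizer_le_normalizer_char H _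
  have hXp : ∀ r : ι, IsPGroup (r : ℕ) (Xc r) := fun r => (Cores.pCore_isPGroup _).map A.subtype
  have hYp : ∀ r : ι, IsPGroup (r : ℕ) (Yc r) := fun r => (Cores.pCore_isPGroup _).map V.subtype
  have hAY : ∀ r : ι, A ≤ Subgroup.normalizer (Yc r : Set G) := fun r => hAV.trans (hchar V r)
  have hXY : ∀ r q : ι, r ≠ q → Xc r ≤ Subgroup.centralizer (Yc q : Set G) := fun r q hne => by
    refine LocalFlavell.FittingTimes.centralize hp (fun h => hne (Subtype.ext h)) hP hsol ha hAeq hmax
      (Subgroup.map_subtype_le _) (hXp r) (Subgroup.le_normalizer.trans (hchar A r)) (hYp q) (hAY q)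
      fun D hD hDq hAD => ?_
    haveI : (D.subgroupOf A).Normal := (Subgroup.normal_subgroupOf_iff_le_normalizer hD).mpr hAD
    have h1 : D.subgroupOf A ≤ Cfsg.pCore (q : ℕ) A :=
      Cores.le_pCore (hDq.of_equiv (Subgroup.subgroupOfEquivOfLe hD).symm)
    rintro _ ⟨s, hs, rfl⟩
    exact Subgroup.mem_centralizer_iff.mpr fun d hd => (congrArg Subtype.val
      (Cores.pCore_commute (fun h => hne (Subtype.ext h)) hs
        (h1 (show (⟨d, hD hd⟩ : A) ∈ D.subgroupOf A from hd))).eq).symm
  let R : ι → Subgroup G := fun r => Xc r ⊔ Yc r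
  haveI hn : ∀ r, Group.IsNilpotent (R r) := fun r =>
    ((hXp r).to_sup_of_normal_right' (hYp r) ((Subgroup.map_subtype_le _).trans (hAY r))).isNilpotent
  have hcent : ∀ r q : ι, r ≠ q → R r ≤ Subgroup.centralizer (R q : Set G) := fun r q hne => by
    have hs : ∀ (H : Subgroup G), (Cfsg.pCore (r : ℕ) H).map H.subtype ≤
        Subgroup.centralizer (((Cfsg.pCore (q : ℕ) H).map H.subtype : Subgroup G) : Set G) := by
      rintro H _ ⟨s, hs, rfl⟩
      refine Subgroup.mem_centralizer_iff.mpr ?_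
      rintro _ ⟨d, hd, rfl⟩
      exact (congrArg Subtype.val (Cores.pCore_commute (fun h => hne (Subtype.ext h)) hs hd).eq).symm
    refine sup_le (Subgroup.le_centralizer_iff.mpr (sup_le ?_ ?_))
      (Subgroup.le_centralizer_iff.mpr (sup_le ?_ ?_))
    · exact Subgroup.le_centralizer_iff.mp (hs A)
    · exact Subgroup.le_centralizer_iff.mp (hXY r q hne)
    · exact hXY q r (Ne.symm hne)
    · exact Subgroup.le_centralizer_iff.mp (hs V)
  have hcomm : Pairwise fun r q => ∀ g h : G, g ∈ R r → h ∈ R q → Commute g h :=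
    fun r q hne g h hg hh => (Subgroup.mem_centralizer_iff.mp (hcent r q hne hg) h hh).symm
  have hR : Group.IsNilpotent ↥(⨆ r, R r) := by
    rw [← Subgroup.noncommPiCoprod_range (hcomm := hcomm)]
    exact Group.nilpotent_of_surjective _ (MonoidHom.rangeRestrict_surjective _)
  refine Cores.isNilpotent_to_le (sup_le ((hsub A).trans (iSup_mono fun r => le_sup_left)) ?_) hR
  have h := hsub V
  rw [hVtop, ← MonoidHom.range_eq_map, Subgroup.range_subtype] at h
  exact h.trans (iSup_mono fun r => le_sup_right)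

end Cfsg.Agent.S3822
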