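import Cfsg.Statements.S3824
import Mathlib
import Cfsg.Agent.Lib.Characters.Burnside
import Cfsg.Agent.Lib.Coprime.Basic
import Cfsg.Agent.Lib.Cores.Basic

set_option autoImplicit false
open Cfsg
open scoped commutatorElement

namespace Cfsg.Agent.S3824
universe u

theorem aux : ∀ (n : ℕ) (G : Type u) [Group G] [Finite G], Nat.card G < n → ∀ A : Subgroup G,
    IsMulCommutative A → (∃ k : ℕ, A.index = 2 ^ k) → Group.IsSolvable G := by
  intro n
  induction n with
  | zero => intro G _ _ h; omega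
  | succ n ih =>
    intro G _ _ hn A hA ⟨k, hk⟩
    haveI : Fact (Nat.Prime 2) := ⟨Nat.prime_two⟩
    by_cases hA1 : A = ⊥
    · subst hA1
      rw [Subgroup.index_bot] at hk
      exact Cfsg.Agent.Coprime.isSolvable_of_isPGroup (IsPGroup.of_card hk)
    obtain ⟨a, haA, ha1⟩ := (Subgroup.ne_bot_iff_exists_ne_one).mp hA1 |> fun ⟨x, hx⟩ => (⟨x.1, x.2, fun h => hx (Subtype.ext h)⟩ : ∃ a, a ∈ A ∧ a ≠ 1)
    have hAC : A ≤ Subgroup.centralizer ({a} : Set G) := fun b hb => by
      rw [Subgroup.mem_centralizer_singleton_iff]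
      exact congrArg Subtype.val (hA.is_comm.comm ⟨b, hb⟩ ⟨a, haA⟩)
    obtain ⟨j, -, hj⟩ := (Nat.dvd_prime_pow Nat.prime_two).mp (hk ▸ Subgroup.index_dvd_of_le hAC)
    by_cases hS : IsSimpleGroup G
    · have hp := Cfsg.Agent.Characters.simple_prime_power_class Nat.prime_two ha1 hj
      haveI : Fact (Nat.card G).Prime := ⟨hp⟩
      exact Cfsg.Agent.Coprime.isSolvable_of_isPGroup (IsPGroup.of_card (pow_one (Nat.card G)).symm)
    haveI : Nontrivial G := ⟨⟨a, 1, ha1⟩⟩
    obtain ⟨N, hN, hN0, hN1⟩ : ∃ N : Subgroup G, N.Normal ∧ N ≠ ⊥ ∧ N ≠ ⊤ := by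
      by_contra hc
      push_neg at hc
      exact hS ⟨fun H hH => or_iff_not_imp_left.mpr (hc H hH)⟩
    haveI := hN
    have hNlt : Nat.card N < Nat.card G := by
      have h1 := N.card_mul_index
      have h2 : 1 < N.index := Nat.lt_of_le_of_ne (Nat.one_le_iff_ne_zero.mpr Subgroup.index_ne_zero_of_finite) fun h => hN1 (Subgroup.index_eq_one.mp h.symm)
      have h3 : 0 < Nat.card N := Nat.card_pos
      nlinarith
    have hQlt : Nat.card (G ⧸ N) < Nat.card G := by
      rw [← Subgroup.index_eq_card, ← N.card_mul_index]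
      have h2 : 1 < Nat.card N := Subgroup.one_lt_card_iff_ne_bot N |>.mpr hN0
      have h3 : 0 < N.index := Nat.pos_of_ne_zero Subgroup.index_ne_zero_of_finite
      nlinarith
    have hsN : Group.IsSolvable N := by
      refine ih N (by omega) (A.subgroupOf N) ?_ ?_
      · exact ⟨⟨fun x y => Subtype.ext (Subtype.ext (congrArg Subtype.val (hA.is_comm.comm ⟨x.1.1, Subgroup.mem_subgroupOf.mp x.2⟩ ⟨y.1.1, Subgroup.mem_subgroupOf.mp y.2⟩) :))⟩⟩
      · have hdvd : A.relIndex N ∣ A.index := by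
          have h2 := Cfsg.Agent.Cores.card_sup_mul_card_inf A N
          have h5 : A.relIndex N * Nat.card ↥(A ⊓ N) = Nat.card N := by
            rw [← Subgroup.inf_relIndex_right A N, mul_comm, ← Subgroup.relIndex_bot_left, ← Subgroup.relIndex_bot_left]
            exact Subgroup.relIndex_mul_relIndex ⊥ (A ⊓ N) N bot_le inf_le_right
          obtain ⟨c, hc⟩ := Subgroup.card_subgroup_dvd_card (A ⊔ N)
          refine ⟨c, Nat.eq_of_mul_eq_mul_left (Nat.card_pos : 0 < Nat.card A) ?_⟩
          calc Nat.card A * A.index = Nat.card ↥(A ⊔ N) * c := by rw [A.card_mul_index, hc]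
            _ = Nat.card A * (A.relIndex N * c) := by
              apply Nat.eq_of_mul_eq_mul_right (Nat.card_pos : 0 < Nat.card ↥(A ⊓ N))
              calc Nat.card ↥(A ⊔ N) * c * Nat.card ↥(A ⊓ N) = Nat.card ↥(A ⊔ N) * Nat.card ↥(A ⊓ N) * c := by ring
                _ = Nat.card A * (A.relIndex N * Nat.card ↥(A ⊓ N)) * c := by rw [h2, h5]
                _ = Nat.card A * (A.relIndex N * c) * Nat.card ↥(A ⊓ N) := by ring
        obtain ⟨i, -, hi⟩ := (Nat.dvd_prime_pow Nat.prime_two).mp (hk ▸ hdvd)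
        exact ⟨i, hi⟩
    have hsQ : Group.IsSolvable (G ⧸ N) := by
      refine ih (G ⧸ N) (by omega) (A.map (QuotientGroup.mk' N)) ?_ ?_
      · exact ⟨⟨by
          rintro ⟨_, x, hx, rfl⟩ ⟨_, y, hy, rfl⟩
          exact Subtype.ext (by
            show QuotientGroup.mk' N x * QuotientGroup.mk' N y = QuotientGroup.mk' N y * QuotientGroup.mk' N x
            rw [← map_mul, ← map_mul, congrArg Subtype.val (hA.is_comm.comm ⟨x, hx⟩ ⟨y, hy⟩) |> fun e => (show x * y = y * x from e)])⟩⟩
      · have := A.index_map_dvd (QuotientGroup.mk'_surjective N)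
        obtain ⟨i, -, hi⟩ := (Nat.dvd_prime_pow Nat.prime_two).mp (hk ▸ this)
        exact ⟨i, hi⟩
    haveI := hsN; haveI := hsQ
    exact Group.isSolvable_of_ker_le_range N.subtype (QuotientGroup.mk' N) (by simp)


/-- Every finite group having an abelian subgroup whose index is a power of 2 is solvable. -/
theorem result {G : Type*} [Group G] [Finite G]
    (A : Subgroup G) (hA : IsMulCommutative A) (hidx : ∃ k : ℕ, A.index = 2 ^ k) : Group.IsSolvable G := by
  exact aux _ G (Nat.lt_succ_self _) A hA hidx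

end Cfsg.Agent.S3824
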