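import Cfsg.Statements.S3825
import Mathlib

set_option autoImplicit false
open Cfsg
open scoped commutatorElement

namespace Cfsg.Agent.S3825

/-- Let U be a subgroup of a finite group H and w an involution of H normalizing U and commuting with exactly two elements of U, the identity and y. If V is a non-cyclic elementary abelian 2-subgroup of U containing y which is normal in U and invariant under w, then V is a Sylow 2-subgroup of U, V has order 4, and U/V is abelian. -/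
theorem result {H : Type*} [Group H] [Finite H] (U : Subgroup H) (w : H) (hw : orderOf w = 2)
    (hwU : w ∈ Subgroup.normalizer (U : Set H)) (y : H) (hy : y ≠ 1) (hyU : y ∈ U)
    (hfix : ∀ u ∈ U, w * u * w⁻¹ = u ↔ (u = 1 ∨ u = y))
    (V : Subgroup H) (hVU : V ≤ U) (hVn : (V.subgroupOf U).Normal) (hVw : ∀ v ∈ V, w * v * w⁻¹ ∈ V)
    (hVe : Cfsg.IsElementaryAbelian 2 V) (hVc : ¬ IsCyclic ↥V) (hyV : y ∈ V) :
    ¬ 2 ∣ V.relIndex U ∧ Nat.card ↥V = 4 ∧ ⁅U, U⁆ ≤ V := by
  classical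
  have hw2 : w * w = 1 := by rw [← sq, ← hw]; exact pow_orderOf_eq_one w
  have hwi : w⁻¹ = w := inv_eq_of_mul_eq_one_right hw2
  have hcc : ∀ u : H, w * (w * u * w⁻¹) * w⁻¹ = u := by
    intro u
    calc w * (w * u * w⁻¹) * w⁻¹ = (w * w) * u * (w⁻¹ * w⁻¹) := by group
      _ = u := by rw [hwi, hw2]; group
  have hconjU : ∀ u ∈ U, w * u * w⁻¹ ∈ U := fun u hu => (Subgroup.mem_normalizer_iff.mp hwU u).mp hu
  obtain ⟨hVc', hV2⟩ := hVe
  have hcm : ∀ a ∈ V, ∀ b ∈ V, a * b = b * a := fun a ha b hb => congrArg Subtype.val (hVc'.is_comm.comm ⟨a, ha⟩ ⟨b, hb⟩)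
  have hVinv : ∀ a ∈ V, a⁻¹ = a := fun a ha => inv_eq_of_mul_eq_one_right (by rw [← sq]; exact hV2 a ha)
  -- `v ↦ v * w v w⁻¹` on `V`
  let τ : ↥V →* ↥V :=
    { toFun := fun v => ⟨(v : H) * (w * v * w⁻¹), V.mul_mem v.2 (hVw v v.2)⟩
      map_one' := Subtype.ext (by simp)
      map_mul' := fun a b => Subtype.ext (by
        show (a : H) * b * (w * ((a : H) * b) * w⁻¹) = a * (w * a * w⁻¹) * (b * (w * b * w⁻¹))
        calc (a : H) * b * (w * ((a : H) * b) * w⁻¹) = a * ((b : H) * (w * a * w⁻¹)) * (w * b * w⁻¹) := by group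
          _ = a * ((w * a * w⁻¹) * b) * (w * b * w⁻¹) := by rw [hcm b b.2 _ (hVw a a.2)]
          _ = _ := by group) }
  have hmem : ∀ v : ↥V, v ∈ τ.ker ↔ ((v : H) = 1 ∨ (v : H) = y) := by
    intro v
    rw [MonoidHom.mem_ker, ← hfix v (hVU v.2), Subtype.ext_iff]
    show (v : H) * (w * v * w⁻¹) = 1 ↔ _
    constructor
    · intro h
      rw [← hVinv v v.2] at h ⊢
      exact (eq_inv_of_mul_eq_one_right h).trans (by rw [inv_inv, hVinv v v.2])
    · intro h; rw [h, ← sq]; exact hV2 v v.2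
  have hker : τ.ker = Subgroup.zpowers (⟨y, hyV⟩ : ↥V) := by
    refine le_antisymm (fun v hv => ?_) (Subgroup.zpowers_le.mpr ((hmem _).mpr (Or.inr rfl)))
    rcases (hmem v).mp hv with h | h
    · rw [show v = 1 from Subtype.ext h]; exact one_mem _
    · rw [show v = ⟨y, hyV⟩ from Subtype.ext h]; exact Subgroup.mem_zpowers _
  have hkc : Nat.card τ.ker = 2 := by
    rw [hker, Nat.card_zpowers, Subgroup.orderOf_mk]
    exact orderOf_eq_prime (hV2 y hyV) hy
  have hrange : τ.range ≤ τ.ker := by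
    rintro _ ⟨v, rfl⟩
    rw [MonoidHom.mem_ker, Subtype.ext_iff]
    show (v : H) * (w * v * w⁻¹) * (w * ((v : H) * (w * v * w⁻¹)) * w⁻¹) = 1
    have e : w * ((v : H) * (w * v * w⁻¹)) * w⁻¹ = (w * v * w⁻¹) * (w * (w * v * w⁻¹) * w⁻¹) := by group
    rw [e, hcc, ← hcm v v.2 _ (hVw v v.2), ← sq]
    exact hV2 _ (V.mul_mem v.2 (hVw v v.2))
  have hV4 : Nat.card ↥V = 4 := by
    have h1 := τ.ker.card_mul_index
    rw [Subgroup.index_ker, hkc] at h1
    have h2 : Nat.card τ.range ≤ 2 := hkc ▸ Subgroup.card_le_of_le hrange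
    have h3 : ¬ Nat.card ↥V ≤ 3 := by
      intro h
      apply hVc
      have h2' : 2 ∣ Nat.card ↥V := h1 ▸ dvd_mul_right _ _
      have hpos : 0 < Nat.card ↥V := Nat.card_pos
      haveI : Fact (Nat.Prime 2) := ⟨Nat.prime_two⟩
      exact isCyclic_of_prime_card (p := 2) (by omega)
    omega
  have hrange' : τ.range = τ.ker := by
    refine Subgroup.eq_of_le_of_card_ge hrange ?_
    have h1 := τ.ker.card_mul_index
    rw [Subgroup.index_ker, hkc, hV4] at h1
    omega
  -- the induced action on `U ⧸ V` is fixed point free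
  haveI := hVn
  let c : ↥U →* ↥U :=
    { toFun := fun u => ⟨w * u * w⁻¹, hconjU u u.2⟩
      map_one' := Subtype.ext (by simp)
      map_mul' := fun a b => Subtype.ext (by
        show w * ((a : H) * b) * w⁻¹ = w * a * w⁻¹ * (w * b * w⁻¹)
        group) }
  let σ : ↥U ⧸ V.subgroupOf U →* ↥U ⧸ V.subgroupOf U :=
    QuotientGroup.map _ _ c (fun u hu => hVw u hu)
  have hfpf : MonoidHom.FixedPointFree σ := by
    intro Q hQ
    obtain ⟨u, rfl⟩ := QuotientGroup.mk'_surjective _ Q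
    have hd : (u : H)⁻¹ * (w * u * w⁻¹) ∈ V := Subgroup.mem_subgroupOf.mp (QuotientGroup.eq.mp (show ((u : ↥U) : ↥U ⧸ V.subgroupOf U) = ((c u : ↥U) : ↥U ⧸ V.subgroupOf U) from hQ.symm))
    set d := (u : H)⁻¹ * (w * u * w⁻¹) with hdd
    have hdk : (⟨d, hd⟩ : ↥V) ∈ τ.range := by
      rw [hrange', MonoidHom.mem_ker, Subtype.ext_iff]
      show d * (w * d * w⁻¹) = 1
      have e : w * d * w⁻¹ = (w * u * w⁻¹)⁻¹ * (w * (w * u * w⁻¹) * w⁻¹) := by rw [hdd]; group
      rw [e, hcc, hdd]; group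
    obtain ⟨v, hv⟩ := hdk
    have hv' : (v : H) * (w * v * w⁻¹) = d := congrArg Subtype.val hv
    have hfx : w * ((u : H) * v) * w⁻¹ = u * v := by
      calc w * ((u : H) * v) * w⁻¹ = (u : H) * d * (w * v * w⁻¹) := by rw [hdd]; group
        _ = u * (v * ((w * v * w⁻¹) * (w * v * w⁻¹))) := by rw [← hv']; group
        _ = u * v := by rw [← sq, hV2 _ (hVw v v.2), mul_one]
    have huv : (u : H) * v ∈ V := by
      rcases (hfix _ (U.mul_mem u.2 (hVU v.2))).mp hfx with h | h <;> rw [h]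
      · exact one_mem _
      · exact hyV
    refine (QuotientGroup.eq_one_iff u).mpr (Subgroup.mem_subgroupOf.mpr ?_)
    have := V.mul_mem huv (V.inv_mem v.2)
    rwa [mul_inv_cancel_right] at this
  have hinvol : Function.Involutive σ := by
    intro Q
    obtain ⟨u, rfl⟩ := QuotientGroup.mk'_surjective _ Q
    show ((c (c u) : ↥U) : ↥U ⧸ V.subgroupOf U) = (u : ↥U ⧸ V.subgroupOf U)
    congr 1
    exact Subtype.ext (hcc u)
  refine ⟨?_, hV4, ?_⟩
  · have h := hfpf.odd_card_of_involutive hinvol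
    exact Nat.odd_iff.mp h |> fun h1 h2 => by
      have h3 : 2 ∣ Nat.card (↥U ⧸ V.subgroupOf U) := h2
      omega
  · refine Subgroup.commutator_le.mpr fun a ha b hb => ?_
    have h := hfpf.commute_all_of_involutive hinvol ((⟨a, ha⟩ : ↥U) : ↥U ⧸ V.subgroupOf U) ((⟨b, hb⟩ : ↥U) : ↥U ⧸ V.subgroupOf U)
    have h2 : ⁅(⟨a, ha⟩ : ↥U), ⟨b, hb⟩⁆ ∈ V.subgroupOf U := by
      rw [← QuotientGroup.eq_one_iff, ← QuotientGroup.mk'_apply, map_commutatorElement]
      exact commutatorElement_eq_one_iff_commute.mpr h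
    exact h2

end Cfsg.Agent.S3825
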