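import Cfsg.Statements.S3835
import Mathlib
import Cfsg.Agent.Techniques.SL2.Qd
import Cfsg.Agent.Lib.Classical.Linear

set_option autoImplicit false
open Cfsg
open scoped commutatorElement

namespace Cfsg.Agent.S3835
section
open Matrix
open scoped MatrixGroups
open Cfsg.Agent.Techniques.SL2.Qd
variable {p : ℕ} [Fact p.Prime]

abbrev Plane (p : ℕ) := {v : Fin 3 → ZMod p // v 2 = 1}

theorem qd_row {M : SL(3, ZMod p)} (hM : M ∈ Cfsg.qd p) : M.1 2 0 = 0 ∧ M.1 2 1 = 0 ∧ M.1 2 2 = 1 := by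
  obtain ⟨A, x, rfl⟩ := exists_aff_eq hM
  exact ⟨rfl, rfl, rfl⟩

noncomputable def act : ↥(Cfsg.qd p) →* Equiv.Perm (Plane p) :=
  MonoidHom.toHomPerm
    { toFun := fun M v => ⟨(M.1).1 *ᵥ v.1, by
        obtain ⟨h0, h1, h2⟩ := qd_row M.2
        simp [Matrix.mulVec, dotProduct, Fin.sum_univ_three, h0, h1, h2, v.2]⟩
      map_one' := by funext v; exact Subtype.ext (Matrix.one_mulVec v.1)
      map_mul' := fun M N => by funext v; exact Subtype.ext (Matrix.mulVec_mulVec v.1 M.1.1 N.1.1).symm }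

theorem act_apply (M : ↥(Cfsg.qd p)) (v : Plane p) : (act M v).1 = (M.1).1 *ᵥ v.1 := rfl

theorem act_injective : Function.Injective (act (p := p)) := by
  rw [injective_iff_map_eq_one]
  intro M hM
  obtain ⟨h0, h1, h2⟩ := qd_row M.2
  have h : ∀ a b : ZMod p, (M.1).1 *ᵥ ![a, b, 1] = ![a, b, 1] := fun a b => by
    rw [← act_apply M ⟨![a, b, 1], rfl⟩, hM]; rfl
  have e0 := h 0 0
  have e1 := h 1 0
  have e2 := h 0 1
  apply Subtype.ext; apply Subtype.ext
  have f00 := congrFun e0 0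
  have f01 := congrFun e0 1
  have f10 := congrFun e1 0
  have f11 := congrFun e1 1
  have f20 := congrFun e2 0
  have f21 := congrFun e2 1
  simp [Matrix.mulVec, dotProduct, Fin.sum_univ_three] at f00 f01 f10 f11 f20 f21
  rw [f00] at f10 f20; rw [f01] at f11 f21
  simp at f10 f11 f20 f21
  ext i j
  fin_cases i <;> fin_cases j <;> simp [h0, h1, h2, f00, f01, f10, f11, f20, f21]

theorem card_plane : Fintype.card (Plane p) = p ^ 2 := by
  rw [Fintype.card_congr (show Plane p ≃ ZMod p × ZMod p from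
    { toFun := fun v => (v.1 0, v.1 1)
      invFun := fun a => ⟨![a.1, a.2, 1], rfl⟩
      left_inv := fun v => Subtype.ext (by funext i; fin_cases i <;> simp [v.2])
      right_inv := fun a => by simp }), Fintype.card_prod, ZMod.card, sq]

def linHom : SL(2, ZMod p) →* ↥(Cfsg.qd p) :=
  MonoidHom.mk' (fun A => ⟨aff A 0, aff_mem_qd A 0⟩) fun A B => Subtype.ext (by
    show aff (A * B) 0 = aff A 0 * aff B 0
    rw [aff_mul]; simp)

theorem hom_trivial (hp : p ≠ 2) (χ : ↥(Cfsg.qd p) →* ℤˣ) (M : ↥(Cfsg.qd p)) : χ M = 1 := by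
  have hodd : Odd p := (Fact.out : p.Prime).odd_of_ne_two hp
  have kill : ∀ g : ↥(Cfsg.qd p), g ^ p = 1 → χ g = 1 := by
    intro g hg
    obtain ⟨m, hm⟩ := hodd
    have h1 : χ g ^ p = 1 := by rw [← map_pow, hg, map_one]
    have h2 : χ g ^ (2 * m + 1) = 1 := (congrArg (χ g ^ ·) hm.symm).trans h1
    rwa [pow_succ, pow_mul, Int.units_sq, one_pow, one_mul] at h2
  have hlin : ∀ A : SL(2, ZMod p), χ (linHom A) = 1 := by
    intro A
    suffices h : (χ.comp linHom).ker = ⊤ from (h.symm ▸ Subgroup.mem_top A : A ∈ (χ.comp linHom).ker)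
    refine Cfsg.Agent.Classical.Linear.eq_top_of_transvection_mem _ fun i j hij c => ?_
    show χ (linHom _) = 1
    apply kill
    rw [← map_pow]
    have : ∀ k : ℕ, (Matrix.SpecialLinearGroup.transvection hij c) ^ k = Matrix.SpecialLinearGroup.transvection hij ((k : ZMod p) * c) := by
      intro k
      induction k with
      | zero => rw [pow_zero, Nat.cast_zero, zero_mul, Matrix.SpecialLinearGroup.transvection_coeff_zero]
      | succ k ih => rw [pow_succ, ih, ← Matrix.SpecialLinearGroup.transvection_add]; congr 1; push_cast; ring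
    rw [this, ZMod.natCast_self, zero_mul, Matrix.SpecialLinearGroup.transvection_coeff_zero, map_one]
  obtain ⟨A, x, hM⟩ := exists_aff_eq M.2
  have htr : χ ⟨aff 1 x, aff_mem_qd 1 x⟩ = 1 := by
    apply kill
    have h : ∀ k : ℕ, (aff 1 x : SL(3, ZMod p)) ^ k = aff 1 ((k : ZMod p) • x) := by
      intro k
      induction k with
      | zero =>
        rw [pow_zero, Nat.cast_zero, zero_smul]
        apply Subtype.ext; ext i j
        fin_cases i <;> fin_cases j <;> simp [aff]
      | succ k ih => rw [pow_succ, ih, aff_mul, mul_one]; congr 1; simp [add_smul]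
    apply Subtype.ext
    show (aff 1 x : SL(3, ZMod p)) ^ p = 1
    rw [h, ZMod.natCast_self, zero_smul]
    apply Subtype.ext; ext i j
    fin_cases i <;> fin_cases j <;> simp [aff]
  have e : M = ⟨aff 1 x, aff_mem_qd 1 x⟩ * linHom A := Subtype.ext (by
    show M.1 = aff 1 x * aff A 0
    rw [aff_mul, one_mul, ← hM]; simp)
  rw [e, map_mul, htr, hlin, one_mul]

theorem exists_embedding (hp : p ≠ 2) (n : ℕ) (hn : p ^ 2 ≤ n) :
    ∃ H : Subgroup (alternatingGroup (Fin n)), Nonempty (↥H ≃* ↥(Cfsg.qd p)) := by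
  obtain ⟨ι⟩ : Nonempty (Plane p ↪ Fin n) := Function.Embedding.nonempty_of_card_le (by rw [card_plane, Fintype.card_fin]; exact hn)
  let φ : ↥(Cfsg.qd p) →* Equiv.Perm (Fin n) := (Equiv.Perm.viaEmbeddingHom ι).comp act
  have hφ : Function.Injective φ := (Equiv.Perm.viaEmbeddingHom_injective ι).comp act_injective
  have hs : ∀ M, φ M ∈ alternatingGroup (Fin n) := fun M =>
    Equiv.Perm.mem_alternatingGroup.mpr (hom_trivial hp (Equiv.Perm.sign.comp φ) M)
  let ψ := φ.codRestrict (alternatingGroup (Fin n)) hs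
  have hψ : Function.Injective ψ := fun a b h => hφ (congrArg Subtype.val h)
  exact ⟨ψ.range, ⟨(MonoidHom.ofInjective hψ).symm⟩⟩

/-- A Sylow subgroup of the symmetric group of degree less than p² is abelian. -/
theorem sylow_abelian {n : ℕ} (hn : n < p ^ 2) (P : Subgroup (Equiv.Perm (Fin n))) (hP : IsPGroup p P) :
    ∀ x ∈ P, ∀ y ∈ P, x * y = y * x := by
  have hp' : p.Prime := Fact.out
  set k := n / p
  let sh : Multiplicative (ZMod p) →* Equiv.Perm (ZMod p) :=
    { toFun := fun t => Equiv.addLeft t.toAdd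
      map_one' := by ext x; simp
      map_mul' := fun a b => by ext x; simp [add_assoc] }
  let σ : (Fin k → Multiplicative (ZMod p)) →* Equiv.Perm ((_ : Fin k) × ZMod p) :=
    { toFun := fun f => Equiv.sigmaCongrRight fun i => sh (f i)
      map_one' := by ext ⟨i, x⟩ <;> simp
      map_mul' := fun f g => by ext ⟨i, x⟩ <;> simp }
  have hσ : Function.Injective σ := by
    rw [injective_iff_map_eq_one]
    intro f hf; funext i
    have h := congrArg (fun e : Equiv.Perm ((_ : Fin k) × ZMod p) => e ⟨i, 0⟩) hf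
    simp [σ, sh] at h
    exact Multiplicative.toAdd.injective (by simpa using h)
  obtain ⟨ι⟩ : Nonempty (((_ : Fin k) × ZMod p) ↪ Fin n) := Function.Embedding.nonempty_of_card_le (by
    rw [Fintype.card_sigma]; simp [k, Nat.div_mul_le_self])
  let φ := (Equiv.Perm.viaEmbeddingHom ι).comp σ
  have hφ : Function.Injective φ := (Equiv.Perm.viaEmbeddingHom_injective ι).comp hσ
  have hcard : Nat.card φ.range = p ^ k := by
    rw [← Nat.card_congr (MonoidHom.ofInjective hφ).toEquiv, Nat.card_fun, Nat.card_eq_fintype_card, Fintype.card_multiplicative, ZMod.card, Nat.card_fin]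
  have hfac : (Nat.factorial n).factorization p = k := by
    have hk : k < p := (Nat.div_lt_iff_lt_mul hp'.pos).mpr (by rwa [← sq])
    rw [Nat.factorization_def _ hp', padicValNat_factorial (b := 2) (Nat.lt_succ_of_le (by
      rcases Nat.eq_zero_or_pos n with rfl | h0
      · simp
      · exact Nat.lt_succ_iff.mp (Nat.log_lt_of_lt_pow h0.ne' hn)))]
    simp [k]
  have hsyl : Nat.card φ.range = p ^ (Nat.card (Equiv.Perm (Fin n))).factorization p := by
    rw [hcard, Nat.card_eq_fintype_card, Fintype.card_perm, Fintype.card_fin, hfac]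
  let S := Sylow.ofCard φ.range hsyl
  obtain ⟨T, hT⟩ := hP.exists_le_sylow
  obtain ⟨g, hg⟩ := MulAction.exists_smul_eq (Equiv.Perm (Fin n)) S T
  intro x hx y hy
  have hmem : ∀ z ∈ P, ∃ f, g * φ f * g⁻¹ = z := by
    intro z hz
    have h1 : z ∈ (T : Subgroup (Equiv.Perm (Fin n))) := hT hz
    rw [← hg, Sylow.coe_subgroup_smul] at h1
    obtain ⟨w, ⟨f, rfl⟩, rfl⟩ := h1
    exact ⟨f, rfl⟩
  obtain ⟨f, rfl⟩ := hmem x hx
  obtain ⟨f', rfl⟩ := hmem y hy
  calc g * φ f * g⁻¹ * (g * φ f' * g⁻¹) = g * φ (f * f') * g⁻¹ := by rw [map_mul]; group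
    _ = g * φ (f' * f) * g⁻¹ := by rw [mul_comm]
    _ = _ := by rw [map_mul]; group

theorem qd_nonabelian : ∃ U : Subgroup ↥(Cfsg.qd p), IsPGroup p U ∧ ∃ a ∈ U, ∃ b ∈ U, a * b ≠ b * a := by
  let T : ZMod p → SL(2, ZMod p) := fun t => Cfsg.Agent.Classical.GL2.uniSL t
  let U : Subgroup ↥(Cfsg.qd p) :=
    { carrier := {M | ∃ t x, M.1 = aff (T t) x}
      one_mem' := ⟨0, 0, by
        show (1 : SL(3, ZMod p)) = _
        rw [show T 0 = 1 from Cfsg.Agent.Classical.GL2.uniSL_zero]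
        apply Subtype.ext; ext i j
        fin_cases i <;> fin_cases j <;> simp [aff]⟩
      mul_mem' := by
        rintro M N ⟨t, x, hM⟩ ⟨s, y, hN⟩
        exact ⟨t + s, x + (T t).1 *ᵥ y, by
          show M.1 * N.1 = _
          rw [hM, hN, aff_mul, show T t * T s = T (t + s) from Cfsg.Agent.Classical.GL2.uniSL_mul t s]⟩
      inv_mem' := by
        rintro M ⟨t, x, hM⟩
        refine ⟨-t, -((T (-t)).1 *ᵥ x), ?_⟩
        show (M.1)⁻¹ = _
        rw [hM, inv_eq_of_mul_eq_one_left]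
        rw [aff_mul, show T (-t) * T t = 1 by
          rw [show T (-t) * T t = T (-t + t) from Cfsg.Agent.Classical.GL2.uniSL_mul _ _, neg_add_cancel]
          exact Cfsg.Agent.Classical.GL2.uniSL_zero, neg_add_cancel]
        apply Subtype.ext; ext i j
        fin_cases i <;> fin_cases j <;> simp [aff] }
  have hcard : Nat.card U = p ^ 3 := by
    let e : ZMod p × (Fin 2 → ZMod p) → U := fun a => ⟨⟨aff (T a.1) a.2, aff_mem_qd _ _⟩, a.1, a.2, rfl⟩
    have hb : Function.Bijective e := by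
      constructor
      · rintro ⟨t, x⟩ ⟨s, y⟩ h
        have h' : (aff (T t) x).1 = (aff (T s) y).1 := congrArg (fun u : U => u.1.1.1) h
        have a1 := congrFun (congrFun h' 0) 1
        have a2 := congrFun (congrFun h' 0) 2
        have a3 := congrFun (congrFun h' 1) 2
        simp [aff, T, Cfsg.Agent.Classical.GL2.coe_uniSL] at a1 a2 a3
        refine Prod.ext a1 (funext fun i => ?_)
        fin_cases i <;> assumption
      · rintro ⟨M, t, x, hM⟩
        exact ⟨(t, x), Subtype.ext (Subtype.ext hM.symm)⟩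
    rw [← Nat.card_congr (Equiv.ofBijective e hb), Nat.card_prod, Nat.card_fun, Nat.card_zmod, Nat.card_fin]; ring
  refine ⟨U, IsPGroup.of_card hcard, ⟨aff (T 1) 0, aff_mem_qd _ _⟩, ⟨1, 0, rfl⟩, ⟨aff 1 ![0, 1], aff_mem_qd _ _⟩,
    ⟨0, ![0, 1], by rw [show T 0 = 1 from Cfsg.Agent.Classical.GL2.uniSL_zero]⟩, fun h => ?_⟩
  have h' : aff (T 1) 0 * aff 1 ![0, 1] = aff 1 ![0, 1] * aff (T 1) 0 := congrArg Subtype.val h
  rw [aff_mul, aff_mul] at h'
  have h2 := congrFun (congrFun (congrArg Subtype.val h') 0) 2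
  simp [aff, T, Cfsg.Agent.Classical.GL2.coe_uniSL, Matrix.mulVec, dotProduct, Fin.sum_univ_two] at h2

theorem not_involved {n : ℕ} (hn : n < p ^ 2) : ¬ Cfsg.Involves ↥(Cfsg.qd p) ↥(alternatingGroup (Fin n)) := by
  intro h
  obtain ⟨K, f, hf⟩ := exists_surj h
  obtain ⟨U, hU, a, ha, b, hb, hab⟩ := qd_nonabelian (p := p)
  obtain ⟨Q, hQ⟩ := hU.exists_le_sylow
  let P : Sylow p K := default
  obtain ⟨g, hg⟩ := MulAction.exists_smul_eq ↥(Cfsg.qd p) (Sylow.mapSurjective hf P) Q
  have hmem : ∀ z ∈ U, ∃ k ∈ (P : Subgroup K), g * f k * g⁻¹ = z := by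
    intro z hz
    have h1 : z ∈ (Q : Subgroup ↥(Cfsg.qd p)) := hQ hz
    rw [← hg, Sylow.coe_subgroup_smul] at h1
    obtain ⟨w, ⟨k, hk, rfl⟩, rfl⟩ := h1
    exact ⟨k, hk, rfl⟩
  obtain ⟨k, hk, rfl⟩ := hmem a ha
  obtain ⟨l, hl, rfl⟩ := hmem b hb
  apply hab
  let j : K →* Equiv.Perm (Fin n) := (alternatingGroup (Fin n)).subtype.comp K.subtype
  have hc := sylow_abelian hn ((P : Subgroup K).map j) (P.isPGroup'.map j) (j k) ⟨k, hk, rfl⟩ (j l) ⟨l, hl, rfl⟩
  have hkl : k * l = l * k := Subtype.ext (Subtype.ext (by simpa [j] using hc))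
  calc g * f k * g⁻¹ * (g * f l * g⁻¹) = g * f (k * l) * g⁻¹ := by rw [map_mul]; group
    _ = g * f (l * k) * g⁻¹ := by rw [hkl]
    _ = _ := by rw [map_mul]; group

end


/-- Let p be an odd prime and n a natural number. The alternating group of degree n has a subgroup isomorphic to Qd(p) (the natural semidirect product of an elementary abelian group of order p² by SL₂(p)) if and only if n ≥ p²; and if n < p² then Qd(p) is not even involved in it. -/
theorem result {p : ℕ} [Fact p.Prime] (hp : p ≠ 2) (n : ℕ) : ((∃ H : Subgroup (alternatingGroup (Fin n)), Nonempty (↥H ≃* ↥(Cfsg.qd p))) ↔ p ^ 2 ≤ n) ∧ (n < p ^ 2 → ¬ Cfsg.Involves ↥(Cfsg.qd p) ↥(alternatingGroup (Fin n))) := by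
  refine ⟨⟨fun ⟨H, ⟨e⟩⟩ => ?_, exists_embedding hp n⟩, fun hn => not_involved hn⟩
  by_contra hlt
  exact not_involved (not_le.mp hlt) (Cfsg.Agent.Techniques.SL2.Qd.involves_of_surj e.toMonoidHom e.surjective)

end Cfsg.Agent.S3835
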