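import Cfsg.Statements.S3836
import Mathlib
import Cfsg.Agent.Lib.Cores.Basic

set_option autoImplicit false
open Cfsg
open scoped commutatorElement

namespace Cfsg.Agent.S3836

/-- Let G be a finite group that is p-stable in the normalizer form: for every p-subgroup Q and every x ∈ N_G(Q) with [Q, x, x] = 1, the image of x in N_G(Q)/C_G(Q) lies in O_p(N_G(Q)/C_G(Q)). Then every subgroup of G is p-stable in the same sense. -/
theorem result {G : Type*} [Group G] [Finite G] {p : ℕ} [Fact p.Prime] (hst : Cfsg.IsNormalizerPStable p G) (H : Subgroup G) : Cfsg.IsNormalizerPStable p ↥H := by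
  intro P hP g hg hquad
  let P' := P.map H.subtype
  have hP' : IsPGroup p P' := hP.map _
  have hN : ∀ x : H, x ∈ Subgroup.normalizer (P : Set H) → (x : G) ∈ Subgroup.normalizer (P' : Set G) := by
    intro x hx
    rw [Subgroup.mem_normalizer_iff]
    intro y
    constructor
    · rintro ⟨z, hz, rfl⟩
      exact ⟨x * z * x⁻¹, (Subgroup.mem_normalizer_iff.mp hx z).mp hz, rfl⟩
    · rintro ⟨z, hz, he⟩
      refine ⟨x⁻¹ * z * x, ?_, ?_⟩
      · exact (Subgroup.mem_normalizer_iff.mp hx _).mpr (by simpa [mul_assoc] using hz)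
      · have he' : (z : G) = x * y * (x : G)⁻¹ := he
        show (x : G)⁻¹ * z * x = y
        rw [he']; group
  have hquad' : ⁅⁅P', Subgroup.zpowers (g : G)⁆, Subgroup.zpowers (g : G)⁆ = ⊥ := by
    rw [show Subgroup.zpowers (g : G) = (Subgroup.zpowers g).map H.subtype from (MonoidHom.map_zpowers H.subtype g).symm,
      ← Subgroup.map_commutator, ← Subgroup.map_commutator, hquad, Subgroup.map_bot]
  have hmem := hst P' hP' g (hN g hg) hquad'
  -- the natural embedding of quotients
  set N := Subgroup.normalizer (P : Set H)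
  set N' := Subgroup.normalizer (P' : Set G)
  let ι : N →* N' := ((H.subtype.comp N.subtype).codRestrict N' fun x => hN x x.2)
  let C := (Subgroup.centralizer (P : Set H)).subgroupOf N
  let C' := (Subgroup.centralizer (P' : Set G)).subgroupOf N'
  have hC : C'.comap ι = C := by
    ext x
    simp only [C, C', Subgroup.mem_comap, Subgroup.mem_subgroupOf, Subgroup.mem_centralizer_iff]
    constructor
    · intro h z hz
      exact Subtype.ext (h z ⟨z, hz, rfl⟩)
    · rintro h _ ⟨z, hz, rfl⟩
      exact congrArg Subtype.val (h z hz)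
  let j : ↥N ⧸ C →* ↥N' ⧸ C' := QuotientGroup.map C C' ι hC.ge
  have hj : Function.Injective j := by
    rw [← MonoidHom.ker_eq_bot_iff, eq_bot_iff]
    intro q hq
    obtain ⟨x, rfl⟩ := QuotientGroup.mk_surjective q
    rw [MonoidHom.mem_ker, QuotientGroup.map_mk, QuotientGroup.eq_one_iff] at hq
    rw [Subgroup.mem_bot, QuotientGroup.eq_one_iff, ← hC]
    exact hq
  set M := (Cfsg.pCore p (↥N' ⧸ C')).comap j
  have hMn : M.Normal := Subgroup.Normal.comap (Subgroup.sSup_normal _ (fun _ h => h.1)) j
  have hMp : IsPGroup p M := (Cfsg.Agent.Cores.pCore_isPGroup (G := ↥N' ⧸ C') p).comap_of_injective j hj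
  exact le_sSup (show M ∈ {L : Subgroup (↥N ⧸ C) | L.Normal ∧ IsPGroup p L} from ⟨hMn, hMp⟩)
    (show j (QuotientGroup.mk ⟨g, hg⟩) ∈ Cfsg.pCore p (↥N' ⧸ C') from hmem)

end Cfsg.Agent.S3836
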