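import Cfsg.Statements.S3838
import Mathlib
import Cfsg.Agent.Lib.Transfer.NormalPComplement
import Cfsg.Agent.Lib.Coprime.SchurZassenhaus
import Cfsg.Agent.Lib.Cores.Basic

set_option autoImplicit false
open Cfsg Pointwise
open scoped commutatorElement

namespace Cfsg.Agent.S3838

/-- Let G be a finite group with Sylow p-subgroup P such that N_G(P) has a normal p-complement. Then N_G(Q) has a normal p-complement for every subgroup Q with [P, P] ≤ Q ≤ Φ(P). -/
theorem result {G : Type*} [Group G] [Finite G] {p : ℕ} [Fact p.Prime] (P : Sylow p G) (hN : Cfsg.HasNormalPComplement p ↥(Subgroup.normalizer ((P : Subgroup G) : Set G))) (Q : Subgroup G) (h1 : (commutator ↥(P : Subgroup G)).map (P : Subgroup G).subtype ≤ Q) (h2 : Q ≤ (frattini ↥(P : Subgroup G)).map (P : Subgroup G).subtype) : Cfsg.HasNormalPComplement p ↥(Subgroup.normalizer (Q : Set G)) := by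
  set PG : Subgroup G := (P : Subgroup G)
  set Φ := (frattini ↥PG).map PG.subtype
  have hQP : Q ≤ PG := h2.trans (Subgroup.map_subtype_le _)
  have hPM : PG ≤ Subgroup.normalizer (Q : Set G) := by
    have step : ∀ g ∈ PG, ∀ y ∈ Q, g * y * g⁻¹ ∈ Q := by
      intro g hg y hy
      have : g * y * g⁻¹ * y⁻¹ ∈ Q :=
        h1 ⟨⁅(⟨g, hg⟩ : PG), ⟨y, hQP hy⟩⁆, Subgroup.commutator_mem_commutator (Subgroup.mem_top _) (Subgroup.mem_top _), rfl⟩
      simpa using mul_mem this hy
    intro g hg
    rw [Subgroup.mem_normalizer_iff]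
    refine fun y => ⟨step g hg y, fun hy => ?_⟩
    simpa [mul_assoc] using step g⁻¹ (inv_mem hg) _ hy
  set M := Subgroup.normalizer (Q : Set G)
  let PM : Sylow p M := P.subtype hPM
  set Qm := Q.subgroupOf M
  haveI hQmn : Qm.Normal := Subgroup.normal_in_normalizer
  have hQmP : Qm ≤ (PM : Subgroup M) := fun x hx => hQP hx
  let f := QuotientGroup.mk' Qm
  have hf : Function.Surjective f := QuotientGroup.mk'_surjective Qm
  let Pb : Sylow p (M ⧸ Qm) := PM.mapSurjective hf
  have hPb : (Pb : Subgroup (M ⧸ Qm)) = (PM : Subgroup M).map f := rfl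
  have hcomap : ((Pb : Subgroup (M ⧸ Qm))).comap f = (PM : Subgroup M) := by
    rw [hPb, Subgroup.comap_map_eq, QuotientGroup.ker_mk', sup_eq_left.mpr hQmP]
  set Nm := Subgroup.normalizer ((PM : Subgroup M) : Set M)
  set Nb := Subgroup.normalizer ((Pb : Subgroup (M ⧸ Qm)) : Set (M ⧸ Qm))
  have hNm : HasNormalPComplement p Nm := by
    let φ : Nm →* ↥(Subgroup.normalizer (PG : Set G)) :=
      (M.subtype.comp Nm.subtype).codRestrict _ (fun x => by
        have hx := x.2
        simp only [Nm, Subgroup.mem_normalizer_iff] at hx ⊢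
        intro y
        constructor
        · intro hy; exact (hx ⟨y, hPM hy⟩).mp hy
        · intro hy
          have hyM : y ∈ M := by
            have := mul_mem (mul_mem (inv_mem (x : M).2) (hPM hy)) (x : M).2
            simpa [mul_assoc] using this
          exact (hx ⟨y, hyM⟩).mpr hy)
    exact Cfsg.Agent.Transfer.NormalPComplement.HasNormalPComplement.of_injective (f := φ)
      (fun a b h => Subtype.ext (Subtype.ext (congrArg (fun z : ↥(Subgroup.normalizer (PG : Set G)) => (z : G)) h :))) hN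
  have hNb : Nm.map f = Nb := by
    refine le_antisymm ?_ ?_
    · rw [Subgroup.map_le_iff_le_comap]
      intro x hx
      simp only [Nb, Subgroup.mem_comap, Subgroup.mem_normalizer_iff] at hx ⊢
      intro q
      obtain ⟨y, rfl⟩ := hf q
      rw [← map_inv, ← map_mul, ← map_mul, ← Subgroup.mem_comap, ← Subgroup.mem_comap, hcomap]
      exact Subgroup.mem_normalizer_iff.mp hx y
    · intro q hq
      obtain ⟨x, rfl⟩ := hf q
      refine ⟨x, ?_, rfl⟩
      simp only [Nm, SetLike.mem_coe, Subgroup.mem_normalizer_iff]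
      intro y
      rw [← hcomap, Subgroup.mem_comap, Subgroup.mem_comap, map_mul, map_mul, map_inv]
      exact Subgroup.mem_normalizer_iff.mp hq (f y)
  have hab : ∀ a ∈ (Pb : Subgroup (M ⧸ Qm)), ∀ b ∈ (Pb : Subgroup (M ⧸ Qm)), a * b = b * a := by
    rintro _ ⟨a, ha, rfl⟩ _ ⟨b, hb, rfl⟩
    rw [← commutatorElement_eq_one_iff_mul_comm, ← map_commutatorElement]
    refine (QuotientGroup.eq_one_iff _).mpr ?_
    exact h1 ⟨⁅(⟨(a : G), ha⟩ : PG), ⟨(b : G), hb⟩⁆, Subgroup.commutator_mem_commutator (Subgroup.mem_top _) (Subgroup.mem_top _), rfl⟩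
  have hburn : Nb ≤ Subgroup.centralizer ((Pb : Subgroup (M ⧸ Qm)) : Set (M ⧸ Qm)) := by
    have hNbc : HasNormalPComplement p Nb := by
      let ψ : Nm →* Nb := (f.comp Nm.subtype).codRestrict Nb (fun x => hNb ▸ ⟨x, x.2, rfl⟩)
      refine Cfsg.Agent.Transfer.NormalPComplement.HasNormalPComplement.of_surjective (f := ψ) ?_ hNm
      rintro ⟨q, hq⟩
      rw [← hNb] at hq
      obtain ⟨x, hx, rfl⟩ := hq
      exact ⟨⟨x, hx⟩, rfl⟩
    obtain ⟨K, hK, hKc, k, hKi⟩ := Cfsg.Agent.Transfer.NormalPComplement.hasNormalPComplement_iff_exists.mp hNbc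
    haveI := hK
    set Pn := ((Pb : Subgroup (M ⧸ Qm))).subgroupOf Nb with hPn
    haveI : Pn.Normal := Subgroup.normal_in_normalizer
    let Ps : Sylow p Nb := Pb.subtype Subgroup.le_normalizer
    have hc := Cfsg.Agent.Transfer.NormalPComplement.isComplement'_of_coprime_card hKc hKi Ps
    have hcomm : ∀ u ∈ K, ∀ v ∈ Pn, u * v = v * u := fun u hu v hv =>
      (commutatorElement_eq_one_iff_mul_comm).mp (Subgroup.mem_bot.mp
        ((Subgroup.commutator_le_inf (H₁ := K) (H₂ := Pn)).trans (le_of_eq (by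
          exact hc.disjoint.eq_bot)) (Subgroup.commutator_mem_commutator hu hv)))
    intro n hn
    rw [Subgroup.mem_centralizer_iff]
    intro a ha
    obtain ⟨⟨⟨u, hu⟩, ⟨v, hv⟩⟩, he⟩ := hc.2 ⟨n, hn⟩
    have he' : (⟨n, hn⟩ : Nb) = u * v := he.symm
    have haN : a ∈ Nb := Subgroup.le_normalizer ha
    have h3 : (⟨a, haN⟩ : Nb) * u = u * ⟨a, haN⟩ := (hcomm u hu ⟨a, haN⟩ ha).symm
    have h4 : (⟨a, haN⟩ : Nb) * v = v * ⟨a, haN⟩ := Subtype.ext (hab a ha v hv)
    have h5 : (⟨a, haN⟩ : Nb) * ⟨n, hn⟩ = ⟨n, hn⟩ * ⟨a, haN⟩ := by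
      rw [he', ← mul_assoc, h3, mul_assoc, h4, mul_assoc]
    exact congrArg Subtype.val h5
  obtain ⟨Kb, hKb, hKbc, k, hKbi⟩ := Cfsg.Agent.Transfer.NormalPComplement.hasNormalPComplement_iff_exists.mp
    (Cfsg.Agent.Transfer.NormalPComplement.hasNormalPComplement_of_normalizer_le_centralizer Pb hburn)
  haveI := hKb
  set L := Kb.comap f
  have hQL : Qm ≤ L := fun x hx => by
    rw [Subgroup.mem_comap, show f x = 1 from (QuotientGroup.eq_one_iff x).mpr hx]; exact one_mem _
  have hcardL : Nat.card L = Nat.card Qm * Nat.card Kb := Cfsg.Agent.Cores.card_comap_mk' Qm Kb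
  obtain ⟨a, hQa⟩ : ∃ a, Nat.card Qm = p ^ a := IsPGroup.iff_card.mp
    ((P.isPGroup'.to_le hQP).comap_of_injective M.subtype M.subtype_injective)
  have hcop : (Nat.card Qm).Coprime (Nat.card Kb) := hQa ▸ Nat.Coprime.pow_left a hKbc.symm
  obtain ⟨H, hH⟩ := Subgroup.exists_right_complement'_of_coprime (N := Qm.subgroupOf L) (by
    have h3 := (Qm.subgroupOf L).card_mul_index
    have h4 : Nat.card (Qm.subgroupOf L) = Nat.card Qm := Nat.card_congr (Subgroup.subgroupOfEquivOfLe hQL).toEquiv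
    rw [h4] at h3 ⊢
    rwa [Nat.eq_of_mul_eq_mul_left Nat.card_pos (h3.trans hcardL)])
  set K := H.map L.subtype
  have hKL : K ≤ L := Subgroup.map_subtype_le _
  have hKcard : Nat.card K = Nat.card Kb := by
    have h3 := hH.card_mul
    rw [Nat.card_congr (Subgroup.subgroupOfEquivOfLe hQL).toEquiv, ← Subgroup.card_map_of_injective (K := H) L.subtype_injective, hcardL] at h3
    exact Nat.eq_of_mul_eq_mul_left Nat.card_pos h3
  have hsup : Qm ⊔ K = L := by
    have := congrArg (Subgroup.map L.subtype) hH.sup_eq_top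
    rwa [Subgroup.map_sup, Subgroup.map_subgroupOf_eq_of_le hQL, ← MonoidHom.range_eq_map, Subgroup.range_subtype] at this
  have hKP : (PM : Subgroup M) ≤ Subgroup.normalizer (K : Set M) := by
    set D := (PM : Subgroup M) ⊓ Subgroup.normalizer (K : Set M)
    have hsup' : (PM : Subgroup M) ≤ Qm ⊔ D := by
      intro g hg
      have hgK : Qm ⊔ MulAut.conj g • K = Qm ⊔ K := by
        have h3 : MulAut.conj g • L = L := Subgroup.Normal.conj_smul_eq_self (H := L) g
        have h4 : MulAut.conj g • Qm = Qm := Subgroup.Normal.conj_smul_eq_self (H := Qm) g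
        calc Qm ⊔ MulAut.conj g • K = MulAut.conj g • (Qm ⊔ K) := by rw [Subgroup.smul_sup, h4]
          _ = Qm ⊔ K := by rw [hsup, h3]
      obtain ⟨x, hx, he⟩ := Cfsg.Agent.Coprime.exists_conj_eq_of_sup_eq (N := Qm) (H := MulAut.conj g • K) (K := K)
        Subgroup.le_normalizer_of_normal Subgroup.le_normalizer_of_normal hgK
        (by rw [Cfsg.Agent.Coprime.card_conj_smul, hKcard]; exact hcop) (hKcard ▸ hcop)
        (Or.inl (Cfsg.Agent.Coprime.isSolvable_of_isPGroup (IsPGroup.of_card hQa)))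
      rw [smul_smul, ← map_mul, Cfsg.Agent.Coprime.conj_smul_eq_self_iff] at he
      have hxg : x * g ∈ D := ⟨mul_mem (hQmP hx) hg, he⟩
      simpa using mul_mem (Subgroup.mem_sup_left (inv_mem hx) : x⁻¹ ∈ Qm ⊔ D) (Subgroup.mem_sup_right hxg)
    -- pull back to `P` and use that the Frattini subgroup is non-generating
    set D' := (D.map M.subtype).subgroupOf PG
    have htop : D' = ⊤ := frattini_nongenerating (eq_top_iff.mpr fun g _ => by
      obtain ⟨q, hq, d, hd, hqd⟩ := Subgroup.mem_sup_of_normal_left.mp (hsup' (show (⟨(g : G), hPM g.2⟩ : M) ∈ (PM : Subgroup M) from g.2))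
      obtain ⟨q', hq', hqe⟩ := h2 (show (q : G) ∈ Q from hq)
      have hdP : (d : G) ∈ PG := hd.1
      have : g = q' * ⟨(d : G), hdP⟩ := Subtype.ext (by
        show (g : G) = (q' : G) * d
        rw [show (q' : G) = q from hqe]
        exact (congrArg Subtype.val hqd).symm)
      rw [this]
      exact mul_mem (Subgroup.mem_sup_right hq') (Subgroup.mem_sup_left (show (⟨(d : G), hdP⟩ : PG) ∈ D' from ⟨d, hd, rfl⟩)))
    intro g hg
    obtain ⟨d, hd, hde⟩ := (show (⟨(g : G), hg⟩ : PG) ∈ D' from htop ▸ Subgroup.mem_top _)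
    rw [show g = d from Subtype.ext (show (g : G) = d from hde.symm)]
    exact hd.2
  have hKn : K.Normal := by
    rw [← Subgroup.normalizer_eq_top_iff, eq_top_iff]
    have hL : L ≤ Subgroup.normalizer (K : Set M) := hsup ▸ sup_le (hQmP.trans hKP) Subgroup.le_normalizer
    intro g _
    have hsupPL : L ⊔ (PM : Subgroup M) = ⊤ := by
      refine Subgroup.index_eq_one.mp ?_
      have d1 := Subgroup.index_dvd_of_le (le_sup_left : L ≤ L ⊔ (PM : Subgroup M))
      have d2 := Subgroup.index_dvd_of_le (le_sup_right : (PM : Subgroup M) ≤ L ⊔ (PM : Subgroup M))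
      rw [Subgroup.index_comap_of_surjective _ hf, hKbi] at d1
      exact Nat.eq_one_of_dvd_coprimes (Nat.Coprime.pow_left k ((Fact.out : p.Prime).coprime_iff_not_dvd.mpr PM.not_dvd_index)) d1 d2
    exact (sup_le hL hKP : L ⊔ (PM : Subgroup M) ≤ _) (hsupPL ▸ Subgroup.mem_top g)
  rw [Cfsg.Agent.Transfer.NormalPComplement.hasNormalPComplement_iff_exists]
  refine ⟨K, hKn, hKcard ▸ hKbc, a + k, ?_⟩
  have h3 := K.card_mul_index
  rw [hKcard, ← L.card_mul_index, hcardL, hQa, Subgroup.index_comap_of_surjective _ hf, hKbi] at h3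
  exact Nat.eq_of_mul_eq_mul_left Nat.card_pos (h3.trans (by ring))

end Cfsg.Agent.S3838
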