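import Cfsg.Statements.S3839
import Mathlib
import Cfsg.Agent.Lib.Transfer.Frobenius

set_option autoImplicit false
open Cfsg
open scoped commutatorElement

namespace Cfsg.Agent.S3839
open Cfsg.Agent.Transfer.Frobenius Cfsg.Agent.Transfer.NormalPComplement
open scoped Pointwise

/-- If every strictly larger `p`-subgroup satisfies the condition and the stabiliser of the chain
`1 ≤ U ≤ Q` in `N(Q)` has a `p`-element outside `Q`, then so does `Q`. -/
theorem step {G : Type*} [Group G] [Finite G] {p : ℕ} [Fact p.Prime] (Q U : Subgroup G) (hQ : IsPGroup p Q)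
    (hU : IsPGroup p U) (hUn : Subgroup.normalizer (Q : Set G) ≤ Subgroup.normalizer (U : Set G))
    (IH : ∀ R : Subgroup G, IsPGroup p R → Nat.card Q < Nat.card R → ∀ g ∈ Subgroup.normalizer (R : Set G),
      (orderOf g).Coprime p → g ∈ Subgroup.centralizer (R : Set G))
    (hUQ : U ≤ Q) (v : G) (hv : v ∈ Subgroup.normalizer (Q : Set G)) (hvp : ∃ k : ℕ, v ^ p ^ k = 1) (hvQ : v ∉ Q)
    (hv1 : ∀ u ∈ U, v * u = u * v) (hv2 : ∀ q ∈ Q, v * q * v⁻¹ * q⁻¹ ∈ U) :
    ∀ g ∈ Subgroup.normalizer (Q : Set G), (orderOf g).Coprime p → g ∈ Subgroup.centralizer (Q : Set G) := by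
  intro g hg ho
  set N := Subgroup.normalizer (Q : Set G) with hN
  let A : Subgroup ↥N :=
    { carrier := {a | (∀ u ∈ U, (a : G) * u = u * a) ∧ ∀ q ∈ Q, (a : G) * q * (a : G)⁻¹ * q⁻¹ ∈ U}
      one_mem' := ⟨by simp, fun q hq => by simp [U.one_mem]⟩
      mul_mem' := by
        rintro a b ⟨ha1, ha2⟩ ⟨hb1, hb2⟩
        refine ⟨fun u hu => (Commute.mul_left (ha1 u hu) (hb1 u hu)), fun q hq => ?_⟩
        have hbq : (b : G) * q * (b : G)⁻¹ ∈ Q := (Subgroup.mem_normalizer_iff.mp b.2 q).mp hq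
        have e : ((a * b : ↥N) : G) * q * ((a * b : ↥N) : G)⁻¹ * q⁻¹ =
            ((a : G) * ((b : G) * q * (b : G)⁻¹) * (a : G)⁻¹ * ((b : G) * q * (b : G)⁻¹)⁻¹) *
              ((b : G) * q * (b : G)⁻¹ * q⁻¹) := by
          simp only [Subgroup.coe_mul]; group
        rw [e]
        exact U.mul_mem (ha2 _ hbq) (hb2 q hq)
      inv_mem' := by
        rintro a ⟨ha1, ha2⟩
        refine ⟨fun u hu => (Commute.inv_left (ha1 u hu)), fun q hq => ?_⟩
        have hq' : (a : G)⁻¹ * q * (a : G) ∈ Q := by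
          have := (Subgroup.mem_normalizer_iff.mp (N.inv_mem a.2) q).mp hq
          simpa using this
        have h := ha2 _ hq'
        have e : ((a⁻¹ : ↥N) : G) * q * ((a⁻¹ : ↥N) : G)⁻¹ * q⁻¹ =
            ((a : G) * ((a : G)⁻¹ * q * (a : G)) * (a : G)⁻¹ * ((a : G)⁻¹ * q * (a : G))⁻¹)⁻¹ := by
          simp only [Subgroup.coe_inv]; group
        rw [e]
        exact U.inv_mem h }
  have hAn : A.Normal := by
    constructor
    rintro a ⟨ha1, ha2⟩ n
    have hnU : (n : G) ∈ Subgroup.normalizer (U : Set G) := hUn n.2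
    constructor
    · intro u hu
      have hu' : (n : G)⁻¹ * u * n ∈ U := by
        have := (Subgroup.mem_normalizer_iff.mp ((Subgroup.normalizer (U : Set G)).inv_mem hnU) u).mp hu
        simpa using this
      calc ((n * a * n⁻¹ : ↥N) : G) * u = (n : G) * ((a : G) * ((n : G)⁻¹ * u * n)) * (n : G)⁻¹ := by
            simp only [Subgroup.coe_mul, Subgroup.coe_inv]; group
        _ = (n : G) * (((n : G)⁻¹ * u * n) * (a : G)) * (n : G)⁻¹ := by rw [ha1 _ hu']
        _ = u * ((n * a * n⁻¹ : ↥N) : G) := by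
            simp only [Subgroup.coe_mul, Subgroup.coe_inv]; group
    · intro q hq
      have hq' : (n : G)⁻¹ * q * n ∈ Q := by
        have := (Subgroup.mem_normalizer_iff.mp (N.inv_mem n.2) q).mp hq
        simpa using this
      have h := (Subgroup.mem_normalizer_iff.mp hnU _).mp (ha2 _ hq')
      have e : ((n * a * n⁻¹ : ↥N) : G) * q * ((n * a * n⁻¹ : ↥N) : G)⁻¹ * q⁻¹ =
          (n : G) * ((a : G) * ((n : G)⁻¹ * q * n) * (a : G)⁻¹ * ((n : G)⁻¹ * q * n)⁻¹) * (n : G)⁻¹ := by
        simp only [Subgroup.coe_mul, Subgroup.coe_inv]; group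
      rw [e]
      exact h
  haveI := hAn
  have hQn : (Q.subgroupOf N).Normal := Subgroup.normal_in_normalizer
  haveI := hQn
  -- elements of `A` have a `p`-power in the centraliser
  obtain ⟨e, he⟩ := hU.exists_card_eq
  have hApow : ∀ a ∈ A, ∀ q ∈ Q, Commute ((a : G) ^ p ^ e) q := by
    rintro a ⟨ha1, ha2⟩ q hq
    set u := (a : G) * q * (a : G)⁻¹ * q⁻¹ with hu
    have haq : SemiconjBy (a : G) q (u * q) := by
      show (a : G) * q = u * q * a
      rw [hu]; group
    have hi : ∀ i : ℕ, SemiconjBy ((a : G) ^ i) q (u ^ i * q) := by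
      intro i
      induction i with
      | zero => simp [SemiconjBy]
      | succ i ih =>
        rw [pow_succ (a : G) i, pow_succ u i, mul_assoc (u ^ i)]
        have h1 : SemiconjBy ((a : G) ^ i) (u * q) (u * (u ^ i * q)) :=
          SemiconjBy.mul_right ((Commute.pow_left (ha1 u (ha2 q hq)) i) : SemiconjBy ((a : G) ^ i) u u) ih
        have h2 := h1.mul_left haq
        rwa [← mul_assoc u, ← pow_succ', pow_succ, mul_assoc] at h2
    have h := hi (p ^ e)
    have hu1 : u ^ p ^ e = 1 := by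
      rw [← he]
      exact congrArg Subtype.val (pow_card_eq_one' (G := ↥U) (x := ⟨u, ha2 q hq⟩))
    rw [hu1, one_mul] at h
    exact h
  set K : Subgroup ↥N := A ⊔ Q.subgroupOf N with hK
  obtain ⟨f, hf⟩ := hQ.exists_card_eq
  have hKpow : ∀ k ∈ K, k ^ p ^ f ∈ A := by
    intro k hk
    rw [← QuotientGroup.eq_one_iff, QuotientGroup.mk_pow]
    obtain ⟨a, ha, x, hx, rfl⟩ := Subgroup.mem_sup_of_normal_right.mp hk
    have hx1 : x ^ p ^ f = 1 := by
      rw [← hf]
      exact Subtype.ext (orderOf_dvd_iff_pow_eq_one.mp (Subgroup.orderOf_dvd_natCard Q (x := (x : G)) hx))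
    rw [QuotientGroup.mk_mul, (QuotientGroup.eq_one_iff a).mpr ha, one_mul, ← QuotientGroup.mk_pow, hx1]
    rfl
  -- a Sylow subgroup of `K` is larger than `Q`
  have hKn : K.Normal := Subgroup.sup_normal A (Q.subgroupOf N)
  haveI := hKn
  obtain ⟨P⟩ : Nonempty (Sylow p ↥K) := inferInstance
  set R : Subgroup G := ((P : Subgroup ↥K).map K.subtype).map N.subtype with hR
  have hRp : IsPGroup p R := (P.2.map _).map _
  have hvK : (⟨v, hv⟩ : ↥N) ∈ K := le_sup_left (a := A) ⟨hv1, hv2⟩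
  have hQK : Q.subgroupOf N ≤ K := le_sup_right
  have hQP : (Q.subgroupOf N).subgroupOf K ≤ (P : Subgroup ↥K) := by
    refine Cfsg.Agent.PLocal.Cores.le_pCore (p := p) ?_ |>.trans ?_
    · exact (hQ.comap_subtype (K := N)).comap_subtype
    · exact Cfsg.Agent.PLocal.Cores.pCore_le_sylow P
  have hlt : Nat.card Q < Nat.card R := by
    have hQR : Q ≤ R := fun q hq => ⟨⟨q, Subgroup.le_normalizer hq⟩, ⟨⟨_, hQK (show (⟨q, _⟩ : ↥N) ∈ Q.subgroupOf N from hq)⟩,
      hQP (show _ ∈ (Q.subgroupOf N).subgroupOf K from hq), rfl⟩, rfl⟩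
    refine lt_of_le_of_ne (Subgroup.card_le_of_le hQR) fun hc => hvQ ?_
    have hQR' : Q = R := Subgroup.eq_of_le_of_card_ge hQR hc.ge
    obtain ⟨k, hk⟩ := hvp
    have hvP : IsPGroup p (Subgroup.zpowers (⟨⟨v, hv⟩, hvK⟩ : ↥K)) := by
      rintro ⟨y, i, rfl⟩
      refine ⟨k, Subtype.ext (Subtype.ext (Subtype.ext ?_))⟩
      simp only [SubgroupClass.coe_pow, SubgroupClass.coe_zpow, Subgroup.coe_one]
      rw [← zpow_natCast, ← zpow_mul, mul_comm, zpow_mul, zpow_natCast, hk, one_zpow]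
    obtain ⟨P', hP'⟩ := hvP.exists_le_sylow
    obtain ⟨c, hc'⟩ := MulAction.exists_smul_eq ↥K P' P
    have hvc : c * ⟨⟨v, hv⟩, hvK⟩ * c⁻¹ ∈ (P : Subgroup ↥K) := by
      rw [← hc', Cfsg.Agent.Transfer.Fusion.coe_smul_eq_map]
      exact ⟨_, hP' (Subgroup.mem_zpowers _), by simp⟩
    have hvR : ((c : ↥N) : G) * v * ((c : ↥N) : G)⁻¹ ∈ Q := hQR' ▸ ⟨_, ⟨_, hvc, rfl⟩, by simp⟩
    exact (Subgroup.mem_normalizer_iff.mp (c : ↥N).2 v).mpr hvR
  have hcent := IH R hRp hlt
  -- Frattini argument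
  have htop := Sylow.normalizer_sup_eq_top P
  have hgmem : (⟨g, hg⟩ : ↥N) ∈ Subgroup.normalizer (((P : Subgroup ↥K).map K.subtype : Subgroup ↥N) : Set ↥N) ⊔ K := by
    rw [htop]; exact Subgroup.mem_top _
  obtain ⟨n, hn, k, hk, hnk⟩ := Subgroup.mem_sup_of_normal_right.mp hgmem
  have hnR : (n : G) ∈ Subgroup.normalizer (R : Set G) :=
    Subgroup.le_normalizer_map N.subtype ⟨n, hn, rfl⟩
  obtain ⟨i, hi⟩ := exists_pow_coprime (p := p) (orderOf_pos (n : G)).ne'
  have hni : (n : G) ^ p ^ i ∈ Subgroup.centralizer (Q : Set G) := by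
    refine Subgroup.centralizer_le ?_ (hcent _ (Subgroup.pow_mem _ hnR _) hi)
    intro q hq
    exact ⟨⟨q, Subgroup.le_normalizer hq⟩, ⟨⟨_, hQK (show (⟨q, _⟩ : ↥N) ∈ Q.subgroupOf N from hq)⟩,
      hQP (show _ ∈ (Q.subgroupOf N).subgroupOf K from hq), rfl⟩, rfl⟩
  have hnA : n ^ p ^ i ∈ K := by
    refine le_sup_left (a := A) ⟨fun u hu => ?_, fun q hq => ?_⟩
    · rw [SubgroupClass.coe_pow]
      exact (hni u (hUQ hu)).symm
    · rw [SubgroupClass.coe_pow, ← hni q hq, mul_inv_cancel_right, mul_inv_cancel]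
      exact U.one_mem
  have hgK : (⟨g, hg⟩ : ↥N) ∈ K := by
    have hpow : (⟨g, hg⟩ : ↥N) ^ p ^ i ∈ K := by
      rw [← QuotientGroup.eq_one_iff, QuotientGroup.mk_pow, ← hnk, QuotientGroup.mk_mul,
        (QuotientGroup.eq_one_iff k).mpr hk, mul_one, ← QuotientGroup.mk_pow, QuotientGroup.eq_one_iff]
      exact hnA
    exact mem_of_pow_mem (by rw [Subgroup.orderOf_mk]; exact Nat.Coprime.pow_right _ ho) hpow
  have hgC : g ^ p ^ (f + e) ∈ Subgroup.centralizer (Q : Set G) := by
    intro q hq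
    have h := hApow _ (hKpow _ hgK) q hq
    rw [SubgroupClass.coe_pow, ← pow_mul, ← pow_add] at h
    exact h.eq.symm
  exact mem_of_pow_mem (Nat.Coprime.pow_right _ ho) hgC

/-- A Frobenius normal p-complement criterion relative to a strongly closed subgroup. Let G be a finite group, S a Sylow p-subgroup and D a subgroup of S strongly closed in S with respect to G. Then G has a normal p-complement if and only if N_G(U) has a normal p-complement for every subgroup U of D with C_D(U) ≤ U. -/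
theorem result {G : Type*} [Group G] [Finite G] {p : ℕ} [Fact p.Prime] (S : Sylow p G) (D : Subgroup G) (hD : Cfsg.IsStronglyClosed D (S : Subgroup G)) : Cfsg.HasNormalPComplement p G ↔ ∀ U : Subgroup G, U ≤ D → D ⊓ Subgroup.centralizer (U : Set G) ≤ U → Cfsg.HasNormalPComplement p ↥(Subgroup.normalizer (U : Set G)) := by
  refine ⟨fun h U _ _ => HasNormalPComplement.subgroup h _, fun h => hasNormalPComplement_of_condition ?_⟩
  obtain ⟨hDS, hDcl⟩ := hD
  suffices ∀ n : ℕ, ∀ Q : Subgroup G, Nat.card G - Nat.card Q = n → IsPGroup p Q →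
      ∀ g ∈ Subgroup.normalizer (Q : Set G), (orderOf g).Coprime p → g ∈ Subgroup.centralizer (Q : Set G) from
    fun Q hQ g hg ho => this _ Q rfl hQ g hg ho
  intro n
  induction n using Nat.strong_induction_on with
  | _ n ih =>
    intro Q hn hQ g hg ho
    have IH : ∀ R : Subgroup G, IsPGroup p R → Nat.card Q < Nat.card R →
        ∀ g ∈ Subgroup.normalizer (R : Set G), (orderOf g).Coprime p → g ∈ Subgroup.centralizer (R : Set G) := by
      intro R hR hlt
      refine ih _ ?_ R rfl hR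
      have := Subgroup.card_le_card_group R
      omega
    -- move `Q` into `S`
    obtain ⟨R, hR⟩ := hQ.exists_le_sylow
    obtain ⟨c, hc⟩ := MulAction.exists_smul_eq G R S
    set Q' := Q.map (MulAut.conj c).toMonoidHom with hQ'
    have hQ'S : Q' ≤ (S : Subgroup G) := by
      rw [← hc, Cfsg.Agent.Transfer.Fusion.coe_smul_eq_map]
      exact Subgroup.map_mono hR
    have hcard : Nat.card Q' = Nat.card Q := Cfsg.Agent.Transfer.Fusion.card_map_conj Q c
    suffices hmain : ∀ g ∈ Subgroup.normalizer (Q' : Set G), (orderOf g).Coprime p →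
        g ∈ Subgroup.centralizer (Q' : Set G) by
      have h1 := hmain (c * g * c⁻¹) (Subgroup.le_normalizer_map (MulAut.conj c).toMonoidHom ⟨g, hg, by simp⟩)
        (by rw [← MulAut.conj_apply c g, MulEquiv.orderOf_eq]; exact ho)
      intro q hq
      have h2 := h1 (c * q * c⁻¹) ⟨q, hq, by simp⟩
      calc q * g = c⁻¹ * (c * q * c⁻¹ * (c * g * c⁻¹)) * c := by group
        _ = c⁻¹ * (c * g * c⁻¹ * (c * q * c⁻¹)) * c := by rw [h2]
        _ = g * q := by group
    have hQ'p : IsPGroup p Q' := hQ.map _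
    rw [← hcard] at IH
    clear_value Q'
    clear hQ' hcard hn hg ho g
    intro g hg ho
    set U := Q' ⊓ D with hU
    have hUn : Subgroup.normalizer (Q' : Set G) ≤ Subgroup.normalizer (U : Set G) := by
      intro x hx
      rw [Subgroup.mem_normalizer_iff]
      intro y
      constructor
      · rintro ⟨hy, hyD⟩
        have h1 := (Subgroup.mem_normalizer_iff.mp hx y).mp hy
        exact ⟨h1, hDcl y hyD x (hQ'S h1)⟩
      · rintro ⟨hy, hyD⟩
        have h1 := (Subgroup.mem_normalizer_iff.mp hx y).mpr hy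
        have h2 := hDcl _ hyD x⁻¹
        rw [inv_inv, show x⁻¹ * (x * y * x⁻¹) * x = y by group] at h2
        exact ⟨h1, h2 (hQ'S h1)⟩
    by_cases hcl : D ⊓ Subgroup.centralizer (U : Set G) ≤ U
    · have hcond := condition_of_hasNormalPComplement (h U inf_le_right hcl)
      set N := Subgroup.normalizer (U : Set G) with hN
      have hgN : g ∈ N := hUn hg
      have hQN : Q' ≤ N := Subgroup.le_normalizer.trans hUn
      have h1 : (⟨g, hgN⟩ : ↥N) ∈ Subgroup.normalizer ((Q'.subgroupOf N : Subgroup ↥N) : Set ↥N) := by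
        rw [Subgroup.mem_normalizer_iff]
        intro y
        simp only [Subgroup.mem_subgroupOf, Subgroup.coe_mul, Subgroup.coe_inv]
        exact Subgroup.mem_normalizer_iff.mp hg y
      have h2 := hcond (Q'.subgroupOf N) hQ'p.comap_subtype _ h1 (by rw [Subgroup.orderOf_mk]; exact ho)
      intro q hq
      exact congrArg Subtype.val (h2 ⟨q, hQN hq⟩ hq)
    · obtain ⟨r0, hr0, hr0U⟩ := SetLike.not_le_iff_exists.mp hcl
      set R0 := D ⊓ Subgroup.centralizer (U : Set G) with hR0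
      have hQR0 : Q' ≤ Subgroup.normalizer (R0 : Set G) := by
        intro x hx
        have hxU : x ∈ Subgroup.normalizer (U : Set G) := hUn (Subgroup.le_normalizer hx)
        rw [Subgroup.mem_normalizer_iff]
        intro y
        have key : ∀ x ∈ (S : Subgroup G), x ∈ Subgroup.normalizer (U : Set G) → ∀ y ∈ R0, x * y * x⁻¹ ∈ R0 := by
          intro x hxS hxU y hy
          refine ⟨hDcl y hy.1 x ((S : Subgroup G).mul_mem ((S : Subgroup G).mul_mem hxS (hDS hy.1)) ((S : Subgroup G).inv_mem hxS)), ?_⟩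
          intro u hu
          have hu' : x⁻¹ * u * x ∈ U := by
            have := (Subgroup.mem_normalizer_iff.mp ((Subgroup.normalizer (U : Set G)).inv_mem hxU) u).mp hu
            simpa using this
          calc u * (x * y * x⁻¹) = x * ((x⁻¹ * u * x) * y) * x⁻¹ := by group
            _ = x * (y * (x⁻¹ * u * x)) * x⁻¹ := by rw [hy.2 _ hu']
            _ = x * y * x⁻¹ * u := by group
        constructor
        · exact key x (hQ'S hx) hxU y
        · intro hy
          have h3 := key x⁻¹ ((S : Subgroup G).inv_mem (hQ'S hx)) ((Subgroup.normalizer (U : Set G)).inv_mem hxU) _ hy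
          rwa [inv_inv, show x⁻¹ * (x * y * x⁻¹) * x = y by group] at h3
      set T := Q' ⊔ R0 with hT
      have hTS : T ≤ (S : Subgroup G) := sup_le hQ'S (inf_le_left.trans hDS)
      have hQT : Q' < T := by
        refine lt_of_le_of_ne le_sup_left fun he => hr0U ?_
        have : r0 ∈ Q' := by rw [he]; exact Subgroup.mem_sup_right hr0
        exact ⟨this, hr0.1⟩
      have hlt := lt_inf_normalizer (S.2.to_le hTS) hQT
      obtain ⟨w, hw, hwQ⟩ := SetLike.exists_of_lt hlt
      have hw' : w ∈ ((Q' : Set G) * (R0 : Set G)) := by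
        rw [← Subgroup.coe_mul_of_left_le_normalizer_right Q' R0 hQR0]
        exact hw.1
      obtain ⟨q, hq, r, hr, rfl⟩ := hw'
      have hrN : r ∈ Subgroup.normalizer (Q' : Set G) := by
        have := (Subgroup.normalizer (Q' : Set G)).mul_mem ((Subgroup.normalizer (Q' : Set G)).inv_mem (Subgroup.le_normalizer hq)) hw.2
        rwa [inv_mul_cancel_left] at this
      have hrS : r ∈ (S : Subgroup G) := hDS hr.1
      refine step Q' U hQ'p (hQ'p.to_le inf_le_left) hUn IH inf_le_left r hrN ?_ (fun hrQ => hwQ (Q'.mul_mem hq hrQ))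
        (fun u hu => (hr.2 u hu).symm) (fun x hx => ?_) g hg ho
      · obtain ⟨k, hk⟩ := S.2 ⟨r, hrS⟩
        exact ⟨k, congrArg Subtype.val hk⟩
      · refine ⟨Q'.mul_mem ((Subgroup.mem_normalizer_iff.mp hrN x).mp hx) (Q'.inv_mem hx), ?_⟩
        have h4 : x * r⁻¹ * x⁻¹ ∈ D := hDcl r⁻¹ (D.inv_mem hr.1) x
          ((S : Subgroup G).mul_mem ((S : Subgroup G).mul_mem (hQ'S hx) ((S : Subgroup G).inv_mem hrS)) ((S : Subgroup G).inv_mem (hQ'S hx)))
        have := D.mul_mem hr.1 h4
        rwa [show r * (x * r⁻¹ * x⁻¹) = r * x * r⁻¹ * x⁻¹ by group] at this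

end Cfsg.Agent.S3839
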