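import Cfsg.Statements.S3857
import Mathlib
import Cfsg.Agent.Lib.PLocal.Cores
import Cfsg.Agent.Lib.Hall.MinimalNormal
import Cfsg.Agent.Lib.Frobenius.Basic
import Cfsg.Agent.Lib.Coprime.FixedPointFree

set_option autoImplicit false
open Cfsg
open scoped commutatorElement

namespace Cfsg.Agent.S3857
section

/-- All prime divisors lie in `A`. -/
def PA (A : Set ℕ) (n : ℕ) : Prop := ∀ p : ℕ, p.Prime → p ∣ n → p ∈ A

theorem exists_max {G : Type*} [Group G] [Finite G] (A : Set ℕ) :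
    ∃ N : Subgroup G, N.Normal ∧ PA A (Nat.card N) ∧
      ∀ M : Subgroup G, M.Normal → PA A (Nat.card M) → M ≤ N := by
  obtain ⟨N, hN⟩ := (Set.toFinite {N : Subgroup G | N.Normal ∧ PA A (Nat.card N)}).exists_maximal
    ⟨⊥, inferInstance, fun p hp hd => by rw [Subgroup.card_bot, Nat.dvd_one] at hd; exact absurd hd hp.ne_one⟩
  obtain ⟨hNn, hNA⟩ := hN.1
  haveI := hNn
  refine ⟨N, hNn, hNA, fun M hM hMA => ?_⟩
  haveI := hM
  refine le_sup_left.trans (hN.2 ⟨inferInstance, fun p hp hd => ?_⟩ le_sup_right)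
  rcases (hp.dvd_mul).mp (hd.trans (Cfsg.Agent.PLocal.Cores.card_sup_dvd_of_normal M N)) with h | h
  · exact hMA p hp h
  · exact hNA p hp h

/-- No element of order `a * b`, `a ∈ A`, `b ∉ A`. -/
def Sep (A : Set ℕ) (G : Type*) [Group G] : Prop :=
  ∀ x y : G, Commute x y → ∀ a b : ℕ, a.Prime → b.Prime → a ∈ A → b ∉ A → a ∣ orderOf x → b ∣ orderOf y → False

theorem sep_map {A : Set ℕ} {G Q : Type*} [Group G] [Finite G] [Group Q] (f : G →* Q) (hf : Function.Surjective f)
    (hG : Sep A G) : Sep A Q := by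
  intro x y hxy a b ha hb haA hbA hax hby
  have hab : a.Coprime b := (Nat.coprime_primes ha hb).mpr fun e => hbA (e ▸ haA)
  obtain ⟨i, hi⟩ := hax
  obtain ⟨j, hj⟩ := hby
  haveI : Finite Q := Finite.of_surjective f hf
  have hi0 : i ≠ 0 := fun h => by rw [h, mul_zero] at hi; exact (orderOf_pos x).ne' hi
  have hj0 : j ≠ 0 := fun h => by rw [h, mul_zero] at hj; exact (orderOf_pos y).ne' hj
  have hx' : orderOf (x ^ i) = a := by
    rw [orderOf_pow' _ hi0, hi, Nat.gcd_eq_right (Dvd.intro_left a rfl), Nat.mul_div_cancel _ (Nat.pos_of_ne_zero hi0)]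
  have hy' : orderOf (y ^ j) = b := by
    rw [orderOf_pow' _ hj0, hj, Nat.gcd_eq_right (Dvd.intro_left b rfl), Nat.mul_div_cancel _ (Nat.pos_of_ne_zero hj0)]
  obtain ⟨w, hw⟩ := hf (x ^ i * y ^ j)
  have hd : a * b ∣ orderOf w := by
    rw [← hx', ← hy', ← ((hxy.pow_pow i j).orderOf_mul_eq_mul_orderOf_of_coprime (by rw [hx', hy']; exact hab)), ← hw]
    exact orderOf_map_dvd f w
  exact hG w w (Commute.refl w) a b ha hb haA hbA (dvd_of_mul_right_dvd hd) (dvd_of_mul_left_dvd hd)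

theorem sep_compl {A : Set ℕ} {G : Type*} [Group G] (h : Sep A G) : Sep Aᶜ G :=
  fun x y hxy a b ha hb haA hbA hax hby => h y x hxy.symm b a hb ha (not_not.mp hbA) haA hby hax

theorem pa_of_orderOf {A : Set ℕ} {G : Type*} [Group G] [Finite G] {N : Subgroup G} (hN : PA A (Nat.card N)) {x : G}
    (hx : x ∈ N) (hx1 : x ≠ 1) : ∃ a : ℕ, a.Prime ∧ a ∈ A ∧ a ∣ orderOf x := by
  obtain ⟨a, ha, had⟩ := Nat.exists_prime_and_dvd (show orderOf x ≠ 1 from fun h => hx1 (orderOf_eq_one_iff.mp h))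
  exact ⟨a, ha, hN a ha (had.trans (Subgroup.orderOf_dvd_natCard _ hx)), had⟩

theorem fpf_of_sep {A : Set ℕ} {G : Type*} [Group G] [Finite G] (h : Sep A G) {N K : Subgroup G}
    (hN : PA A (Nat.card N)) (hK : PA Aᶜ (Nat.card K)) :
    ∀ k ∈ K, k ≠ 1 → ∀ n ∈ N, n * k = k * n → n = 1 := by
  intro k hk hk1 n hn hc
  by_contra hn1
  obtain ⟨a, ha, haA, had⟩ := pa_of_orderOf hN hn hn1
  obtain ⟨b, hb, hbA, hbd⟩ := pa_of_orderOf hK hk hk1
  exact h n k hc a b ha hb haA hbA had hbd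

theorem coprime_of_pa {A : Set ℕ} {m n : ℕ} (hm : PA A m) (hn : PA Aᶜ n) : m.Coprime n :=
  Nat.coprime_of_dvd fun p hp hpm hpn => hn p hp hpn (hm p hp hpm)

theorem exists_prime_normal {G : Type*} [Group G] [Finite G] [Group.IsSolvable G] [Nontrivial G] :
    ∃ (M : Subgroup G) (p : ℕ), p.Prime ∧ M.Normal ∧ M ≠ ⊥ ∧ PA {p} (Nat.card M) := by
  obtain ⟨M, hMn, -, hM, hmin⟩ := Cfsg.Agent.Hall.exists_minimal_normal (⊤ : Subgroup G) top_ne_bot
  haveI := hMn
  obtain ⟨p, hp, -, -, -, hpow⟩ := Cfsg.Agent.Hall.minimal_normal_isElementaryAbelian (M := M) hM hmin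
  refine ⟨M, p, hp, hMn, hM, fun q hq hd => ?_⟩
  haveI := Fact.mk hq
  obtain ⟨x, hx⟩ := exists_prime_orderOf_dvd_card' q hd
  have h1 : (x : G) ^ p = 1 := hpow x x.2
  have h2 : orderOf x ∣ p := orderOf_dvd_of_pow_eq_one (Subtype.ext (by simpa using h1))
  rw [hx] at h2
  exact (Nat.prime_dvd_prime_iff_eq hq hp).mp h2

theorem card_pos_witness {A : Set ℕ} {G Q : Type*} [Group G] [Finite G] [Group Q] (f : G →* Q) {b : ℕ} (hb : b.Prime)
    (hbA : b ∉ A) (hbd : b ∣ Nat.card G) (hker : PA A (Nat.card f.ker)) (hf : Function.Surjective f) :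
    b ∣ Nat.card Q := by
  rw [← Subgroup.card_mul_index f.ker] at hbd
  rcases hb.dvd_mul.mp hbd with h | h
  · exact absurd (hker b hb h) hbA
  · rwa [Subgroup.index_ker, MonoidHom.range_eq_top.mpr hf, Subgroup.card_top] at h

theorem main {G : Type*} [Group G] [Finite G] [Group.IsSolvable G] (A : Set ℕ) (hG : Sep A G)
    {b : ℕ} (hb : b.Prime) (hbA : b ∉ A) (hbd : b ∣ Nat.card G)
    (hM : ∃ M : Subgroup G, M.Normal ∧ M ≠ ⊥ ∧ PA A (Nat.card M)) :
    (∃ C : Subgroup G, Cfsg.IsFrobeniusComplement C) ∨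
    (∃ (H K : Subgroup G) (_ : H.Normal), K.Normal ∧ H < K ∧
      (∃ C : Subgroup ↥K, Cfsg.IsFrobeniusComplement C ∧ Cfsg.frobeniusKernel C = (H.subgroupOf K : Set ↥K)) ∧
      (∃ C : Subgroup (G ⧸ H), Cfsg.IsFrobeniusComplement C ∧ Cfsg.frobeniusKernel C = (K.map (QuotientGroup.mk' H) : Set (G ⧸ H)))) := by
  classical
  obtain ⟨H, hHn, hHA, hHmax⟩ := exists_max (G := G) A
  haveI := hHn
  have hH1 : H ≠ ⊥ := by
    obtain ⟨M, hMn, hM1, hMA⟩ := hM
    exact fun h => hM1 (eq_bot_iff.mpr ((hHmax M hMn hMA).trans h.le))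
  set π := QuotientGroup.mk' H with hπ
  have hπs : Function.Surjective π := QuotientGroup.mk'_surjective H
  have hG1 : Sep A (G ⧸ H) := sep_map π hπs hG
  have hker : PA A (Nat.card π.ker) := by rw [hπ, QuotientGroup.ker_mk']; exact hHA
  have hb1 : b ∣ Nat.card (G ⧸ H) := card_pos_witness π hb hbA hbd hker hπs
  haveI : Nontrivial (G ⧸ H) := Finite.one_lt_card_iff_nontrivial.mp
    (hb.one_lt.trans_le (Nat.le_of_dvd Nat.card_pos hb1))
  obtain ⟨Kb, hKbn, hKbA, hKbmax⟩ := exists_max (G := G ⧸ H) Aᶜ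
  haveI := hKbn
  have hKb1 : Kb ≠ ⊥ := by
    obtain ⟨M, p, hp, hMn, hM1, hMp⟩ := exists_prime_normal (G := G ⧸ H)
    haveI := hMn
    by_cases hpA : p ∈ A
    · exfalso
      have hpre : PA A (Nat.card (M.comap π)) := by
        intro q hq hd
        rw [← (H.subgroupOf (M.comap π)).card_mul_index] at hd
        rcases hq.dvd_mul.mp hd with h | h
        · refine hHA q hq (h.trans ?_)
          rw [Nat.card_congr (Subgroup.subgroupOfEquivOfLe (QuotientGroup.le_comap_mk' H M)).toEquiv]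
        · rw [show (H.subgroupOf (M.comap π)).index = Nat.card M by
            have e : H.subgroupOf (M.comap π) = (π.domRestrict (M.comap π)).ker := by
              rw [MonoidHom.ker_domRestrict, hπ, QuotientGroup.ker_mk']
            rw [e, Subgroup.index_ker, MonoidHom.domRestrict_range, Subgroup.map_comap_eq_self_of_surjective hπs]] at h
          exact (hMp q hq h) ▸ hpA
      have := hHmax _ inferInstance hpre
      refine hM1 (eq_bot_iff.mpr ?_)
      rw [← Subgroup.map_comap_eq_self_of_surjective hπs M]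
      refine (Subgroup.map_mono this).trans ?_
      rw [hπ, QuotientGroup.map_mk'_self]
    · exact fun h => hM1 (eq_bot_iff.mpr ((hKbmax M hMn (fun q hq hd => (hMp q hq hd) ▸ hpA)).trans h.le))
  set K := Kb.comap π with hK
  haveI : K.Normal := by rw [hK]; infer_instance
  have hHK : H ≤ K := QuotientGroup.le_comap_mk' H Kb
  have hKmap : K.map π = Kb := Subgroup.map_comap_eq_self_of_surjective hπs Kb
  -- complement in `K`
  set H' := H.subgroupOf K with hH'
  have hH'c : Nat.card H' = Nat.card H := Nat.card_congr (Subgroup.subgroupOfEquivOfLe hHK).toEquiv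
  have hidx : H'.index = Nat.card Kb := by
    have e : H' = (π.domRestrict K).ker := by rw [MonoidHom.ker_domRestrict, hπ, QuotientGroup.ker_mk']
    rw [e, Subgroup.index_ker, MonoidHom.domRestrict_range, hKmap]
  obtain ⟨K₀, hK₀⟩ := Subgroup.exists_right_complement'_of_coprime (N := H')
    (by rw [hH'c, hidx]; exact coprime_of_pa hHA hKbA)
  have hK₀c : Nat.card K₀ = Nat.card Kb := by
    rw [← hidx, hK₀.symm.index_eq_card]
  have hsepK : Sep A ↥K := fun x y hxy a b ha hb haA hbA hax hby =>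
    hG x y (hxy.map K.subtype) a b ha hb haA hbA (by rwa [Subgroup.orderOf_coe]) (by rwa [Subgroup.orderOf_coe])
  have hfix : ∀ k ∈ K₀, k ≠ 1 → ∀ n ∈ H', n * k = k * n → n = 1 :=
    fpf_of_sep hsepK (by rw [hH'c]; exact hHA) (by rw [hK₀c]; exact hKbA)
  have hH'1 : H' ≠ ⊥ := fun h => hH1 (Subgroup.eq_bot_of_card_eq H (by rw [← hH'c, h, Subgroup.card_bot]))
  have hK₀1 : K₀ ≠ ⊥ := fun h => hKb1 (Subgroup.eq_bot_of_card_eq Kb (by rw [← hK₀c, h, Subgroup.card_bot]))
  obtain ⟨hFC, hFK⟩ := Cfsg.Agent.Frobenius.Basic.isFrobeniusComplement_of_fixedPointFree H' K₀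
    hK₀.disjoint.eq_bot hK₀.sup_eq_top hH'1 hK₀1 hfix
  by_cases hKtop : K = ⊤
  · left
    refine ⟨K₀.map K.subtype, ?_⟩
    have hsup : H ⊔ K₀.map K.subtype = ⊤ := by
      have := congrArg (Subgroup.map K.subtype) hK₀.sup_eq_top
      rw [Subgroup.map_sup, Subgroup.map_subgroupOf_eq_of_le hHK, ← MonoidHom.range_eq_map, Subgroup.range_subtype] at this
      rw [this, hKtop]
    have hinf : H ⊓ K₀.map K.subtype = ⊥ := by
      rw [eq_bot_iff]
      rintro x ⟨hxH, y, hy, rfl⟩
      have : y ∈ H' ⊓ K₀ := ⟨hxH, hy⟩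
      rw [hK₀.disjoint.eq_bot, Subgroup.mem_bot] at this
      rw [Subgroup.mem_bot, this, map_one]
    refine (Cfsg.Agent.Frobenius.Basic.isFrobeniusComplement_of_fixedPointFree H (K₀.map K.subtype) hinf hsup hH1
      (fun h => hK₀1 ((Subgroup.map_eq_bot_iff_of_injective _ K.subtype_injective).mp h)) ?_).1
    exact fpf_of_sep hG hHA (by rw [Subgroup.card_map_of_injective K.subtype_injective, hK₀c]; exact hKbA)
  right
  refine ⟨H, K, hHn, inferInstance, lt_of_le_of_ne hHK fun e => hKb1 ?_, ⟨K₀, hFC, hFK⟩, ?_⟩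
  · rw [← hKmap, ← e, hπ, QuotientGroup.map_mk'_self]
  -- a cyclic characteristic subgroup of `Kb`
  obtain ⟨Y, hYn, hYK, hY1, hYcyc⟩ : ∃ Y : Subgroup (G ⧸ H), Y.Normal ∧ Y ≤ Kb ∧ Y ≠ ⊥ ∧ IsCyclic Y := by
    have hs : Group.IsSolvable ↥Kb := inferInstance
    obtain ⟨n, hn⟩ := hs.solvable
    have hex : ∃ n, derivedSeries ↥Kb n = ⊥ := ⟨n, hn⟩
    have h0 : Nat.find hex ≠ 0 := by
      intro h
      have h2 := Nat.find_spec hex
      rw [h, derivedSeries_zero] at h2
      exact hKb1 (Subgroup.eq_bot_of_card_eq Kb (by rw [← Subgroup.card_top, h2, Subgroup.card_bot]))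
    set D := derivedSeries ↥Kb (Nat.find hex - 1)
    haveI : D.Characteristic := derivedSeries_characteristic ↥Kb _
    have hD1 : D ≠ ⊥ := Nat.find_min hex (by omega)
    have hDab : IsMulCommutative D := by
      have h1 : ⁅D, D⁆ = ⊥ := by
        rw [← derivedSeries_succ, Nat.sub_add_cancel (by omega)]; exact Nat.find_spec hex
      rw [← Subgroup.le_centralizer_iff_isMulCommutative, ← Subgroup.commutator_eq_bot_iff_le_centralizer]
      exact h1
    refine ⟨D.map Kb.subtype, inferInstance, Subgroup.map_subtype_le D,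
      fun h => hD1 ((Subgroup.map_eq_bot_iff_of_injective _ Kb.subtype_injective).mp h), ?_⟩
    -- pull back to the complement
    let g : ↥K₀ →* ↥Kb := ((π.domRestrict K).comp K₀.subtype).codRestrict Kb (fun x => x.1.2)
    have hginj : Function.Injective g := by
      rw [injective_iff_map_eq_one]
      intro x hx
      have h1 : π ((x : ↥K) : G) = 1 := congrArg Subtype.val hx
      have : (x : ↥K) ∈ H' ⊓ K₀ := ⟨by simpa [hπ, hH', Subgroup.mem_subgroupOf] using h1, x.2⟩
      rw [hK₀.disjoint.eq_bot, Subgroup.mem_bot] at this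
      exact Subtype.ext this
    have hgbij : Function.Bijective g := (Nat.bijective_iff_injective_and_card g).mpr ⟨hginj, hK₀c⟩
    set Y₀ := (D.comap g).map K₀.subtype with hY₀
    haveI : IsMulCommutative Y₀ := ⟨⟨fun a b => by
      obtain ⟨a', ha', hae⟩ := a.2
      obtain ⟨b', hb', hbe⟩ := b.2
      have h1 : g a' * g b' = g b' * g a' := congrArg Subtype.val (hDab.is_comm.comm (⟨_, ha'⟩ : D) ⟨_, hb'⟩)
      rw [← map_mul, ← map_mul] at h1
      apply Subtype.ext
      show (a : ↥K) * b = b * a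
      rw [← hae, ← hbe, ← map_mul, ← map_mul, hginj h1]⟩⟩
    haveI := Cfsg.Agent.Coprime.fpf_isCyclic_of_abelian (A := Y₀) (K := H')
      (le_of_le_of_eq le_top (Subgroup.normalizer_eq_top_iff.mpr inferInstance).symm) (fun a ha ha1 => by
        rw [eq_bot_iff]
        rintro n ⟨hn, hc⟩
        exact Subgroup.mem_bot.mpr (hfix a (Subgroup.map_subtype_le _ ha) ha1 n hn
          (Subgroup.mem_centralizer_singleton_iff.mp hc))) hH'1
    haveI : IsCyclic (D.comap g) :=
      isCyclic_of_surjective _ (Subgroup.equivMapOfInjective (D.comap g) K₀.subtype K₀.subtype_injective).symm.surjective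
    haveI : IsCyclic ((D.comap g).map g) :=
      isCyclic_of_surjective _ (Subgroup.equivMapOfInjective (D.comap g) g hginj).surjective
    rw [Subgroup.map_comap_eq_self_of_surjective hgbij.2] at *
    exact isCyclic_of_surjective _ (Subgroup.equivMapOfInjective D Kb.subtype Kb.subtype_injective).surjective
  haveI := hYn
  -- `(G/H)/Kb` is an `A`-group
  set ρ := QuotientGroup.mk' Kb with hρ
  have hρs : Function.Surjective ρ := QuotientGroup.mk'_surjective Kb
  have hG2 : Sep A ((G ⧸ H) ⧸ Kb) := sep_map ρ hρs hG1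
  have hQA : PA A (Nat.card ((G ⧸ H) ⧸ Kb)) := by
    intro q hq hqd
    by_contra hqA
    haveI := Fact.mk hq
    obtain ⟨bb, hbb⟩ := exists_prime_orderOf_dvd_card' q hqd
    haveI : Nontrivial ((G ⧸ H) ⧸ Kb) := Finite.one_lt_card_iff_nontrivial.mp
      (hq.one_lt.trans_le (Nat.le_of_dvd Nat.card_pos hqd))
    obtain ⟨L, hLn, hLA, hLmax⟩ := exists_max (G := (G ⧸ H) ⧸ Kb) A
    haveI := hLn
    have hL1 : L ≠ ⊥ := by
      obtain ⟨M, p, hp, hMn, hM1, hMp⟩ := exists_prime_normal (G := (G ⧸ H) ⧸ Kb)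
      haveI := hMn
      by_cases hpA : p ∈ A
      · exact fun h => hM1 (eq_bot_iff.mpr ((hLmax M hMn (fun q hq hd => (hMp q hq hd) ▸ hpA)).trans h.le))
      · exfalso
        have hpre : PA Aᶜ (Nat.card (M.comap ρ)) := by
          intro q hq hd
          rw [← (Kb.subgroupOf (M.comap ρ)).card_mul_index] at hd
          rcases hq.dvd_mul.mp hd with h | h
          · refine hKbA q hq (h.trans ?_)
            rw [Nat.card_congr (Subgroup.subgroupOfEquivOfLe (QuotientGroup.le_comap_mk' Kb M)).toEquiv]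
          · rw [show (Kb.subgroupOf (M.comap ρ)).index = Nat.card M by
              have e : Kb.subgroupOf (M.comap ρ) = (ρ.domRestrict (M.comap ρ)).ker := by
                rw [MonoidHom.ker_domRestrict, hρ, QuotientGroup.ker_mk']
              rw [e, Subgroup.index_ker, MonoidHom.domRestrict_range, Subgroup.map_comap_eq_self_of_surjective hρs]] at h
            exact (hMp q hq h) ▸ hpA
        have := hKbmax _ inferInstance hpre
        refine hM1 (eq_bot_iff.mpr ?_)
        rw [← Subgroup.map_comap_eq_self_of_surjective hρs M]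
        refine (Subgroup.map_mono this).trans ?_
        rw [hρ, QuotientGroup.map_mk'_self]
    obtain ⟨l, hl, hlb⟩ : ∃ l ∈ L, ¬ Commute l bb := by
      by_contra h
      push Not at h
      obtain ⟨l, hl, hl1⟩ := (Subgroup.bot_or_exists_ne_one L).resolve_left hL1
      obtain ⟨a, ha, haA, had⟩ := pa_of_orderOf hLA hl hl1
      exact hG2 l bb (h l hl) a q ha hq haA hqA had (dvd_of_eq hbb.symm)
    have hc1 : ⁅l, bb⁆ ≠ 1 := fun h => hlb (commutatorElement_eq_one_iff_commute.mp h)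
    have hcL : ⁅l, bb⁆ ∈ L := by
      rw [commutatorElement_def, mul_assoc, mul_assoc]
      refine mul_mem hl ?_
      rw [← mul_assoc]
      exact hLn.conj_mem _ (inv_mem hl) bb
    obtain ⟨a, ha, haA, had⟩ := pa_of_orderOf hLA hcL hc1
    obtain ⟨l', rfl⟩ := hρs l
    obtain ⟨b', rfl⟩ := hρs bb
    obtain ⟨⟨y, hyY⟩, hygen⟩ := hYcyc.exists_generator
    have hconj : ∀ g : G ⧸ H, ∃ i : ℤ, g * y * g⁻¹ = y ^ i := fun g => by
      obtain ⟨i, hi⟩ := Subgroup.mem_zpowers_iff.mp (hygen ⟨_, hYn.conj_mem y hyY g⟩)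
      exact ⟨i, (congrArg Subtype.val hi).symm⟩
    have hcomm : Commute ⁅l', b'⁆ y := by
      obtain ⟨i, hi⟩ := hconj l'
      obtain ⟨j, hj⟩ := hconj b'
      have h1 : (l' * b') * y * (l' * b')⁻¹ = (b' * l') * y * (b' * l')⁻¹ := by
        calc (l' * b') * y * (l' * b')⁻¹ = l' * (b' * y * b'⁻¹) * l'⁻¹ := by group
          _ = y ^ (i * j) := by rw [hj, ← conj_zpow, hi, ← zpow_mul]
          _ = b' * (l' * y * l'⁻¹) * b'⁻¹ := by rw [hi, ← conj_zpow, hj, ← zpow_mul, mul_comm]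
          _ = _ := by group
      have h2 : Commute ((b' * l')⁻¹ * (l' * b')) y := by
        have := congrArg (fun t => (b' * l')⁻¹ * t * (l' * b')) h1
        simp only [mul_assoc, inv_mul_cancel, inv_mul_cancel_left, mul_one] at this
        show (b' * l')⁻¹ * (l' * b') * y = y * ((b' * l')⁻¹ * (l' * b'))
        calc (b' * l')⁻¹ * (l' * b') * y = (b' * l')⁻¹ * ((l' * b') * y * (l' * b')⁻¹) * (l' * b') := by group
          _ = (b' * l')⁻¹ * ((b' * l') * y * (b' * l')⁻¹) * (l' * b') := by rw [h1]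
          _ = _ := by group
      have h3 : ⁅l', b'⁆ = (b' * l') * ((b' * l')⁻¹ * (l' * b')) * (b' * l')⁻¹ := by
        rw [commutatorElement_def]; group
      obtain ⟨k, hk⟩ := hconj (b' * l')⁻¹
      have h4 : Commute ((b' * l')⁻¹ * (l' * b')) ((b' * l')⁻¹ * y * (b' * l')) := by
        rw [show (b' * l')⁻¹ * y * (b' * l') = y ^ k by rw [← hk, inv_inv]]
        exact h2.zpow_right k
      have h5 := h4.map (MulAut.conj (b' * l')).toMonoidHom
      simp only [MulEquiv.coe_toMonoidHom, MulAut.conj_apply] at h5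
      rw [← h3] at h5
      simpa [mul_assoc] using h5
    have hy1 : y ≠ 1 := by
      intro h
      apply hY1
      rw [eq_bot_iff]
      intro z hz
      obtain ⟨i, hi⟩ := Subgroup.mem_zpowers_iff.mp (hygen ⟨z, hz⟩)
      have := congrArg Subtype.val hi
      simp [h] at this
      exact Subgroup.mem_bot.mpr this.symm
    obtain ⟨c, hc, hcA, hcd⟩ := pa_of_orderOf hKbA (hYK hyY) hy1
    refine hG1 _ y hcomm a c ha hc haA hcA ?_ hcd
    rw [← map_commutatorElement] at had
    exact had.trans (orderOf_map_dvd ρ _)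
  obtain ⟨C, hC⟩ := Subgroup.exists_right_complement'_of_coprime (N := Kb) (by
    rw [Subgroup.index_eq_card]
    exact (coprime_of_pa hQA hKbA).symm)
  have hCc : Nat.card C = Nat.card ((G ⧸ H) ⧸ Kb) := by rw [← Subgroup.index_eq_card, hC.symm.index_eq_card]
  have hC1 : C ≠ ⊥ := by
    intro h
    apply hKtop
    have : Kb = ⊤ := by
      have := hC.sup_eq_top
      rwa [h, sup_bot_eq] at this
    rw [hK, this, Subgroup.comap_top]
  refine ⟨C, ?_⟩
  rw [hKmap]
  exact Cfsg.Agent.Frobenius.Basic.isFrobeniusComplement_of_fixedPointFree Kb C hC.disjoint.eq_bot hC.sup_eq_top hKb1 hC1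
    (fpf_of_sep (sep_compl hG1) hKbA (by rw [compl_compl, hCc]; exact hQA))

end

/-- A finite solvable group whose prime graph (prime divisors of the order, two distinct primes joined when there is an element of order their product) is disconnected is a Frobenius group or a 2-Frobenius group (it has normal subgroups H < K with K a Frobenius group with kernel H and G/H a Frobenius group with kernel K/H). -/
theorem result {G : Type*} [Group G] [Finite G] (hsol : Group.IsSolvable G)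
    (hdisc : (∃ A : Set ℕ, (∃ a ∈ A, a.Prime ∧ a ∣ Nat.card G) ∧ (∃ b ∉ A, b.Prime ∧ b ∣ Nat.card G) ∧
      ∀ a ∈ A, ∀ b ∉ A, a.Prime → b.Prime → a ∣ Nat.card G → b ∣ Nat.card G → ¬ ∃ g : G, orderOf g = a * b)) :
    (∃ C : Subgroup G, Cfsg.IsFrobeniusComplement C) ∨
    (∃ (H K : Subgroup G) (_ : H.Normal), K.Normal ∧ H < K ∧
      (∃ C : Subgroup ↥K, Cfsg.IsFrobeniusComplement C ∧ Cfsg.frobeniusKernel C = (H.subgroupOf K : Set ↥K)) ∧
      (∃ C : Subgroup (G ⧸ H), Cfsg.IsFrobeniusComplement C ∧ Cfsg.frobeniusKernel C = (K.map (QuotientGroup.mk' H) : Set (G ⧸ H)))) := by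
  classical
  obtain ⟨A, ⟨a, haA, hap, had⟩, ⟨b, hbA, hbp, hbd⟩, hsep⟩ := hdisc
  haveI := hsol
  have hG : Sep A G := by
    intro x y hxy a b ha hb haA hbA hax hby
    obtain ⟨i, hi⟩ := hax
    obtain ⟨j, hj⟩ := hby
    have hi0 : i ≠ 0 := fun h => by rw [h, mul_zero] at hi; exact (orderOf_pos x).ne' hi
    have hj0 : j ≠ 0 := fun h => by rw [h, mul_zero] at hj; exact (orderOf_pos y).ne' hj
    have hx' : orderOf (x ^ i) = a := by
      rw [orderOf_pow' _ hi0, hi, Nat.gcd_eq_right (Dvd.intro_left a rfl), Nat.mul_div_cancel _ (Nat.pos_of_ne_zero hi0)]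
    have hy' : orderOf (y ^ j) = b := by
      rw [orderOf_pow' _ hj0, hj, Nat.gcd_eq_right (Dvd.intro_left b rfl), Nat.mul_div_cancel _ (Nat.pos_of_ne_zero hj0)]
    refine hsep a haA b hbA ha hb (hx' ▸ orderOf_dvd_natCard _) (hy' ▸ orderOf_dvd_natCard _) ⟨x ^ i * y ^ j, ?_⟩
    rw [(hxy.pow_pow i j).orderOf_mul_eq_mul_orderOf_of_coprime (by
      rw [hx', hy']; exact (Nat.coprime_primes ha hb).mpr fun e => hbA (e ▸ haA)), hx', hy']
  haveI : Nontrivial G := Finite.one_lt_card_iff_nontrivial.mp (hap.one_lt.trans_le (Nat.le_of_dvd Nat.card_pos had))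
  obtain ⟨M, p, hp, hMn, hM1, hMp⟩ := exists_prime_normal (G := G)
  by_cases hpA : p ∈ A
  · exact main A hG hbp hbA hbd ⟨M, hMn, hM1, fun q hq hd => (hMp q hq hd) ▸ hpA⟩
  · exact main Aᶜ (sep_compl hG) hap (fun h => h haA) had ⟨M, hMn, hM1, fun q hq hd => (hMp q hq hd) ▸ hpA⟩

end Cfsg.Agent.S3857
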