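import Cfsg.Statements.S3858
import Mathlib

set_option autoImplicit false
open Cfsg
open scoped commutatorElement

namespace Cfsg.Agent.S3858

/-- Let G be a finite group with a normal non-abelian simple subgroup T whose centralizer is trivial (G almost simple with socle T), r a prime and R a Sylow r-subgroup of G meeting T nontrivially. Then R lies in exactly one maximal subgroup of G if and only if G has exactly one conjugacy class of maximal subgroups whose index is prime to r. -/
theorem result {G : Type*} [Group G] [Finite G] (T : Subgroup G) [T.Normal] (hT : IsSimpleGroup T) (hna : ¬ IsMulCommutative T)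
    (hC : Subgroup.centralizer (T : Set G) = ⊥) {r : ℕ} [Fact r.Prime] (R : Sylow r G) (hR0 : (R : Subgroup G) ⊓ T ≠ ⊥) :
    (∃! M : Subgroup G, IsCoatom M ∧ (R : Subgroup G) ≤ M) ↔
      ((∃ M : Subgroup G, IsCoatom M ∧ ¬ r ∣ M.index) ∧
        ∀ M₁ M₂ : Subgroup G, IsCoatom M₁ → ¬ r ∣ M₁.index → IsCoatom M₂ → ¬ r ∣ M₂.index → ∃ g : G, M₂ = M₁.map (MulAut.conj g).toMonoidHom) := by
  have hconjmap : ∀ (a : G) (K : Subgroup G), a ∈ K → K.map (MulAut.conj a).toMonoidHom = K := by
    intro a K ha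
    ext y
    constructor
    · rintro ⟨z, hz, rfl⟩; exact mul_mem (mul_mem ha hz) (inv_mem ha)
    · intro hy; exact ⟨a⁻¹ * y * a, mul_mem (mul_mem (inv_mem ha) hy) ha, by simp [mul_assoc]⟩
  have hcomp : ∀ (a b : G) (K : Subgroup G), K.map (MulAut.conj (a * b)).toMonoidHom =
      (K.map (MulAut.conj b).toMonoidHom).map (MulAut.conj a).toMonoidHom := by
    intro a b K; rw [map_mul, Subgroup.map_map]; rfl
  have hone : ∀ K : Subgroup G, K.map (MulAut.conj (1 : G)).toMonoidHom = K := by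
    intro K; rw [map_one]; exact Subgroup.map_id K
  have hcoatom : ∀ (a : G) (M : Subgroup G), IsCoatom M → IsCoatom (M.map (MulAut.conj a).toMonoidHom) := fun a M hM =>
    ((MulAut.conj a).mapSubgroup.isCoatom_iff M).mpr hM
  have hge : ∀ M : Subgroup G, ¬ r ∣ M.index → ∃ a : G, (R : Subgroup G) ≤ M.map (MulAut.conj a).toMonoidHom := by
    intro M hM
    obtain ⟨Q⟩ : Nonempty (Sylow r M) := inferInstance
    obtain ⟨R', hR'⟩ := (Q.isPGroup'.map M.subtype).exists_le_sylow
    have hR'M : (R' : Subgroup G) ≤ M := by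
      have hidx : ¬ r ∣ ((Q : Subgroup M).map M.subtype).index := by
        rw [Subgroup.index_map_subtype]
        exact fun h => ((Fact.out : r.Prime).dvd_mul.mp h).elim (Sylow.not_dvd_index Q) hM
      have : (R' : Subgroup G) = (Q : Subgroup M).map M.subtype := by
        obtain ⟨n, hn⟩ := IsPGroup.iff_card.mp (Q.isPGroup'.map M.subtype)
        obtain ⟨m, hm⟩ := IsPGroup.iff_card.mp R'.isPGroup'
        refine (Subgroup.eq_of_le_of_card_ge hR' ?_).symm
        have h1 := ((Q : Subgroup M).map M.subtype).card_mul_index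
        have h2 := Subgroup.card_subgroup_dvd_card (R' : Subgroup G)
        rw [← h1, hm, hn] at h2
        rw [hm, hn]
        refine Nat.le_of_dvd (pow_pos (Fact.out : r.Prime).pos n) ?_
        exact (Nat.Coprime.pow_left m ((Fact.out : r.Prime).coprime_iff_not_dvd.mpr hidx)).dvd_of_dvd_mul_right h2
      rw [this]
      rintro _ ⟨x, _, rfl⟩
      exact x.2
    obtain ⟨a, ha⟩ := MulAction.exists_smul_eq G R' R
    exact ⟨a, ha ▸ Subgroup.map_mono hR'M⟩
  have hidx : ∀ M : Subgroup G, (R : Subgroup G) ≤ M → ¬ r ∣ M.index := fun M hM h =>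
    R.not_dvd_index (h.trans (Subgroup.index_dvd_of_le hM))
  constructor
  · rintro ⟨M, ⟨hM, hRM⟩, hu⟩
    refine ⟨⟨M, hM, hidx M hRM⟩, fun M₁ M₂ h₁ h₁' h₂ h₂' => ?_⟩
    obtain ⟨a, ha⟩ := hge M₁ h₁'
    obtain ⟨b, hb⟩ := hge M₂ h₂'
    have e : M₁.map (MulAut.conj a).toMonoidHom = M₂.map (MulAut.conj b).toMonoidHom :=
      (hu _ ⟨hcoatom a M₁ h₁, ha⟩).trans (hu _ ⟨hcoatom b M₂ h₂, hb⟩).symm
    exact ⟨b⁻¹ * a, by rw [hcomp, e, ← hcomp, inv_mul_cancel, hone]⟩
  · rintro ⟨⟨M₀, hM₀, hM₀'⟩, hconj⟩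
    obtain ⟨a, ha⟩ := hge M₀ hM₀'
    refine ⟨_, ⟨hcoatom a M₀ hM₀, ha⟩, fun M hM => ?_⟩
    have hN : Subgroup.normalizer ((R : Subgroup G) : Set G) ≠ ⊤ := by
      intro h
      have hn := Subgroup.normalizer_eq_top_iff.mp h
      rcases (hn.subgroupOf T).eq_bot_or_eq_top with h1 | h1
      · rw [Subgroup.subgroupOf_eq_bot, disjoint_iff] at h1
        exact hR0 h1
      · have hTp : IsPGroup r T := R.isPGroup'.to_le (Subgroup.subgroupOf_eq_top.mp h1)
        haveI := hT
        haveI := hT.toNontrivial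
        haveI := hTp.center_nontrivial
        rcases (inferInstance : (Subgroup.center T).Normal).eq_bot_or_eq_top with h2 | h2
        · exact (Subgroup.nontrivial_iff_ne_bot _).mp inferInstance h2
        · exact hna (Subgroup.center_eq_top_iff.mp h2)
    obtain ⟨M₃, hM₃, hle₃⟩ := IsCoatomic.eq_top_or_exists_le_coatom
      (Subgroup.normalizer ((R : Subgroup G) : Set G)) |>.resolve_left hN
    suffices h : ∀ M : Subgroup G, IsCoatom M → (R : Subgroup G) ≤ M → M = M₃ from
      (h M hM.1 hM.2).trans (h _ (hcoatom a M₀ hM₀) ha).symm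
    intro M hM hRM
    obtain ⟨g, hg⟩ := hconj M₃ M hM₃ (hidx M₃ (Subgroup.le_normalizer.trans hle₃)) hM (hidx M hRM)
    have hgR : ((g • R : Sylow r G) : Subgroup G) ≤ M := hg ▸ Subgroup.map_mono (Subgroup.le_normalizer.trans hle₃)
    obtain ⟨m, hm⟩ := MulAction.exists_smul_eq M ((g • R).subtype hgR) (R.subtype hRM)
    have hmR : ((m : G) * g) • R = R := by
      rw [mul_smul]
      apply Sylow.ext
      have hm' := congrArg (fun Q : Sylow r M => (Q : Subgroup M).map M.subtype) hm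
      simp only [Sylow.coe_subgroup_smul, Sylow.coe_subtype] at hm'
      rw [Subgroup.map_subgroupOf_eq_of_le hRM] at hm'
      refine Eq.trans ?_ hm'
      ext y
      simp only [Sylow.coe_subgroup_smul]
      constructor
      · rintro ⟨z, hz, rfl⟩
        exact ⟨m * ⟨z, hgR hz⟩ * m⁻¹, ⟨⟨z, hgR hz⟩, hz, rfl⟩, rfl⟩
      · rintro ⟨_, ⟨z, hz, rfl⟩, rfl⟩
        exact ⟨z, hz, rfl⟩
    have hn := hle₃ (Sylow.smul_eq_iff_mem_normalizer.mp hmR)
    calc M = M.map (MulAut.conj (m : G)).toMonoidHom := (hconjmap _ M m.2).symm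
      _ = M₃.map (MulAut.conj ((m : G) * g)).toMonoidHom :=
        (congrArg (Subgroup.map (MulAut.conj (m : G)).toMonoidHom) hg).trans (hcomp (m : G) g M₃).symm
      _ = M₃ := hconjmap _ M₃ hn

end Cfsg.Agent.S3858
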