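import Cfsg.Statements.S3859
import Mathlib

set_option autoImplicit false
open Cfsg
open scoped commutatorElement

namespace Cfsg.Agent.S3859

/-- Let G be a finite group with a normal non-abelian simple subgroup T whose centralizer is trivial (G almost simple with socle T), r a prime and R a Sylow r-subgroup of G meeting T nontrivially. If R lies in exactly one maximal subgroup of G, then G/T is an r-group. -/
theorem result {G : Type*} [Group G] [Finite G] (T : Subgroup G) [T.Normal] (hT : IsSimpleGroup T) (hna : ¬ IsMulCommutative T)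
    (hC : Subgroup.centralizer (T : Set G) = ⊥) {r : ℕ} [Fact r.Prime] (R : Sylow r G) (hR0 : (R : Subgroup G) ⊓ T ≠ ⊥)
    (huniq : ∃! M : Subgroup G, IsCoatom M ∧ (R : Subgroup G) ≤ M) : IsPGroup r (G ⧸ T) := by
  obtain ⟨M, ⟨hM, hRM⟩, hu⟩ := huniq
  have hRT : IsPGroup r ↥(((R : Subgroup G) ⊓ T).subgroupOf T) := by
    exact (R.isPGroup'.to_le inf_le_left).comap_of_injective T.subtype T.subtype_injective
  have hN : Subgroup.normalizer (((R : Subgroup G) ⊓ T : Subgroup G) : Set G) ≠ ⊤ := by
    intro h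
    have hn := Subgroup.normalizer_eq_top_iff.mp h
    rcases (hn.subgroupOf T).eq_bot_or_eq_top with h1 | h1
    · rw [Subgroup.subgroupOf_eq_bot, disjoint_iff] at h1
      exact hR0 (by simpa using h1)
    · have hTR : T ≤ (R : Subgroup G) := (Subgroup.subgroupOf_eq_top.mp h1).trans inf_le_left
      have hTp : IsPGroup r T := R.isPGroup'.to_le hTR
      haveI := hT
      have hnt : Nontrivial T := hT.toNontrivial
      haveI := hTp.center_nontrivial
      rcases (inferInstance : (Subgroup.center T).Normal).eq_bot_or_eq_top with h2 | h2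
      · exact (Subgroup.nontrivial_iff_ne_bot _).mp inferInstance h2
      · exact hna (Subgroup.center_eq_top_iff.mp h2)
  have hTR : T ⊔ (R : Subgroup G) = ⊤ := by
    by_contra h
    obtain ⟨M', hM', hle⟩ := IsCoatomic.eq_top_or_exists_le_coatom (T ⊔ (R : Subgroup G)) |>.resolve_left h
    have hTM : T ≤ M := (hu M' ⟨hM', le_sup_right.trans hle⟩) ▸ le_sup_left.trans hle
    obtain ⟨M₂, hM₂, hle₂⟩ := IsCoatomic.eq_top_or_exists_le_coatom
      (Subgroup.normalizer (((R : Subgroup G) ⊓ T : Subgroup G) : Set G)) |>.resolve_left hN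
    have hRN : (R : Subgroup G) ≤ Subgroup.normalizer (((R : Subgroup G) ⊓ T : Subgroup G) : Set G) := by
      refine fun g hg => ?_
      rw [Subgroup.mem_normalizer_iff]
      exact fun x => ⟨fun hx => Subgroup.mem_inf.mpr ⟨mul_mem (mul_mem hg (Subgroup.mem_inf.mp hx).1) (inv_mem hg), ‹T.Normal›.conj_mem x (Subgroup.mem_inf.mp hx).2 g⟩,
        fun hx => Subgroup.mem_inf.mpr ⟨by simpa [mul_assoc] using mul_mem (mul_mem (inv_mem hg) (Subgroup.mem_inf.mp hx).1) hg,
          by simpa [mul_assoc] using ‹T.Normal›.conj_mem _ (Subgroup.mem_inf.mp hx).2 g⁻¹⟩⟩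
    have hNM := hu M₂ ⟨hM₂, hRN.trans hle₂⟩ ▸ hle₂
    -- Frattini argument
    obtain ⟨Q, hQ⟩ := IsPGroup.exists_le_sylow hRT
    have hQeq : (Q : Subgroup T) = ((R : Subgroup G) ⊓ T).subgroupOf T := by
      refine le_antisymm ?_ hQ
      have hQp : IsPGroup r ((Q : Subgroup T).map T.subtype) := Q.isPGroup'.map _
      obtain ⟨R', hR'⟩ := hQp.exists_le_sylow
      obtain ⟨g, hg⟩ := MulAction.exists_smul_eq G R' R
      have hcard : Nat.card ((Q : Subgroup T)) ≤ Nat.card ↥(((R : Subgroup G) ⊓ T).subgroupOf T) := by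
        rw [← Nat.card_congr (Subgroup.subgroupOfEquivOfLe inf_le_right).symm.toEquiv,
          ← Subgroup.card_map_of_injective (K := (Q : Subgroup T)) (f := T.subtype) T.subtype_injective,
          ← Subgroup.card_map_of_injective (K := (Q : Subgroup T).map T.subtype) (f := (MulAut.conj g).toMonoidHom) (MulAut.conj g).injective]
        refine Subgroup.card_le_of_le (le_inf ?_ ?_)
        · rw [← hg]
          rintro _ ⟨x, hx, rfl⟩
          exact ⟨x, hR' hx, rfl⟩
        · rintro _ ⟨_, ⟨x, _, rfl⟩, rfl⟩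
          exact ‹T.Normal›.conj_mem _ x.2 g
      exact (Subgroup.eq_of_le_of_card_ge hQ hcard).ge
    have hF := Sylow.normalizer_sup_eq_top Q
    rw [hQeq, Subgroup.subgroupOf_map_subtype, inf_assoc, inf_idem] at hF
    exact hM.1 (eq_top_iff.mpr (hF ▸ sup_le hNM hTM))
  refine R.isPGroup'.of_surjective ((QuotientGroup.mk' T).comp (R : Subgroup G).subtype) fun q => ?_
  obtain ⟨g, rfl⟩ := QuotientGroup.mk'_surjective T q
  obtain ⟨t, ht, x, hx, rfl⟩ := (Subgroup.mem_sup_of_normal_left (s := T) (t := (R : Subgroup G))).mp (show g ∈ T ⊔ (R : Subgroup G) from hTR ▸ Subgroup.mem_top g)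
  exact ⟨⟨x, hx⟩, by
    show QuotientGroup.mk' T x = QuotientGroup.mk' T (t * x)
    rw [map_mul, (QuotientGroup.eq_one_iff (N := T) t).mpr ht |> fun h => show QuotientGroup.mk' T t = 1 from h, one_mul]⟩

end Cfsg.Agent.S3859
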