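import Cfsg.Statements.S3862
import Mathlib
import Cfsg.Agent.Lib.Transfer.Frobenius
import Cfsg.Agent.Solvable.Basics

set_option autoImplicit false
open Cfsg
open scoped commutatorElement

namespace Cfsg.Agent.S3862

/-- If every 2-element of the finite group G that is conjugate to its inverse lies in the centre of G, then G has a normal 2-complement. -/
theorem result {G : Type*} [Group G] [Finite G] (h : ∀ x : G, (∃ j : ℕ, orderOf x = 2 ^ j) → IsConj x x⁻¹ → x ∈ Subgroup.center G) : Cfsg.HasNormalPComplement 2 G := by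
  haveI : Fact (Nat.Prime 2) := ⟨Nat.prime_two⟩
  have key : ∀ (U : Subgroup G), IsPGroup 2 U → ∀ g ∈ Subgroup.normalizer (U : Set G), Odd (orderOf g) →
      ∀ u ∈ U, g * u * g⁻¹ = u := by
    intro U
    induction hk : Nat.card U using Nat.strong_induction_on generalizing U with
    | _ k ih =>
      intro hU g hg hodd u hu
      subst hk
      by_cases hU1 : U = ⊥
      · rw [hU1, Subgroup.mem_bot] at hu; rw [hu]; group
      haveI : Nontrivial U := (Subgroup.nontrivial_iff_ne_bot U).mpr hU1
      haveI := hU.isNilpotent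
      -- the Frattini subgroup is proper and invariant
      let e : U ≃* U :=
        { toFun := fun x => ⟨g * x * g⁻¹, (Subgroup.mem_normalizer_iff.mp hg x).mp x.2⟩
          invFun := fun x => ⟨g⁻¹ * x * g, (Subgroup.mem_normalizer_iff''.mp hg x).mp x.2⟩
          left_inv := fun x => Subtype.ext (by show g⁻¹ * (g * x * g⁻¹) * g = x; group)
          right_inv := fun x => Subtype.ext (by show g * (g⁻¹ * x * g) * g⁻¹ = x; group)
          map_mul' := fun x y => Subtype.ext (by show g * (x * y) * g⁻¹ = g * x * g⁻¹ * (g * y * g⁻¹); group) }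
      set F := (frattini ↥U).map U.subtype with hF
      have hFn : g ∈ Subgroup.normalizer (F : Set G) := by
        have h1 : ∀ x ∈ frattini ↥U, e x ∈ frattini ↥U := by
          intro x hx
          have := Subgroup.characteristic_iff_map_eq.mp (inferInstance : (frattini ↥U).Characteristic) e
          exact this.le ⟨x, hx, rfl⟩
        have h2 : ∀ x ∈ frattini ↥U, e.symm x ∈ frattini ↥U := by
          intro x hx
          have := Subgroup.characteristic_iff_map_eq.mp (inferInstance : (frattini ↥U).Characteristic) e.symm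
          exact this.le ⟨x, hx, rfl⟩
        rw [Subgroup.mem_normalizer_iff]
        intro y
        constructor
        · rintro ⟨x, hx, rfl⟩; exact ⟨e x, h1 x hx, rfl⟩
        · rintro ⟨x, hx, hxy⟩
          refine ⟨e.symm x, h2 x hx, ?_⟩
          show g⁻¹ * (x : G) * g = y
          rw [show (x : G) = g * y * g⁻¹ from hxy]; group
      have hFlt : Nat.card F < Nat.card U := by
        rw [Subgroup.card_map_of_injective U.subtype_injective]
        refine lt_of_le_of_ne (Nat.card_le_card_of_injective _ (frattini ↥U).subtype_injective) fun h => ?_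
        exact bot_ne_top (α := Subgroup U) (frattini_nongenerating (by rw [bot_sup_eq]; exact Subgroup.eq_top_of_card_eq _ h))
      have hsq : u ^ 2 ∈ F := ⟨⟨u, hu⟩ ^ 2, Cfsg.Agent.Solvable.Basics.pow_mem_frattini hU _, by simp⟩
      have hfix := ih _ hFlt F rfl (hU.to_le (Subgroup.map_subtype_le _)) g hFn hodd _ hsq
      set w := u⁻¹ * (g * u * g⁻¹) with hw
      have hwU : w ∈ U := mul_mem (inv_mem hu) ((Subgroup.mem_normalizer_iff.mp hg u).mp hu)
      have h1 : u⁻¹ * w * u = w⁻¹ := by
        have e1 : (g * u * g⁻¹) * (g * u * g⁻¹) = u * u := by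
          rw [← pow_two, ← pow_two, conj_pow, hfix]
        rw [eq_inv_iff_mul_eq_one]
        calc u⁻¹ * w * u * w = u⁻¹ * u⁻¹ * ((g * u * g⁻¹) * u * u⁻¹ * (g * u * g⁻¹)) := by rw [hw]; group
          _ = u⁻¹ * u⁻¹ * (u * u) := by rw [mul_inv_cancel_right, e1]
          _ = 1 := by group
      obtain ⟨j, hj⟩ := IsPGroup.iff_orderOf.mp hU ⟨w, hwU⟩
      rw [Subgroup.orderOf_mk] at hj
      have hwc : w ∈ Subgroup.center G := h w ⟨j, hj⟩ (isConj_iff.mpr ⟨u⁻¹, by rw [inv_inv]; exact h1⟩)
      rw [Subgroup.mem_center_iff] at hwc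
      have hpow : ∀ n : ℕ, g ^ n * u * (g ^ n)⁻¹ = u * w ^ n := by
        intro n
        induction n with
        | zero => simp
        | succ n ihn =>
          calc g ^ (n + 1) * u * (g ^ (n + 1))⁻¹ = g * (g ^ n * u * (g ^ n)⁻¹) * g⁻¹ := by rw [pow_succ']; group
            _ = (g * u * g⁻¹) * (g * w ^ n * g⁻¹) := by rw [ihn]; group
            _ = u * w * w ^ n := by
              rw [show g * w ^ n * g⁻¹ = w ^ n by
                rw [(show Commute g (w ^ n) from (show Commute g w from hwc g).pow_right n).eq, mul_inv_cancel_right],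
                hw, mul_inv_cancel_left]
            _ = u * w ^ (n + 1) := by rw [mul_assoc, ← pow_succ']
      have hwo := hpow (orderOf g)
      rw [pow_orderOf_eq_one, one_mul, inv_one, mul_one, left_eq_mul] at hwo
      have hwg : orderOf w ∣ orderOf g := orderOf_dvd_of_pow_eq_one hwo
      have : orderOf w = 1 := Nat.eq_one_of_dvd_coprimes (Nat.Coprime.pow_left j (Nat.coprime_two_left.mpr hodd)) hj.dvd hwg
      rw [orderOf_eq_one_iff, hw, inv_mul_eq_one] at this
      exact this.symm
  rw [Cfsg.Agent.Transfer.Frobenius.hasNormalPComplement_iff_condition]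
  intro Q hQ g hg ho q hq
  exact (mul_inv_eq_iff_eq_mul.mp (key Q hQ g hg (Nat.coprime_two_right.mp ho) q hq)).symm

end Cfsg.Agent.S3862
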