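import Cfsg.Statements.S3863
import Mathlib

set_option autoImplicit false
open Cfsg
open scoped commutatorElement

namespace Cfsg.Agent.S3863

/-- Let x be an element of the finite group G that is conjugate to its inverse. Then some 2-element conjugates x to its inverse; if the conjugacy class of x has odd size then x ^ 2 = 1; and x lies in, and is conjugate to its inverse inside, every normal subgroup of odd index. -/
theorem result {G : Type*} [Group G] [Finite G] (x : G) (hx : IsConj x x⁻¹) : (∃ t : G, (∃ j : ℕ, orderOf t = 2 ^ j) ∧ t * x * t⁻¹ = x⁻¹) ∧ (Odd (Subgroup.centralizer ({x} : Set G)).index → x ^ 2 = 1) ∧ ∀ (N : Subgroup G) [N.Normal], Odd N.index → ∃ hxN : x ∈ N, IsConj (⟨x, hxN⟩ : N) (⟨x, hxN⟩ : N)⁻¹ := by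
  obtain ⟨c, hc⟩ := isConj_iff.mp hx
  have hexists : ∀ (N : Subgroup G), N.Normal → Odd N.index → (∀ t : G, (∃ j : ℕ, orderOf t = 2 ^ j) → t ∈ N) := by
    intro N hN hodd t ⟨j, hj⟩
    haveI := hN
    rw [← QuotientGroup.eq_one_iff (N := N), ← orderOf_eq_one_iff]
    have h1 : orderOf (t : G ⧸ N) ∣ 2 ^ j := hj ▸ orderOf_map_dvd (QuotientGroup.mk' N) t
    have h2 : orderOf (t : G ⧸ N) ∣ N.index := Subgroup.index_eq_card N ▸ orderOf_dvd_natCard _
    exact Nat.eq_one_of_dvd_coprimes (Nat.Coprime.pow_left j ((Nat.coprime_two_left).mpr hodd)) h1 h2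
  obtain ⟨k, m, hm, hkm⟩ := Nat.exists_eq_two_pow_mul_odd (orderOf_pos c).ne'
  have hpow : ∀ i : ℕ, c ^ (2 * i + 1) * x * (c ^ (2 * i + 1))⁻¹ = x⁻¹ := by
    have h2 : c * x⁻¹ * c⁻¹ = x := by simpa [mul_assoc] using congrArg (fun y => y⁻¹) hc
    intro i
    induction i with
    | zero => simpa using hc
    | succ i ih =>
      rw [show 2 * (i + 1) + 1 = 2 + (2 * i + 1) by omega, pow_add]
      calc c ^ 2 * c ^ (2 * i + 1) * x * (c ^ 2 * c ^ (2 * i + 1))⁻¹
          = c ^ 2 * (c ^ (2 * i + 1) * x * (c ^ (2 * i + 1))⁻¹) * (c ^ 2)⁻¹ := by group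
        _ = c * (c * x⁻¹ * c⁻¹) * c⁻¹ := by rw [ih, pow_two]; group
        _ = x⁻¹ := by rw [h2, hc]
  have ht : ∃ t : G, (∃ j : ℕ, orderOf t = 2 ^ j) ∧ t * x * t⁻¹ = x⁻¹ := by
    obtain ⟨i, hi⟩ := hm
    refine ⟨c ^ m, ⟨k, ?_⟩, hi ▸ hpow i⟩
    rw [orderOf_pow_of_dvd (by omega) (hkm ▸ Dvd.intro_left _ rfl), hkm, Nat.mul_div_cancel _ (by omega)]
  refine ⟨ht, ?_, ?_⟩
  · intro hodd
    set C := Subgroup.centralizer ({x} : Set G)
    let E : Subgroup G :=
      { carrier := {g | g * x * g⁻¹ = x ∨ g * x * g⁻¹ = x⁻¹}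
        mul_mem' := by
          intro a b ha hb
          rcases hb with hb | hb
          · rcases ha with ha | ha
            · left; calc a * b * x * (a * b)⁻¹ = a * (b * x * b⁻¹) * a⁻¹ := by group
                _ = x := by rw [hb, ha]
            · right; calc a * b * x * (a * b)⁻¹ = a * (b * x * b⁻¹) * a⁻¹ := by group
                _ = x⁻¹ := by rw [hb, ha]
          · rcases ha with ha | ha
            · right; calc a * b * x * (a * b)⁻¹ = a * (b * x * b⁻¹) * a⁻¹ := by group
                _ = (a * x * a⁻¹)⁻¹ := by rw [hb]; group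
                _ = x⁻¹ := by rw [ha]
            · left; calc a * b * x * (a * b)⁻¹ = a * (b * x * b⁻¹) * a⁻¹ := by group
                _ = (a * x * a⁻¹)⁻¹ := by rw [hb]; group
                _ = x := by rw [ha, inv_inv]
        one_mem' := Or.inl (by group)
        inv_mem' := by
          intro a ha
          rcases ha with ha | ha
          · left
            calc a⁻¹ * x * a⁻¹⁻¹ = a⁻¹ * (a * x * a⁻¹) * a := by rw [ha]; group
              _ = x := by group
          · right
            calc a⁻¹ * x * a⁻¹⁻¹ = (a⁻¹ * (a * x * a⁻¹) * a)⁻¹ := by rw [ha]; group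
              _ = x⁻¹ := by group }
    have hCE : C ≤ E := fun g hg => Or.inl (by rw [Subgroup.mem_centralizer_singleton_iff] at hg; rw [hg]; group)
    obtain ⟨t, ⟨j, hj⟩, htx⟩ := ht
    have hCn : (C.subgroupOf E).Normal := ⟨fun a ha g => by
      simp only [Subgroup.mem_subgroupOf, C, Subgroup.mem_centralizer_singleton_iff, Subgroup.coe_mul, Subgroup.coe_inv] at ha ⊢
      rcases g.2 with hg | hg <;>
      · have hg' : (g : G)⁻¹ * x * g = x ∨ (g : G)⁻¹ * x * g = x⁻¹ := by
          rcases (E.inv_mem g.2) with h | h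
          · left; simpa using h
          · right; simpa using h
        rw [← mul_inv_eq_iff_eq_mul]
        calc (g : G) * a * (g : G)⁻¹ * x * ((g : G) * a * (g : G)⁻¹)⁻¹
            = g * ((a : G) * ((g : G)⁻¹ * x * g) * (a : G)⁻¹) * (g : G)⁻¹ := by group
          _ = g * ((g : G)⁻¹ * x * g) * (g : G)⁻¹ := by
            rcases hg' with h | h <;> rw [h]
            · rw [ha]; group
            · rw [show (a : G) * x⁻¹ = x⁻¹ * a from (Commute.inv_right (show Commute (a : G) x from ha)).eq]; group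
          _ = x := by group⟩
    have hdvd : (C.subgroupOf E).index ∣ C.index := C.relIndex_dvd_index_of_le hCE
    have htE : t ∈ E := Or.inr htx
    have : (⟨t, htE⟩ : E) ∈ C.subgroupOf E := by
      rw [← QuotientGroup.eq_one_iff, ← orderOf_eq_one_iff]
      have h1 : orderOf ((⟨t, htE⟩ : E) : E ⧸ C.subgroupOf E) ∣ 2 ^ j := by
        rw [← hj, ← Subgroup.orderOf_mk t htE]
        exact orderOf_map_dvd (QuotientGroup.mk' _) _
      exact Nat.eq_one_of_dvd_coprimes
        (Nat.Coprime.pow_left j ((Nat.coprime_two_left).mpr (hodd.of_dvd_nat hdvd))) h1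
        (Subgroup.index_eq_card (C.subgroupOf E) ▸ orderOf_dvd_natCard _)
    rw [Subgroup.mem_subgroupOf, Subgroup.mem_centralizer_singleton_iff] at this
    have hxx : x = x⁻¹ := by rw [← htx, this]; group
    rw [pow_two]; nth_rewrite 2 [hxx]; group
  · intro N _ hodd
    obtain ⟨t, htj, htx⟩ := ht
    have htN := hexists N inferInstance hodd t htj
    have hx2 : x ^ 2 ∈ N := by
      have h5 : t * (x * t⁻¹ * x⁻¹) ∈ N := mul_mem htN (Subgroup.Normal.conj_mem ‹N.Normal› _ (inv_mem htN) x)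
      rw [show t * (x * t⁻¹ * x⁻¹) = t * x * t⁻¹ * x⁻¹ by group, htx] at h5
      simpa [pow_two] using inv_mem h5
    have hxN : x ∈ N := by
      obtain ⟨i, hi⟩ := hodd
      have h6 : x ^ N.index ∈ N := N.pow_index_mem x
      rw [hi, pow_succ, pow_mul] at h6
      exact (N.mul_mem_cancel_left (pow_mem hx2 i)).mp h6
    exact ⟨hxN, isConj_iff.mpr ⟨⟨t, htN⟩, Subtype.ext htx⟩⟩

end Cfsg.Agent.S3863
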