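import Cfsg.Statements.S3864
import Mathlib
import Cfsg.Agent.Lib.Involutions.DihedralSylow

set_option autoImplicit false
open Cfsg
open scoped commutatorElement

namespace Cfsg.Agent.S3864
open DihedralGroup Cfsg.Agent.Involutions.DihedralSylow Cfsg.Agent.Involutions.DihedralEmbedding

section
variable {G : Type*} [Group G] [Finite G] (S : Sylow 2 G) {m : ℕ} [NeZero m]
  (e : (S : Subgroup G) ≃* DihedralGroup m)

theorem isConj_refl_add (i x : ZMod m) : IsConj (Cfsg.Agent.Involutions.DihedralSylow.refl S e i) (Cfsg.Agent.Involutions.DihedralSylow.refl S e (i + (x + x))) := by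
  refine isConj_iff.mpr ⟨((e.symm (r (-x)) : (S : Subgroup G)) : G), ?_⟩
  rw [refl_conj]
  congr 1
  ring

theorem isConj_refl_parity (i j : ZMod m) : IsConj (Cfsg.Agent.Involutions.DihedralSylow.refl S e i) (Cfsg.Agent.Involutions.DihedralSylow.refl S e j) ∨ IsConj (Cfsg.Agent.Involutions.DihedralSylow.refl S e (i + 1)) (Cfsg.Agent.Involutions.DihedralSylow.refl S e j) := by
  obtain ⟨k, hk⟩ : ∃ k : ℕ, j - i = (k : ZMod m) := ⟨(j - i).val, (ZMod.natCast_zmod_val _).symm⟩
  obtain ⟨c, hc | hc⟩ := Nat.even_or_odd' k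
  · left
    have := isConj_refl_add S e i (c : ZMod m)
    rwa [show i + ((c : ZMod m) + c) = j by rw [← sub_eq_iff_eq_add'.mp hk.symm.symm |>.symm] at *; subst hc; push_cast at hk ⊢; linear_combination -hk] at this
  · right
    have := isConj_refl_add S e (i + 1) (c : ZMod m)
    rwa [show i + 1 + ((c : ZMod m) + c) = j by subst hc; push_cast at hk ⊢; linear_combination -hk] at this

theorem involution_cases (hm : 2 ∣ m) (i : ZMod m) {t : G} (ht : orderOf t = 2) :
    IsConj (z S e) t ∨ IsConj (Cfsg.Agent.Involutions.DihedralSylow.refl S e i) t ∨ IsConj (Cfsg.Agent.Involutions.DihedralSylow.refl S e (i + 1)) t := by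
  obtain ⟨g, hg⟩ := exists_conj_mem S t ⟨1, by rw [ht, pow_one]⟩
  have ho : orderOf (g * t * g⁻¹) = 2 := by rw [Cfsg.Agent.Involutions.Basic.orderOf_conj, ht]
  have hc : IsConj (g * t * g⁻¹) t := (isConj_iff.mpr ⟨g, rfl⟩).symm
  rcases exists_mem_four S e hm (NeZero.ne m) hg (Cfsg.Agent.Involutions.Basic.inv_sq_one ho) with h | h | ⟨j, h⟩
  · rw [h, orderOf_one] at ho; omega
  · exact Or.inl (h ▸ hc)
  · right
    rcases isConj_refl_parity S e i j with h' | h'
    · exact Or.inl (h'.trans (h ▸ hc))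
    · exact Or.inr (h'.trans (h ▸ hc))

theorem orderOf_refl (i : ZMod m) : orderOf (Cfsg.Agent.Involutions.DihedralSylow.refl S e i) = 2 := by
  rw [Cfsg.Agent.Involutions.DihedralSylow.refl, Subgroup.orderOf_coe, MulEquiv.orderOf_eq, orderOf_sr]

/-- A reflection which is not conjugate to `z` lies outside some normal subgroup of index two. -/
theorem exists_index_two (hm : 2 ∣ m) (i : ZMod m) (h : ¬ IsConj (Cfsg.Agent.Involutions.DihedralSylow.refl S e i) (z S e)) :
    ∃ K : Subgroup G, K.Normal ∧ K.index = 2 ∧ Cfsg.Agent.Involutions.DihedralSylow.refl S e i ∉ K := by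
  set M : Subgroup G := ((Subgroup.zpowers (r 1 : DihedralGroup m)).map e.symm.toMonoidHom).map
    (S : Subgroup G).subtype with hM
  have hidx : (Subgroup.zpowers (r 1 : DihedralGroup m)).index = 2 := by
    have h := (Subgroup.zpowers (r 1 : DihedralGroup m)).card_mul_index
    rw [Nat.card_zpowers, orderOf_r_one, DihedralGroup.nat_card] at h
    exact Nat.eq_of_mul_eq_mul_left (Nat.pos_of_ne_zero (NeZero.ne m)) (by rw [h, mul_comm])
  have hrel : M.relIndex S = 2 := by
    rw [hM, Subgroup.relIndex, Subgroup.subgroupOf,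
      Subgroup.comap_map_eq_self_of_injective (Subgroup.subtype_injective _),
      Subgroup.index_map_of_bijective e.symm.bijective, hidx]
  haveI : Fact (Nat.Prime 2) := ⟨Nat.prime_two⟩
  obtain ⟨K, hK, hKi⟩ := Cfsg.Agent.Involutions.ThompsonTransfer.exists_index_two_of_no_conj M
    (Cfsg.Agent.Involutions.ThompsonTransfer.index_mod_four (Subgroup.map_subtype_le _) hrel
      (Nat.odd_iff.mpr (Nat.two_dvd_ne_zero.mp S.not_dvd_index))) _ (orderOf_refl S e i) (by
      rintro g ⟨_, ⟨_, ⟨k, rfl⟩, rfl⟩, hg⟩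
      have ho : orderOf (g * Cfsg.Agent.Involutions.DihedralSylow.refl S e i * g⁻¹) = 2 := by
        rw [Cfsg.Agent.Involutions.Basic.orderOf_conj, orderOf_refl]
      rw [← hg, Subgroup.subtype_apply, Subgroup.orderOf_coe, MulEquiv.coe_toMonoidHom,
        MulEquiv.orderOf_eq] at ho
      simp only [r_one_zpow] at ho
      have hsq := pow_orderOf_eq_one (r (k : ZMod m))
      rw [ho, sq, r_sq hm (NeZero.ne m)] at hsq
      refine h (isConj_iff.2 ⟨g, ?_⟩)
      rcases hsq with h' | h'
      · rw [h', r_zero, orderOf_one] at ho; omega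
      · rw [← hg, z]
        show ((e.symm ((r 1 : DihedralGroup m) ^ k) : (S : Subgroup G)) : G) = _
        rw [r_one_zpow, h'])
  exact ⟨K, Subgroup.normal_of_index_eq_two hK, hK, hKi⟩

theorem z_mem_of_index_two (hm4 : 4 ∣ m) {N : Subgroup G} (hN : N.index = 2) : z S e ∈ N := by
  obtain ⟨c, rfl⟩ := hm4
  have : z S e = ((e.symm (r (c : ZMod (4 * c))) : (S : Subgroup G)) : G) * ((e.symm (r (c : ZMod (4 * c))) : (S : Subgroup G)) : G) := by
    rw [z, ← Subgroup.coe_mul, ← map_mul, r_mul_r, half, ← Nat.cast_add, show 4 * c / 2 = c + c by omega]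
  rw [this]
  exact Subgroup.mul_self_mem_of_index_two hN _

/-- `S` is generated by two reflections of consecutive indices. -/
theorem sylow_le {N : Subgroup G} (i : ZMod m) (ha : Cfsg.Agent.Involutions.DihedralSylow.refl S e i ∈ N) (hb : Cfsg.Agent.Involutions.DihedralSylow.refl S e (i + 1) ∈ N) :
    (S : Subgroup G) ≤ N := by
  have h1 : ((e.symm (r 1) : (S : Subgroup G)) : G) ∈ N := by
    have : (r 1 : DihedralGroup m) = sr i * sr (i + 1) := by simp
    rw [this, map_mul, Subgroup.coe_mul]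
    exact N.mul_mem ha hb
  have h2 : ∀ x : ZMod m, ((e.symm (r x) : (S : Subgroup G)) : G) ∈ N := by
    intro x
    rw [← ZMod.natCast_zmod_val x, ← r_one_pow, map_pow, SubgroupClass.coe_pow]
    exact N.pow_mem h1 _
  intro x hx
  rcases he : e ⟨x, hx⟩ with k | k
  · have h := h2 k
    rwa [← he, e.symm_apply_apply] at h
  · have h := N.mul_mem ha (h2 (k - i))
    rwa [Cfsg.Agent.Involutions.DihedralSylow.refl, ← Subgroup.coe_mul, ← map_mul, sr_mul_r, add_sub_cancel, ← he, e.symm_apply_apply] at h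

theorem refl_mem_of (hm : 2 ∣ m) {N : Subgroup G} [N.Normal] (hz : z S e ∈ N) (i : ZMod m)
    (h : IsConj (Cfsg.Agent.Involutions.DihedralSylow.refl S e i) (z S e)) : Cfsg.Agent.Involutions.DihedralSylow.refl S e i ∈ N := by
  obtain ⟨g, hg⟩ := isConj_iff.mp h.symm
  exact hg ▸ Subgroup.Normal.conj_mem inferInstance _ hz g

theorem ncard_classes (hm : 2 ∣ m) (i : ZMod m) :
    Nat.card {C : ConjClasses G // ∃ g : G, ConjClasses.mk g = C ∧ orderOf g = 2} =
      ({ConjClasses.mk (z S e), ConjClasses.mk (Cfsg.Agent.Involutions.DihedralSylow.refl S e i), ConjClasses.mk (Cfsg.Agent.Involutions.DihedralSylow.refl S e (i + 1))} : Set (ConjClasses G)).ncard := by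
  rw [← Nat.card_coe_set_eq]
  congr 2
  ext C
  constructor
  · rintro ⟨g, rfl, hg⟩
    rcases involution_cases S e hm i hg with h | h | h
    · exact Or.inl (ConjClasses.mk_eq_mk_iff_isConj.mpr h.symm)
    · exact Or.inr (Or.inl (ConjClasses.mk_eq_mk_iff_isConj.mpr h.symm))
    · exact Or.inr (Or.inr (ConjClasses.mk_eq_mk_iff_isConj.mpr h.symm))
  · rintro (rfl | rfl | rfl)
    · exact ⟨_, rfl, orderOf_z S e hm (NeZero.ne m)⟩
    · exact ⟨_, rfl, orderOf_refl S e _⟩
    · exact ⟨_, rfl, orderOf_refl S e _⟩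

theorem index_odd_dvd {N : Subgroup G} (h : (S : Subgroup G) ≤ N) : ¬ 2 ∣ N.index := by
  haveI : Fact (Nat.Prime 2) := ⟨Nat.prime_two⟩
  exact fun hd => S.not_dvd_index (hd.trans (Subgroup.index_dvd_of_le h))

theorem two_classes (hm : 2 ∣ m) (hm4 : 4 ∣ m) (i : ZMod m) (ha : IsConj (Cfsg.Agent.Involutions.DihedralSylow.refl S e i) (z S e))
    (hb : ¬ IsConj (Cfsg.Agent.Involutions.DihedralSylow.refl S e (i + 1)) (z S e)) :
    Nat.card {C : ConjClasses G // ∃ g : G, ConjClasses.mk g = C ∧ orderOf g = 2} = 2 ∧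
      (∃ N : Subgroup G, N.Normal ∧ N.index = 2) ∧ ∀ N : Subgroup G, N.Normal → N.index ≠ 4 := by
  refine ⟨?_, ?_, ?_⟩
  · rw [ncard_classes S e hm i, ConjClasses.mk_eq_mk_iff_isConj.mpr ha, Set.insert_eq_of_mem (Set.mem_insert _ _)]
    exact Set.ncard_pair fun h => hb (ConjClasses.mk_eq_mk_iff_isConj.mp h).symm
  · obtain ⟨K, hK, hKi, -⟩ := exists_index_two S e hm (i + 1) hb
    exact ⟨K, hK, hKi⟩
  · intro N hN hN4
    haveI := hN
    haveI : Fact (Nat.Prime 2) := ⟨Nat.prime_two⟩
    set q := QuotientGroup.mk' N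
    have hcard : Nat.card (G ⧸ N) = 2 ^ 2 := hN4
    have hcomm : ∀ u v : G ⧸ N, u * v = v * u :=
      fun u v => ((IsPGroup.isMulCommutative_of_card_eq_prime_sq hcard).is_comm.comm u v)
    set R := ((e.symm (r 1) : (S : Subgroup G)) : G) with hR
    set T := Cfsg.Agent.Involutions.DihedralSylow.refl S e i with hT
    have hRT : q R * q R = 1 := by
      have h1 : R * T * R⁻¹ * T⁻¹ ∈ N := by
        rw [← QuotientGroup.eq_one_iff]
        show q (R * T * R⁻¹ * T⁻¹) = 1
        rw [map_mul, map_mul, map_mul, hcomm (q R) (q T), map_inv, map_inv, mul_inv_cancel_right, mul_inv_cancel]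
      have h2 : R * T * R⁻¹ * T⁻¹ = R * R := by
        rw [hR, hT, refl_conj, Cfsg.Agent.Involutions.DihedralSylow.refl, Cfsg.Agent.Involutions.DihedralSylow.refl, ← Subgroup.coe_inv, ← Subgroup.coe_mul, ← map_inv, ← map_mul, ← Subgroup.coe_mul, ← map_mul]
        congr 2
        simp
      rw [h2] at h1
      rw [← map_mul]
      exact (QuotientGroup.eq_one_iff _).mpr h1
    have hz : z S e ∈ N := by
      have hzR : ∃ c, z S e = (R * R) ^ c := by
        obtain ⟨c, hc⟩ := hm4
        refine ⟨c, ?_⟩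
        rw [hR, z, ← Subgroup.coe_mul, ← map_mul, ← SubgroupClass.coe_pow, ← map_pow, r_mul_r]
        congr 2
        rw [r_pow]
        congr 1
        rw [half, hc, show 4 * c / 2 = 2 * c by omega]
        push_cast
        ring
      obtain ⟨c, hc⟩ := hzR
      rw [hc]
      exact N.pow_mem ((QuotientGroup.eq_one_iff _).mp (show q (R * R) = 1 by rw [map_mul, hRT])) c
    have haN : T ∈ N := refl_mem_of S e hm hz i ha
    have hS : (S : Subgroup G) ≤ (Subgroup.zpowers (q R)).comap q := by
      refine sylow_le S e i ?_ ?_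
      · show q T ∈ Subgroup.zpowers (q R)
        rw [show q T = 1 from (QuotientGroup.eq_one_iff _).mpr haN]
        exact one_mem _
      · show q (Cfsg.Agent.Involutions.DihedralSylow.refl S e (i + 1)) ∈ Subgroup.zpowers (q R)
        have : Cfsg.Agent.Involutions.DihedralSylow.refl S e (i + 1) = T * R := by
          rw [hT, hR, Cfsg.Agent.Involutions.DihedralSylow.refl, Cfsg.Agent.Involutions.DihedralSylow.refl, ← Subgroup.coe_mul, ← map_mul, sr_mul_r]
        rw [this, map_mul, show q T = 1 from (QuotientGroup.eq_one_iff _).mpr haN, one_mul]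
        exact Subgroup.mem_zpowers _
    have hodd := index_odd_dvd S hS
    rw [Subgroup.index_comap_of_surjective _ (QuotientGroup.mk'_surjective N)] at hodd
    have hle : Nat.card (Subgroup.zpowers (q R)) ∣ 2 := by
      rw [Nat.card_zpowers]; exact orderOf_dvd_of_pow_eq_one (by rw [pow_two, hRT])
    have hmul := (Subgroup.zpowers (q R)).card_mul_index
    rw [hcard] at hmul
    rcases (Nat.dvd_prime Nat.prime_two).mp hle with h | h <;> rw [h] at hmul <;>
      exact hodd (by omega)

theorem three_classes (hm : 2 ∣ m) (ha : ¬ IsConj (Cfsg.Agent.Involutions.DihedralSylow.refl S e 0) (z S e))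
    (hb : ¬ IsConj (Cfsg.Agent.Involutions.DihedralSylow.refl S e 1) (z S e)) :
    Nat.card {C : ConjClasses G // ∃ g : G, ConjClasses.mk g = C ∧ orderOf g = 2} = 3 ∧
      Cfsg.HasNormalPComplement 2 G := by
  haveI : Fact (Nat.Prime 2) := ⟨Nat.prime_two⟩
  obtain ⟨K, hKn, hK, hKa⟩ := exists_index_two S e hm 0 ha
  obtain ⟨K', hK'n, hK', hKb⟩ := exists_index_two S e hm 1 hb
  haveI := hKn; haveI := hK'n
  set N := K ⊓ K' with hN
  have hidx : ∃ k, N.index = 2 ^ k := by
    have h1 : K'.relIndex K ∣ 2 := hK' ▸ Subgroup.relIndex_dvd_index_of_normal K' K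
    have h2 : N.index = K'.relIndex K * K.index := by
      rw [hN, ← Subgroup.relIndex_mul_index (inf_le_left : K ⊓ K' ≤ K), Subgroup.inf_relIndex_left]
    rcases (Nat.dvd_prime Nat.prime_two).mp h1 with h | h
    · exact ⟨1, by rw [h2, h, hK]; norm_num⟩
    · exact ⟨2, by rw [h2, h, hK]; norm_num⟩
  have hrot : ∀ x : ↥((S : Subgroup G) ⊓ N), ∃ k, e ⟨x.1, x.2.1⟩ = r k := by
    rintro ⟨x, hxS, hxN⟩
    rcases he : e ⟨x, hxS⟩ with k | k
    · exact ⟨k, rfl⟩
    · exfalso
      have hx : x = Cfsg.Agent.Involutions.DihedralSylow.refl S e k := by rw [Cfsg.Agent.Involutions.DihedralSylow.refl, ← he, e.symm_apply_apply]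
      rcases isConj_refl_parity S e 0 k with h | h
      · obtain ⟨g, hg⟩ := isConj_iff.mp h.symm
        exact hKa (hg ▸ hKn.conj_mem _ (hx ▸ hxN.1) g)
      · rw [zero_add] at h
        obtain ⟨g, hg⟩ := isConj_iff.mp h.symm
        exact hKb (hg ▸ hK'n.conj_mem _ (hx ▸ hxN.2) g)
  have hcyc : IsCyclic ↥((S : Subgroup G) ⊓ N) := by
    let φ : ↥((S : Subgroup G) ⊓ N) →* DihedralGroup m :=
      e.toMonoidHom.comp (Subgroup.inclusion inf_le_left)
    have hinj : Function.Injective φ := e.injective.comp (Subgroup.inclusion_injective _)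
    have hle : φ.range ≤ Subgroup.zpowers (r 1) := by
      rintro _ ⟨x, rfl⟩
      obtain ⟨k, hk⟩ := hrot x
      refine ⟨(k.val : ℤ), ?_⟩
      show (r 1 : DihedralGroup m) ^ ((k.val : ℤ)) = φ x
      rw [zpow_natCast, r_one_pow, ZMod.natCast_zmod_val]
      exact hk.symm
    haveI : IsCyclic φ.range :=
      isCyclic_of_injective (Subgroup.inclusion hle) (Subgroup.inclusion_injective hle)
    exact isCyclic_of_surjective (MonoidHom.ofInjective hinj).symm (MulEquiv.surjective _)
  haveI hNn : N.Normal := inferInstance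
  have hcompl : Cfsg.HasNormalPComplement 2 G := by
    obtain ⟨k, hk⟩ := hidx
    refine Cfsg.Agent.Transfer.NormalPComplement.hasNormalPComplement_of_normal_index ?_ hk
    by_cases heven : 2 ∣ Nat.card N
    · have hmin : (Nat.card N).minFac = 2 := (Nat.minFac_eq_two_iff _).mpr heven
      obtain ⟨Q⟩ : Nonempty (Sylow 2 ↥N) := inferInstance
      obtain ⟨R, hR⟩ := (Q.2.map N.subtype).exists_le_sylow
      obtain ⟨g, hg⟩ := MulAction.exists_smul_eq G R S
      have hQcyc : IsCyclic (Q : Subgroup ↥N) := by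
        let ψ : (Q : Subgroup ↥N) →* ↥((S : Subgroup G) ⊓ N) :=
          { toFun := fun x => ⟨g * ((x : ↥N) : G) * g⁻¹, by
              rw [← hg, Cfsg.Agent.Transfer.Fusion.coe_smul_eq_map]
              exact ⟨_, hR ⟨x.1, x.2, rfl⟩, by simp⟩, hNn.conj_mem _ x.1.2 g⟩
            map_one' := by ext; simp
            map_mul' := fun x y => by ext; simp }
        refine isCyclic_of_injective ψ fun x y h => ?_
        have := congrArg Subtype.val h
        simpa [ψ] using this
      exact Cfsg.Agent.Transfer.NormalPComplement.hasNormalPComplement_of_normalizer_le_centralizer Q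
        (IsCyclic.normalizer_le_centralizer hmin hQcyc)
    · exact Cfsg.Agent.Transfer.NormalPComplement.hasNormalPComplement_of_coprime
        ((Nat.prime_two.coprime_iff_not_dvd.mpr heven).symm)
  refine ⟨?_, hcompl⟩
  obtain ⟨Q, hQn, hQ, j, hj⟩ := Cfsg.Agent.Transfer.NormalPComplement.hasNormalPComplement_iff_exists.mp hcompl
  haveI := hQn
  have hQS : Q.IsComplement' (S : Subgroup G) :=
    Cfsg.Agent.Transfer.NormalPComplement.isComplement'_of_coprime_card hQ hj S
  let f : ↥(S : Subgroup G) →* G ⧸ Q := (QuotientGroup.mk' Q).comp (S : Subgroup G).subtype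
  have hf : Function.Bijective f := by
    refine (Nat.bijective_iff_injective_and_card f).mpr ⟨?_, hQS.symm.index_eq_card.symm⟩
    rw [injective_iff_map_eq_one]
    intro x hx
    have : (x : G) ∈ Q ⊓ (S : Subgroup G) := ⟨(QuotientGroup.eq_one_iff _).mp hx, x.2⟩
    rw [hQS.disjoint.eq_bot, Subgroup.mem_bot] at this
    exact Subtype.ext this
  have key : ∀ u v : ↥(S : Subgroup G), IsConj (u : G) (v : G) → ∃ c : DihedralGroup m, c * e u * c⁻¹ = e v := by
    intro u v h
    obtain ⟨g, hg⟩ := isConj_iff.mp h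
    obtain ⟨s, hs⟩ := hf.2 (QuotientGroup.mk' Q g)
    have : s * u * s⁻¹ = v := hf.1 (by rw [map_mul, map_mul, map_inv, hs]; show _ = (QuotientGroup.mk' Q) (v : G); rw [← hg, map_mul, map_mul, map_inv]; rfl)
    exact ⟨e s, by rw [← map_inv, ← map_mul, ← map_mul, this]⟩
  have h01 : ¬ IsConj (Cfsg.Agent.Involutions.DihedralSylow.refl S e 0) (Cfsg.Agent.Involutions.DihedralSylow.refl S e 1) := by
    intro h
    obtain ⟨c, hc⟩ := key _ _ h
    rw [e.apply_symm_apply, e.apply_symm_apply] at hc
    let π := ZMod.castHom hm (ZMod 2)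
    have h2 : ∀ x : ZMod 2, x + x = 0 := fun x => CharTwo.add_self_eq_zero x
    rcases c with k | k
    · simp at hc
      have := congrArg π hc
      simp [map_sub, map_add] at this
      have h3 := h2 (π k)
      grind
    · simp at hc
      have := congrArg π hc
      simp [map_sub, map_add] at this
      have h3 := h2 (π k)
      grind
  rw [ncard_classes S e hm 0, zero_add]
  rw [Set.ncard_insert_of_notMem, Set.ncard_pair]
  · exact fun h => h01 (ConjClasses.mk_eq_mk_iff_isConj.mp h)
  · rintro (h | h)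
    · exact ha (ConjClasses.mk_eq_mk_iff_isConj.mp h).symm
    · exact hb (ConjClasses.mk_eq_mk_iff_isConj.mp h).symm

end

/-- Let G be a finite group whose Sylow 2-subgroups are dihedral of order 2 ^ n with n ≥ 3, and count the conjugacy classes of involutions of G. Then exactly one of the following holds: there is one class of involutions and no normal subgroup of index 2; there are two classes of involutions, a normal subgroup of index 2 and none of index 4; there are three classes of involutions and G has a normal 2-complement. -/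
theorem result {G : Type*} [Group G] [Finite G] (P : Sylow 2 G) (n : ℕ) (hn : 3 ≤ n) (hdih : Nonempty (↥(P : Subgroup G) ≃* DihedralGroup (2 ^ (n - 1)))) : (Nat.card {C : ConjClasses G // ∃ g : G, ConjClasses.mk g = C ∧ orderOf g = 2} = 1 ∧ ∀ N : Subgroup G, N.Normal → N.index ≠ 2) ∨ (Nat.card {C : ConjClasses G // ∃ g : G, ConjClasses.mk g = C ∧ orderOf g = 2} = 2 ∧ (∃ N : Subgroup G, N.Normal ∧ N.index = 2) ∧ ∀ N : Subgroup G, N.Normal → N.index ≠ 4) ∨ (Nat.card {C : ConjClasses G // ∃ g : G, ConjClasses.mk g = C ∧ orderOf g = 2} = 3 ∧ Cfsg.HasNormalPComplement 2 G) := by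
  haveI : NeZero (2 ^ (n - 1)) := ⟨(pow_pos two_pos _).ne'⟩
  obtain ⟨e⟩ := hdih
  set m := 2 ^ (n - 1) with hm0
  have hm4 : 4 ∣ m := ⟨2 ^ (n - 3), by rw [hm0, show n - 1 = 2 + (n - 3) by omega, pow_add]; norm_num⟩
  have hm : 2 ∣ m := (show 2 ∣ 4 by norm_num).trans hm4
  by_cases ha : IsConj (Cfsg.Agent.Involutions.DihedralSylow.refl P e 0) (z P e) <;> by_cases hb : IsConj (Cfsg.Agent.Involutions.DihedralSylow.refl P e 1) (z P e)
  · left
    refine ⟨?_, fun N hN hN2 => ?_⟩
    · rw [ncard_classes P e hm 0, zero_add, ConjClasses.mk_eq_mk_iff_isConj.mpr ha,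
        ConjClasses.mk_eq_mk_iff_isConj.mpr hb]
      simp
    · haveI := hN
      have hz := z_mem_of_index_two P e hm4 hN2
      exact index_odd_dvd P (sylow_le P e 0 (refl_mem_of P e hm hz 0 ha)
        (by rw [zero_add]; exact refl_mem_of P e hm hz 1 hb)) (hN2 ▸ dvd_rfl)
  · exact Or.inr (Or.inl (two_classes P e hm hm4 0 ha (by rwa [zero_add])))
  · have h2 : ¬ IsConj (Cfsg.Agent.Involutions.DihedralSylow.refl P e (1 + 1)) (z P e) := by
      intro h
      have h' := isConj_refl_add P e 0 1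
      rw [zero_add] at h'
      exact ha (h'.trans h)
    exact Or.inr (Or.inl (two_classes P e hm hm4 1 hb h2))
  · exact Or.inr (Or.inr (three_classes P e hm ha hb))

end Cfsg.Agent.S3864
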