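import Cfsg.Statements.S3866
import Mathlib

set_option autoImplicit false
open Cfsg
open scoped commutatorElement

namespace Cfsg.Agent.S3866

/-- Let A be a commutative normal subgroup of the finite group G with G generated by A and an element x. Then a ↦ x a x⁻¹ a⁻¹ is a surjective homomorphism from A onto the commutator subgroup of G whose kernel is the centralizer of x in A; in particular the commutator subgroup has order equal to the index in A of that centralizer. -/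
theorem result {G : Type*} [Group G] [Finite G] (A : Subgroup G) [A.Normal] (hA : IsMulCommutative A) (x : G) (hgen : A ⊔ Subgroup.zpowers x = ⊤) : (∀ a ∈ A, x * a * x⁻¹ * a⁻¹ ∈ commutator G) ∧ (∀ c ∈ commutator G, ∃ a ∈ A, x * a * x⁻¹ * a⁻¹ = c) ∧ (∀ a ∈ A, ∀ b ∈ A, x * (a * b) * x⁻¹ * (a * b)⁻¹ = (x * a * x⁻¹ * a⁻¹) * (x * b * x⁻¹ * b⁻¹)) ∧ Nat.card (commutator G) * Nat.card ↥(A ⊓ Subgroup.centralizer ({x} : Set G)) = Nat.card A := by
  have hcomm : ∀ a ∈ A, ∀ b ∈ A, a * b = b * a := fun a ha b hb =>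
    congrArg Subtype.val (hA.is_comm.comm ⟨a, ha⟩ ⟨b, hb⟩)
  let φ : A →* A :=
    { toFun := fun a => ⟨x * a * x⁻¹ * (a : G)⁻¹,
        A.mul_mem ((‹A.Normal›).conj_mem a a.2 x) (A.inv_mem a.2)⟩
      map_one' := by ext; simp
      map_mul' := fun a b => by
        ext
        show x * ((a : G) * b) * x⁻¹ * ((a : G) * b)⁻¹ = (x * a * x⁻¹ * (a : G)⁻¹) * (x * b * x⁻¹ * (b : G)⁻¹)
        have h := hcomm _ (inv_mem a.2) _ (mul_mem ((‹A.Normal›).conj_mem _ b.2 x) (inv_mem b.2))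
        calc x * ((a : G) * b) * x⁻¹ * ((a : G) * b)⁻¹
            = x * a * x⁻¹ * ((x * b * x⁻¹ * (b : G)⁻¹) * (a : G)⁻¹) := by group
          _ = x * a * x⁻¹ * ((a : G)⁻¹ * (x * b * x⁻¹ * (b : G)⁻¹)) := by rw [h]
          _ = (x * a * x⁻¹ * (a : G)⁻¹) * (x * b * x⁻¹ * (b : G)⁻¹) := by group }
  let R := φ.range.map A.subtype
  have hRmem : ∀ c, c ∈ R ↔ ∃ a ∈ A, x * a * x⁻¹ * a⁻¹ = c := by
    intro c
    constructor
    · rintro ⟨_, ⟨a, rfl⟩, rfl⟩; exact ⟨a, a.2, rfl⟩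
    · rintro ⟨a, ha, rfl⟩; exact ⟨φ ⟨a, ha⟩, ⟨_, rfl⟩, rfl⟩
  have hRA : R ≤ A := by rintro _ ⟨c, _, rfl⟩; exact c.2
  have hRn : R.Normal := by
    rw [← Subgroup.normalizer_eq_top_iff, eq_top_iff, ← hgen, sup_le_iff, Subgroup.zpowers_le]
    refine ⟨fun a ha => Subgroup.mem_normalizer_iff.mpr fun c => ?_, Subgroup.mem_normalizer_iff.mpr fun c => ?_⟩
    · constructor
      · intro hc
        rwa [hcomm a ha c (hRA hc), mul_inv_cancel_right]
      · intro hc
        have hcA : c ∈ A := by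
          have := mul_mem (mul_mem (inv_mem ha) (hRA hc)) ha
          simpa [mul_assoc] using this
        rwa [hcomm a ha c hcA, mul_inv_cancel_right] at hc
    · constructor
      · rw [hRmem, hRmem]
        rintro ⟨a, ha, rfl⟩
        exact ⟨x * a * x⁻¹, (‹A.Normal›).conj_mem a ha x, by group⟩
      · rw [hRmem, hRmem]
        rintro ⟨a, ha, he⟩
        refine ⟨x⁻¹ * a * x, by simpa using (‹A.Normal›).conj_mem a ha x⁻¹, ?_⟩
        calc x * (x⁻¹ * a * x) * x⁻¹ * (x⁻¹ * a * x)⁻¹ = x⁻¹ * (x * a * x⁻¹ * a⁻¹) * x := by group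
          _ = c := by rw [he]; group
  have hcR : commutator G = R := by
    refine le_antisymm ?_ ?_
    · set f := QuotientGroup.mk' R
      have hgen' : ⊤ ≤ Subgroup.closure ((f '' A) ∪ {f x}) := by
        rw [← Subgroup.map_top_of_surjective f (QuotientGroup.mk'_surjective R), ← hgen, Subgroup.map_sup,
          MonoidHom.map_zpowers, Subgroup.closure_union, Subgroup.zpowers_eq_closure]
        exact sup_le_sup (fun y ⟨a, ha, e⟩ => Subgroup.subset_closure ⟨a, ha, e⟩) le_rfl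
      have hgens : ∀ u ∈ (f '' A) ∪ {f x}, ∀ v ∈ (f '' A) ∪ {f x}, u * v = v * u := by
        have h1 : ∀ a ∈ A, f x * f a = f a * f x := fun a ha => by
          rw [← map_mul, ← map_mul]
          refine (QuotientGroup.eq (s := R)).mpr ?_
          rw [hRmem]
          exact ⟨x⁻¹ * a⁻¹ * x, by simpa using (‹A.Normal›).conj_mem _ (inv_mem ha) x⁻¹,
            by have := hcomm a⁻¹ (inv_mem ha) _ ((‹A.Normal›).conj_mem a ha x⁻¹); rw [inv_inv] at this; 
               calc x * (x⁻¹ * a⁻¹ * x) * x⁻¹ * (x⁻¹ * a⁻¹ * x)⁻¹ = a⁻¹ * (x⁻¹ * a * x) := by group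
                 _ = x⁻¹ * a * x * a⁻¹ := this
                 _ = (x * a)⁻¹ * (a * x) := by rw [← this]; group⟩
        rintro u (⟨a, ha, rfl⟩ | rfl) v (⟨b, hb, rfl⟩ | rfl)
        · rw [← map_mul, ← map_mul, hcomm a ha b hb]
        · exact (h1 a ha).symm
        · exact h1 b hb
        · rfl
      rw [commutator_def, Subgroup.commutator_le]
      intro g _ h _
      rw [← QuotientGroup.eq_one_iff, ← QuotientGroup.mk'_apply, map_commutatorElement, commutatorElement_eq_one_iff_mul_comm]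
      have := Subgroup.isMulCommutative_closure hgens
      exact congrArg Subtype.val (this.is_comm.comm ⟨f g, hgen' trivial⟩ ⟨f h, hgen' trivial⟩)
    · intro c hc
      obtain ⟨a, _, rfl⟩ := (hRmem c).mp hc
      exact Subgroup.commutator_mem_commutator (Subgroup.mem_top x) (Subgroup.mem_top a)
  refine ⟨fun a ha => hcR ▸ (hRmem _).mpr ⟨a, ha, rfl⟩, fun c hc => (hRmem c).mp (hcR ▸ hc), fun a ha b hb => congrArg Subtype.val (φ.map_mul ⟨a, ha⟩ ⟨b, hb⟩), ?_⟩
  rw [hcR, Subgroup.card_map_of_injective A.subtype_injective, ← Subgroup.index_ker]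
  have hk : φ.ker = (A ⊓ Subgroup.centralizer ({x} : Set G)).subgroupOf A := by
    ext a
    simp only [MonoidHom.mem_ker, Subgroup.mem_subgroupOf, Subgroup.mem_inf, Subgroup.mem_centralizer_singleton_iff, Subtype.ext_iff]
    show x * a * x⁻¹ * (a : G)⁻¹ = 1 ↔ (a : G) ∈ A ∧ _
    rw [mul_inv_eq_one, mul_inv_eq_iff_eq_mul]
    exact ⟨fun h => ⟨a.2, h.symm⟩, fun h => h.2.symm⟩
  rw [← Nat.card_congr (Subgroup.subgroupOfEquivOfLe (inf_le_left : A ⊓ Subgroup.centralizer ({x} : Set G) ≤ A)).toEquiv, ← hk]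
  exact Subgroup.index_mul_card _

end Cfsg.Agent.S3866
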