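import Cfsg.Statements.S3867
import Mathlib
import Cfsg.Agent.Lib.Counting.SylowCount

set_option autoImplicit false
open Cfsg
open scoped commutatorElement

namespace Cfsg.Agent.S3867
/-- Sylow numbers are invariant under isomorphism. -/
theorem card_sylow_congr {A B : Type*} [Group A] [Group B] [Finite A] [Finite B] {p : ℕ} [Fact p.Prime] (e : A ≃* B) :
    Nat.card (Sylow p A) = Nat.card (Sylow p B) := by
  obtain ⟨P⟩ : Nonempty (Sylow p A) := inferInstance
  have hs : Function.Surjective e.toMonoidHom := e.surjective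
  rw [Sylow.card_eq_index_normalizer P, Sylow.card_eq_index_normalizer (P.mapSurjective hs)]
  show (Subgroup.normalizer ((P : Subgroup A) : Set A)).index =
    (Subgroup.normalizer (((P : Subgroup A).map e.toMonoidHom : Subgroup B) : Set B)).index
  refine Eq.trans ?_ (congrArg Subgroup.index (Subgroup.map_equiv_normalizer_eq (P : Subgroup A) e))
  exact (Subgroup.index_map_equiv _ e).symm

theorem inf_eq_sylow {G : Type*} [Group G] [Finite G] {p : ℕ} [Fact p.Prime] (M N : Subgroup G) [M.Normal] [N.Normal]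
    (hMN : M ⊓ N = ⊥) (P : Sylow p G) : ((P : Subgroup G) ⊔ M) ⊓ ((P : Subgroup G) ⊔ N) = (P : Subgroup G) := by
  have key : ∀ (R : Subgroup G) [R.Normal] (x : G), x ∈ (P : Subgroup G) ⊔ R → ∃ k : ℕ, x ^ p ^ k ∈ R := by
    intro R _ x hx
    have hx' : QuotientGroup.mk' R x ∈ (P : Subgroup G).map (QuotientGroup.mk' R) := by
      have := Subgroup.mem_map_of_mem (QuotientGroup.mk' R) hx
      rwa [Subgroup.map_sup, QuotientGroup.map_mk'_self, sup_bot_eq] at this
    obtain ⟨k, hk⟩ := P.isPGroup'.map (QuotientGroup.mk' R) ⟨_, hx'⟩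
    refine ⟨k, (QuotientGroup.eq_one_iff _).mp ?_⟩
    have := congrArg Subtype.val hk
    simpa using this
  refine P.is_maximal' ?_ (le_inf le_sup_left le_sup_left)
  intro x
  obtain ⟨a, ha⟩ := key M x x.2.1
  obtain ⟨b, hb⟩ := key N x x.2.2
  refine ⟨a + b, Subtype.ext ?_⟩
  have h1 : (x : G) ^ p ^ (a + b) ∈ M := by rw [pow_add, pow_mul]; exact M.pow_mem ha _
  have h2 : (x : G) ^ p ^ (a + b) ∈ N := by rw [pow_add, mul_comm, pow_mul]; exact N.pow_mem hb _
  have h3 : (x : G) ^ p ^ (a + b) ∈ M ⊓ N := ⟨h1, h2⟩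
  rw [hMN, Subgroup.mem_bot] at h3
  simpa using h3


/-- Let M and N be nontrivial normal subgroups of the finite group G with M ⊓ N trivial, and let p be a prime. Writing n(X) for the number of Sylow p-subgroups of a group X, one has n(G) · n(G/MN) = n(G/M) · n(G/N). -/
theorem result {G : Type*} [Group G] [Finite G] (p : ℕ) [Fact p.Prime] (M N : Subgroup G) [M.Normal] [N.Normal] (hM : M ≠ ⊥) (hN : N ≠ ⊥) (hMN : M ⊓ N = ⊥) : Nat.card (Sylow p G) * Nat.card (Sylow p (G ⧸ (M ⊔ N))) = Nat.card (Sylow p (G ⧸ M)) * Nat.card (Sylow p (G ⧸ N)) := by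
  obtain ⟨P⟩ : Nonempty (Sylow p G) := inferInstance
  set q := QuotientGroup.mk' M with hq
  have hmap : (M ⊔ N).map q = N.map q := by
    rw [Subgroup.map_sup, hq, QuotientGroup.map_mk'_self, bot_sup_eq]
  haveI : ((M ⊔ N).map q).Normal := Subgroup.Normal.map inferInstance _ (QuotientGroup.mk'_surjective M)
  have h1 := Cfsg.Agent.Counting.SylowCount.card_sylow_eq_mul P N
  have h2 := Cfsg.Agent.Counting.SylowCount.card_sylow_eq_mul (P.mapSurjective (QuotientGroup.mk'_surjective M)) ((M ⊔ N).map q)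
  rw [card_sylow_congr (QuotientGroup.quotientQuotientEquivQuotient M (M ⊔ N) le_sup_left), Sylow.coe_mapSurjective,
    Cfsg.Agent.Counting.SylowCount.normalizer_map_mk' P M] at h2
  set H := Subgroup.normalizer ((P : Subgroup G) : Set G) with hH
  have h3 : (H.map q).relIndex ((M ⊔ N).map q) = H.relIndex N := by
    rw [hmap, ← Subgroup.relIndex_comap, ← Subgroup.inf_relIndex_right, ← Subgroup.inf_relIndex_right H N]
    congr 1
    refine le_antisymm (fun n hn => ⟨?_, hn.2⟩) (inf_le_inf_right _ (Subgroup.le_comap_map _ _))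
    have hn1 : q n ∈ Subgroup.normalizer (((P : Subgroup G).map q) : Set (G ⧸ M)) := by
      rw [Cfsg.Agent.Counting.SylowCount.normalizer_map_mk' P M]; exact hn.1
    have hsub : ∀ y ∈ (P : Subgroup G), n * y * n⁻¹ ∈ (P : Subgroup G) := by
      intro y hy
      rw [← inf_eq_sylow M N hMN P]
      refine ⟨?_, ?_⟩
      · have := (Subgroup.mem_normalizer_iff.mp hn1 _).mp (Subgroup.mem_map_of_mem q hy)
        rw [← map_inv, ← map_mul, ← map_mul, ← Subgroup.mem_comap, Subgroup.comap_map_eq, hq, QuotientGroup.ker_mk'] at this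
        exact this
      · rw [show n * y * n⁻¹ = y * (y⁻¹ * n * y * n⁻¹) by group]
        refine Subgroup.mul_mem_sup hy (N.mul_mem ?_ (N.inv_mem hn.2))
        have := ‹N.Normal›.conj_mem n hn.2 y⁻¹
        rwa [inv_inv] at this
    exact Subgroup.mem_normalizer_fintype hsub
  rw [h3] at h2
  rw [h1, h2]; ring

end Cfsg.Agent.S3867
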