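import Cfsg.Statements.S3868
import Mathlib
import Cfsg.Agent.GenA.MinimalPClosed
import Cfsg.Agent.Lib.Cores.Fitting
import Cfsg.Agent.Lib.Coprime.Sylow
import Cfsg.Agent.Lib.Coprime.Commutator
import Cfsg.Agent.Lib.PGroups.Normal

set_option autoImplicit false
open Cfsg
open scoped commutatorElement

namespace Cfsg.Agent.S3868
theorem mem_pCore_of_pClosed {H : Type*} [Group H] [Finite H] {p : ℕ} [Fact p.Prime] (h : Cfsg.IsPClosed p H)
    {S : Subgroup H} (hS : IsPGroup p ↥S) : S ≤ Cfsg.pCore p H := by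
  obtain ⟨T, hT⟩ := hS.exists_le_sylow
  haveI := h T
  exact hT.trans (Cfsg.Agent.Cores.le_pCore T.isPGroup')

/-- a Sylow subgroup contained in a normal `p`-closed subgroup is normal -/
theorem normal_of_le_pClosed {G : Type*} [Group G] [Finite G] {p : ℕ} [Fact p.Prime] (P : Sylow p G) (K : Subgroup G)
    [K.Normal] (hPK : (P : Subgroup G) ≤ K) (h : Cfsg.IsPClosed p ↥K) : (P : Subgroup G).Normal := by
  haveI := h (P.subtype hPK)
  haveI : ((P.subtype hPK : Sylow p ↥K) : Subgroup ↥K).Characteristic := Sylow.characteristic_of_normal _ (h _)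
  have h2 : (((P.subtype hPK : Sylow p ↥K) : Subgroup ↥K).map K.subtype).Normal := inferInstance
  rwa [Sylow.coe_subtype, Subgroup.map_subgroupOf_eq_of_le hPK] at h2


/-- Structure of the non-simple minimal non-p-closed groups. Call a finite group p-closed when its Sylow p-subgroups are normal, and minimal non-p-closed when it is not p-closed but every proper subgroup and every proper quotient is. If such a group G is not simple, then there is a prime q ≠ p such that G has order p · q^e, where e is the multiplicative order of q modulo p, and G has a normal subgroup A of order q^e that is elementary abelian and is a minimal normal subgroup of G (so G is the semidirect product of A by a group of order p acting irreducibly). -/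
theorem result {G : Type*} [Group G] [Finite G] {p : ℕ} [Fact p.Prime]
    (hnc : ¬ Cfsg.IsPClosed p G) (hsub : ∀ H : Subgroup G, H ≠ ⊤ → Cfsg.IsPClosed p ↥H)
    (hquo : ∀ (N : Subgroup G) [N.Normal], N ≠ ⊥ → Cfsg.IsPClosed p (G ⧸ N)) (hns : ¬ IsSimpleGroup G) :
    ∃ q : ℕ, q.Prime ∧ q ≠ p ∧ Nat.card G = p * q ^ orderOf (q : ZMod p) ∧
      ∃ A : Subgroup G, A.Normal ∧ Nat.card ↥A = q ^ orderOf (q : ZMod p) ∧ Cfsg.IsElementaryAbelian q A ∧
        ∀ B : Subgroup G, B.Normal → B ≤ A → B = ⊥ ∨ B = A := by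
  classical
  have hpp : p.Prime := Fact.out
  obtain ⟨P, hPn⟩ : ∃ P : Sylow p G, ¬ (P : Subgroup G).Normal := by
    by_contra hcon
    push Not at hcon
    exact hnc hcon
  -- images of `P` in proper quotients are normal
  have hsupn : ∀ N : Subgroup G, N.Normal → N ≠ ⊥ → ((P : Subgroup G) ⊔ N).Normal := by
    intro N hN hN0
    haveI := hN
    have h := hquo N hN0 (P.mapSurjective (QuotientGroup.mk'_surjective N))
    have h2 := h.comap (QuotientGroup.mk' N)
    rwa [Sylow.coe_mapSurjective, Subgroup.comap_map_eq, QuotientGroup.ker_mk'] at h2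
  have hcore : Cfsg.pCore p G = ⊥ := by
    by_contra h0
    refine hPn ?_
    have h := hsupn (Cfsg.pCore p G) inferInstance h0
    rwa [sup_eq_left.mpr (Cfsg.Agent.Cores.pCore_le_sylow P)] at h
  have hP0 : (P : Subgroup G) ≠ ⊥ := fun h => hPn (h ▸ inferInstance)
  obtain ⟨N, hN, hN0, hN1⟩ : ∃ N : Subgroup G, N.Normal ∧ N ≠ ⊥ ∧ N ≠ ⊤ := by
    by_contra hcon
    push Not at hcon
    haveI : Nontrivial G := by
      by_contra hnt
      rw [not_nontrivial_iff_subsingleton] at hnt
      exact hP0 (Subsingleton.elim _ _)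
    exact hns ⟨fun H hH => by
      by_cases h0 : H = ⊥
      · exact Or.inl h0
      · exact Or.inr (hcon H hH h0)⟩
  haveI := hN
  have hNp : ¬ p ∣ Nat.card ↥N := by
    intro hd
    obtain ⟨S⟩ : Nonempty (Sylow p ↥N) := inferInstance
    have hn := hsub N hN1 S
    haveI : (S : Subgroup ↥N).Characteristic := Sylow.characteristic_of_normal S hn
    have h2 : ((S : Subgroup ↥N).map N.subtype).Normal := inferInstance
    haveI := h2
    have h3 := Cfsg.Agent.Cores.le_pCore (S.isPGroup'.map N.subtype) (p := p)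
    rw [hcore, le_bot_iff, Subgroup.map_eq_bot_iff_of_injective _ N.subtype_injective] at h3
    exact S.ne_bot_of_dvd_card hd h3
  have hcop : (Nat.card ↥(P : Subgroup G)).Coprime (Nat.card ↥N) := by
    obtain ⟨j, hj⟩ := IsPGroup.iff_card.mp P.isPGroup'
    rw [hj]; exact Nat.Coprime.pow_left j (hpp.coprime_iff_not_dvd.mpr hNp)
  haveI := hsupn N hN hN0
  have hPN : (P : Subgroup G) ⊔ N = ⊤ := by
    by_contra h
    exact hPn (normal_of_le_pClosed P _ le_sup_left (hsub _ h))
  have hsolv : Group.IsSolvable ↥(P : Subgroup G) := by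
    haveI := P.isPGroup'.isNilpotent
    infer_instance
  have hPnorm : (P : Subgroup G) ≤ Subgroup.normalizer (N : Set G) := Subgroup.le_normalizer_of_normal
  -- a `P`-invariant subgroup of `N` generating a proper subgroup with `P` normalises `P`
  have hfix : ∀ R : Subgroup G, R ≤ N → (P : Subgroup G) ⊔ R ≠ ⊤ → R ≤ Subgroup.normalizer ((P : Subgroup G) : Set G) := by
    intro R hR hne
    have h1 := hsub _ hne (P.subtype le_sup_left)
    rw [Sylow.coe_subtype] at h1
    exact le_trans le_sup_right (Subgroup.le_normalizer_of_normal_subgroupOf (hK := h1) le_sup_left)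
  obtain ⟨q, hq, Q, hQinv, hQtop⟩ : ∃ q : ℕ, q.Prime ∧ ∃ Q : Sylow q ↥N,
      (P : Subgroup G) ≤ Subgroup.normalizer ((Q : Subgroup ↥N).map N.subtype : Set G) ∧
      (P : Subgroup G) ⊔ (Q : Subgroup ↥N).map N.subtype = ⊤ := by
    by_contra hcon
    push Not at hcon
    refine hPn (Subgroup.normalizer_eq_top_iff.mp (eq_top_iff.mpr ?_))
    rw [← hPN]
    refine sup_le Subgroup.le_normalizer ?_
    suffices hs : (Subgroup.normalizer ((P : Subgroup G) : Set G)).subgroupOf N = ⊤ from Subgroup.subgroupOf_eq_top.mp hs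
    refine Cfsg.Agent.Cores.eq_top_of_sylow_le fun q hq _ => ?_
    haveI : Fact q.Prime := ⟨hq⟩
    obtain ⟨Q, hQ⟩ := Cfsg.Agent.Coprime.exists_invariant_sylow q hPnorm hcop (Or.inl hsolv)
    refine ⟨Q, fun y hy => Subgroup.mem_subgroupOf.mpr ?_⟩
    exact hfix _ (Subgroup.map_subtype_le _) (hcon q hq Q hQ) ⟨y, hy, rfl⟩
  haveI : Fact q.Prime := ⟨hq⟩
  have hded : ∀ R : Subgroup G, R ≤ N → (P : Subgroup G) ≤ Subgroup.normalizer (R : Set G) →
      (P : Subgroup G) ⊔ R = ⊤ → R = N := by
    intro R hR hRn htop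
    refine le_antisymm hR fun n hn => ?_
    have hmem : n ∈ ((((P : Subgroup G) ⊔ R : Subgroup G)) : Set G) := by rw [htop]; trivial
    rw [Subgroup.coe_mul_of_left_le_normalizer_right _ _ hRn] at hmem
    obtain ⟨u, hu, v, hv, huv⟩ := hmem
    have huN : u ∈ N := by
      rw [show u = n * v⁻¹ by rw [← huv]; group]
      exact N.mul_mem hn (N.inv_mem (hR hv))
    have hu1 : u = 1 := Subgroup.mem_bot.mp (Subgroup.inf_eq_bot_of_coprime hcop ▸ (⟨hu, huN⟩ : u ∈ (P : Subgroup G) ⊓ N))
    rw [← huv, hu1]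
    simpa using hv
  have hQN := hded _ (Subgroup.map_subtype_le _) hQinv hQtop
  have hNq : IsPGroup q ↥N := hQN ▸ (Q.isPGroup'.map N.subtype)
  obtain ⟨m, hm⟩ := IsPGroup.iff_card.mp hNq
  have hqp : q ≠ p := by
    rintro rfl
    refine hNp ?_
    rw [hm]
    exact dvd_pow_self _ fun h => hN0 (Subgroup.card_eq_one.mp (by rw [hm, h, pow_zero]))
  -- `|P| = p`
  obtain ⟨j, hj⟩ := IsPGroup.iff_card.mp P.isPGroup'
  have hj1 : j = 1 := by
    have hj0 : j ≠ 0 := fun h => hP0 (Subgroup.card_eq_one.mp (by rw [hj, h, pow_zero]))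
    by_contra hj2
    obtain ⟨M, hMn, -, hMc⟩ := Cfsg.Agent.PGroups.Normal.exists_normal_le_card P.isPGroup' (⊤ : Subgroup ↥(P : Subgroup G)) (j - 1)
      (by rw [Subgroup.card_top, hj]; exact Nat.pow_le_pow_right hpp.pos (by omega))
    set P1 := M.map (P : Subgroup G).subtype with hP1
    have hP1P : P1 ≤ (P : Subgroup G) := Subgroup.map_subtype_le M
    have hP1g : IsPGroup p ↥P1 := P.isPGroup'.to_le hP1P
    have hne : P1 ⊔ N ≠ ⊤ := by
      intro h
      have h2 : N.relIndex P1 = N.index := by rw [← Subgroup.relIndex_top_right (H := N), ← h, Subgroup.relIndex_sup_right]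
      have h3 : N.relIndex (P : Subgroup G) = N.index := by
        rw [← Subgroup.relIndex_top_right (H := N), ← hPN, Subgroup.relIndex_sup_right]
      have h4 : ∀ R : Subgroup G, R ≤ (P : Subgroup G) → N.relIndex R = Nat.card ↥R := fun R hR => by
        rw [← Subgroup.inf_relIndex_right, le_bot_iff.mp ((inf_le_inf le_rfl hR).trans (le_of_eq ((inf_comm _ _).trans (Subgroup.inf_eq_bot_of_coprime hcop)))),
          Subgroup.relIndex_bot_left]
      rw [h4 _ hP1P] at h2
      rw [h4 _ le_rfl, hj, ← h2, hP1, Subgroup.card_subtype, hMc] at h3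
      have := Nat.pow_right_injective hpp.two_le h3
      omega
    -- `P1` is normal in `P1 ⊔ N`
    have hN1' : ∀ n ∈ N, n ∈ Subgroup.normalizer (P1 : Set G) := by
      intro n hn
      refine Subgroup.mem_normalizer_fintype fun y hy => ?_
      have hcl := hsub _ hne
      set K := P1 ⊔ N
      have hy' := mem_pCore_of_pClosed hcl (hP1g.comap_subtype (K := K))
        (show (⟨y, Subgroup.mem_sup_left hy⟩ : ↥K) ∈ P1.subgroupOf K from hy)
      have h5 := Subgroup.Normal.conj_mem inferInstance _ hy' ⟨n, Subgroup.mem_sup_right hn⟩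
      -- the `p`-core of `K` is `P1`
      have h6 : (Cfsg.pCore p ↥K).map K.subtype ≤ P1 := by
        rintro _ ⟨z, hz, rfl⟩
        have hzm : (z : G) ∈ ((P1 ⊔ N : Subgroup G) : Set G) := z.2
        rw [Subgroup.coe_mul_of_left_le_normalizer_right _ _ (hP1P.trans hPnorm)] at hzm
        obtain ⟨u, hu, v, hv, huv⟩ := hzm
        have hv' : (⟨v, Subgroup.mem_sup_right hv⟩ : ↥K) ∈ Cfsg.pCore p ↥K := by
          have hu' := mem_pCore_of_pClosed hcl (hP1g.comap_subtype (K := K))
            (show (⟨u, Subgroup.mem_sup_left hu⟩ : ↥K) ∈ P1.subgroupOf K from hu)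
          have h7 := (Cfsg.pCore p ↥K).mul_mem ((Cfsg.pCore p ↥K).inv_mem hu') hz
          convert h7 using 1
          refine Subtype.ext ?_
          show v = u⁻¹ * (z : G)
          rw [← huv]; group
        obtain ⟨i, hi⟩ := Cfsg.Agent.Cores.pCore_isPGroup p ⟨_, hv'⟩
        have hi' : v ^ p ^ i = 1 := congrArg (fun t : ↥(Cfsg.pCore p ↥K) => ((t : ↥K) : G)) hi
        have hv1 : v = 1 := by
          rw [← orderOf_eq_one_iff]
          refine Nat.eq_one_of_dvd_coprimes (a := p ^ i) (b := Nat.card ↥N)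
            (Nat.Coprime.pow_left i (hpp.coprime_iff_not_dvd.mpr hNp)) (orderOf_dvd_of_pow_eq_one hi') ?_
          rw [← Subgroup.orderOf_mk v hv]; exact orderOf_dvd_natCard _
        show (z : G) ∈ P1
        rw [← huv, hv1]
        simpa using hu
      exact h6 ⟨_, h5, rfl⟩
    have hP1n : P1.Normal := by
      refine Subgroup.normalizer_eq_top_iff.mp (eq_top_iff.mpr ?_)
      rw [← hPN]
      refine sup_le (fun u hu => Subgroup.mem_normalizer_fintype ?_) hN1'
      rintro _ ⟨y, hy, rfl⟩
      exact ⟨_, hMn.conj_mem y hy ⟨u, hu⟩, rfl⟩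
    have h8 : P1 ≤ Cfsg.pCore p G := by haveI := hP1n; exact Cfsg.Agent.Cores.le_pCore hP1g
    rw [hcore, le_bot_iff] at h8
    have h9 : Nat.card ↥P1 = 1 := by rw [h8, Subgroup.card_bot]
    rw [hP1, Subgroup.card_subtype, hMc] at h9
    exact absurd (Nat.pow_eq_one.mp h9) (by rintro (h | h); exacts [hpp.ne_one h, by omega])
  rw [hj1, pow_one] at hj
  have hmin : ∀ B : Subgroup G, B.Normal → B ≤ N → B = ⊥ ∨ B = N := by
    intro B hB hBN
    haveI := hB
    by_contra hcon
    rw [not_or] at hcon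
    have hne : (P : Subgroup G) ⊔ B ≠ ⊤ := fun h => hcon.2 (hded B hBN Subgroup.le_normalizer_of_normal h)
    have hBfix := hfix B hBN hne
    have hPB : (P : Subgroup G) ≤ Subgroup.centralizer (B : Set G) := by
      intro u hu
      refine Subgroup.mem_centralizer_iff.mpr fun b hb => ?_
      have h1 : ⁅b, u⁆ ∈ (P : Subgroup G) ⊓ N := by
        refine ⟨?_, ?_⟩
        · rw [commutatorElement_def]
          exact (P : Subgroup G).mul_mem ((Subgroup.mem_normalizer_iff.mp (hBfix hb) u).mp hu) ((P : Subgroup G).inv_mem hu)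
        · rw [commutatorElement_def, mul_assoc, mul_assoc, ← mul_assoc u]
          exact N.mul_mem (hBN hb) (hN.conj_mem _ (N.inv_mem (hBN hb)) u)
      rw [Subgroup.inf_eq_bot_of_coprime hcop, Subgroup.mem_bot] at h1
      exact commutatorElement_eq_one_iff_mul_comm.mp h1
    haveI hPBn := hsupn B hB hcon.1
    have hKA : ⁅N, (P : Subgroup G)⁆ ≤ B := by
      refine Subgroup.commutator_le.mpr fun n hn u hu => ?_
      have h1 : ⁅n, u⁆ ∈ (((P : Subgroup G) ⊔ B : Subgroup G)) := by
        rw [commutatorElement_def]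
        exact Subgroup.mul_mem _ (hPBn.conj_mem u (Subgroup.mem_sup_left hu) n) (Subgroup.inv_mem _ (Subgroup.mem_sup_left hu))
      have h2 : ⁅n, u⁆ ∈ N := by
        rw [commutatorElement_def, mul_assoc, mul_assoc, ← mul_assoc u]
        exact N.mul_mem hn (hN.conj_mem _ (N.inv_mem hn) u)
      have h3 : ⁅n, u⁆ ∈ ((((P : Subgroup G) ⊔ B : Subgroup G)) : Set G) := h1
      rw [Subgroup.coe_mul_of_left_le_normalizer_right _ _ Subgroup.le_normalizer_of_normal] at h3
      obtain ⟨a, ha, b, hb, hab⟩ := h3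
      have haN : a ∈ N := by
        rw [show a = ⁅n, u⁆ * b⁻¹ by rw [← hab]; group]
        exact N.mul_mem h2 (N.inv_mem (hBN hb))
      have ha1 : a = 1 := Subgroup.mem_bot.mp (Subgroup.inf_eq_bot_of_coprime hcop ▸ (⟨ha, haN⟩ : a ∈ (P : Subgroup G) ⊓ N))
      rw [← hab, ha1]
      simpa using hb
    have hc := Cfsg.Agent.Coprime.le_centralizer_of_series hPnorm hcop (Or.inl hsolv) hPB hKA
    refine hPn (Subgroup.normalizer_eq_top_iff.mp (eq_top_iff.mpr ?_))
    rw [← hPN]
    exact sup_le Subgroup.le_normalizer ((Subgroup.le_centralizer_iff.mp hc).trans (Subgroup.centralizer_le_normalizer _))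
  have hNel : Cfsg.IsElementaryAbelian q N := by
    haveI := hNq.isNilpotent
    haveI : Nontrivial ↥N := (Subgroup.nontrivial_iff_ne_bot N).mpr hN0
    have hz : (Subgroup.center ↥N).map N.subtype = N := by
      refine (hmin _ inferInstance (Subgroup.map_subtype_le _)).resolve_left fun h => ?_
      rw [Subgroup.map_eq_bot_iff_of_injective _ N.subtype_injective] at h
      have h2 : Nontrivial ↥(Subgroup.center ↥N) := hNq.center_nontrivial
      exact (Subgroup.nontrivial_iff_ne_bot _).mp h2 h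
    have hcomm : ∀ a ∈ N, ∀ b ∈ N, a * b = b * a := by
      intro a ha b hb
      obtain ⟨w, hw, hwb⟩ := hz.symm ▸ hb
      rw [← hwb]
      exact congrArg Subtype.val (Subgroup.mem_center_iff.mp hw ⟨a, ha⟩)
    refine ⟨⟨⟨fun a b => Subtype.ext (hcomm a a.2 b b.2)⟩⟩, ?_⟩
    let Ω : Subgroup G :=
      { carrier := {x | x ∈ N ∧ x ^ q = 1}
        one_mem' := ⟨N.one_mem, one_pow _⟩
        mul_mem' := fun {a b} ha hb => ⟨N.mul_mem ha.1 hb.1, by
          rw [(show Commute a b from hcomm a ha.1 b hb.1).mul_pow, ha.2, hb.2, one_mul]⟩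
        inv_mem' := fun {a} ha => ⟨N.inv_mem ha.1, by rw [inv_pow, ha.2, inv_one]⟩ }
    have hΩ : Ω = N := by
      refine (hmin Ω ⟨fun a ha g => ⟨hN.conj_mem a ha.1 g, by rw [conj_pow, ha.2, mul_one, mul_inv_cancel]⟩⟩ (fun a ha => ha.1)).resolve_left fun h => ?_
      have hdq : q ∣ Nat.card ↥N := by
        rw [hm]
        exact dvd_pow_self _ fun h0 => hN0 (Subgroup.card_eq_one.mp (by rw [hm, h0, pow_zero]))
      obtain ⟨z, hzo⟩ := exists_prime_orderOf_dvd_card' q hdq
      have h3 : (z : G) ∈ Ω := ⟨z.2, by rw [← hzo, ← Subgroup.orderOf_coe]; exact pow_orderOf_eq_one _⟩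
      rw [h, Subgroup.mem_bot] at h3
      rw [← Subgroup.orderOf_coe, h3, orderOf_one] at hzo
      exact hq.ne_one hzo.symm
    intro a ha
    exact (hΩ.symm ▸ ha : a ∈ Ω).2
  have hidx : N.index = p := by
    rw [← hj, ← Subgroup.relIndex_top_right (H := N), ← hPN, Subgroup.relIndex_sup_right, ← Subgroup.inf_relIndex_right,
      inf_comm, Subgroup.inf_eq_bot_of_coprime hcop, Subgroup.relIndex_bot_left]
  have hna : ¬ IsMulCommutative G := fun h => hPn ⟨fun n hn g => by
    rw [h.is_comm.comm g n, mul_inv_cancel_right]; exact hn⟩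
  have hcount := Cfsg.Agent.GenA.MinimalPClosed.card_minimal_normal hq hqp hna N hNel hidx hmin
  refine ⟨q, hq, hqp, ?_, N, hN, hcount, hNel, hmin⟩
  rw [← Subgroup.card_mul_index N, hidx, hcount, mul_comm]

end Cfsg.Agent.S3868
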