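import Cfsg.Statements.S3869
import Mathlib
import Cfsg.Agent.GenA.MinimalPClosed

set_option autoImplicit false
open Cfsg
open scoped commutatorElement

namespace Cfsg.Agent.S3869

/-- Let p and q be distinct primes and G a finite non-abelian group with a normal elementary abelian q-subgroup A that is a minimal normal subgroup of G and has index p. Then A has order q^e with e the multiplicative order of q modulo p, and G is minimal non-p-closed: its Sylow p-subgroups are not normal, while in every proper subgroup and in every proper quotient of G the Sylow p-subgroups are normal. -/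
theorem result {G : Type*} [Group G] [Finite G] {p q : ℕ} [Fact p.Prime] (hq : q.Prime) (hpq : q ≠ p)
    (hna : ¬ IsMulCommutative G) (A : Subgroup G) [A.Normal] (hA : Cfsg.IsElementaryAbelian q A) (hidx : A.index = p)
    (hmin : ∀ B : Subgroup G, B.Normal → B ≤ A → B = ⊥ ∨ B = A) :
    Nat.card ↥A = q ^ orderOf (q : ZMod p) ∧ ¬ Cfsg.IsPClosed p G ∧ (∀ H : Subgroup G, H ≠ ⊤ → Cfsg.IsPClosed p ↥H) ∧
      ∀ (N : Subgroup G) [N.Normal], N ≠ ⊥ → Cfsg.IsPClosed p (G ⧸ N) := by
  classical
  have hpp : p.Prime := Fact.out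
  have hcard := Cfsg.Agent.GenA.MinimalPClosed.card_minimal_normal hq hpq hna A hA hidx hmin
  obtain ⟨hAc, hAe⟩ := id hA
  haveI := hAc
  have hG : Nat.card G = Nat.card ↥A * p := by rw [← hidx, Subgroup.card_mul_index]
  have hpA : ¬ p ∣ Nat.card ↥A := by
    rw [hcard]
    exact fun h => hpq ((Nat.prime_dvd_prime_iff_eq hpp hq).mp (hpp.dvd_of_dvd_pow h)).symm
  have hP : ∀ S : Sylow p G, Nat.card ↥(S : Subgroup G) = p := by
    intro S
    rw [Sylow.card_eq_multiplicity, hG, Nat.factorization_mul Nat.card_pos.ne' hpp.ne_zero]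
    simp [Nat.factorization_eq_zero_of_not_dvd hpA, hpp.factorization_self]
  have hnotn : ∀ N : Subgroup G, N.Normal → Nat.card ↥N = p → False := by
    intro N hN hNc
    haveI := isCyclic_of_prime_card hNc
    haveI : IsMulCommutative ↥N := IsCyclic.commutative
    have hd : Disjoint A N := disjoint_iff.mpr (Subgroup.inf_eq_bot_of_coprime (by rw [hNc]; exact (hpp.coprime_iff_not_dvd.mpr hpA).symm))
    have hc : N ≤ Subgroup.centralizer (A : Set G) := fun n hn => Subgroup.mem_centralizer_iff.mpr fun a ha =>
      Subgroup.commute_of_normal_of_disjoint A N inferInstance hN hd a n ha hn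
    have hle : A ⊔ N ≤ Subgroup.centralizer ((A ⊔ N : Subgroup G) : Set G) := by
      refine sup_le ?_ ?_ <;> rw [Subgroup.le_centralizer_iff] <;> refine sup_le ?_ ?_
      · exact Subgroup.le_centralizer A
      · exact hc
      · exact Subgroup.le_centralizer_iff.mp hc
      · exact Subgroup.le_centralizer N
    have htop : A ⊔ N = ⊤ := by
      refine Subgroup.eq_top_of_le_card _ ?_
      haveI := hN
      rw [hG, ← hNc]
      exact le_of_eq (by
        have h1 := Subgroup.card_mul_index (A.subgroupOf (A ⊔ N))
        rw [Nat.card_congr (Subgroup.subgroupOfEquivOfLe (le_sup_left : A ≤ A ⊔ N)).toEquiv] at h1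
        have h2 : (A.subgroupOf (A ⊔ N)).index = Nat.card ↥N := by
          show A.relIndex (A ⊔ N) = _
          rw [sup_comm, Subgroup.relIndex_sup_right, ← Subgroup.inf_relIndex_right, hd.eq_bot, Subgroup.relIndex_bot_left]
        rw [h2] at h1; exact h1)
    rw [htop] at hle
    exact hna ⟨⟨fun a b => Subgroup.mem_centralizer_iff.mp (hle (Subgroup.mem_top b)) a (Subgroup.mem_top a)⟩⟩
  refine ⟨hcard, fun h => ?_, fun H hH => ?_, fun N hN hN0 => ?_⟩
  · obtain ⟨S⟩ : Nonempty (Sylow p G) := inferInstance
    exact hnotn _ (h S) (hP S)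
  · intro S
    by_cases hle : H ≤ A
    · have hSc : Nat.card ↥(S : Subgroup ↥H) = 1 := by
        rw [Sylow.card_eq_multiplicity, Nat.factorization_eq_zero_of_not_dvd (fun h => hpA (h.trans (Subgroup.card_dvd_of_le hle))), pow_zero]
      rw [Subgroup.card_eq_one.mp hSc]; infer_instance
    · obtain ⟨h, hh, hhA⟩ := SetLike.not_le_iff_exists.mp hle
      have htop : A ⊔ H = ⊤ := by
        have h1 := Subgroup.relIndex_mul_index (le_sup_left : A ≤ A ⊔ H)
        rw [hidx] at h1
        rcases hpp.eq_one_or_self_of_dvd _ (Dvd.intro_left _ h1) with h2 | h2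
        · exact Subgroup.index_eq_one.mp h2
        · rw [h2] at h1
          exact absurd (Subgroup.relIndex_eq_one.mp ((Nat.mul_eq_right hpp.ne_zero).mp h1))
            (fun hl => hhA (hl (Subgroup.mem_sup_right hh)))
      have hBn : (A ⊓ H).Normal := by
        refine Subgroup.normalizer_eq_top_iff.mp (eq_top_iff.mpr ?_)
        rw [← htop]
        refine sup_le (fun a ha => Subgroup.mem_normalizer_fintype fun y hy => ?_) (fun a ha => Subgroup.mem_normalizer_fintype fun y hy => ?_)
        · rw [show a * y = y * a from congrArg Subtype.val (hAc.is_comm.comm ⟨a, ha⟩ ⟨y, hy.1⟩), mul_inv_cancel_right]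
          exact hy
        · exact ⟨‹A.Normal›.conj_mem y hy.1 a, H.mul_mem (H.mul_mem ha hy.2) (H.inv_mem ha)⟩
      rcases hmin _ hBn inf_le_left with h2 | h2
      · have hc : Nat.card ↥H = p := by
          have h3 : A.relIndex H = p := by rw [← Subgroup.relIndex_sup_right, sup_comm, htop, Subgroup.relIndex_top_right, hidx]
          rw [← h3, ← Subgroup.inf_relIndex_right, h2, Subgroup.relIndex_bot_left]
        haveI := isCyclic_of_prime_card hc
        haveI : IsMulCommutative ↥H := IsCyclic.commutative
        exact ⟨fun n hn g => by rw [IsMulCommutative.is_comm.comm g n, mul_inv_cancel_right]; exact hn⟩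
      · exact absurd (eq_top_iff.mpr (htop ▸ sup_le (inf_eq_left.mp h2) le_rfl)) hH
  · intro S
    have hAN : A ≤ N := by
      rcases hmin (N ⊓ A) inferInstance inf_le_right with h2 | h2
      · exfalso
        refine hnotn N hN ?_
        have h3 : Nat.card ↥N = A.relIndex N := by
          rw [← Subgroup.inf_relIndex_right, inf_comm, h2, Subgroup.relIndex_bot_left]
        have h4 : A.relIndex N ∣ p := hidx ▸ Subgroup.relIndex_dvd_index_of_normal A N
        rcases hpp.eq_one_or_self_of_dvd _ h4 with h5 | h5
        · exact absurd (Subgroup.card_eq_one.mp (h3.trans h5)) hN0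
        · exact h3.trans h5
      · exact inf_eq_right.mp h2
    have hdiv : Nat.card (G ⧸ N) ∣ p ^ 1 := by
      rw [pow_one, ← hidx, ← Subgroup.index_eq_card]; exact Subgroup.index_dvd_of_le hAN
    obtain ⟨i, -, hi⟩ := (Nat.dvd_prime_pow hpp).mp hdiv
    have hg : IsPGroup p (G ⧸ N) := IsPGroup.of_card hi
    rw [← S.is_maximal' (hg.to_subgroup ⊤) le_top]
    infer_instance

end Cfsg.Agent.S3869
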