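import Cfsg.Statements.S3870
import Mathlib

set_option autoImplicit false
open Cfsg
open scoped commutatorElement

namespace Cfsg.Agent.S3870

/-- Let G be a finite simple group whose Sylow p-subgroups are not normal but such that every proper subgroup of G has a normal Sylow p-subgroup. Then any two distinct Sylow p-subgroups of G intersect trivially, and for every Sylow p-subgroup P the normalizer of every non-identity subgroup of P lies in the normalizer of P. -/
theorem result {G : Type*} [Group G] [Finite G] [IsSimpleGroup G] {p : ℕ} [Fact p.Prime]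
    (hnc : ¬ Cfsg.IsPClosed p G) (hsub : ∀ H : Subgroup G, H ≠ ⊤ → Cfsg.IsPClosed p ↥H) :
    (∀ P Q : Sylow p G, P ≠ Q → (P : Subgroup G) ⊓ (Q : Subgroup G) = ⊥) ∧
      ∀ (P : Sylow p G) (R : Subgroup G), R ≤ P → R ≠ ⊥ →
        Subgroup.normalizer (R : Set G) ≤ Subgroup.normalizer ((P : Subgroup G) : Set G) := by
  have htop : ¬ IsPGroup p G := by
    intro h
    exact hnc fun P => by
      rw [show (P : Subgroup G) = ⊤ from (P.3 (Q := ⊤) (h.to_subgroup _) le_top).symm]; infer_instance
  have hnormne : ∀ R : Subgroup G, R ≠ ⊥ → IsPGroup p R → Subgroup.normalizer (R : Set G) ≠ ⊤ := by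
    intro R hR hRp he
    have hn : R.Normal := Subgroup.normalizer_eq_top_iff.mp he
    rcases hn.eq_bot_or_eq_top with h | h
    · exact hR h
    · exact htop (IsPGroup.of_equiv (h ▸ hRp : IsPGroup p (⊤ : Subgroup G)) Subgroup.topEquiv)
  have key : ∀ n, ∀ R : Subgroup G, IsPGroup p R → R ≠ ⊥ → Nat.card G - Nat.card R = n →
      ∀ P Q : Sylow p G, R ≤ P → R ≤ Q → P = Q := by
    intro n
    induction n using Nat.strong_induction_on with
    | _ n ih =>
      intro R hRp hR hn P Q hRP hRQ
      set N := Subgroup.normalizer (R : Set G)
      have hN := hsub N (hnormne R hR hRp)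
      obtain ⟨S, hS⟩ := IsPGroup.exists_le_sylow (G := G) (P := ((default : Sylow p N) : Subgroup N).map N.subtype) ((default : Sylow p N).isPGroup'.map _)
      -- every Sylow through `R` equals `S`, or contains `R` strictly inside `N`
      have main : ∀ T : Sylow p G, R ≤ T → T = S := by
        intro T hRT
        have hTN : ∀ U : Subgroup G, U ≤ N → IsPGroup p U → U ≤ (S : Subgroup G) := by
          intro U hUN hU
          obtain ⟨W, hW⟩ := IsPGroup.exists_le_sylow (G := N) (hU.comap_of_injective N.subtype N.subtype_injective)
          haveI : Subsingleton (Sylow p N) := by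
            refine ⟨fun A B => ?_⟩
            haveI := hN A
            obtain ⟨g, hg⟩ := MulAction.exists_smul_eq N A B
            rw [← hg, Sylow.smul_eq_iff_mem_normalizer.mpr (by rw [show Subgroup.normalizer (A : Set N) = ⊤ from Subgroup.normalizer_eq_top_iff.mpr (hN A)]; trivial)]
          intro u hu
          exact hS ⟨⟨u, hUN hu⟩, Subsingleton.elim W (default : Sylow p N) ▸ hW (show (⟨u, hUN hu⟩ : N) ∈ U.comap N.subtype from hu), rfl⟩
        rcases eq_or_lt_of_le hRT with he | hlt
        · refine (Sylow.ext ?_)
          rw [← he]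
          rw [he]; exact (T.3 (Q := (S : Subgroup G)) S.isPGroup' (he ▸ hTN R (Subgroup.le_normalizer) hRp)).symm
        · have hTn : Group.IsNilpotent (T : Subgroup G) := T.isPGroup'.isNilpotent
          have hlt' : R.subgroupOf T < ⊤ := lt_top_iff_ne_top.mpr fun h => hlt.not_ge (Subgroup.subgroupOf_eq_top.mp h)
          have hgrow := Group.normalizerCondition_of_isNilpotent _ hlt'
          obtain ⟨u, huN, huR⟩ := SetLike.exists_of_lt hgrow
          set R' := ((T : Subgroup G) ⊓ N)
          have hRR' : R < R' := by
            refine lt_of_le_of_ne (le_inf hRT Subgroup.le_normalizer) fun he => huR ?_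
            have huN' : (u : G) ∈ N := by
              rw [Subgroup.mem_normalizer_iff]
              intro r
              constructor
              · intro hr; exact (Subgroup.mem_normalizer_iff.mp huN ⟨r, hRT hr⟩).mp hr
              · intro hr
                have h1 : u * r * (u : G)⁻¹ ∈ (T : Subgroup G) := hRT hr
                have hrT : r ∈ (T : Subgroup G) := by
                  have := mul_mem (mul_mem (inv_mem u.2) h1) u.2
                  simpa [mul_assoc] using this
                exact (Subgroup.mem_normalizer_iff.mp huN ⟨r, hrT⟩).mpr hr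
            rw [Subgroup.mem_subgroupOf, he]
            exact ⟨u.2, huN'⟩
          have hcard : Nat.card R < Nat.card R' :=
            lt_of_le_of_ne (Subgroup.card_le_of_le hRR'.le) fun e => hRR'.ne (Subgroup.eq_of_le_of_card_ge hRR'.le e.ge)
          have hle := Nat.card_le_card_of_injective _ R'.subtype_injective
          exact ih _ (by omega) R' (T.isPGroup'.to_le inf_le_left) (fun h => hR (le_bot_iff.mp (h ▸ hRR'.le))) rfl T S inf_le_left
            (hTN R' inf_le_right (T.isPGroup'.to_le inf_le_left))
      rw [main P hRP, main Q hRQ]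
  constructor
  · intro P Q hne
    by_contra h
    exact hne (key _ _ (P.isPGroup'.to_le inf_le_left) h rfl P Q inf_le_left inf_le_right)
  · intro P R hRP hR g hg
    suffices g • P = P from Sylow.smul_eq_iff_mem_normalizer.mp this
    refine key _ R (P.isPGroup'.to_le hRP) hR rfl _ P ?_ hRP
    intro r hr
    rw [Sylow.coe_subgroup_smul, Subgroup.mem_pointwise_smul_iff_inv_smul_mem]
    refine hRP ?_
    rw [← map_inv, MulAut.smul_def, MulAut.conj_apply, inv_inv]
    simpa [mul_assoc] using (Subgroup.mem_normalizer_iff''.mp hg r).mp hr

end Cfsg.Agent.S3870
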