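import Cfsg.Statements.S3872
import Mathlib
import Cfsg.Agent.GenA.Lazard
import Cfsg.Agent.Lib.PGroups.UniqueSubgroup
import Cfsg.Agent.Lib.Coprime.PGroup

set_option autoImplicit false
open Cfsg
open scoped commutatorElement

namespace Cfsg.Agent.S3872

/-- Say that a finite group is p-exponent closed when its elements of order dividing p form a subgroup. Let G be a finite p-group that is not p-exponent closed, but all of whose proper subgroups and proper quotients are. Then G is generated by two elements, has nilpotency class at least p, has exponent p², has cyclic center, and has order at least p^(p+1). -/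
theorem result {G : Type*} [Group G] [Finite G] {p : ℕ} [Fact p.Prime] (hG : IsPGroup p G)
    (hnc : ¬ (∃ H : Subgroup G, (H : Set G) = {g : G | g ^ p = 1})) (hsub : ∀ K : Subgroup G, K ≠ ⊤ → (∃ H : Subgroup ↥K, (H : Set ↥K) = {g : ↥K | g ^ p = 1}))
    (hquo : ∀ (N : Subgroup G) [N.Normal], N ≠ ⊥ → (∃ H : Subgroup (G ⧸ N), (H : Set (G ⧸ N)) = {g : (G ⧸ N) | g ^ p = 1})) :
    (∃ x y : G, Subgroup.closure ({x, y} : Set G) = ⊤) ∧ (⊤ : Subgroup G).lowerCentralSeries (p - 1) ≠ ⊥ ∧
      Monoid.exponent G = p ^ 2 ∧ IsCyclic ↥(Subgroup.center G) ∧ p ^ (p + 1) ≤ Nat.card G := by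
  classical
  have hp : p.Prime := Fact.out
  -- a failing pair
  obtain ⟨a, b, ha, hb, hab⟩ : ∃ a b : G, a ^ p = 1 ∧ b ^ p = 1 ∧ (a * b) ^ p ≠ 1 := by
    by_contra hall
    push Not at hall
    let H : Subgroup G :=
      { carrier := {g : G | g ^ p = 1}
        one_mem' := one_pow p
        mul_mem' := fun {u v} hu hv => hall u v hu hv
        inv_mem' := fun {u} hu => (inv_pow u p).trans (by rw [(show u ^ p = 1 from hu), inv_one]) }
    exact hnc ⟨H, rfl⟩
  have hgen : Subgroup.closure ({a, b} : Set G) = ⊤ := by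
    by_contra hne
    obtain ⟨H, hH⟩ := hsub _ hne
    have hmem : ∀ u : ↥(Subgroup.closure ({a, b} : Set G)), u ∈ H ↔ u ^ p = 1 := fun u => by
      rw [← SetLike.mem_coe, hH]; rfl
    have hA : a ∈ Subgroup.closure ({a, b} : Set G) := Subgroup.subset_closure (Or.inl rfl)
    have hB : b ∈ Subgroup.closure ({a, b} : Set G) := Subgroup.subset_closure (Or.inr rfl)
    have := H.mul_mem ((hmem ⟨a, hA⟩).mpr (Subtype.ext ha)) ((hmem ⟨b, hB⟩).mpr (Subtype.ext hb))
    exact hab (congrArg Subtype.val ((hmem _).mp this))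
  have hclass : (⊤ : Subgroup G).lowerCentralSeries (p - 1) ≠ ⊥ := fun h =>
    hab (Cfsg.Agent.GenA.Lazard.omega_mul_closed (Nat.card G) G le_rfl hG ⟨p - 1, Nat.sub_lt hp.pos one_pos, h⟩ a b ha hb)
  have hquot : ∀ (N : Subgroup G) [N.Normal], N ≠ ⊥ → ∀ g : G, g ^ p ∈ N := by
    intro N _ hN g
    obtain ⟨H, hH⟩ := hquo N hN
    have hmem : ∀ u : G ⧸ N, u ∈ H ↔ u ^ p = 1 := fun u => by rw [← SetLike.mem_coe, hH]; rfl
    have hle : Subgroup.closure ({a, b} : Set G) ≤ H.comap (QuotientGroup.mk' N) := by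
      rw [Subgroup.closure_le]
      rintro u (rfl | rfl) <;> refine (hmem _).mpr ?_ <;> rw [← map_pow]
      · rw [ha, map_one]
      · rw [hb, map_one]
    have := (hmem _).mp (hle (hgen ▸ Subgroup.mem_top g))
    rw [← map_pow] at this
    exact (QuotientGroup.eq_one_iff _).mp this
  have huniq : ∀ U V : Subgroup ↥(Subgroup.center G), Nat.card U = p → Nat.card V = p → U = V := by
    intro U V hU hV
    by_contra hne
    have hne1 : ∀ W : Subgroup ↥(Subgroup.center G), Nat.card W = p → W.map (Subgroup.center G).subtype ≠ ⊥ := fun W hW h => by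
      rw [Subgroup.map_eq_bot_iff_of_injective _ (Subgroup.subtype_injective _)] at h
      rw [h, Subgroup.card_bot] at hW; exact hp.ne_one hW.symm
    have hn : ∀ W : Subgroup ↥(Subgroup.center G), (W.map (Subgroup.center G).subtype).Normal := fun W => ⟨fun x hx g => by
      obtain ⟨w, hw, rfl⟩ := hx
      rw [show g * (Subgroup.center G).subtype w * g⁻¹ = (Subgroup.center G).subtype w by
        rw [Subgroup.subtype_apply, Subgroup.mem_center_iff.mp w.2 g, mul_inv_cancel_right]]
      exact ⟨w, hw, rfl⟩⟩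
    haveI := hn U; haveI := hn V
    obtain ⟨u, hu, hu'⟩ := hquot _ (hne1 U hU) (a * b)
    obtain ⟨v, hv, hv'⟩ := hquot _ (hne1 V hV) (a * b)
    have huv : u = v := Subtype.ext (hu'.trans hv'.symm)
    subst huv
    have hcop : U ⊓ V = ⊥ := by
      rcases (Nat.dvd_prime hp).mp (hU ▸ Subgroup.card_dvd_of_le (inf_le_left : U ⊓ V ≤ U)) with h1 | h1
      · exact Subgroup.card_eq_one.mp h1
      · have hUV : U ≤ V := inf_eq_left.mp (Subgroup.eq_of_le_of_card_ge inf_le_left (by rw [h1, hU]))
        exact absurd (Subgroup.eq_of_le_of_card_ge hUV (by rw [hU, hV])) hne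
    have : u ∈ U ⊓ V := ⟨hu, hv⟩
    rw [hcop, Subgroup.mem_bot] at this
    subst this
    exact hab hu'.symm
  have hcyc : IsCyclic ↥(Subgroup.center G) :=
    Cfsg.Agent.PGroups.UniqueSubgroup.isCyclic_of_abelian (hG.to_subgroup _) fun x y hx hy hx1 => by
      by_cases hy1 : y = 1
      · rw [hy1]; exact one_mem _
      rw [huniq (Subgroup.zpowers x) (Subgroup.zpowers y) (by rw [Nat.card_zpowers]; exact orderOf_eq_prime hx hx1)
        (by rw [Nat.card_zpowers]; exact orderOf_eq_prime hy hy1)]
      exact Subgroup.mem_zpowers y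
  have hexp : Monoid.exponent G = p ^ 2 := by
    refine Nat.dvd_antisymm (Monoid.exponent_dvd_iff_forall_pow_eq_one.mpr fun g => ?_) ?_
    · haveI : Nontrivial G := ⟨⟨a * b, 1, fun h => hab (by rw [h, one_pow])⟩⟩
      haveI := hG.center_nontrivial
      obtain ⟨k, hk⟩ := (hG.to_subgroup (Subgroup.center G)).exists_card_eq
      obtain ⟨⟨z, hz⟩, hzo⟩ := exists_prime_orderOf_dvd_card' p (G := Subgroup.center G) (by
        have h1 := Finite.one_lt_card (α := Subgroup.center G)
        rw [hk] at h1 ⊢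
        exact dvd_pow_self p fun h0 => by simp [h0] at h1)
      rw [Subgroup.orderOf_mk] at hzo
      haveI : (Subgroup.zpowers z).Normal := ⟨fun x hx g => by
        rw [Subgroup.mem_center_iff.mp (Subgroup.zpowers_le.mpr hz hx) g, mul_inv_cancel_right]; exact hx⟩
      have := hquot (Subgroup.zpowers z) (fun h => by
        rw [Subgroup.zpowers_eq_bot] at h; rw [h, orderOf_one] at hzo; exact hp.ne_one hzo.symm) g
      rw [sq, pow_mul, ← orderOf_dvd_iff_pow_eq_one]
      exact (Subgroup.orderOf_dvd_natCard _ this).trans (by rw [Nat.card_zpowers, hzo])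
    · obtain ⟨k, hk⟩ := IsPGroup.iff_orderOf.mp hG (a * b)
      refine (pow_dvd_pow p (show 2 ≤ k from ?_)).trans (hk ▸ Monoid.order_dvd_exponent _)
      by_contra hlt
      apply hab
      rw [← orderOf_dvd_iff_pow_eq_one, hk]
      exact (pow_dvd_pow p (show k ≤ 1 by omega)).trans (pow_one p).dvd
  refine ⟨⟨a, b, hgen⟩, hclass, hexp, hcyc, ?_⟩
  haveI := hG.isNilpotent
  have hanti := fun i => Subgroup.lowerCentralSeries_antitone (⊤ : Subgroup G) (Nat.le_succ i)
  have hdrop : ∀ i, (⊤ : Subgroup G).lowerCentralSeries (i + 1) ≠ ⊥ →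
      p * Nat.card ↥((⊤ : Subgroup G).lowerCentralSeries (i + 1)) ≤ Nat.card ↥((⊤ : Subgroup G).lowerCentralSeries i) := by
    intro i hi
    obtain ⟨N, hN⟩ := Subgroup.nilpotent_iff_lowerCentralSeries.mp (inferInstance : Group.IsNilpotent G)
    have hlt : (⊤ : Subgroup G).lowerCentralSeries (i + 1) ≠ (⊤ : Subgroup G).lowerCentralSeries i := by
      intro h
      have hst : ∀ d, (⊤ : Subgroup G).lowerCentralSeries (i + d) = (⊤ : Subgroup G).lowerCentralSeries i := by
        intro d
        induction d with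
        | zero => rfl
        | succ d ihd => rw [← add_assoc, Subgroup.lowerCentralSeries_succ, ihd]; exact h
      apply hi
      rw [h, ← hst N, eq_bot_iff, ← hN]
      exact Subgroup.lowerCentralSeries_antitone _ (by omega)
    obtain ⟨s, hs⟩ := (hG.to_subgroup ((⊤ : Subgroup G).lowerCentralSeries i)).exists_card_eq
    obtain ⟨t, ht⟩ := (hG.to_subgroup ((⊤ : Subgroup G).lowerCentralSeries (i + 1))).exists_card_eq
    have : t < s := by
      by_contra h0
      exact hlt (Subgroup.eq_of_le_of_card_ge (hanti i) (by rw [hs, ht]; exact Nat.pow_le_pow_right hp.pos (by omega)))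
    rw [hs, ht, ← pow_succ']
    exact Nat.pow_le_pow_right hp.pos this
  have hlow : ∀ d, d ≤ p - 2 → p ^ (d + 1) ≤ Nat.card ↥((⊤ : Subgroup G).lowerCentralSeries (p - 1 - d)) := by
    intro d
    induction d with
    | zero =>
      intro _
      obtain ⟨s, hs⟩ := (hG.to_subgroup ((⊤ : Subgroup G).lowerCentralSeries (p - 1))).exists_card_eq
      rw [Nat.sub_zero, hs]
      refine Nat.pow_le_pow_right hp.pos (Nat.one_le_iff_ne_zero.mpr fun h0 => hclass (Subgroup.card_eq_one.mp (by rw [hs, h0, pow_zero])))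
    | succ d ihd =>
      intro hd
      have h1 := hdrop (p - 1 - (d + 1)) (fun h => hclass (le_bot_iff.mp (h ▸ Subgroup.lowerCentralSeries_antitone _ (by omega))))
      rw [show p - 1 - (d + 1) + 1 = p - 1 - d by omega] at h1
      rw [pow_succ']
      exact (Nat.mul_le_mul_left p (ihd (by omega))).trans h1
  have h1 := hlow (p - 2) le_rfl
  rw [show p - 1 - (p - 2) = 1 by have := hp.two_le; omega, Subgroup.top_lowerCentralSeries_one,
    show p - 2 + 1 = p - 1 by have := hp.two_le; omega] at h1
  have hidx : p ^ 2 ≤ (commutator G).index := by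
    obtain ⟨k, hk⟩ := (hG.to_quotient (commutator G)).exists_card_eq
    refine le_of_le_of_eq (Nat.pow_le_pow_right hp.pos ?_) hk.symm
    by_contra hlt
    haveI : IsCyclic (G ⧸ commutator G) := by
      rcases Nat.eq_zero_or_pos k with rfl | hk0
      · haveI : Subsingleton (G ⧸ commutator G) := Finite.card_le_one_iff_subsingleton.mp (by rw [hk]; rfl)
        exact isCyclic_of_subsingleton
      · exact isCyclic_of_prime_card (p := p) (by rw [hk, show k = 1 by omega, pow_one])
    obtain ⟨g, hg⟩ := IsCyclic.exists_generator (α := G ⧸ commutator G)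
    obtain ⟨g, rfl⟩ := QuotientGroup.mk'_surjective _ g
    have htop : Subgroup.zpowers g = ⊤ := frattini_nongenerating (eq_top_iff.mpr fun x _ => by
      obtain ⟨i, hi⟩ := Subgroup.mem_zpowers_iff.mp (hg (QuotientGroup.mk' _ x))
      rw [← map_zpow] at hi
      rw [← mul_inv_cancel_left (g ^ i) x]
      exact mul_mem (Subgroup.mem_sup_left (zpow_mem (Subgroup.mem_zpowers g) i))
        (Subgroup.mem_sup_right (Cfsg.Agent.Coprime.commutator_le_frattini G (QuotientGroup.eq.mp hi))))
    apply hab
    have hc : Commute a b := by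
      obtain ⟨i, rfl⟩ := Subgroup.mem_zpowers_iff.mp (htop ▸ Subgroup.mem_top a)
      obtain ⟨j, rfl⟩ := Subgroup.mem_zpowers_iff.mp (htop ▸ Subgroup.mem_top b)
      exact (Commute.refl g).zpow_zpow i j
    rw [hc.mul_pow, ha, hb, one_mul]
  calc p ^ (p + 1) = p ^ (p - 1) * p ^ 2 := by rw [← pow_add]; congr 1; have := hp.two_le; omega
    _ ≤ Nat.card (commutator G) * (commutator G).index := Nat.mul_le_mul h1 hidx
    _ = Nat.card G := Subgroup.card_mul_index _

end Cfsg.Agent.S3872
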