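import Cfsg.Statements.S3873
import Mathlib
import Cfsg.Agent.S3868

set_option autoImplicit false
open Cfsg
open scoped commutatorElement

namespace Cfsg.Agent.S3873
theorem isPGroup_of_pow {G : Type*} [Group G] {p : ℕ} (H : Subgroup G) (h : ∀ x ∈ H, x ^ p = 1) : IsPGroup p ↥H :=
  fun x => ⟨1, Subtype.ext (by simpa using h x x.2)⟩


/-- Say that a finite group is p-exponent closed when its elements of order dividing p form a subgroup. Let G be a finite group that is not p-exponent closed, but all of whose proper subgroups and proper quotients are, and suppose G is neither simple nor a p-group. Then there is a prime q ≠ p such that G has order p · q^e, where e is the multiplicative order of q modulo p, and G has a normal elementary abelian subgroup of order q^e that is a minimal normal subgroup of G. -/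
theorem result {G : Type*} [Group G] [Finite G] {p : ℕ} [Fact p.Prime]
    (hnc : ¬ (∃ H : Subgroup G, (H : Set G) = {g : G | g ^ p = 1})) (hsub : ∀ K : Subgroup G, K ≠ ⊤ → (∃ H : Subgroup ↥K, (H : Set ↥K) = {g : ↥K | g ^ p = 1}))
    (hquo : ∀ (N : Subgroup G) [N.Normal], N ≠ ⊥ → (∃ H : Subgroup (G ⧸ N), (H : Set (G ⧸ N)) = {g : (G ⧸ N) | g ^ p = 1}))
    (hns : ¬ IsSimpleGroup G) (hnp : ¬ IsPGroup p G) :
    ∃ q : ℕ, q.Prime ∧ q ≠ p ∧ Nat.card G = p * q ^ orderOf (q : ZMod p) ∧
      ∃ A : Subgroup G, A.Normal ∧ Nat.card ↥A = q ^ orderOf (q : ZMod p) ∧ Cfsg.IsElementaryAbelian q A ∧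
        ∀ B : Subgroup G, B.Normal → B ≤ A → B = ⊥ ∨ B = A := by
  classical
  have hpp : p.Prime := Fact.out
  set Ω := Subgroup.closure {g : G | g ^ p = 1} with hΩdef
  have hΩtop : Ω = ⊤ := by
    by_contra h
    obtain ⟨H, hH⟩ := hsub Ω h
    refine hnc ⟨H.map Ω.subtype, Set.ext fun g => ⟨?_, fun hg => ?_⟩⟩
    · rintro ⟨y, hy, rfl⟩
      have : y ∈ (H : Set ↥Ω) := hy
      rw [hH] at this
      exact congrArg Subtype.val this
    · refine ⟨⟨g, Subgroup.subset_closure hg⟩, ?_, rfl⟩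
      show (⟨g, _⟩ : ↥Ω) ∈ (H : Set ↥Ω)
      rw [hH]
      exact Subtype.ext hg
  -- proper quotients have exponent `p`
  have hquo' : ∀ N : Subgroup G, ∀ (hN : N.Normal), N ≠ ⊥ → ∀ g : G, g ^ p ∈ N := by
    intro N hN hN0 g
    haveI := hN
    obtain ⟨H, hH⟩ := hquo N hN0
    have hle : Ω ≤ H.comap (QuotientGroup.mk' N) := by
      refine (Subgroup.closure_le _).mpr fun x hx => ?_
      show QuotientGroup.mk' N x ∈ (H : Set (G ⧸ N))
      rw [hH]
      show QuotientGroup.mk' N x ^ p = 1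
      rw [← map_pow, show x ^ p = 1 from hx, map_one]
    have hg : QuotientGroup.mk' N g ∈ (H : Set (G ⧸ N)) := hle (hΩtop ▸ Subgroup.mem_top g)
    rw [hH] at hg
    refine (QuotientGroup.eq_one_iff _).mp ?_
    simpa using hg
  obtain ⟨N, hN, hN0, hN1⟩ : ∃ N : Subgroup G, N.Normal ∧ N ≠ ⊥ ∧ N ≠ ⊤ := by
    by_contra hcon
    push Not at hcon
    haveI : Nontrivial G := by
      by_contra hnt
      rw [not_nontrivial_iff_subsingleton] at hnt
      exact hnp fun g => ⟨0, Subsingleton.elim _ _⟩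
    exact hns ⟨fun H hH => by
      by_cases h0 : H = ⊥
      · exact Or.inl h0
      · exact Or.inr (hcon H hH h0)⟩
  haveI := hN
  -- a nontrivial normal subgroup is not of exponent `p`
  have hnotexp : ∀ M : Subgroup G, M.Normal → M ≠ ⊥ → (∀ x ∈ M, x ^ p = 1) → False := by
    intro M hM hM0 hexp
    refine hnp fun g => ⟨2, ?_⟩
    rw [sq, pow_mul]
    exact hexp _ (hquo' M hM hM0 g)
  have hNp : ∀ x ∈ N, x ^ p = 1 → x = 1 := by
    obtain ⟨H, hH⟩ := hsub N hN1
    intro x hx hxp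
    by_contra hx1
    have hHc : H.Characteristic := by
      refine Subgroup.characteristic_iff_comap_eq.mpr fun φ => Subgroup.ext fun y => ?_
      rw [Subgroup.mem_comap]
      show φ y ∈ (H : Set ↥N) ↔ y ∈ (H : Set ↥N)
      rw [hH]
      show φ y ^ p = 1 ↔ y ^ p = 1
      rw [← map_pow, map_eq_one_iff φ φ.injective]
    have hxH : (⟨x, hx⟩ : ↥N) ∈ (H : Set ↥N) := by rw [hH]; exact Subtype.ext hxp
    refine hnotexp (H.map N.subtype) inferInstance (fun h => hx1 ?_) ?_
    · have : x ∈ H.map N.subtype := ⟨⟨x, hx⟩, hxH, rfl⟩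
      rwa [h, Subgroup.mem_bot] at this
    · rintro _ ⟨y, hy, rfl⟩
      have : y ∈ (H : Set ↥N) := hy
      rw [hH] at this
      rw [← map_pow, show y ^ p = 1 from this, map_one]
  -- `p`-elements have order dividing `p`
  have hexp : ∀ x : G, ∀ k : ℕ, x ^ p ^ k = 1 → x ^ p = 1 := by
    intro x k hk
    obtain ⟨i, -, hi⟩ := (Nat.dvd_prime_pow hpp).mp (orderOf_dvd_of_pow_eq_one hk)
    rcases Nat.lt_or_ge i 2 with h | h
    · rw [← orderOf_dvd_iff_pow_eq_one, hi]
      exact (pow_dvd_pow p (show i ≤ 1 by omega)).trans (by rw [pow_one])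
    · exfalso
      have h2 : orderOf (x ^ p ^ (i - 1)) = p := by
        rw [orderOf_pow_of_dvd (pow_ne_zero _ hpp.ne_zero) (hi ▸ pow_dvd_pow p (by omega)), hi, Nat.pow_div (by omega) hpp.pos,
          show i - (i - 1) = 1 by omega, pow_one]
      have hmem : x ^ p ^ (i - 1) ∈ N := by
        rw [show p ^ (i - 1) = p * p ^ (i - 2) by rw [← pow_succ']; congr 1; omega, pow_mul]
        exact N.pow_mem (hquo' N hN hN0 x) _
      have h3 := hNp _ hmem (orderOf_dvd_iff_pow_eq_one.mp h2.dvd)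
      rw [h3, orderOf_one] at h2
      exact hpp.ne_one h2.symm
  refine Cfsg.Agent.S3868.result ?_ ?_ ?_ hns
  · intro h
    obtain ⟨P⟩ : Nonempty (Sylow p G) := inferInstance
    refine hnc ⟨(P : Subgroup G), Set.ext fun g => ⟨fun hg => ?_, fun hg => ?_⟩⟩
    · obtain ⟨k, hk⟩ := P.isPGroup' ⟨g, hg⟩
      exact hexp g k (congrArg Subtype.val hk)
    · haveI := Sylow.unique_of_normal P (h P)
      obtain ⟨S, hS⟩ := (IsPGroup.of_card (p := p) (G := ↥(Subgroup.zpowers g))
        (n := ((Nat.dvd_prime_pow hpp).mp (show orderOf g ∣ p ^ 1 by rw [pow_one]; exact orderOf_dvd_of_pow_eq_one hg)).choose)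
        (by rw [Nat.card_zpowers]; exact ((Nat.dvd_prime_pow hpp).mp (show orderOf g ∣ p ^ 1 by rw [pow_one]; exact orderOf_dvd_of_pow_eq_one hg)).choose_spec.2)).exists_le_sylow
      rw [Subsingleton.elim P S]
      exact hS (Subgroup.mem_zpowers g)
  · intro H hH S
    obtain ⟨W, hW⟩ := hsub H hH
    have hWp : IsPGroup p ↥W := isPGroup_of_pow W fun y hy => by
      have : y ∈ (W : Set ↥H) := hy
      rwa [hW] at this
    have hSW : (S : Subgroup ↥H) ≤ W := fun y hy => by
      show y ∈ (W : Set ↥H)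
      rw [hW]
      obtain ⟨k, hk⟩ := S.isPGroup' ⟨y, hy⟩
      have hk' : (y : G) ^ p ^ k = 1 := congrArg (fun t : ↥(S : Subgroup ↥H) => ((t : ↥H) : G)) hk
      exact Subtype.ext (by simpa using hexp _ k hk')
    rw [← S.is_maximal' hWp hSW]
    refine ⟨fun y hy g => ?_⟩
    have : y ∈ (W : Set ↥H) := hy
    rw [hW] at this
    show g * y * g⁻¹ ∈ (W : Set ↥H)
    rw [hW]
    show (g * y * g⁻¹) ^ p = 1
    rw [conj_pow, show y ^ p = 1 from this, mul_one, mul_inv_cancel]
  · intro M hM hM0 S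
    have hg : IsPGroup p (G ⧸ M) := fun y => by
      obtain ⟨g, rfl⟩ := QuotientGroup.mk'_surjective M y
      exact ⟨1, by rw [pow_one, ← map_pow]; exact (QuotientGroup.eq_one_iff _).mpr (hquo' M hM hM0 g)⟩
    rw [← S.is_maximal' (hg.to_subgroup ⊤) le_top]
    infer_instance

end Cfsg.Agent.S3873
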