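import Cfsg.Statements.S3878
import Mathlib
import Cfsg.Agent.GenA.HallFail

set_option autoImplicit false
open Cfsg
open scoped commutatorElement

namespace Cfsg.Agent.S3878
section
variable {π : Set ℕ}

theorem exists_maximal_pi {G : Type} [Group G] [Finite G] {U : Subgroup G} (hU : Cfsg.IsPiSubgroup π U) :
    ∃ M, Maximal (Cfsg.IsPiSubgroup π) M ∧ U ≤ M := by
  obtain ⟨M, ⟨hM, hUM⟩, hmax⟩ := (Set.toFinite {M : Subgroup G | Cfsg.IsPiSubgroup π M ∧ U ≤ M}).exists_maximal ⟨U, hU, le_rfl⟩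
  exact ⟨M, ⟨hM, fun V hV hle => hmax ⟨hV, hUM.trans hle⟩ hle⟩, hUM⟩

theorem e_of_d {G : Type} [Group G] [Finite G] (h : Cfsg.IsDPiGroup π G) : Cfsg.IsEPiGroup π G := by
  have hbot : Cfsg.IsPiSubgroup π (⊥ : Subgroup G) := fun p hp hd => absurd (Nat.dvd_one.mp (by simpa using hd)) hp.ne_one
  obtain ⟨M, hM, -⟩ := exists_maximal_pi hbot
  refine ⟨M, hM.1, fun p hp hπ hd => ?_⟩
  haveI : Fact p.Prime := ⟨hp⟩
  obtain ⟨S⟩ : Nonempty (Sylow p G) := inferInstance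
  have hS : Cfsg.IsPiSubgroup π (S : Subgroup G) := fun r hr hrd => by
    obtain ⟨k, hk⟩ := IsPGroup.iff_card.mp S.2
    rw [hk] at hrd
    rwa [(Nat.prime_dvd_prime_iff_eq hr hp).mp (hr.dvd_of_dvd_pow hrd)]
  obtain ⟨N, hN, hSN⟩ := exists_maximal_pi hS
  obtain ⟨g, hg⟩ := h M N hM hN
  have hi : N.index = M.index := by rw [hg]; exact Subgroup.index_map_equiv M (MulAut.conj g)
  exact S.not_dvd_index (hd.trans (hi ▸ Subgroup.index_dvd_of_le hSN))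

theorem d_of_small (hc : (∀ p q : ℕ, p.Prime → q.Prime → p ∈ π → q ∈ π → p = q) ∨ ∀ p : ℕ, p.Prime → p ∈ π)
    (G : Type) [Group G] [Finite G] : Cfsg.IsDPiGroup π G := by
  intro H K hH hK
  rcases hc with hc | hc
  swap
  · have htop : ∀ M : Subgroup G, Maximal (Cfsg.IsPiSubgroup π) M → M = ⊤ := fun M hM =>
      top_le_iff.mp (hM.2 (fun p hp _ => hc p hp) le_top)
    refine ⟨1, ?_⟩
    rw [htop H hH, htop K hK]; simp
  by_cases hex : ∃ p, p.Prime ∧ p ∈ π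
  · obtain ⟨p, hp, hpπ⟩ := hex
    haveI : Fact p.Prime := ⟨hp⟩
    have hsyl : ∀ M : Subgroup G, Maximal (Cfsg.IsPiSubgroup π) M → ∃ S : Sylow p G, (S : Subgroup G) = M := by
      intro M hM
      have hMp : IsPGroup p M := IsPGroup.of_card (n := (Nat.card M).primeFactorsList.length)
        (Nat.eq_prime_pow_of_unique_prime_dvd Nat.card_pos.ne' fun {d} hd hdM => hc d p hd hp (hM.1 d hd hdM) hpπ)
      obtain ⟨S, hS⟩ := hMp.exists_le_sylow
      refine ⟨S, le_antisymm (hM.2 (fun r hr hrd => ?_) hS) hS⟩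
      obtain ⟨k, hk⟩ := IsPGroup.iff_card.mp S.2
      rw [hk] at hrd
      rwa [(Nat.prime_dvd_prime_iff_eq hr hp).mp (hr.dvd_of_dvd_pow hrd)]
    obtain ⟨S, rfl⟩ := hsyl H hH
    obtain ⟨T, rfl⟩ := hsyl K hK
    obtain ⟨g, hg⟩ := MulAction.exists_smul_eq G S T
    exact ⟨g, by rw [← hg, Sylow.coe_subgroup_smul]; rfl⟩
  · push Not at hex
    have hbot : ∀ M : Subgroup G, Maximal (Cfsg.IsPiSubgroup π) M → M = ⊥ := fun M hM => by
      rw [← Subgroup.card_eq_one]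
      by_contra h
      exact hex _ (Nat.minFac_prime h) (hM.1 _ (Nat.minFac_prime h) (Nat.minFac_dvd _))
    refine ⟨1, ?_⟩
    rw [hbot H hH, hbot K hK]; simp

theorem small_of_e (h : ∀ (G : Type) [Group G] [Finite G], Cfsg.IsEPiGroup π G) :
    (∀ p q : ℕ, p.Prime → q.Prime → p ∈ π → q ∈ π → p = q) ∨ ∀ p : ℕ, p.Prime → p ∈ π := by
  by_contra hc
  push Not at hc
  obtain ⟨⟨p, q, hp, hq, hpπ, hqπ, hne⟩, r, hr, hrπ⟩ := hc
  by_cases h2 : 2 ∈ π
  · obtain ⟨s, hs, hs2, hsπ⟩ : ∃ s, s.Prime ∧ s ≠ 2 ∧ s ∈ π := by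
      rcases eq_or_ne p 2 with rfl | hp2
      · exact ⟨q, hq, hne.symm, hqπ⟩
      · exact ⟨p, hp, hp2, hpπ⟩
    obtain ⟨n, hn⟩ := Cfsg.Agent.GenA.HallFail.exists_no_hall_two h2 hs hs2 hsπ hr hrπ
    exact hn (h _)
  · rcases lt_or_gt_of_ne hne with hlt | hlt
    · obtain ⟨ℓ, hℓ, hn⟩ := Cfsg.Agent.GenA.HallFail.exists_no_hall_odd h2 hq hp hqπ hpπ hlt
      haveI : Fact ℓ.Prime := ⟨hℓ⟩
      exact hn (h _)
    · obtain ⟨ℓ, hℓ, hn⟩ := Cfsg.Agent.GenA.HallFail.exists_no_hall_odd h2 hp hq hpπ hqπ hlt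
      haveI : Fact ℓ.Prime := ⟨hℓ⟩
      exact hn (h _)

end


/-- For a set of primes π the following are equivalent: every finite group has a Hall π-subgroup; in every finite group the maximal π-subgroups are pairwise conjugate; π contains at most one prime or contains every prime. -/
theorem result (π : Set ℕ) :
    ((∀ (G : Type) [Group G] [Finite G], Cfsg.IsEPiGroup π G) ↔
      ((∀ p q : ℕ, p.Prime → q.Prime → p ∈ π → q ∈ π → p = q) ∨ ∀ p : ℕ, p.Prime → p ∈ π)) ∧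
    ((∀ (G : Type) [Group G] [Finite G], Cfsg.IsDPiGroup π G) ↔
      ((∀ p q : ℕ, p.Prime → q.Prime → p ∈ π → q ∈ π → p = q) ∨ ∀ p : ℕ, p.Prime → p ∈ π)) := by
  exact ⟨⟨small_of_e, fun hc G _ _ => e_of_d (d_of_small hc G)⟩,
    ⟨fun h => small_of_e fun G _ _ => e_of_d (h G), fun hc G _ _ => d_of_small hc G⟩⟩

end Cfsg.Agent.S3878
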