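import Cfsg.Statements.S3881
import Mathlib
import Cfsg.Agent.GenA.Metacyclic.Lattice

set_option autoImplicit false
open Cfsg
open scoped commutatorElement

namespace Cfsg.Agent.S3881

/-- Let p be an odd prime and G a finite metacyclic p-group (G has a cyclic normal subgroup with cyclic quotient). Suppose G is non-abelian with |G'| = p^n. Then for 1 ≤ i ≤ n the number of elements of G whose conjugacy class has exactly p^i elements is |Z(G)| · (p^(2i) − p^(2i−2)). -/
theorem result {G : Type*} [Group G] [Finite G] {p : ℕ} [Fact p.Prime] (hp : p ≠ 2) (hG : IsPGroup p G) (hmc : Cfsg.IsMetacyclic G) (n : ℕ) (hn : n ≠ 0) (hGn : Nat.card ↥(commutator G) = p ^ n) (i : ℕ) (hi : 1 ≤ i) (hin : i ≤ n) :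
    Nat.card {g : G // (Subgroup.centralizer ({g} : Set G)).index = p ^ i} =
      Nat.card ↥(Subgroup.center G) * (p ^ (2 * i) - p ^ (2 * i - 2)) := by
  obtain ⟨m, ⟨D⟩⟩ := Cfsg.Agent.GenA.Metacyclic.exists_coord hp hG hmc
  obtain rfl : m = n := Nat.pow_right_injective (Fact.out : p.Prime).two_le (D.card_commutator.symm.trans hGn)
  have hp0 : 0 < p := (Fact.out : p.Prime).pos
  set A := D.pre (Cfsg.Agent.GenA.Metacyclic.box (m - i)) with hA
  set B := D.pre (Cfsg.Agent.GenA.Metacyclic.box (m - (i - 1))) with hB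
  have hiff : ∀ g : G, (Subgroup.centralizer ({g} : Set G)).index = p ^ i ↔ g ∈ A ∧ g ∉ B := by
    intro g
    rw [D.index_centralizer, hA, hB, D.mem_pre, D.mem_pre, ← Cfsg.Agent.GenA.Metacyclic.addOrderOf_le_iff hin,
      ← Cfsg.Agent.GenA.Metacyclic.addOrderOf_le_iff (by omega : i - 1 ≤ m)]
    constructor
    · intro h
      rw [h]
      exact ⟨le_rfl, not_le.mpr (Nat.pow_lt_pow_right (Fact.out : p.Prime).one_lt (by omega))⟩
    · rintro ⟨h1, h2⟩
      have hd : addOrderOf (D.π g) ∣ p ^ m := addOrderOf_dvd_of_nsmul_eq_zero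
        ((Cfsg.Agent.GenA.Metacyclic.nsmul_eq_zero_iff le_rfl _).mpr (by rw [Nat.sub_self]; exact ⟨by simp, by simp⟩))
      obtain ⟨t, -, ht⟩ := (Nat.dvd_prime_pow Fact.out).mp hd
      rw [ht] at h1 h2 ⊢
      rw [Nat.pow_le_pow_iff_right (Fact.out : p.Prime).one_lt] at h1 h2
      congr 1; omega
  rw [Nat.card_congr (Equiv.subtypeEquivRight hiff)]
  have hBA : B ≤ A := fun g hg => ⟨(pow_dvd_pow _ (by omega)).trans hg.1, (pow_dvd_pow _ (by omega)).trans hg.2⟩
  have h : Nat.card {g : G // g ∈ A ∧ g ∉ B} + Nat.card B = Nat.card A := by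
    have e1 := Set.ncard_sdiff_add_ncard_of_subset (s := (B : Set G)) (t := (A : Set G)) hBA (Set.toFinite _)
    exact e1
  have e2 : Nat.card A = Nat.card (Subgroup.center G) * (p ^ i * p ^ i) := by
    rw [hA, D.card_pre, Cfsg.Agent.GenA.Metacyclic.card_box (Nat.sub_le m i), Nat.sub_sub_self hin]
  have e3 : Nat.card B = Nat.card (Subgroup.center G) * (p ^ (i - 1) * p ^ (i - 1)) := by
    rw [hB, D.card_pre, Cfsg.Agent.GenA.Metacyclic.card_box (Nat.sub_le m _), Nat.sub_sub_self (by omega : i - 1 ≤ m)]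
  rw [e2, e3] at h
  rw [Nat.mul_sub, show 2 * i - 2 = (i - 1) + (i - 1) by omega, show 2 * i = i + i by omega, pow_add, pow_add]
  exact Nat.eq_sub_of_add_eq h

end Cfsg.Agent.S3881
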