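import Cfsg.Statements.S3883
import Mathlib
import Cfsg.Agent.GenA.Metacyclic.Lattice

set_option autoImplicit false
open Cfsg
open scoped commutatorElement

namespace Cfsg.Agent.S3883

/-- Let p be an odd prime and G a finite metacyclic p-group (G has a cyclic normal subgroup with cyclic quotient). Suppose G is non-abelian. Then an element g of G lies outside the Frattini subgroup if and only if its centralizer C_G(g) is abelian. -/
theorem result {G : Type*} [Group G] [Finite G] {p : ℕ} [Fact p.Prime] (hp : p ≠ 2) (hG : IsPGroup p G) (hmc : Cfsg.IsMetacyclic G) (hna : ¬ IsMulCommutative G) (g : G) :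
    g ∉ frattini G ↔ IsMulCommutative ↥(Subgroup.centralizer ({g} : Set G)) := by
  obtain ⟨n, ⟨D⟩⟩ := Cfsg.Agent.GenA.Metacyclic.exists_coord hp hG hmc
  haveI : NeZero (p ^ n) := ⟨pow_ne_zero n (Fact.out : p.Prime).ne_zero⟩
  have hn : 1 ≤ n := by
    by_contra hc
    obtain rfl : n = 0 := by omega
    refine hna ?_
    have : Subgroup.center G = ⊤ := Subgroup.index_eq_one.mp (by simpa using D.index_center)
    exact ⟨⟨fun a b => Subgroup.mem_center_iff.mp (this.symm ▸ Subgroup.mem_top b) a⟩⟩
  have hZ : Subgroup.center G ≤ Subgroup.centralizer ({g} : Set G) := fun z hz =>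
    Subgroup.mem_centralizer_iff.mpr fun y _ => Subgroup.mem_center_iff.mp hz y
  rw [(D.maximal_commutative_iff hG _).1, D.index_commutator, D.frattini_eq hG hn, D.mem_pre,
    show (1 : ℕ) = n - (n - 1) by omega, ← Cfsg.Agent.GenA.Metacyclic.addOrderOf_le_iff (by omega : n - 1 ≤ n),
    ← D.index_centralizer]
  have h := Subgroup.card_mul_index (Subgroup.centralizer ({g} : Set G))
  rw [D.card_group] at h
  set C := Nat.card (Subgroup.centralizer ({g} : Set G))
  set I := (Subgroup.centralizer ({g} : Set G)).index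
  set Z := Nat.card (Subgroup.center G)
  have hC : 0 < C := Nat.card_pos
  have hq : p ^ n = p ^ (n - 1) * p := by rw [← pow_succ, Nat.sub_add_cancel hn]
  constructor
  · intro hlt
    by_contra hc
    rw [not_le] at hc
    -- then the class is smaller than `p ^ n`
    have hI : I < p ^ n := by
      by_contra h'
      rw [not_lt] at h'
      have := Nat.mul_lt_mul_of_lt_of_le hc h' (lt_of_lt_of_le (pow_pos (Fact.out : p.Prime).pos n) h')
      rw [h, mul_assoc] at this
      exact lt_irrefl _ this
    have hd : I ∣ p ^ n := by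
      rw [show I = addOrderOf (D.π g) from D.index_centralizer g]
      exact addOrderOf_dvd_of_nsmul_eq_zero ((Cfsg.Agent.GenA.Metacyclic.nsmul_eq_zero_iff le_rfl _).mpr
        (by rw [Nat.sub_self]; exact ⟨by simp, by simp⟩))
    obtain ⟨t, -, ht⟩ := (Nat.dvd_prime_pow Fact.out).mp hd
    rw [ht] at hI hlt
    exact hlt (Nat.pow_le_pow_right (Fact.out : p.Prime).pos (by
      have := (Nat.pow_lt_pow_iff_right (Fact.out : p.Prime).one_lt).mp hI; omega))
  · intro hle hI
    have h1 : Z * (p ^ n * p ^ n) ≤ Z * p ^ n * p ^ (n - 1) := h ▸ Nat.mul_le_mul hle hI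
    rw [← mul_assoc] at h1
    have h2 := Nat.le_of_mul_le_mul_left h1 (Nat.mul_pos Nat.card_pos (pow_pos (Fact.out : p.Prime).pos n))
    have h3 := (Nat.pow_le_pow_iff_right (Fact.out : p.Prime).one_lt).mp h2
    omega

end Cfsg.Agent.S3883
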