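import Cfsg.Statements.S3887
import Mathlib
import Cfsg.Agent.GenA.Metacyclic.Lattice

set_option autoImplicit false
open Cfsg
open scoped commutatorElement

namespace Cfsg.Agent.S3887

/-- Let p be an odd prime and G a finite metacyclic p-group (G has a cyclic normal subgroup with cyclic quotient). Then a subgroup R of G maximizes |R| · |C_G(R)| over all subgroups of G if and only if R contains the center of G. -/
theorem result {G : Type*} [Group G] [Finite G] {p : ℕ} [Fact p.Prime] (hp : p ≠ 2) (hG : IsPGroup p G) (hmc : Cfsg.IsMetacyclic G) (R : Subgroup G) : Cfsg.IsCentralizerLarge R ↔ Subgroup.center G ≤ R := by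
  obtain ⟨n, ⟨D⟩⟩ := Cfsg.Agent.GenA.Metacyclic.exists_coord hp hG hmc
  have hle : ∀ R : Subgroup G, Nat.card R * Nat.card (Subgroup.centralizer (R : Set G)) ≤
      Nat.card (Subgroup.center G) * Nat.card G := fun R => by
    rw [D.card_mul_centralizer]; exact Nat.mul_le_mul_right _ (Subgroup.card_le_of_le inf_le_right)
  have hmax : Cfsg.maxCentralizerProduct G = Nat.card (Subgroup.center G) * Nat.card G := by
    refine IsGreatest.csSup_eq ⟨⟨Subgroup.center G, ?_⟩, ?_⟩
    · rw [D.card_mul_centralizer, inf_idem]
    · rintro k ⟨R, rfl⟩; exact hle R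
  unfold Cfsg.IsCentralizerLarge
  rw [hmax, D.card_mul_centralizer]
  constructor
  · intro h
    have h1 := Nat.eq_of_mul_eq_mul_right Nat.card_pos h
    have h2 : R ⊓ Subgroup.center G = Subgroup.center G := Subgroup.eq_of_le_of_card_ge inf_le_right h1.ge
    exact h2 ▸ inf_le_left
  · intro h; rw [inf_eq_right.mpr h]

end Cfsg.Agent.S3887
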