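import Cfsg.Statements.S3888
import Cfsg.Agent.GenA.RankTwo.SmallOmega
import Cfsg.Agent.GenA.RankTwo.LargeOmega

set_option autoImplicit false
open Cfsg

namespace Cfsg.Agent.S3888

/-- The classification of the p-groups of rank at most two for odd p. Let p be an odd prime and G a group of order p^n with no elementary abelian subgroup of order p³. Then one of the following holds: G is metacyclic; n ≥ 3 and G is generated by elements x, y, z with x^p = y^p = z^(p^(n−2)) = 1, z commuting with x and y, and x⁻¹yx = y z^(p^(n−3)); n ≥ 4 and G is generated by elements x, y, z with x^p = y^p = z^(p^(n−2)) = 1, yz = zy, x⁻¹yx = y z^(s p^(n−3)) and x⁻¹zx = yz, where s = 1 or s is a quadratic non-residue modulo p; or p = 3 and G has maximal class (nilpotency class n − 1). -/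
theorem result {G : Type*} [Group G] [Finite G] {p : ℕ} [Fact p.Prime] (hp : p ≠ 2) (n : ℕ) (hG : Nat.card G = p ^ n)
    (hrk : Cfsg.PRankLE p 2 G) :
    Cfsg.IsMetacyclic G ∨
    (3 ≤ n ∧ ∃ x y z : G, Subgroup.closure ({x, y, z} : Set G) = ⊤ ∧ x ^ p = 1 ∧ y ^ p = 1 ∧ z ^ p ^ (n - 2) = 1 ∧
        x * z = z * x ∧ y * z = z * y ∧ x⁻¹ * y * x = y * z ^ p ^ (n - 3)) ∨
    (4 ≤ n ∧ ∃ (s : ℕ) (x y z : G), (s = 1 ∨ ¬ IsSquare (s : ZMod p)) ∧ Subgroup.closure ({x, y, z} : Set G) = ⊤ ∧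
        x ^ p = 1 ∧ y ^ p = 1 ∧ z ^ p ^ (n - 2) = 1 ∧ y * z = z * y ∧ x⁻¹ * y * x = y * z ^ (s * p ^ (n - 3)) ∧
        x⁻¹ * z * x = y * z) ∨
    (p = 3 ∧ 2 ≤ n ∧ (⊤ : Subgroup G).lowerCentralSeries (n - 2) ≠ ⊥) := by
  have hP : IsPGroup p G := IsPGroup.of_card hG
  by_cases hΩ : Nat.card (Subgroup.closure {x : G | x ^ p = 1}) ≤ p ^ 2
  · rcases Cfsg.Agent.GenA.RankTwo.small_omega hp n hG hΩ with h | h
    · exact Or.inl h
    · exact Or.inr (Or.inr (Or.inr h))
  right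
  have hnc : ¬ IsCyclic G := fun h => hΩ (by
    set Ω := Subgroup.closure {x : G | x ^ p = 1}
    have hpow : ∀ w ∈ Ω, w ^ p = 1 := fun w hw => by
      induction hw using Subgroup.closure_induction with
      | mem x hx => exact hx
      | one => exact one_pow p
      | mul a b _ _ ha hb =>
        obtain ⟨g, hg⟩ := h.exists_generator
        obtain ⟨i, rfl⟩ := Subgroup.mem_zpowers_iff.mp (hg a)
        obtain ⟨j, rfl⟩ := Subgroup.mem_zpowers_iff.mp (hg b)
        rw [(Commute.zpow_zpow_self g i j).mul_pow, ha, hb, one_mul]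
      | inv a _ ha => rw [inv_pow, ha, inv_one]
    obtain ⟨g, hg⟩ := IsCyclic.exists_generator (α := Ω)
    rw [← orderOf_eq_card_of_forall_mem_zpowers hg]
    exact le_trans (Nat.le_of_dvd (Fact.out : p.Prime).pos (orderOf_dvd_iff_pow_eq_one.mpr
      (Subtype.ext (by simpa using hpow g g.2)))) (Nat.le_self_pow two_ne_zero p))
  obtain ⟨A, hAn, hA, hA2⟩ := Cfsg.Agent.S0126.result hp hP hnc
  obtain ⟨x, hx, hxA⟩ : ∃ x : G, x ^ p = 1 ∧ x ∉ A := by
    by_contra! h
    exact hΩ (hA2 ▸ Subgroup.card_le_of_le ((Subgroup.closure_le A).mpr h))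
  exact Cfsg.Agent.GenA.RankTwo.large_omega hp n hG hrk A hA hA2 x hx hxA

end Cfsg.Agent.S3888
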