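import Cfsg.Statements.S3889

set_option autoImplicit false
open Cfsg

namespace Cfsg.Agent.S3889

/-- A finite abelian group that is the union of a family of proper subgroups any two of which intersect trivially is elementary abelian: its exponent is a prime. -/
theorem result {G : Type*} [CommGroup G] [Finite G] (𝓑 : Set (Subgroup G)) (hprop : ∀ B ∈ 𝓑, B ≠ ⊤)
    (hcov : ∀ g : G, ∃ B ∈ 𝓑, g ∈ B) (hdisj : ∀ B ∈ 𝓑, ∀ C ∈ 𝓑, B ≠ C → B ⊓ C = ⊥) :
    (Monoid.exponent G).Prime := by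
  classical
  have hnt : ∃ g : G, g ≠ 1 := by
    by_contra hc
    push_neg at hc
    obtain ⟨B, hB, h1⟩ := hcov 1
    exact hprop B hB (eq_top_iff.mpr fun x _ => hc x ▸ h1)
  have huniq : ∀ g : G, g ≠ 1 → ∀ B ∈ 𝓑, ∀ C ∈ 𝓑, g ∈ B → g ∈ C → B = C := fun g hg B hB C hC h1 h2 =>
    by_contra fun hne => hg (by
      have : g ∈ B ⊓ C := ⟨h1, h2⟩
      rwa [hdisj B hB C hC hne, Subgroup.mem_bot] at this)
  have key : ∀ x y : G, x ≠ 1 → ∀ B ∈ 𝓑, x ∈ B → y ∉ B → ∀ k : ℕ, x ^ k = 1 → y ^ k = 1 := by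
    intro x y hx1 B hB hx hy k hk
    by_contra hne
    obtain ⟨D, hD, hyD⟩ := hcov y
    obtain ⟨C, hC, hxyC⟩ := hcov (x * y)
    have h1 : y ^ k ∈ C := by
      have := pow_mem hxyC k
      rwa [mul_pow, hk, one_mul] at this
    have hCD := huniq _ hne C hC D hD h1 (pow_mem hyD k)
    subst hCD
    have hxC : x ∈ C := (C.mul_mem_cancel_right hyD).mp hxyC
    exact hy (huniq x hx1 B hB C hC hx hxC ▸ hyD)
  obtain ⟨g, hg⟩ := hnt
  obtain ⟨q, hq, hqd⟩ := Nat.exists_prime_and_dvd (mt orderOf_eq_one_iff.mp hg)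
  set x := g ^ (orderOf g / q)
  have hxord : orderOf x = q := by
    rw [orderOf_pow_of_dvd (Nat.div_pos (Nat.le_of_dvd (orderOf_pos g) hqd) hq.pos).ne' (Nat.div_dvd_of_dvd hqd),
      Nat.div_div_self hqd (orderOf_pos g).ne']
  have hx1 : x ≠ 1 := fun h => hq.ne_one (by rw [← hxord, h, orderOf_one])
  have hxq : x ^ q = 1 := hxord ▸ pow_orderOf_eq_one x
  obtain ⟨B, hB, hxB⟩ := hcov x
  obtain ⟨z, hz⟩ : ∃ z, z ∉ B := by
    by_contra hc; push_neg at hc; exact hprop B hB (eq_top_iff.mpr fun x _ => hc x)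
  have hexp : ∀ y : G, y ^ q = 1 := by
    intro y
    by_cases hy : y ∈ B
    · have h1 : z ^ q = 1 := key x z hx1 B hB hxB hz q hxq
      have h2 : (y * z) ^ q = 1 := key x _ hx1 B hB hxB (fun h => hz ((B.mul_mem_cancel_left hy).mp h)) q hxq
      rwa [mul_pow, h1, mul_one] at h2
    · exact key x y hx1 B hB hxB hy q hxq
  rcases (Nat.dvd_prime hq).mp (Monoid.exponent_dvd_of_forall_pow_eq_one hexp) with h | h
  · exact absurd (by simpa [h] using Monoid.pow_exponent_eq_one g) hg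
  · exact h ▸ hq

end Cfsg.Agent.S3889
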