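import Cfsg.Statements.S3892
import Mathlib
import Cfsg.Agent.S3891

set_option autoImplicit false
set_option maxRecDepth 20000
set_option maxHeartbeats 1000000
open Cfsg
open scoped commutatorElement

namespace Cfsg.Agent.S3892
open Subgroup in
theorem contra {G : Type*} [Group G] [Finite G] (hZ : center G = ⊥)
    (h : ∃ 𝓐 : Finset (Subgroup G), ((∀ A ∈ 𝓐, A ≠ ⊤) ∧ (∀ g : G, ∃ A ∈ 𝓐, g ∈ A)) ∧ (∀ 𝓑 : Finset (Subgroup G), (∀ A ∈ 𝓑, A ≠ ⊤) ∧ (∀ g : G, ∃ A ∈ 𝓑, g ∈ A) → 𝓐.card ≤ 𝓑.card) ∧ (∀ A ∈ 𝓐, Group.IsNilpotent ↥A))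
    {p : ℕ} [hp : Fact p.Prime] (σ : G) (hσ : orderOf σ = p) (hsq : ¬ p ^ 2 ∣ Nat.card G)
    (M : Subgroup G) (hM : M ≠ ⊤) (hC : ∀ g : G, g * σ = σ * g → g ∈ M) (m : G) (hm : m ∈ M)
    (hmσ : ∀ i : ℕ, m * σ * m⁻¹ ≠ σ ^ i) : False := by
  classical
  obtain ⟨𝓐, h𝓐⟩ := h
  obtain ⟨P, hP⟩ : ∃ P : Sylow p G, (P : Subgroup G) = zpowers σ := by
    obtain ⟨P, hP⟩ := IsPGroup.exists_le_sylow (p := p)
      (IsPGroup.of_card (n := 1) (G := zpowers σ) (by rw [Nat.card_zpowers, hσ, pow_one]))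
    refine ⟨P, (eq_of_le_of_card_ge hP ?_).symm⟩
    obtain ⟨k, hk⟩ := P.2.exists_card_eq
    rw [Nat.card_zpowers, hσ, hk]
    rcases Nat.lt_or_ge k 2 with h | h
    · calc p ^ k ≤ p ^ 1 := Nat.pow_le_pow_right hp.out.pos (by omega)
        _ = p := pow_one p
    · exact absurd ((pow_dvd_pow p h).trans (hk ▸ card_subgroup_dvd_card _)) hsq
  have hcyc : IsCyclic (P : Subgroup G) := by rw [hP]; infer_instance
  have hmN : m ∉ normalizer ((P : Subgroup G) : Set G) := by
    intro hn
    rw [hP] at hn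
    obtain ⟨i, hi⟩ := mem_powers_iff_mem_zpowers.mpr ((mem_normalizer_iff.mp hn σ).mp (mem_zpowers σ))
    exact hmσ i hi.symm
  obtain ⟨-, -, huniq⟩ := Cfsg.Agent.S3891.result hZ 𝓐 h𝓐 P (Or.inl hcyc) (fun hn => hmN (by
    rw [normalizer_eq_top_iff.mpr hn]; exact mem_top m))
  obtain ⟨M', hM', hle⟩ := (eq_top_or_exists_le_coatom M).resolve_left hM
  have hCM : centralizer ((P : Subgroup G) : Set G) ≤ M' := fun g hg => hle (hC g (by
    have := mem_centralizer_iff.mp hg σ (hP ▸ mem_zpowers σ)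
    exact this.symm))
  exact hmN (huniq M' hM' hCM ▸ hle hm)

open Subgroup Equiv in
theorem large {G : Type*} [Group G] [Finite G] (n : ℕ) (hn : 6 ≤ n) (f : G →* Perm (Fin n))
    (hf : Function.Injective f) (hA : alternatingGroup (Fin n) ≤ f.range) (hcard : Nat.card G ∣ n.factorial)
    (hZ : center G = ⊥)
    (h : ∃ 𝓐 : Finset (Subgroup G), ((∀ A ∈ 𝓐, A ≠ ⊤) ∧ (∀ g : G, ∃ A ∈ 𝓐, g ∈ A)) ∧ (∀ 𝓑 : Finset (Subgroup G), (∀ A ∈ 𝓑, A ≠ ⊤) ∧ (∀ g : G, ∃ A ∈ 𝓑, g ∈ A) → 𝓐.card ≤ 𝓑.card) ∧ (∀ A ∈ 𝓐, Group.IsNilpotent ↥A)) : False := by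
  classical
  obtain ⟨q, hq, hq1, hq2⟩ := Nat.exists_prime_lt_and_le_two_mul (n / 2) (by omega)
  haveI := Fact.mk hq
  have hqn : q < n := by
    rcases Nat.lt_or_ge q n with h | h
    · exact h
    · have h1 : q = 2 * (n / 2) := by omega
      have := hq.even_iff.mp ⟨n / 2, by omega⟩
      omega
  have hq5 : 5 ≤ q := hq.five_le_of_ne_two_of_ne_three (by omega) (by omega)
  have hqodd : Odd q := hq.odd_of_ne_two (by omega)
  haveI : NeZero n := ⟨by omega⟩
  set e : Fin n := ⟨q - 1, by omega⟩ with he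
  set c := Fin.cycleRange e with hc
  have hct : c.cycleType = {q} := by
    rw [hc, Fin.cycleType_cycleRange (fun h0 => by
      have := congrArg Fin.val h0
      simp [he] at this
      omega)]
    simp [he, Nat.sub_add_cancel hq.one_le]
  have hco : orderOf c = q := by rw [← Perm.lcm_cycleType, hct]; simp
  have hcs : c ∈ alternatingGroup (Fin n) := by
    rw [Perm.mem_alternatingGroup, hc, Fin.sign_cycleRange]
    obtain ⟨k, hk⟩ := hqodd
    rw [show (e : ℕ) = 2 * k by simp [he, hk], pow_mul]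
    simp
  obtain ⟨σ, hσ⟩ := hA hcs
  have hlt : ∀ x : Fin n, (x : ℕ) + 1 < q → (c x : ℕ) = x + 1 := fun x hx => by
    rw [hc, Fin.coe_cycleRange_of_lt (show x < e by show (x : ℕ) < q - 1; omega)]
  have hfix : ∀ x : Fin n, q ≤ (x : ℕ) → c x = x := fun x hx => by
    rw [hc, Fin.cycleRange_of_gt (show e < x by show q - 1 < (x : ℕ); omega)]
  have hmove : ∀ x : Fin n, (x : ℕ) < q → c x ≠ x := fun x hx h => by
    rcases Nat.lt_or_ge ((x : ℕ) + 1) q with h1 | h1
    · have := hlt x h1; rw [h] at this; omega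
    · have h2 : x = e := Fin.ext (by show (x : ℕ) = q - 1; omega)
      rw [h2, hc, Fin.cycleRange_self] at h
      have := congrArg Fin.val h
      simp [he] at this
      omega
  let S : Subgroup (Perm (Fin n)) :=
    { carrier := {g | ∀ x : Fin n, (x : ℕ) < q ↔ (g x : ℕ) < q}
      one_mem' := fun x => Iff.rfl
      mul_mem' := fun {a b} ha hb x => (hb x).trans (ha (b x))
      inv_mem' := fun {a} ha x => by simpa using (ha (a⁻¹ x)).symm }
  -- the elements
  let i0 : Fin n := ⟨0, by omega⟩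
  let i1 : Fin n := ⟨1, by omega⟩
  let i2 : Fin n := ⟨2, by omega⟩
  let iq : Fin n := ⟨q, hqn⟩
  have h01 : i0 ≠ i1 := fun h => by simp [i0, i1] at h
  have h12 : i1 ≠ i2 := fun h => by simp [i1, i2] at h
  have h02 : i0 ≠ i2 := fun h => by simp [i0, i2] at h
  have hτA : swap i0 i1 * swap i1 i2 ∈ alternatingGroup (Fin n) := by
    rw [Perm.mem_alternatingGroup, map_mul, Perm.sign_swap h01, Perm.sign_swap h12]; rfl
  obtain ⟨τ, hτ⟩ := hA hτA
  have h0q : i0 ≠ iq := fun h => by simp [i0, iq] at h; omega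
  have hεA : swap i0 iq * swap i1 i2 ∈ alternatingGroup (Fin n) := by
    rw [Perm.mem_alternatingGroup, map_mul, Perm.sign_swap h0q, Perm.sign_swap h12]; rfl
  obtain ⟨ε, hε⟩ := hA hεA
  refine contra hZ h σ (p := q) (by rw [← orderOf_injective f hf, hσ, hco]) (fun hd => ?_)
    (S.comap f) ?_ ?_ τ ?_ ?_
  · have h1 := hd.trans hcard
    rw [Nat.Prime.pow_dvd_factorial_iff hq (b := 2) (Nat.log_lt_of_lt_pow (by omega) (by rw [pow_two]; calc n < 2 * q := by omega
                                                                                              _ ≤ q * q := Nat.mul_le_mul_right q (by omega)))] at h1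
    simp only [Finset.sum_Ico_succ_top le_rfl, Finset.Ico_self, Finset.sum_empty, zero_add, pow_one] at h1
    have : n / q < 2 := (Nat.div_lt_iff_lt_mul hq.pos).mpr (by omega)
    omega
  · intro htop
    have h1 : f ε ∈ S := show ε ∈ S.comap f from htop ▸ mem_top _
    rw [hε] at h1
    have h2 := (h1 i0).mp (show (i0 : ℕ) < q from hq.pos)
    rw [Perm.mul_apply, swap_apply_of_ne_of_ne h01 h02, swap_apply_left] at h2
    exact absurd h2 (lt_irrefl q)
  · intro g hg
    have hg' : f g * c = c * f g := by rw [← hσ, ← map_mul, ← map_mul, hg]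
    intro x
    have hx : f g (c x) = c (f g x) := Perm.ext_iff.mp hg' x
    constructor
    · intro h1
      by_contra h2
      rw [hfix _ (Nat.le_of_not_lt h2)] at hx
      exact hmove x h1 ((f g).injective hx)
    · intro h1
      by_contra h2
      rw [hfix _ (Nat.le_of_not_lt h2)] at hx
      exact hmove _ h1 hx.symm
  · show f τ ∈ S
    rw [hτ]
    intro x
    have hmem : ∀ a b : Fin n, (a : ℕ) < q → (b : ℕ) < q → ∀ y : Fin n, ((y : ℕ) < q ↔ (swap a b y : ℕ) < q) := by
      intro a b ha hb y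
      rw [swap_apply_def]
      split_ifs with h1 h2
      · subst h1; exact ⟨fun _ => hb, fun _ => ha⟩
      · subst h2; exact ⟨fun _ => ha, fun _ => hb⟩
      · exact Iff.rfl
    rw [Perm.mul_apply]
    exact (hmem i1 i2 (by show 1 < q; omega) (by show 2 < q; omega) x).trans
      (hmem i0 i1 hq.pos (by show 1 < q; omega) _)
  · intro i hi
    have hi' : swap i0 i1 * swap i1 i2 * c = c ^ i * (swap i0 i1 * swap i1 i2) := by
      rw [← hσ, ← hτ, ← map_pow, ← map_mul, ← map_mul]
      exact congrArg f (mul_inv_eq_iff_eq_mul.mp hi)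
    have hτ0 : (swap i0 i1 * swap i1 i2) i0 = i1 := by
      rw [Perm.mul_apply, swap_apply_of_ne_of_ne h01 h02, swap_apply_left]
    have hτ1 : (swap i0 i1 * swap i1 i2) i1 = i2 := by
      rw [Perm.mul_apply, swap_apply_left, swap_apply_of_ne_of_ne h02.symm h12.symm]
    have hτ2 : (swap i0 i1 * swap i1 i2) i2 = i0 := by
      rw [Perm.mul_apply, swap_apply_right, swap_apply_right]
    have hc0 : c i0 = i1 := Fin.ext (by rw [hlt i0 (by show 0 + 1 < q; omega)])
    have hc1 : c i1 = i2 := Fin.ext (by rw [hlt i1 (by show 1 + 1 < q; omega)])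
    -- `c ^ i` agrees with `c` at `i1`, hence everywhere on the cycle
    have e0 : (c ^ i) i1 = i2 := by
      have h1 := Perm.ext_iff.mp hi' i0
      simp only [Perm.mul_apply] at h1
      rw [hc0] at h1
      simp only [Perm.mul_apply] at hτ0 hτ1
      rw [hτ1, hτ0] at h1
      exact h1.symm
    have e1 : (c ^ i) i2 = i0 := by
      have h1 := Perm.ext_iff.mp hi' i1
      simp only [Perm.mul_apply] at h1
      rw [hc1] at h1
      simp only [Perm.mul_apply] at hτ2 hτ1
      rw [hτ2, hτ1] at h1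
      exact h1.symm
    rw [← hc1, ← Perm.mul_apply, ← pow_succ, pow_succ', Perm.mul_apply, e0] at e1
    have h3 := hlt i2 (by show 2 + 1 < q; omega)
    rw [e1] at h3
    exact absurd h3 (by simp [i0, i2])
open Equiv in
theorem center_perm_eq_bot (n : ℕ) (hn : 3 ≤ n) : Subgroup.center (Perm (Fin n)) = ⊥ := by
  classical
  refine eq_bot_iff.mpr fun g hg => ?_
  rw [Subgroup.mem_bot]
  by_contra hg1
  obtain ⟨x, hx⟩ : ∃ x, g x ≠ x := by
    by_contra h
    push Not at h
    exact hg1 (Equiv.ext h)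
  obtain ⟨z, hz, hz'⟩ : ∃ z : Fin n, z ≠ x ∧ z ≠ g x := by
    by_contra h
    push Not at h
    have h1 : (Finset.univ : Finset (Fin n)) ⊆ {x, g x} := fun z _ => by
      by_cases hzx : z = x
      · simp [hzx]
      · simp [h z hzx]
    have h2 := Finset.card_le_card h1
    rw [Finset.card_univ, Fintype.card_fin] at h2
    have h3 : ({x, g x} : Finset (Fin n)).card ≤ 2 := Finset.card_le_two
    omega
  have h := Perm.ext_iff.mp (Subgroup.mem_center_iff.mp hg (swap (g x) z)) x
  rw [Perm.mul_apply, Perm.mul_apply, swap_apply_left, swap_apply_of_ne_of_ne (Ne.symm hx) hz.symm] at h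
  exact hz' h


/-- A cover of a group is a finite set of proper subgroups whose union is the whole group; it is minimal when no cover has fewer members, and nilpotent when all its members are nilpotent. The alternating groups of degree at least 5 and the symmetric groups of degree at least 4 have no nilpotent minimal cover. -/
theorem result (n : ℕ) :
    (5 ≤ n → ¬ ∃ 𝓐 : Finset (Subgroup ↥(alternatingGroup (Fin n))), ((∀ A ∈ 𝓐, A ≠ ⊤) ∧ (∀ g : ↥(alternatingGroup (Fin n)), ∃ A ∈ 𝓐, g ∈ A)) ∧ (∀ 𝓑 : Finset (Subgroup ↥(alternatingGroup (Fin n))), (∀ A ∈ 𝓑, A ≠ ⊤) ∧ (∀ g : ↥(alternatingGroup (Fin n)), ∃ A ∈ 𝓑, g ∈ A) → 𝓐.card ≤ 𝓑.card) ∧ (∀ A ∈ 𝓐, Group.IsNilpotent ↥A)) ∧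
    (4 ≤ n → ¬ ∃ 𝓐 : Finset (Subgroup (Equiv.Perm (Fin n))), ((∀ A ∈ 𝓐, A ≠ ⊤) ∧ (∀ g : (Equiv.Perm (Fin n)), ∃ A ∈ 𝓐, g ∈ A)) ∧ (∀ 𝓑 : Finset (Subgroup (Equiv.Perm (Fin n))), (∀ A ∈ 𝓑, A ≠ ⊤) ∧ (∀ g : (Equiv.Perm (Fin n)), ∃ A ∈ 𝓑, g ∈ A) → 𝓐.card ≤ 𝓑.card) ∧ (∀ A ∈ 𝓐, Group.IsNilpotent ↥A)) := by
  refine ⟨fun hn h => ?_, fun hn h => ?_⟩
  · rcases Nat.lt_or_ge n 6 with h6 | h6
    · obtain rfl : n = 5 := by omega
      haveI := Fact.mk Nat.prime_three
      let σ : ↥(alternatingGroup (Fin 5)) := ⟨Equiv.swap 0 1 * Equiv.swap 1 2, Equiv.Perm.mem_alternatingGroup.mpr (by decide)⟩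
      refine contra (alternatingGroup.center_eq_bot (by simp)) h σ (p := 3)
        (orderOf_eq_prime (by decide) (by decide)) ?_
        ((MulAction.stabilizer (Equiv.Perm (Fin 5)) (4 : Fin 5)).subgroupOf _) ?_ ?_
        ⟨Equiv.swap 0 1 * Equiv.swap 2 3, Equiv.Perm.mem_alternatingGroup.mpr (by decide)⟩ ?_ ?_
      · rw [Nat.card_eq_fintype_card]; decide
      · intro htop
        have h1 : (⟨Equiv.swap 0 4 * Equiv.swap 1 2, Equiv.Perm.mem_alternatingGroup.mpr (by decide)⟩ : ↥(alternatingGroup (Fin 5))) ∈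
            (MulAction.stabilizer (Equiv.Perm (Fin 5)) (4 : Fin 5)).subgroupOf (alternatingGroup (Fin 5)) :=
          htop ▸ Subgroup.mem_top _
        exact absurd (show (Equiv.swap (0 : Fin 5) 4 * Equiv.swap 1 2 : Equiv.Perm (Fin 5)) 4 = 4 from h1) (by decide)
      · rintro ⟨g, hg⟩ hgσ
        have key : ∀ g : Equiv.Perm (Fin 5), Equiv.Perm.sign g = 1 →
            g * (Equiv.swap 0 1 * Equiv.swap 1 2) = (Equiv.swap 0 1 * Equiv.swap 1 2) * g → g 4 = 4 := by decide
        exact key g (Equiv.Perm.mem_alternatingGroup.mp hg) (congrArg Subtype.val hgσ)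
      · show (Equiv.swap (0 : Fin 5) 1 * Equiv.swap 2 3 : Equiv.Perm (Fin 5)) 4 = 4
        decide
      · intro i hi
        rw [pow_eq_pow_mod i (show σ ^ 3 = 1 by decide)] at hi
        have : i % 3 < 3 := Nat.mod_lt _ (by norm_num)
        interval_cases i % 3 <;> exact absurd hi (by decide)
    · exact large n h6 (alternatingGroup (Fin n)).subtype Subtype.val_injective
        (by rw [Subgroup.range_subtype]) (by
          have h1 := Subgroup.card_subgroup_dvd_card (alternatingGroup (Fin n))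
          rwa [Nat.card_perm, Nat.card_fin] at h1)
        (alternatingGroup.center_eq_bot (by simp; omega)) h
  · have hZ : Subgroup.center (Equiv.Perm (Fin n)) = ⊥ := center_perm_eq_bot n (by omega)
    rcases Nat.lt_or_ge n 6 with h6 | h6
    · interval_cases n
      · haveI := Fact.mk Nat.prime_three
        let σ : Equiv.Perm (Fin 4) := Equiv.swap 0 1 * Equiv.swap 1 2
        refine contra hZ h σ (p := 3) (orderOf_eq_prime (by decide) (by decide)) ?_ (alternatingGroup (Fin 4)) ?_ ?_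
          (Equiv.swap 0 1 * Equiv.swap 2 3) (Equiv.Perm.mem_alternatingGroup.mpr (by decide)) ?_
        · rw [Nat.card_eq_fintype_card]; decide
        · intro htop
          exact absurd (Equiv.Perm.mem_alternatingGroup.mp (htop ▸ Subgroup.mem_top (Equiv.swap (0 : Fin 4) 1))) (by decide)
        · intro g hg
          have key : ∀ g : Equiv.Perm (Fin 4), g * (Equiv.swap 0 1 * Equiv.swap 1 2) = (Equiv.swap 0 1 * Equiv.swap 1 2) * g →
              Equiv.Perm.sign g = 1 := by decide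
          exact Equiv.Perm.mem_alternatingGroup.mpr (key g hg)
        · intro i hi
          rw [pow_eq_pow_mod i (show σ ^ 3 = 1 by decide)] at hi
          have : i % 3 < 3 := Nat.mod_lt _ (by norm_num)
          interval_cases i % 3 <;> exact absurd hi (by decide)
      · haveI := Fact.mk (show Nat.Prime 5 by norm_num)
        let σ : Equiv.Perm (Fin 5) := finRotate 5
        refine contra hZ h σ (p := 5) (orderOf_eq_prime (by decide) (by decide)) ?_ (alternatingGroup (Fin 5)) ?_ ?_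
          (Equiv.swap 0 1 * Equiv.swap 1 2) (Equiv.Perm.mem_alternatingGroup.mpr (by decide)) ?_
        · rw [Nat.card_eq_fintype_card]; decide
        · intro htop
          exact absurd (Equiv.Perm.mem_alternatingGroup.mp (htop ▸ Subgroup.mem_top (Equiv.swap (0 : Fin 5) 1))) (by decide)
        · intro g hg
          have key : ∀ g : Equiv.Perm (Fin 5), g * finRotate 5 = finRotate 5 * g →
              Equiv.Perm.sign g = 1 := by decide
          exact Equiv.Perm.mem_alternatingGroup.mpr (key g hg)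
        · intro i hi
          rw [pow_eq_pow_mod i (show σ ^ 5 = 1 by decide)] at hi
          have : i % 5 < 5 := Nat.mod_lt _ (by norm_num)
          interval_cases i % 5 <;> exact absurd hi (by decide)
    · exact large n h6 (MonoidHom.id _) Function.injective_id (by intro x _; exact ⟨x, rfl⟩)
        (by rw [Nat.card_perm, Nat.card_fin]) hZ h

end Cfsg.Agent.S3892
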