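import Cfsg.Statements.S3897
import Mathlib
import Cfsg.Agent.Lib.PiClasses.Basic

set_option autoImplicit false
open Cfsg
open scoped commutatorElement

namespace Cfsg.Agent.S3897

/-- Let p be an odd prime and G a finite group with Sylow p-subgroup P, and write k_p(G) for the number of conjugacy classes of G consisting of p-elements (elements of p-power order, the identity included). Then k_p(G) > (p + 1)|P|/(2p) if and only if G has a normal p-complement and P is abelian. -/
theorem result {G : Type*} [Group G] [Finite G] {p : ℕ} [Fact p.Prime] (hp : p ≠ 2) (P : Sylow p G) :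
    (p + 1) * Nat.card ↥(P : Subgroup G) < 2 * p * Nat.card {c : ConjClasses G // ∀ x ∈ c.carrier, ∃ k : ℕ, orderOf x = p ^ k} ↔
      Cfsg.HasNormalPComplement p G ∧ IsMulCommutative ↥(P : Subgroup G) := by
  classical
  have hk : Nat.card {c : ConjClasses G // ∀ x ∈ c.carrier, ∃ k : ℕ, orderOf x = p ^ k} =
      PiClasses.k ({p} : Finset ℕ) G :=
    Nat.card_congr (Equiv.subtypeEquivRight fun c => forall₂_congr fun x _ =>
      (PiClasses.isPiElt_iff_pow Fact.out x).symm)
  rw [hk]
  constructor
  · intro h
    have hNC := PiClasses.normalizer_le_centralizer_of_lt P h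
    exact ⟨Transfer.NormalPComplement.hasNormalPComplement_of_normalizer_le_centralizer P hNC,
      PiClasses.sylow_commute_of_le_centralizer hNC⟩
  · rintro ⟨⟨P₀, N, hN, hNP⟩, hP⟩
    have hcomm := PiClasses.commutator_le_of_complement hNP P hP
    have hinj : Nat.card ↥(P : Subgroup G) ≤ PiClasses.k ({p} : Finset ℕ) G := by
      refine Nat.card_le_card_of_injective (fun x : ↥(P : Subgroup G) =>
        (⟨ConjClasses.mk (x : G), fun y hy => PiClasses.isPiElt_of_isConj
          (ConjClasses.mk_eq_mk_iff_isConj.1 (ConjClasses.mem_carrier_iff_mk_eq.1 hy)).symm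
          ((PiClasses.isPiElt_iff_pow Fact.out _).2 (by
            rw [Subgroup.orderOf_coe]; exact IsPGroup.iff_orderOf.1 P.2 x))⟩ :
          {c : ConjClasses G // ∀ y ∈ c.carrier, PiClasses.IsPiElt ({p} : Finset ℕ) y})) ?_
      intro x y hxy
      obtain ⟨g, hg⟩ := isConj_iff.1
        (ConjClasses.mk_eq_mk_iff_isConj.1 (congrArg Subtype.val hxy))
      have h1 : (y : G) * (x : G)⁻¹ ∈ N := by
        rw [← hg]
        refine hcomm ?_
        have e : g * (x : G) * g⁻¹ * (x : G)⁻¹ = ⁅g, (x : G)⁆ := (commutatorElement_def g (x : G)).symm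
        rw [e]
        exact Subgroup.commutator_mem_commutator (Subgroup.mem_top _) (Subgroup.mem_top _)
      have hdisj : (P : Subgroup G) ⊓ N = ⊥ := by
        refine Subgroup.inf_eq_bot_of_coprime ?_
        rw [← hNP.index_eq_card, P.card_eq_multiplicity]
        exact Nat.Coprime.pow_left _ ((Nat.Prime.coprime_iff_not_dvd Fact.out).2 P₀.not_dvd_index)
      have h2 : (y : G) * (x : G)⁻¹ ∈ (P : Subgroup G) ⊓ N :=
        ⟨(P : Subgroup G).mul_mem y.2 ((P : Subgroup G).inv_mem x.2), h1⟩
      rw [hdisj, Subgroup.mem_bot, mul_inv_eq_one] at h2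
      exact Subtype.ext h2.symm
    have hp2 : 2 ≤ p := (Fact.out : p.Prime).two_le
    have hpos : 0 < Nat.card ↥(P : Subgroup G) := Nat.card_pos
    nlinarith

end Cfsg.Agent.S3897
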