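import Cfsg.Statements.S3898
import Cfsg.Agent.Lib.Transfer.Frobenius
import Mathlib.GroupTheory.SchurZassenhaus

/-!
Many classes of π-elements (more than half of the π-part of the order, with 2 in π) force a normal
π-complement and an abelian Hall subgroup for the odd primes of π. The proof only counts fusion
in the Sylow subgroups for the single primes of π.
-/

set_option autoImplicit false
set_option linter.unusedSectionVars false

open Cfsg

namespace Cfsg.Agent.S3898

open Subgroup Cfsg.Agent.Transfer.NormalPComplement Cfsg.Agent.Transfer.Frobenius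

universe u

variable {G : Type u} [Group G]

/-- `x` is a π-element. -/
def IsPi (π : Finset ℕ) (x : G) : Prop := ∀ r : ℕ, r.Prime → r ∣ orderOf x → r ∈ π

theorem isPi_conj {π : Finset ℕ} {x y : G} (h : IsConj x y) (hx : IsPi π x) : IsPi π y := by
  obtain ⟨c, rfl⟩ := isConj_iff.mp h
  rw [IsPi, ← MulAut.conj_apply, MulEquiv.orderOf_eq]
  exact hx

/-- The classes of π-elements. -/
def piClasses (G : Type u) [Group G] (π : Finset ℕ) : Set (ConjClasses G) :=
  {c | ∃ x, ConjClasses.mk x = c ∧ IsPi π x}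

noncomputable def piPart (π : Finset ℕ) (n : ℕ) : ℕ := π.prod fun r => r ^ n.factorization r

theorem piPart_pos {π : Finset ℕ} (hπ : ∀ r ∈ π, r.Prime) (n : ℕ) : 0 < piPart π n :=
  Finset.prod_pos fun r hr => pow_pos (hπ r hr).pos _

theorem piPart_mono [Finite G] {π : Finset ℕ} (hπ : ∀ r ∈ π, r.Prime) (H : Subgroup G) :
    piPart π (Nat.card ↥H) ≤ piPart π (Nat.card G) := by
  refine Finset.prod_le_prod' fun r hr => Nat.pow_le_pow_right (hπ r hr).pos ?_
  exact (Nat.factorization_le_iff_dvd Nat.card_pos.ne' Nat.card_pos.ne').mpr H.card_subgroup_dvd_card r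

theorem exists_decomp [Finite G] (p : ℕ) (hp : p.Prime) (z : G) :
    ∃ x y : G, x * y = z ∧ x * y = y * x ∧ (∀ r : ℕ, r.Prime → r ∣ orderOf x → r = p) ∧
      (∀ r : ℕ, r.Prime → r ∣ orderOf y → r ∣ orderOf z ∧ r ≠ p) ∧ x ∈ zpowers z ∧ y ∈ zpowers z := by
  set q := p ^ (orderOf z).factorization p with hq
  set m := orderOf z / q with hm
  have hqm : q * m = orderOf z := Nat.ordProj_mul_ordCompl_eq_self _ p
  have hcop : Nat.Coprime m q := ((Nat.coprime_ordCompl hp (orderOf_pos z).ne').pow_left _).symm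
  have hb := Nat.gcd_eq_gcd_ab m q
  rw [hcop.gcd_eq_one] at hb
  refine ⟨z ^ ((m : ℤ) * Nat.gcdA m q), z ^ ((q : ℤ) * Nat.gcdB m q), ?_, ?_, ?_, ?_,
    zpow_mem (mem_zpowers z) _, zpow_mem (mem_zpowers z) _⟩
  · rw [← zpow_add, ← hb]; simp
  · exact (Commute.zpow_zpow_self z _ _).eq
  · intro r hr hd
    have h1 : orderOf (z ^ ((m : ℤ) * Nat.gcdA m q)) ∣ q := by
      refine orderOf_dvd_of_pow_eq_one ?_
      rw [← zpow_natCast, ← zpow_mul]
      refine orderOf_dvd_iff_zpow_eq_one.mp ?_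
      rw [← hqm]; push_cast; exact ⟨Nat.gcdA m q, by ring⟩
    exact (Nat.prime_dvd_prime_iff_eq hr hp).mp (hr.dvd_of_dvd_pow (hd.trans h1))
  · intro r hr hd
    have h1 : orderOf (z ^ ((q : ℤ) * Nat.gcdB m q)) ∣ m := by
      refine orderOf_dvd_of_pow_eq_one ?_
      rw [← zpow_natCast, ← zpow_mul]
      refine orderOf_dvd_iff_zpow_eq_one.mp ?_
      rw [← hqm]; push_cast; exact ⟨Nat.gcdB m q, by ring⟩
    refine ⟨(hd.trans h1).trans (Dvd.intro_left q hqm), ?_⟩
    rintro rfl
    exact Nat.not_dvd_ordCompl hp (orderOf_pos z).ne' (hd.trans h1)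

theorem card_piClasses_insert_le [Finite G] {π : Finset ℕ} {p : ℕ} (hp : p.Prime) (B : ℕ)
    (hB : ∀ H : Subgroup G, (piClasses ↥H π).ncard ≤ B) :
    (piClasses G (insert p π)).ncard ≤ (piClasses G {p}).ncard * B := by
  classical
  have : Fintype ↥(piClasses G {p}) := Fintype.ofFinite _
  choose rep hrep using fun c : ↥(piClasses G {p}) => c.2
  let C : ↥(piClasses G {p}) → Subgroup G := fun c => centralizer {rep c}
  let f : (Σ c : ↥(piClasses G {p}), ↥(piClasses ↥(C c) π)) → ConjClasses G :=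
    fun s => ConjClasses.mk (rep s.1 * (s.2.2.choose : G))
  have hsub : piClasses G (insert p π) ⊆ Set.range f := by
    rintro c ⟨z, rfl, hz⟩
    obtain ⟨x, y, hxy, hcom, hx, hy, -, -⟩ := exists_decomp p hp z
    have hxc : ConjClasses.mk x ∈ piClasses G {p} :=
      ⟨x, rfl, fun r hr hd => Finset.mem_singleton.mpr (hx r hr hd)⟩
    obtain ⟨g, hg⟩ := isConj_iff.mp
      (ConjClasses.mk_eq_mk_iff_isConj.mp (hrep ⟨_, hxc⟩).1.symm)
    have hmem : g * y * g⁻¹ ∈ C ⟨_, hxc⟩ := by
      rw [mem_centralizer_singleton_iff, ← hg]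
      calc g * y * g⁻¹ * (g * x * g⁻¹) = g * (y * x) * g⁻¹ := by group
        _ = g * (x * y) * g⁻¹ := by rw [hcom]
        _ = g * x * g⁻¹ * (g * y * g⁻¹) := by group
    have hyc : ConjClasses.mk (⟨_, hmem⟩ : ↥(C ⟨_, hxc⟩)) ∈ piClasses ↥(C ⟨_, hxc⟩) π := by
      refine ⟨_, rfl, fun r hr hd => ?_⟩
      have he : orderOf (g * y * g⁻¹) = orderOf y := by rw [← MulAut.conj_apply, MulEquiv.orderOf_eq]
      rw [← Subgroup.orderOf_coe] at hd
      change r ∣ orderOf (g * y * g⁻¹) at hd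
      rw [he] at hd
      obtain ⟨hd', hne⟩ := hy r hr hd
      exact Finset.mem_of_mem_insert_of_ne (hz r hr hd') hne
    refine ⟨⟨⟨_, hxc⟩, ⟨_, hyc⟩⟩, ?_⟩
    have hw : ConjClasses.mk hyc.choose = ConjClasses.mk (⟨_, hmem⟩ : ↥(C ⟨_, hxc⟩)) := hyc.choose_spec.1
    obtain ⟨k, hk⟩ := isConj_iff.mp (ConjClasses.mk_eq_mk_iff_isConj.mp hw.symm)
    have hk' : (k : G) * (g * y * g⁻¹) * (k : G)⁻¹ = (hyc.choose : G) := congrArg Subtype.val hk
    have hkc : (k : G) * rep ⟨_, hxc⟩ = rep ⟨_, hxc⟩ * k := mem_centralizer_singleton_iff.mp k.2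
    refine ConjClasses.mk_eq_mk_iff_isConj.mpr (IsConj.symm (isConj_iff.mpr ⟨(k : G) * g, ?_⟩))
    change (k : G) * g * z * ((k : G) * g)⁻¹ = rep ⟨_, hxc⟩ * (hyc.choose : G)
    rw [← hk', ← hxy]
    have hr : (k : G) * rep ⟨_, hxc⟩ * (k : G)⁻¹ = rep ⟨_, hxc⟩ := by rw [hkc, mul_inv_cancel_right]
    calc (k : G) * g * (x * y) * ((k : G) * g)⁻¹
        = ((k : G) * (g * x * g⁻¹) * (k : G)⁻¹) * ((k : G) * (g * y * g⁻¹) * (k : G)⁻¹) := by group
      _ = _ := by rw [hg, hr]
  calc (piClasses G (insert p π)).ncard ≤ (Set.range f).ncard := Set.ncard_le_ncard hsub (Set.toFinite _)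
    _ ≤ Nat.card (Σ c : ↥(piClasses G {p}), ↥(piClasses ↥(C c) π)) := by
        rw [← Nat.card_coe_set_eq]; exact Finite.card_range_le f
    _ ≤ (piClasses G {p}).ncard * B := by
        rw [Nat.card_sigma, ← Nat.card_coe_set_eq (piClasses G {p}), Nat.card_eq_fintype_card]
        refine (Finset.sum_le_card_nsmul _ _ B fun c _ => ?_).trans ?_
        · rw [Nat.card_coe_set_eq]; exact hB (C c)
        · rw [smul_eq_mul, Finset.card_univ]

theorem isPGroup_zpowers [Finite G] {p : ℕ} {x : G} (h : ∀ r : ℕ, r.Prime → r ∣ orderOf x → r = p) :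
    IsPGroup p (zpowers x) :=
  IsPGroup.of_card (n := (orderOf x).primeFactorsList.length) <| by
    rw [Nat.card_zpowers]
    exact Nat.eq_prime_pow_of_unique_prime_dvd (orderOf_pos x).ne' fun {d} hd hdd => h d hd hdd

/-- The number of classes of `G` meeting a subgroup. -/
noncomputable def meet (P : Subgroup G) : ℕ := (Set.range fun x : ↥P => ConjClasses.mk (x : G)).ncard

theorem card_piClasses_singleton_le [Finite G] {p : ℕ} [Fact p.Prime] (P : Sylow p G) :
    (piClasses G {p}).ncard ≤ meet (P : Subgroup G) := by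
  refine Set.ncard_le_ncard ?_ (Set.toFinite _)
  rintro c ⟨x, rfl, hx⟩
  have hxp : IsPGroup p (zpowers x) :=
    isPGroup_zpowers fun r hr hd => Finset.mem_singleton.mp (hx r hr hd)
  obtain ⟨Q, hQ⟩ := hxp.exists_le_sylow
  obtain ⟨g, hg⟩ := MulAction.exists_smul_eq G Q P
  have hm : g * x * g⁻¹ ∈ (P : Subgroup G) := by
    rw [← hg, Sylow.coe_subgroup_smul]
    exact ⟨x, hQ (mem_zpowers x), rfl⟩
  exact ⟨⟨_, hm⟩, ConjClasses.mk_eq_mk_iff_isConj.mpr (IsConj.symm (isConj_iff.mpr ⟨g, rfl⟩))⟩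

theorem meet_le_card [Finite G] (P : Subgroup G) : meet P ≤ Nat.card ↥P := by
  rw [meet, ← Nat.card_coe_set_eq]
  exact Finite.card_range_le _

theorem card_piClasses_le (π : Finset ℕ) (hπ : ∀ r ∈ π, r.Prime) :
    ∀ (G : Type u) [Group G] [Finite G], (piClasses G π).ncard ≤ piPart π (Nat.card G) := by
  classical
  induction π using Finset.induction_on with
  | empty =>
    intro G _ _
    have h : piClasses G ∅ ⊆ {ConjClasses.mk 1} := by
      rintro c ⟨x, rfl, hx⟩
      have : x = 1 := by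
        by_contra h
        obtain ⟨r, hr, hd⟩ := Nat.exists_prime_and_dvd (fun e => h (orderOf_eq_one_iff.mp e))
        exact absurd (hx r hr hd) (Finset.notMem_empty _)
      rw [this]; rfl
    simpa [piPart] using Set.ncard_le_ncard h (Set.toFinite _)
  | @insert p π hpπ ih =>
    intro G _ _
    have hp : p.Prime := hπ p (Finset.mem_insert_self _ _)
    have := Fact.mk hp
    have hπ' : ∀ r ∈ π, r.Prime := fun r hr => hπ r (Finset.mem_insert_of_mem hr)
    have P : Sylow p G := Classical.arbitrary _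
    refine (card_piClasses_insert_le hp (piPart π (Nat.card G)) fun H =>
      (ih hπ' ↥H).trans (piPart_mono hπ' H)).trans ?_
    rw [show piPart (insert p π) (Nat.card G) = _ * _ from Finset.prod_insert hpπ, ← P.card_eq_multiplicity]
    exact Nat.mul_le_mul_right _ ((card_piClasses_singleton_le P).trans (meet_le_card _))

/-- Fibre counting. -/
theorem count_range {α β : Type*} [Finite α] (f : α → β) (Z E : Set α) (n a b e : ℕ)
    (h : ∀ x : α, n + e * ({y | f y = f x} ∩ E).ncard ≤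
      a * {y | f y = f x}.ncard + b * ({y | f y = f x} ∩ Z).ncard) :
    n * (Set.range f).ncard + e * E.ncard ≤ a * Nat.card α + b * Z.ncard := by
  classical
  have : Fintype α := Fintype.ofFinite α
  set R := Finset.univ.image f with hR
  have hr : (Set.range f).ncard = R.card := by
    rw [← Set.ncard_coe_finset, hR, Finset.coe_image, Finset.coe_univ, Set.image_univ]
  have hfib : ∀ S : Set α, S.ncard = ∑ c ∈ R, ({y | f y = c} ∩ S).ncard := by
    intro S
    rw [Set.ncard_eq_toFinset_card' S, Finset.card_eq_sum_card_fiberwise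
      (f := f) (t := R) (fun x _ => Finset.mem_image_of_mem f (Finset.mem_univ x))]
    refine Finset.sum_congr rfl fun c _ => ?_
    rw [Set.ncard_eq_toFinset_card']
    congr 1
    ext y
    simp [and_comm]
  have h3 : Nat.card α = ∑ c ∈ R, {y | f y = c}.ncard := by
    rw [← Set.ncard_univ α, hfib Set.univ]
    simp
  rw [hr, hfib E, hfib Z, h3, Finset.mul_sum, Finset.mul_sum, Finset.mul_sum, ← Finset.sum_add_distrib,
    ← smul_eq_mul, smul_eq_mul, mul_comm n, ← smul_eq_mul, ← Finset.sum_const, ← Finset.sum_add_distrib]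
  refine Finset.sum_le_sum fun c hc => ?_
  obtain ⟨x, -, rfl⟩ := Finset.mem_image.mp hc
  exact h x

theorem pow_conj (g x : G) (n : ℕ) : (fun y => g * y * g⁻¹)^[n] x = g ^ n * x * (g ^ n)⁻¹ := by
  induction n with
  | zero => simp
  | succ n ih => rw [Function.iterate_succ_apply', ih, pow_succ']; group

theorem commute_of_pow {g x : G} {d : ℕ} (hd : d.Coprime (orderOf g)) (h : Commute (g ^ d) x) : Commute g x := by
  obtain ⟨m, hm⟩ := exists_pow_eq_self_of_coprime hd
  rw [← hm]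
  exact h.pow_left m

/-- An element moved by `g` has at least `n` translates. -/
theorem le_ncard_fibre [Finite G] {P : Subgroup G} {g x : G} (n : ℕ)
    (hn : ∀ d, 0 < d → d < n → d.Coprime (orderOf g)) (hP : ∀ i, g ^ i * x * (g ^ i)⁻¹ ∈ P)
    (hne : ¬ Commute g x) (x' : ↥P) (hx' : ConjClasses.mk (x' : G) = ConjClasses.mk x) :
    n ≤ {y : ↥P | ConjClasses.mk (y : G) = ConjClasses.mk (x' : G)}.ncard := by
  let φ : Fin n → {y : ↥P | ConjClasses.mk (y : G) = ConjClasses.mk (x' : G)} := fun i =>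
    ⟨⟨_, hP i⟩, by
      change ConjClasses.mk _ = _
      rw [hx', ConjClasses.mk_eq_mk_iff_isConj]
      exact (isConj_iff.mpr ⟨g ^ (i : ℕ), rfl⟩).symm⟩
  have hφ : Function.Injective φ := by
    have key : ∀ i j : Fin n, (i : ℕ) < j → φ i ≠ φ j := by
      intro i j hij he
      have he' : g ^ (i : ℕ) * x * (g ^ (i : ℕ))⁻¹ = g ^ (j : ℕ) * x * (g ^ (j : ℕ))⁻¹ :=
        congrArg (fun s : {y : ↥P | ConjClasses.mk (y : G) = ConjClasses.mk (x' : G)} => ((s.1 : ↥P) : G)) he
      refine hne (commute_of_pow (hn ((j : ℕ) - i) (by omega) (lt_of_le_of_lt (Nat.sub_le _ _) j.2)) ?_)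
      have hj : g ^ (j : ℕ) = g ^ (i : ℕ) * g ^ ((j : ℕ) - i) := by rw [← pow_add]; congr 1; omega
      rw [hj] at he'
      have : x = g ^ ((j : ℕ) - i) * x * (g ^ ((j : ℕ) - i))⁻¹ := by
        have := congrArg (fun t => (g ^ (i : ℕ))⁻¹ * t * g ^ (i : ℕ)) he'
        simpa [mul_assoc] using this
      exact (eq_mul_inv_iff_mul_eq.mp this).symm
    intro i j he
    rcases lt_trichotomy (i : ℕ) j with h | h | h
    · exact absurd he (key i j h)
    · exact Fin.ext h
    · exact absurd he.symm (key j i h)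
  have := Nat.card_le_card_of_injective φ hφ
  rwa [Nat.card_fin, Nat.card_coe_set_eq] at this

theorem conj_pow_mem {Q : Subgroup G} {g x : G} (hg : g ∈ normalizer (Q : Set G)) (hx : x ∈ Q) (i : ℕ) :
    g ^ i * x * (g ^ i)⁻¹ ∈ Q :=
  (mem_normalizer_iff.mp ((normalizer (Q : Set G)).pow_mem hg i) x).mp hx

/-- `Q ∩ C(g)` has index at least `q` in `Q`. -/
theorem mul_card_fix_le [Finite G] {p : ℕ} [Fact p.Prime] {Q : Subgroup G} (hQ : IsPGroup p Q) {g : G}
    (hgC : g ∉ centralizer (Q : Set G)) :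
    p * Nat.card ↥(Q ⊓ centralizer {g}) ≤ Nat.card ↥Q := by
  rw [← card_mul_index ((Q ⊓ centralizer {g}).subgroupOf Q), Nat.mul_comm p,
    Nat.card_congr (subgroupOfEquivOfLe inf_le_left).toEquiv]
  refine Nat.mul_le_mul_left _ ?_
  obtain ⟨k, hk⟩ := hQ.index ((Q ⊓ centralizer {g}).subgroupOf Q)
  rcases k with _ | k
  · rw [pow_zero, index_eq_one, subgroupOf_eq_top] at hk
    exact absurd (fun q hq => mem_centralizer_singleton_iff.mp (hk hq).2) hgC
  · rw [hk]; exact Nat.le_self_pow (Nat.succ_ne_zero k) p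

theorem four_card_fix_le [Finite G] {Q : Subgroup G} (hQ : IsPGroup 2 Q) {g : G}
    (hg : g ∈ normalizer (Q : Set G)) (hodd : (orderOf g).Coprime 2)
    (hgC : g ∉ centralizer (Q : Set G)) :
    4 * Nat.card ↥(Q ⊓ centralizer {g}) ≤ Nat.card ↥Q := by
  have := Fact.mk Nat.prime_two
  set F := (Q ⊓ centralizer {g}).subgroupOf Q with hF
  rw [← card_mul_index F, Nat.mul_comm 4, hF,
    Nat.card_congr (subgroupOfEquivOfLe inf_le_left).toEquiv, ← hF]
  refine Nat.mul_le_mul_left _ ?_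
  obtain ⟨k, hk⟩ := hQ.index F
  rcases k with _ | _ | k
  · rw [pow_zero, index_eq_one, hF, subgroupOf_eq_top] at hk
    exact absurd (fun q hq => mem_centralizer_singleton_iff.mp (hk hq).2) hgC
  · exfalso
    rw [zero_add, pow_one] at hk
    refine hgC fun q hq => ?_
    by_contra hne
    have hgq : g * q * g⁻¹ ∈ Q := by simpa using conj_pow_mem hg hq 1
    have h1 : (⟨q, hq⟩ : ↥Q) ∉ F := fun h => hne (mem_centralizer_singleton_iff.mp h.2)
    have h2 : (⟨_, hgq⟩ : ↥Q) ∉ F := fun h => hne <| by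
      have : g * q * g⁻¹ * g = g * (g * q * g⁻¹) := mem_centralizer_singleton_iff.mp h.2
      rw [inv_mul_cancel_right] at this
      exact eq_mul_inv_iff_mul_eq.mp (mul_left_cancel this)
    have hf : (⟨q, hq⟩⁻¹ * ⟨_, hgq⟩ : ↥Q) ∈ F := by
      rw [mul_mem_iff_of_index_two hk, inv_mem_iff]; exact iff_of_false h1 h2
    set f : G := q⁻¹ * (g * q * g⁻¹) with hfdef
    have hfg : Commute f g := mem_centralizer_singleton_iff.mp hf.2
    have hit : ∀ n : ℕ, g ^ n * q * (g ^ n)⁻¹ = q * f ^ n := by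
      intro n
      induction n with
      | zero => simp
      | succ n ih =>
        calc g ^ (n + 1) * q * (g ^ (n + 1))⁻¹ = g * (g ^ n * q * (g ^ n)⁻¹) * g⁻¹ := by rw [pow_succ']; group
          _ = g * (q * f ^ n) * g⁻¹ := by rw [ih]
          _ = (g * q * g⁻¹) * (g * f ^ n * g⁻¹) := by group
          _ = (q * f) * f ^ n := by
              rw [((hfg.pow_left n).symm).eq, mul_inv_cancel_right, hfdef]; group
          _ = q * f ^ (n + 1) := by rw [pow_succ', mul_assoc]
    have hfn : f ^ orderOf g = 1 := by simpa [pow_orderOf_eq_one] using hit (orderOf g)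
    obtain ⟨j, hj⟩ := hQ ⟨f, hf.1⟩
    have hf1 : f = 1 := orderOf_eq_one_iff.mp (Nat.eq_one_of_dvd_coprimes (hodd.pow_right j)
      (orderOf_dvd_of_pow_eq_one hfn) (orderOf_dvd_of_pow_eq_one (congrArg Subtype.val hj)))
    exact hne (eq_mul_inv_iff_mul_eq.mp (inv_mul_eq_one.mp hf1))
  · rw [hk, pow_succ, pow_succ, mul_assoc]
    exact le_mul_of_one_le_left (Nat.zero_le _) (Nat.one_le_pow _ _ (by norm_num))

theorem hasNormalTwoComplement [Finite G]
    (hk : ∀ P : Sylow 2 G, Nat.card ↥(P : Subgroup G) < 2 * meet (P : Subgroup G)) :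
    HasNormalPComplement 2 G := by
  classical
  have := Fact.mk Nat.prime_two
  refine hasNormalPComplement_of_condition ?_
  by_contra hcond
  let bad : Subgroup G → Prop := fun Q => IsPGroup 2 Q ∧ ∃ g ∈ normalizer (Q : Set G),
    (orderOf g).Coprime 2 ∧ g ∉ centralizer (Q : Set G)
  have hne : {Q | bad Q}.Nonempty := by
    simp only [Condition, not_forall] at hcond
    obtain ⟨Q, hQ, g, hg, ho, hgC⟩ := hcond
    exact ⟨Q, hQ, g, hg, ho, hgC⟩
  obtain ⟨Q, ⟨hQ, g, hg, ho, hgC⟩, hmax⟩ :=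
    Set.exists_max_image _ (fun Q : Subgroup G => Nat.card ↥Q) (Set.toFinite _) hne
  obtain ⟨P, hQP⟩ := hQ.exists_le_sylow
  -- `C_P(Q) ≤ Q`
  have hCP : (P : Subgroup G) ⊓ centralizer (Q : Set G) ≤ Q := by
    set C := centralizer (Q : Set G) with hC
    obtain ⟨S, hS⟩ := (P.2.to_le (inf_le_left : (P : Subgroup G) ⊓ C ≤ _)).comap_subtype (K := C)
      |>.exists_le_sylow
    set S' : Subgroup G := (S : Subgroup ↥C).map C.subtype with hS'
    have hS'C : S' ≤ C := map_subtype_le _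
    have hgCn : ∀ n : ℕ, ∀ c ∈ C, g ^ n * c * (g ^ n)⁻¹ ∈ C := by
      intro n c hc q hq
      have hq' : (g ^ n)⁻¹ * q * g ^ n ∈ Q := by
        simpa using (mem_normalizer_iff.mp ((normalizer (Q : Set G)).inv_mem
          ((normalizer (Q : Set G)).pow_mem hg n)) q).mp hq
      have := congrArg (fun t => g ^ n * t * (g ^ n)⁻¹) (hc _ hq')
      simpa [mul_assoc] using this
    let T : Subgroup ↥C := (S'.map (MulAut.conj g).toMonoidHom).subgroupOf C
    have hT : IsPGroup 2 T := ((S.2.map C.subtype).map _).comap_subtype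
    obtain ⟨R, hR⟩ := hT.exists_le_sylow
    obtain ⟨c, hc⟩ := MulAction.exists_smul_eq ↥C R S
    have hconj : ∀ s ∈ S', (c : G) * g * s * ((c : G) * g)⁻¹ ∈ S' := by
      intro s hs
      have hm : g * s * g⁻¹ ∈ C := by simpa using hgCn 1 s (hS'C hs)
      have hr : (⟨_, hm⟩ : ↥C) ∈ (R : Subgroup ↥C) := hR ⟨s, hs, rfl⟩
      have : c * ⟨_, hm⟩ * c⁻¹ ∈ (S : Subgroup ↥C) := by
        rw [← hc, Sylow.coe_subgroup_smul]; exact ⟨_, hr, rfl⟩
      exact ⟨_, this, by simp [mul_assoc]⟩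
    have hN : (c : G) * g ∈ normalizer (S' : Set G) := by
      refine mem_normalizer_fintype ?_
      intro s hs
      exact hconj s hs
    obtain ⟨k, hk'⟩ := exists_pow_coprime (p := 2) (orderOf_pos ((c : G) * g)).ne'
    set h := ((c : G) * g) ^ 2 ^ k with hh
    have hexp : ∀ n : ℕ, ((c : G) * g) ^ n * (g ^ n)⁻¹ ∈ C := by
      intro n
      induction n with
      | zero => simp
      | succ n ih =>
        have h1 : g * (((c : G) * g) ^ n * (g ^ n)⁻¹) * g⁻¹ ∈ C := by simpa using hgCn 1 _ ih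
        have h2 : ((c : G) * g) ^ (n + 1) * (g ^ (n + 1))⁻¹ =
            (c : G) * (g * (((c : G) * g) ^ n * (g ^ n)⁻¹) * g⁻¹) := by rw [pow_succ', pow_succ']; group
        rw [h2]; exact C.mul_mem c.2 h1
    have hcN : C ≤ normalizer (Q : Set G) := centralizer_le_normalizer _
    have hhQ : h ∈ normalizer (Q : Set G) := pow_mem (mul_mem (hcN c.2) hg) _
    have hhS : h ∈ normalizer (S' : Set G) := pow_mem hN _
    have hhC : h ∉ C := by
      intro hhC
      refine hgC (mem_of_pow_mem (n := 2 ^ k) (ho.pow_right k) ?_)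
      have := C.mul_mem (C.inv_mem (hexp (2 ^ k))) hhC
      simpa [hh, mul_assoc] using this
    have hsup : IsPGroup 2 ↥(Q ⊔ S') :=
      hQ.to_sup_of_normal_left' (S.2.map C.subtype) (hS'C.trans hcN)
    have hbad : bad (Q ⊔ S') := by
      refine ⟨hsup, h, ?_, hk', fun hc' => hhC (centralizer_le (le_sup_left (a := Q)) hc')⟩
      refine mem_normalizer_fintype fun s hs => ?_
      have hle : (Q ⊔ S').map (MulAut.conj h).toMonoidHom ≤ Q ⊔ S' := by
        rw [Subgroup.map_sup]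
        refine sup_le_sup ?_ ?_ <;> rintro _ ⟨t, ht, rfl⟩
        · exact (mem_normalizer_iff.mp hhQ t).mp ht
        · exact (mem_normalizer_iff.mp hhS t).mp ht
      exact hle ⟨s, hs, rfl⟩
    have heq : Q = Q ⊔ S' := eq_of_le_of_card_ge le_sup_left (hmax _ hbad)
    intro x hx
    rw [heq]
    exact mem_sup_right ⟨⟨x, hx.2⟩, hS hx, rfl⟩
  let f : ↥(P : Subgroup G) → ConjClasses G := fun x => ConjClasses.mk (x : G)
  let Z : Set ↥(P : Subgroup G) := {x | ∀ y, f y = f x → y = x}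
  let E : Set ↥(P : Subgroup G) := {x | (x : G) ∈ Q ∧ ¬ Commute g x}
  have hQP' : ∀ x ∈ Q, ∀ i, g ^ i * x * (g ^ i)⁻¹ ∈ (P : Subgroup G) :=
    fun x hx i => hQP (conj_pow_mem hg hx i)
  have hZQ : ∀ x ∈ Z, (x : G) ∈ Q ∧ Commute g x := by
    intro x hx
    have hxQ : (x : G) ∈ Q := by
      refine hCP ⟨x.2, fun q hq => ?_⟩
      have h1 := hx ⟨q * x * q⁻¹, (P : Subgroup G).mul_mem ((P : Subgroup G).mul_mem (hQP hq) x.2)
        ((P : Subgroup G).inv_mem (hQP hq))⟩
        (ConjClasses.mk_eq_mk_iff_isConj.mpr (isConj_iff.mpr ⟨q, rfl⟩).symm)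
      exact mul_inv_eq_iff_eq_mul.mp (congrArg Subtype.val h1)
    refine ⟨hxQ, ?_⟩
    have h1 := hx ⟨_, hQP' x hxQ 1⟩ (ConjClasses.mk_eq_mk_iff_isConj.mpr (isConj_iff.mpr ⟨g ^ 1, rfl⟩).symm)
    have h2 := mul_inv_eq_iff_eq_mul.mp (congrArg Subtype.val h1)
    simpa [Commute, SemiconjBy] using h2
  have hcount := count_range f Z E 6 3 3 1 (by
    intro x
    by_cases hE : ({y | f y = f x} ∩ E).Nonempty
    · obtain ⟨y, hy, hyQ, hyg⟩ := hE
      have h3 := le_ncard_fibre 3 (g := g) (fun d h0 h3 => ?_) (hQP' y hyQ) hyg y rfl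
      · have h4 : ({y | f y = f x} ∩ E).ncard ≤ {y | f y = f x}.ncard :=
          Set.ncard_le_ncard Set.inter_subset_left (Set.toFinite _)
        have hy' : f y = f x := hy
        change 3 ≤ {z | f z = f y}.ncard at h3
        rw [hy'] at h3
        omega
      · interval_cases d
        · exact Nat.coprime_one_left _
        · exact ho.symm
    · rw [Set.not_nonempty_iff_eq_empty.mp hE, Set.ncard_empty]
      have h1 : 0 < {y | f y = f x}.ncard := (Set.ncard_pos (Set.toFinite _)).mpr ⟨x, rfl⟩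
      by_cases hz : x ∈ Z
      · have : 0 < ({y | f y = f x} ∩ Z).ncard := (Set.ncard_pos (Set.toFinite _)).mpr ⟨x, rfl, hz⟩
        omega
      · obtain ⟨y, hy, hyx⟩ : ∃ y, f y = f x ∧ y ≠ x := by simpa [Z] using hz
        have : 1 < {y | f y = f x}.ncard := (Set.one_lt_ncard (Set.toFinite _)).mpr ⟨x, rfl, y, hy, hyx.symm⟩
        omega)
  set F := Q ⊓ centralizer {g} with hF
  have hZF : Z.ncard ≤ Nat.card ↥F := by
    rw [← Nat.card_coe_set_eq]
    refine Nat.card_le_card_of_injective (fun x => (⟨((x : ↥(P : Subgroup G)) : G), (hZQ _ x.2).1,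
      mem_centralizer_singleton_iff.mpr (hZQ _ x.2).2.eq.symm⟩ : ↥F)) fun a b h =>
        Subtype.ext (Subtype.ext (congrArg (fun t : ↥F => (t : G)) h))
  have hEcard : Nat.card ↥Q ≤ E.ncard + Nat.card ↥F := by
    have e1 : E.ncard = ((Q : Set G) \ (F : Set G)).ncard := by
      rw [← Set.ncard_image_of_injective E Subtype.val_injective]
      congr 1
      ext y
      constructor
      · rintro ⟨x, ⟨hxQ, hxg⟩, rfl⟩
        exact ⟨hxQ, fun hx => hxg (mem_centralizer_singleton_iff.mp hx.2).symm⟩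
      · rintro ⟨hyQ, hyF⟩
        exact ⟨⟨y, hQP hyQ⟩, ⟨hyQ, fun hc => hyF ⟨hyQ, mem_centralizer_singleton_iff.mpr hc.eq.symm⟩⟩, rfl⟩
    rw [e1, ← SetLike.coe_sort_coe, ← SetLike.coe_sort_coe (p := F), Nat.card_coe_set_eq, Nat.card_coe_set_eq]
    exact (Set.ncard_le_ncard_sdiff_add_ncard _ _ (Set.toFinite _))
  have h4 := four_card_fix_le hQ hg ho hgC
  rw [← hF] at h4
  have hkP := hk P
  simp only [meet] at hkP
  change 6 * (Set.range f).ncard + 1 * E.ncard ≤ _ at hcount
  change _ < 2 * (Set.range f).ncard at hkP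
  omega

variable {p : ℕ} [Fact p.Prime]

/-- For odd `p` the Sylow subgroup is abelian. -/
theorem sylow_comm [Finite G] (hp2 : p ≠ 2) (P : Sylow p G)
    (hk : Nat.card ↥(P : Subgroup G) < 2 * meet (P : Subgroup G)) :
    ∀ a ∈ (P : Subgroup G), ∀ b ∈ (P : Subgroup G), a * b = b * a := by
  have hp : p.Prime := Fact.out
  have hp3 : 3 ≤ p := by have := hp.two_le; omega
  by_contra hna
  set Zc := center ↥(P : Subgroup G) with hZc
  obtain ⟨k, hk'⟩ := P.2.index Zc
  have hk2 : 2 ≤ k := by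
    by_contra hlt
    refine hna fun a ha b hb => ?_
    rcases k with _ | _ | k
    · rw [pow_zero, index_eq_one] at hk'
      have : (⟨b, hb⟩ : ↥(P : Subgroup G)) ∈ Zc := hk' ▸ mem_top _
      exact congrArg Subtype.val (mem_center_iff.mp this ⟨a, ha⟩)
    · rw [zero_add, pow_one] at hk'
      have hcard : Nat.card (↥(P : Subgroup G) ⧸ Zc) = p := hk'
      have := isCyclic_of_prime_card hcard
      have hcm := (QuotientGroup.mk' Zc).isMulCommutative_of_isCyclic_of_ker_le_center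
        (by rw [QuotientGroup.ker_mk'])
      exact congrArg Subtype.val (hcm.is_comm.comm (⟨a, ha⟩ : ↥(P : Subgroup G)) ⟨b, hb⟩)
    · omega
  have hcount := count_range (fun x : ↥(P : Subgroup G) => ConjClasses.mk (x : G))
    (Zc : Set ↥(P : Subgroup G)) ∅ 3 1 2 0 (by
    intro x
    have h1 : 0 < {y : ↥(P : Subgroup G) | ConjClasses.mk (y : G) = ConjClasses.mk (x : G)}.ncard :=
      (Set.ncard_pos (Set.toFinite _)).mpr ⟨x, rfl⟩
    by_cases hz : x ∈ Zc
    · have : 0 < ({y : ↥(P : Subgroup G) | ConjClasses.mk (y : G) = ConjClasses.mk (x : G)} ∩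
          (Zc : Set ↥(P : Subgroup G))).ncard := (Set.ncard_pos (Set.toFinite _)).mpr ⟨x, rfl, hz⟩
      omega
    · obtain ⟨s, hs⟩ : ∃ s : ↥(P : Subgroup G), ¬ Commute (s : G) (x : G) := by
        by_contra hall
        push Not at hall
        exact hz (mem_center_iff.mpr fun s => Subtype.ext (hall s).eq)
      have hoc : (orderOf (s : G)).Coprime 2 := by
        rw [Subgroup.orderOf_coe]
        obtain ⟨j, hj⟩ := IsPGroup.iff_orderOf.mp P.2 s
        rw [hj]
        exact ((Nat.coprime_primes hp Nat.prime_two).mpr hp2).pow_left j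
      have h3 := le_ncard_fibre 3 (g := (s : G)) (fun d h0 h3 => ?_)
        (fun i => conj_pow_mem (le_normalizer s.2) x.2 i) hs x rfl
      · omega
      · interval_cases d
        · exact Nat.coprime_one_left _
        · exact hoc.symm)
  have hZ9 : 9 * Nat.card ↥Zc ≤ Nat.card ↥(P : Subgroup G) := by
    rw [← card_mul_index Zc, Nat.mul_comm 9, hk']
    refine Nat.mul_le_mul_left _ ?_
    calc 9 = 3 ^ 2 := rfl
      _ ≤ p ^ 2 := Nat.pow_le_pow_left hp3 2
      _ ≤ p ^ k := Nat.pow_le_pow_right hp.pos hk2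
  rw [← Nat.card_coe_set_eq (Zc : Set ↥(P : Subgroup G))] at hcount
  simp only [meet] at hk
  simp only [SetLike.coe_sort_coe] at hcount
  omega

/-- Elements of odd order normalizing an abelian Sylow subgroup with many classes centralize it. -/
theorem centralizes [Finite G] (hp2 : p ≠ 2) (P : Sylow p G)
    (hk : Nat.card ↥(P : Subgroup G) < 2 * meet (P : Subgroup G)) {g : G}
    (hg : g ∈ normalizer ((P : Subgroup G) : Set G)) (hodd : (orderOf g).Coprime 2) :
    g ∈ centralizer ((P : Subgroup G) : Set G) := by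
  have hp : p.Prime := Fact.out
  have hab := sylow_comm hp2 P hk
  suffices ∀ a ∈ normalizer ((P : Subgroup G) : Set G), (orderOf a).Coprime 2 → (orderOf a).Coprime p →
      a ∈ centralizer ((P : Subgroup G) : Set G) by
    -- `g` is the product of its `p`-part and its `p'`-part
    obtain ⟨x, y, hxy, -, hx, hy, hxz, hyz⟩ := exists_decomp p hp g
    rw [← hxy]
    refine (centralizer _).mul_mem ?_ ?_
    · have hxN : zpowers x ≤ normalizer ((P : Subgroup G) : Set G) :=
        zpowers_le.mpr ((zpowers_le.mpr hg) hxz)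
      have hsup : (P : Subgroup G) ⊔ zpowers x = P :=
        P.3 (P.2.to_sup_of_normal_left' (isPGroup_zpowers hx) hxN) le_sup_left
      exact fun q hq => hab q hq x (hsup ▸ mem_sup_right (mem_zpowers x))
    · refine this y ((zpowers_le.mpr hg) hyz) (Nat.Coprime.coprime_dvd_left ?_ hodd) ?_
      · exact orderOf_dvd_of_mem_zpowers hyz
      · exact (hp.coprime_iff_not_dvd.mpr fun hd => (hy p hp hd).2 rfl).symm
  intro a ha ha2 hap
  by_contra haC
  have hF := mul_card_fix_le P.2 haC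
  set F := (P : Subgroup G) ⊓ centralizer {a} with hFdef
  set n := if p = 3 then 5 else 3 with hn
  have hco : ∀ d, 0 < d → d < n → d.Coprime (orderOf a) := by
    intro d h0 hd
    by_cases h3 : p = 3
    · rw [hn, if_pos h3] at hd
      interval_cases d
      · exact Nat.coprime_one_left _
      · exact ha2.symm
      · exact h3 ▸ hap.symm
      · exact (show (4 : ℕ) = 2 ^ 2 by rfl) ▸ ha2.symm.pow_left 2
    · rw [hn, if_neg h3] at hd
      interval_cases d
      · exact Nat.coprime_one_left _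
      · exact ha2.symm
  have hcount := count_range (fun x : ↥(P : Subgroup G) => ConjClasses.mk (x : G))
    ((F.subgroupOf (P : Subgroup G) : Subgroup ↥(P : Subgroup G)) : Set ↥(P : Subgroup G)) ∅ n 1 (n - 1) 0 (by
    intro x
    have h1 : 0 < {y : ↥(P : Subgroup G) | ConjClasses.mk (y : G) = ConjClasses.mk (x : G)}.ncard :=
      (Set.ncard_pos (Set.toFinite _)).mpr ⟨x, rfl⟩
    rw [zero_mul, add_zero, one_mul]
    by_cases hz : (x : G) ∈ F
    · have h2 : 1 ≤ ({y : ↥(P : Subgroup G) | ConjClasses.mk (y : G) = ConjClasses.mk (x : G)} ∩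
          ((F.subgroupOf (P : Subgroup G) : Subgroup ↥(P : Subgroup G)) : Set ↥(P : Subgroup G))).ncard :=
        (Set.ncard_pos (Set.toFinite _)).mpr ⟨x, rfl, hz⟩
      have := Nat.mul_le_mul_left (n - 1) h2
      omega
    · exact le_add_right (le_ncard_fibre n hco (fun i => conj_pow_mem ha x.2 i)
        (fun hc => hz ⟨x.2, mem_centralizer_singleton_iff.mpr hc.eq.symm⟩) x rfl))
  have hFc : ((F.subgroupOf (P : Subgroup G) : Subgroup ↥(P : Subgroup G)) : Set ↥(P : Subgroup G)).ncard =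
      Nat.card ↥F := by
    rw [← Nat.card_coe_set_eq, SetLike.coe_sort_coe,
      Nat.card_congr (subgroupOfEquivOfLe (inf_le_left : F ≤ _)).toEquiv]
  rw [hFc, Set.ncard_empty] at hcount
  simp only [meet] at hk
  by_cases h3 : p = 3
  · rw [hn, if_pos h3] at hcount
    have := (Nat.mul_le_mul_right (Nat.card ↥F) h3.ge).trans hF
    omega
  · rw [hn, if_neg h3] at hcount
    have h5 : 5 ≤ p := by
      have h2 := hp.two_le
      have h4 : p ≠ 4 := fun e => absurd (e ▸ hp) (by decide)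
      omega
    have := Nat.mul_le_mul_right (Nat.card ↥F) h5
    omega

theorem result {G : Type*} [Group G] [Finite G] (π : Finset ℕ) (hπ : ∀ r ∈ π, r.Prime) (h2 : 2 ∈ π)
    (hk : π.prod (fun r => r ^ (Nat.card G).factorization r) < 2 * Nat.card {c : ConjClasses G // ∀ x ∈ c.carrier, ∀ r : ℕ, r.Prime → r ∣ orderOf x → r ∈ π}) :
    (∃ N : Subgroup G, N.Normal ∧ (∀ r : ℕ, r.Prime → r ∣ Nat.card ↥N → r ∉ π) ∧ ∀ r : ℕ, r.Prime → r ∣ N.index → r ∈ π) ∧ ∃ H : Subgroup G, Cfsg.IsPiHall ((↑π : Set ℕ) \ {2}) H ∧ IsMulCommutative ↥H := by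
  classical
  have hcl : Nat.card {c : ConjClasses G // ∀ x ∈ c.carrier, ∀ r : ℕ, r.Prime → r ∣ orderOf x → r ∈ π}
      = (piClasses G π).ncard := by
    rw [← Nat.card_coe_set_eq]
    refine Nat.card_congr (Equiv.subtypeEquivRight fun c => ?_)
    obtain ⟨x, rfl⟩ := ConjClasses.mk_surjective c
    constructor
    · exact fun h => ⟨x, rfl, h x ConjClasses.mem_carrier_mk⟩
    · rintro ⟨y, hy, hy'⟩ z hz
      exact isPi_conj (ConjClasses.mk_eq_mk_iff_isConj.mp (hy.trans (ConjClasses.mem_carrier_iff_mk_eq.mp hz).symm)) hy'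
  rw [hcl] at hk
  have hone : ∀ p ∈ π, ∀ (_ : Fact p.Prime) (P : Sylow p G),
      Nat.card ↥(P : Subgroup G) < 2 * meet (P : Subgroup G) := by
    intro p hp _ P
    have hπ' : ∀ r ∈ π.erase p, r.Prime := fun r hr => hπ r (Finset.mem_of_mem_erase hr)
    have h := card_piClasses_insert_le (G := G) (π := π.erase p) (hπ p hp) (piPart (π.erase p) (Nat.card G))
      fun H => (card_piClasses_le _ hπ' ↥H).trans (piPart_mono hπ' H)
    rw [Finset.insert_erase hp] at h
    have h' := Nat.mul_le_mul_left 2 (h.trans (Nat.mul_le_mul_right _ (card_piClasses_singleton_le P)))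
    rw [← Finset.mul_prod_erase π _ hp, ← P.card_eq_multiplicity] at hk
    have := hk.trans_le h'
    rw [← mul_assoc] at this
    exact Nat.lt_of_mul_lt_mul_right this
  have := Fact.mk Nat.prime_two
  have h2c := hasNormalTwoComplement (G := G) (hone 2 h2 inferInstance)
  set K := pResidual 2 G with hKdef
  have hKn : K.Normal := inferInstance
  have hKcop : (Nat.card ↥K).Coprime 2 := hasNormalPComplement_iff_pResidual.mp h2c
  have hKmem : ∀ x : G, x ∈ K ↔ (orderOf x).Coprime 2 := fun x =>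
    ⟨fun hx => Nat.Coprime.coprime_dvd_left (K.orderOf_dvd_natCard hx) hKcop, mem_pResidual_of_coprime⟩
  have hcomp : ∀ p ∈ π, p ≠ 2 → ∀ a ∈ K, ∀ b ∈ K,
      (orderOf (a * b * a⁻¹ * b⁻¹)).Coprime p ∧
      ((orderOf a).Coprime p → (orderOf b).Coprime p → (orderOf (a * b)).Coprime p) := by
    intro p hp hp2 a ha b hb
    have := Fact.mk (hπ p hp)
    obtain ⟨P⟩ := (inferInstance : Nonempty (Sylow p G))
    have hPK : (P : Subgroup G) ≤ K := fun x hx => (hKmem x).mpr <| by
      obtain ⟨j, hj⟩ := IsPGroup.iff_orderOf.mp P.2 ⟨x, hx⟩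
      rw [← Subgroup.orderOf_coe] at hj
      rw [hj]
      exact ((Nat.coprime_primes (hπ p hp) Nat.prime_two).mpr hp2).pow_left j
    set PK : Sylow p ↥K := P.subtype hPK
    have hN : normalizer ((PK : Subgroup ↥K) : Set ↥K) ≤ centralizer ((PK : Subgroup ↥K) : Set ↥K) := by
      intro g hg
      have hg' : (g : G) ∈ normalizer ((P : Subgroup G) : Set G) := by
        have := le_normalizer_map K.subtype (mem_map_of_mem K.subtype hg)
        rwa [Sylow.coe_subtype, map_subgroupOf_eq_of_le hPK] at this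
      have hc := centralizes hp2 P (hone p hp inferInstance P) hg' ((hKmem _).mp g.2)
      intro x hx
      exact Subtype.ext (hc x hx)
    obtain ⟨N, hNn, hNc⟩ := (hasNormalPComplement_iff_sylow PK).mp
      (hasNormalPComplement_of_normalizer_le_centralizer PK hN)
    have hmem : ∀ x : ↥K, x ∈ N ↔ (orderOf (x : G)).Coprime p := fun x => by
      rw [Subgroup.orderOf_coe]; exact mem_iff_coprime_of_isComplement' hNc
    constructor
    · refine (hmem (⟨a, ha⟩ * ⟨b, hb⟩ * ⟨a, ha⟩⁻¹ * ⟨b, hb⟩⁻¹ : ↥K)).mp ?_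
      rw [← QuotientGroup.eq_one_iff]
      have hs : ∀ x : ↥K, ∃ s ∈ (PK : Subgroup ↥K), (x : ↥K ⧸ N) = (s : ↥K ⧸ N) := by
        intro x
        obtain ⟨⟨⟨m, hm⟩, ⟨s, hs⟩⟩, rfl⟩ := hNc.2 x
        exact ⟨s, hs, by simp [(QuotientGroup.eq_one_iff m).mpr hm]⟩
      obtain ⟨s, hs1, hs2⟩ := hs ⟨a, ha⟩
      obtain ⟨t, ht1, ht2⟩ := hs ⟨b, hb⟩
      have hst : s * t = t * s :=
        Subtype.ext (sylow_comm hp2 P (hone p hp inferInstance P) s hs1 t ht1)
      simp only [QuotientGroup.mk_mul, QuotientGroup.mk_inv, hs2, ht2]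
      rw [← QuotientGroup.mk_mul, hst, QuotientGroup.mk_mul]
      group
    · intro ha' hb'
      exact (hmem (⟨a, ha⟩ * ⟨b, hb⟩ : ↥K)).mp
        (N.mul_mem ((hmem ⟨a, ha⟩).mpr ha') ((hmem ⟨b, hb⟩).mpr hb'))
  let N : Subgroup G :=
    { carrier := {x | ∀ p ∈ π, (orderOf x).Coprime p}
      mul_mem' := by
        intro a b ha hb p hp
        have haK := (hKmem a).mpr (ha 2 h2)
        have hbK := (hKmem b).mpr (hb 2 h2)
        by_cases hp2 : p = 2
        · subst hp2; exact (hKmem _).mp (K.mul_mem haK hbK)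
        · exact (hcomp p hp hp2 a haK b hbK).2 (ha p hp) (hb p hp)
      one_mem' := fun p _ => by simp
      inv_mem' := fun {x} hx p hp => by rw [orderOf_inv]; exact hx p hp }
  have hNn : N.Normal := ⟨fun x hx g p hp => by
    rw [← MulAut.conj_apply, MulEquiv.orderOf_eq]; exact hx p hp⟩
  have hN1 : ∀ r : ℕ, r.Prime → r ∣ Nat.card ↥N → r ∉ π := by
    intro r hr hd hrπ
    have := Fact.mk hr
    obtain ⟨x, hx⟩ := exists_prime_orderOf_dvd_card' r hd
    have h := x.2 r hrπ
    rw [Subgroup.orderOf_coe, hx] at h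
    exact hr.ne_one ((Nat.coprime_self r).mp h)
  have hN2 : ∀ r : ℕ, r.Prime → r ∣ N.index → r ∈ π := by
    intro r hr hd
    by_contra hrπ
    have := Fact.mk hr
    obtain ⟨R⟩ := (inferInstance : Nonempty (Sylow r G))
    refine R.not_dvd_index (hd.trans (index_dvd_of_le fun x hx p hp => ?_))
    obtain ⟨j, hj⟩ := IsPGroup.iff_orderOf.mp R.2 ⟨x, hx⟩
    rw [← Subgroup.orderOf_coe] at hj
    rw [hj]
    exact ((Nat.coprime_primes hr (hπ p hp)).mpr fun e => hrπ (e ▸ hp)).pow_left j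
  refine ⟨⟨N, hNn, hN1, hN2⟩, ?_⟩
  obtain ⟨L, hL⟩ := exists_right_complement'_of_coprime (N := N)
    (Nat.coprime_of_dvd' fun r hr h1 h2' => absurd (hN2 r hr h2') (hN1 r hr h1))
  refine ⟨L ⊓ K, ⟨?_, ?_⟩, ?_⟩
  · intro r hr hd
    refine ⟨hN2 r hr ?_, ?_⟩
    · rw [hL.symm.index_eq_card]
      exact hd.trans (card_dvd_of_le inf_le_left)
    · rintro (rfl : r = 2)
      exact hr.ne_one (Nat.eq_one_of_dvd_coprimes hKcop (hd.trans (card_dvd_of_le inf_le_right)) dvd_rfl)
  · rintro r hr ⟨hrπ, hr2⟩ hd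
    rw [← relIndex_mul_index (inf_le_left : L ⊓ K ≤ L)] at hd
    rcases hr.dvd_mul.mp hd with h | h
    · obtain ⟨j, hj⟩ := index_pResidual (p := 2) (G := G)
      rw [inf_relIndex_left] at h
      have h' := h.trans (relIndex_dvd_index_of_normal K L)
      rw [hKdef, hj] at h'
      exact hr2 ((Nat.prime_dvd_prime_iff_eq hr Nat.prime_two).mp (hr.dvd_of_dvd_pow h'))
    · rw [hL.index_eq_card] at h
      exact hN1 r hr h hrπ
  · refine isMulCommutative_iff_of_setLike.mpr fun a ha b hb => ?_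
    have hmem : a * b * a⁻¹ * b⁻¹ ∈ N ⊓ L := by
      refine ⟨fun p hp => ?_, L.mul_mem (L.mul_mem (L.mul_mem ha.1 hb.1) (L.inv_mem ha.1)) (L.inv_mem hb.1)⟩
      by_cases hp2 : p = 2
      · subst hp2
        exact (hKmem _).mp (K.mul_mem (K.mul_mem (K.mul_mem ha.2 hb.2) (K.inv_mem ha.2)) (K.inv_mem hb.2))
      · exact (hcomp p hp hp2 a ha.2 b hb.2).1
    rw [hL.disjoint.eq_bot, mem_bot, mul_inv_eq_one, mul_inv_eq_iff_eq_mul] at hmem
    exact hmem

end Cfsg.Agent.S3898
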