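import Cfsg.Statements.S3899
import Mathlib
import Cfsg.Agent.Lib.PiClasses.Basic

set_option autoImplicit false
open Cfsg
open scoped commutatorElement

namespace Cfsg.Agent.S3899

/-- Let π be a finite non-empty set of odd primes with smallest member p and G a finite group. Write k_π(G) for the number of conjugacy classes of G consisting of π-elements (elements all of whose order's prime divisors lie in π) and |G|_π for the π-part of the order of G. If k_π(G) > (p + 1)|G|_π/(2p), then G has a normal π-complement (a normal subgroup of order prime to π whose index is a π-number) and an abelian Hall π-subgroup. -/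
theorem result {G : Type*} [Group G] [Finite G] (π : Finset ℕ) (hπ : ∀ r ∈ π, r.Prime) (h2 : 2 ∉ π) (p : ℕ) (hp : p ∈ π)
    (hmin : ∀ r ∈ π, p ≤ r) (hk : (p + 1) * π.prod (fun r => r ^ (Nat.card G).factorization r) < 2 * p * Nat.card {c : ConjClasses G // ∀ x ∈ c.carrier, ∀ r : ℕ, r.Prime → r ∣ orderOf x → r ∈ π}) :
    (∃ N : Subgroup G, N.Normal ∧ (∀ r : ℕ, r.Prime → r ∣ Nat.card ↥N → r ∉ π) ∧ ∀ r : ℕ, r.Prime → r ∣ N.index → r ∈ π) ∧ ∃ H : Subgroup G, Cfsg.IsPiHall (↑π : Set ℕ) H ∧ IsMulCommutative ↥H := by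
  classical
  have hkdef : Nat.card {c : ConjClasses G // ∀ x ∈ c.carrier, ∀ r : ℕ, r.Prime → r ∣ orderOf x → r ∈ π} =
      PiClasses.k π G := rfl
  rw [hkdef] at hk
  have hp2 : 2 ≤ p := (hπ p hp).two_le
  have key : ∀ r ∈ π, ∃ N : Subgroup G, N.Normal ∧ ¬ r ∣ Nat.card N ∧
      (∀ s : ℕ, s.Prime → s ∣ N.index → s = r) ∧ commutator G ≤ N := by
    intro r hr
    haveI : Fact r.Prime := ⟨hπ r hr⟩
    let P : Sylow r G := default
    have hlt : (r + 1) * Nat.card (P : Subgroup G) < 2 * r * PiClasses.k ({r} : Finset ℕ) G := by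
      have h1 := PiClasses.k_le_mul_prod (G := G) hπ hr
      rw [← Finset.mul_prod_erase π _ hr, ← P.card_eq_multiplicity] at hk
      set R := (π.erase r).prod fun s => s ^ (Nat.card G).factorization s
      have h2 : (p + 1) * Nat.card (P : Subgroup G) < 2 * p * PiClasses.k ({r} : Finset ℕ) G := by
        refine Nat.lt_of_mul_lt_mul_right (a := R) ?_
        calc (p + 1) * Nat.card (P : Subgroup G) * R
            = (p + 1) * (Nat.card (P : Subgroup G) * R) := by ring
          _ < 2 * p * PiClasses.k π G := hk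
          _ ≤ 2 * p * (PiClasses.k ({r} : Finset ℕ) G * R) := Nat.mul_le_mul_left _ h1
          _ = 2 * p * PiClasses.k ({r} : Finset ℕ) G * R := by ring
      have hpr := hmin r hr
      nlinarith
    have hNC := PiClasses.normalizer_le_centralizer_of_lt P hlt
    obtain ⟨P₀, N, hN, hNP⟩ :=
      Transfer.NormalPComplement.hasNormalPComplement_of_normalizer_le_centralizer P hNC
    refine ⟨N, hN, ?_, ?_, PiClasses.commutator_le_of_complement hNP P
      (PiClasses.sylow_commute_of_le_centralizer hNC)⟩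
    · rw [← hNP.index_eq_card]; exact P₀.not_dvd_index
    · intro s hs hd
      rw [hNP.symm.index_eq_card, P₀.card_eq_multiplicity] at hd
      exact (Nat.prime_dvd_prime_iff_eq hs (hπ r hr)).1 (hs.dvd_of_dvd_pow hd)
  choose! N hN hcard hidx hcomm using key
  let K : Subgroup G := π.inf N
  have hKn : ∀ s : Finset ℕ, s ⊆ π → (s.inf N).Normal ∧
      (∀ t : ℕ, t.Prime → t ∣ (s.inf N).index → t ∈ s) ∧ commutator G ≤ s.inf N := by
    intro s
    induction s using Finset.induction_on with
    | empty =>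
      intro _
      refine ⟨?_, ?_, ?_⟩
      · rw [Finset.inf_empty]; infer_instance
      · intro t ht hd
        rw [Finset.inf_empty, Subgroup.index_top, Nat.dvd_one] at hd
        exact absurd hd ht.ne_one
      · rw [Finset.inf_empty]; exact le_top
    | insert a s has ih =>
      intro hs
      obtain ⟨ha, hs'⟩ := Finset.insert_subset_iff.1 hs
      obtain ⟨i1, i2, i3⟩ := ih hs'
      haveI := hN a ha
      haveI := i1
      rw [Finset.inf_insert]
      refine ⟨inferInstance, ?_, le_inf (hcomm a ha) i3⟩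
      intro t ht hd
      rw [← Subgroup.relIndex_mul_index (inf_le_right : N a ⊓ s.inf N ≤ s.inf N)] at hd
      rcases (Nat.Prime.dvd_mul ht).1 hd with h | h
      · rw [Subgroup.inf_relIndex_right] at h
        exact Finset.mem_insert.2 (Or.inl (hidx a ha t ht (h.trans (Subgroup.relIndex_dvd_index_of_normal _ _))))
      · exact Finset.mem_insert_of_mem (i2 t ht h)
  obtain ⟨hK1, hK2, hK3⟩ := hKn π subset_rfl
  have hK4 : ∀ r : ℕ, r.Prime → r ∣ Nat.card K → r ∉ π := fun r _ hd hr =>
    hcard r hr (hd.trans (Subgroup.card_dvd_of_le (Finset.inf_le hr)))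
  refine ⟨⟨K, hK1, hK4, hK2⟩, ?_⟩
  haveI := hK1
  have hcop : (Nat.card K).Coprime K.index :=
    Nat.coprime_of_dvd fun r hr hd hd' => hK4 r hr hd (hK2 r hr hd')
  obtain ⟨H, hH⟩ := Subgroup.exists_right_complement'_of_coprime (N := K) hcop
  refine ⟨H, ⟨fun r hr hd => ?_, fun r hr hmem hd => ?_⟩, ⟨⟨fun a b => ?_⟩⟩⟩
  · exact hK2 r hr (by rwa [hH.symm.index_eq_card])
  · exact hK4 r hr (by rwa [← hH.index_eq_card]) (Finset.mem_coe.1 hmem)
  · have hmem : ⁅(a : G), (b : G)⁆ ∈ K ⊓ H := by
      refine ⟨hK3 (Subgroup.commutator_mem_commutator (Subgroup.mem_top _) (Subgroup.mem_top _)), ?_⟩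
      rw [commutatorElement_def]
      exact H.mul_mem (H.mul_mem (H.mul_mem a.2 b.2) (H.inv_mem a.2)) (H.inv_mem b.2)
    rw [hH.disjoint.eq_bot, Subgroup.mem_bot, commutatorElement_eq_one_iff_mul_comm] at hmem
    exact Subtype.ext hmem

end Cfsg.Agent.S3899
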