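import Cfsg.Statements.S3904
import Mathlib
import Cfsg.Agent.Lib.Cores.Fitting
import Cfsg.Agent.Solvable.Frobenius
import Cfsg.Agent.Solvable.Basics
import Cfsg.Agent.Lib.Involutions.Basic

set_option autoImplicit false
open Cfsg
open scoped commutatorElement Pointwise

namespace Cfsg.Agent.S3904
section
variable {G : Type*} [Group G] [Finite G]

local notation "Cn" x => Subgroup.centralizer ({x} : Set _)

/-- Every element outside the centre has maximal centraliser. -/
def MaxC (G : Type*) [Group G] : Prop := ∀ x : G, x ∉ Subgroup.center G → IsCoatom (Subgroup.centralizer ({x} : Set G))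

theorem cen_eq_of_le (h : MaxC G) {a b : G} (ha : a ∉ Subgroup.center G) (hb : b ∉ Subgroup.center G)
    (hle : Subgroup.centralizer ({a} : Set G) ≤ Subgroup.centralizer ({b} : Set G)) :
    Subgroup.centralizer ({a} : Set G) = Subgroup.centralizer ({b} : Set G) := by
  rcases eq_or_lt_of_le hle with he | hlt
  · exact he
  · exact absurd ((h a ha).2 _ hlt) (h b hb).1

theorem mem_cen_self (x : G) : x ∈ Subgroup.centralizer ({x} : Set G) :=
  Subgroup.mem_centralizer_singleton_iff.mpr rfl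

theorem cen_le_pow (x : G) (n : ℕ) : Subgroup.centralizer ({x} : Set G) ≤ Subgroup.centralizer ({x ^ n} : Set G) :=
  fun _ hg => Subgroup.mem_centralizer_singleton_iff.mpr
    ((show Commute _ x from Subgroup.mem_centralizer_singleton_iff.mp hg).pow_right n).eq

theorem mix (h : MaxC G) {a b : G} (ha : a ∉ Subgroup.center G) (hb : b ∉ Subgroup.center G) (hc : Commute a b)
    (hco : (orderOf a).Coprime (orderOf b)) :
    Subgroup.centralizer ({a} : Set G) = Subgroup.centralizer ({b} : Set G) := by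
  have key : ∀ u v : G, Commute u v → (orderOf u).Coprime (orderOf v) → ∃ n : ℕ, (u * v) ^ n = u := by
    intro u v huv hco'
    refine ⟨(Nat.chineseRemainder hco' 1 0).1, ?_⟩
    have h1 := (Nat.chineseRemainder hco' 1 0).2
    rw [huv.mul_pow, show v ^ (Nat.chineseRemainder hco' 1 0).1 = 1 from orderOf_dvd_iff_pow_eq_one.mp (Nat.modEq_zero_iff_dvd.mp h1.2), mul_one]
    conv_rhs => rw [← pow_one u]
    exact pow_eq_pow_iff_modEq.mpr h1.1
  obtain ⟨n, hn⟩ := key a b hc hco
  obtain ⟨m, hm⟩ := key b a hc.symm hco.symm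
  rw [← hc.eq] at hm
  have hab : a * b ∉ Subgroup.center G := fun hh => ha (hn ▸ pow_mem hh n)
  have h1 := cen_eq_of_le h hab ha (le_of_le_of_eq (cen_le_pow (a * b) n) (by rw [hn]))
  have h2 := cen_eq_of_le h hab hb (le_of_le_of_eq (cen_le_pow (a * b) m) (by rw [hm]))
  rw [← h1, h2]

theorem split (p : ℕ) [Fact p.Prime] (x : G) : ∃ n m k : ℕ, x = x ^ n * x ^ m ∧ orderOf (x ^ n) = p ^ k ∧ ¬ p ∣ orderOf (x ^ m) := by
  obtain ⟨k, r, hr, he⟩ := Nat.exists_eq_pow_mul_and_not_dvd (orderOf_pos x).ne' p (Fact.out : p.Prime).ne_one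
  have hco : (p ^ k).Coprime r := ((Fact.out : p.Prime).coprime_iff_not_dvd.mpr hr).pow_left k
  obtain ⟨n, h1, h2⟩ := Nat.chineseRemainder hco 1 0
  obtain ⟨m, h3, h4⟩ := Nat.chineseRemainder hco 0 1
  have hsum : x ^ (n + m) = x ^ 1 := by
    rw [pow_eq_pow_iff_modEq, he, ← Nat.modEq_and_modEq_iff_modEq_mul hco]
    exact ⟨(h1.add h3).trans (by rfl), (h2.add h4).trans (by rfl)⟩
  obtain ⟨j, -, hj⟩ := (Nat.dvd_prime_pow (Fact.out : p.Prime)).mp (orderOf_dvd_of_pow_eq_one (n := p ^ k) (x := x ^ n) (by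
    rw [← pow_mul, ← orderOf_dvd_iff_pow_eq_one, he, mul_comm (p ^ k) r]
    exact Nat.mul_dvd_mul (Nat.modEq_zero_iff_dvd.mp h2) dvd_rfl))
  refine ⟨n, m, j, by rw [← pow_add, hsum, pow_one], hj, fun hd => hr (hd.trans (orderOf_dvd_of_pow_eq_one ?_))⟩
  rw [← pow_mul, ← orderOf_dvd_iff_pow_eq_one, he]
  exact Nat.mul_dvd_mul (Nat.modEq_zero_iff_dvd.mp h3) dvd_rfl

theorem exists_pp {x : G} (hx : x ∉ Subgroup.center G) :
    ∃ p n k : ℕ, p.Prime ∧ orderOf (x ^ n) = p ^ k ∧ x ^ n ∉ Subgroup.center G := by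
  by_contra hcon
  push Not at hcon
  apply hx
  have htop : (Subgroup.center G).subgroupOf (Subgroup.zpowers x) = ⊤ := by
    refine Cfsg.Agent.Cores.eq_top_of_sylow_le fun p hp _ => ?_
    haveI : Fact p.Prime := ⟨hp⟩
    obtain ⟨P⟩ : Nonempty (Sylow p (Subgroup.zpowers x)) := inferInstance
    refine ⟨P, fun y hy => ?_⟩
    obtain ⟨n, hn⟩ := mem_powers_iff_mem_zpowers.mpr y.2
    obtain ⟨k, hk⟩ := IsPGroup.iff_orderOf.mp P.2 ⟨y, hy⟩
    rw [Subgroup.orderOf_mk, ← Subgroup.orderOf_coe, ← hn] at hk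
    show (y : G) ∈ Subgroup.center G
    rw [← hn]
    exact hcon p n k hp hk
  have : (⟨x, Subgroup.mem_zpowers x⟩ : Subgroup.zpowers x) ∈ (Subgroup.center G).subgroupOf (Subgroup.zpowers x) :=
    htop ▸ Subgroup.mem_top _
  exact this

theorem map_conj_cen (g x : G) :
    (Subgroup.centralizer ({x} : Set G)).map (MulAut.conj g).toMonoidHom = Subgroup.centralizer ({g * x * g⁻¹} : Set G) := by
  ext y
  erw [Subgroup.mem_map_equiv]
  rw [Subgroup.mem_centralizer_singleton_iff, Subgroup.mem_centralizer_singleton_iff]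
  show g⁻¹ * y * g * x = x * (g⁻¹ * y * g) ↔ _
  constructor
  · intro h
    calc y * (g * x * g⁻¹) = g * (g⁻¹ * y * g * x) * g⁻¹ := by group
      _ = _ := by rw [h]; group
  · intro h
    calc g⁻¹ * y * g * x = g⁻¹ * (y * (g * x * g⁻¹)) * g := by group
      _ = _ := by rw [h]; group

theorem center_conj {g x : G} (hx : x ∉ Subgroup.center G) : g * x * g⁻¹ ∉ Subgroup.center G := fun h => hx (by
  have := (Subgroup.Normal.conj_mem inferInstance _ h g⁻¹ : _ ∈ Subgroup.center G)
  simpa [mul_assoc] using this)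

/-- A non-normal centraliser is abelian. -/
theorem comm_of_nonnormal (h : MaxC G) {x₀ : G} (hx₀ : x₀ ∉ Subgroup.center G)
    (hn : ¬ (Subgroup.centralizer ({x₀} : Set G)).Normal) :
    ∀ a ∈ Subgroup.centralizer ({x₀} : Set G), ∀ b ∈ Subgroup.centralizer ({x₀} : Set G), a * b = b * a := by
  classical
  set Z := Subgroup.center G
  obtain ⟨p, n₀, k₀, hp, hxo, hx⟩ := exists_pp hx₀
  haveI : Fact p.Prime := ⟨hp⟩
  set x := x₀ ^ n₀ with hxdef
  set C := Subgroup.centralizer ({x₀} : Set G) with hC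
  have hCx : Subgroup.centralizer ({x} : Set G) = C := (cen_eq_of_le h hx₀ hx (cen_le_pow x₀ n₀)).symm
  have hxC : x ∈ C := hCx ▸ mem_cen_self x
  suffices hall : ∀ a ∈ C, C ≤ Subgroup.centralizer ({a} : Set G) by
    intro a ha b hb
    exact (Subgroup.mem_centralizer_singleton_iff.mp (hall a ha hb)).symm
  by_cases hex : ∃ c ∈ C, c ∉ Z ∧ ¬ p ∣ orderOf c
  · obtain ⟨c, hcC, hc, hcp⟩ := hex
    intro a ha
    obtain ⟨n, m, k, he, hk, hm⟩ := split p a
    have hpart : ∀ u ∈ C, (∃ j, orderOf u = p ^ j) ∨ ¬ p ∣ orderOf u → C ≤ Subgroup.centralizer ({u} : Set G) := by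
      intro u hu hcase
      by_cases huZ : u ∈ Z
      · exact fun g _ => Subgroup.mem_centralizer_singleton_iff.mpr (Subgroup.mem_center_iff.mp huZ g)
      rcases hcase with ⟨j, hj⟩ | hj
      · have hux : Commute x c := (Subgroup.mem_centralizer_singleton_iff.mp (hCx.ge hcC)).symm
        have hcC' : Subgroup.centralizer ({c} : Set G) = C := by
          rw [← mix h hx hc hux (by rw [hxo]; exact (hp.coprime_iff_not_dvd.mpr hcp).pow_left _), hCx]
        have huc : Commute u c := Subgroup.mem_centralizer_singleton_iff.mp (hcC'.ge hu)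
        rw [mix h huZ hc huc (by rw [hj]; exact (hp.coprime_iff_not_dvd.mpr hcp).pow_left _), hcC']
      · have hux : Commute x u := (Subgroup.mem_centralizer_singleton_iff.mp (hCx.ge hu)).symm
        rw [← mix h hx huZ hux (by rw [hxo]; exact (hp.coprime_iff_not_dvd.mpr hj).pow_left _), hCx]
    intro g hg
    rw [Subgroup.mem_centralizer_singleton_iff, he]
    exact ((show Commute g (a ^ n) from Subgroup.mem_centralizer_singleton_iff.mp (hpart _ (pow_mem ha n) (Or.inl ⟨k, hk⟩) hg)).mul_right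
      (show Commute g (a ^ m) from Subgroup.mem_centralizer_singleton_iff.mp (hpart _ (pow_mem ha m) (Or.inr hm) hg))).eq
  push Not at hex
  -- the elements of order prime to `p` of `C` are central
  have hcent : ∀ c ∈ C, ¬ p ∣ orderOf c → c ∈ Z := fun c hc hd => by
    by_contra hcZ; exact hd (hex c hc hcZ)
  haveI : Group.IsNilpotent C := by
    set N := Z.subgroupOf C
    haveI : N.Normal := inferInstance
    have hq : IsPGroup p (C ⧸ N) := by
      intro q
      obtain ⟨⟨d, hd⟩, rfl⟩ := QuotientGroup.mk'_surjective N q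
      obtain ⟨n, m, j, he, hj, hm⟩ := split p d
      refine ⟨j, ?_⟩
      rw [← map_pow]
      apply (QuotientGroup.eq_one_iff _).mpr
      show d ^ p ^ j ∈ Z
      have hc : Commute (d ^ n) (d ^ m) := Commute.pow_pow_self d n m
      rw [he, hc.mul_pow, ← hj, pow_orderOf_eq_one, one_mul]
      exact pow_mem (hcent _ (pow_mem hd m) hm) _
    haveI := hq.isNilpotent
    refine Subgroup.isNilpotent_of_ker_le_center (QuotientGroup.mk' N) ?_
    rw [QuotientGroup.ker_mk']
    intro y hy
    exact Subgroup.mem_center_iff.mpr fun g => Subtype.ext (Subgroup.mem_center_iff.mp (hy : (y : G) ∈ Z) g)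
  obtain ⟨P⟩ : Nonempty (Sylow p C) := inferInstance
  haveI hPn : (P : Subgroup C).Normal := Sylow.normal_of_normalizerCondition Group.normalizerCondition_of_isNilpotent P
  letI := P.unique_of_normal hPn
  set S := (P : Subgroup C).map C.subtype with hS
  have hSC : S ≤ C := Subgroup.map_subtype_le _
  have hSp : IsPGroup p S := P.2.map _
  have hmemS : ∀ u ∈ C, (∃ k, orderOf u = p ^ k) → u ∈ S := by
    intro u hu ⟨k, hk⟩
    obtain ⟨Q, hQ⟩ := (IsPGroup.of_card (n := k) (by rw [Nat.card_zpowers, Subgroup.orderOf_mk, hk]) : IsPGroup p (Subgroup.zpowers (⟨u, hu⟩ : C))).exists_le_sylow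
    rw [Subsingleton.elim Q P] at hQ
    exact ⟨_, hQ (Subgroup.mem_zpowers _), rfl⟩
  have hCS : C ≤ S ⊔ Z := fun d hd => by
    obtain ⟨n, m, j, he, hj, hm⟩ := split p d
    rw [he]
    exact Subgroup.mul_mem_sup (hmemS _ (pow_mem hd n) ⟨j, hj⟩) (hcent _ (pow_mem hd m) hm)
  have hZC : Z ≤ C := Subgroup.center_le_centralizer _
  have hNS : C ≤ Subgroup.normalizer (S : Set G) := by
    have h1 := Subgroup.le_normalizer_map (H := (P : Subgroup C)) C.subtype
    rw [Subgroup.normalizer_eq_top (H := (P : Subgroup C)), ← MonoidHom.range_eq_map, Subgroup.range_subtype] at h1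
    exact h1
  have hnotG : Subgroup.normalizer (S : Set G) = C := by
    rcases eq_or_lt_of_le hNS with he | hlt
    · exact he.symm
    · exfalso
      have htop := (h x₀ hx₀).2 _ hlt
      haveI : S.Normal := Subgroup.normalizer_eq_top_iff.mp htop
      exact hn (le_antisymm (sup_le hSC hZC) hCS ▸ inferInstance)
  obtain ⟨Pf, hPf⟩ := hSp.exists_le_sylow
  have hSeq : (Pf : Subgroup G) = S := by
    by_contra hne
    haveI : Group.IsNilpotent (Pf : Subgroup G) := Pf.2.isNilpotent
    have hlt : S.subgroupOf (Pf : Subgroup G) < Subgroup.normalizer ((S.subgroupOf (Pf : Subgroup G) : Subgroup (Pf : Subgroup G)) : Set (Pf : Subgroup G)) := by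
      refine Group.normalizerCondition_of_isNilpotent _ (lt_of_le_of_ne le_top fun he => hne (le_antisymm ?_ hPf))
      rw [← Subgroup.subgroupOf_eq_top]; exact he
    obtain ⟨⟨u, huP⟩, hu, hu'⟩ := SetLike.exists_of_lt hlt
    rw [← Subgroup.subgroupOf_normalizer_eq hPf] at hu
    have huC : u ∈ C := hnotG ▸ (hu : u ∈ Subgroup.normalizer (S : Set G))
    obtain ⟨k, hk⟩ := IsPGroup.iff_orderOf.mp Pf.2 ⟨u, huP⟩
    exact hu' (hmemS u huC ⟨k, by rw [← hk, Subgroup.orderOf_mk]⟩)
  have hxS : x ∈ S := hmemS x hxC ⟨k₀, hxo⟩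
  have hpow : ∀ u ∈ S, ∃ k, orderOf u = p ^ k := fun u hu => by
    obtain ⟨k, hk⟩ := IsPGroup.iff_orderOf.mp hSp ⟨u, hu⟩
    exact ⟨k, by rw [← hk, Subgroup.orderOf_mk]⟩
  -- the centraliser of a noncentral element of `S` is a conjugate of `C`
  have hwconj : ∀ w ∈ S, w ∉ Z → ∃ g : G, Subgroup.centralizer ({w} : Set G) = C.map (MulAut.conj g).toMonoidHom := by
    intro w hw hwZ
    obtain ⟨kw, hkw⟩ := hpow w hw
    set W := Subgroup.centralizer ({w} : Set G)
    have hnoP : ∀ y ∈ W, ¬ p ∣ orderOf y → y ∈ Z := by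
      intro y hy hyp
      by_contra hyZ
      have hwy : Commute w y := (Subgroup.mem_centralizer_singleton_iff.mp hy).symm
      have heq := mix h hwZ hyZ hwy (by rw [hkw]; exact (hp.coprime_iff_not_dvd.mpr hyp).pow_left _)
      have hxw : x ∈ W := Subgroup.mem_centralizer_singleton_iff.mpr
        (Subgroup.mem_centralizer_singleton_iff.mp (hCx.ge (hSC hw))).symm
      rw [show W = Subgroup.centralizer ({y} : Set G) from heq] at hxw
      exact hyZ (hcent y (hCx ▸ Subgroup.mem_centralizer_singleton_iff.mpr (Subgroup.mem_centralizer_singleton_iff.mp hxw).symm) hyp)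
    obtain ⟨T⟩ : Nonempty (Sylow p W) := inferInstance
    obtain ⟨Q, hQ⟩ := (T.2.map W.subtype).exists_le_sylow
    obtain ⟨g, hg⟩ := MulAction.exists_smul_eq G Pf Q
    have hQS : (Q : Subgroup G) = S.map (MulAut.conj g).toMonoidHom := by
      rw [← hg, Sylow.coe_subgroup_smul, hSeq]; rfl
    refine ⟨g, ?_⟩
    have hle : W ≤ C.map (MulAut.conj g).toMonoidHom := by
      have hWtop : (C.map (MulAut.conj g).toMonoidHom).subgroupOf W = ⊤ := by
        refine Cfsg.Agent.Cores.eq_top_of_sylow_le fun q hq _ => ?_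
        haveI : Fact q.Prime := ⟨hq⟩
        by_cases hqp : q = p
        · subst hqp
          exact ⟨T, fun t ht => Subgroup.map_mono hSC (hQS ▸ hQ ⟨t, ht, rfl⟩)⟩
        · obtain ⟨U⟩ : Nonempty (Sylow q W) := inferInstance
          refine ⟨U, fun t ht => ?_⟩
          obtain ⟨j, hj⟩ := IsPGroup.iff_orderOf.mp U.2 ⟨t, ht⟩
          rw [Subgroup.orderOf_mk, ← Subgroup.orderOf_coe] at hj
          have htZ := hnoP (t : G) t.2 (by rw [hj]; exact fun hd => hqp ((Nat.prime_dvd_prime_iff_eq hp hq).mp (hp.dvd_of_dvd_pow hd)).symm)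
          exact ⟨(t : G), hZC htZ, by
            show g * (t : G) * g⁻¹ = (t : G)
            rw [Subgroup.mem_center_iff.mp htZ g, mul_inv_cancel_right]⟩
      exact Subgroup.subgroupOf_eq_top.mp hWtop
    rw [map_conj_cen] at hle ⊢
    exact cen_eq_of_le h hwZ (center_conj hx₀) hle
  -- so `S` is abelian
  have hSab : ∀ a ∈ S, ∀ b ∈ S, a * b = b * a := by
    by_contra hna
    haveI : Group.IsNilpotent S := hSp.isNilpotent
    set Z1 := Subgroup.center S
    have hne : Z1 ≠ ⊤ := fun he => hna fun a ha b hb =>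
      congrArg Subtype.val (Subgroup.mem_center_iff.mp (he ▸ Subgroup.mem_top (⟨b, hb⟩ : S)) ⟨a, ha⟩)
    haveI : Nontrivial (S ⧸ Z1) := QuotientGroup.nontrivial_iff.mpr hne
    obtain ⟨⟨q, hq⟩, hq1⟩ := Subgroup.ne_bot_iff_exists_ne_one.mp (Group.IsNilpotent.center_ne_bot (G := S ⧸ Z1))
    obtain ⟨⟨w, hw⟩, rfl⟩ := QuotientGroup.mk'_surjective Z1 q
    have hwc : (⟨w, hw⟩ : S) ∉ Z1 := fun hh => hq1 (Subtype.ext ((QuotientGroup.eq_one_iff _).mpr hh))
    have hw2 : ∀ t : S, t * ⟨w, hw⟩ * t⁻¹ * (⟨w, hw⟩ : S)⁻¹ ∈ Z1 := fun t => by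
      rw [← QuotientGroup.eq_one_iff]
      show QuotientGroup.mk' Z1 _ = 1
      rw [map_mul, map_mul, map_mul, map_inv, map_inv, Subgroup.mem_center_iff.mp hq (QuotientGroup.mk' Z1 t), mul_inv_cancel_right, mul_inv_cancel]
    have hwZ : w ∉ Z := fun hh => hwc (Subgroup.mem_center_iff.mpr fun t => Subtype.ext (Subgroup.mem_center_iff.mp hh t))
    obtain ⟨g, hg⟩ := hwconj w hw hwZ
    set Sg := S.map (MulAut.conj g).toMonoidHom
    have hmemSg : ∀ u ∈ Subgroup.centralizer ({w} : Set G), (∃ k, orderOf u = p ^ k) → u ∈ Sg := by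
      intro u hu ⟨k, hk⟩
      rw [hg] at hu
      obtain ⟨c, hc, rfl⟩ := hu
      refine ⟨c, hmemS c hc ⟨k, ?_⟩, rfl⟩
      rwa [MulEquiv.coe_toMonoidHom, MulEquiv.orderOf_eq] at hk
    set D := S ⊓ Subgroup.centralizer ({w} : Set G) with hD
    have hDSg : D ≤ Sg := fun u hu => hmemSg u hu.2 (hpow u hu.1)
    have hgC : g ∉ C := by
      intro hgC
      apply hwc
      rw [Subgroup.mem_center_iff]
      intro t
      have hm : (t : G) ∈ Subgroup.centralizer ({w} : Set G) := by
        rw [hg]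
        erw [Subgroup.mem_map_equiv]
        exact C.mul_mem (C.mul_mem (C.inv_mem hgC) (hSC t.2)) hgC
      exact Subtype.ext (Subgroup.mem_centralizer_singleton_iff.mp hm)
    have hSgne : ¬ Sg ≤ D := by
      intro hle
      apply hgC
      rw [← hnotG, Subgroup.mem_normalizer_iff_map_conj_eq]
      exact Subgroup.eq_of_le_of_card_ge (hle.trans inf_le_left) (Subgroup.card_map_of_injective (f := (MulAut.conj g).toMonoidHom) (MulAut.conj g).injective).symm.le
    have hND : C ≤ Subgroup.normalizer (D : Set G) := by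
      refine hCS.trans (sup_le (fun t ht => ?_) (Subgroup.center_le_normalizer _))
      rw [Subgroup.mem_normalizer_iff_map_conj_eq]
      refine Subgroup.eq_of_le_of_card_ge ?_ (by rw [Subgroup.card_map_of_injective (MulAut.conj t).injective])
      rintro _ ⟨d, ⟨hdS, hdw⟩, rfl⟩
      refine ⟨S.mul_mem (S.mul_mem ht hdS) (S.inv_mem ht), ?_⟩
      show t * d * t⁻¹ ∈ Subgroup.centralizer ({w} : Set G)
      rw [Subgroup.mem_centralizer_singleton_iff]
      show t * d * t⁻¹ * w = w * (t * d * t⁻¹)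
      set T : S := ⟨t, ht⟩
      set c := T⁻¹ * ⟨w, hw⟩ * T⁻¹⁻¹ * (⟨w, hw⟩ : S)⁻¹ with hc
      have hcc := Subgroup.mem_center_iff.mp (hw2 T⁻¹) ⟨d, hdS⟩
      have hw' : t⁻¹ * w * t = (c : G) * w := by
        show t⁻¹ * w * t = t⁻¹ * w * t⁻¹⁻¹ * w⁻¹ * w
        group
      have hcc' : d * (c : G) = (c : G) * d := congrArg Subtype.val hcc
      calc t * d * t⁻¹ * w = t * (d * (t⁻¹ * w * t)) * t⁻¹ := by group
        _ = t * ((d * (c : G)) * w) * t⁻¹ := by rw [hw', ← mul_assoc d]
        _ = t * ((c : G) * (d * w)) * t⁻¹ := by rw [hcc', mul_assoc (c : G)]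
        _ = t * ((c : G) * w * d) * t⁻¹ := by rw [Subgroup.mem_centralizer_singleton_iff.mp hdw, mul_assoc (c : G)]
        _ = w * (t * d * t⁻¹) := by rw [← hw']; group
    obtain ⟨u, ⟨huSg, huN⟩, huD⟩ : ∃ u, (u ∈ Sg ∧ u ∈ Subgroup.normalizer (D : Set G)) ∧ u ∉ D := by
      haveI : Group.IsNilpotent Sg := (hSp.map _).isNilpotent
      have hlt : D.subgroupOf Sg < Subgroup.normalizer ((D.subgroupOf Sg : Subgroup Sg) : Set Sg) :=
        Group.normalizerCondition_of_isNilpotent _ (lt_of_le_of_ne le_top fun he => hSgne (Subgroup.subgroupOf_eq_top.mp he))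
      obtain ⟨⟨u, huS⟩, hu, hu'⟩ := SetLike.exists_of_lt hlt
      rw [← Subgroup.subgroupOf_normalizer_eq hDSg] at hu
      exact ⟨u, ⟨huS, hu⟩, hu'⟩
    have huw : u ∈ Subgroup.centralizer ({w} : Set G) := hg ▸ Subgroup.map_mono hSC huSg
    have htop : Subgroup.normalizer (D : Set G) = ⊤ := by
      rcases eq_or_lt_of_le hND with he | hlt
      · exfalso
        obtain ⟨c, hc, hcu⟩ := huSg
        refine huD ⟨hmemS u (he ▸ huN) ?_, huw⟩
        obtain ⟨k, hk⟩ := hpow c hc
        exact ⟨k, by rw [← hcu, MulEquiv.coe_toMonoidHom, MulEquiv.orderOf_eq, hk]⟩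
      · exact (h x₀ hx₀).2 _ hlt
    haveI hDn : D.Normal := Subgroup.normalizer_eq_top_iff.mp htop
    set K := Subgroup.centralizer (D : Set G)
    have hxD : x ∈ D := ⟨hxS, Subgroup.mem_centralizer_singleton_iff.mpr
      (Subgroup.mem_centralizer_singleton_iff.mp (hCx.ge (hSC hw))).symm⟩
    have hKC : K ≤ C := fun k hk => hCx.le (Subgroup.mem_centralizer_singleton_iff.mpr (Subgroup.mem_centralizer_iff.mp hk x hxD).symm)
    have hSK : S ≤ K := fun v hv => by
      by_cases hvZ : v ∈ Z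
      · exact Subgroup.mem_centralizer_iff.mpr fun d _ => Subgroup.mem_center_iff.mp hvZ d
      obtain ⟨g', hg'⟩ := hwconj v hv hvZ
      refine Subgroup.mem_centralizer_iff.mpr fun d hd => ?_
      have hdv : d ∈ Subgroup.centralizer ({v} : Set G) := by
        rw [hg']
        erw [Subgroup.mem_map_equiv]
        have := hDn.conj_mem d hd g'⁻¹
        rw [inv_inv] at this
        exact hSC this.1
      exact Subgroup.mem_centralizer_singleton_iff.mp hdv
    have hSn : S.Normal := ⟨fun v hv g' => by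
      refine hmemS _ (hKC ((inferInstance : K.Normal).conj_mem v (hSK hv) g')) ?_
      obtain ⟨k, hk⟩ := hpow v hv
      exact ⟨k, by rw [Cfsg.Agent.Involutions.Basic.orderOf_conj, hk]⟩⟩
    haveI := hSn
    exact hn (le_antisymm (sup_le hSC hZC) hCS ▸ inferInstance)
  intro a ha g hg
  rw [Subgroup.mem_centralizer_singleton_iff]
  have hcomm : ∀ u ∈ S ⊔ Z, ∀ v ∈ S ⊔ Z, u * v = v * u := by
    intro u hu v hv
    obtain ⟨s1, hs1, z1, hz1, rfl⟩ := Subgroup.mem_sup_of_normal_right.mp hu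
    obtain ⟨s2, hs2, z2, hz2, rfl⟩ := Subgroup.mem_sup_of_normal_right.mp hv
    have e1 := Subgroup.mem_center_iff.mp hz1
    have e2 := Subgroup.mem_center_iff.mp hz2
    calc s1 * z1 * (s2 * z2) = s1 * (z1 * s2) * z2 := by group
      _ = s1 * s2 * (z1 * z2) := by rw [← e1 s2]; group
      _ = s2 * s1 * (z2 * z1) := by rw [hSab _ hs1 _ hs2, e2 z1]
      _ = s2 * (s1 * z2) * z1 := by group
      _ = _ := by rw [e2 s1]; group
  exact hcomm g (hCS hg) a (hCS ha)

end

/-- Let G be a non-abelian finite group in which the centralizer of every non-central element is a maximal subgroup. Then G/Z(G) is either an elementary abelian p-group for some prime p, or a minimal non-abelian group (non-abelian with all proper subgroups abelian) of order p^a · q for distinct primes p, q with a normal Sylow p-subgroup. -/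
theorem result {G : Type*} [Group G] [Finite G] (hna : ¬ IsMulCommutative G)
    (h : ∀ x : G, x ∉ Subgroup.center G → IsCoatom (Subgroup.centralizer ({x} : Set G))) :
    (∃ p : ℕ, p.Prime ∧ Cfsg.IsElementaryAbelian p (⊤ : Subgroup (G ⧸ Subgroup.center G))) ∨
    (¬ IsMulCommutative (G ⧸ Subgroup.center G) ∧ (∀ H : Subgroup (G ⧸ Subgroup.center G), H ≠ ⊤ → IsMulCommutative ↥H) ∧
      ∃ p q a : ℕ, p.Prime ∧ q.Prime ∧ p ≠ q ∧ Nat.card (G ⧸ Subgroup.center G) = p ^ a * q ∧
        ∀ P : Subgroup (G ⧸ Subgroup.center G), Nat.card ↥P = p ^ a → P.Normal) := by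
  classical
  set Z := Subgroup.center G
  set π := QuotientGroup.mk' Z with hπ
  have hsur := QuotientGroup.mk'_surjective Z
  have hπ1 : ∀ g : G, π g = 1 ↔ g ∈ Z := fun g => QuotientGroup.eq_one_iff g
  obtain ⟨a₀, ha₀⟩ : ∃ a₀ : G, a₀ ∉ Z := by
    by_contra hall
    push Not at hall
    exact hna ⟨⟨fun a b => (Subgroup.mem_center_iff.mp (hall b) a)⟩⟩
  by_cases hex : ∃ x₀ : G, x₀ ∉ Z ∧ ¬ (Subgroup.centralizer ({x₀} : Set G)).Normal
  · right
    obtain ⟨x₀, hx₀, hn⟩ := hex
    set C := Subgroup.centralizer ({x₀} : Set G) with hC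
    have hCm := h x₀ hx₀
    have hab := comm_of_nonnormal h hx₀ hn
    have hZC : Z ≤ C := Subgroup.center_le_centralizer _
    have hCnorm : Subgroup.normalizer (C : Set G) = C := by
      rcases eq_or_lt_of_le (Subgroup.le_normalizer (H := C)) with he | hlt
      · exact he.symm
      · exact absurd (Subgroup.normalizer_eq_top_iff.mp (hCm.2 _ hlt)) hn
    have hTI : ∀ g : G, g ∉ C → ∀ c ∈ C, g * c * g⁻¹ ∈ C → c ∈ Z := by
      intro g hg c hc hgc
      have hle1 : C ≤ Subgroup.centralizer ({g * c * g⁻¹} : Set G) := fun y hy =>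
        Subgroup.mem_centralizer_singleton_iff.mpr (hab y hy _ hgc)
      have hle2 : C.map (MulAut.conj g).toMonoidHom ≤ Subgroup.centralizer ({g * c * g⁻¹} : Set G) := by
        rw [← map_conj_cen]
        exact Subgroup.map_mono fun y hy => Subgroup.mem_centralizer_singleton_iff.mpr (hab y hy c hc)
      rcases eq_or_lt_of_le hle1 with he | hlt
      · exfalso
        apply hg
        rw [← hCnorm, Subgroup.mem_normalizer_iff_map_conj_eq]
        exact Subgroup.eq_of_le_of_card_ge (hle2.trans he.ge) (by rw [Subgroup.card_map_of_injective (MulAut.conj g).injective])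
      · have htop := hCm.2 _ hlt
        by_contra hcZ
        exact (h _ (center_conj hcZ)).1 htop
    set Cb := C.map π with hCb
    have hcomap : Cb.comap π = C := by
      rw [hCb, Subgroup.comap_map_eq, QuotientGroup.ker_mk', sup_eq_left.mpr hZC]
    have hfrob : Cfsg.IsFrobeniusComplement Cb := by
      refine ⟨?_, ?_, ?_⟩
      · rw [Ne, hCb, Subgroup.map_eq_bot_iff, QuotientGroup.ker_mk']
        exact fun hle => hx₀ (hle (mem_cen_self x₀))
      · intro he
        rw [he, Subgroup.comap_top] at hcomap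
        exact hCm.1 hcomap.symm
      · intro gb hgb
        obtain ⟨g, rfl⟩ := hsur gb
        have hg : g ∉ C := fun hh => hgb ⟨g, hh, rfl⟩
        rw [eq_bot_iff]
        rintro y ⟨hy1, ⟨y', hy', rfl⟩⟩
        obtain ⟨c, hc, rfl⟩ := hy'
        simp only [MulDistribMulAction.toMonoidEnd_apply, MulDistribMulAction.toMonoidHom_apply, MulAut.smul_def, MulAut.conj_apply] at hy1 ⊢
        rw [← map_inv, ← map_mul, ← map_mul] at hy1 ⊢
        have hm : g * c * g⁻¹ ∈ C := hcomap ▸ (hy1 : g * c * g⁻¹ ∈ Cb.comap π)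
        rw [Subgroup.mem_bot, hπ1]
        exact Subgroup.Normal.conj_mem inferInstance c (hTI g hg c hc hm) g
    obtain ⟨K, hK, hKn, hKC⟩ := Cfsg.Agent.Characters.frobenius_kernel_theorem hfrob
    haveI := hKn
    set Kg := K.comap π with hKg
    have hKmem : ∀ y : G, y ∈ Kg → y ∉ Z → ∀ g : G, y ∉ C.map (MulAut.conj g).toMonoidHom := by
      intro y hy hyZ g hyg
      have hy' : π y ∈ (K : Set (G ⧸ Z)) := hy
      rw [hK] at hy'
      rcases hy' with h1 | h1
      · exact hyZ ((hπ1 y).mp h1)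
      · refine h1 (π g) ?_
        obtain ⟨c, hc, rfl⟩ := hyg
        exact ⟨π c, ⟨c, hc, rfl⟩, by simp⟩
    have hKcov : ∀ y : G, y ∉ Kg → ∃ g : G, y ∈ C.map (MulAut.conj g).toMonoidHom := by
      intro y hy
      have hy' : π y ∉ (K : Set (G ⧸ Z)) := hy
      rw [hK] at hy'
      have hy'' : ¬ (π y = 1 ∨ ∀ g : G ⧸ Z, π y ∉ MulAut.conj g • Cb) := hy'
      push Not at hy''
      obtain ⟨-, gb, ⟨z, ⟨c, hc, rfl⟩, hgz⟩⟩ := hy''
      obtain ⟨g, rfl⟩ := hsur gb
      have he : (g * c * g⁻¹)⁻¹ * y ∈ Z := by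
        rw [← hπ1, map_mul, map_inv, map_mul, map_mul, map_inv, ← hgz]; exact inv_mul_cancel _
      refine ⟨g, ?_⟩
      have hz : (g * c * g⁻¹)⁻¹ * y ∈ C.map (MulAut.conj g).toMonoidHom :=
        ⟨(g * c * g⁻¹)⁻¹ * y, hZC he, by
          show g * ((g * c * g⁻¹)⁻¹ * y) * g⁻¹ = (g * c * g⁻¹)⁻¹ * y
          rw [Subgroup.mem_center_iff.mp he g, mul_inv_cancel_right]⟩
      have := Subgroup.mul_mem _ (⟨c, hc, rfl⟩ : g * c * g⁻¹ ∈ C.map (MulAut.conj g).toMonoidHom) hz
      rwa [mul_inv_cancel_left] at this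
    -- centralisers of kernel elements equal the kernel
    have hcK : ∀ k ∈ Kg, k ∉ Z → Subgroup.centralizer ({k} : Set G) = Kg := by
      intro k hk hkZ
      have hle : Subgroup.centralizer ({k} : Set G) ≤ Kg := by
        intro y hy
        by_contra hyK
        obtain ⟨g, hyg⟩ := hKcov y hyK
        rw [map_conj_cen] at hyg
        have hyZ : y ∉ Z := fun hz => hyK (show π y ∈ K by rw [(hπ1 y).mpr hz]; exact one_mem K)
        have hle' : Subgroup.centralizer ({g * x₀ * g⁻¹} : Set G) ≤ Subgroup.centralizer ({y} : Set G) := by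
          rw [← map_conj_cen]
          rintro _ ⟨c, hc, rfl⟩
          rw [← map_conj_cen] at hyg
          obtain ⟨d, hd, rfl⟩ := hyg
          refine Subgroup.mem_centralizer_singleton_iff.mpr ?_
          rw [← map_mul, ← map_mul, hab c hc d hd]
        have heq := cen_eq_of_le h (center_conj hx₀) hyZ hle'
        refine hKmem k hk hkZ g ?_
        rw [map_conj_cen, heq]
        exact Subgroup.mem_centralizer_singleton_iff.mpr (Subgroup.mem_centralizer_singleton_iff.mp hy).symm
      rcases eq_or_lt_of_le hle with he | hlt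
      · exact he
      · exfalso
        have htop := (h k hkZ).2 _ hlt
        obtain ⟨c, hc, hcZ⟩ : ∃ c ∈ C, c ∉ Z := ⟨x₀, mem_cen_self x₀, hx₀⟩
        exact hKmem c (htop ▸ Subgroup.mem_top c) hcZ 1 ⟨c, hc, by simp⟩
    obtain ⟨k₁, hk₁, hk₁Z⟩ : ∃ k ∈ Kg, k ∉ Z := by
      by_contra hall
      push Not at hall
      have hKbot : K = ⊥ := eq_bot_iff.mpr fun y hy => by
        obtain ⟨y, rfl⟩ := hsur y
        rw [Subgroup.mem_bot, hπ1]
        exact hall y hy
      rw [hKbot, Subgroup.isComplement'_bot_left] at hKC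
      exact hfrob.2.1 hKC
    have hKcoatom : IsCoatom Kg := hcK k₁ hk₁ hk₁Z ▸ h k₁ hk₁Z
    have hKab : ∀ a ∈ Kg, ∀ b ∈ Kg, a * b = b * a := by
      intro a ha b hb
      by_cases hbZ : b ∈ Z
      · exact Subgroup.mem_center_iff.mp hbZ a
      · exact Subgroup.mem_centralizer_singleton_iff.mp ((hcK b hb hbZ).ge ha)
    have hKc : IsCoatom K := by
      refine ⟨fun he => hKcoatom.1 (by rw [hKg, he, Subgroup.comap_top]), fun L hL => ?_⟩
      have := hKcoatom.2 (L.comap π) ((Subgroup.comap_lt_comap_of_surjective hsur).mpr hL)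
      rw [← Subgroup.map_comap_eq_self_of_surjective hsur L, this, Subgroup.map_top_of_surjective π hsur]
    have hCc : IsCoatom Cb := by
      refine ⟨hfrob.2.1, fun L hL => ?_⟩
      have := hCm.2 (L.comap π) (lt_of_eq_of_lt hcomap.symm ((Subgroup.comap_lt_comap_of_surjective hsur).mpr hL))
      rw [← Subgroup.map_comap_eq_self_of_surjective hsur L, this, Subgroup.map_top_of_surjective π hsur]
    have hKne : K ≠ ⊥ := fun he => by
      rw [he, Subgroup.isComplement'_bot_left] at hKC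
      exact hfrob.2.1 hKC
    -- the complement has prime order
    obtain ⟨q, hq, hqd⟩ := Nat.exists_prime_and_dvd (n := Nat.card Cb) fun he => hfrob.1 (Subgroup.card_eq_one.mp he)
    haveI : Fact q.Prime := ⟨hq⟩
    obtain ⟨⟨cb, hcb⟩, hco⟩ := exists_prime_orderOf_dvd_card' q hqd
    rw [Subgroup.orderOf_mk] at hco
    have hdisj := hKC.disjoint
    have hcbtop : K ⊔ Subgroup.zpowers cb = ⊤ := by
      refine hKc.2 _ (lt_of_le_of_ne le_sup_left fun he => ?_)
      have hmem : cb ∈ K := he ▸ Subgroup.mem_sup_right (Subgroup.mem_zpowers cb)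
      have : cb = 1 := Subgroup.mem_bot.mp (hdisj.eq_bot ▸ ⟨hmem, hcb⟩)
      rw [this, orderOf_one] at hco
      exact hq.ne_one hco.symm
    have hCeq : Cb = Subgroup.zpowers cb := by
      refine le_antisymm (fun y hy => ?_) (Subgroup.zpowers_le.mpr hcb)
      obtain ⟨k, hk, z, hz, rfl⟩ := Subgroup.mem_sup_of_normal_left.mp (hcbtop ▸ Subgroup.mem_top y : y ∈ K ⊔ Subgroup.zpowers cb)
      have hk1 : k ∈ Cb := by simpa using Cb.mul_mem hy (Cb.inv_mem (Subgroup.zpowers_le.mpr hcb hz))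
      rw [Subgroup.mem_bot.mp (hdisj.eq_bot ▸ ⟨hk, hk1⟩ : k ∈ (⊥ : Subgroup _)), one_mul]
      exact hz
    have hCq : Nat.card Cb = q := by rw [hCeq, Nat.card_zpowers, hco]
    -- the kernel is elementary
    have hKbab : ∀ a ∈ K, ∀ b ∈ K, a * b = b * a := by
      intro a ha b hb
      obtain ⟨a, rfl⟩ := hsur a
      obtain ⟨b, rfl⟩ := hsur b
      rw [← map_mul, ← map_mul, hKab a ha b hb]
    have hcard : Nat.card (G ⧸ Z) = Nat.card K * q := by rw [← hCq]; exact hKC.card_mul.symm
    obtain ⟨p, hp, hpd⟩ := Nat.exists_prime_and_dvd (n := Nat.card K) fun he => hKne (Subgroup.card_eq_one.mp he)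
    haveI : Fact p.Prime := ⟨hp⟩
    let E : Subgroup (G ⧸ Z) :=
      { carrier := {y | y ∈ K ∧ y ^ p = 1}
        one_mem' := ⟨K.one_mem, one_pow p⟩
        mul_mem' := fun {u v} hu hv => ⟨K.mul_mem hu.1 hv.1, by
          rw [(show Commute u v from hKbab u hu.1 v hv.1).mul_pow, hu.2, hv.2, one_mul]⟩
        inv_mem' := fun {u} hu => ⟨K.inv_mem hu.1, by rw [inv_pow, hu.2, inv_one]⟩ }
    haveI hEn : E.Normal := ⟨fun y hy g => ⟨hKn.conj_mem y hy.1 g, by rw [conj_pow, hy.2, mul_one, mul_inv_cancel]⟩⟩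
    have hEne : E ≠ ⊥ := by
      obtain ⟨⟨y, hy⟩, hyo⟩ := exists_prime_orderOf_dvd_card' p hpd
      rw [Subgroup.orderOf_mk] at hyo
      intro he
      have : y ∈ E := ⟨hy, by rw [← hyo, pow_orderOf_eq_one]⟩
      rw [he, Subgroup.mem_bot] at this
      rw [this, orderOf_one] at hyo
      exact hp.ne_one hyo.symm
    have hEK : ∀ y ∈ K, y ^ p = 1 := by
      have hsup : E ⊔ Cb = ⊤ := by
        refine hCc.2 _ (lt_of_le_of_ne le_sup_right fun he => hEne (eq_bot_iff.mpr fun y hy => ?_))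
        exact hdisj.eq_bot ▸ ⟨hy.1, he ▸ Subgroup.mem_sup_left hy⟩
      intro y hy
      obtain ⟨e, he, z, hz, rfl⟩ := Subgroup.mem_sup_of_normal_left.mp (hsup ▸ Subgroup.mem_top y : y ∈ E ⊔ Cb)
      have hzK : z ∈ K := by simpa using K.mul_mem (K.inv_mem he.1) hy
      rw [Subgroup.mem_bot.mp (hdisj.eq_bot ▸ ⟨hzK, hz⟩ : z ∈ (⊥ : Subgroup _)), mul_one]
      exact he.2
    have hKp : IsPGroup p K := fun y => ⟨1, Subtype.ext (by rw [pow_one]; exact hEK y y.2)⟩
    obtain ⟨a, ha⟩ := hKp.exists_card_eq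
    have hqp : p ≠ q := by
      intro hpq
      subst hpq
      haveI : Group.IsNilpotent (G ⧸ Z) := (IsPGroup.of_card (n := a + 1) (by rw [hcard, ha, pow_succ]) : IsPGroup p (G ⧸ Z)).isNilpotent
      have hnorm : Cb.Normal := Subgroup.NormalizerCondition.normal_of_coatom Cb Group.normalizerCondition_of_isNilpotent hCc
      exact hn (hcomap ▸ hnorm.comap π)
    refine ⟨fun hcm => ?_, fun H hH => ?_, p, q, a, hp, hq, hqp, by rw [hcard, ha], fun P hP => ?_⟩
    · have hnorm : Cb.Normal := ⟨fun y hy g => by rw [hcm.is_comm.comm g y, mul_inv_cancel_right]; exact hy⟩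
      exact hn (hcomap ▸ hnorm.comap π)
    · by_cases hHK : H ≤ K
      · exact ⟨⟨fun u v => Subtype.ext (hKbab u (hHK u.2) v (hHK v.2))⟩⟩
      obtain ⟨y, hyH, hyK⟩ := SetLike.not_le_iff_exists.mp hHK
      have hy' : y ∉ (K : Set (G ⧸ Z)) := hyK
      rw [hK] at hy'
      have hy'' : ¬ (y = 1 ∨ ∀ g : G ⧸ Z, y ∉ MulAut.conj g • Cb) := hy'
      push Not at hy''
      obtain ⟨hy1, g, hg⟩ := hy''
      set Cg := MulAut.conj g • Cb with hCg
      have hcg : Cg = Cb.map (MulAut.conj g).toMonoidHom := rfl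
      have hCgcard : Nat.card Cg = q := by
        rw [hcg, Subgroup.card_map_of_injective (MulAut.conj g).injective, hCq]
      have hyC : Subgroup.zpowers y = Cg := by
        refine Subgroup.eq_of_le_of_card_ge (Subgroup.zpowers_le.mpr hg) ?_
        rw [hCgcard, Nat.card_zpowers]
        exact ((Nat.dvd_prime hq).mp (hCgcard ▸ Subgroup.orderOf_dvd_natCard Cg hg)).resolve_left
          (fun h1 => hy1 (orderOf_eq_one_iff.mp h1)) |>.ge
      have hHeq : H = Cg := by
        rcases eq_or_lt_of_le (hyC ▸ Subgroup.zpowers_le.mpr hyH : Cg ≤ H) with he | hlt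
        · exact he.symm
        · exfalso
          apply hH
          have hlt' := Subgroup.map_lt_map_iff_of_injective (f := (MulAut.conj g).symm.toMonoidHom) (MulAut.conj g).symm.injective |>.mpr hlt
          rw [hcg, Subgroup.map_map] at hlt'
          have hid : (MulAut.conj g).symm.toMonoidHom.comp (MulAut.conj g).toMonoidHom = MonoidHom.id (G ⧸ Z) := by
            ext z; simp
          rw [hid, Subgroup.map_id] at hlt'
          have := hCc.2 _ hlt'
          have hid' : (MulAut.conj g).toMonoidHom.comp (MulAut.conj g).symm.toMonoidHom = MonoidHom.id (G ⧸ Z) := by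
            ext z; simp
          rw [← Subgroup.map_id H, ← hid', ← Subgroup.map_map, this]
          exact Subgroup.map_top_of_surjective _ (MulAut.conj g).surjective
      rw [hHeq]
      haveI : IsCyclic Cg := isCyclic_of_prime_card hCgcard
      exact IsCyclic.commutative
    · suffices P = K from this ▸ hKn
      have hPp : IsPGroup p P := IsPGroup.of_card hP
      refine Subgroup.eq_of_le_of_card_ge (fun y hy => ?_) (by rw [hP, ha])
      obtain ⟨j, hj⟩ := IsPGroup.iff_orderOf.mp hPp ⟨y, hy⟩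
      rw [Subgroup.orderOf_mk] at hj
      rw [← QuotientGroup.eq_one_iff]
      apply orderOf_eq_one_iff.mp
      refine Nat.eq_one_of_dvd_coprimes (((Nat.coprime_primes hp hq).mpr hqp).pow_left j) (hj ▸ orderOf_map_dvd (QuotientGroup.mk' K) y) ?_
      refine (orderOf_dvd_natCard _).trans ?_
      rw [Nat.card_congr (Equiv.refl _)]
      have h1 := Subgroup.card_eq_card_quotient_mul_card_subgroup K
      rw [hcard, mul_comm] at h1
      exact (Nat.eq_of_mul_eq_mul_right Nat.card_pos h1).symm.dvd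
  · left
    push Not at hex
    have hcomm : ∀ a b : G, ⁅a, b⁆ ∈ Z := by
      intro a b
      rw [Subgroup.mem_center_iff]
      intro y
      by_cases hy : y ∈ Z
      · exact (Subgroup.mem_center_iff.mp hy _).symm
      · haveI := hex y hy
        obtain ⟨q, hq, hqi⟩ : ∃ q : ℕ, q.Prime ∧ (Subgroup.centralizer ({y} : Set G)).index = q :=
          ⟨_, Cfsg.Agent.Solvable.Basics.index_prime_of_normal_coatom (h y hy), rfl⟩
        haveI : Fact q.Prime := ⟨hq⟩
        haveI : IsCyclic (G ⧸ Subgroup.centralizer ({y} : Set G)) := isCyclic_of_prime_card (p := q) hqi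
        have hm : ⁅a, b⁆ ∈ Subgroup.centralizer ({y} : Set G) := by
          rw [← QuotientGroup.eq_one_iff]
          show QuotientGroup.mk' _ ⁅a, b⁆ = 1
          rw [map_commutatorElement, commutatorElement_eq_one_iff_mul_comm]
          exact mul_comm' _ _
        exact (Subgroup.mem_centralizer_singleton_iff.mp hm).symm
    have hord : ∀ x : G, x ∉ Z → ∃ q : ℕ, q.Prime ∧ x ^ q ∈ Z := by
      intro x hx
      haveI := hex x hx
      set C := Subgroup.centralizer ({x} : Set G)
      obtain ⟨q, hq, hqi⟩ : ∃ q : ℕ, q.Prime ∧ C.index = q :=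
        ⟨_, Cfsg.Agent.Solvable.Basics.index_prime_of_normal_coatom (h x hx), rfl⟩
      refine ⟨q, hq, Subgroup.mem_center_iff.mpr fun y => ?_⟩
      -- `[y, x^q] = [y, x]^q = [y^q, x] = 1`
      set c := ⁅y, x⁆ with hc
      have hcz := Subgroup.mem_center_iff.mp (hcomm y x)
      have h1 : y * x * y⁻¹ = c * x := by rw [hc, commutatorElement_def]; group
      have h2 : ∀ n : ℕ, y ^ n * x * (y ^ n)⁻¹ = c ^ n * x := by
        intro n
        induction n with
        | zero => simp
        | succ n ih =>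
          calc y ^ (n + 1) * x * (y ^ (n + 1))⁻¹ = y * (y ^ n * x * (y ^ n)⁻¹) * y⁻¹ := by
                rw [pow_succ']; group
            _ = (y * c ^ n) * x * y⁻¹ := by rw [ih]; group
            _ = c ^ n * (y * x * y⁻¹) := by rw [((show Commute y c from hcz y).pow_right n).eq]; group
            _ = c ^ (n + 1) * x := by rw [h1, pow_succ, mul_assoc]
      have hcq : c ^ q = 1 := by
        have h3 := h2 q
        rw [Subgroup.mem_centralizer_singleton_iff.mp (hqi ▸ C.pow_index_mem y : y ^ q ∈ C), mul_inv_cancel_right] at h3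
        exact mul_eq_right.mp h3.symm
      have h4 : y * x ^ q * y⁻¹ = x ^ q := by
        rw [← conj_pow, h1, (show Commute c x from (hcz x).symm).mul_pow, hcq, one_mul]
      exact mul_inv_eq_iff_eq_mul.mp h4
    obtain ⟨p, hp, hpa⟩ := hord a₀ ha₀
    haveI : Fact p.Prime := ⟨hp⟩
    have hab : ∀ u v : G ⧸ Z, u * v = v * u := by
      intro u v
      obtain ⟨a, rfl⟩ := hsur u
      obtain ⟨b, rfl⟩ := hsur v
      rw [← commutatorElement_eq_one_iff_mul_comm, ← map_commutatorElement]
      exact (QuotientGroup.eq_one_iff _).mpr (hcomm a b)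
    refine ⟨p, hp, ⟨⟨fun u v => Subtype.ext (hab u v)⟩⟩, fun u _ => ?_⟩
    obtain ⟨b, rfl⟩ := hsur u
    by_cases hb : b ∈ Z
    · rw [(hπ1 b).mpr hb, one_pow]
    have hoa : orderOf (π a₀) = p := orderOf_eq_prime (by rw [← map_pow]; exact (hπ1 _).mpr hpa) fun h1 => ha₀ ((hπ1 _).mp h1)
    obtain ⟨q, hq, hqb⟩ := hord b hb
    haveI : Fact q.Prime := ⟨hq⟩
    have hob : orderOf (π b) = q := orderOf_eq_prime (by rw [← map_pow]; exact (hπ1 _).mpr hqb) fun h1 => hb ((hπ1 _).mp h1)
    by_cases hpq : q = p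
    · rw [← hpq, ← hob, pow_orderOf_eq_one]
    exfalso
    have hm := (show Commute (π a₀) (π b) from hab _ _).orderOf_mul_eq_mul_orderOf_of_coprime
      (by rw [hoa, hob]; exact (Nat.coprime_primes hp hq).mpr (Ne.symm hpq))
    rw [hoa, hob, ← map_mul] at hm
    by_cases hz : a₀ * b ∈ Z
    · rw [(hπ1 _).mpr hz, orderOf_one] at hm
      exact hp.ne_one (Nat.eq_one_of_mul_eq_one_right hm.symm)
    obtain ⟨r, hr, hrz⟩ := hord _ hz
    have hd : p * q ∣ r := hm ▸ orderOf_dvd_of_pow_eq_one (by rw [← map_pow]; exact (hπ1 _).mpr hrz)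
    have h1 := (Nat.prime_dvd_prime_iff_eq hp hr).mp ((dvd_mul_right p q).trans hd)
    have h2 := (Nat.prime_dvd_prime_iff_eq hq hr).mp ((dvd_mul_left q p).trans hd)
    exact hpq (h2.trans h1.symm)

end Cfsg.Agent.S3904
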