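import Cfsg.Statements.S3909
import Mathlib

set_option autoImplicit false
open Cfsg
open scoped commutatorElement

namespace Cfsg.Agent.S3909

/-- Let G be a finite group in which any two abelian subgroups of the same order are conjugate. Let M be a normal subgroup of G. If M contains an element of the same order as a ∈ G, then a ∈ M; and if M is elementary abelian of order p^t with p prime and t ≥ 2, then M is the unique Sylow p-subgroup of G. -/
theorem result {G : Type*} [Group G] [Finite G] (hB : ∀ A B : Subgroup G, IsMulCommutative ↥A → IsMulCommutative ↥B → Nat.card ↥A = Nat.card ↥B → ∃ g : G, B = A.map (MulAut.conj g).toMonoidHom) (M : Subgroup G) [M.Normal] :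
    (∀ a : G, (∃ m ∈ M, orderOf m = orderOf a) → a ∈ M) ∧
    ∀ (p t : ℕ) [Fact p.Prime], 2 ≤ t → Nat.card ↥M = p ^ t → Cfsg.IsElementaryAbelian p M → ∀ P : Sylow p G, (P : Subgroup G) = M := by
  classical
  have h1 : ∀ a : G, (∃ m ∈ M, orderOf m = orderOf a) → a ∈ M := by
    rintro a ⟨m, hm, hma⟩
    obtain ⟨g, hg⟩ := hB (Subgroup.zpowers m) (Subgroup.zpowers a) inferInstance inferInstance
      (by rw [Nat.card_zpowers, Nat.card_zpowers, hma])
    obtain ⟨w, hw, hwa⟩ := (hg ▸ Subgroup.mem_zpowers a : a ∈ (Subgroup.zpowers m).map (MulAut.conj g).toMonoidHom)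
    rw [← hwa]
    exact ‹M.Normal›.conj_mem w (Subgroup.zpowers_le.mpr hm hw) g
  refine ⟨h1, ?_⟩
  intro p t _ ht hM ⟨hMc, hMe⟩ P
  have hpp : p.Prime := Fact.out
  have hMP : M ≤ (P : Subgroup G) := by
    obtain ⟨S, hS⟩ := (IsPGroup.of_card hM).exists_le_sylow
    obtain ⟨g, rfl⟩ := MulAction.exists_smul_eq G S P
    intro x hx
    rw [Sylow.coe_subgroup_smul, Subgroup.mem_pointwise_smul_iff_inv_smul_mem]
    refine hS ?_
    rw [← map_inv]
    exact ‹M.Normal›.conj_mem x hx g⁻¹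
  obtain ⟨m, hm, hm1⟩ : ∃ m ∈ M, m ≠ 1 := by
    refine M.bot_or_exists_ne_one.resolve_left fun h => ?_
    rw [h, Subgroup.card_bot] at hM
    exact absurd hM.symm (Nat.one_lt_pow (by omega) hpp.one_lt).ne'
  have hord : ∀ y : G, orderOf y = p → y ∈ M := fun y hy => h1 y ⟨m, hm, by rw [hy, orderOf_eq_prime (hMe m hm) hm1]⟩
  refine le_antisymm (fun x hx => ?_) hMP
  obtain ⟨s, hs'⟩ := P.isPGroup' ⟨x, hx⟩
  obtain ⟨s, -, hs⟩ := (Nat.dvd_prime_pow hpp).mp (orderOf_dvd_of_pow_eq_one (show x ^ p ^ s = 1 from congrArg Subtype.val hs'))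
  rcases s with _ | _ | s
  · rw [pow_zero, orderOf_eq_one_iff] at hs; rw [hs]; exact one_mem _
  · exact hord x (by rw [hs, pow_one])
  · exfalso
    obtain ⟨E, hE⟩ := Sylow.exists_subgroup_card_pow_prime (G := ↥M) p (n := 2) (hM ▸ pow_dvd_pow p ht)
    have hy : orderOf (x ^ p ^ s) = p ^ 2 := by
      rw [orderOf_pow_of_dvd (pow_ne_zero _ hpp.ne_zero) (hs ▸ pow_dvd_pow p (by omega)), hs, Nat.pow_div (by omega) hpp.pos]
      congr 1; omega
    haveI := hMc
    obtain ⟨g, hg⟩ := hB (E.map M.subtype) (Subgroup.zpowers (x ^ p ^ s)) inferInstance inferInstance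
      (by rw [Subgroup.card_subtype, hE, Nat.card_zpowers, hy])
    obtain ⟨w, ⟨v, -, rfl⟩, hw⟩ := (hg ▸ Subgroup.mem_zpowers _ : x ^ p ^ s ∈ (E.map M.subtype).map (MulAut.conj g).toMonoidHom)
    have : (x ^ p ^ s) ^ p = 1 := by rw [← hw, ← map_pow]; exact (by simp [hMe _ v.2] : (MulAut.conj g).toMonoidHom ((v : G) ^ p) = 1)
    rw [← orderOf_dvd_iff_pow_eq_one, hy] at this
    have h3 := Nat.le_of_dvd hpp.pos this
    nlinarith [hpp.two_le]

end Cfsg.Agent.S3909
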