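import Cfsg.Statements.S3910
import Mathlib
import Cfsg.Agent.Lib.Cores.Fitting
import Cfsg.Agent.S3939
import Cfsg.Agent.Lib.PGroups.UniqueSubgroup
import Cfsg.Agent.Lib.PGroups.Normal
import Cfsg.Agent.OddLocal.Puig

set_option autoImplicit false
open Cfsg
open scoped commutatorElement

namespace Cfsg.Agent.S3910

/-- A finite nilpotent group in which any two abelian subgroups of the same order are conjugate is cyclic. -/
theorem result {G : Type*} [Group G] [Finite G] (hB : ∀ A B : Subgroup G, IsMulCommutative ↥A → IsMulCommutative ↥B → Nat.card ↥A = Nat.card ↥B → ∃ g : G, B = A.map (MulAut.conj g).toMonoidHom) (hnil : Group.IsNilpotent G) : IsCyclic G := by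
  classical
  haveI := hnil
  suffices hz : IsZGroup G by haveI := hz; infer_instance
  refine ⟨fun p hp P => ?_⟩
  haveI : Fact p.Prime := ⟨hp⟩
  haveI hPn : (P : Subgroup G).Normal := ((Group.isNilpotent_of_finite_tfae (G := G)).out 0 3 rfl rfl).mp inferInstance p inferInstance P
  -- `G = P · C(P)`
  have htop : (P : Subgroup G) ⊔ Subgroup.centralizer ((P : Subgroup G) : Set G) = ⊤ := by
    refine Cfsg.Agent.Cores.eq_top_of_sylow_le fun q hq _ => ?_
    haveI : Fact q.Prime := ⟨hq⟩
    by_cases hqp : q = p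
    · subst hqp; exact ⟨P, le_sup_left⟩
    · obtain ⟨Q⟩ : Nonempty (Sylow q G) := inferInstance
      refine ⟨Q, le_sup_of_le_right fun x hx => Subgroup.mem_centralizer_iff.mpr fun y hy => ?_⟩
      obtain ⟨i, hi⟩ := IsPGroup.iff_orderOf.mp P.isPGroup' ⟨y, hy⟩
      obtain ⟨j, hj⟩ := IsPGroup.iff_orderOf.mp Q.isPGroup' ⟨x, hx⟩
      rw [Subgroup.orderOf_mk] at hi hj
      exact (Cfsg.Agent.S3939.commute_of_coprime_orders
        (hi ▸ hj ▸ Nat.Coprime.pow i j ((Nat.coprime_primes hp hq).mpr (Ne.symm hqp)))).eq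
  -- abelian subgroups of `P` of the order of a normal one coincide with it
  have key : ∀ N H : Subgroup ↥(P : Subgroup G), N.Normal → IsMulCommutative ↥N → IsMulCommutative ↥H →
      Nat.card ↥N = Nat.card ↥H → H = N := by
    intro N H hN hNc hHc hcard
    haveI := hNc; haveI := hHc; haveI := hN
    have hNn : (N.map (P : Subgroup G).subtype).Normal := by
      refine Subgroup.normalizer_eq_top_iff.mp (eq_top_iff.mpr ?_)
      rw [← htop]
      refine sup_le ?_ ?_
      · intro u hu
        refine Subgroup.mem_normalizer_fintype ?_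
        rintro _ ⟨v, hv, rfl⟩
        exact ⟨_, hN.conj_mem v hv ⟨u, hu⟩, rfl⟩
      · exact le_trans (Subgroup.centralizer_le (Subgroup.map_subtype_le N)) (Subgroup.centralizer_le_normalizer _)
    obtain ⟨g, hg⟩ := hB (N.map (P : Subgroup G).subtype) (H.map (P : Subgroup G).subtype) inferInstance inferInstance
      (by rw [Subgroup.card_subtype, Subgroup.card_subtype, hcard])
    refine Subgroup.map_injective (P : Subgroup G).subtype_injective (hg.trans ?_)
    refine Subgroup.eq_of_le_of_card_ge ?_ (le_of_eq (Nat.card_congr (Subgroup.equivMapOfInjective (N.map (P : Subgroup G).subtype) (MulAut.conj g).toMonoidHom (MulAut.conj g).injective).toEquiv))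
    rintro _ ⟨v, hv, rfl⟩
    exact hNn.conj_mem v hv g
  obtain ⟨A, hAn, hAc, hAC⟩ := Cfsg.Agent.OddLocal.Puig.exists_selfCentralizing (G := ↥(P : Subgroup G)) P.isPGroup'.isNilpotent
  haveI := hAn
  haveI := hAc
  obtain ⟨a, ha⟩ := IsPGroup.iff_card.mp (P.isPGroup'.to_subgroup A)
  have hsmall : ∀ x : ↥(P : Subgroup G), ∀ k : ℕ, orderOf x = p ^ k → k ≤ a → Subgroup.zpowers x ≤ A := by
    intro x k hk hka
    obtain ⟨N, hNn, hNA, hN⟩ := Cfsg.Agent.PGroups.Normal.exists_normal_le_card P.isPGroup' A k (ha ▸ Nat.pow_le_pow_right hp.pos hka)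
    haveI hNc : IsMulCommutative ↥N := ⟨⟨fun u v => by
      have h := congrArg (Subtype.val : ↥A → ↥(P : Subgroup G)) (hAc.is_comm.comm ⟨u, hNA u.2⟩ ⟨v, hNA v.2⟩)
      exact Subtype.ext h⟩⟩
    rw [key N (Subgroup.zpowers x) hNn hNc inferInstance (by rw [hN, Nat.card_zpowers, hk])]
    exact hNA
  have hall : ∀ x, x ∈ A := by
    intro x
    obtain ⟨k, hk⟩ := IsPGroup.iff_orderOf.mp P.isPGroup' x
    rcases Nat.lt_or_ge a k with hlt | hge
    · have hy : orderOf (x ^ p ^ (k - a)) = p ^ a := by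
        rw [orderOf_pow_of_dvd (pow_ne_zero _ hp.ne_zero) (hk ▸ pow_dvd_pow p (by omega)), hk, Nat.pow_div (by omega) hp.pos]
        congr 1; omega
      have heq : Subgroup.zpowers (x ^ p ^ (k - a)) = A :=
        key A _ hAn hAc inferInstance (by rw [ha, Nat.card_zpowers, hy])
      rw [← hAC, Subgroup.mem_centralizer_iff]
      intro u hu
      rw [SetLike.mem_coe, ← heq] at hu
      obtain ⟨i, rfl⟩ := hu
      exact (((Commute.refl x).pow_left _).zpow_left i).eq
    · exact hsmall x k hk hge (Subgroup.mem_zpowers x)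
  haveI : IsMulCommutative ↥(P : Subgroup G) :=
    ⟨⟨fun u v => congrArg Subtype.val (hAc.is_comm.comm ⟨u, hall u⟩ ⟨v, hall v⟩)⟩⟩
  refine Cfsg.Agent.PGroups.UniqueSubgroup.isCyclic_of_abelian P.isPGroup' fun x y hx hy hx1 => ?_
  rcases eq_or_ne y 1 with rfl | hy1
  · exact one_mem _
  · rw [← key (Subgroup.zpowers x) (Subgroup.zpowers y) ⟨fun v hv w => by
      rw [show w * v * w⁻¹ = v by rw [(IsMulCommutative.is_comm.comm w v), mul_inv_cancel_right]]; exact hv⟩
      inferInstance inferInstance (by rw [Nat.card_zpowers, Nat.card_zpowers, orderOf_eq_prime hx hx1, orderOf_eq_prime hy hy1])]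
    exact Subgroup.mem_zpowers y

end Cfsg.Agent.S3910
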