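import Cfsg.Statements.S3917
import Mathlib
import Cfsg.Agent.Lib.PGroups.UniqueSubgroup

set_option autoImplicit false
open Cfsg
open scoped commutatorElement

namespace Cfsg.Agent.S3917

/-- Say that a group has self-centralizing non-cyclic subgroups when every non-cyclic subgroup H satisfies C_G(H) ≤ H. A finite abelian group with self-centralizing non-cyclic subgroups is cyclic or elementary abelian of order p² for a prime p. -/
theorem result {G : Type*} [CommGroup G] [Finite G] (hX : (∀ H : Subgroup G, ¬ IsCyclic ↥H → Subgroup.centralizer (H : Set G) ≤ H)) :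
    IsCyclic G ∨ ∃ p : ℕ, p.Prime ∧ Nat.card G = p ^ 2 ∧ Monoid.exponent G = p := by
  classical
  refine or_iff_not_imp_left.mpr fun hnc => ?_
  have hall : ∀ H : Subgroup G, ¬ IsCyclic ↥H → H = ⊤ := fun H hH =>
    eq_top_iff.mpr fun x _ => hX H hH (Subgroup.mem_centralizer_iff.mpr fun y _ => mul_comm y x)
  obtain ⟨p, hp, hP⟩ : ∃ p : ℕ, p.Prime ∧ ∃ P : Sylow p G, ¬ IsCyclic ↥(P : Subgroup G) := by
    by_contra hcon
    push Not at hcon
    haveI : IsZGroup G := ⟨fun p hp P => hcon p hp P⟩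
    exact hnc inferInstance
  haveI : Fact p.Prime := ⟨hp⟩
  obtain ⟨P, hP⟩ := hP
  have hG : IsPGroup p G := by
    have hP' := P.isPGroup'
    rw [hall _ hP] at hP'
    exact hP'.of_equiv Subgroup.topEquiv
  have hcyc : ∀ H : Subgroup G, (∀ x ∈ H, x ^ p = 1) → IsCyclic ↥H → Nat.card ↥H ≤ p := by
    intro H hH hc
    obtain ⟨⟨g, hg⟩, hgen⟩ := hc.exists_generator
    rw [Nat.card_eq_of_bijective (f := fun x : ↥(⊤ : Subgroup H) => (x : H)) ⟨Subtype.val_injective, fun x => ⟨⟨x, trivial⟩, rfl⟩⟩ |>.symm,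
      ← (eq_top_iff.mpr fun x _ => hgen x : Subgroup.zpowers (⟨g, hg⟩ : H) = ⊤), Nat.card_zpowers]
    exact orderOf_le_of_pow_eq_one hp.pos (Subtype.ext (hH g hg))
  have hker : (powMonoidHom p : G →* G).ker = ⊤ := by
    refine hall _ fun hc => hnc ?_
    refine Cfsg.Agent.PGroups.UniqueSubgroup.isCyclic_of_abelian hG ?_
    intro x y hx hy hx1
    have hox := orderOf_eq_prime hx hx1
    have hle : Subgroup.zpowers x ≤ (powMonoidHom p : G →* G).ker := Subgroup.zpowers_le.mpr hx
    have he := Subgroup.eq_of_le_of_card_ge hle (by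
      rw [Nat.card_zpowers, hox]; exact hcyc _ (fun g hg => hg) hc)
    rw [he]; exact hy
  have hexp : ∀ x : G, x ^ p = 1 := fun x => (hker ▸ Subgroup.mem_top x : x ∈ (powMonoidHom p : G →* G).ker)
  obtain ⟨n, hn⟩ := IsPGroup.iff_card.mp hG
  have hn2 : 2 ≤ n := by
    by_contra hlt
    apply hnc
    interval_cases n
    · haveI : Subsingleton G := (Nat.card_eq_one_iff_unique.mp (by rw [hn, pow_zero])).1
      infer_instance
    · exact isCyclic_of_prime_card (p := p) (by rw [hn, pow_one])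
  obtain ⟨E, hE⟩ := Sylow.exists_subgroup_card_pow_prime (G := G) p (n := 2) (hn ▸ pow_dvd_pow p hn2)
  have htop := hall E fun hc => by
    have h1 := hcyc E (fun x _ => hexp x) hc
    rw [hE] at h1
    nlinarith [hp.two_le]
  rw [htop, Subgroup.card_top] at hE
  refine ⟨p, hp, hE, ?_⟩
  refine (hp.eq_one_or_self_of_dvd _ (Monoid.exponent_dvd_of_forall_pow_eq_one hexp)).resolve_left fun h1 => ?_
  haveI : Subsingleton G := Monoid.exp_eq_one_iff.mp h1
  exact hnc inferInstance

end Cfsg.Agent.S3917
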