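import Cfsg.Statements.S3920
import Mathlib

set_option autoImplicit false
open Cfsg
open scoped commutatorElement

namespace Cfsg.Agent.S3920
theorem commute_sr {n : ℕ} {x : DihedralGroup n} {i : ZMod n} (h : x * DihedralGroup.sr i = DihedralGroup.sr i * x) :
    (∃ a : ZMod n, a + a = 0 ∧ (x = DihedralGroup.r a ∨ x = DihedralGroup.sr (i + a))) := by
  rcases x with a | a
  · rw [DihedralGroup.r_mul_sr, DihedralGroup.sr_mul_r] at h
    have h' : i - a = i + a := DihedralGroup.sr.inj h
    exact ⟨a, by linear_combination -h', Or.inl rfl⟩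
  · rw [DihedralGroup.sr_mul_sr, DihedralGroup.sr_mul_sr] at h
    have h' : i - a = a - i := DihedralGroup.r.inj h
    exact ⟨a - i, by linear_combination -h', Or.inr (by rw [add_sub_cancel])⟩


/-- Say that a group has self-centralizing non-cyclic subgroups when every non-cyclic subgroup H satisfies C_G(H) ≤ H. For n ≥ 3, the dihedral group of order 2n has self-centralizing non-cyclic subgroups if and only if n is odd or a power of 2. -/
theorem result (n : ℕ) (hn : 3 ≤ n) : (∀ H : Subgroup (DihedralGroup n), ¬ IsCyclic ↥H → Subgroup.centralizer (H : Set (DihedralGroup n)) ≤ H) ↔ (Odd n ∨ ∃ k : ℕ, n = 2 ^ k) := by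
  haveI : NeZero n := ⟨by omega⟩
  constructor
  · intro hX
    by_contra hcon
    rw [not_or, not_exists, Nat.not_odd_iff_even] at hcon
    obtain ⟨⟨l, hl⟩, hpow⟩ := hcon
    obtain ⟨q, hq, hqn, hq2⟩ : ∃ q, q.Prime ∧ q ∣ n ∧ q ≠ 2 := by
      by_contra hc
      push Not at hc
      exact hpow _ (Nat.eq_prime_pow_of_unique_prime_dvd (by omega) fun {d} hd hdn => hc d hd hdn)
    obtain ⟨t, ht⟩ := hqn
    let S : Subgroup (DihedralGroup n) :=
      { carrier := {x | match x with | DihedralGroup.r a => (q : ZMod n) * a = 0 | DihedralGroup.sr a => (q : ZMod n) * a = 0}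
        mul_mem' := by
          rintro (a | a) (b | b) ha hb <;> simp only [Set.mem_setOf_eq, DihedralGroup.r_mul_r, DihedralGroup.r_mul_sr,
            DihedralGroup.sr_mul_r, DihedralGroup.sr_mul_sr] at * <;> simp only [mul_add, mul_sub, ha, hb, add_zero, sub_zero]
        one_mem' := by show (q : ZMod n) * 0 = 0; simp
        inv_mem' := by
          rintro (a | a) ha <;> simp only [Set.mem_setOf_eq, DihedralGroup.inv_r, DihedralGroup.inv_sr] at *
          · rw [mul_neg, ha, neg_zero]
          · exact ha }
    have htq : (q : ZMod n) * (t : ZMod n) = 0 := by rw [← Nat.cast_mul, ← ht, ZMod.natCast_self]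
    have hll : (l : ZMod n) + (l : ZMod n) = 0 := by rw [← Nat.cast_add, ← hl, ZMod.natCast_self]
    have hlt : DihedralGroup.r (l : ZMod n) ∈ S := by
      refine hX S ?_ ?_
      · intro hc
        haveI := hc
        have h1 := (IsCyclic.commutative : IsMulCommutative ↥S).is_comm.comm (⟨DihedralGroup.r (t : ZMod n), htq⟩ : ↥S) ⟨DihedralGroup.sr 0, (mul_zero _ : (q : ZMod n) * 0 = 0)⟩
        have h2 := congrArg Subtype.val h1
        simp only [Subgroup.coe_mul, DihedralGroup.r_mul_sr, DihedralGroup.sr_mul_r] at h2
        have h3 : ((2 * t : ℕ) : ZMod n) = 0 := by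
          have := DihedralGroup.sr.inj h2
          push_cast
          linear_combination -this
        rw [ZMod.natCast_eq_zero_iff] at h3
        have h4 := Nat.le_of_dvd (by rcases Nat.eq_zero_or_pos t with rfl | h <;> omega) h3
        have := hq.two_le
        have : 3 ≤ q := by omega
        nlinarith
      · refine Subgroup.mem_centralizer_iff.mpr ?_
        rintro (a | a) -
        · rw [DihedralGroup.r_mul_r, DihedralGroup.r_mul_r, add_comm]
        · rw [DihedralGroup.sr_mul_r, DihedralGroup.r_mul_sr]
          congr 1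
          linear_combination hll
    have h5 : ((q * l : ℕ) : ZMod n) = 0 := by push_cast; exact hlt
    rw [ZMod.natCast_eq_zero_iff] at h5
    obtain ⟨w, hw⟩ := h5
    obtain ⟨s, hs⟩ := hq.odd_of_ne_two hq2
    have hl0 : 0 < l := by omega
    have : q = 2 * w := Nat.eq_of_mul_eq_mul_right hl0 (by rw [hw, hl]; ring)
    omega
  · intro hn' H hH x hx
    obtain ⟨i, hi⟩ : ∃ i : ZMod n, DihedralGroup.sr i ∈ H := by
      by_contra hc
      push Not at hc
      refine hH (Subgroup.isCyclic_of_le (H' := Subgroup.zpowers (DihedralGroup.r (1 : ZMod n))) ?_)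
      rintro (a | a) ha
      · exact ⟨(ZMod.cast a : ℤ), by simp⟩
      · exact absurd ha (hc a)
    obtain ⟨a, ha, hxa⟩ := commute_sr (Subgroup.mem_centralizer_iff.mp hx _ hi).symm
    have hra : DihedralGroup.r a ∈ H := by
      rcases hn' with hodd | ⟨k, hk⟩
      · have h2 : IsUnit ((2 : ℕ) : ZMod n) := (ZMod.isUnit_iff_coprime 2 n).mpr (Nat.coprime_two_left.mpr hodd)
        have : a = 0 := by
          refine h2.mul_right_eq_zero.mp ?_
          push_cast; linear_combination ha
        rw [this]; exact one_mem _
      · -- a nontrivial rotation in `H`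
        obtain ⟨c, hc0, hc⟩ : ∃ c : ZMod n, c ≠ 0 ∧ DihedralGroup.r c ∈ H := by
          by_contra hc
          push Not at hc
          refine hH (Subgroup.isCyclic_of_le (H' := Subgroup.zpowers (DihedralGroup.sr i)) ?_)
          rintro (b | b) hb
          · rw [show b = 0 from by_contra fun h => hc b h hb]; exact one_mem _
          · have := mul_mem hi hb
            rw [DihedralGroup.sr_mul_sr] at this
            rw [show b = i from sub_eq_zero.mp (by_contra fun h => hc _ h this)]
            exact Subgroup.mem_zpowers _
        rcases eq_or_ne a 0 with rfl | ha0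
        · exact one_mem _
        have hk' : ((2 ^ k : ℕ) : ZMod n) = 0 := by rw [← hk, ZMod.natCast_self]
        have hex : ∃ j : ℕ, ((2 ^ (j + 1) : ℕ) : ZMod n) * c = 0 := ⟨k, by rw [pow_succ, Nat.cast_mul, hk', zero_mul, zero_mul]⟩
        obtain ⟨d, hd0, hd2, hdH⟩ : ∃ d : ZMod n, d ≠ 0 ∧ d + d = 0 ∧ DihedralGroup.r d ∈ H := by
          classical
          refine ⟨((2 ^ Nat.find hex : ℕ) : ZMod n) * c, ?_, ?_, ?_⟩
          · intro h0
            rcases Nat.eq_zero_or_pos (Nat.find hex) with hz | hz
            · rw [hz] at h0; simp at h0; exact hc0 h0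
            · exact Nat.find_min hex (Nat.sub_lt hz one_pos) (by rw [Nat.sub_add_cancel (show 1 ≤ Nat.find hex from hz)]; exact h0)
          · have := Nat.find_spec hex
            rw [pow_succ, Nat.cast_mul] at this
            push_cast at this ⊢
            linear_combination this
          · have := H.pow_mem hc (2 ^ Nat.find hex)
            rwa [DihedralGroup.r_pow, mul_comm] at this
        have key : ∀ b : ZMod n, b ≠ 0 → b + b = 0 → 2 * b.val = n := by
          intro b hb0 hb
          have h : ((2 * b.val : ℕ) : ZMod n) = 0 := by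
            push_cast; rw [ZMod.natCast_zmod_val]; linear_combination hb
          rw [ZMod.natCast_eq_zero_iff] at h
          obtain ⟨w, hw⟩ := h
          have hv := ZMod.val_lt b
          have hb' : b.val ≠ 0 := fun h => hb0 ((ZMod.val_eq_zero b).mp h)
          rcases w with _ | _ | w
          · omega
          · omega
          · nlinarith
        have : a = d := ZMod.val_injective n (by have := key a ha0 ha; have := key d hd0 hd2; omega)
        rwa [this]
    rcases hxa with rfl | rfl
    · exact hra
    · have := mul_mem hi hra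
      rwa [DihedralGroup.sr_mul_r] at this

end Cfsg.Agent.S3920
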