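import Cfsg.Statements.S3921
import Cfsg.Agent.Lib.SelfCentNoncyclic.Forward
import Cfsg.Agent.Lib.SelfCentNoncyclic.Psl
-- import your own Cfsg.Agent.* helpers here

set_option autoImplicit false
open Cfsg

namespace Cfsg.Agent.S3921

/-- Say that a group has self-centralizing non-cyclic subgroups when every non-cyclic subgroup H satisfies C_G(H) ≤ H. A non-abelian finite simple group has self-centralizing non-cyclic subgroups if and only if it is isomorphic to PSL₂(q) with q = 4, q = 9, or q a prime of the form 2^k + 1 or 2^k − 1. -/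
theorem result {G : Type*} [Group G] [Finite G] [IsSimpleGroup G] (hna : ¬ IsMulCommutative G) :
    (∀ H : Subgroup G, ¬ IsCyclic ↥H → Subgroup.centralizer (H : Set G) ≤ H) ↔ ∃ (F : Type) (_ : Field F) (_ : Fintype F),
      (Fintype.card F = 4 ∨ Fintype.card F = 9 ∨ ((Fintype.card F).Prime ∧ ∃ k : ℕ, Fintype.card F = 2 ^ k + 1 ∨ Fintype.card F = 2 ^ k - 1)) ∧
      Nonempty (G ≃* Matrix.ProjectiveSpecialLinearGroup (Fin 2) F) := by
  classical
  constructor
  · intro hX
    obtain ⟨z, hz, hC, F, iF, iFt, hodd, ⟨e⟩⟩ := SelfCentNoncyclic.forward hna hX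
    refine ⟨F, iF, iFt, ?_, ⟨e⟩⟩
    obtain ⟨p, hpc⟩ := CharP.exists F
    obtain ⟨n, hp, hn⟩ := FiniteField.card F p
    have hp2 : Odd p := (Nat.odd_pow_iff n.ne_zero).1 (hn ▸ hodd)
    have h2 : (2 : F) ≠ 0 := fun h => by
      have h' : ((2 : ℕ) : F) = 0 := by exact_mod_cast h
      rw [CharP.cast_eq_zero_iff F p] at h'
      rw [(Nat.prime_dvd_prime_iff_eq hp Nat.prime_two).1 h'] at hp2
      exact absurd hp2 (by decide)
    have hcard : Nat.card (Subgroup.centralizer ({z} : Set G)) =
        Nat.card (Subgroup.centralizer ({e z} : Set (Matrix.ProjectiveSpecialLinearGroup (Fin 2) F))) := by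
      refine Nat.card_congr (Equiv.subtypeEquiv e.toEquiv fun g => ?_)
      simp only [Subgroup.mem_centralizer_singleton_iff, MulEquiv.toEquiv_eq_coe, MulEquiv.coe_toEquiv]
      exact ⟨fun h => by rw [← map_mul, h, map_mul], fun h => e.injective (by rw [map_mul, h, map_mul])⟩
    obtain ⟨k, hk⟩ := IsPGroup.iff_card.1 hC
    rw [hcard] at hk
    have hk' : p ^ (n : ℕ) + 1 = 2 ^ k ∨ p ^ (n : ℕ) = 2 ^ k + 1 := by
      have hpos : 0 < p ^ (n : ℕ) := pow_pos hp.pos _
      rcases SelfCentNoncyclic.card_cent_invol_cases h2 (x := e z) (by rw [MulEquiv.orderOf_eq, hz]) with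
        ⟨-, h⟩ | ⟨-, h⟩ <;> rw [hk, hn] at h <;> omega
    rcases SelfCentNoncyclic.prime_or_nine hp hp2 n.pos hk' with h | h
    · rw [h, pow_one] at hn hk'
      refine Or.inr (Or.inr ⟨hn ▸ hp, k, ?_⟩)
      rw [hn]
      omega
    · exact Or.inr (Or.inl (hn.trans h))
  · rintro ⟨F, iF, iFt, hq, ⟨e⟩⟩ H hH
    obtain ⟨p, hpc⟩ := CharP.exists F
    obtain ⟨n, hp, hn⟩ := FiniteField.card F p
    haveI : Fact p.Prime := ⟨hp⟩
    have hf : (n : ℕ) ≤ 2 ∧ ((n : ℕ) = 1 ∧ (∃ k : ℕ, p = 2 ^ k + 1 ∨ p = 2 ^ k - 1) ∨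
        Fintype.card F = 4 ∧ p = 2 ∨ Fintype.card F = 9) := by
      rcases hq with h | h | ⟨hqp, k, h⟩
      · have h' : p ^ (n : ℕ) = 2 ^ 2 := by rw [← hn, h]; norm_num
        have hp2 : p = 2 := (Nat.prime_dvd_prime_iff_eq hp Nat.prime_two).1
          (hp.dvd_of_dvd_pow (h' ▸ dvd_pow_self p n.ne_zero))
        subst hp2
        exact ⟨(Nat.pow_right_injective le_rfl h').le, Or.inr (Or.inl ⟨h, rfl⟩)⟩
      · have h' : p ^ (n : ℕ) = 3 ^ 2 := by rw [← hn, h]; norm_num
        have hp3 : p = 3 := (Nat.prime_dvd_prime_iff_eq hp Nat.prime_three).1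
          (hp.dvd_of_dvd_pow (h' ▸ dvd_pow_self p n.ne_zero))
        subst hp3
        exact ⟨(Nat.pow_right_injective (by norm_num) h').le, Or.inr (Or.inr h)⟩
      · rw [hn] at hqp h
        have h1 : (n : ℕ) = 1 := Nat.Prime.eq_one_of_pow hqp
        rw [h1, pow_one] at h
        exact ⟨by omega, Or.inl ⟨h1, k, h⟩⟩
    have hinj : Function.Injective e.toMonoidHom := e.injective
    have key := SelfCentNoncyclic.prop_psl p hn hf.1 (fun hp2 x hx => by
      have h2 : (2 : F) ≠ 0 := fun h => by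
        have h' : ((2 : ℕ) : F) = 0 := by exact_mod_cast h
        rw [CharP.cast_eq_zero_iff F p] at h'
        exact hp2 ((Nat.prime_dvd_prime_iff_eq hp Nat.prime_two).1 h')
      rcases hf.2 with ⟨h1, k, hk⟩ | ⟨-, h⟩ | h9
      · have hc : Fintype.card F = p := by rw [hn, h1, pow_one]
        have h3 : 3 ≤ p := by have := hp.two_le; omega
        rcases SelfCentNoncyclic.card_cent_invol_cases h2 hx with ⟨h4, h⟩ | ⟨h4, h⟩ <;>
          rcases hk with hk | hk <;> rw [hc] at h h4
        · exact IsPGroup.of_card (n := k) (h.trans (by omega))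
        · exfalso
          rcases k with _ | _ | k <;> simp [pow_succ] at hk <;> omega
        · rcases k with _ | _ | k
          · simp at hk; omega
          · exact IsPGroup.of_card (n := 2) (h.trans (by simp at hk; omega))
          · exfalso; simp [pow_succ] at hk; omega
        · exact IsPGroup.of_card (n := k) (h.trans (by have := Nat.one_le_two_pow (n := k); omega))
      · exact absurd h hp2
      · rcases SelfCentNoncyclic.card_cent_invol_cases h2 hx with ⟨h4, h⟩ | ⟨h4, h⟩
        · exact IsPGroup.of_card (n := 3) (h.trans (by rw [h9]; norm_num))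
        · omega) (H.map e.toMonoidHom) (fun h => hH (by
        haveI := h
        exact (MulEquiv.isCyclic (H.equivMapOfInjective _ hinj)).2 h))
    intro c hc
    have : e c ∈ H.map e.toMonoidHom := key (Subgroup.mem_centralizer_iff.2 fun g hg => by
      obtain ⟨h, hh, rfl⟩ := hg
      show e h * e c = e c * e h
      rw [← map_mul, Subgroup.mem_centralizer_iff.1 hc h hh, map_mul])
    obtain ⟨h, hh, he⟩ := this
    rwa [← e.injective he]

end Cfsg.Agent.S3921
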