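import Cfsg.Statements.S3927
import Mathlib
import Cfsg.Agent.GenA.UniqueMax

set_option autoImplicit false
open Cfsg
open scoped commutatorElement

namespace Cfsg.Agent.S3927
section
open Cfsg.Agent.GenA.UniqueMax

theorem key : ∀ (n : ℕ) {G : Type*} [Group G] [Finite G], Nat.card G ≤ n → ∀ (α : MulAut G),
    Subgroup.closure (Set.range (fun c : G => c * (α c)⁻¹)) = ⊤ → ∀ k : ℕ,
    Subgroup.closure (Set.range ((fun c : G => c * (α c)⁻¹)^[k])) = ⊤ := by
  intro n
  induction n with
  | zero => intro G _ _ hn; exact absurd hn (by have := Nat.card_pos (α := G); omega)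
  | succ n ih =>
    intro G _ _ hn α hG k
    classical
    set f := fun c : G => c * (α c)⁻¹ with hf
    by_contra hne
    set H := Subgroup.closure (Set.range (f^[k])) with hHdef
    have hfα : ∀ x, f (α x) = α (f x) := fun x => by simp [f]
    have hkα : ∀ (j : ℕ) (x : G), f^[j] (α x) = α (f^[j] x) := fun j => by
      induction j with
      | zero => intro x; rfl
      | succ j hj => intro x; rw [Function.iterate_succ_apply', Function.iterate_succ_apply', hj, hfα]
    have hHα : ∀ x ∈ H, α x ∈ H := by
      intro x hx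
      induction hx using Subgroup.closure_induction with
      | mem y hy => obtain ⟨g, rfl⟩ := hy; exact Subgroup.subset_closure ⟨α g, hkα k g⟩
      | one => simp [one_mem]
      | mul a b _ _ ha hb => rw [map_mul]; exact mul_mem ha hb
      | inv a _ ha => rw [map_inv]; exact inv_mem ha
    let φ : ↥(Subgroup.zpowers α) →* MulAut G := (Subgroup.zpowers α).subtype
    let αz : ↥(Subgroup.zpowers α) := ⟨α, Subgroup.mem_zpowers α⟩
    haveI : Finite (MulAut G) := Finite.of_injective (fun e : MulAut G => (e : G → G)) DFunLike.coe_injective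
    haveI : Finite (G ⋊[φ] ↥(Subgroup.zpowers α)) := Finite.of_equiv _ SemidirectProduct.equivProd.symm
    let a : G ⋊[φ] ↥(Subgroup.zpowers α) := SemidirectProduct.inr αz
    let ι : G →* G ⋊[φ] ↥(Subgroup.zpowers α) := SemidirectProduct.inl
    have hconj : ∀ g : G, a * ι g * a⁻¹ = ι (α g) := fun g => (SemidirectProduct.inl_aut αz g).symm ▸ by
      simp [a, ι, φ, αz, ← SemidirectProduct.inl_aut, map_inv]
    have hcom : ∀ g : G, ι g * a * (ι g)⁻¹ = ι (f g) * a := fun g => by
      simp only [f, map_mul, map_inv, ← hconj]; group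
    set A := Subgroup.zpowers a with hAdef
    -- `α`-invariant subgroups give subgroups of the semidirect product
    have mk : ∀ L : Subgroup G, (∀ x ∈ L, α x ∈ L) → ∀ g : G, ι g ∈ L.map ι ⊔ A → g ∈ L := by
      intro L hL g hg
      have hAn : A ≤ Subgroup.normalizer (L.map ι : Set (G ⋊[φ] ↥(Subgroup.zpowers α))) := by
        rw [hAdef, Subgroup.zpowers_le, ← cj_eq_iff]
        refine Subgroup.eq_of_le_of_card_ge ?_ (by rw [card_cj])
        rintro _ ⟨_, ⟨x, hx, rfl⟩, rfl⟩
        exact ⟨α x, hL x hx, (hconj x).symm⟩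
      rw [← SetLike.mem_coe, Subgroup.coe_mul_of_right_le_normalizer_left (L.map ι) A hAn] at hg
      obtain ⟨_, ⟨x, hx, rfl⟩, b, hb, he⟩ := hg
      obtain ⟨j, rfl⟩ := Subgroup.mem_zpowers_iff.mp hb
      have := congrArg SemidirectProduct.left he
      simp [a, ι, ← map_zpow] at this
      exact this ▸ hx
    set Mk := H.map ι ⊔ A with hMk
    have hMkne : Mk ≠ ⊤ := fun e => hne (eq_top_iff.mpr fun g _ => mk H hHα g (by rw [← hMk, e]; exact Subgroup.mem_top _))
    have hAtop : A ≠ ⊤ := fun e => hMkne (eq_top_iff.mpr (e ▸ le_sup_right))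
    have htop : ∀ N : Subgroup (G ⋊[φ] ↥(Subgroup.zpowers α)), (∀ g, ι g ∈ N) → a ∈ N → N = ⊤ := by
      intro N hN ha
      refine eq_top_iff.mpr fun x _ => ?_
      rw [← SemidirectProduct.inl_left_mul_inr_right x]
      refine mul_mem (hN _) ?_
      obtain ⟨⟨b, hb⟩, hb'⟩ : ∃ b, b = x.right := ⟨_, rfl⟩
      obtain ⟨j, rfl⟩ := Subgroup.mem_zpowers_iff.mp hb
      rw [← hb', show (⟨α ^ j, hb⟩ : ↥(Subgroup.zpowers α)) = αz ^ j from rfl, map_zpow]
      exact zpow_mem ha j
    have hnorm : ∀ N : Subgroup (G ⋊[φ] ↥(Subgroup.zpowers α)), N.Normal → A ≤ N → N = ⊤ := by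
      intro N hN hAN
      have ha : a ∈ N := hAN (Subgroup.mem_zpowers a)
      refine htop N (fun g => ?_) ha
      have : Subgroup.closure (Set.range f) ≤ N.comap ι := (Subgroup.closure_le _).mpr (by
        rintro _ ⟨c, rfl⟩
        show ι (f c) ∈ N
        have := N.mul_mem (hN.conj_mem a ha (ι c)) (N.inv_mem ha)
        rwa [hcom, mul_inv_cancel_right] at this)
      rw [hG] at this
      exact this (Subgroup.mem_top g)
    have hfam : sSup (fam A) ≤ Mk := by
      refine sSup_le fun K hK => ?_
      obtain ⟨hKne, hAK, hgen⟩ := hK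
      have ha : a ∈ K := hAK (Subgroup.mem_zpowers a)
      set L := K.comap ι with hLdef
      have hLα : ∀ x ∈ L, α x ∈ L := fun x hx => by
        show ι (α x) ∈ K
        rw [← hconj]
        exact mul_mem (mul_mem ha hx) (inv_mem ha)
      have hLle : ∀ x ∈ L, f x ∈ L := fun x hx => mul_mem hx (inv_mem (hLα x hx))
      set D := Subgroup.closure (f '' (L : Set G))
      have hDL : D ≤ L := (Subgroup.closure_le _).mpr (by rintro _ ⟨x, hx, rfl⟩; exact hLle x hx)
      have hDα : ∀ x ∈ D, α x ∈ D := by
        intro x hx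
        induction hx using Subgroup.closure_induction with
        | mem y hy => obtain ⟨g, hg, rfl⟩ := hy; exact Subgroup.subset_closure ⟨α g, hLα g hg, hfα g⟩
        | one => simp [one_mem]
        | mul a b _ _ ha hb => rw [map_mul]; exact mul_mem ha hb
        | inv a _ ha => rw [map_inv]; exact inv_mem ha
      have hDn : ∀ l ∈ L, ∀ x ∈ D, l * x * l⁻¹ ∈ D := by
        intro l hl x hx
        induction hx using Subgroup.closure_induction with
        | mem y hy =>
          obtain ⟨g, hg, rfl⟩ := hy
          have : l * f g * l⁻¹ = f (l * g) * (f l)⁻¹ := by simp only [f, map_mul]; group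
          rw [this]
          exact mul_mem (Subgroup.subset_closure ⟨_, mul_mem hl hg, rfl⟩) (inv_mem (Subgroup.subset_closure ⟨_, hl, rfl⟩))
        | one => simp [one_mem]
        | mul a b _ _ ha hb =>
          rw [show l * (a * b) * l⁻¹ = (l * a * l⁻¹) * (l * b * l⁻¹) by group]; exact mul_mem ha hb
        | inv a _ ha =>
          rw [show l * a⁻¹ * l⁻¹ = (l * a * l⁻¹)⁻¹ by group]; exact inv_mem ha
      set N := D.map ι ⊔ A with hNdef
      have haN : a ∈ N := (le_sup_right : A ≤ N) (Subgroup.mem_zpowers a)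
      have hNK : N = K := by
        refine hgen N le_sup_right (sup_le (Subgroup.map_le_iff_le_comap.mpr hDL) hAK) fun z hz => ?_
        rw [← cj_eq_iff]
        refine Subgroup.eq_of_le_of_card_ge ?_ (by rw [card_cj])
        have hl : z.left ∈ L := by
          show ι z.left ∈ K
          have hzr : SemidirectProduct.inr z.right ∈ K := by
            obtain ⟨⟨b, hb⟩, hb'⟩ : ∃ b, b = z.right := ⟨_, rfl⟩
            obtain ⟨j, rfl⟩ := Subgroup.mem_zpowers_iff.mp hb
            rw [← hb', show (⟨α ^ j, hb⟩ : ↥(Subgroup.zpowers α)) = αz ^ j from rfl, map_zpow]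
            exact zpow_mem ha j
          have := mul_mem hz (inv_mem hzr)
          rwa [← eq_mul_inv_of_mul_eq (SemidirectProduct.inl_left_mul_inr_right z)] at this
        have hzr : SemidirectProduct.inr z.right ∈ N := by
          obtain ⟨⟨b, hb⟩, hb'⟩ : ∃ b, b = z.right := ⟨_, rfl⟩
          obtain ⟨j, rfl⟩ := Subgroup.mem_zpowers_iff.mp hb
          rw [← hb', show (⟨α ^ j, hb⟩ : ↥(Subgroup.zpowers α)) = αz ^ j from rfl, map_zpow]
          exact zpow_mem haN j
        rw [← SemidirectProduct.inl_left_mul_inr_right z, ← cj_cj, cj_of_mem hzr]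
        rw [cj, Subgroup.map_le_iff_le_comap]
        refine sup_le ?_ ?_
        · rintro _ ⟨x, hx, rfl⟩
          show ι z.left * ι x * (ι z.left)⁻¹ ∈ N
          rw [← map_inv, ← map_mul, ← map_mul]
          exact (le_sup_left : D.map ι ≤ N) (Subgroup.mem_map_of_mem _ (hDn _ hl x hx))
        · rw [hAdef, Subgroup.zpowers_le]
          show ι z.left * a * (ι z.left)⁻¹ ∈ N
          rw [hcom]
          exact mul_mem ((le_sup_left : D.map ι ≤ N) (Subgroup.mem_map_of_mem _ (Subgroup.subset_closure ⟨_, hl, rfl⟩))) haN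
      have hLne : L ≠ ⊤ := fun e => hKne (htop K (fun g => (e ▸ Subgroup.mem_top g : g ∈ L)) ha)
      have hLD : L ≤ D := fun x hx => mk D hDα x (by rw [← hNdef, hNK]; exact hx)
      let β : MulAut ↥L :=
        { toFun := fun x => ⟨α x, hLα x x.2⟩
          invFun := fun x => ⟨α.symm x, by
            have : L.map α.toMonoidHom = L := Subgroup.eq_of_le_of_card_ge
              (by rintro _ ⟨y, hy, rfl⟩; exact hLα y hy)
              (by rw [Subgroup.card_map_of_injective (f := α.toMonoidHom) α.injective])
            obtain ⟨y, hy, he⟩ := this.ge x.2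
            rw [← he]; simpa using hy⟩
          left_inv := fun x => Subtype.ext (α.symm_apply_apply _)
          right_inv := fun x => Subtype.ext (α.apply_symm_apply _)
          map_mul' := fun x y => Subtype.ext (map_mul α _ _) }
      have hlt : Nat.card L ≤ n := by
        have h1 : Nat.card L ≠ Nat.card G := fun e => hLne (Subgroup.eq_top_of_card_eq _ e)
        have h2 := Subgroup.card_le_card_group L
        omega
      have hg : Subgroup.closure (Set.range (fun c : ↥L => c * (β c)⁻¹)) = ⊤ := by
        apply Subgroup.map_injective L.subtype_injective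
        rw [MonoidHom.map_closure, ← MonoidHom.range_eq_map, Subgroup.range_subtype]
        refine le_antisymm ((Subgroup.closure_le _).mpr ?_) (hLD.trans (Subgroup.closure_mono ?_))
        · rintro _ ⟨_, ⟨c, rfl⟩, rfl⟩; exact SetLike.coe_mem (c * (β c)⁻¹)
        · rintro _ ⟨x, hx, rfl⟩; exact ⟨_, ⟨⟨x, hx⟩, rfl⟩, rfl⟩
      have hk' := congrArg (Subgroup.map L.subtype) (ih hlt β hg k)
      rw [MonoidHom.map_closure, ← MonoidHom.range_eq_map, Subgroup.range_subtype] at hk'
      have hLH : L ≤ H := by
        rw [← hk']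
        refine Subgroup.closure_mono ?_
        rintro _ ⟨_, ⟨c, rfl⟩, rfl⟩
        refine ⟨(c : G), ?_⟩
        have : ∀ j : ℕ, ∀ c : ↥L, (((fun c : ↥L => c * (β c)⁻¹)^[j] c : ↥L) : G) = f^[j] (c : G) := fun j => by
          induction j with
          | zero => intro c; rfl
          | succ j hj =>
            intro c
            rw [Function.iterate_succ_apply', Function.iterate_succ_apply', ← hj]; rfl
        exact (this k c).symm
      rw [← hNK, hNdef]
      exact sup_le_sup_right (Subgroup.map_mono (hDL.trans hLH)) A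
    have hY : sSup (fam A) ≠ ⊤ := fun e => hMkne (eq_top_iff.mpr (e ▸ hfam))
    obtain ⟨M, hM, hMkM⟩ := (eq_top_or_exists_le_coatom Mk).resolve_left hMkne
    have hAM : A ≤ M := le_sup_right.trans hMkM
    have haM : a ∈ M := hAM (Subgroup.mem_zpowers a)
    have hNM : Subgroup.normalizer (M : Set (G ⋊[φ] ↥(Subgroup.zpowers α))) = M := by
      rcases eq_or_lt_of_le (Subgroup.le_normalizer (H := M)) with h | h
      · exact h.symm
      · exact absurd (hnorm M (Subgroup.normalizer_eq_top_iff.mp (hM.2 _ h)) hAM) hM.1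
    have hback : ∀ c : G, ι (f c) ∈ M → ι c ∈ M := by
      intro c hc
      have h1 : ι c * a * (ι c)⁻¹ ∈ M := by rw [hcom]; exact mul_mem hc haM
      have h2 : A ≤ cj (ι c)⁻¹ M := by
        rw [hAdef, Subgroup.zpowers_le, mem_cj, inv_inv]
        exact h1
      have := sSup_fam_eq_top_or_unique A hnorm hAtop hY _ M (isCoatom_cj _ hM) h2 hM hAM
      rw [cj_eq_iff, hNM] at this
      simpa using M.inv_mem this
    have hall : ∀ j : ℕ, ∀ g : G, ι (f^[j] g) ∈ M → ι g ∈ M := fun j => by
      induction j with
      | zero => intro g hg; exact hg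
      | succ j hj => intro g hg; exact hj g (hback _ (by rwa [Function.iterate_succ_apply'] at hg))
    exact hM.1 (htop M (fun g => hall k g
      (hMkM ((le_sup_left : H.map ι ≤ Mk) (Subgroup.mem_map_of_mem _ (Subgroup.subset_closure ⟨g, rfl⟩))))) haM)

end

/-- Let G be a finite group and α an automorphism of G with [G, α] = G, that is, the elements g·α(g)⁻¹ generate G. Then for every k ≥ 1 the iterated commutators [g, α, …, α] with k entries α — the values of the k-th iterate of the map c ↦ c·α(c)⁻¹ — also generate G. -/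
theorem result {G : Type*} [Group G] [Finite G] (α : MulAut G) (hG : Subgroup.closure (Set.range (fun c : G => c * (α c)⁻¹)) = ⊤) (k : ℕ) (hk : 1 ≤ k) :
    Subgroup.closure (Set.range ((fun c : G => c * (α c)⁻¹)^[k])) = ⊤ := by
  exact key _ le_rfl α hG k

end Cfsg.Agent.S3927
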