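import Cfsg.Statements.S3928
import Mathlib
import Cfsg.Agent.GenA.InvertedBound
import Cfsg.Agent.S3927

set_option autoImplicit false
open Cfsg
open scoped commutatorElement

namespace Cfsg.Agent.S3928

/-- There is a function f such that for every non-trivial finite group G and every automorphism α of G of order 2 with [G, α] = G (the elements g·α(g)⁻¹ generate G), the order of G is at most f(m), where m is the number of elements of odd order inverted by α. -/
theorem result : ∃ f : ℕ → ℕ, ∀ (G : Type) [Group G] [Finite G] [Nontrivial G] (α : MulAut G), orderOf α = 2 →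
    Subgroup.closure (Set.range (fun c : G => c * (α c)⁻¹)) = ⊤ →
      Nat.card G ≤ f (Nat.card {g : G // Odd (orderOf g) ∧ α g = g⁻¹}) := by
  refine ⟨Cfsg.Agent.GenA.InvertedBound.orderBound, fun G _ _ _ α hord hgen => ?_⟩
  have hα : ∀ x, α (α x) = x := fun x => by
    have h := pow_orderOf_eq_one α
    rw [hord, pow_two] at h
    exact congrArg (fun e : MulAut G => e x) h
  have h := Cfsg.Agent.GenA.InvertedBound.inv_generates hα (fun k hk => Cfsg.Agent.S3927.result α hgen k hk)
  have := Cfsg.Agent.GenA.InvertedBound.card_le hα h
  rw [← Nat.card_coe_set_eq] at this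
  exact this

end Cfsg.Agent.S3928
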