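import Cfsg.Statements.S3933
import Cfsg.Agent.SolvStruct.TwoPrimes

set_option autoImplicit false
open Cfsg

namespace Cfsg.Agent.S3933

open Subgroup

theorem pp_dvd {a b : ℕ} (h : a ∣ b) (hb : b = 1 ∨ IsPrimePow b) : a = 1 ∨ IsPrimePow a := by
  rcases hb with rfl | hb
  · exact Or.inl (Nat.dvd_one.mp h)
  · by_cases ha : a = 1
    · exact Or.inl ha
    · exact Or.inr (hb.dvd h ha)

theorem card_sylow_map_dvd {G K : Type*} [Group G] [Finite G] [Group K] [Finite K] {p : ℕ}
    [Fact p.Prime] {f : G →* K} (hf : Function.Surjective f) (P : Sylow p G) :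
    Nat.card (Sylow p K) ∣ Nat.card (Sylow p G) := by
  rw [(P.mapSurjective hf).card_eq_index_normalizer, P.card_eq_index_normalizer]
  exact (index_dvd_of_le (le_normalizer_map f)).trans (index_map_dvd _ hf)

theorem card_sylow_normal_dvd {G : Type*} [Group G] [Finite G] {p : ℕ} [Fact p.Prime] (N : Subgroup G) [N.Normal] :
    Nat.card (Sylow p N) ∣ Nat.card (Sylow p G) := by
  obtain ⟨Q⟩ : Nonempty (Sylow p N) := inferInstance
  obtain ⟨P, hP⟩ := Q.exists_comap_subtype_eq
  set A := normalizer (((Q : Subgroup N).map N.subtype : Subgroup G) : Set G) with hA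
  have hle : normalizer (P : Set G) ≤ A := by
    intro g hg
    rw [hA, ← hP, map_comap_eq, range_subtype, inf_comm]
    refine mem_normalizer_iff.mpr fun a => ?_
    simp only [mem_inf]
    exact and_congr (mem_normalizer_iff.mp hg a) ⟨fun h => Normal.conj_mem inferInstance a h g, fun h => by
      simpa [mul_assoc] using Normal.conj_mem (H := N) inferInstance _ h g⁻¹⟩
  have h1 : A ⊔ N = ⊤ := by rw [hA]; exact Sylow.normalizer_sup_eq_top Q
  have h2 : A.index = A.relIndex N := by
    have e1 : N.relIndex A = N.index := by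
      rw [← relIndex_sup_right (K := N) (H := A), h1, relIndex_top_right]
    have e2 : A.relIndex N * N.index = N.relIndex A * A.index := by
      rw [← inf_relIndex_right A N, ← inf_relIndex_right N A, relIndex_mul_index inf_le_right,
        relIndex_mul_index inf_le_right, inf_comm]
    rw [e1, mul_comm (A.relIndex N)] at e2
    exact (mul_left_cancel₀ index_ne_zero_of_finite e2).symm
  rw [Q.card_eq_index_normalizer, P.card_eq_index_normalizer]
  have h3 : A.relIndex N = (normalizer (Q : Set N)).index := by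
    show (A.subgroupOf N).index = _
    rw [hA, subgroupOf_normalizer_eq (map_subtype_le _), subgroupOf,
      comap_map_eq_self_of_injective N.subtype_injective]
    rfl
  exact h3 ▸ h2 ▸ index_dvd_of_le hle

theorem false_of_pair {G : Type*} [Group G] [Finite G] [IsSimpleGroup G] (x y u v : ℕ) [Fact x.Prime] [Fact y.Prime]
    (hxG : x ∣ Nat.card G) (hy1 : Nat.card (Sylow y G) ≠ 1) (hu : u.Prime) (hv : v.Prime) (huv : u ≠ v)
    (hxu : x ≠ u) (hxv : x ≠ v) {a c : ℕ} (hx : Nat.card (Sylow x G) = u ^ a) (hy : Nat.card (Sylow y G) = v ^ c) : False := by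
  obtain ⟨Y⟩ : Nonempty (Sylow y G) := inferInstance
  set B := normalizer (Y : Set G) with hB
  have hBi : B.index = v ^ c := by rw [hB, ← Y.card_eq_index_normalizer, hy]
  have hle : ∀ X : Sylow x G, (X : Subgroup G) ≤ B := by
    intro X
    set A := normalizer (X : Set G) with hA
    have hAi : A.index = u ^ a := by rw [hA, ← X.card_eq_index_normalizer, hx]
    have hi : (A ⊓ B).index = u ^ a * v ^ c := le_antisymm (hAi ▸ hBi ▸ index_inf_le) (Nat.le_of_dvd
      (Nat.pos_of_ne_zero index_ne_zero_of_finite) ((((Nat.coprime_primes hu hv).mpr huv).pow a c).mul_dvd_of_dvd_of_dvd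
        (hAi ▸ index_dvd_of_le inf_le_left) (hBi ▸ index_dvd_of_le inf_le_right)))
    obtain ⟨W⟩ : Nonempty (Sylow x ↥(A ⊓ B)) := inferInstance
    set W' := (W : Subgroup ↥(A ⊓ B)).map (A ⊓ B).subtype with hW
    have hWp : IsPGroup x W' := W.isPGroup'.map _
    have hWX : W' ≤ X := by
      have h := IsPGroup.inf_normalizer_sylow hWp X
      rw [← hA, inf_eq_left.mpr ((map_subtype_le _).trans inf_le_left)] at h
      exact h.le.trans inf_le_right
    have hnd : ¬ x ∣ W'.index := by
      have hWi : W'.index = (W : Subgroup ↥(A ⊓ B)).index * (A ⊓ B).index := index_map_subtype _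
      rw [hWi, hi]
      intro h
      have hxp : x.Prime := Fact.out
      rcases hxp.dvd_mul.mp h with h | h
      · exact W.not_dvd_index h
      rcases hxp.dvd_mul.mp h with h | h
      · exact hxu ((Nat.prime_dvd_prime_iff_eq hxp hu).mp (hxp.dvd_of_dvd_pow h))
      · exact hxv ((Nat.prime_dvd_prime_iff_eq hxp hv).mp (hxp.dvd_of_dvd_pow h))
    have hXW : (X : Subgroup G) = W' := (hWp.toSylow hnd).is_maximal' X.isPGroup' hWX
    rw [hXW]
    exact (map_subtype_le _).trans inf_le_right
  obtain ⟨X⟩ : Nonempty (Sylow x G) := inferInstance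
  have hXne : normalClosure ((X : Subgroup G) : Set G) ≠ ⊥ := fun h => by
    have h0 : (X : Subgroup G) = ⊥ := le_bot_iff.mp (le_normalClosure.trans h.le)
    exact X.not_dvd_index (by rw [h0, index_bot]; exact hxG)
  have htop : normalClosure ((X : Subgroup G) : Set G) = ⊤ :=
    (normalClosure_normal.eq_bot_or_eq_top).resolve_left hXne
  have hB1 : B = ⊤ := by
    rw [eq_top_iff, ← htop, normalClosure, closure_le]
    intro g hg
    obtain ⟨s, hs, hsg⟩ := Group.mem_conjugatesOfSet_iff.mp hg
    obtain ⟨k, rfl⟩ := isConj_iff.mp hsg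
    exact hle (k • X) (by rw [Sylow.coe_subgroup_smul]; exact ⟨s, hs, rfl⟩)
  exact hy1 (by rw [Y.card_eq_index_normalizer, ← hB, hB1, index_top])

theorem not_simple {G : Type*} [Group G] [Finite G] [IsSimpleGroup G]
    (h : ∀ (r : ℕ) [Fact r.Prime], Nat.card (Sylow r G) = 1 ∨ IsPrimePow (Nat.card (Sylow r G))) :
    Group.IsSolvable G := by
  by_cases hc : (Nat.card G).primeFactors.card ≤ 2
  · exact SolvStruct.isSolvable_of_primeFactors_card_le_two hc
  exfalso
  have hex : ∀ s ∈ (Nat.card G).primeFactors, ∃ u : ℕ, u ∈ (Nat.card G).primeFactors ∧ u ≠ s ∧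
      Nat.card (Sylow s G) ≠ 1 ∧ ∃ a : ℕ, Nat.card (Sylow s G) = u ^ a := by
    intro s hs
    obtain ⟨hsp, hsd, -⟩ := Nat.mem_primeFactors.1 hs
    haveI := Fact.mk hsp
    obtain ⟨S⟩ : Nonempty (Sylow s G) := inferInstance
    have hS1 : Nat.card (Sylow s G) ≠ 1 := fun h1 => by
      haveI : (S : Subgroup G).Normal := by
        rw [← normalizer_eq_top_iff, ← index_eq_one, Sylow.coe_coe, ← S.card_eq_index_normalizer, h1]
      rcases (this : (S : Subgroup G).Normal).eq_bot_or_eq_top with h0 | h0
      · exact S.not_dvd_index (by rw [h0, index_bot]; exact hsd)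
      · obtain ⟨n, hn⟩ := S.isPGroup'.exists_card_eq
        rw [h0, card_top] at hn
        refine hc ?_
        rw [hn]
        rcases Nat.eq_zero_or_pos n with rfl | hn0
        · simp
        · rw [Nat.primeFactors_pow _ hn0.ne', hsp.primeFactors]; simp
    obtain ⟨u, a, hu, ha, he⟩ := (isPrimePow_nat_iff _).mp ((h s).resolve_left hS1)
    refine ⟨u, Nat.mem_primeFactors.2 ⟨hu, ?_, Nat.card_pos.ne'⟩, ?_, hS1, a, he.symm⟩
    · refine (dvd_pow_self u ha.ne').trans (he ▸ ?_)
      exact S.card_dvd_index.trans (index_dvd_card _)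
    · rintro rfl
      exact not_dvd_card_sylow u G (he ▸ dvd_pow_self u ha.ne')
  choose! f hf hfne hS1 a ha using hex
  have key : ∀ x ∈ (Nat.card G).primeFactors, ∀ y ∈ (Nat.card G).primeFactors, f x ≠ f y → f y = x := by
    intro x hx y hy hne
    by_contra hne'
    obtain ⟨hxp, hxd, -⟩ := Nat.mem_primeFactors.1 hx
    haveI := Fact.mk hxp
    haveI := Fact.mk (Nat.prime_of_mem_primeFactors hy)
    exact false_of_pair x y (f x) (f y) hxd (hS1 y hy) (Nat.prime_of_mem_primeFactors (hf x hx))
      (Nat.prime_of_mem_primeFactors (hf y hy)) hne (Ne.symm (hfne x hx)) (Ne.symm hne') (ha x hx) (ha y hy)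
  obtain ⟨x, hx⟩ : (Nat.card G).primeFactors.Nonempty := Finset.card_pos.mp (by omega)
  have hy := hf x hx
  have hfy : f (f x) ≠ f x := hfne _ hy
  have hyx : f (f x) = x := key x hx (f x) hy (Ne.symm hfy)
  obtain ⟨z, hz, hzn⟩ : ∃ z ∈ (Nat.card G).primeFactors, z ≠ x ∧ z ≠ f x := by
    by_contra hcon
    push_neg at hcon
    refine hc ((Finset.card_le_card (t := {x, f x}) fun z hz => ?_).trans Finset.card_le_two)
    simp only [Finset.mem_insert, Finset.mem_singleton]
    by_cases h1 : z = x
    · exact Or.inl h1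
    · exact Or.inr (hcon z hz h1)
  by_cases hzx : f z = f x
  · have h1 : f (f x) ≠ f z := by rw [hzx]; exact hfy
    have h2 := key z hz (f x) hy (Ne.symm h1)
    rw [hyx] at h2
    exact hzn.1 h2.symm
  · exact hzn.2 (key z hz x hx hzx).symm

theorem aux.{u} (n : ℕ) : ∀ (G : Type u) [Group G] [Finite G], Nat.card G = n →
    (∀ (r : ℕ) [Fact r.Prime], Nat.card (Sylow r G) = 1 ∨ IsPrimePow (Nat.card (Sylow r G))) → Group.IsSolvable G := by
  induction n using Nat.strong_induction_on with
  | _ n ih =>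
    intro G _ _ hn h
    by_cases hs : ∃ N : Subgroup G, N.Normal ∧ N ≠ ⊥ ∧ N ≠ ⊤
    · obtain ⟨N, hN, hb, ht⟩ := hs
      have h1 : Nat.card N < n := hn ▸ lt_of_le_of_ne (Nat.le_of_dvd Nat.card_pos (card_subgroup_dvd_card N))
        fun e => ht ((card_eq_iff_eq_top N).mp e)
      have h2 : Nat.card (G ⧸ N) < n := by
        rw [← hn, ← N.card_mul_index, ← index_eq_card]
        exact lt_mul_of_one_lt_left (Nat.pos_of_ne_zero index_ne_zero_of_finite) (N.one_lt_card_iff_ne_bot.mpr hb)
      haveI := ih _ h1 N rfl fun r _ => pp_dvd (card_sylow_normal_dvd N) (h r)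
      haveI := ih _ h2 (G ⧸ N) rfl fun r _ => pp_dvd (card_sylow_map_dvd (QuotientGroup.mk'_surjective N) default) (h r)
      exact Group.isSolvable_of_ker_le_range N.subtype (QuotientGroup.mk' N) (by simp)
    · rcases subsingleton_or_nontrivial G with hG | hG
      · exact inferInstance
      · haveI : IsSimpleGroup G := ⟨fun N hN => by
          by_contra hc; push_neg at hc; exact hs ⟨N, hN, hc.1, hc.2⟩⟩
        exact not_simple h

/-- If for every prime r the number of Sylow r-subgroups of the finite group G is a prime power or 1, then G is solvable. -/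
theorem result {G : Type*} [Group G] [Finite G] (h : ∀ (r : ℕ) [Fact r.Prime], Nat.card (Sylow r G) = 1 ∨ IsPrimePow (Nat.card (Sylow r G))) :
    Group.IsSolvable G := by
  exact aux _ G rfl h

end Cfsg.Agent.S3933
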