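import Cfsg.Statements.S3937
import Mathlib
import Cfsg.Agent.Lib.Cores.Fitting
import Cfsg.Agent.Lib.Cores.Subnormal
import Cfsg.Agent.Lib.Subnormal.Join

set_option autoImplicit false
open Cfsg Pointwise
open scoped commutatorElement

namespace Cfsg.Agent.S3937
universe u

/-- One step of the Engel sequence. -/
theorem foldl_succ {G : Type u} [Group G] (g : G) (n : ℕ) (x : G) :
    (List.replicate (n + 1) g).foldl (fun a b => a * b * a⁻¹ * b⁻¹) x =
      (List.replicate n g).foldl (fun a b => a * b * a⁻¹ * b⁻¹) (x * g * x⁻¹ * g⁻¹) := rfl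

theorem map_foldl {G : Type u} [Group G] (H : Subgroup G) (g : H) :
    ∀ (n : ℕ) (x : H), (((List.replicate n g).foldl (fun a b => a * b * a⁻¹ * b⁻¹) x : H) : G) =
      (List.replicate n (g : G)).foldl (fun a b => a * b * a⁻¹ * b⁻¹) (x : G)
  | 0, _ => rfl
  | n + 1, x => by rw [foldl_succ, foldl_succ, map_foldl H g n]; rfl

theorem engel_aux : ∀ (m : ℕ) (G : Type u) [Group G] [Finite G], Nat.card G < m → ∀ g : G,
    (∀ x : G, ∃ n : ℕ, (List.replicate n g).foldl (fun a b => a * b * a⁻¹ * b⁻¹) x = 1) →
    (Subgroup.zpowers g).IsSubnormal := by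
  intro m
  induction m with
  | zero => intro G _ _ h; omega
  | succ m ih =>
    intro G _ _ hm g h
    by_contra hA
    set A := Subgroup.zpowers g
    have hsub : ∀ L : Subgroup G, A ≤ L → L ≠ ⊤ → (A.subgroupOf L).IsSubnormal := by
      intro L hAL hL
      have hgL : g ∈ L := hAL (Subgroup.mem_zpowers g)
      have hlt : Nat.card L < Nat.card G := lt_of_le_of_ne (Subgroup.card_le_card_group L)
        fun h => hL (Subgroup.eq_top_of_card_eq L h)
      have := ih L (by omega) ⟨g, hgL⟩ fun x => by
        obtain ⟨n, hn⟩ := h x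
        exact ⟨n, Subtype.ext ((map_foldl L ⟨g, hgL⟩ n x).trans hn)⟩
      have heq : A.subgroupOf L = Subgroup.zpowers ⟨g, hgL⟩ := by
        ext y
        simp only [A, Subgroup.mem_subgroupOf, Subgroup.mem_zpowers_iff]
        exact exists_congr fun k => by rw [Subtype.ext_iff]; simp
      rw [heq]; exact this
    have hAtop : A ≠ ⊤ := fun h => hA (h ▸ Subgroup.IsSubnormal.top)
    obtain ⟨M, hM, hAM⟩ := (eq_top_or_exists_le_coatom A).resolve_left hAtop
    have hgM : g ∈ M := hAM (Subgroup.mem_zpowers g)
    by_cases hMn : M.Normal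
    · exact hA (Subgroup.IsSubnormal.trans hAM (hsub M hAM hM.1) hMn.isSubnormal)
    have huniq := Cfsg.Agent.Subnormal.Join.zipper A hA hsub
    -- the Engel sequence leaves no element outside `M`
    have key : ∀ n : ℕ, ∀ x : G, (List.replicate n g).foldl (fun a b => a * b * a⁻¹ * b⁻¹) x ∈ M → x ∈ M := by
      intro n
      induction n with
      | zero => intro x hx; exact hx
      | succ n ihn =>
        intro x hx
        rw [foldl_succ] at hx
        have h1 := ihn _ hx
        have h2 : x * g * x⁻¹ ∈ M := by
          have := mul_mem h1 hgM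
          rwa [inv_mul_cancel_right] at this
        set K := M.map (MulAut.conj x⁻¹).toMonoidHom
        have hK : IsCoatom K := ((MulAut.conj x⁻¹).mapSubgroup.isCoatom_iff M).mpr hM
        have hAK : A ≤ K := Subgroup.zpowers_le.mpr ⟨x * g * x⁻¹, h2, by simp; group⟩
        have hKM : K = M := huniq K M hK hM hAK hAM
        have hN : Subgroup.normalizer (M : Set G) = M := by
          rcases eq_or_lt_of_le (Subgroup.le_normalizer (H := M)) with he | hlt
          · exact he.symm
          · exact absurd (Subgroup.normalizer_eq_top_iff.mp (hM.2 _ hlt)) hMn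
        have hKM' : MulAut.conj x⁻¹ • M = M := hKM
        have hxN : x⁻¹ ∈ Subgroup.normalizer (M : Set G) := Cfsg.Agent.Coprime.conj_smul_eq_self_iff.mp hKM'
        rw [hN] at hxN
        simpa using inv_mem hxN
    refine hM.1 (eq_top_iff.mpr fun x _ => ?_)
    obtain ⟨n, hn⟩ := h x
    exact key n x (hn ▸ one_mem M)


/-- Baer's characterization of the Fitting subgroup: in a finite group G, an element g lies in the Fitting subgroup if and only if g is a left Engel element, that is, for every x there is n with [x, g, g, …, g] = 1 (n entries g, [a, b] = aba⁻¹b⁻¹). -/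
theorem result {G : Type*} [Group G] [Finite G] (g : G) :
    g ∈ Cfsg.fittingSubgroup G ↔ ∀ x : G, ∃ n : ℕ, (List.replicate n g).foldl (fun a b => a * b * a⁻¹ * b⁻¹) x = 1 := by
  constructor
  · intro hg x
    haveI : Group.IsNilpotent (fittingSubgroup G) := Cfsg.Agent.Cores.fittingSubgroup_isNilpotent
    obtain ⟨k, hk⟩ := (Subgroup.isNilpotent_iff_lowerCentralSeries (fittingSubgroup G)).mp inferInstance
    refine ⟨k + 1, ?_⟩
    rw [foldl_succ]
    have key : ∀ n j : ℕ, ∀ y : G, y ∈ (fittingSubgroup G).lowerCentralSeries j →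
        (List.replicate n g).foldl (fun a b => a * b * a⁻¹ * b⁻¹) y ∈ (fittingSubgroup G).lowerCentralSeries (j + n) := by
      intro n
      induction n with
      | zero => intro j y hy; exact hy
      | succ n ihn =>
        intro j y hy
        rw [foldl_succ, show j + (n + 1) = j + 1 + n by omega]
        exact ihn (j + 1) _ (Subgroup.commutator_mem_commutator hy hg)
    have h0 : x * g * x⁻¹ * g⁻¹ ∈ (fittingSubgroup G).lowerCentralSeries 0 :=
      mul_mem ((Cfsg.Agent.Cores.fittingSubgroup_normal (G := G)).conj_mem g hg x) (inv_mem hg)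
    have := key k 0 _ h0
    rw [Nat.zero_add, hk, Subgroup.mem_bot] at this
    exact this
  · intro h
    refine Cfsg.Agent.Cores.le_fittingSubgroup_of_isSubnormal (engel_aux _ G (Nat.lt_succ_self _) g h)
      ?_ (Subgroup.mem_zpowers g)
    let _ : CommGroup (Subgroup.zpowers g) := IsCyclic.commGroup
    exact inferInstance

end Cfsg.Agent.S3937
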