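import Cfsg.Statements.S3941
import Mathlib

set_option autoImplicit false
open Cfsg
open scoped commutatorElement

namespace Cfsg.Agent.S3941
/-- the stabiliser copy of `A_m` inside `A_{m+1}` -/
noncomputable def incl (m : ℕ) : ↥(alternatingGroup (Fin m)) →* ↥(alternatingGroup (Fin (m + 1))) :=
  ((Equiv.Perm.viaEmbeddingHom (Fin.castSuccEmb : Fin m ↪ Fin (m + 1))).comp (alternatingGroup (Fin m)).subtype).codRestrict
    _ (fun x => by
      classical
      rw [Equiv.Perm.mem_alternatingGroup]
      refine Eq.trans ?_ (Equiv.Perm.mem_alternatingGroup.mp x.2)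
      convert Equiv.Perm.sign_extendDomain (x : Equiv.Perm (Fin m)) (Equiv.ofInjective _ (Fin.castSuccEmb : Fin m ↪ Fin (m + 1)).injective) using 3
      simp only [MonoidHom.comp_apply, Subgroup.coe_subtype, Equiv.Perm.viaEmbeddingHom_apply, Equiv.Perm.viaEmbedding]
      congr!)

theorem incl_injective (m : ℕ) : Function.Injective (incl m) := fun x y h =>
  Subtype.ext (Equiv.Perm.viaEmbeddingHom_injective _ (congrArg Subtype.val h))

theorem card_alt (m : ℕ) (hm : 2 ≤ m) : 2 * Nat.card ↥(alternatingGroup (Fin m)) = m.factorial := by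
  haveI : Nontrivial (Fin m) := Fin.nontrivial_iff_two_le.mpr hm
  rw [two_mul_nat_card_alternatingGroup, Nat.card_perm, Nat.card_fin]

/-- `A_m` is not `p`-closed for `m ≥ max 4 p`, `p` odd -/
theorem not_pclosed (m p : ℕ) [Fact p.Prime] (hp : p ≠ 2) (hm : 4 ≤ m) (hpm : p ≤ m) :
    ¬ Cfsg.IsPClosed p ↥(alternatingGroup (Fin m)) := by
  intro h
  have hpp : p.Prime := Fact.out
  obtain ⟨P⟩ : Nonempty (Sylow p ↥(alternatingGroup (Fin m))) := inferInstance
  have hc := card_alt m (by omega)
  have hd : p ∣ Nat.card ↥(alternatingGroup (Fin m)) := by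
    have : p ∣ 2 * Nat.card ↥(alternatingGroup (Fin m)) := hc ▸ Nat.dvd_factorial hpp.pos hpm
    exact ((Nat.coprime_primes hpp Nat.prime_two).mpr hp).dvd_of_dvd_mul_left this
  have hbot : (P : Subgroup ↥(alternatingGroup (Fin m))) ≠ ⊥ := P.ne_bot_of_dvd_card hd
  haveI := h P
  rcases Nat.lt_or_ge m 5 with h5 | h5
  · obtain rfl : m = 4 := by omega
    obtain rfl : p = 3 := by have := hpp.two_le; interval_cases p <;> norm_num at * 
    let a : ↥(alternatingGroup (Fin 4)) := ⟨Equiv.swap 0 1 * Equiv.swap 1 2, Equiv.Perm.mem_alternatingGroup.mpr (by decide)⟩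
    let b : ↥(alternatingGroup (Fin 4)) := ⟨Equiv.swap 0 1 * Equiv.swap 1 3, Equiv.Perm.mem_alternatingGroup.mpr (by decide)⟩
    have key : ∀ x : ↥(alternatingGroup (Fin 4)), x ^ 3 = 1 → x ∈ (P : Subgroup ↥(alternatingGroup (Fin 4))) := by
      intro x hx
      obtain ⟨S, hS⟩ := IsPGroup.exists_le_sylow (P := Subgroup.zpowers x) (p := 3) (by
        intro y
        obtain ⟨i, hi⟩ := y.2
        refine ⟨1, Subtype.ext ?_⟩
        simp only [pow_one, Subgroup.coe_pow, Subgroup.coe_one]
        rw [← hi, ← zpow_natCast, ← zpow_mul, mul_comm, zpow_mul, zpow_natCast, hx, one_zpow])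
      haveI := Sylow.unique_of_normal P (h P)
      rw [Subsingleton.elim P S]
      exact hS (Subgroup.mem_zpowers x)
    have hab := mul_mem (key a (by decide)) (key b (by decide))
    obtain ⟨k, hk⟩ := P.isPGroup' ⟨a * b, hab⟩
    have hk' : (a * b) ^ 3 ^ k = 1 := congrArg Subtype.val hk
    have h2 : (a * b) ^ 2 = 1 := by decide
    obtain ⟨r, hr⟩ : Odd (3 ^ k) := Odd.pow (by decide)
    rw [hr, pow_succ, pow_mul, h2, one_pow, one_mul] at hk'
    exact absurd hk' (by decide)
  · haveI := alternatingGroup.isSimpleGroup (α := Fin m) (by rw [Nat.card_fin]; exact h5)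
    rcases (h P).eq_bot_or_eq_top with h1 | h1
    · exact hbot h1
    · obtain ⟨k, hk⟩ := IsPGroup.iff_card.mp P.isPGroup'
      rw [h1, Subgroup.card_top] at hk
      have h4 : 2 * 2 ∣ 2 * Nat.card ↥(alternatingGroup (Fin m)) := hc ▸ Nat.dvd_factorial (by norm_num) hm
      rw [hk] at h4
      have h2 : (2 : ℕ) ∣ p ^ k := (Nat.mul_dvd_mul_iff_left (by norm_num)).mp h4
      exact hp ((Nat.prime_dvd_prime_iff_eq Nat.prime_two hpp).mp (Nat.prime_two.dvd_of_dvd_pow h2)).symm


/-- Let n ≥ 5 and p an odd prime with p ≤ n, and suppose that every proper subgroup of the alternating group of degree n whose order is divisible by p has a normal Sylow p-subgroup. Then n = p. -/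
theorem result (n p : ℕ) (hn : 5 ≤ n) [Fact p.Prime] (hp : p ≠ 2) (hpn : p ≤ n)
    (h : ∀ H : Subgroup ↥(alternatingGroup (Fin n)), H ≠ ⊤ → p ∣ Nat.card ↥H → Cfsg.IsPClosed p ↥H) : n = p := by
  by_contra hne
  obtain ⟨m, rfl⟩ : ∃ m, n = m + 1 := ⟨n - 1, by omega⟩
  have hpm : p ≤ m := by omega
  apply not_pclosed m p hp (by omega) hpm
  let e := MonoidHom.ofInjective (incl_injective m)
  have hc1 := card_alt m (by omega)
  have hc2 := card_alt (m + 1) (by omega)
  have hcr : Nat.card ↥(incl m).range = Nat.card ↥(alternatingGroup (Fin m)) := (Nat.card_congr e.toEquiv).symm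
  have hH : Cfsg.IsPClosed p ↥(incl m).range := by
    refine h _ (fun htop => ?_) ?_
    · rw [htop, Subgroup.card_top] at hcr
      rw [hcr, hc1, Nat.factorial_succ] at hc2
      have := Nat.factorial_pos m
      nlinarith
    · rw [hcr]
      exact ((Nat.coprime_primes Fact.out Nat.prime_two).mpr hp).dvd_of_dvd_mul_left
        (hc1 ▸ Nat.dvd_factorial (Fact.out : p.Prime).pos hpm)
  intro P
  have hsur : Function.Surjective e.toMonoidHom := e.surjective
  have := (hH (P.mapSurjective hsur)).comap e.toMonoidHom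
  rwa [Sylow.coe_mapSurjective, Subgroup.comap_map_eq_self_of_injective (f := e.toMonoidHom) e.injective] at this

end Cfsg.Agent.S3941
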