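import Cfsg.Statements.S3946
import Mathlib
import Cfsg.Agent.GenA.Splitting

set_option autoImplicit false
open Cfsg
open scoped commutatorElement

namespace Cfsg.Agent.S3946

/-- Call an automorphism α of order n of a group G splitting when x · α(x) · α²(x) ⋯ α^(n−1)(x) = 1 for every x ∈ G. A finite group admitting a splitting automorphism of prime order is nilpotent (this contains the case of a fixed-point-free automorphism of prime order). -/
theorem result {G : Type*} [Group G] [Finite G] (α : MulAut G) (hp : (orderOf α).Prime)
    (hsplit : ∀ x : G, (((List.range (orderOf α)).map (fun i : ℕ => (α ^ i) x)).prod = 1)) : Group.IsNilpotent G := by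
  haveI := Fact.mk hp
  refine Cfsg.Agent.GenA.Splitting.isNilpotent_aux (p := orderOf α) _ G α rfl ⟨pow_orderOf_eq_one α, fun x => ?_⟩
  rw [← hsplit x]
  suffices ∀ k, Cfsg.Agent.GenA.Splitting.nrm α k x = ((List.range k).map (fun i : ℕ => (α ^ i) x)).prod from this _
  intro k
  induction k with
  | zero => rfl
  | succ k ih => rw [List.range_succ, List.map_append, List.prod_append, ← ih]; simp [Cfsg.Agent.GenA.Splitting.nrm]

end Cfsg.Agent.S3946
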