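import Cfsg.Statements.S3947
import Mathlib
import Cfsg.Agent.GenA.UniqueMax

set_option autoImplicit false
open Cfsg
open scoped commutatorElement

namespace Cfsg.Agent.S3947

/-- Let G be a finite group and A a proper subgroup of G whose normal closure is G. Let Y be the join of all proper subgroups H of G that contain A and are generated by their own conjugates of A (the normal closure of A in H is H). Then either Y = G, or A is contained in exactly one maximal subgroup of G. -/
theorem result {G : Type*} [Group G] [Finite G] (A : Subgroup G) (hA : Subgroup.normalClosure (A : Set G) = ⊤) (hAG : A ≠ ⊤) :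
    sSup {H : Subgroup G | A ≤ H ∧ H ≠ ⊤ ∧ Subgroup.normalClosure ((A.subgroupOf H : Subgroup ↥H) : Set ↥H) = ⊤} = ⊤ ∨
      ∃! M : Subgroup G, IsCoatom M ∧ A ≤ M := by
  classical
  by_cases hY : sSup {H : Subgroup G | A ≤ H ∧ H ≠ ⊤ ∧ Subgroup.normalClosure ((A.subgroupOf H : Subgroup ↥H) : Set ↥H) = ⊤} = ⊤
  · exact Or.inl hY
  right
  obtain ⟨M, hM, hAM⟩ := (eq_top_or_exists_le_coatom A).resolve_left hAG
  refine ⟨M, ⟨hM, hAM⟩, fun M' hM' => ?_⟩
  refine Cfsg.Agent.GenA.UniqueMax.sSup_fam_eq_top_or_unique A (fun N hN hle => ?_) hAG ?_ M' M hM'.1 hM'.2 hM hAM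
  · exact eq_top_iff.mpr (hA.ge.trans (Subgroup.normalClosure_le_normal hle))
  · intro h
    refine hY (eq_top_iff.mpr (h.ge.trans (sSup_le_sSup fun H hH => ?_)))
    obtain ⟨hne, hle, hgen⟩ := hH
    refine ⟨hle, hne, ?_⟩
    set K := Subgroup.normalClosure ((A.subgroupOf H : Subgroup ↥H) : Set ↥H)
    have hsub : A ≤ K.map H.subtype := fun a ha => ⟨⟨a, hle ha⟩, Subgroup.subset_normalClosure ha, rfl⟩
    have := hgen _ hsub (Subgroup.map_subtype_le K) ?_
    · apply Subgroup.map_injective H.subtype_injective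
      rw [this, ← MonoidHom.range_eq_map, Subgroup.range_subtype]
    · calc H = (⊤ : Subgroup ↥H).map H.subtype := by rw [← MonoidHom.range_eq_map, Subgroup.range_subtype]
        _ ≤ (Subgroup.normalizer (K : Set ↥H)).map H.subtype := Subgroup.map_mono (Subgroup.normalizer_eq_top_iff.mpr inferInstance).ge
        _ ≤ _ := Subgroup.le_normalizer_map _

end Cfsg.Agent.S3947
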