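import Cfsg.Statements.S3949
import Mathlib

set_option autoImplicit false
open Cfsg
open scoped commutatorElement

namespace Cfsg.Agent.S3949
/-- on inverted elements the iterates of `c ↦ c * α(c)⁻¹` are `2`-power maps -/
theorem iterate_inverted {G : Type*} [Group G] (α : MulAut G) {g : G} (hg : α g = g⁻¹) :
    ∀ j : ℕ, ((fun c : G => c * (α c)⁻¹)^[j]) g = g ^ 2 ^ j := by
  intro j
  induction j with
  | zero => simp
  | succ j ih =>
    rw [Function.iterate_succ_apply', ih]
    show g ^ 2 ^ j * (α (g ^ 2 ^ j))⁻¹ = g ^ 2 ^ (j + 1)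
    rw [map_pow, hg, inv_pow, inv_inv, pow_succ, pow_mul, sq]


/-- Let G be a finite group and α an automorphism of G of order 2 such that the elements g·α(g)⁻¹ generate G. Let j be a positive integer such that 2^j divides the order of no element inverted by α. Then the set of values of the j-th iterate of the map c ↦ c·α(c)⁻¹ is exactly the set of elements of odd order inverted by α. -/
theorem result {G : Type*} [Group G] [Finite G] (α : MulAut G) (hα : orderOf α = 2) (hG : Subgroup.closure (Set.range (fun c : G => c * (α c)⁻¹)) = ⊤)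
    (j : ℕ) (hj : ∀ g : G, α g = g⁻¹ → ¬ 2 ^ j ∣ orderOf g) :
    Set.range ((fun c : G => c * (α c)⁻¹)^[j]) = {g : G | Odd (orderOf g) ∧ α g = g⁻¹} := by
  have hα2 : ∀ c : G, α (α c) = c := by
    intro c
    have h : α ^ 2 = 1 := by rw [← hα]; exact pow_orderOf_eq_one α
    have := DFunLike.congr_fun h c
    rwa [sq] at this
  obtain ⟨j, rfl⟩ : ∃ i, j = i + 1 := by
    rcases Nat.eq_zero_or_pos j with rfl | h
    · exact absurd (by simp : 2 ^ 0 ∣ orderOf (1 : G)) (hj 1 (by simp))
    · exact ⟨j - 1, by omega⟩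
  ext g
  constructor
  · rintro ⟨c, rfl⟩
    rw [Function.iterate_succ_apply]
    have hinv : α (c * (α c)⁻¹) = (c * (α c)⁻¹)⁻¹ := by rw [map_mul, map_inv, hα2, mul_inv_rev, inv_inv]
    rw [iterate_inverted α hinv]
    refine ⟨?_, by rw [map_pow, hinv, inv_pow]⟩
    have hd := hj _ hinv
    obtain ⟨i, m, hm, hord⟩ := Nat.exists_eq_two_pow_mul_odd (orderOf_pos (c * (α c)⁻¹)).ne'
    have hij : i ≤ j := by
      by_contra hlt
      exact hd (hord ▸ (pow_dvd_pow 2 (by omega : j + 1 ≤ i)).trans (dvd_mul_right _ _))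
    refine hm.of_dvd_nat (orderOf_dvd_of_pow_eq_one ?_)
    rw [← pow_mul, ← orderOf_dvd_iff_pow_eq_one, hord]
    exact mul_dvd_mul_right (pow_dvd_pow 2 hij) m
  · rintro ⟨hodd, hg⟩
    have hco : (2 ^ (j + 1)).Coprime (orderOf g) := Nat.Coprime.pow_left _ (Nat.coprime_two_left.mpr hodd)
    obtain ⟨m, hm⟩ := exists_pow_eq_self_of_coprime hco
    refine ⟨g ^ m, ?_⟩
    rw [iterate_inverted α (by rw [map_pow, hg, inv_pow]), ← pow_mul, mul_comm, pow_mul]
    exact hm

end Cfsg.Agent.S3949
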