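import Cfsg.Statements.S3950
import Mathlib
import Cfsg.Agent.GenA.Schur.Twist

set_option autoImplicit false
open Cfsg
open scoped commutatorElement

namespace Cfsg.Agent.S3950

/-- A finite abelian group has trivial Schur multiplier if and only if it is cyclic. -/
theorem result {G : Type*} [CommGroup G] [Finite G] : Cfsg.HasCyclicSchurMultiplier G 1 ↔ IsCyclic G := by
  classical
  rw [Cfsg.Agent.GenA.Schur.trivial_iff]
  constructor
  · intro hM
    obtain ⟨ι, hι, n, hn, ⟨e⟩⟩ := CommGroup.equiv_prod_multiplicative_zmod_of_finite G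
    by_contra hnc
    by_cases hco : ∀ i j, i ≠ j → Nat.Coprime (n i) (n j)
    · haveI : ∀ i, NeZero (n i) := fun i => ⟨by have := hn i; omega⟩
      refine hnc (IsCyclic.of_exponent_eq_card ?_)
      rw [Monoid.exponent_eq_of_mulEquiv e, Nat.card_congr e.toEquiv, Monoid.exponent_pi, Nat.card_pi]
      simp only [Monoid.exponent_multiplicative, ZMod.exponent, Nat.card_congr Multiplicative.toAdd, Nat.card_zmod]
      exact Finset.lcm_eq_prod (fun i _ j _ hij => hco i j hij)
    · push Not at hco
      obtain ⟨i, j, hij, hd⟩ := hco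
      set d := Nat.gcd (n i) (n j) with hdd
      have hd1 : d ≠ 1 := hd
      let fi : G →* Multiplicative (ZMod d) :=
        ((ZMod.castHom (Nat.gcd_dvd_left (n i) (n j)) (ZMod d)).toAddMonoidHom.toMultiplicative).comp
          ((Pi.evalMonoidHom (fun i => Multiplicative (ZMod (n i))) i).comp e.toMonoidHom)
      let fj : G →* Multiplicative (ZMod d) :=
        ((ZMod.castHom (Nat.gcd_dvd_right (n i) (n j)) (ZMod d)).toAddMonoidHom.toMultiplicative).comp
          ((Pi.evalMonoidHom (fun i => Multiplicative (ZMod (n i))) j).comp e.toMonoidHom)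
      let β : G →* G →* Multiplicative (ZMod d) := MonoidHom.mk' (fun x => MonoidHom.mk'
        (fun y => Multiplicative.ofAdd (Multiplicative.toAdd (fi x) * Multiplicative.toAdd (fj y)))
        fun y z => by simp [mul_add]) fun x y => MonoidHom.ext fun z => by simp [add_mul]
      set h := e.symm (Pi.mulSingle i (Multiplicative.ofAdd 1)) with hh
      set k := e.symm (Pi.mulSingle j (Multiplicative.ofAdd 1)) with hk
      have h1 : β h k * (β k h)⁻¹ = Multiplicative.ofAdd (1 : ZMod d) := by
        simp [β, fi, fj, hh, hk, Pi.mulSingle_apply, hij, Ne.symm hij]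
        rw [ZMod.cast_one (Nat.gcd_dvd_left (n i) (n j)), ZMod.cast_one (Nat.gcd_dvd_right (n i) (n j)), one_mul]
      obtain ⟨η, hη⟩ := Cfsg.Agent.GenA.Schur.exists_lift _ (Cfsg.Agent.GenA.Schur.Twist.proj_surjective β)
        (Cfsg.Agent.GenA.Schur.Twist.ker_le_center β) (MonoidHom.id G)
      rw [MonoidHom.id_comp] at hη
      have hmap := Cfsg.Agent.GenA.Schur.map_M _ (Cfsg.Agent.GenA.Schur.Twist.ker_le_center β) η hη
      rw [hM, Subgroup.map_bot] at hmap
      have hmem : Cfsg.Agent.GenA.Schur.Twist.incl β (β h k * (β k h)⁻¹) ∈ (⊥ : Subgroup _) := by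
        rw [hmap]
        refine Subgroup.mem_inf.mpr ⟨rfl, ?_⟩
        rw [← Cfsg.Agent.GenA.Schur.Twist.commutator_commute β (mul_comm h k) 1 1, commutator_def]
        exact Subgroup.commutator_mem_commutator (Subgroup.mem_top _) (Subgroup.mem_top _)
      rw [Subgroup.mem_bot, map_eq_one_iff _ (Cfsg.Agent.GenA.Schur.Twist.incl_injective β), h1] at hmem
      have h10 : ((1 : ℕ) : ZMod d) = 0 := by exact_mod_cast (show (1 : ZMod d) = 0 from hmem)
      exact hd1 (Nat.dvd_one.mp ((ZMod.natCast_eq_zero_iff 1 d).mp h10))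
  · intro hc
    have hab : IsMulCommutative (Cfsg.Agent.GenA.Schur.E G) :=
      (Cfsg.Agent.GenA.Schur.proj G).isMulCommutative_of_isCyclic_of_ker_le_center (Cfsg.Agent.GenA.Schur.ker_le_center G)
    unfold Cfsg.Agent.GenA.Schur.M
    rw [(commutator_eq_bot_iff _).mpr hab, inf_bot_eq]

end Cfsg.Agent.S3950
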