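import Cfsg.Statements.S3953
import Mathlib
import Cfsg.Agent.GenA.Schur.Projective
import Cfsg.Agent.GenA.Schur.Transfer

set_option autoImplicit false
open Cfsg
open scoped commutatorElement

namespace Cfsg.Agent.S3953

/-- Let `P` be a Sylow `p`-subgroup of the finite group `G`, let `A` be the Schur multiplier of `G` and `B` that of `P`. Then the `p`-primary component of `A` is isomorphic to a direct factor of `B`: there are subgroups `C` and `D` of `B` meeting trivially and generating `B`, with `C` isomorphic to the `p`-primary component of `A`. -/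
theorem result {G : Type*} [Group G] [Finite G] (p : ℕ) [Fact p.Prime] (P : Sylow p G) {A B : Type*} [CommGroup A] [CommGroup B] (hA : Cfsg.HasSchurMultiplier G A) (hB : Cfsg.HasSchurMultiplier P B) : ∃ C D : Subgroup B, C ⊓ D = ⊥ ∧ C ⊔ D = ⊤ ∧ Nonempty (CommGroup.primaryComponent A p ≃* C) := by
  obtain ⟨eA⟩ := Cfsg.Agent.GenA.Schur.mulEquiv_M hA
  obtain ⟨eB⟩ := Cfsg.Agent.GenA.Schur.mulEquiv_M hB
  haveI : Finite B := Finite.of_equiv _ eB.symm.toEquiv
  haveI : Finite A := Finite.of_equiv _ eA.symm.toEquiv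
  set U : Subgroup G := (P : Subgroup G)
  obtain ⟨η, hη⟩ := Cfsg.Agent.GenA.Schur.exists_lift (Cfsg.Agent.GenA.Schur.preProj U)
    (Cfsg.Agent.GenA.Schur.preProj_surjective U) (Cfsg.Agent.GenA.Schur.preProj_ker U) (MonoidHom.id ↥U)
  rw [MonoidHom.id_comp] at hη
  obtain ⟨t, ht⟩ := Cfsg.Agent.GenA.Schur.exists_transfer U η hη
  let f : B →* A := eA.symm.toMonoidHom.comp (((((Cfsg.Agent.GenA.Schur.pre U).subtype.comp η).comp
    (Cfsg.Agent.GenA.Schur.M ↥U).subtype).codRestrict (Cfsg.Agent.GenA.Schur.M G) fun b =>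
      Cfsg.Agent.GenA.Schur.mapped_mem U η hη b.2).comp eB.toMonoidHom)
  let tA : A →* B := eB.symm.toMonoidHom.comp (t.comp eA.toMonoidHom)
  have hft : ∀ a, f (tA a) = a ^ U.index := fun a => by
    refine eA.injective ?_
    rw [map_pow]
    apply Subtype.ext
    simp only [f, tA, MonoidHom.comp_apply, MulEquiv.coe_toMonoidHom, MulEquiv.apply_symm_apply]
    exact ht (eA a)
  set Ap := CommGroup.primaryComponent A p with hAp
  have hApP : IsPGroup p ↥Ap := CommGroup.primaryComponent.isPGroup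
  -- `B` is a `p`-group
  have hBp : IsPGroup p B := by
    obtain ⟨⟨Γ, i1, i2, σ, hσ, ⟨e⟩⟩, -⟩ := hB
    obtain ⟨k, hk⟩ := IsPGroup.iff_card.mp P.isPGroup'
    have h := Cfsg.Agent.GenA.Schur.exponent_sq_dvd σ hσ
    rw [Monoid.exponent_eq_of_mulEquiv e] at h
    obtain ⟨j, -, hj⟩ := (Nat.dvd_prime_pow Fact.out).mp (hk ▸ (dvd_pow_self (Monoid.exponent B) two_ne_zero).trans h)
    exact fun b => ⟨j, by rw [← hj]; exact Monoid.pow_exponent_eq_one b⟩
  have hfB : ∀ b, f b ∈ Ap := fun b => by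
    obtain ⟨k, hk⟩ := hBp b
    obtain ⟨j, -, hj⟩ := (Nat.dvd_prime_pow Fact.out).mp (orderOf_dvd_of_pow_eq_one (by rw [← map_pow, hk, map_one] : (f b) ^ p ^ k = 1))
    exact ⟨j, by rw [← hj, pow_orderOf_eq_one]⟩
  have hco : (Nat.card ↥Ap).Coprime U.index := by
    obtain ⟨k, hk⟩ := IsPGroup.iff_card.mp hApP
    rw [hk]
    exact Nat.Coprime.pow_left k ((Fact.out : p.Prime).coprime_iff_not_dvd.mpr P.not_dvd_index)
  have hbij : Function.Bijective (fun a : ↥Ap => a ^ U.index) := (powCoprime hco).bijective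
  refine ⟨Ap.map tA, f.ker, ?_, ?_, ?_⟩
  · rw [eq_bot_iff]
    rintro _ ⟨⟨a, ha, rfl⟩, hk⟩
    have h1 : (⟨a, ha⟩ : ↥Ap) ^ U.index = (1 : ↥Ap) ^ U.index := by
      rw [one_pow]; exact Subtype.ext ((hft a).symm.trans hk)
    have : a = 1 := congrArg Subtype.val (hbij.1 h1)
    rw [this, map_one]; exact one_mem _
  · rw [eq_top_iff]
    intro b _
    obtain ⟨⟨a, ha⟩, e⟩ := hbij.2 ⟨f b, hfB b⟩
    have h1 : (tA a)⁻¹ * b ∈ f.ker := by
      rw [MonoidHom.mem_ker, map_mul, map_inv, hft, show a ^ U.index = f b from congrArg Subtype.val e, inv_mul_cancel]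
    have := Subgroup.mul_mem_sup (Subgroup.mem_map_of_mem tA ha) h1
    rwa [mul_inv_cancel_left] at this
  · have hinj : Function.Injective (tA.comp Ap.subtype) := fun a a' h => hbij.1 (Subtype.ext (by
      show (a : A) ^ U.index = (a' : A) ^ U.index
      rw [← hft, ← hft]; exact congrArg f h))
    have hr : (tA.comp Ap.subtype).range = Ap.map tA := by rw [MonoidHom.range_comp, Subgroup.range_subtype]
    exact ⟨(MonoidHom.ofInjective hinj).trans (MulEquiv.subgroupCongr hr)⟩

end Cfsg.Agent.S3953
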