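import Cfsg.Statements.S3954
import Mathlib
import Cfsg.Agent.GenA.Schur.Projective
import Cfsg.Agent.GenA.Schur.Transfer

set_option autoImplicit false
open Cfsg
open scoped commutatorElement

namespace Cfsg.Agent.S3954

/-- Let `U` be a subgroup of index `m` in the finite group `G`, let `A` be the Schur multiplier of `G` and `B` that of `U`. Then the subgroup of `m`-th powers of `A` is isomorphic to a subgroup of `B`. -/
theorem result {G : Type*} [Group G] [Finite G] (U : Subgroup G) {A B : Type*} [CommGroup A] [CommGroup B] (hA : Cfsg.HasSchurMultiplier G A) (hB : Cfsg.HasSchurMultiplier U B) : ∃ C : Subgroup B, Nonempty ((powMonoidHom U.index : A →* A).range ≃* C) := by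
  obtain ⟨eA⟩ := Cfsg.Agent.GenA.Schur.mulEquiv_M hA
  obtain ⟨eB⟩ := Cfsg.Agent.GenA.Schur.mulEquiv_M hB
  obtain ⟨η, hη⟩ := Cfsg.Agent.GenA.Schur.exists_lift (Cfsg.Agent.GenA.Schur.preProj U)
    (Cfsg.Agent.GenA.Schur.preProj_surjective U) (Cfsg.Agent.GenA.Schur.preProj_ker U) (MonoidHom.id ↥U)
  rw [MonoidHom.id_comp] at hη
  let f : B →* A := eA.symm.toMonoidHom.comp (((((Cfsg.Agent.GenA.Schur.pre U).subtype.comp η).comp
    (Cfsg.Agent.GenA.Schur.M ↥U).subtype).codRestrict (Cfsg.Agent.GenA.Schur.M G) fun b =>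
      Cfsg.Agent.GenA.Schur.mapped_mem U η hη b.2).comp eB.toMonoidHom)
  have hle : (powMonoidHom U.index : A →* A).range ≤ f.range := by
    rintro _ ⟨a, rfl⟩
    obtain ⟨b, hb, e⟩ := Cfsg.Agent.GenA.Schur.pow_mem_image U η hη (eA a).2
    refine ⟨eB.symm ⟨b, hb⟩, eA.injective ?_⟩
    rw [powMonoidHom_apply, map_pow]
    apply Subtype.ext
    simp only [f, MonoidHom.comp_apply, MulEquiv.coe_toMonoidHom, MulEquiv.apply_symm_apply]
    exact e
  haveI : Finite B := Finite.of_equiv _ eB.symm.toEquiv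
  haveI : Finite A := Finite.of_equiv _ eA.symm.toEquiv
  obtain ⟨g, hg⟩ := Cfsg.Agent.GenA.Schur.exists_injective f.rangeRestrict f.rangeRestrict_surjective
  have hinj : Function.Injective (g.comp (Subgroup.inclusion hle)) := hg.comp (Subgroup.inclusion_injective hle)
  exact ⟨(g.comp (Subgroup.inclusion hle)).range, ⟨MonoidHom.ofInjective hinj⟩⟩

end Cfsg.Agent.S3954
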