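import Cfsg.Statements.S3956
import Mathlib
import Cfsg.Agent.GenA.Schur.Projective

set_option autoImplicit false
universe u v
open Cfsg
open scoped commutatorElement

namespace Cfsg.Agent.S3956

/-- Let `σ : Γ →* Q` be a finite stem extension of the finite group `Q` such that every homomorphism from `Q` to the quotient of `GL n ℂ` by its centre, for every `n`, lifts along `σ` to a homomorphism `Γ →* GL n ℂ`. Then `σ` is a Schur covering group of `Q`: for every finite stem extension `τ : Δ →* Q` with `Δ` in the same universe as `Q`, the kernel of `τ` is a homomorphic image of the kernel of `σ`. -/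
theorem result {Q : Type u} [Group Q] [Finite Q] {Γ : Type v} [Group Γ] [Finite Γ] (σ : Γ →* Q) (hσ : Cfsg.IsStemExtension σ) (hlift : ∀ (n : ℕ) (γ : Q →* (GL (Fin n) ℂ ⧸ Subgroup.center (GL (Fin n) ℂ))), ∃ ρ : Γ →* GL (Fin n) ℂ, (QuotientGroup.mk' (Subgroup.center (GL (Fin n) ℂ))).comp ρ = γ.comp σ) (Δ : Type u) [Group Δ] [Finite Δ] (τ : Δ →* Q) (hτ : Cfsg.IsStemExtension τ) : ∃ π : σ.ker →* τ.ker, Function.Surjective π := by
  obtain ⟨β, hβ⟩ := Cfsg.Agent.GenA.Schur.exists_lift σ hσ.1 hσ.2.1 (MonoidHom.id Q)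
  rw [MonoidHom.id_comp] at hβ
  obtain ⟨hmap, -⟩ := Cfsg.Agent.GenA.Schur.map_M_stem σ hσ β hβ
  let r : ↥(Cfsg.Agent.GenA.Schur.M Q) →* σ.ker :=
    (β.comp (Cfsg.Agent.GenA.Schur.M Q).subtype).codRestrict σ.ker fun a => hmap ▸ Subgroup.mem_map_of_mem β a.2
  have hr : Function.Bijective r := by
    refine ⟨?_, fun x => ?_⟩
    · rw [injective_iff_map_eq_one]
      rintro ⟨m, hm⟩ h
      by_contra hne
      obtain ⟨n, γ, η, hη, hηm⟩ := Cfsg.Agent.GenA.Schur.exists_separating hm fun h' => hne (Subtype.ext h')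
      obtain ⟨ρ, hρ⟩ := hlift n γ
      refine hηm ?_
      rw [← Cfsg.Agent.GenA.Schur.eq_on_commutator (ρ.comp β) η (fun a => ?_) hm.2, MonoidHom.comp_apply,
        show β m = 1 from congrArg Subtype.val h, map_one]
      refine (QuotientGroup.eq_one_iff _).mp ?_
      show QuotientGroup.mk' (Subgroup.center (GL (Fin n) ℂ)) ((ρ (β a))⁻¹ * η a) = 1
      rw [map_mul, map_inv, inv_mul_eq_one, ← MonoidHom.comp_apply _ ρ, hρ, ← MonoidHom.comp_apply _ η, hη,
        MonoidHom.comp_apply, MonoidHom.comp_apply, ← MonoidHom.comp_apply σ, hβ]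
    · obtain ⟨m, hm, e⟩ := hmap.ge x.2
      exact ⟨⟨m, hm⟩, Subtype.ext e⟩
  obtain ⟨π, hπ⟩ := Cfsg.Agent.GenA.Schur.exists_surjective τ hτ
  exact ⟨π.comp (MulEquiv.ofBijective r hr).symm.toMonoidHom, hπ.comp (MulEquiv.ofBijective r hr).symm.surjective⟩

end Cfsg.Agent.S3956
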