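import Cfsg.Statements.S3958
import Mathlib
import Cfsg.Agent.GenA.Schur.Cover

set_option autoImplicit false
universe u v
open Cfsg
open scoped commutatorElement

namespace Cfsg.Agent.S3958

/-- Let `σ : Γ →* Q` be a finite stem extension of the finite group `Q` with `Γ` of trivial Schur multiplier. Then `σ` is a Schur covering group of `Q`: for every finite stem extension `τ : Δ →* Q` with `Δ` in the same universe as `Q`, the kernel of `τ` is a homomorphic image of the kernel of `σ`. -/
theorem result {Q : Type u} [Group Q] [Finite Q] {Γ : Type v} [Group Γ] [Finite Γ] (σ : Γ →* Q) (hσ : Cfsg.IsStemExtension σ) (hΓ : Cfsg.HasCyclicSchurMultiplier Γ 1) (Δ : Type u) [Group Δ] [Finite Δ] (τ : Δ →* Q) (hτ : Cfsg.IsStemExtension τ) : ∃ π : σ.ker →* τ.ker, Function.Surjective π := by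
  obtain ⟨Γ', i1, i2, σ', h1, ⟨f⟩, β, hβ, hc⟩ := Cfsg.Agent.GenA.Schur.exists_cover σ hσ
  have hσb : ∀ x, σ' x = σ (β x) := fun x => (DFunLike.congr_fun hc x).symm
  have hkb : β.ker ≤ σ'.ker := fun x hx => by
    rw [MonoidHom.mem_ker, hσb, MonoidHom.mem_ker.mp hx, map_one]
  -- the extension `β` transported to the universe of `Γ`
  obtain ⟨k, ⟨g⟩⟩ := Finite.exists_equiv_fin Γ'
  let e0 : ULift.{v} {x : Fin k // True} ≃ Γ' := Equiv.ulift.trans ((Equiv.subtypeUnivEquiv fun _ => trivial).trans g.symm)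
  letI : Group (ULift.{v} {x : Fin k // True}) := e0.group
  let e : ULift.{v} {x : Fin k // True} ≃* Γ' := e0.mulEquiv
  have hstem : Cfsg.IsStemExtension (β.comp e.toMonoidHom) := by
    refine ⟨hβ.comp e.surjective, fun x hx => ?_, fun x hx => ?_⟩
    · refine Subgroup.mem_center_iff.mpr fun y => e.injective ?_
      rw [_root_.map_mul, _root_.map_mul]
      exact Subgroup.mem_center_iff.mp (h1.2.1 (hkb hx)) (e y)
    · have h := h1.2.2 (hkb hx)
      have hle : commutator Γ' ≤ (commutator (ULift.{v} {x : Fin k // True})).map e.toMonoidHom := by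
        rw [commutator_def, commutator_def, Subgroup.map_commutator, Subgroup.map_top_of_surjective _ e.surjective]
      obtain ⟨y, hy, hyx⟩ := hle h
      exact e.injective hyx ▸ hy
  obtain ⟨q, hq⟩ := hΓ.2 _ (β.comp e.toMonoidHom) hstem
  have hinj : Function.Injective β := by
    rw [injective_iff_map_eq_one]
    intro x hx
    obtain ⟨y, rfl⟩ := e.surjective x
    obtain ⟨a, ha⟩ := hq ⟨y, hx⟩
    rw [Subsingleton.elim a 1, map_one] at ha
    have : (1 : ULift.{v} {x : Fin k // True}) = y := congrArg Subtype.val ha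
    rw [← this, map_one]
  obtain ⟨π, hπ⟩ := Cfsg.Agent.GenA.Schur.exists_surjective τ hτ
  let r : σ.ker →* σ'.ker := ((MulEquiv.ofBijective β ⟨hinj, hβ⟩).symm.toMonoidHom.comp σ.ker.subtype).codRestrict _ fun x => by
    rw [MonoidHom.mem_ker, hσb]
    exact (congrArg σ ((MulEquiv.ofBijective β ⟨hinj, hβ⟩).apply_symm_apply x)).trans x.2
  have hr : Function.Surjective r := fun x => by
    refine ⟨⟨β x, by rw [MonoidHom.mem_ker, ← hσb]; exact x.2⟩, Subtype.ext ?_⟩
    exact (MulEquiv.ofBijective β ⟨hinj, hβ⟩).symm_apply_apply x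
  exact ⟨π.comp (f.toMonoidHom.comp r), hπ.comp (f.surjective.comp hr)⟩

end Cfsg.Agent.S3958
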