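import Cfsg.Statements.S3961
import Mathlib
import Cfsg.Agent.GenA.Schur.Cover
import Cfsg.Agent.GenA.Schur.Perfect

set_option autoImplicit false
universe u v
open Cfsg
open scoped commutatorElement

namespace Cfsg.Agent.S3961

/-- Let `π : G →* Q` be a surjective homomorphism with central kernel from a finite perfect group `G` (a perfect cover of `Q`). Then `π` is universal, in the sense that every surjective homomorphism `ξ : X →* Q` with central kernel from a group `X` in the universe of `G` admits a homomorphism `η : G →* X` with `ξ ∘ η = π`, if and only if `G` has trivial Schur multiplier. -/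
theorem result {G : Type u} {Q : Type v} [Group G] [Group Q] [Finite G] (hG : Group.IsPerfect G) (π : G →* Q) (hπ : Function.Surjective π) (hker : π.ker ≤ Subgroup.center G) : (∀ (X : Type u) [Group X] (ξ : X →* Q), Function.Surjective ξ → ξ.ker ≤ Subgroup.center X → ∃ η : G →* X, ξ.comp η = π) ↔ Cfsg.HasCyclicSchurMultiplier G 1 := by
  rw [Cfsg.Agent.GenA.Schur.trivial_iff]
  constructor
  · intro huniv
    by_contra hM
    obtain ⟨⟨Δ, i1, i2, τ, hτ, ⟨e⟩⟩, -⟩ := Cfsg.Agent.GenA.Schur.hasSchurMultiplier_M (Q := G)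
    -- `Δ` is perfect and central over `Q`
    have hΔ : ∀ x : Δ, x ∈ commutator Δ := by
      intro x
      have hle : commutator G ≤ (commutator Δ).map τ := by
        rw [commutator_def, commutator_def, Subgroup.map_commutator, Subgroup.map_top_of_surjective _ hτ.1]
      obtain ⟨c, hc, hcx⟩ := hle (show τ x ∈ commutator G from (Group.isPerfect_def.mp hG).ge (Subgroup.mem_top _))
      have := hτ.2.2 (show c⁻¹ * x ∈ τ.ker by rw [MonoidHom.mem_ker, map_mul, map_inv, hcx, inv_mul_cancel])
      simpa using mul_mem hc this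
    have hΔp : Group.IsPerfect Δ := Group.isPerfect_def.mpr (eq_top_iff.mpr fun x _ => hΔ x)
    have hcen : (π.comp τ).ker ≤ Subgroup.center Δ := by
      intro k hk
      rw [Subgroup.mem_center_iff]
      intro y
      have hcomm : ∀ z : Δ, ⁅z, k⁆ ∈ Subgroup.center Δ := fun z => hτ.2.1 (by
        rw [MonoidHom.mem_ker, map_commutatorElement, commutatorElement_eq_one_iff_mul_comm]
        exact Subgroup.mem_center_iff.mp (hker hk) _)
      -- `z ↦ ⁅z, k⁆` is a homomorphism to the centre, so trivial
      letI : CommGroup ↥(Subgroup.center Δ) :=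
        { (inferInstance : Group ↥(Subgroup.center Δ)) with
          mul_comm := fun a b => Subtype.ext (Subgroup.mem_center_iff.mp b.2 a) }
      let φ : Δ →* ↥(Subgroup.center Δ) := MonoidHom.mk' (fun z => ⟨⁅z, k⁆, hcomm z⟩) fun a b => Subtype.ext (by
        show ⁅a * b, k⁆ = ⁅a, k⁆ * ⁅b, k⁆
        rw [commutatorElement_mul_left_eq_conj_mul, Subgroup.mem_center_iff.mp (hcomm b) a, mul_inv_cancel_right,
          Subgroup.mem_center_iff.mp (hcomm b) ⁅a, k⁆])
      have := MonoidHom.mem_ker.mp (Abelianization.commutator_subset_ker φ (hΔ y))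
      exact commutatorElement_eq_one_iff_mul_comm.mp (congrArg Subtype.val this :)
    obtain ⟨η, hη⟩ := huniv Δ (π.comp τ) (hπ.comp hτ.1) hcen
    have h1 : τ.comp η = MonoidHom.id G := by
      refine Cfsg.Agent.GenA.Schur.eq_of_perfect hG π hker _ _ ?_
      rw [← MonoidHom.comp_assoc, hη, MonoidHom.comp_id]
    have h2 : η.comp τ = MonoidHom.id Δ := by
      refine Cfsg.Agent.GenA.Schur.eq_of_perfect hΔp τ hτ.2.1 _ _ ?_
      rw [← MonoidHom.comp_assoc, h1, MonoidHom.id_comp, MonoidHom.comp_id]
    refine hM ((Subgroup.eq_bot_iff_forall _).mpr fun z hz => ?_)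
    obtain ⟨⟨x, hx⟩, hxz⟩ := e.surjective ⟨z, hz⟩
    have : x = 1 := by
      have := DFunLike.congr_fun h2 x
      rw [MonoidHom.comp_apply, MonoidHom.mem_ker.mp hx, map_one] at this
      exact this.symm
    subst this
    rw [show (⟨1, hx⟩ : τ.ker) = 1 from rfl, map_one] at hxz
    exact (congrArg Subtype.val hxz).symm
  · intro hM X _ ξ hξ hξk
    exact Cfsg.Agent.GenA.Schur.exists_lift_of_trivial hG hM ξ hξ hξk π

end Cfsg.Agent.S3961
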