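import Cfsg.Statements.S3962
import Mathlib

set_option autoImplicit false
open Cfsg
open scoped commutatorElement

namespace Cfsg.Agent.S3962

/-- Let `G` be a perfect group and `π : G →* Q` a surjective homomorphism whose kernel is central. Then `π` maps the centre of `G` onto the centre of `Q`. Taking `π` to be the map to `G ⧸ Z(G)` shows that the central quotient of a perfect group has trivial centre. -/
theorem result {G Q : Type*} [Group G] [Group Q] (hG : Group.IsPerfect G) (π : G →* Q) (hπ : Function.Surjective π) (hker : π.ker ≤ Subgroup.center G) : (Subgroup.center G).map π = Subgroup.center Q := by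
  refine le_antisymm ?_ ?_
  · rintro _ ⟨z, hz, rfl⟩
    rw [Subgroup.mem_center_iff]
    intro q
    obtain ⟨g, rfl⟩ := hπ q
    rw [← map_mul, Subgroup.mem_center_iff.mp hz g, map_mul]
  · intro q hq
    obtain ⟨g, rfl⟩ := hπ q
    refine ⟨g, ?_, rfl⟩
    have hc : ∀ x : G, ⁅g, x⁆ ∈ Subgroup.center G := fun x => hker (by
      rw [MonoidHom.mem_ker, map_commutatorElement, commutatorElement_eq_one_iff_mul_comm]
      exact (Subgroup.mem_center_iff.mp hq (π x)).symm)
    -- g commutes with every commutator, and G is perfect
    let φ : G →* Subgroup.center G :=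
      { toFun := fun x => ⟨⁅g, x⁆, hc x⟩
        map_one' := Subtype.ext (commutatorElement_one_right g)
        map_mul' := fun x y => Subtype.ext (by
          show ⁅g, x * y⁆ = ⁅g, x⁆ * ⁅g, y⁆
          have hcom := Subgroup.mem_center_iff.mp (hc y) x
          simp only [commutatorElement_def] at hcom ⊢
          calc g * (x * y) * g⁻¹ * (x * y)⁻¹ = (g * x * g⁻¹) * ((g * y * g⁻¹ * y⁻¹) * x⁻¹) := by group
            _ = (g * x * g⁻¹) * (x⁻¹ * (g * y * g⁻¹ * y⁻¹)) := by
              congr 1
              apply mul_left_cancel (a := x)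
              rw [← mul_assoc, hcom]; group
            _ = g * x * g⁻¹ * x⁻¹ * (g * y * g⁻¹ * y⁻¹) := by group) }
    have hker' : commutator G ≤ φ.ker := by
      rw [commutator_def, Subgroup.commutator_le]
      intro a _ b _
      rw [MonoidHom.mem_ker, map_commutatorElement, commutatorElement_eq_one_iff_mul_comm]
      exact Subtype.ext (Subgroup.mem_center_iff.mp (φ b).2 (φ a))
    rw [Group.isPerfect_def.mp hG] at hker'
    show g ∈ Subgroup.center G
    rw [Subgroup.mem_center_iff]
    intro x
    exact (commutatorElement_eq_one_iff_mul_comm.mp (congrArg Subtype.val (hker' (Subgroup.mem_top x)) : ⁅g, x⁆ = 1)).symm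

end Cfsg.Agent.S3962
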