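import Cfsg.Statements.S3963
import Cfsg.Agent.GStructB.StemExt

set_option autoImplicit false
open Cfsg

namespace Cfsg.Agent.S3963

theorem gen_aux (n : ℕ) [NeZero n] :
    Subgroup.closure ({QuaternionGroup.a 1, QuaternionGroup.xa 0} : Set (QuaternionGroup n)) = ⊤ := by
  rw [eq_top_iff]
  intro g _
  have ha : ∀ i : ZMod (2 * n), (QuaternionGroup.a i) ∈
      Subgroup.closure ({QuaternionGroup.a 1, QuaternionGroup.xa 0} : Set (QuaternionGroup n)) := by
    intro i
    have := pow_mem (Subgroup.subset_closure (k := ({QuaternionGroup.a 1, QuaternionGroup.xa 0} :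
      Set (QuaternionGroup n))) (Set.mem_insert _ _)) i.val
    rwa [QuaternionGroup.a_one_pow, ZMod.natCast_val, ZMod.cast_id] at this
  rcases g with i | i
  · exact ha i
  · have := mul_mem (Subgroup.subset_closure (k := ({QuaternionGroup.a 1, QuaternionGroup.xa 0} :
      Set (QuaternionGroup n))) (Set.mem_insert_of_mem _ rfl)) (ha i)
    simpa using this

/-- For every `n ≥ 1` the dicyclic (generalized quaternion) group of order `4 n` has trivial Schur multiplier. -/
theorem result (n : ℕ) [NeZero n] : Cfsg.HasCyclicSchurMultiplier (QuaternionGroup n) 1 := by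
  apply GStructB.StemExt.hasCyclicSchurMultiplier_one
  intro Γ _ _ σ hσ
  have hn : 0 < n := Nat.pos_of_ne_zero (NeZero.ne n)
  have hsq : (2 * n - 1) ^ 2 ≡ 1 [MOD 2 * n] := by
    rw [← ZMod.natCast_eq_natCast_iff, Nat.cast_pow, Nat.cast_sub (by omega), ZMod.natCast_self]
    simp
  have hgcd : Nat.gcd (2 * n) (2 * n - 1 - 1) = 2 := by
    rw [show 2 * n - 1 - 1 = 2 * (n - 1) by omega, Nat.gcd_mul_left,
      Nat.gcd_self_sub_right (show 1 ≤ n by omega)]
    simp
  obtain ⟨d, hle, hd⟩ := GStructB.StemExt.ker_le_zpowers σ hσ (QuaternionGroup.a 1)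
    (QuaternionGroup.xa 0) (gen_aux n) (2 * n) 2 (2 * n - 1) 1 QuaternionGroup.orderOf_a_one
    (by omega) (by omega) hsq
    (by
      rw [mul_inv_eq_iff_eq_mul, QuaternionGroup.a_one_pow, QuaternionGroup.xa_mul_a,
        QuaternionGroup.a_mul_xa, Nat.cast_sub (by omega), ZMod.natCast_self]
      congr 1
      simp)
    (by
      rw [QuaternionGroup.xa_sq, hgcd, QuaternionGroup.a_one_pow]
      simp)
  rw [Nat.gcd_one_left, Nat.dvd_one, orderOf_eq_one_iff] at hd
  rw [eq_bot_iff]
  exact hle.trans (by simp [hd])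

end Cfsg.Agent.S3963
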