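import Cfsg.Statements.S3964
import Cfsg.Agent.GStructB.DihedralStem

set_option autoImplicit false
open Cfsg

namespace Cfsg.Agent.S3964

/-- For odd `n` the dihedral group of order `2 n` has trivial Schur multiplier. -/
theorem result (n : ℕ) (hn : Odd n) : Cfsg.HasCyclicSchurMultiplier (DihedralGroup n) 1 := by
  have : NeZero n := ⟨fun h => by subst h; simp at hn⟩
  apply GStructB.StemExt.hasCyclicSchurMultiplier_one
  intro Γ _ _ σ hσ
  obtain ⟨d, hle, hd⟩ := GStructB.DihedralStem.bound_aux n σ hσ
  rw [hn.coprime_two_right, Nat.dvd_one, orderOf_eq_one_iff] at hd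
  rw [eq_bot_iff]
  exact hle.trans (by simp [hd])

end Cfsg.Agent.S3964
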