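import Cfsg.Statements.S3967
import Mathlib
import Cfsg.Agent.GStructB.Metacyclic

set_option autoImplicit false
open Cfsg

namespace Cfsg.Agent.S3967

/-- Let `m, n ≥ 1`, `r ≥ 1` with `r ^ n ≡ 1 (mod m)`, and `l` a natural number; put `d = gcd(m, r - 1)`, `t = m l / d` and `h = d · gcd(m, 1 + r + ⋯ + r^(n-1)) / m`. The group presented by generators `a, b` and relations `a ^ m = 1`, `b ^ n = a ^ t`, `b a b⁻¹ = a ^ r` (a metacyclic group of order `m n`) has Schur multiplier cyclic of order `gcd(l, h)`. -/
theorem result (m n r l : ℕ) (hm : 0 < m) (hn : 0 < n) (hr : 0 < r) (hrn : r ^ n ≡ 1 [MOD m]) : Cfsg.HasCyclicSchurMultiplier (PresentedGroup ({FreeGroup.of true ^ m, (FreeGroup.of false) ^ n * (FreeGroup.of true ^ (m * l / Nat.gcd m (r - 1)))⁻¹, FreeGroup.of false * FreeGroup.of true * (FreeGroup.of false)⁻¹ * (FreeGroup.of true ^ r)⁻¹} : Set (FreeGroup Bool))) (Nat.gcd l (Nat.gcd m (r - 1) * Nat.gcd m (∑ i ∈ Finset.range n, r ^ i) / m)) := by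
  classical
  set t := m * l / Nat.gcd m (r - 1) with ht
  obtain ⟨hL, r', hr', hrn', hrt', hrm', hr'0, hgcd⟩ := GStructB.Metacyclic.exists_parameter m n r l hm hr hrn _ rfl
  have hrt : r * t ≡ t [MOD m] :=
    (hr'.mul_right t).symm.trans (hrt'.of_dvd (dvd_mul_right _ _))
  obtain ⟨W, _, _, a, b, hgen, ha, hbn, hba, -, hind, huniv⟩ := GStructB.Metacyclic.exists_model m n t r hm hn hrn hrt
  set rels : Set (FreeGroup Bool) := {FreeGroup.of true ^ m, (FreeGroup.of false) ^ n * (FreeGroup.of true ^ t)⁻¹,
    FreeGroup.of false * FreeGroup.of true * (FreeGroup.of false)⁻¹ * (FreeGroup.of true ^ r)⁻¹} with hrels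
  let x : PresentedGroup rels := PresentedGroup.of true
  let y : PresentedGroup rels := PresentedGroup.of false
  have hxm : x ^ m = 1 := by
    have h := PresentedGroup.one_of_mem (rels := rels) (Set.mem_insert _ _)
    rw [map_pow] at h
    exact h
  have hyn : y ^ n = x ^ t := by
    have h := PresentedGroup.one_of_mem (rels := rels) (Set.mem_insert_of_mem _ (Set.mem_insert _ _))
    rw [map_mul, map_inv, map_pow, map_pow, mul_inv_eq_one] at h
    exact h
  have hyx : y * x * y⁻¹ = x ^ r := by
    have h := PresentedGroup.one_of_mem (rels := rels) (Set.mem_insert_of_mem _ (Set.mem_insert_of_mem _ rfl))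
    simp only [map_mul, map_inv, map_pow] at h
    exact mul_inv_eq_one.mp h
  obtain ⟨f, hfa, hfb⟩ := huniv (PresentedGroup rels) x y hxm hyn hyx
  have hrel : ∀ w ∈ rels, FreeGroup.lift (fun c : Bool => if c then a else b) w = 1 := by
    intro w hw
    rw [hrels] at hw
    rcases hw with rfl | rfl | rfl
    · simp [← ha, pow_orderOf_eq_one]
    · simp [hbn]
    · simp [hba]
  let g := PresentedGroup.toGroup hrel
  have hga : g x = a := (PresentedGroup.toGroup.of hrel).trans (by simp)
  have hgb : g y = b := (PresentedGroup.toGroup.of hrel).trans (by simp)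
  let e : W ≃* PresentedGroup rels :=
    { f with
      invFun := g
      left_inv := fun w => by
        have h : g.comp f = MonoidHom.id W := MonoidHom.eq_of_eqOn_dense hgen (by
          rintro v (rfl | rfl)
          · show g (f v) = v; rw [hfa, hga]
          · show g (f v) = v; rw [hfb, hgb])
        exact DFunLike.congr_fun h w
      right_inv := fun w => by
        have h : f.comp g = MonoidHom.id (PresentedGroup rels) := PresentedGroup.ext fun c => by
          cases c
          · show f (g y) = y; rw [hgb, hfb]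
          · show f (g x) = x; rw [hga, hfa]
        exact DFunLike.congr_fun h w }
  have hxy : Subgroup.closure ({x, y} : Set (PresentedGroup rels)) = ⊤ := by
    rw [← Subgroup.map_top_of_surjective e.toMonoidHom e.surjective, ← hgen, MonoidHom.map_closure, Set.image_pair]
    show _ = Subgroup.closure {f a, f b}
    rw [hfa, hfb]
  have hox : orderOf x = m := by
    rw [← hfa]
    show orderOf (e a) = m
    rw [MulEquiv.orderOf_eq, ha]
  have : Finite (PresentedGroup rels) := Finite.of_equiv _ e.toEquiv
  refine ⟨GStructB.Metacyclic.exists_stem m n r r' t _ hm hn hL hr' hrn' hrt' hrm' hr'0 hgcd x y hxy hox hyn hyx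
    (fun i j hj h => hind i j hj (e.injective ?_)), fun Γ _ _ σ hσ => ?_⟩
  · rw [map_mul, map_pow, map_pow, map_one]
    show f a ^ i * f b ^ j = 1
    rw [hfa, hfb, h]
  · have hbn' : y ^ n = x ^ (m / Nat.gcd m (r - 1) * l) := by
      rw [hyn, ht, Nat.mul_div_right_comm (Nat.gcd_dvd_left _ _)]
    obtain ⟨c, hle, hc⟩ := GStructB.StemExt.ker_le_zpowers σ hσ x y hxy m n r l hox hm hr hrn hyx hbn'
    have : NeZero (Nat.gcd l (Nat.gcd m (r - 1) * Nat.gcd m (∑ i ∈ Finset.range n, r ^ i) / m)) := ⟨hL.ne'⟩
    exact GStructB.StemExt.exists_surjective_hom σ.ker c hle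
      (hc.trans (dvd_of_eq ((Nat.card_congr Multiplicative.toAdd).trans (Nat.card_zmod _)).symm))

end Cfsg.Agent.S3967
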