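import Cfsg.Statements.S3968
import Cfsg.Agent.Lib.Characters.Integrality
import Cfsg.Agent.Lib.Characters.Inner
-- import your own Cfsg.Agent.* helpers here

set_option autoImplicit false
set_option linter.all false
open Cfsg Cfsg.Agent.Characters Module

namespace Cfsg.Agent.S3968

/-- Let `p` be a prime and `G` a finite group with a faithful irreducible complex character of degree `p` (so `G` is an irreducible linear group in `p` variables). If `p ^ 2` divides the order of `G`, then the centre of `G` is nontrivial. -/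
theorem result {G : Type*} [Group G] [Finite G] (p : ℕ) (hp : p.Prime) (χ : Cfsg.IrrCharacter G) (hdeg : χ.1 1 = p) (hfaith : ∀ g : G, χ.1 g = χ.1 1 → g = 1) (hdiv : p ^ 2 ∣ Nat.card G) : Subgroup.center G ≠ ⊥ := by
  classical
  intro hbot
  obtain ⟨n, ρ, hρ, hχ⟩ := χ.2
  have := hρ
  rw [← hχ] at hdeg hfaith
  have hd : finrank ℂ (Fin n → ℂ) = p := by
    rw [Representation.char_one] at hdeg
    exact_mod_cast hdeg
  have hinj : ∀ g, ρ g = LinearMap.id → g = 1 := fun g hg =>
    hfaith g (by
      show LinearMap.trace ℂ _ (ρ g) = LinearMap.trace ℂ _ (ρ 1)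
      rw [hg, map_one]; rfl)
  have hinj2 : ∀ g h, ρ g = ρ h → g = h := fun g h e => by
    have : ρ (h⁻¹ * g) = LinearMap.id := by
      rw [map_mul, e, ← map_mul, inv_mul_cancel, map_one]; rfl
    exact (inv_mul_eq_one.1 (hinj _ this)).symm
  obtain ⟨P⟩ := (inferInstance : Nonempty (Sylow p G))
  have := Fact.mk hp
  have hPd : p ^ 2 ∣ Nat.card P := P.pow_dvd_card_of_pow_dvd_card hdiv
  let Z := Subgroup.center (P : Subgroup G)
  have hvan : ∀ z : Z, z ≠ 1 → ρ.character ((z : (P : Subgroup G)) : G) = 0 := by
    intro z hz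
    set g := ((z : (P : Subgroup G)) : G) with hg
    have hle : (P : Subgroup G) ≤ Subgroup.centralizer ({g} : Set G) := fun x hx =>
      Subgroup.mem_centralizer_singleton_iff.2
        (congrArg Subtype.val (Subgroup.mem_center_iff.1 z.2 ⟨x, hx⟩))
    have hcop : Nat.Coprime (finrank ℂ (Fin n → ℂ))
        (Subgroup.centralizer ({g} : Set G)).index := by
      rw [hd, hp.coprime_iff_not_dvd]
      exact fun h => P.not_dvd_index (h.trans (Subgroup.index_dvd_of_le hle))
    refine (char_eq_zero_or_norm_eq_of_coprime ρ g hcop).resolve_right fun hn => hz ?_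
    obtain ⟨ω, hω⟩ := rep_apply_eq_smul_of_norm_eq ρ g hn
    have hc : g ∈ Subgroup.center G := Subgroup.mem_center_iff.2 fun x => hinj2 _ _ (by
      rw [map_mul, map_mul, hω]; ext v; simp)
    rw [hbot, Subgroup.mem_bot] at hc
    exact Subtype.ext (Subtype.ext hc)
  have hZp : IsPGroup p Z := P.2.to_subgroup Z
  have hP1 : (1 : ℕ) < Nat.card P := lt_of_lt_of_le (Nat.one_lt_pow two_ne_zero hp.one_lt)
    (Nat.le_of_dvd Nat.card_pos hPd)
  have : Nontrivial (P : Subgroup G) := Finite.one_lt_card_iff_nontrivial.1 hP1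
  have hZnt : Nontrivial Z := P.2.center_nontrivial
  let f : Z →* G := (P : Subgroup G).subtype.comp Z.subtype
  have hZ : Nat.card Z = p := by
    let := Fintype.ofFinite Z
    have hch : Cfsg.IsCharacter Z (fun z => ρ.character (f z)) :=
      isCharacter_comp f (isCharacter_character ρ)
    obtain ⟨m, hm⟩ := classInner_char_nat hch (isCharacter_one (G := Z))
    rw [classInner_def, Finset.sum_eq_single (1 : Z) (fun z _ hz => by
        show ρ.character (f z) * _ = 0
        rw [show f z = ((z : (P : Subgroup G)) : G) from rfl, hvan z hz, zero_mul])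
      (fun h => absurd (Finset.mem_univ _) h), map_one, map_one, mul_one, Representation.char_one,
      hd, inv_mul_eq_iff_eq_mul₀ (natCard_ne_zero (G := Z))] at hm
    have hmd : Nat.card Z ∣ p := ⟨m, by exact_mod_cast hm⟩
    exact ((Nat.dvd_prime hp).1 hmd).resolve_left
      (Finite.one_lt_card_iff_nontrivial.2 hZnt).ne'
  obtain ⟨z, hz⟩ := exists_ne (1 : Z)
  have hzo : orderOf (f z) = p := by
    rw [orderOf_injective f (fun a b h => Subtype.ext (Subtype.ext h))]
    exact orderOf_eq_prime ((congrArg (z ^ ·) hZ).symm.trans pow_card_eq_one') hz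
  obtain ⟨b, w, hw, hb⟩ := exists_eigenbasis ρ (f z)
  have hwj : ∀ j, 0 < j → j < p → ∑ i, w i ^ j = 0 := by
    intro j hj hjp
    have := trace_of_eigenbasis b (fun i => w i ^ j) (apply_pow_eigenbasis ρ b w hb j)
    rw [← this]
    show ρ.character (f z ^ j) = 0
    rw [← map_pow]
    exact hvan (z ^ j) (fun h => pow_ne_one_of_lt_orderOf hj.ne'
      (by rw [hzo]; exact hjp) (by rw [← map_pow, h, map_one]))
  have hw0 : ∀ i, w i ≠ 0 := fun i h0 => by
    have := hw i
    rw [h0, hzo, zero_pow hp.ne_zero] at this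
    exact zero_ne_one this
  have hdist : Function.Injective w := by
    intro a c hac
    by_contra hne
    have key : ∑ i, ∑ j ∈ Finset.range p, (w i * (w a)⁻¹) ^ j = (p : ℂ) := by
      rw [Finset.sum_comm, Finset.sum_eq_single 0]
      · simp [hd]
      · intro j hj hj0
        simp_rw [mul_pow]
        rw [← Finset.sum_mul, hwj j (Nat.pos_of_ne_zero hj0) (Finset.mem_range.1 hj), zero_mul]
      · intro h; exact absurd (Finset.mem_range.2 hp.pos) h
    have hterm : ∀ i, ∑ j ∈ Finset.range p, (w i * (w a)⁻¹) ^ j =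
        if w i = w a then (p : ℂ) else 0 := by
      intro i
      split
      · next h => simp [h, mul_inv_cancel₀ (hw0 a)]
      · next h =>
        have h1 : w i * (w a)⁻¹ ≠ 1 := fun e => h ((mul_inv_eq_one₀ (hw0 a)).1 e)
        rw [geom_sum_eq h1, mul_pow, inv_pow]
        have hi := hw i
        have ha := hw a
        rw [hzo] at hi ha
        rw [hi, ha]; simp
    simp_rw [hterm] at key
    rw [← Finset.sum_filter, Finset.sum_const, nsmul_eq_mul] at key
    have hcard : 2 ≤ (Finset.univ.filter fun i => w i = w a).card := by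
      refine Finset.one_lt_card.2 ⟨a, by simp, c, by simp [hac], hne⟩
    have hp0 : (p : ℂ) ≠ 0 := by exact_mod_cast hp.ne_zero
    have h1 := mul_right_cancel₀ hp0 (key.trans (one_mul _).symm)
    have h2 : (Finset.univ.filter fun i => w i = w a).card = 1 := by exact_mod_cast h1
    omega
  have hdiag : ∀ (x : (P : Subgroup G)) (i), ∃ c : ℂ, ρ (x : G) (b i) = c • b i := by
    intro x i
    have hcomm : f z * (x : G) = (x : G) * f z :=
      (congrArg Subtype.val (Subgroup.mem_center_iff.1 z.2 x)).symm
    set v := ρ (x : G) (b i) with hv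
    have hzv : ρ (f z) v = w i • v := by
      rw [hv, ← Module.End.mul_apply, ← map_mul, hcomm, map_mul, Module.End.mul_apply, hb i,
        map_smul]
    refine ⟨b.repr v i, b.repr.injective (Finsupp.ext fun k => ?_)⟩
    rw [map_smul, b.repr_self, Finsupp.smul_single, smul_eq_mul, mul_one]
    by_cases hki : k = i
    · subst hki; simp
    rw [Finsupp.single_eq_of_ne hki]
    have hlin : (ρ (f z)) v = ∑ j, (b.repr v j * w j) • b j := by
      conv_lhs => rw [← b.sum_repr v]
      rw [map_sum]
      exact Finset.sum_congr rfl fun j _ => by rw [map_smul, hb, smul_smul]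
    have h2 := congrArg (fun u => b.repr u k) (hlin.symm.trans hzv)
    simp only [map_sum, Finsupp.finsetSum_apply, map_smul, b.repr_self, Finsupp.smul_apply,
      smul_eq_mul, Finsupp.single_apply, mul_ite, mul_one, mul_zero, Finset.sum_ite_eq',
      Finset.mem_univ, if_true] at h2
    by_contra h0
    rw [mul_comm (w i)] at h2
    exact hki (hdist (mul_left_cancel₀ h0 h2))
  have htop : Z = ⊤ := by
    rw [eq_top_iff]
    intro x _
    rw [Subgroup.mem_center_iff]
    intro y
    refine Subtype.ext (hinj2 _ _ (b.ext fun i => ?_))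
    obtain ⟨c, hc⟩ := hdiag x i
    obtain ⟨d, hd'⟩ := hdiag y i
    show ρ ((y : G) * (x : G)) (b i) = ρ ((x : G) * (y : G)) (b i)
    rw [map_mul, map_mul, Module.End.mul_apply, Module.End.mul_apply, hc, hd', map_smul, map_smul,
      hc, hd', smul_smul, smul_smul, mul_comm]
  rw [htop, Subgroup.card_top] at hZ
  rw [hZ] at hPd
  have := Nat.le_of_dvd hp.pos hPd
  nlinarith [hp.one_lt]

end Cfsg.Agent.S3968
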