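import Cfsg.Statements.S3970
import Mathlib
import Cfsg.Agent.GStructB.AutomizerRank

set_option autoImplicit false
open Cfsg

namespace Cfsg.Agent.S3970

theorem aux : ∀ (n : ℕ) (G : Type*) [Group G] [Finite G], Nat.card G ≤ n →
    (∀ p : ℕ, p.Prime → p ∣ Nat.card G → (∃ q : ℕ, q.Prime ∧ q ∣ Nat.card G ∧ p < q) →
      ∀ P : Sylow p G, IsMulCommutative (P : Subgroup G) ∧ Group.rank (P : Subgroup G) ≤ 2) →
    ¬ 12 ∣ Nat.card G → Group.IsSolvable G := by
  intro n
  induction n with
  | zero => intro G _ _ hn; exact absurd hn (by simp [Nat.card_pos.ne'])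
  | succ n ih =>
    intro G _ _ hn h h12
    by_cases h1 : Nat.card G = 1
    · have := (Nat.card_eq_one_iff_unique.mp h1).1
      infer_instance
    set p := (Nat.card G).minFac
    have hp : p.Prime := Nat.minFac_prime h1
    have hpG : p ∣ Nat.card G := Nat.minFac_dvd _
    have : Fact p.Prime := ⟨hp⟩
    by_cases hq : ∃ q : ℕ, q.Prime ∧ q ∣ Nat.card G ∧ p < q
    swap
    · push Not at hq
      have hG : IsPGroup p G := by
        intro g
        obtain ⟨k, hk⟩ : ∃ k, orderOf g = p ^ k := ⟨_, Nat.eq_prime_pow_of_unique_prime_dvd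
          (orderOf_pos g).ne' fun {q} hq1 hqd => le_antisymm
            (hq q hq1 (hqd.trans (orderOf_dvd_natCard g)))
            (Nat.minFac_le_of_dvd hq1.two_le (hqd.trans (orderOf_dvd_natCard g)))⟩
        exact ⟨k, hk ▸ pow_orderOf_eq_one g⟩
      have := hG.isNilpotent
      infer_instance
    obtain ⟨P⟩ : Nonempty (Sylow p G) := inferInstance
    obtain ⟨hab, hrk⟩ := h p hp hpG hq P
    -- the Sylow subgroup has a normal complement
    have hc : Cfsg.HasNormalPComplement p G := by
      by_cases hspec : p = 2 ∧ 3 ∣ Nat.card G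
      · obtain ⟨hp2, h3⟩ := hspec
        have hP2 : Group.rank (P : Subgroup G) ≤ 1 := by
          have hcard : Nat.card (P : Subgroup G) = 2 := by
            obtain ⟨k, hk⟩ := IsPGroup.iff_card.mp P.2
            rw [hk]
            have hk1 : k ≠ 0 := by
              rintro rfl
              exact P.ne_bot_of_dvd_card hpG (Subgroup.eq_bot_of_card_eq _ hk)
            have hk2 : k < 2 := by
              by_contra hk2
              apply h12
              have h4 : 4 ∣ Nat.card G := (show 4 ∣ p ^ k by
                rw [hp2]; exact (Nat.pow_dvd_pow_iff_le_right one_lt_two).mpr (not_lt.mp hk2)).trans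
                  (hk ▸ Subgroup.card_subgroup_dvd_card _)
              exact Nat.Coprime.mul_dvd_of_dvd_of_dvd (by norm_num : Nat.Coprime 4 3) h4 h3
            rw [show k = 1 by omega, pow_one, hp2]
          have : Fact (Nat.Prime 2) := ⟨Nat.prime_two⟩
          have := isCyclic_of_prime_card hcard
          obtain ⟨g, hg⟩ := IsCyclic.exists_generator (α := (P : Subgroup G))
          calc Group.rank (P : Subgroup G) ≤ ({g} : Finset (P : Subgroup G)).card :=
                Group.rank_le (by rw [Finset.coe_singleton, ← Subgroup.zpowers_eq_closure,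
                  Subgroup.eq_top_iff']; exact hg)
            _ = 1 := Finset.card_singleton g
        refine GStructB.AutomizerRank.hasNormalPComplement P hab hP2 fun r hr _ _ i hi hi1 hd => ?_
        rw [show i = 1 by omega, hp2] at hd
        exact hr.ne_one (Nat.dvd_one.mp (by simpa using hd))
      · refine GStructB.AutomizerRank.hasNormalPComplement P hab hrk fun r hr hrG hne i hi hi2 hd => ?_
        have hlt : p < r := lt_of_le_of_ne (Nat.minFac_le_of_dvd hr.two_le hrG) (Ne.symm hne)
        have h2 := hp.two_le
        rcases (show i = 1 ∨ i = 2 by omega) with rfl | rfl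
        · have := Nat.le_of_dvd (by simp; omega) hd
          simp at this; omega
        · rw [show p ^ 2 - 1 = (p + 1) * (p - 1) by simpa using Nat.sq_sub_sq p 1] at hd
          rcases hr.dvd_mul.mp hd with h' | h'
          · have hr' : r = p + 1 := le_antisymm (Nat.le_of_dvd (by omega) h') hlt
            rcases hp.eq_two_or_odd with hp2 | hp2
            · exact hspec ⟨hp2, (show r = 3 by omega) ▸ hrG⟩
            · have := hr.eq_two_or_odd
              omega
          · have := Nat.le_of_dvd (by omega) h'
            omega
    obtain ⟨N, hN, hNp, k, hk⟩ := Transfer.NormalPComplement.hasNormalPComplement_iff_exists.mp hc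
    have hNlt : Nat.card N ≤ n := by
      have h2 := N.card_mul_index
      have h3 : N.index ≠ 1 := by
        intro h4
        rw [h4, mul_one] at h2
        exact hp.ne_one (Nat.eq_one_of_dvd_coprimes hNp (h2 ▸ hpG) dvd_rfl)
      have h4 : 0 < Nat.card N := Nat.card_pos
      have h5 : N.index ≠ 0 := Subgroup.index_ne_zero_of_finite
      nlinarith [show 2 ≤ N.index by omega]
    have hNs : Group.IsSolvable N := by
      refine ih N hNlt (fun r hr hrN hq' Q => ?_) (fun h => h12 (h.trans N.card_subgroup_dvd_card))
      have : Fact r.Prime := ⟨hr⟩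
      obtain ⟨q, hq1, hq2, hq3⟩ := hq'
      obtain ⟨R, hR⟩ := (Q.2.map N.subtype).exists_le_sylow
      obtain ⟨habR, hrkR⟩ := h r hr (hrN.trans N.card_subgroup_dvd_card)
        ⟨q, hq1, hq2.trans N.card_subgroup_dvd_card, hq3⟩ R
      have hrp : ¬ r ∣ N.index := by
        intro hd
        rw [hk] at hd
        have := (Nat.prime_dvd_prime_iff_eq hr hp).mp (hr.dvd_of_dvd_pow hd)
        exact hr.ne_one (Nat.eq_one_of_dvd_coprimes hNp hrN (dvd_of_eq this))
      have heq : (Q : Subgroup N).map N.subtype = (R : Subgroup G) := by
        refine Subgroup.eq_of_le_of_card_ge hR (le_of_eq ?_)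
        rw [Subgroup.card_subtype, Q.card_eq_multiplicity, R.card_eq_multiplicity, ← N.card_mul_index,
          Nat.factorization_mul Nat.card_pos.ne' Subgroup.index_ne_zero_of_finite, Finsupp.coe_add,
          Pi.add_apply, Nat.factorization_eq_zero_of_not_dvd hrp, add_zero]
      let e : (Q : Subgroup N) ≃* (R : Subgroup G) :=
        ((Q : Subgroup N).equivMapOfInjective _ N.subtype_injective).trans (MulEquiv.subgroupCongr heq)
      exact ⟨⟨⟨fun a b => e.injective (by rw [map_mul, map_mul]; exact habR.is_comm.comm _ _)⟩⟩,
        (Group.rank_congr e).le.trans hrkR⟩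
    have hquot : Group.IsSolvable (G ⧸ N) := by
      have := (IsPGroup.of_card (p := p) (n := k) (by rw [← Subgroup.index_eq_card, hk]) :
        IsPGroup p (G ⧸ N)).isNilpotent
      infer_instance
    exact (Group.isSolvable_iff_subgroup_quotient N).mpr ⟨hNs, hquot⟩

/-- Let `G` be a finite group such that for every prime `p` dividing its order, other than the largest such prime, the Sylow `p`-subgroups are abelian and generated by at most two elements, and suppose `12` does not divide the order of `G`. Then `G` is solvable. In particular a group of cube-free order not divisible by `12` is solvable. -/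
theorem result {G : Type*} [Group G] [Finite G] (h : ∀ p : ℕ, p.Prime → p ∣ Nat.card G → (∃ q : ℕ, q.Prime ∧ q ∣ Nat.card G ∧ p < q) → ∀ P : Sylow p G, IsMulCommutative (P : Subgroup G) ∧ Group.rank (P : Subgroup G) ≤ 2) (h12 : ¬ 12 ∣ Nat.card G) : Group.IsSolvable G := by
  exact aux (Nat.card G) G le_rfl h h12

end Cfsg.Agent.S3970
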