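import Cfsg.Statements.S3971
import Mathlib
import Cfsg.Agent.GStructB.PElements
import Cfsg.Agent.Lib.Transfer.Frobenius

set_option autoImplicit false
open Cfsg

namespace Cfsg.Agent.S3971

/-- A 2-group with a cyclic subgroup of index at most 2 is centralised by every element of order
prime to 6 normalising it. -/
theorem centralizes {G : Type*} [Group G] [Finite G] (Q : Subgroup G) (hQ : IsPGroup 2 Q)
    (Cy : Subgroup G) (hCyQ : Cy ≤ Q) (hCy : IsCyclic Cy) (hidx : Cy.relIndex Q ≤ 2) {g : G}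
    (hg : g ∈ Subgroup.normalizer (Q : Set G)) (hgo : (orderOf g).Coprime 2) (h3 : ¬ 3 ∣ orderOf g) :
    g ∈ Subgroup.centralizer (Q : Set G) := by
  have : Fact (Nat.Prime 2) := ⟨Nat.prime_two⟩
  set U := Subgroup.closure {z : G | ∃ q ∈ Q, z = q ^ 2} with hU
  have hsq : ∀ q ∈ Q, q ^ 2 ∈ Cy := by
    intro q hq
    rcases (show Cy.relIndex Q = 1 ∨ Cy.relIndex Q = 2 by
      have : Cy.relIndex Q ≠ 0 := Subgroup.index_ne_zero_of_finite
      omega) with h | h
    · exact pow_mem (Subgroup.relIndex_eq_one.mp h hq) 2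
    · exact Subgroup.mem_subgroupOf.mp (Subgroup.sq_mem_of_index_two h ⟨q, hq⟩)
  have hUCy : U ≤ Cy := (Subgroup.closure_le _).mpr (by rintro _ ⟨q, hq, rfl⟩; exact hsq q hq)
  have hUconj : ∀ h ∈ Subgroup.normalizer (Q : Set G), ∀ u ∈ U, h * u * h⁻¹ ∈ U := by
    intro h hh u hu
    have : U ≤ U.comap (MulAut.conj h).toMonoidHom := (Subgroup.closure_le _).mpr (by
      rintro _ ⟨q, hq, rfl⟩
      exact Subgroup.subset_closure ⟨h * q * h⁻¹, (Subgroup.mem_normalizer_iff.mp hh q).mp hq,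
        by simp [conj_pow]⟩)
    exact this hu
  obtain ⟨⟨c, hc⟩, hcgen⟩ := hCy.exists_generator
  have hc2 : c ^ 2 ∈ U := Subgroup.subset_closure ⟨c, hCyQ hc, rfl⟩
  have hsmallidx : U.relIndex Q ≤ 4 := by
    rw [← Subgroup.relIndex_mul_relIndex _ _ _ hUCy hCyQ]
    refine Nat.mul_le_mul (?_ : U.relIndex Cy ≤ 2) hidx
    have h1 : Nat.card Cy = orderOf c := by
      rw [← Nat.card_zpowers]
      congr
      refine le_antisymm (fun z hz => ?_) (Subgroup.zpowers_le.mpr hc)
      obtain ⟨j, hj⟩ := Subgroup.mem_zpowers_iff.mp (hcgen ⟨z, hz⟩)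
      exact Subgroup.mem_zpowers_iff.mpr ⟨j, congrArg Subtype.val hj⟩
    have h2 : orderOf (c ^ 2) ≤ Nat.card U := by
      rw [← Nat.card_zpowers]; exact Subgroup.card_le_of_le (Subgroup.zpowers_le.mpr hc2)
    have h3 : orderOf c ≤ 2 * orderOf (c ^ 2) := by
      refine Nat.le_of_dvd (Nat.mul_pos two_pos (orderOf_pos _)) (orderOf_dvd_of_pow_eq_one ?_)
      rw [pow_mul, pow_orderOf_eq_one]
    have h4 := Subgroup.relIndex_mul_relIndex ⊥ U Cy bot_le hUCy
    rw [Subgroup.relIndex_bot_left, Subgroup.relIndex_bot_left] at h4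
    have h5 : 0 < Nat.card U := Nat.card_pos
    refine Nat.le_of_mul_le_mul_left (?_ : Nat.card U * U.relIndex Cy ≤ Nat.card U * 2) h5
    rw [h4, h1]
    omega
  -- the cyclic subgroup `U` is centralised
  have hUfix : ∀ u ∈ U, g * u = u * g := by
    have : IsCyclic U := isCyclic_of_injective (Subgroup.inclusion hUCy) (Subgroup.inclusion_injective _)
    obtain ⟨⟨w, hw⟩, hwgen⟩ := IsCyclic.exists_generator (α := U)
    suffices g * w = w * g by
      intro u hu
      obtain ⟨j, hj⟩ := Subgroup.mem_zpowers_iff.mp (hwgen ⟨u, hu⟩)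
      rw [← show w ^ j = u from congrArg Subtype.val hj]
      exact ((show Commute g w from this).zpow_right j).eq
    by_cases hw1 : w = 1
    · simp [hw1]
    obtain ⟨b, hb⟩ := GStructB.PElements.exists_orderOf_eq hQ (hCyQ (hUCy hw))
    obtain ⟨k, hk⟩ := (mem_powers_iff_mem_zpowers.mpr (hwgen ⟨g * w * g⁻¹, hUconj g hg w hw⟩) :
      (⟨g * w * g⁻¹, _⟩ : U) ∈ Submonoid.powers (⟨w, hw⟩ : U))
    have hk' : g * w * g⁻¹ = w ^ k := (congrArg Subtype.val hk).symm
    obtain ⟨m, hm⟩ := GStructB.PElements.exists_pow_commute (dvd_of_eq hb) hk' (by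
      by_contra hne
      have hkeven : 2 ∣ k := by
        unfold Nat.ModEq at hne
        omega
      obtain ⟨t, rfl⟩ := hkeven
      have h1 : orderOf (g * w * g⁻¹) = orderOf w := by rw [← MulAut.conj_apply g w, MulEquiv.orderOf_eq]
      rw [hk', pow_mul, hb] at h1
      have hb1 : b ≠ 0 := by
        rintro rfl
        rw [pow_zero, orderOf_eq_one_iff] at hb
        exact hw1 hb
      have h2 : orderOf ((w ^ 2) ^ t) ∣ 2 ^ (b - 1) := by
        refine orderOf_dvd_of_pow_eq_one ?_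
        rw [← pow_mul, ← pow_mul]
        refine orderOf_dvd_iff_pow_eq_one.mp ?_
        rw [hb]
        exact ⟨t, by rw [mul_comm t, ← mul_assoc, ← pow_succ', Nat.sub_add_cancel (by omega)]⟩
      rw [h1] at h2
      have := (Nat.pow_dvd_pow_iff_le_right one_lt_two).mp h2
      omega)
    have h6 := Transfer.NormalPComplement.mem_of_pow_mem (K := Subgroup.centralizer ({w} : Set G))
      (n := 2 ^ m) (hgo.pow_right m) (Subgroup.mem_centralizer_singleton_iff.mpr hm)
    exact Subgroup.mem_centralizer_singleton_iff.mp h6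
  rw [Subgroup.mem_centralizer_iff]
  intro q hq
  by_cases hqU : q ∈ U
  · exact (hUfix q hqU).symm
  -- pigeonhole on cosets
  have hmemN : ∀ i : ℕ, g ^ i * q * (g ^ i)⁻¹ ∈ Q := fun i =>
    (Subgroup.mem_normalizer_iff.mp (pow_mem hg i) q).mp hq
  let f : Fin 4 → Q ⧸ U.subgroupOf Q := fun i => ((⟨_, hmemN i⟩ : Q) : Q ⧸ U.subgroupOf Q)
  have hne1 : ∀ i, f i ≠ ((1 : Q) : Q ⧸ U.subgroupOf Q) := by
    intro i h
    have h1 : (g ^ (i : ℕ) * q * (g ^ (i : ℕ))⁻¹)⁻¹ * 1 ∈ U :=
      Subgroup.mem_subgroupOf.mp (QuotientGroup.eq.mp h)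
    rw [mul_one, inv_mem_iff] at h1
    apply hqU
    have h2 := hUconj _ (inv_mem (pow_mem hg (i : ℕ))) _ h1
    simpa [mul_assoc] using h2
  have hnotinj : ¬ Function.Injective f := by
    intro hinj
    have h1 : Function.Injective (fun o : Option (Fin 4) => o.elim ((1 : Q) : Q ⧸ U.subgroupOf Q) f) := by
      rintro (_ | i) (_ | j) h
      · rfl
      · exact absurd h.symm (hne1 j)
      · exact absurd h (hne1 i)
      · exact congrArg some (hinj h)
    have h2 := Nat.card_le_card_of_injective _ h1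
    rw [← Subgroup.index_eq_card, ← Subgroup.relIndex] at h2
    simp at h2
    omega
  rw [Function.Injective] at hnotinj
  push Not at hnotinj
  obtain ⟨i, j, hij, hne⟩ := hnotinj
  wlog hlt : i < j generalizing i j
  · exact this j i hij.symm hne.symm (lt_of_le_of_ne (not_lt.mp hlt) hne.symm)
  set m : ℕ := (j : ℕ) - i with hm
  have hu : q⁻¹ * (g ^ m * q * (g ^ m)⁻¹) ∈ U := by
    have h1 : (g ^ (i : ℕ) * q * (g ^ (i : ℕ))⁻¹)⁻¹ * (g ^ (j : ℕ) * q * (g ^ (j : ℕ))⁻¹) ∈ U :=
      Subgroup.mem_subgroupOf.mp (QuotientGroup.eq.mp hij)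
    have h2 := hUconj _ (inv_mem (pow_mem hg (i : ℕ))) _ h1
    rw [show (j : ℕ) = (i : ℕ) + m by omega, pow_add] at h2
    convert h2 using 1
    group
  set u := q⁻¹ * (g ^ m * q * (g ^ m)⁻¹) with hudef
  have hgu : g ^ m * u = u * g ^ m := ((show Commute g u from hUfix u hu).pow_left m).eq
  have hiter : ∀ l : ℕ, (g ^ m) ^ l * q * ((g ^ m) ^ l)⁻¹ = q * u ^ l := by
    intro l
    induction l with
    | zero => simp
    | succ l ih =>
      rw [pow_succ' (g ^ m), pow_succ' u]
      calc g ^ m * (g ^ m) ^ l * q * (g ^ m * (g ^ m) ^ l)⁻¹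
          = g ^ m * ((g ^ m) ^ l * q * ((g ^ m) ^ l)⁻¹) * (g ^ m)⁻¹ := by group
        _ = (g ^ m * q * (g ^ m)⁻¹) * (g ^ m * u ^ l * (g ^ m)⁻¹) := by rw [ih]; group
        _ = _ := by
          rw [((show Commute (g ^ m) u from hgu).pow_right l).eq, mul_inv_cancel_right,
            show g ^ m * q * (g ^ m)⁻¹ = q * u by rw [hudef]; group, mul_assoc]
  have h5 := hiter (orderOf g)
  rw [← pow_mul, mul_comm m, pow_mul, pow_orderOf_eq_one, one_pow, one_mul, inv_one, mul_one] at h5
  obtain ⟨b, hb⟩ := GStructB.PElements.exists_orderOf_eq hQ (hCyQ (hUCy hu))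
  have hu1 : u = 1 := orderOf_eq_one_iff.mp (Nat.eq_one_of_dvd_coprimes (hgo.pow_right b)
    (orderOf_dvd_of_pow_eq_one (mul_eq_left.mp h5.symm)) (dvd_of_eq hb))
  rw [hudef, inv_mul_eq_one] at hu1
  have h6 : g ^ m ∈ Subgroup.centralizer ({q} : Set G) :=
    Subgroup.mem_centralizer_singleton_iff.mpr (mul_inv_eq_iff_eq_mul.mp hu1.symm)
  have hmco : (orderOf g).Coprime m := by
    have : m = 1 ∨ m = 2 ∨ m = 3 := by omega
    rcases this with h | h | h <;> rw [h]
    · exact Nat.coprime_one_right _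
    · exact hgo
    · exact (Nat.prime_three.coprime_iff_not_dvd.mpr h3).symm
  exact (Subgroup.mem_centralizer_singleton_iff.mp
    (Transfer.NormalPComplement.mem_of_pow_mem hmco h6)).symm


/-- Let `G` be a finite group of order `2 ^ a * n` with `n` odd and not divisible by `3`, and suppose `G` has an element of order `2 ^ (a - 1)` (so a Sylow `2`-subgroup has a cyclic subgroup of index at most `2`). Then `G` has a normal subgroup of order `n`. -/
theorem result {G : Type*} [Group G] [Finite G] (a n : ℕ) (hG : Nat.card G = 2 ^ a * n) (hn : Odd n) (h3 : ¬ 3 ∣ n) (hx : ∃ x : G, orderOf x = 2 ^ (a - 1)) : ∃ N : Subgroup G, N.Normal ∧ Nat.card N = n := by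
  classical
  have : Fact (Nat.Prime 2) := ⟨Nat.prime_two⟩
  obtain ⟨x, hx⟩ := hx
  obtain ⟨P, hxP⟩ := GStructB.PElements.exists_mem_sylow hx
  have hn0 : n ≠ 0 := by rintro rfl; exact absurd hn (by decide)
  have h2n : ¬ 2 ∣ n := fun h => Nat.not_even_iff_odd.mpr hn (even_iff_two_dvd.mpr h)
  have hPcard : Nat.card (P : Subgroup G) = 2 ^ a := by
    rw [P.card_eq_multiplicity, hG, Nat.factorization_mul (pow_pos two_pos a).ne' hn0, Finsupp.coe_add,
      Pi.add_apply, Nat.factorization_eq_zero_of_not_dvd h2n, add_zero,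
      Nat.prime_two.factorization_pow, Finsupp.single_eq_same]
  have hxle : Subgroup.zpowers x ≤ (P : Subgroup G) := Subgroup.zpowers_le.mpr hxP
  have hidx : (Subgroup.zpowers x).relIndex (P : Subgroup G) ≤ 2 := by
    have h1 := Subgroup.relIndex_mul_relIndex ⊥ _ _ bot_le hxle
    rw [Subgroup.relIndex_bot_left, Subgroup.relIndex_bot_left, Nat.card_zpowers, hx, hPcard] at h1
    refine Nat.le_of_mul_le_mul_left ?_ (pow_pos two_pos (a - 1))
    rw [h1, ← pow_succ]
    exact Nat.pow_le_pow_right two_pos (by omega)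
  have hcond : Transfer.Frobenius.Condition 2 G := by
    refine Transfer.Frobenius.Condition.of_sylow P fun Q hQ g hg hgo => ?_
    refine centralizes Q (P.2.to_le hQ) (Subgroup.zpowers x ⊓ Q) inf_le_right ?_ ?_ hg hgo fun h => ?_
    · have : IsCyclic (Subgroup.zpowers x) := inferInstance
      exact isCyclic_of_injective (Subgroup.inclusion (inf_le_left : Subgroup.zpowers x ⊓ Q ≤ _))
        (Subgroup.inclusion_injective _)
    · rw [Subgroup.inf_relIndex_right]
      refine le_trans ?_ hidx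
      exact Subgroup.relIndex_le_of_le_right hQ Subgroup.index_ne_zero_of_finite
    · refine h3 ((Nat.Coprime.dvd_mul_left ?_).mp (hG ▸ (h.trans (orderOf_dvd_natCard g))))
      exact Nat.Coprime.pow_right _ (by norm_num)
  obtain ⟨N, hN, hNp, k, hk⟩ := Transfer.NormalPComplement.hasNormalPComplement_iff_exists.mp
    (Transfer.Frobenius.hasNormalPComplement_of_condition hcond)
  refine ⟨N, hN, ?_⟩
  have h1 := N.card_mul_index
  rw [hG, hk] at h1
  refine Nat.dvd_antisymm ?_ ?_
  · exact (hNp.pow_right a).dvd_of_dvd_mul_left (h1 ▸ Dvd.intro _ rfl)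
  · exact (((Nat.prime_two.coprime_iff_not_dvd.mpr h2n).pow_left k).symm).dvd_of_dvd_mul_right
      (h1 ▸ Dvd.intro_left _ rfl)

end Cfsg.Agent.S3971
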