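import Cfsg.Statements.S3973
import Mathlib

set_option autoImplicit false
open Cfsg

namespace Cfsg.Agent.S3973
open scoped commutatorElement

theorem comm_central {Γ : Type*} [Group Γ] (a b z w : Γ) (hz : z ∈ Subgroup.center Γ)
    (hw : w ∈ Subgroup.center Γ) : ⁅a * z, b * w⁆ = ⁅a, b⁆ := by
  simp only [commutatorElement_def, mul_inv_rev]
  have hz' := Subgroup.mem_center_iff.mp hz
  have hw' := Subgroup.mem_center_iff.mp hw
  calc a * z * (b * w) * (z⁻¹ * a⁻¹) * (w⁻¹ * b⁻¹)
      = a * (z * (b * w)) * z⁻¹ * (a⁻¹ * (w⁻¹ * b⁻¹)) := by group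
    _ = a * ((b * w) * z) * z⁻¹ * (a⁻¹ * (w⁻¹ * b⁻¹)) := by rw [hz']
    _ = a * b * ((w * a⁻¹) * w⁻¹) * b⁻¹ := by group
    _ = a * b * ((a⁻¹ * w) * w⁻¹) * b⁻¹ := by rw [hw']
    _ = a * b * a⁻¹ * b⁻¹ := by group


/-- If a finite group is presented by `n` generators and a finite set of `r` relators, then its Schur multiplier can be generated by `r - n` elements. In particular a finite group with a presentation having as many relators as generators has trivial Schur multiplier. -/
theorem result (n : ℕ) (rels : Finset (FreeGroup (Fin n))) [Finite (PresentedGroup (rels : Set (FreeGroup (Fin n))))] {A : Type*} [CommGroup A] [Finite A] (hA : Cfsg.HasSchurMultiplier (PresentedGroup (rels : Set (FreeGroup (Fin n)))) A) : Group.rank A ≤ rels.card - n := by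
  classical
  obtain ⟨⟨Γ, _, _, σ, ⟨hsurj, hcen, hcomm⟩, ⟨eA⟩⟩, -⟩ := hA
  let π := PresentedGroup.mk (rels : Set (FreeGroup (Fin n)))
  choose s hs using fun i => hsurj (PresentedGroup.of i)
  let φ : FreeGroup (Fin n) →* Γ := FreeGroup.lift s
  have hσφ : σ.comp φ = π := by
    apply FreeGroup.ext_hom
    intro i
    simp [φ, π, hs]
    rfl
  -- φ is surjective
  have hrange : ∀ w : Γ, ∃ f, φ f⁻¹ * w ∈ σ.ker := by
    intro w
    obtain ⟨f, hf⟩ := PresentedGroup.mk_surjective _ (σ w)
    refine ⟨f, ?_⟩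
    have h' : σ (φ f) = σ w := by rw [← hf]; exact DFunLike.congr_fun hσφ f
    simp [MonoidHom.mem_ker, h']
  have hder : commutator Γ ≤ (commutator (FreeGroup (Fin n))).map φ := by
    rw [_root_.commutator_def, Subgroup.commutator_le]
    intro a _ b _
    obtain ⟨f, hf⟩ := hrange a
    obtain ⟨g, hg⟩ := hrange b
    have ha : a = φ f * (φ f⁻¹ * a) := by simp
    have hb : b = φ g * (φ g⁻¹ * b) := by simp
    have : ⁅a, b⁆ = ⁅φ f, φ g⁆ := by
      rw [ha, hb]
      exact comm_central _ _ _ _ (hcen hf) (hcen hg)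
    rw [this, ← map_commutatorElement]
    exact Subgroup.mem_map_of_mem φ (by
      rw [_root_.commutator_def]
      exact Subgroup.commutator_mem_commutator (Subgroup.mem_top _) (Subgroup.mem_top _))
  let e : FreeGroup (Fin n) →* Multiplicative (Fin n → ℤ) :=
    FreeGroup.lift fun i => Multiplicative.ofAdd (Pi.single i (1 : ℤ))
  have hker : ∀ r ∈ rels, φ r ∈ σ.ker := fun r hr => by
    rw [MonoidHom.mem_ker, ← MonoidHom.comp_apply, hσφ]
    exact PresentedGroup.one_of_mem (Finset.mem_coe.mpr hr)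
  let v : {r // r ∈ rels} → σ.ker := fun r => ⟨φ r.1, hker r.1 r.2⟩
  letI : CommGroup σ.ker :=
    { (inferInstance : Group σ.ker) with
      mul_comm := fun a b => Subtype.ext (Subgroup.mem_center_iff.mp (hcen b.2) a.1) }
  let ψ : ({r // r ∈ rels} → ℤ) →ₗ[ℤ] (Fin n → ℤ) :=
    Fintype.linearCombination ℤ fun r => (e r.1).toAdd
  let Φ : FreeGroup (Fin n) →* Γ × Multiplicative (Fin n → ℤ) := φ.prod e
  -- the image of the relation subgroup
  let T : Subgroup (Γ × Multiplicative (Fin n → ℤ)) :=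
    { carrier := {x | ∃ c : {r // r ∈ rels} → ℤ,
        ((∏ r, v r ^ c r : σ.ker) : Γ) = x.1 ∧ ψ c = x.2.toAdd}
      one_mem' := ⟨0, by simp, by simp⟩
      mul_mem' := by
        rintro x y ⟨c, hc1, hc2⟩ ⟨d, hd1, hd2⟩
        refine ⟨c + d, ?_, by simp [hc2, hd2]⟩
        simp [zpow_add, Finset.prod_mul_distrib, ← hc1, ← hd1]
      inv_mem' := by
        rintro x ⟨c, hc1, hc2⟩
        refine ⟨-c, ?_, by simp [hc2]⟩
        simp [zpow_neg, Finset.prod_inv_distrib, ← hc1] }
  have hTc : T ≤ Subgroup.center _ := by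
    rintro x ⟨c, hc1, -⟩
    rw [Subgroup.mem_center_iff]
    intro y
    refine Prod.ext ?_ (mul_comm _ _)
    exact Subgroup.mem_center_iff.mp (hcen (hc1 ▸ (∏ r, v r ^ c r : σ.ker).2)) y.1
  have hTn : T.Normal :=
    ⟨fun a ha g => by rwa [Subgroup.mem_center_iff.mp (hTc ha) g, mul_inv_cancel_right]⟩
  have hR : π.ker ≤ T.comap Φ := by
    have : π.ker = Subgroup.normalClosure (rels : Set (FreeGroup (Fin n))) :=
      QuotientGroup.ker_mk' _
    rw [this]
    apply Subgroup.normalClosure_le_normal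
    intro r hr
    refine ⟨Pi.single ⟨r, hr⟩ 1, ?_, ?_⟩
    · simp [Pi.single_apply, v, Φ]
    · simp [ψ, Φ, Fintype.linearCombination_apply, Pi.single_apply]
  -- the range of ψ has finite index
  have hfin : ∀ i, ∃ N : ℕ, 0 < N ∧ N • (Pi.single i (1 : ℤ)) ∈ LinearMap.range ψ := by
    intro i
    obtain ⟨N, hN, hN'⟩ := isOfFinOrder_iff_pow_eq_one.mp
      (isOfFinOrder_of_finite (π (FreeGroup.of i)))
    refine ⟨N, hN, ?_⟩
    rw [← map_pow] at hN'
    obtain ⟨c, -, hc⟩ := hR hN'
    exact ⟨c, by rw [hc]; simp [Φ, e]⟩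
  choose N hN0 hN using hfin
  have hrk : n ≤ Module.finrank ℤ (LinearMap.range ψ) := by
    have hli : LinearIndependent ℤ (fun i => (⟨_, hN i⟩ : LinearMap.range ψ)) := by
      apply LinearIndependent.of_comp (LinearMap.range ψ).subtype
      rw [Fintype.linearIndependent_iff]
      intro g hg i
      have := congrFun hg i
      simp [Finset.sum_apply, Pi.single_apply] at this
      rcases this with h | h
      · exact h
      · exact absurd h (hN0 i).ne'
    simpa using hli.fintype_card_le_finrank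
  have hkerψ : Module.finrank ℤ (LinearMap.ker ψ) + n ≤ rels.card := by
    have h1 := Submodule.finrank_quotient_add_finrank (LinearMap.ker ψ)
    rw [ψ.quotKerEquivRange.finrank_eq, Module.finrank_fintype_fun_eq_card,
      Fintype.card_coe] at h1
    omega
  obtain ⟨d, b⟩ := Submodule.basisOfPid (Pi.basisFun ℤ {r // r ∈ rels}) (LinearMap.ker ψ)
  have hd : Module.finrank ℤ (LinearMap.ker ψ) = d := by
    rw [Module.finrank_eq_card_basis b, Fintype.card_fin]
  let θ : Multiplicative (LinearMap.ker ψ) →* σ.ker :=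
    { toFun := fun c => ∏ r, v r ^ ((c.toAdd : {r // r ∈ rels} → ℤ) r)
      map_one' := by simp
      map_mul' := fun c c' => by simp [zpow_add, Finset.prod_mul_distrib] }
  have hθ : Function.Surjective θ := by
    intro a
    obtain ⟨f, hf, hfa⟩ := hder (hcomm a.2)
    have hfR : f ∈ π.ker := by
      rw [MonoidHom.mem_ker, ← hσφ, MonoidHom.comp_apply, hfa]
      exact a.2
    obtain ⟨c, hc1, hc2⟩ := hR hfR
    have hef : e f = 1 := by
      have : commutator (FreeGroup (Fin n)) ≤ e.ker := Abelianization.commutator_subset_ker e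
      exact this hf
    refine ⟨Multiplicative.ofAdd ⟨c, ?_⟩, ?_⟩
    · rw [LinearMap.mem_ker, hc2]
      simp [Φ, hef]
    · apply Subtype.ext
      exact hc1.trans hfa
  let θ' : Multiplicative (LinearMap.ker ψ) →* A := eA.toMonoidHom.comp θ
  have hθ' : Function.Surjective θ' := eA.surjective.comp hθ
  let S : Finset A := Finset.univ.image fun i => θ' (Multiplicative.ofAdd (b i))
  have hS : Subgroup.closure (S : Set A) = ⊤ := by
    rw [eq_top_iff]
    intro a _
    obtain ⟨c, rfl⟩ := hθ' a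
    rw [← ofAdd_toAdd c, ← b.sum_repr c.toAdd, ofAdd_sum, map_prod]
    apply Subgroup.prod_mem
    intro i _
    rw [ofAdd_zsmul, map_zpow]
    exact Subgroup.zpow_mem _ (Subgroup.subset_closure (by simp [S])) _
  refine (Group.rank_le hS).trans ?_
  have : S.card ≤ d := Finset.card_image_le.trans (by simp)
  omega

end Cfsg.Agent.S3973
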