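import Cfsg.Statements.S3976
import Mathlib
import Cfsg.Agent.GStructB.SubgroupCount

set_option autoImplicit false
open Cfsg

namespace Cfsg.Agent.S3976

/-- Let `p` be a prime and `G` a group of order `p ^ m`. For every `s ≤ m` the number of normal subgroups of `G` of order `p ^ s` is congruent to `1` modulo `p`. -/
theorem result {G : Type*} [Group G] [Finite G] (p m s : ℕ) (hp : p.Prime) (hG : Nat.card G = p ^ m) (hs : s ≤ m) : Nat.card {H : Subgroup G // H.Normal ∧ Nat.card H = p ^ s} ≡ 1 [MOD p] := by
  classical
  have : Fact p.Prime := ⟨hp⟩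
  have hG' : IsPGroup p G := IsPGroup.of_card hG
  let X := {H : Subgroup G // Nat.card H = p ^ s}
  let _ : MulAction G X :=
    { smul := fun g H => ⟨H.1.map (MulAut.conj g).toMonoidHom,
        (Subgroup.card_map_of_injective (MulAut.conj g).injective).trans H.2⟩
      one_smul := fun H => Subtype.ext (show H.1.map (MulAut.conj (1 : G)).toMonoidHom = H.1 by
        ext; simp)
      mul_smul := fun g h H => Subtype.ext (show H.1.map (MulAut.conj (g * h)).toMonoidHom =
          (H.1.map (MulAut.conj h).toMonoidHom).map (MulAut.conj g).toMonoidHom by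
        rw [Subgroup.map_map]; congr 1; ext; simp [mul_assoc]) }
  have hfix : ∀ H : X, H ∈ MulAction.fixedPoints G X ↔ H.1.Normal := by
    intro H
    constructor
    · intro h
      refine ⟨fun z hz g => ?_⟩
      have h1 : H.1.map (MulAut.conj g).toMonoidHom = H.1 := congrArg Subtype.val (h g)
      rw [← h1]
      exact ⟨z, hz, by simp⟩
    · intro hn g
      apply Subtype.ext
      show H.1.map (MulAut.conj g).toMonoidHom = H.1
      ext z
      constructor
      · rintro ⟨w, hw, rfl⟩; exact hn.conj_mem w hw g
      · exact fun hz => ⟨g⁻¹ * z * g, by simpa using hn.conj_mem z hz g⁻¹, by simp [mul_assoc]⟩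
  let e : MulAction.fixedPoints G X ≃ {H : Subgroup G // H.Normal ∧ Nat.card H = p ^ s} :=
    { toFun := fun H => ⟨H.1.1, (hfix _).mp H.2, H.1.2⟩
      invFun := fun H => ⟨⟨H.1, H.2.2⟩, (hfix _).mpr H.2.1⟩
      left_inv := fun _ => rfl
      right_inv := fun _ => rfl }
  rw [← Nat.card_congr e]
  exact (hG'.card_modEq_card_fixedPoints X).symm.trans
    (GStructB.SubgroupCount.card_subgroups_modEq_one hp (hG ▸ pow_dvd_pow p hs))

end Cfsg.Agent.S3976
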