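import Cfsg.Statements.S3977
import Mathlib
import Cfsg.Agent.Lib.PGroups.UniqueSubgroup

set_option autoImplicit false
open Cfsg

namespace Cfsg.Agent.S3977

/-- Let `p` be a prime and `G` a group of order `p ^ m` which has exactly one subgroup of order `p ^ s`, where `1 ≤ s < m`, and where `s ≥ 2` if `p = 2`. Then `G` is cyclic. (For `p = 2` and `s = 1` the generalized quaternion groups also occur; that case is the classical criterion for a unique involution.) -/
theorem result {G : Type*} [Group G] [Finite G] (p m s : ℕ) (hp : p.Prime) (hG : Nat.card G = p ^ m) (hs : 1 ≤ s) (hsm : s < m) (h2 : p ≠ 2 ∨ 2 ≤ s) (huniq : ∀ H K : Subgroup G, Nat.card H = p ^ s → Nat.card K = p ^ s → H = K) : IsCyclic G := by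
  classical
  have : Fact p.Prime := ⟨hp⟩
  have hG' : IsPGroup p G := IsPGroup.of_card hG
  obtain ⟨K, hK⟩ := Sylow.exists_subgroup_card_pow_prime p (hG ▸ pow_dvd_pow p hsm.le)
  -- every element of order at most `p ^ s` lies in `K`
  have hle : ∀ H : Subgroup G, ∀ j ≤ s, Nat.card H = p ^ j → H ≤ K := by
    intro H j hj hH
    obtain ⟨H', hH', hHH'⟩ := Sylow.exists_subgroup_card_pow_prime_le (G := G) p
      (hG ▸ pow_dvd_pow p hsm.le) H hH hj
    exact huniq H' K hH' hK ▸ hHH'
  have hmem : ∀ x : G, (∃ j ≤ s, orderOf x = p ^ j) → x ∈ K := fun x ⟨j, hj, hx⟩ =>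
    hle _ j hj (by rw [Nat.card_zpowers, hx]) (Subgroup.mem_zpowers x)
  obtain ⟨x, hx⟩ : ∃ x : G, x ∉ K := by
    by_contra! h
    have : Nat.card G ≤ Nat.card K := Nat.card_le_card_of_injective (fun x => ⟨x, h x⟩) fun a b hab =>
      congrArg Subtype.val hab
    rw [hG, hK] at this
    exact absurd this (not_le.mpr (Nat.pow_lt_pow_right hp.one_lt hsm))
  obtain ⟨j, hj⟩ := IsPGroup.iff_orderOf.mp hG' x
  have hsj : s < j := by
    by_contra h
    exact hx (hmem x ⟨j, not_lt.mp h, hj⟩)
  have hKx : K ≤ Subgroup.zpowers x := by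
    have hd : p ^ s ∣ Nat.card (Subgroup.zpowers x) := by
      rw [Nat.card_zpowers, hj]; exact pow_dvd_pow p hsj.le
    obtain ⟨L, hL⟩ := Sylow.exists_subgroup_card_pow_prime p hd
    rw [← huniq (L.map (Subgroup.zpowers x).subtype) K ((Subgroup.card_subtype _ _).trans hL) hK]
    exact Subgroup.map_subtype_le L
  have hKc : IsCyclic K := isCyclic_of_injective (Subgroup.inclusion hKx) (Subgroup.inclusion_injective _)
  have hu : ∀ H L : Subgroup G, Nat.card H = p → Nat.card L = p → H = L := by
    intro H L hH hL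
    have hHK := hle H 1 hs (by rw [hH, pow_one])
    have hLK := hle L 1 hs (by rw [hL, pow_one])
    have : Fintype K := Fintype.ofFinite K
    have key : ∀ A : Subgroup G, Nat.card A = p → A ≤ K →
        ((A.subgroupOf K : Set K)).toFinset = Finset.univ.filter fun a : K => a ^ p = 1 := by
      intro A hA hAK
      refine Finset.eq_of_subset_of_card_le (fun a ha => ?_) ?_
      · rw [Set.mem_toFinset, SetLike.mem_coe] at ha
        rw [Finset.mem_filter]
        refine ⟨Finset.mem_univ _, orderOf_dvd_iff_pow_eq_one.mp ?_⟩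
        rw [← Subgroup.orderOf_coe, ← hA]
        exact A.orderOf_dvd_natCard ha
      · refine (IsCyclic.card_pow_eq_one_le hp.pos).trans (le_of_eq ?_)
        rw [← Set.ncard_eq_toFinset_card', ← Nat.card_coe_set_eq]
        exact (hA ▸ Nat.card_congr (Subgroup.subgroupOfEquivOfLe hAK).toEquiv).symm
    have h1 := congrArg (Subgroup.map K.subtype)
      (SetLike.coe_injective (Set.toFinset_inj.mp ((key H hH hHK).trans (key L hL hLK).symm)))
    rwa [Subgroup.subgroupOf_map_subtype, Subgroup.subgroupOf_map_subtype, inf_of_le_left hHK,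
      inf_of_le_left hLK] at h1
  rcases PGroups.UniqueSubgroup.isCyclic_or_quaternion hG' hu with h | ⟨rfl, n, ⟨e⟩⟩
  · exact h
  exfalso
  have hs2 : 2 ≤ s := h2.resolve_left (fun h => h rfl)
  have hxa : ∀ i : ZMod (2 * 2 ^ n), e.symm (QuaternionGroup.xa i) ∈ K := fun i => by
    refine hmem _ ⟨2, hs2, ?_⟩
    rw [MulEquiv.orderOf_eq, QuaternionGroup.orderOf_xa]
    rfl
  have hall : ∀ g : G, g ∈ K := by
    intro g
    rw [← e.symm_apply_apply g]
    rcases e g with i | i
    · have h1 : QuaternionGroup.a i = QuaternionGroup.xa (((2 ^ n : ℕ) : ZMod (2 * 2 ^ n)) - i) * QuaternionGroup.xa (0 : ZMod (2 * 2 ^ n)) := by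
        simp [QuaternionGroup.xa_mul_xa]
      rw [h1, map_mul]
      exact mul_mem (hxa _) (hxa 0)
    · exact hxa i
  exact hx (hall x)

end Cfsg.Agent.S3977
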