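import Cfsg.Statements.S3978
import Cfsg.Agent.GStructB.ProjectiveLift
import Cfsg.Agent.GStructB.StemExt

set_option autoImplicit false
open Cfsg

namespace Cfsg.Agent.S3978

/-- A finite group `Q` has trivial Schur multiplier if and only if, for every `n`, every homomorphism from `Q` to the projective general linear group (the quotient of `GL n ℂ` by its centre) lifts to a homomorphism into `GL n ℂ`. -/
theorem result {Q : Type*} [Group Q] [Finite Q] : Cfsg.HasCyclicSchurMultiplier Q 1 ↔ ∀ (n : ℕ) (γ : Q →* (GL (Fin n) ℂ ⧸ Subgroup.center (GL (Fin n) ℂ))), ∃ ρ : Q →* GL (Fin n) ℂ, (QuotientGroup.mk' (Subgroup.center (GL (Fin n) ℂ))).comp ρ = γ := by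
  classical
  constructor
  · intro hmult n γ
    have hQ : ∀ (Γ : Type _) [Group Γ] [Finite Γ] (σ : Γ →* Q),
        Cfsg.IsStemExtension σ → σ.ker = ⊥ := by
      intro Γ _ _ σ hσ
      obtain ⟨f, hf⟩ := hmult.2 Γ σ hσ
      rw [eq_bot_iff]
      intro w hw
      obtain ⟨a, ha⟩ := hf ⟨w, hw⟩
      rw [Subsingleton.elim a 1, map_one] at ha
      exact (congrArg Subtype.val ha).symm
    rcases Nat.eq_zero_or_pos n with rfl | hn
    · have hs : Subsingleton (GL (Fin 0) ℂ) := ⟨fun a b => Units.ext (Subsingleton.elim _ _)⟩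
      have : Subsingleton (GL (Fin 0) ℂ ⧸ Subgroup.center (GL (Fin 0) ℂ)) :=
        (Quotient.mk''_surjective.subsingleton : _)
      exact ⟨1, MonoidHom.ext fun q => Subsingleton.elim _ _⟩
    have : Nonempty (Fin n) := ⟨⟨0, hn⟩⟩
    have : NeZero n := ⟨hn.ne'⟩
    let sc : ℂˣ →* GL (Fin n) ℂ := Matrix.GeneralLinearGroup.scalar (Fin n)
    have hscz : sc.range = Subgroup.center (GL (Fin n) ℂ) :=
      Matrix.GeneralLinearGroup.center_eq_range_scalar.symm
    have hscinj : Function.Injective sc := by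
      intro a b hab
      have := congrArg (fun g : GL (Fin n) ℂ => (g : Matrix (Fin n) (Fin n) ℂ) ⟨0, hn⟩ ⟨0, hn⟩) hab
      simp [sc, Matrix.GeneralLinearGroup.scalar] at this
      exact Units.ext this
    let mk := QuotientGroup.mk' (Subgroup.center (GL (Fin n) ℂ))
    have hdetsc : ∀ a, Matrix.GeneralLinearGroup.det (sc a) = a ^ n := by
      intro a
      apply Units.ext
      simp [sc, Matrix.GeneralLinearGroup.scalar]
    let E : Subgroup (GL (Fin n) ℂ × Q) :=
      ((Matrix.GeneralLinearGroup.det).comp (MonoidHom.fst _ Q)).ker ⊓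
        (mk.comp (MonoidHom.fst _ Q)).eqLocus (γ.comp (MonoidHom.snd _ Q))
    have hmem : ∀ g q, (g, q) ∈ E ↔ Matrix.GeneralLinearGroup.det g = 1 ∧ mk g = γ q :=
      fun g q => Iff.rfl
    let π : E →* Q := (MonoidHom.snd _ Q).comp E.subtype
    have hπ : Function.Surjective π := by
      intro q
      obtain ⟨g, hg⟩ := QuotientGroup.mk'_surjective _ (γ q)
      obtain ⟨μ, hμ⟩ := IsAlgClosed.exists_pow_nat_eq
        (((Matrix.GeneralLinearGroup.det g)⁻¹ : ℂˣ) : ℂ) hn
      have hμ0 : μ ≠ 0 := by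
        intro h
        rw [h, zero_pow hn.ne'] at hμ
        exact Units.ne_zero _ hμ.symm
      refine ⟨⟨(g * sc (Units.mk0 μ hμ0), q), (hmem _ _).mpr ⟨?_, ?_⟩⟩, rfl⟩
      · rw [map_mul, hdetsc, show Units.mk0 μ hμ0 ^ n = (Matrix.GeneralLinearGroup.det g)⁻¹ from
          Units.ext (by simpa using hμ), mul_inv_cancel]
      · rw [map_mul, hg]
        have : mk (sc (Units.mk0 μ hμ0)) = 1 :=
          (QuotientGroup.eq_one_iff _).mpr (hscz ▸ ⟨_, rfl⟩)
        rw [this, mul_one]
    have hfst : ∀ e : π.ker, ∃ a, sc a = e.1.1.1 := by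
      rintro ⟨⟨⟨g, q⟩, he⟩, hq⟩
      obtain rfl : q = 1 := hq
      have h1 : mk g = 1 := by rw [((hmem _ _).mp he).2, map_one]
      have : g ∈ sc.range := hscz ▸ (QuotientGroup.eq_one_iff _).mp h1
      exact this
    choose ι hι using hfst
    let ι' : π.ker →* ℂˣ :=
      { toFun := ι
        map_one' := hscinj (by rw [hι, map_one]; rfl)
        map_mul' := fun a b => hscinj (by rw [hι, map_mul, hι, hι]; rfl) }
    have hι' : Function.Injective ι' := by
      intro a b hab
      apply Subtype.ext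
      apply Subtype.ext
      refine Prod.ext ?_ (a.2.trans b.2.symm)
      rw [← hι a, ← hι b]
      exact congrArg sc hab
    have : Finite E := by
      have : Finite π.ker := by
        have hr : ∀ a : π.ker, ι' a ∈ rootsOfUnity n ℂ := by
          intro a
          rw [mem_rootsOfUnity, ← hdetsc]
          change Matrix.GeneralLinearGroup.det (sc (ι a)) = 1
          rw [hι]
          exact ((hmem _ _).mp a.1.2).1
        exact Finite.of_injective (fun a => (⟨ι' a, hr a⟩ : rootsOfUnity n ℂ))
          fun a b hab => hι' (congrArg Subtype.val hab)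
      have : Finite (E ⧸ π.ker) := Finite.of_equiv Q
        (QuotientGroup.quotientKerEquivOfSurjective π hπ).symm.toEquiv
      exact Finite.of_equiv _ (Subgroup.groupEquivQuotientProdSubgroup (s := π.ker)).symm
    have hcen : π.ker ≤ Subgroup.center E := by
      intro e he
      rw [Subgroup.mem_center_iff]
      intro f
      apply Subtype.ext
      refine Prod.ext ?_ ?_
      · have : e.1.1 ∈ Subgroup.center (GL (Fin n) ℂ) :=
          hscz ▸ ⟨ι ⟨e, he⟩, hι ⟨e, he⟩⟩
        exact Subgroup.mem_center_iff.mp this _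
      · have he' : e.1.2 = 1 := he
        simp [he']
    obtain ⟨lam, hlam⟩ :=
      GStructB.ProjectiveLift.exists_character hQ π hπ hcen ι' hι'
    let R : E →* GL (Fin n) ℂ :=
      { toFun := fun e => (sc (lam e))⁻¹ * e.1.1
        map_one' := by simp
        map_mul' := fun e f => by
          have hc : ∀ a w, sc a * w = w * sc a := fun a w =>
            (Subgroup.mem_center_iff.mp (hscz ▸ ⟨a, rfl⟩ : sc a ∈ Subgroup.center _) w).symm
          simp only [map_mul lam, map_mul sc, Subgroup.coe_mul, Prod.fst_mul, mul_inv_rev]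
          have h1 : (sc (lam f))⁻¹ * (sc (lam e))⁻¹ = (sc (lam e))⁻¹ * (sc (lam f))⁻¹ := by
            rw [← map_inv, ← map_inv, hc]
          have h2 : (sc (lam f))⁻¹ * e.1.1 = e.1.1 * (sc (lam f))⁻¹ := by
            rw [← map_inv, hc]
          rw [h1, mul_assoc, ← mul_assoc (sc (lam f))⁻¹, h2]
          simp only [mul_assoc] }
    refine ⟨π.liftOfSurjective hπ ⟨R, ?_⟩, ?_⟩
    · intro e he
      rw [MonoidHom.mem_ker]
      change (sc (lam e))⁻¹ * e.1.1 = 1
      rw [hlam ⟨e, he⟩, inv_mul_eq_one]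
      exact hι ⟨e, he⟩
    · apply MonoidHom.ext
      intro q
      obtain ⟨e, rfl⟩ := hπ q
      rw [MonoidHom.comp_apply, MonoidHom.liftOfRightInverse_comp_apply]
      change mk ((sc (lam e))⁻¹ * e.1.1) = γ e.1.2
      have hs1 : mk (sc (lam e)) = 1 :=
        (QuotientGroup.eq_one_iff _).mpr (hscz ▸ ⟨_, rfl⟩)
      rw [map_mul, map_inv, hs1, inv_one, one_mul]
      exact ((hmem _ _).mp e.2).2
  · intro hlift
    apply GStructB.StemExt.hasCyclicSchurMultiplier_one
    intro Γ _ _ σ hσ
    rw [Subgroup.eq_bot_iff_forall]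
    intro z hz
    by_contra hz1
    let : CommGroup σ.ker :=
      { (inferInstance : Group σ.ker) with
        mul_comm := fun a b => Subtype.ext (Subgroup.mem_center_iff.mp (hσ.2.1 b.2) a.1) }
    obtain ⟨χ, hχ⟩ := CommGroup.exists_apply_ne_one_of_hasEnoughRootsOfUnity σ.ker ℂ
      (a := ⟨z, hz⟩) (fun h => hz1 (congrArg Subtype.val h))
    obtain ⟨s, hs⟩ := hσ.1.hasRightInverse
    let c : Γ → Q → σ.ker := fun g q => ⟨(s q)⁻¹ * g * s ((σ g)⁻¹ * q), by
      simp [MonoidHom.mem_ker, hs _, mul_assoc]⟩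
    have hc : ∀ g h q, c (g * h) q = c g q * c h ((σ g)⁻¹ * q) := fun g h q => by
      apply Subtype.ext
      simp [c, mul_assoc]
    let rep : Γ →* ((Q → ℂ) →ₗ[ℂ] (Q → ℂ)) :=
      { toFun := fun g =>
          { toFun := fun f q => (χ (c g q) : ℂ) * f ((σ g)⁻¹ * q)
            map_add' := fun f f' => by ext q; simp [mul_add]
            map_smul' := fun a f => by ext q; simp [mul_left_comm] }
        map_one' := by
          apply LinearMap.ext
          intro f
          funext q
          have : c 1 q = 1 := Subtype.ext (by simp [c])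
          simp [this]
        map_mul' := fun g h => by
          apply LinearMap.ext
          intro f
          funext q
          simp [hc, mul_assoc, mul_inv_rev] }
    have := Fintype.ofFinite Q
    let n := Fintype.card Q
    let b : Module.Basis (Fin n) ℂ (Q → ℂ) := (Pi.basisFun ℂ Q).reindex (Fintype.equivFin Q)
    let toM := LinearMap.toMatrixAlgEquiv b
    let ρ : Γ →* GL (Fin n) ℂ :=
      ((toM : ((Q → ℂ) →ₗ[ℂ] (Q → ℂ)) →* Matrix (Fin n) (Fin n) ℂ).comp rep).toHomUnits
    have hker : ∀ k : σ.ker, (ρ k : Matrix (Fin n) (Fin n) ℂ) = Matrix.scalar (Fin n) (χ k : ℂ) := by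
      intro k
      change toM (rep k) = _
      have h1 : rep k = (χ k : ℂ) • (1 : (Q → ℂ) →ₗ[ℂ] (Q → ℂ)) := by
        apply LinearMap.ext
        intro f
        funext q
        have hσk : σ (k : Γ) = 1 := k.2
        have hck : c k q = k := by
          apply Subtype.ext
          have := Subgroup.mem_center_iff.mp (hσ.2.1 k.2) (s q)⁻¹
          simp [c, hσk, this, mul_assoc]
        simp [rep, hσk, hck]
      rw [h1, map_smul, map_one, Matrix.smul_one_eq_diagonal]
      rfl
    let mk := QuotientGroup.mk' (Subgroup.center (GL (Fin n) ℂ))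
    have hle : σ.ker ≤ (mk.comp ρ).ker := by
      intro k hk
      rw [MonoidHom.mem_ker, MonoidHom.comp_apply]
      apply (QuotientGroup.eq_one_iff _).mpr
      rw [Matrix.GeneralLinearGroup.mem_center_iff_val_mem_range_scalar]
      exact ⟨_, (hker ⟨k, hk⟩).symm⟩
    obtain ⟨ρ', hρ'⟩ := hlift n (σ.liftOfSurjective hσ.1 ⟨mk.comp ρ, hle⟩)
    have hψ : ∀ g, ρ g * (ρ' (σ g))⁻¹ ∈ Subgroup.center (GL (Fin n) ℂ) := by
      intro g
      apply (QuotientGroup.eq_one_iff _).mp
      have h2 := DFunLike.congr_fun hρ' (σ g)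
      rw [MonoidHom.comp_apply, MonoidHom.liftOfRightInverse_comp_apply] at h2
      change mk (ρ g * (ρ' (σ g))⁻¹) = 1
      rw [map_mul, map_inv]
      rw [show mk (ρ' (σ g)) = mk (ρ g) from h2, mul_inv_cancel]
    let ψ : Γ →* Subgroup.center (GL (Fin n) ℂ) :=
      { toFun := fun g => ⟨_, hψ g⟩
        map_one' := by simp
        map_mul' := fun g h => by
          apply Subtype.ext
          have := Subgroup.mem_center_iff.mp (hψ h) (ρ' (σ g))⁻¹
          simp only [map_mul, mul_inv_rev, Subgroup.coe_mul]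
          rw [mul_assoc (ρ g) (ρ' (σ g))⁻¹, this]
          simp [mul_assoc] }
    let : CommGroup (Subgroup.center (GL (Fin n) ℂ)) :=
      { (inferInstance : Group (Subgroup.center (GL (Fin n) ℂ))) with
        mul_comm := fun a b => Subtype.ext (Subgroup.mem_center_iff.mp b.2 a.1) }
    have hψz : ρ z * (ρ' (σ z))⁻¹ = 1 :=
      congrArg Subtype.val (Abelianization.commutator_subset_ker ψ (hσ.2.2 hz))
    rw [MonoidHom.mem_ker.mp hz, map_one, inv_one, mul_one] at hψz
    have h2 := hker ⟨z, hz⟩
    rw [hψz, Units.val_one] at h2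
    apply hχ
    have : Nonempty (Fin n) := ⟨Fintype.equivFin Q 1⟩
    apply Units.ext
    exact (Matrix.scalar_inj.mp (h2.symm.trans (map_one (Matrix.scalar (Fin n))).symm))

end Cfsg.Agent.S3978
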