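import Cfsg.Statements.S3980
import Mathlib
import Cfsg.Agent.GenA.Schur.Product

set_option autoImplicit false
universe u v w
open Cfsg

namespace Cfsg.Agent.S3980

/-- Let `Q₁` and `Q₂` be finite groups whose commutator quotients have coprime orders, with Schur multipliers `A` and `B`. Then the Schur multiplier of `Q₁ × Q₂` is isomorphic to `A × B`. -/
theorem result {Q₁ : Type u} {Q₂ : Type v} [Group Q₁] [Group Q₂] [Finite Q₁] [Finite Q₂] {A B : Type w} [CommGroup A] [CommGroup B] (hA : Cfsg.HasSchurMultiplier Q₁ A) (hB : Cfsg.HasSchurMultiplier Q₂ B) (hcop : Nat.Coprime (Nat.card (Abelianization Q₁)) (Nat.card (Abelianization Q₂))) : Cfsg.HasSchurMultiplier (Q₁ × Q₂) (A × B) := by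
  have hA' := hA
  have hB' := hB
  obtain ⟨⟨Γ₁, _, _, σ₁, h₁, ⟨eA⟩⟩, -⟩ := hA'
  obtain ⟨⟨Γ₂, _, _, σ₂, h₂, ⟨eB⟩⟩, -⟩ := hB'
  have hzero : ∀ x : TensorProduct ℤ (Additive (Abelianization Q₁)) (Additive (Abelianization Q₂)), x = 0 := by
    intro x
    induction x using TensorProduct.induction_on with
    | zero => rfl
    | tmul a b =>
      obtain ⟨s, t, hst⟩ : ∃ s t : ℤ, (Nat.card (Abelianization Q₁) : ℤ) * s + (Nat.card (Abelianization Q₂) : ℤ) * t = 1 :=
        ⟨_, _, ((Nat.gcd_eq_gcd_ab _ _).symm.trans (congrArg (Nat.cast : ℕ → ℤ) hcop.gcd_eq_one))⟩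
      have ha : (Nat.card (Abelianization Q₁) : ℤ) • a = 0 := by
        rw [natCast_zsmul]; exact card_nsmul_eq_zero'
      have hb : (Nat.card (Abelianization Q₂) : ℤ) • b = 0 := by
        rw [natCast_zsmul]; exact card_nsmul_eq_zero'
      rw [← one_zsmul (TensorProduct.tmul ℤ a b), ← hst, add_zsmul, mul_comm, mul_zsmul, mul_comm (Nat.card (Abelianization Q₂) : ℤ), mul_zsmul, TensorProduct.smul_tmul',
        ha, ← TensorProduct.tmul_smul (R := ℤ) (Nat.card (Abelianization Q₂) : ℤ), hb,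
        TensorProduct.zero_tmul, TensorProduct.tmul_zero, smul_zero, smul_zero, add_zero]
    | add a b ha hb => rw [ha, hb, add_zero]
  have : Subsingleton (GenA.Schur.TT Q₁ Q₂) :=
    ⟨fun a b => Multiplicative.toAdd.injective ((hzero a.toAdd).trans (hzero b.toAdd).symm)⟩
  let e : A × B × GenA.Schur.TT Q₁ Q₂ ≃* A × B :=
    { toFun := fun w => (w.1, w.2.1)
      invFun := fun w => (w.1, w.2, 1)
      left_inv := fun w => Prod.ext rfl (Prod.ext rfl (Subsingleton.elim _ _))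
      right_inv := fun w => rfl
      map_mul' := fun w w' => rfl }
  obtain ⟨Γ, _, _, σ, hσ, ⟨f⟩⟩ := GenA.Schur.exists_stem σ₁ σ₂ h₁ h₂ eA eB
  refine ⟨⟨Γ, inferInstance, inferInstance, σ, hσ, ⟨f.trans e⟩⟩, fun Δ _ _ τ hτ => ?_⟩
  obtain ⟨gA⟩ := GenA.Schur.mulEquiv_M hA
  obtain ⟨gB⟩ := GenA.Schur.mulEquiv_M hB
  obtain ⟨π, hπ⟩ := GenA.Schur.exists_onto gA gB τ hτ
  exact ⟨π.comp e.symm.toMonoidHom, hπ.comp e.symm.surjective⟩

end Cfsg.Agent.S3980
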