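import Cfsg.Statements.S3981
import Mathlib
import Cfsg.Agent.GStructB.PElements

set_option autoImplicit false
open Cfsg

namespace Cfsg.Agent.S3981

/-- Let p be an odd prime, Q a p-subgroup of the finite group G and y an involution normalizing Q. Then Q is maximal among the p-subgroups of G normalized by y if and only if the image of y in N_G(Q) ⧸ Q neither inverts nor centralizes any element of order p there; the latter is phrased inside N_G(Q): for every x in N_G(Q) outside Q with x ^ p ∈ Q, neither y x y⁻¹ x nor y x y⁻¹ x⁻¹ lies in Q. -/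
theorem result {G : Type*} [Group G] [Finite G] (p : ℕ) [Fact p.Prime] (hp2 : p ≠ 2) (Q : Subgroup G) (hQ : IsPGroup p ↥Q) (y : G) (hy : orderOf y = 2) (hyQ : y ∈ Subgroup.normalizer (Q : Set G)) : (∀ R : Subgroup G, IsPGroup p ↥R → Q ≤ R → y ∈ Subgroup.normalizer (R : Set G) → R = Q) ↔ ∀ x : G, x ∈ Subgroup.normalizer (Q : Set G) → x ∉ Q → x ^ p ∈ Q → (y * x * y⁻¹ * x ∉ Q ∧ y * x * y⁻¹ * x⁻¹ ∉ Q) := by
  have hp := (Fact.out : p.Prime)
  have hy2 : y * y = 1 := by rw [← pow_two, ← hy, pow_orderOf_eq_one]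
  set N := Subgroup.normalizer (Q : Set G) with hN
  constructor
  · intro hmax x hxN hxQ hxp
    suffices h : y * x * y⁻¹ ∉ (Q : Subgroup G) ⊔ Subgroup.zpowers x by
      refine ⟨fun h1 => h ?_, fun h1 => h ?_⟩
      · have := mul_mem (Subgroup.mem_sup_left (T := Subgroup.zpowers x) h1)
          (Subgroup.mem_sup_right (inv_mem (Subgroup.mem_zpowers x)))
        simpa using this
      · have := mul_mem (Subgroup.mem_sup_left (T := Subgroup.zpowers x) h1)
          (Subgroup.mem_sup_right (Subgroup.mem_zpowers x))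
        simpa using this
    intro h
    apply hxQ
    obtain ⟨e, he⟩ := GStructB.PElements.exists_orderOf_eq hQ hxp
    obtain ⟨d, hd⟩ : ∃ d, orderOf x = p ^ d := by
      have h1 : orderOf x ∣ p ^ (e + 1) := by
        rw [orderOf_dvd_iff_pow_eq_one, pow_succ', pow_mul, ← he, pow_orderOf_eq_one]
      exact ((Nat.dvd_prime_pow hp).mp h1).imp fun i hi => hi.2
    have hR : IsPGroup p ↥((Q : Subgroup G) ⊔ Subgroup.zpowers x) :=
      sup_comm (Subgroup.zpowers x) Q ▸ (GStructB.PElements.isPGroup_zpowers hd).to_sup_of_normal_right'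
        hQ (Subgroup.zpowers_le.mpr hxN)
    have hyR : y ∈ Subgroup.normalizer (((Q : Subgroup G) ⊔ Subgroup.zpowers x : Subgroup G) : Set G) := by
      rw [Subgroup.mem_normalizer_iff_map_conj_eq]
      refine Subgroup.eq_of_le_of_card_ge ?_ (le_of_eq (Subgroup.card_map_of_injective (MulAut.conj y).injective).symm)
      rw [Subgroup.map_sup, sup_le_iff]
      refine ⟨?_, ?_⟩
      · rw [Subgroup.mem_normalizer_iff_map_conj_eq.mp hyQ]; exact le_sup_left
      · rw [MonoidHom.map_zpowers, Subgroup.zpowers_le]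
        simpa using h
    rw [← hmax _ hR le_sup_left hyR]
    exact Subgroup.mem_sup_right (Subgroup.mem_zpowers x)
  · intro h R hR hQR hyR
    by_contra hne
    have hlt : Q.subgroupOf R < ⊤ := by
      rw [lt_top_iff_ne_top, Ne, Subgroup.subgroupOf_eq_top]
      exact fun h' => hne (le_antisymm h' hQR)
    obtain ⟨r₀, hr₀N, hr₀Q⟩ := SetLike.exists_of_lt
      ((Group.normalizerCondition_of_isNilpotent (h := hR.isNilpotent)) _ hlt)
    rw [← Subgroup.subgroupOf_normalizer_eq hQR, Subgroup.mem_subgroupOf] at hr₀N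
    rw [Subgroup.mem_subgroupOf] at hr₀Q
    let Qn := Q.subgroupOf N
    have : Qn.Normal := (Subgroup.normal_subgroupOf_iff_le_normalizer Subgroup.le_normalizer).mpr le_rfl
    let π := QuotientGroup.mk' Qn
    let RN : Subgroup (N ⧸ Qn) := (R.subgroupOf N).map π
    have hπ : ∀ w : N, π w = 1 ↔ (w : G) ∈ Q := fun w =>
      (QuotientGroup.eq_one_iff w).trans Subgroup.mem_subgroupOf
    have hRNp : IsPGroup p RN := (hR.comap_subtype).map π
    set yb := π ⟨y, hyQ⟩ with hyb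
    have hyb2 : yb * yb = 1 := by
      rw [hyb, ← map_mul, hπ]
      change y * y ∈ Q
      rw [hy2]; exact one_mem _
    have hyRN : ∀ z ∈ RN, yb * z * yb⁻¹ ∈ RN := by
      rintro _ ⟨z, hz, rfl⟩
      refine ⟨⟨y, hyQ⟩ * z * ⟨y, hyQ⟩⁻¹, ?_, by rw [map_mul, map_mul, map_inv]⟩
      rw [SetLike.mem_coe, Subgroup.mem_subgroupOf] at hz ⊢
      exact (Subgroup.mem_normalizer_iff.mp hyR _).mp hz
    -- an element of order `p` fixed or inverted by the involution
    have hu0 : ∃ u ∈ RN, u ≠ 1 :=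
      ⟨π ⟨r₀, hr₀N⟩, ⟨_, Subgroup.mem_subgroupOf.mpr r₀.2, rfl⟩, fun h' => hr₀Q ((hπ _).mp h')⟩
    have horder : ∀ u ∈ RN, u ≠ 1 → ∃ j : ℕ, u ^ j ≠ 1 ∧ (u ^ j) ^ p = 1 := by
      intro u hu hu1
      obtain ⟨k, hk⟩ := GStructB.PElements.exists_orderOf_eq hRNp hu
      obtain ⟨i, rfl⟩ : ∃ i, k = i + 1 := ⟨k - 1, by
        rcases Nat.eq_zero_or_pos k with rfl | h'
        · exact absurd (orderOf_eq_one_iff.mp (by simpa using hk)) hu1
        · omega⟩
      refine ⟨p ^ i, ?_, by rw [← pow_mul, ← pow_succ, ← hk, pow_orderOf_eq_one]⟩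
      rw [Ne, ← orderOf_dvd_iff_pow_eq_one, hk, Nat.pow_dvd_pow_iff_le_right hp.one_lt]
      omega
    obtain ⟨xb, hxb, hxb1, hxbp, hxbc⟩ : ∃ x ∈ RN, x ≠ 1 ∧ x ^ p = 1 ∧
        (yb * x * yb⁻¹ = x ∨ yb * x * yb⁻¹ = x⁻¹) := by
      obtain ⟨u, hu, hu1⟩ := hu0
      obtain ⟨j, hj1, hjp⟩ := horder u hu hu1
      set u' := u ^ j
      set t := yb * u' * yb⁻¹ * u'⁻¹ with ht
      by_cases ht1 : t = 1
      · exact ⟨u', pow_mem hu j, hj1, hjp, Or.inl (mul_inv_eq_one.mp ht1)⟩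
      have htR : t ∈ RN := mul_mem (hyRN _ (pow_mem hu j)) (inv_mem (pow_mem hu j))
      have htinv : yb * t * yb⁻¹ = t⁻¹ := by
        rw [ht]
        calc yb * (yb * u' * yb⁻¹ * u'⁻¹) * yb⁻¹
            = (yb * yb) * u' * (yb * yb)⁻¹ * (yb * u'⁻¹ * yb⁻¹) * 1 := by group
          _ = _ := by rw [hyb2]; group
      obtain ⟨i, hi1, hip⟩ := horder t htR ht1
      exact ⟨t ^ i, pow_mem htR i, hi1, hip, Or.inr (by rw [← conj_pow, htinv, inv_pow])⟩
    obtain ⟨x, hxR, rfl⟩ := hxb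
    have hxQ : (x : G) ∉ Q := fun h' => hxb1 ((hπ x).mpr h')
    have hxp : (x : G) ^ p ∈ Q := by
      rw [← Subgroup.coe_pow]
      exact (hπ _).mp (by rw [map_pow, hxbp])
    obtain ⟨h1, h2⟩ := h x x.2 hxQ hxp
    rcases hxbc with hc | hc
    · apply h2
      exact (hπ (⟨y, hyQ⟩ * x * ⟨y, hyQ⟩⁻¹ * x⁻¹)).mp
        (by rw [map_mul, map_mul, map_mul, map_inv, map_inv, ← hyb, hc, mul_inv_cancel])
    · apply h1
      exact (hπ (⟨y, hyQ⟩ * x * ⟨y, hyQ⟩⁻¹ * x)).mp
        (by rw [map_mul, map_mul, map_mul, map_inv, ← hyb, hc, inv_mul_cancel])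

end Cfsg.Agent.S3981
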