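import Cfsg.Statements.S3982
import Mathlib
import Cfsg.Agent.GStructB.PElements
import Cfsg.Agent.Lib.Coprime.Sylow
import Cfsg.Agent.Lib.Involutions.Basic

set_option autoImplicit false
open Cfsg

namespace Cfsg.Agent.S3982

/-- Let p be an odd prime and G a finite group of even order divisible by p in which the centralizer of every non-identity p-element has odd order. If some nontrivial p-subgroup of G has a normalizer of even order, then the normalizer of every Sylow p-subgroup of G has even order. -/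
theorem result {G : Type*} [Group G] [Finite G] (p : ℕ) [Fact p.Prime] (hp2 : p ≠ 2) (hpG : p ∣ Nat.card G) (h2G : 2 ∣ Nat.card G) (hC : ∀ g : G, g ≠ 1 → (∃ k : ℕ, orderOf g = p ^ k) → Odd (Nat.card ↥(Subgroup.centralizer ({g} : Set G)))) (Q : Subgroup G) (hQ : IsPGroup p ↥Q) (hQ1 : Q ≠ ⊥) (hev : Even (Nat.card ↥(Subgroup.normalizer (Q : Set G)))) (P : Sylow p G) : Even (Nat.card ↥(Subgroup.normalizer ((P : Subgroup G) : Set G))) := by
  classical
  have hp := (Fact.out : p.Prime)
  have : Fact (Nat.Prime 2) := ⟨Nat.prime_two⟩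
  obtain ⟨⟨y, hyQ⟩, hy⟩ := exists_prime_orderOf_dvd_card' 2 (even_iff_two_dvd.mp hev)
  rw [Subgroup.orderOf_mk] at hy
  -- involutions centralise no nontrivial p-element
  have hfree : ∀ g : G, (∃ k, orderOf g = p ^ k) → y * g = g * y → g = 1 := by
    intro g hg hc
    by_contra hg1
    have h1 := hC g hg1 hg
    have h2 : orderOf y ∣ Nat.card ↥(Subgroup.centralizer ({g} : Set G)) :=
      Subgroup.orderOf_dvd_natCard _ (Subgroup.mem_centralizer_singleton_iff.mpr hc)
    rw [hy] at h2
    exact Nat.not_even_iff_odd.mpr h1 (even_iff_two_dvd.mpr h2)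
  obtain ⟨R, hQR, hRmax⟩ := (Set.toFinite {R : Subgroup G | IsPGroup p R ∧ Q ≤ R ∧
    y ∈ Subgroup.normalizer (R : Set G)}).exists_le_maximal (a := Q) ⟨hQ, le_rfl, hyQ⟩
  obtain ⟨hR, -, hyR⟩ := hRmax.1
  have hR1 : R ≠ ⊥ := fun h => hQ1 (le_bot_iff.mp (h ▸ hQR))
  -- the involution inverts `R`
  have hinv : ∀ r ∈ R, y * r * y⁻¹ = r⁻¹ := by
    let f : R → R := fun r => ⟨(r : G)⁻¹ * (y * r * y⁻¹),
      mul_mem (inv_mem r.2) ((Subgroup.mem_normalizer_iff.mp hyR r).mp r.2)⟩
    have hf : Function.Injective f := by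
      intro a b hab
      have e : (a : G)⁻¹ * (y * a * y⁻¹) = (b : G)⁻¹ * (y * b * y⁻¹) := congrArg Subtype.val hab
      have h1 : y * ((b : G) * (a : G)⁻¹)⁻¹ * y⁻¹ = ((b : G) * (a : G)⁻¹)⁻¹ := by
        calc y * ((b : G) * (a : G)⁻¹)⁻¹ * y⁻¹
            = (a : G) * ((a : G)⁻¹ * (y * a * y⁻¹)) * (y * b * y⁻¹)⁻¹ := by group
          _ = ((b : G) * (a : G)⁻¹)⁻¹ := by rw [e]; group
      have h2 := hfree _ (GStructB.PElements.exists_orderOf_eq hR (inv_mem (mul_mem b.2 (inv_mem a.2))))
        (mul_inv_eq_iff_eq_mul.mp h1)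
      rw [inv_eq_one, mul_inv_eq_one] at h2
      exact Subtype.ext h2.symm
    intro r hr
    obtain ⟨s, hs⟩ := (Finite.injective_iff_surjective.mp hf) ⟨r, hr⟩
    have hs' : (s : G)⁻¹ * (y * s * y⁻¹) = r := congrArg Subtype.val hs
    rw [← hs']
    calc y * ((s : G)⁻¹ * (y * s * y⁻¹)) * y⁻¹
        = (y * (s : G) * y⁻¹)⁻¹ * ((y * y) * s * (y * y)⁻¹) := by group
      _ = _ := by rw [← pow_two, ← hy, pow_orderOf_eq_one]; group
  have hRab : ∀ a ∈ R, ∀ b ∈ R, a * b = b * a := by
    intro a ha b hb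
    have h1 := hinv _ (mul_mem ha hb)
    rw [show y * (a * b) * y⁻¹ = (y * a * y⁻¹) * (y * b * y⁻¹) by group, hinv a ha, hinv b hb] at h1
    exact (inv_inj.mp (by rw [mul_inv_rev]; exact h1)).symm
  set C := Subgroup.centralizer (R : Set G) with hCdef
  have hRC : R ≤ C := fun a ha => Subgroup.mem_centralizer_iff.mpr fun b hb => hRab b hb a ha
  have hCodd : Odd (Nat.card C) := by
    obtain ⟨r, hr, hr1⟩ := (Subgroup.bot_or_exists_ne_one R).resolve_left hR1
    exact (hC r hr1 (GStructB.PElements.exists_orderOf_eq hR hr)).of_dvd_nat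
      (Subgroup.card_dvd_of_le (Subgroup.centralizer_le (Set.singleton_subset_iff.mpr hr)))
  obtain ⟨S, hS⟩ := hR.exists_le_sylow
  have hRS : R = (S : Subgroup G) := by
    by_contra hne
    have hlt : R.subgroupOf (S : Subgroup G) < ⊤ := by
      rw [lt_top_iff_ne_top, Ne, Subgroup.subgroupOf_eq_top]
      exact fun h' => hne (le_antisymm hS h')
    obtain ⟨s, hsN, hsR⟩ := SetLike.exists_of_lt
      ((Group.normalizerCondition_of_isNilpotent (h := S.2.isNilpotent)) _ hlt)
    rw [← Subgroup.subgroupOf_normalizer_eq hS, Subgroup.mem_subgroupOf] at hsN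
    rw [Subgroup.mem_subgroupOf] at hsR
    -- factor `s` through the centraliser of the involution
    set y' := (s : G) * y * (s : G)⁻¹ with hy'
    have hy'o : orderOf y' = 2 := by rw [hy', Involutions.Basic.orderOf_conj]; exact hy
    have hwC : y' * y ∈ C := by
      rw [hCdef, Subgroup.mem_centralizer_iff]
      intro r hr
      have h1 : (s : G)⁻¹ * (y * r * y⁻¹) * s ∈ R := by
        have := (Subgroup.mem_normalizer_iff.mp (inv_mem hsN) (y * r * y⁻¹)).mp
          ((Subgroup.mem_normalizer_iff.mp hyR r).mp hr)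
        simpa using this
      have h2 : y' * y * r * (y' * y)⁻¹ = r := by
        calc y' * y * r * (y' * y)⁻¹
            = (s : G) * (y * ((s : G)⁻¹ * (y * r * y⁻¹) * s) * y⁻¹) * (s : G)⁻¹ := by rw [hy']; group
          _ = r := by rw [hinv _ h1, hinv r hr]; group
      exact (mul_inv_eq_iff_eq_mul.mp h2).symm
    obtain ⟨d, hd, hdy⟩ := Involutions.Basic.exists_conj_of_odd hy'o hy
      (hCodd.of_dvd_nat (C.orderOf_dvd_natCard hwC))
    have hdC : d ∈ C := Subgroup.zpowers_le.mpr hwC hd
    set c := d * (s : G) with hc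
    have hcy : y * c = c * y := by
      rw [hy'] at hdy
      calc y * c = d * ((s : G) * y * (s : G)⁻¹) * d⁻¹ * (d * s) := by rw [hdy]
        _ = c * y := by rw [hc]; group
    -- `c` has order prime to `p`
    have hcp : ¬ p ∣ orderOf c := by
      intro hd'
      obtain ⟨a, t, ha, ht, hct⟩ := GStructB.PElements.exists_split p c
      have h1 := hfree _ ⟨a, hct⟩ ((show Commute y c from hcy).pow_right t).eq
      rw [h1, orderOf_one] at hct
      rw [ha, ← hct, one_mul] at hd'
      exact ht hd'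
    have hdN : d ∈ Subgroup.normalizer (R : Set G) := by
      rw [Subgroup.mem_normalizer_iff]
      intro r
      constructor
      · intro hr
        rwa [← Subgroup.mem_centralizer_iff.mp hdC r hr, mul_inv_cancel_right]
      · intro hr
        have h3 := Subgroup.mem_centralizer_iff.mp hdC _ hr
        have : d * r * d⁻¹ = r := by
          calc d * r * d⁻¹ = d⁻¹ * ((d * r * d⁻¹) * d) * 1 := by rw [h3]; group
            _ = _ := by group
        rwa [this] at hr
    set M := Subgroup.normalizer (R : Set G) with hM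
    let K := C.subgroupOf M
    have hK : K.Normal := by
      refine ⟨fun k hk m => ?_⟩
      rw [Subgroup.mem_subgroupOf, hCdef, Subgroup.mem_centralizer_iff] at hk ⊢
      intro r hr
      have h1 : (m : G)⁻¹ * r * m ∈ R := by
        simpa using (Subgroup.mem_normalizer_iff.mp (inv_mem m.2) r).mp hr
      have h2 := hk _ h1
      simp only [Subgroup.coe_mul, Subgroup.coe_inv]
      calc r * ((m : G) * k * (m : G)⁻¹) = (m : G) * (((m : G)⁻¹ * r * m) * k) * (m : G)⁻¹ := by group
        _ = _ := by rw [h2]; group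
    have hsC : (s : G) ∈ C := by
      have hq : QuotientGroup.mk' K (⟨(s : G), hsN⟩ : M) = QuotientGroup.mk' K (⟨c, mul_mem hdN hsN⟩ : M) := by
        rw [show (⟨c, mul_mem hdN hsN⟩ : M) = (⟨d, hdN⟩ : M) * (⟨(s : G), hsN⟩ : M) from rfl, map_mul,
          show QuotientGroup.mk' K ⟨d, hdN⟩ = 1 from (QuotientGroup.eq_one_iff _).mpr
            (Subgroup.mem_subgroupOf.mpr hdC), one_mul]
      obtain ⟨k, hk⟩ := GStructB.PElements.exists_orderOf_eq S.2 s.2
      have h1 : orderOf (QuotientGroup.mk' K (⟨(s : G), hsN⟩ : M)) = 1 := by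
        refine Nat.eq_one_of_dvd_coprimes ((hp.coprime_iff_not_dvd.mpr hcp).pow_left k) ?_ ?_
        · exact hk ▸ (orderOf_map_dvd _ _).trans (dvd_of_eq (Subgroup.orderOf_mk _ _))
        · rw [hq]; exact (orderOf_map_dvd _ _).trans (dvd_of_eq (Subgroup.orderOf_mk _ _))
      exact Subgroup.mem_subgroupOf.mp ((QuotientGroup.eq_one_iff (⟨(s : G), hsN⟩ : M)).mp (orderOf_eq_one_iff.mp h1))
    have hyC : Subgroup.zpowers y ≤ Subgroup.normalizer (C : Set G) := by
      rw [Subgroup.zpowers_le, hCdef, Subgroup.mem_normalizer_iff]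
      intro w
      have key : ∀ v, (∀ r ∈ R, r * v = v * r) → ∀ r ∈ R, r * (y * v * y⁻¹) = y * v * y⁻¹ * r := by
        intro v hv r hr
        have h1 := hv r⁻¹ (inv_mem hr)
        have h2 : y * r⁻¹ * y⁻¹ = r := by rw [hinv _ (inv_mem hr), inv_inv]
        calc r * (y * v * y⁻¹) = (y * r⁻¹ * y⁻¹) * (y * v * y⁻¹) := by rw [h2]
          _ = y * (r⁻¹ * v) * y⁻¹ := by group
          _ = (y * v * y⁻¹) * (y * r⁻¹ * y⁻¹) := by rw [h1]; group
          _ = _ := by rw [h2]
      simp only [Subgroup.mem_centralizer_iff, SetLike.mem_coe]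
      refine ⟨key w, fun h r hr => ?_⟩
      have h2 := key _ h r hr
      have hyy : y * y = 1 := by rw [← pow_two, ← hy, pow_orderOf_eq_one]
      have e : y * (y * w * y⁻¹) * y⁻¹ = w := by
        calc y * (y * w * y⁻¹) * y⁻¹ = (y * y) * w * (y * y)⁻¹ := by group
          _ = w := by rw [hyy]; group
      rwa [e] at h2
    obtain ⟨T, hRT, hyT⟩ := Coprime.exists_invariant_sylow_ge (p := p) hyC
      (by rw [Nat.card_zpowers, hy]; exact Nat.coprime_two_left.mpr hCodd)
      (Or.inl inferInstance) hRC hR (Subgroup.zpowers_le.mpr hyR)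
    have hTR : (T : Subgroup C).map C.subtype ≤ R :=
      hRmax.2 ⟨T.2.map _, hQR.trans hRT, Subgroup.zpowers_le.mp hyT⟩ hRT
    -- but `C` contains a larger p-subgroup
    have hX : IsPGroup p ↥(Subgroup.zpowers (s : G) ⊔ R) := by
      obtain ⟨k, hk⟩ := GStructB.PElements.exists_orderOf_eq S.2 s.2
      exact (GStructB.PElements.isPGroup_zpowers hk).to_sup_of_normal_right' hR
        (Subgroup.zpowers_le.mpr hsN)
    have hXC : Subgroup.zpowers (s : G) ⊔ R ≤ C := sup_le (Subgroup.zpowers_le.mpr hsC) hRC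
    obtain ⟨T', hT'⟩ := (hX.comap_subtype (K := C)).exists_le_sylow
    have h1 : Nat.card ↥(Subgroup.zpowers (s : G) ⊔ R) ≤ Nat.card R := by
      calc Nat.card ↥(Subgroup.zpowers (s : G) ⊔ R)
          = Nat.card ((Subgroup.zpowers (s : G) ⊔ R).subgroupOf C) :=
            (Nat.card_congr (Subgroup.subgroupOfEquivOfLe hXC).toEquiv).symm
        _ ≤ Nat.card (T' : Subgroup C) := Subgroup.card_le_of_le hT'
        _ = Nat.card (T : Subgroup C) := by rw [T'.card_eq_multiplicity, T.card_eq_multiplicity]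
        _ = Nat.card ↥((T : Subgroup C).map C.subtype) := (Subgroup.card_subtype _ _).symm
        _ ≤ Nat.card R := Subgroup.card_le_of_le hTR
    have h2 := Subgroup.eq_of_le_of_card_ge (le_sup_right : R ≤ Subgroup.zpowers (s : G) ⊔ R) h1
    exact hsR (h2 ▸ Subgroup.mem_sup_left (Subgroup.mem_zpowers _))
  have heven : Even (Nat.card ↥(Subgroup.normalizer ((S : Subgroup G) : Set G))) := by
    rw [hRS] at hyR
    rw [even_iff_two_dvd, ← hy]
    exact Subgroup.orderOf_dvd_natCard _ hyR
  have hcard : Nat.card ↥(Subgroup.normalizer ((S : Subgroup G) : Set G)) =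
      Nat.card ↥(Subgroup.normalizer ((P : Subgroup G) : Set G)) := by
    refine Nat.eq_of_mul_eq_mul_right (Nat.pos_of_ne_zero (Subgroup.index_ne_zero_of_finite
      (H := Subgroup.normalizer ((S : Subgroup G) : Set G)))) ?_
    have e1 : (Subgroup.normalizer ((S : Subgroup G) : Set G)).index =
        (Subgroup.normalizer ((P : Subgroup G) : Set G)).index :=
      S.card_eq_index_normalizer.symm.trans P.card_eq_index_normalizer
    rw [Subgroup.card_mul_index, e1, Subgroup.card_mul_index]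
  exact hcard ▸ heven

end Cfsg.Agent.S3982
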