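import Cfsg.Statements.S3983
import Cfsg.Agent.GStructB.PElements

set_option autoImplicit false
open scoped Pointwise
open Cfsg

namespace Cfsg.Agent.S3983

/-- Let P be a Sylow p-subgroup of the finite group G that meets each conjugate g P g⁻¹ with g outside N_G(P) trivially, and let U be a subgroup of G of order divisible by p. Then a Sylow p-subgroup Q of U has the same property inside U: Q meets each conjugate u Q u⁻¹ with u ∈ U outside N_U(Q) trivially. -/
theorem result {G : Type*} [Group G] [Finite G] (p : ℕ) [Fact p.Prime] (P : Sylow p G) (hTI : ∀ g : G, g ∉ Subgroup.normalizer ((P : Subgroup G) : Set G) → (P : Subgroup G) ⊓ (MulAut.conj g • (P : Subgroup G)) = ⊥) (U : Subgroup G) (hU : p ∣ Nat.card ↥U) (Q : Sylow p ↥U) : ∀ u : ↥U, u ∉ Subgroup.normalizer ((Q : Subgroup ↥U) : Set ↥U) → (Q : Subgroup ↥U) ⊓ (MulAut.conj u • (Q : Subgroup ↥U)) = ⊥ := by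
  intro u hu
  rw [Subgroup.eq_bot_iff_forall]
  rintro z ⟨hz1, hz2⟩
  by_contra hz
  obtain ⟨R, hR⟩ := (Q.2.map U.subtype).exists_le_sylow
  obtain ⟨a, rfl⟩ := MulAction.exists_smul_eq G P R
  have hQeq : ((a • P : Sylow p G) : Subgroup G).comap U.subtype = (Q : Subgroup U) :=
    Q.3 ((a • P : Sylow p G).2.comap_subtype) (Subgroup.map_le_iff_le_comap.mp hR)
  have hmem : ∀ g w : G, w ∈ ((g • P : Sylow p G) : Subgroup G) ↔ g⁻¹ * w * g ∈ P := fun g w => by
    rw [Sylow.coe_subgroup_smul, GStructB.PElements.mem_conj_smul]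
    rfl
  apply hu
  set v := a⁻¹ * (u : G) * a with hv
  have hvN : v ∈ Subgroup.normalizer ((P : Subgroup G) : Set G) := by
    by_contra hvN
    have h1 : a⁻¹ * (z : G) * a ∈ (P : Subgroup G) := (hmem a z).mp (hR ⟨z, hz1, rfl⟩)
    have hz2' := GStructB.PElements.mem_conj_smul.mp hz2
    have h2 : a⁻¹ * ((u⁻¹ * z * u : U) : G) * a ∈ (P : Subgroup G) :=
      (hmem a _).mp (hR ⟨_, hz2', rfl⟩)
    have h3 : a⁻¹ * (z : G) * a ∈ MulAut.conj v • (P : Subgroup G) := by
      rw [GStructB.PElements.mem_conj_smul]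
      convert h2 using 1
      simp only [hv, Subgroup.coe_mul, Subgroup.coe_inv]
      group
    have h4 : a⁻¹ * (z : G) * a ∈ (P : Subgroup G) ⊓ MulAut.conj v • (P : Subgroup G) := ⟨h1, h3⟩
    rw [hTI v hvN, Subgroup.mem_bot] at h4
    apply hz
    apply Subtype.ext
    calc (z : G) = a * (a⁻¹ * (z : G) * a) * a⁻¹ := by group
      _ = 1 := by rw [h4]; group
  rw [Subgroup.mem_normalizer_iff]
  intro w
  rw [← hQeq, Subgroup.mem_comap, Subgroup.mem_comap, hmem, hmem]
  refine (Subgroup.mem_normalizer_iff.mp hvN (a⁻¹ * U.subtype w * a)).trans ?_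
  simp only [hv, Subgroup.coe_subtype, Subgroup.coe_mul, Subgroup.coe_inv]
  group
  rfl

end Cfsg.Agent.S3983
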