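import Cfsg.Statements.S3984
import Cfsg.Agent.GStructB.PElements

set_option autoImplicit false
open scoped Pointwise
open Cfsg

namespace Cfsg.Agent.S3984

/-- Let P be a Sylow p-subgroup of the finite group G that meets each conjugate g P g⁻¹ with g outside N_G(P) trivially, and let N be a normal subgroup of G of order prime to p. Then every Sylow p-subgroup Q of G ⧸ N meets each conjugate x Q x⁻¹ with x outside its normalizer trivially. -/
theorem result {G : Type*} [Group G] [Finite G] (p : ℕ) [Fact p.Prime] (P : Sylow p G) (hTI : ∀ g : G, g ∉ Subgroup.normalizer ((P : Subgroup G) : Set G) → (P : Subgroup G) ⊓ (MulAut.conj g • (P : Subgroup G)) = ⊥) (N : Subgroup G) [N.Normal] (hN : (Nat.card ↥N).Coprime p) (Q : Sylow p (G ⧸ N)) : ∀ x : G ⧸ N, x ∉ Subgroup.normalizer ((Q : Subgroup (G ⧸ N)) : Set (G ⧸ N)) → (Q : Subgroup (G ⧸ N)) ⊓ (MulAut.conj x • (Q : Subgroup (G ⧸ N))) = ⊥ := by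
  intro x hx
  rw [Subgroup.eq_bot_iff_forall]
  rintro z ⟨hz1, hz2⟩
  by_contra hz
  have hsurj := QuotientGroup.mk'_surjective N
  obtain ⟨P₁, rfl⟩ := Sylow.mapSurjective_surjective hsurj p Q
  obtain ⟨x, rfl⟩ := hsurj x
  obtain ⟨w, rfl⟩ := hsurj z
  have hp := (Fact.out : p.Prime)
  -- replace the lift by a p-element
  obtain ⟨b, s, hb, hs, hsp⟩ := GStructB.PElements.exists_split p w
  obtain ⟨e, he⟩ := GStructB.PElements.exists_orderOf_eq
    (P := ((P₁.mapSurjective hsurj : Sylow p _) : Subgroup (G ⧸ N)))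
    (P₁.mapSurjective hsurj).2 hz1
  set w' := w ^ s with hw'
  have hw'1 : QuotientGroup.mk' N w' ≠ 1 := by
    rw [hw', map_pow, Ne, ← orderOf_dvd_iff_pow_eq_one, he]
    intro hd
    have : e = 0 := by
      by_contra h0
      exact hs ((dvd_pow_self p h0).trans hd)
    rw [this, pow_zero, orderOf_eq_one_iff] at he
    exact hz he
  -- p-elements in the preimage of `P₁` image lie in an `N`-conjugate of `P₁`
  have key : ∀ (R : Sylow p G) (t : G), (∃ k, orderOf t = p ^ k) →
      QuotientGroup.mk' N t ∈ (R : Subgroup G).map (QuotientGroup.mk' N) →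
      ∃ n ∈ N, t ∈ (n • R : Sylow p G) := by
    intro R t ⟨k, hk⟩ ht
    set M := (R : Subgroup G) ⊔ N
    have htM : t ∈ M := by
      obtain ⟨r, hr, hrt⟩ := ht
      rw [QuotientGroup.mk'_eq_mk'] at hrt
      obtain ⟨n, hn, rfl⟩ := hrt
      exact mul_mem (Subgroup.mem_sup_left hr) (Subgroup.mem_sup_right hn)
    have hpt : IsPGroup p (Subgroup.zpowers (⟨t, htM⟩ : M)) :=
      GStructB.PElements.isPGroup_zpowers (k := k) (by rw [Subgroup.orderOf_mk, hk])
    obtain ⟨S, hS⟩ := hpt.exists_le_sylow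
    obtain ⟨m, rfl⟩ := MulAction.exists_smul_eq M (R.subtype le_sup_left) S
    have hm : (t : G) ∈ ((m : G) • R : Sylow p G) := by
      have := hS (Subgroup.mem_zpowers _)
      rw [Sylow.coe_subgroup_smul, GStructB.PElements.mem_conj_smul, Sylow.coe_subtype,
        Subgroup.mem_subgroupOf] at this
      rw [← SetLike.mem_coe, ← Sylow.coe_coe, Sylow.coe_subgroup_smul, SetLike.mem_coe,
        GStructB.PElements.mem_conj_smul]
      exact this
    obtain ⟨n, hn, r, hr, hnr⟩ := Subgroup.mem_sup_of_normal_left.mp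
      (show (m : G) ∈ N ⊔ (R : Subgroup G) from sup_comm (R : Subgroup G) N ▸ m.2)
    refine ⟨n, hn, ?_⟩
    have hfix : r • R = R := Sylow.smul_eq_iff_mem_normalizer.mpr (Subgroup.le_normalizer hr)
    rw [← hnr, mul_smul, hfix] at hm
    exact hm
  obtain ⟨n₁, hn₁, hw₁⟩ := key P₁ w' ⟨b, hsp⟩ (by
    rw [hw', map_pow]; exact pow_mem hz1 _)
  obtain ⟨n₂, hn₂, hw₂⟩ := key (x • P₁) w' ⟨b, hsp⟩ (by
    rw [hw', map_pow]
    refine pow_mem ?_ _
    have h3 := GStructB.PElements.mem_conj_smul.mp hz2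
    rw [Sylow.coe_mapSurjective] at h3
    obtain ⟨r, hr, hrw⟩ := h3
    refine ⟨x * r * x⁻¹, ?_, by rw [map_mul, map_mul, map_inv, hrw]; group⟩
    rw [SetLike.mem_coe, Sylow.coe_subgroup_smul, GStructB.PElements.mem_conj_smul]
    simp only [mul_assoc, inv_mul_cancel_left, inv_mul_cancel, mul_one]
    exact hr)
  have huniq : ∀ (R S : Sylow p G) (t : G), t ≠ 1 → t ∈ R → t ∈ S → R = S := by
    intro R S t ht hR hS
    obtain ⟨a, rfl⟩ := MulAction.exists_smul_eq G P R
    obtain ⟨c, rfl⟩ := MulAction.exists_smul_eq G P S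
    rw [← SetLike.mem_coe, ← Sylow.coe_coe, Sylow.coe_subgroup_smul, SetLike.mem_coe,
      GStructB.PElements.mem_conj_smul] at hR hS
    have hN' : a⁻¹ * c ∈ Subgroup.normalizer ((P : Subgroup G) : Set G) := by
      by_contra hN'
      have h4 : a⁻¹ * t * a ∈ (P : Subgroup G) ⊓ MulAut.conj (a⁻¹ * c) • (P : Subgroup G) := by
        refine ⟨hR, GStructB.PElements.mem_conj_smul.mpr ?_⟩
        convert hS using 1
        group
      rw [hTI _ hN', Subgroup.mem_bot] at h4
      apply ht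
      calc t = a * (a⁻¹ * t * a) * a⁻¹ := by group
        _ = 1 := by rw [h4]; group
    have h5 := Sylow.smul_eq_iff_mem_normalizer.mpr hN'
    rw [mul_smul, inv_smul_eq_iff] at h5
    exact h5.symm
  have hw1 : w' ≠ 1 := fun h => hw'1 (by rw [h, map_one])
  have heq := huniq _ _ w' hw1 hw₁ hw₂
  apply hx
  have hfix : QuotientGroup.mk' N x • P₁.mapSurjective hsurj = P₁.mapSurjective hsurj := by
    rw [← mul_smul, eq_comm, ← inv_smul_eq_iff, ← mul_smul] at heq
    have h6 : n₁⁻¹ * (n₂ * x) ∈ Subgroup.normalizer ((P₁ : Subgroup G) : Set G) :=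
      Sylow.smul_eq_iff_mem_normalizer.mp heq
    rw [Sylow.smul_eq_iff_mem_normalizer]
    have h7 := Subgroup.le_normalizer_map (QuotientGroup.mk' N) ⟨_, h6, rfl⟩
    rwa [map_mul, map_inv, map_mul,
      show QuotientGroup.mk' N n₁ = 1 from (QuotientGroup.eq_one_iff _).mpr hn₁,
      show QuotientGroup.mk' N n₂ = 1 from (QuotientGroup.eq_one_iff _).mpr hn₂,
      inv_one, one_mul, one_mul] at h7
  exact Sylow.smul_eq_iff_mem_normalizer.mp hfix

end Cfsg.Agent.S3984
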