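import Cfsg.Statements.S3985
import Cfsg.Agent.GStructB.PElements

set_option autoImplicit false
open scoped Pointwise
open Cfsg

namespace Cfsg.Agent.S3985
theorem mul_comm' {H : Type*} [Group H] [IsMulCommutative H] (a b : H) : a * b = b * a :=
  IsMulCommutative.is_comm.comm a b


/-- Let P be a cyclic Sylow p-subgroup of the finite group G. Then P meets each conjugate g P g⁻¹ with g outside N_G(P) trivially if and only if P is weakly self-centralizing: C_G(x) = C_G(P) for every non-identity x ∈ P. -/
theorem result {G : Type*} [Group G] [Finite G] (p : ℕ) [Fact p.Prime] (P : Sylow p G) (hcyc : IsCyclic ↥(P : Subgroup G)) : (∀ g : G, g ∉ Subgroup.normalizer ((P : Subgroup G) : Set G) → (P : Subgroup G) ⊓ (MulAut.conj g • (P : Subgroup G)) = ⊥) ↔ ∀ x : G, x ∈ (P : Subgroup G) → x ≠ 1 → Subgroup.centralizer ({x} : Set G) = Subgroup.centralizer ((P : Subgroup G) : Set G) := by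
  have hp := (Fact.out : p.Prime)
  constructor
  · intro hTI x hx hx1
    refine le_antisymm (fun c hc => ?_)
      (Subgroup.centralizer_le (Set.singleton_subset_iff.mpr hx))
    have hc' := Subgroup.mem_centralizer_singleton_iff.mp hc
    have hcN : c ∈ Subgroup.normalizer ((P : Subgroup G) : Set G) := by
      by_contra hcN
      have : x ∈ (P : Subgroup G) ⊓ MulAut.conj c • (P : Subgroup G) :=
        ⟨hx, GStructB.PElements.mem_conj_smul.mpr (by
          rw [mul_assoc, ← hc', inv_mul_cancel_left]; exact hx)⟩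
      rw [hTI c hcN, Subgroup.mem_bot] at this
      exact hx1 this
    obtain ⟨g, hg⟩ := hcyc.exists_generator
    obtain ⟨n, hn⟩ := GStructB.PElements.exists_orderOf_eq P.2 g.2
    have hgen : ∀ w ∈ (P : Subgroup G), w ∈ Subgroup.zpowers (g : G) := fun w hw => by
      obtain ⟨j, hj⟩ := hg ⟨w, hw⟩
      exact ⟨j, congrArg Subtype.val hj⟩
    obtain ⟨k, hk⟩ : ∃ k : ℕ, (g : G) ^ k = c * g * c⁻¹ :=
      (isOfFinOrder_of_finite (g : G)).mem_powers_iff_mem_zpowers.mpr
        (hgen _ ((Subgroup.mem_normalizer_iff.mp hcN _).mp g.2))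
    obtain ⟨j, hj⟩ : ∃ j : ℕ, (g : G) ^ j = x :=
      (isOfFinOrder_of_finite (g : G)).mem_powers_iff_mem_zpowers.mpr (hgen x hx)
    -- the exponent is one modulo `p`
    have hk1 : k ≡ 1 [MOD p] := by
      have h1 : (g : G) ^ (k * j) = (g : G) ^ j := by
        rw [pow_mul, hk, conj_pow, hj, hc', mul_inv_cancel_right]
      rw [pow_eq_pow_iff_modEq, hn] at h1
      have hj0 : ¬ p ^ n ∣ j := fun hd => hx1 (by
        rw [← hj, ← orderOf_dvd_iff_pow_eq_one, hn]; exact hd)
      obtain ⟨i, t, ht, rfl⟩ := Nat.exists_eq_pow_mul_and_not_dvd (n := j)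
        (fun h => hj0 (by rw [h]; exact dvd_zero _)) p hp.ne_one
      have hin : i < n := by
        by_contra hle
        exact hj0 ((pow_dvd_pow p (not_lt.mp hle)).trans (dvd_mul_right _ _))
      have h2 : k * (p ^ i * t) ≡ 1 * (p ^ i * t) [MOD p ^ (i + 1)] :=
        (by rw [one_mul]; exact h1.of_dvd (pow_dvd_pow p hin))
      have h3 : k * t * p ^ i ≡ 1 * t * p ^ i [MOD p * p ^ i] := by
        rw [← pow_succ']
        convert h2 using 1 <;> ring
      exact Nat.ModEq.cancel_right_of_coprime (hp.coprime_iff_not_dvd.mpr ht)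
        (Nat.ModEq.mul_right_cancel' (pow_ne_zero _ hp.ne_zero) h3)
    obtain ⟨m, hm⟩ := GStructB.PElements.exists_pow_commute (a := n) (dvd_of_eq hn) hk.symm hk1
    have hcen : ∀ d : G, d * g = g * d → d ∈ Subgroup.centralizer ((P : Subgroup G) : Set G) := by
      intro d hd
      rw [Subgroup.mem_centralizer_iff]
      intro w hw
      obtain ⟨i, rfl⟩ := hgen w hw
      exact ((show Commute (g : G) d from hd.symm).zpow_left i).eq
    obtain ⟨a, s, ha, hs, hsp⟩ := GStructB.PElements.exists_split p c
    have hsP : c ^ s ∈ (P : Subgroup G) := by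
      have h4 : IsPGroup p (Subgroup.zpowers (c ^ s)) := GStructB.PElements.isPGroup_zpowers hsp
      have h5 := P.3 (h4.to_sup_of_normal_right' P.2 (by
        rw [Subgroup.zpowers_le]; exact pow_mem hcN _)) le_sup_right
      exact h5 ▸ Subgroup.mem_sup_left (Subgroup.mem_zpowers _)
    refine GStructB.PElements.mem_of_pow_mem_coprime
      ((hp.coprime_iff_not_dvd.mpr hs).pow_left m) (hcen _ hm) (hcen _ ?_)
    obtain ⟨i, hi⟩ := hgen _ hsP
    rw [← hi]
    exact ((Commute.refl (g : G)).zpow_left i).eq
  · intro h g hg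
    rw [Subgroup.eq_bot_iff_forall]
    rintro z ⟨hz1, hz2⟩
    by_contra hz
    apply hg
    have : IsMulCommutative (P : Subgroup G) := hcyc.isMulCommutative
    have hC := h z hz1 hz
    have h1 : ((g • P : Sylow p G) : Subgroup G) ≤ Subgroup.centralizer ((P : Subgroup G) : Set G) := by
      rw [← hC]
      intro w hw
      rw [Subgroup.mem_centralizer_singleton_iff]
      rw [Sylow.coe_subgroup_smul, GStructB.PElements.mem_conj_smul] at hw
      have hz' := GStructB.PElements.mem_conj_smul.mp hz2
      have := congrArg Subtype.val (mul_comm' (⟨_, hw⟩ : (P : Subgroup G)) ⟨_, hz'⟩)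
      simp only [Subgroup.coe_mul] at this
      calc w * z = g * ((g⁻¹ * w * g) * (g⁻¹ * z * g)) * g⁻¹ := by group
        _ = z * w := by rw [this]; group
    have h2 : IsPGroup p ↥(((g • P : Sylow p G) : Subgroup G) ⊔ (P : Subgroup G)) :=
      (g • P : Sylow p G).2.to_sup_of_normal_right' P.2
        (h1.trans (fun c hc => by
          rw [Subgroup.mem_normalizer_iff]
          intro w
          constructor
          · intro hw
            rwa [← Subgroup.mem_centralizer_iff.mp hc w hw, mul_inv_cancel_right]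
          · intro hw
            have h3 := Subgroup.mem_centralizer_iff.mp hc _ hw
            have : c * w * c⁻¹ = w := by
              calc c * w * c⁻¹ = c⁻¹ * ((c * w * c⁻¹) * c) * 1 := by
                    rw [h3]; group
                _ = _ := by group
            rwa [this] at hw))
    have h3 := P.3 h2 le_sup_right
    have h4 : ((g • P : Sylow p G) : Subgroup G) ≤ P := h3 ▸ le_sup_left
    exact Sylow.smul_eq_iff_mem_normalizer.mp (Sylow.ext ((g • P : Sylow p G).3 P.2 h4).symm)

end Cfsg.Agent.S3985
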