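import Cfsg.Statements.S3986
import Cfsg.Agent.GStructB.PElements
import Cfsg.Agent.Lib.Cores.Fitting

set_option autoImplicit false
open Cfsg

namespace Cfsg.Agent.S3986
open scoped commutatorElement

/-- Let p be a prime and G a finite group. Then some Sylow p-subgroup of G is a direct factor of G (it is normal and has a normal complement) if and only if every element of p-power order commutes with every element whose order is a power of a prime other than p. -/
theorem result {G : Type*} [Group G] [Finite G] (p : ℕ) [Fact p.Prime] : (∃ (P : Sylow p G) (K : Subgroup G), (P : Subgroup G).Normal ∧ K.Normal ∧ (P : Subgroup G) ⊓ K = ⊥ ∧ (P : Subgroup G) ⊔ K = ⊤) ↔ ∀ x y : G, (∃ a : ℕ, orderOf x = p ^ a) → (∃ q b : ℕ, q.Prime ∧ q ≠ p ∧ orderOf y = q ^ b) → x * y = y * x := by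
  have hp := (Fact.out : p.Prime)
  constructor
  · rintro ⟨P, K, hPn, hKn, hinf, hsup⟩ x y ⟨a, ha⟩ ⟨q, b, hq, hqp, hb⟩
    have hxP : x ∈ (P : Subgroup G) := by
      have h1 := P.3 ((GStructB.PElements.isPGroup_zpowers ha).to_sup_of_normal_right' P.2
        (Subgroup.zpowers_le.mpr (by rw [Subgroup.normalizer_eq_top]; exact Subgroup.mem_top x)))
        le_sup_right
      exact h1 ▸ Subgroup.mem_sup_left (Subgroup.mem_zpowers x)
    have hyK : y ∈ K := by
      obtain ⟨n, hn⟩ := P.2.exists_card_eq
      rw [← QuotientGroup.eq_one_iff, ← orderOf_eq_one_iff]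
      have hcompl : K.IsComplement' (P : Subgroup G) :=
        Subgroup.isComplement'_of_disjoint_and_mul_eq_univ (disjoint_iff.mpr (by rw [inf_comm]; exact hinf))
          (by rw [← Subgroup.normal_mul, sup_comm, hsup, Subgroup.coe_top])
      have h2 : orderOf (QuotientGroup.mk y : G ⧸ K) ∣ p ^ n := by
        rw [← hn, ← hcompl.symm.index_eq_card]
        exact orderOf_dvd_natCard _
      have h3 : orderOf (QuotientGroup.mk y : G ⧸ K) ∣ q ^ b :=
        hb ▸ orderOf_map_dvd (QuotientGroup.mk' K) y
      exact Nat.eq_one_of_dvd_coprimes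
        (((Nat.coprime_primes hp hq).mpr (fun h => hqp h.symm)).pow n b) h2 h3
    have h4 : ⁅x, y⁆ ∈ (P : Subgroup G) ⊓ K := by
      refine ⟨?_, ?_⟩
      · have := mul_mem hxP (hPn.conj_mem _ (inv_mem hxP) y)
        rw [commutatorElement_def]
        convert this using 1
        group
        rfl
      · have := mul_mem (hKn.conj_mem _ hyK x) (inv_mem hyK)
        rw [commutatorElement_def]
        exact this
    rw [hinf, Subgroup.mem_bot, commutatorElement_eq_one_iff_mul_comm] at h4
    exact h4
  · intro h
    classical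
    obtain ⟨P⟩ := (inferInstance : Nonempty (Sylow p G))
    set C := Subgroup.centralizer ((P : Subgroup G) : Set G) with hC
    have hqC : ∀ q : ℕ, q.Prime → q ≠ p → ∀ Q : Sylow q G, (Q : Subgroup G) ≤ C := by
      intro q hq hqp Q y hy
      have : Fact q.Prime := ⟨hq⟩
      obtain ⟨b, hb⟩ := GStructB.PElements.exists_orderOf_eq Q.2 hy
      rw [hC, Subgroup.mem_centralizer_iff]
      intro x hx
      exact h x y (GStructB.PElements.exists_orderOf_eq P.2 hx) ⟨q, b, hq, hqp, hb⟩
    have hPn : (P : Subgroup G).Normal := by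
      rw [← Subgroup.normalizer_eq_top_iff]
      refine Cfsg.Agent.Cores.eq_top_of_sylow_le fun q hq _ => ?_
      by_cases hqp : q = p
      · subst hqp; exact ⟨P, Subgroup.le_normalizer⟩
      · obtain ⟨Q⟩ := (inferInstance : Nonempty (Sylow q G))
        refine ⟨Q, (hqC q hq hqp Q).trans fun y hy => ?_⟩
        rw [Subgroup.mem_normalizer_iff]
        intro w
        constructor
        · intro hw
          rwa [← Subgroup.mem_centralizer_iff.mp hy w hw, mul_inv_cancel_right]
        · intro hw
          have h3 := Subgroup.mem_centralizer_iff.mp hy _ hw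
          have : y * w * y⁻¹ = w := by
            calc y * w * y⁻¹ = y⁻¹ * ((y * w * y⁻¹) * y) * 1 := by rw [h3]; group
              _ = _ := by group
          rwa [this] at hw
    obtain ⟨K, hK⟩ := Subgroup.exists_right_complement'_of_coprime P.card_coprime_index
    refine ⟨P, K, hPn, ?_, hK.disjoint.eq_bot, hK.sup_eq_top⟩
    have hcop : (Nat.card K).Coprime p := by
      rw [← hK.symm.index_eq_card]
      exact (hp.coprime_iff_not_dvd.mpr P.not_dvd_index).symm
    have hKC : K ≤ C := by
      rw [← Subgroup.subgroupOf_eq_top]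
      refine Cfsg.Agent.Cores.eq_top_of_sylow_le fun q hq hqK => ?_
      obtain ⟨Q⟩ := (inferInstance : Nonempty (Sylow q K))
      refine ⟨Q, fun y hy => Subgroup.mem_subgroupOf.mpr ?_⟩
      have : Fact q.Prime := ⟨hq⟩
      obtain ⟨Q', hQ'⟩ := (Q.2.map K.subtype).exists_le_sylow
      exact hqC q hq (fun hqp => hq.coprime_iff_not_dvd.mp (hqp.symm ▸ hcop.symm) hqK) Q'
        (hQ' ⟨y, hy, rfl⟩)
    rw [← Subgroup.normalizer_eq_top_iff, eq_top_iff, ← hK.sup_eq_top, sup_le_iff]
    refine ⟨fun x hx => ?_, Subgroup.le_normalizer⟩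
    rw [Subgroup.mem_normalizer_iff]
    intro k
    constructor
    · intro hk
      rwa [Subgroup.mem_centralizer_iff.mp (hKC hk) x hx, mul_inv_cancel_right]
    · intro hk
      have h3 := Subgroup.mem_centralizer_iff.mp (hKC hk) x hx
      have : x * k * x⁻¹ = k := by
        calc x * k * x⁻¹ = x⁻¹ * (x * (x * k * x⁻¹)) := by group
          _ = x⁻¹ * ((x * k * x⁻¹) * x) := by rw [h3]
          _ = k := by group
      rwa [this] at hk

end Cfsg.Agent.S3986
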