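import Cfsg.Statements.S3987
import Cfsg.Agent.GStructB.PElements
import Cfsg.Agent.S3986

set_option autoImplicit false
open Cfsg

namespace Cfsg.Agent.S3987

/-- Let p be a prime and G a finite group. Then some Sylow p-subgroup of G is a direct factor of G (normal with a normal complement) if and only if for every element x of p-power order and every element y whose order is a power of a prime other than p, the conjugacy class of x y has as many elements as the product of the sizes of the classes of x and of y. -/
theorem result {G : Type*} [Group G] [Finite G] (p : ℕ) [Fact p.Prime] : (∃ (P : Sylow p G) (K : Subgroup G), (P : Subgroup G).Normal ∧ K.Normal ∧ (P : Subgroup G) ⊓ K = ⊥ ∧ (P : Subgroup G) ⊔ K = ⊤) ↔ ∀ x y : G, (∃ a : ℕ, orderOf x = p ^ a) → (∃ q b : ℕ, q.Prime ∧ q ≠ p ∧ orderOf y = q ^ b) → (Subgroup.centralizer ({x * y} : Set G)).index = (Subgroup.centralizer ({x} : Set G)).index * (Subgroup.centralizer ({y} : Set G)).index := by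
  have hp := (Fact.out : p.Prime)
  constructor
  · intro hPK x y hx hy
    have hcomm := (S3986.result p).mp hPK x y hx hy
    obtain ⟨P, K, hPn, hKn, hinf, hsup⟩ := hPK
    obtain ⟨a, ha⟩ := hx
    obtain ⟨q, b, hq, hqp, hb⟩ := hy
    have hcop : (orderOf x).Coprime (orderOf y) := by
      rw [ha, hb]; exact ((Nat.coprime_primes hp hq).mpr (fun h => hqp h.symm)).pow a b
    -- the centraliser of the product is the intersection
    have hC : Subgroup.centralizer ({x * y} : Set G) =
        Subgroup.centralizer {x} ⊓ Subgroup.centralizer {y} := by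
      ext c
      simp only [Subgroup.mem_inf, Subgroup.mem_centralizer_singleton_iff]
      constructor
      · intro hc
        have hmem : ∀ z ∈ Subgroup.zpowers (x * y), c * z = z * c := by
          rintro _ ⟨i, rfl⟩
          exact ((show Commute c (x * y) from hc).zpow_right i).eq
        have hxy : x ∈ Subgroup.zpowers (x * y) ∧ y ∈ Subgroup.zpowers (x * y) := by
          have h1 : ∀ u v : G, Commute u v → (orderOf u).Coprime (orderOf v) →
              u ∈ Subgroup.zpowers (u * v) := by
            intro u v huv huv'
            obtain ⟨m, hm⟩ := exists_pow_eq_self_of_coprime (x := u) huv'.symm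
            have : (u * v) ^ (orderOf v * m) = u := by
              rw [huv.mul_pow, pow_mul v, pow_orderOf_eq_one, one_pow, mul_one, pow_mul, hm]
            exact ⟨((orderOf v * m : ℕ) : ℤ), (zpow_natCast (u * v) _).trans this⟩
          refine ⟨h1 x y hcomm hcop, ?_⟩
          rw [hcomm]
          exact h1 y x hcomm.symm hcop.symm
        exact ⟨hmem x hxy.1, hmem y hxy.2⟩
      · rintro ⟨h1, h2⟩
        exact ((show Commute c x from h1).mul_right h2).eq
    -- coprime indices
    have hxP : x ∈ (P : Subgroup G) := by
      have h1 := P.3 ((GStructB.PElements.isPGroup_zpowers ha).to_sup_of_normal_right' P.2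
        (Subgroup.zpowers_le.mpr (by rw [Subgroup.normalizer_eq_top]; exact Subgroup.mem_top x)))
        le_sup_right
      exact h1 ▸ Subgroup.mem_sup_left (Subgroup.mem_zpowers x)
    have hcompl : K.IsComplement' (P : Subgroup G) :=
      Subgroup.isComplement'_of_disjoint_and_mul_eq_univ (disjoint_iff.mpr (by rw [inf_comm]; exact hinf))
        (by rw [← Subgroup.normal_mul, sup_comm, hsup, Subgroup.coe_top])
    have hKx : K ≤ Subgroup.centralizer ({x} : Set G) := fun k hk => by
      rw [Subgroup.mem_centralizer_singleton_iff]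
      exact (Subgroup.commute_of_normal_of_disjoint _ _ hPn hKn (disjoint_iff.mpr hinf) x k hxP hk).symm.eq
    have hyK : y ∈ K := by
      obtain ⟨n, hn⟩ := P.2.exists_card_eq
      rw [← QuotientGroup.eq_one_iff, ← orderOf_eq_one_iff]
      have h2 : orderOf (QuotientGroup.mk y : G ⧸ K) ∣ p ^ n := by
        rw [← hn, ← hcompl.symm.index_eq_card]
        exact orderOf_dvd_natCard _
      have h3 : orderOf (QuotientGroup.mk y : G ⧸ K) ∣ q ^ b :=
        hb ▸ orderOf_map_dvd (QuotientGroup.mk' K) y
      exact Nat.eq_one_of_dvd_coprimes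
        (((Nat.coprime_primes hp hq).mpr (fun h => hqp h.symm)).pow n b) h2 h3
    have hPy : (P : Subgroup G) ≤ Subgroup.centralizer ({y} : Set G) := fun k hk => by
      rw [Subgroup.mem_centralizer_singleton_iff]
      exact (Subgroup.commute_of_normal_of_disjoint _ _ hPn hKn (disjoint_iff.mpr hinf) k y hk hyK).eq
    have hcop' : (Subgroup.centralizer ({x} : Set G)).index.Coprime
        (Subgroup.centralizer ({y} : Set G)).index := by
      refine Nat.Coprime.of_dvd (Subgroup.index_dvd_of_le hKx) (Subgroup.index_dvd_of_le hPy) ?_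
      rw [hcompl.symm.index_eq_card]
      exact P.card_coprime_index
    rw [hC]
    refine Nat.dvd_antisymm ?_ (hcop'.mul_dvd_of_dvd_of_dvd (Subgroup.index_dvd_of_le inf_le_left)
      (Subgroup.index_dvd_of_le inf_le_right))
    have h5 := Subgroup.index_inf_le (H := Subgroup.centralizer ({x} : Set G))
      (K := Subgroup.centralizer ({y} : Set G))
    have h6 := hcop'.mul_dvd_of_dvd_of_dvd
      (Subgroup.index_dvd_of_le (inf_le_left (b := Subgroup.centralizer ({y} : Set G))))
      (Subgroup.index_dvd_of_le (inf_le_right (a := Subgroup.centralizer ({x} : Set G))))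
    exact dvd_of_eq (le_antisymm h5 (Nat.le_of_dvd (Nat.pos_of_ne_zero Subgroup.index_ne_zero_of_finite) h6))
  · intro h
    refine (S3986.result p).mpr fun x y hx hy => ?_
    classical
    have hidx := h x y hx hy
    have hcard : ∀ z : G, (Subgroup.centralizer ({z} : Set G)).index =
        Nat.card {w : G // IsConj z w} := by
      intro z
      have h1 : (Subgroup.centralizer ({z} : Set G)).index =
          (MulAction.stabilizer (ConjAct G) z).index := by
        rw [Subgroup.centralizer_eq_comap_stabilizer]
        exact Subgroup.index_comap_of_surjective _ (MulEquiv.surjective _)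
      rw [h1, Subgroup.index, ← Nat.card_congr (MulAction.orbitEquivQuotientStabilizer (ConjAct G) z)]
      exact Nat.card_congr (Equiv.subtypeEquivRight fun w => by
        rw [ConjAct.mem_orbit_conjAct, isConj_comm])
    rw [hcard, hcard, hcard, ← Nat.card_prod] at hidx
    let f : {w : G // IsConj x w} × {w : G // IsConj y w} → G := fun z => z.1.1 * z.2.1
    have hrange : {w : G | IsConj (x * y) w} ⊆ Set.range f := by
      intro w hw
      obtain ⟨g, rfl⟩ := isConj_iff.mp hw
      refine ⟨(⟨g * x * g⁻¹, isConj_iff.mpr ⟨g, rfl⟩⟩, ⟨g * y * g⁻¹, isConj_iff.mpr ⟨g, rfl⟩⟩), ?_⟩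
      simp [f, mul_assoc]
    have h1 : Nat.card {w : G // IsConj (x * y) w} ≤ Nat.card (Set.range f) :=
      Nat.card_mono (Set.toFinite _) hrange
    have hinj : Function.Injective f := by
      have h2 : Function.Surjective (Set.rangeFactorization f) := Set.rangeFactorization_surjective
      have h3 := (h2.bijective_of_nat_card_le (hidx ▸ h1)).1
      intro u v huv
      exact h3 (Subtype.ext huv)
    have h4 := hinj (a₁ := (⟨x, IsConj.refl x⟩, ⟨x⁻¹ * y * x, isConj_iff.mpr ⟨x⁻¹, by group⟩⟩))
      (a₂ := (⟨y * x * y⁻¹, isConj_iff.mpr ⟨y, rfl⟩⟩, ⟨y, IsConj.refl y⟩)) (by simp [f, mul_assoc])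
    have h5 : x = y * x * y⁻¹ := congrArg (fun z => (z.1 : G)) h4
    calc x * y = y * x * y⁻¹ * y := by rw [← h5]
      _ = y * x := by group

end Cfsg.Agent.S3987
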