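import Cfsg.Statements.S3994
import Cfsg.Agent.GStructB.FrobeniusCount

set_option autoImplicit false
open Cfsg

namespace Cfsg.Agent.S3994

/-- Let G be a finite group and n a positive integer. The number of elements of G whose order is divisible by n is either 0 or divisible by the largest divisor of the order of G that is coprime to n. -/
theorem result {G : Type*} [Group G] [Finite G] (n : ℕ) (hn : 0 < n) :
    Nat.card {g : G // n ∣ orderOf g} = 0 ∨
      (Nat.card G / Nat.gcd (Nat.card G) (n ^ Nat.card G)) ∣ Nat.card {g : G // n ∣ orderOf g} := by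
  classical
  set N := Nat.card G with hN
  set m := Nat.gcd N (n ^ N) with hm
  have hmN : m ∣ N := Nat.gcd_dvd_left _ _
  obtain ⟨s, hs⟩ := hmN
  have hm0 : 0 < m := Nat.pos_of_ne_zero fun h => by
    rw [h, zero_mul] at hs; exact Nat.card_pos.ne' hs
  rw [show N / m = s by rw [hs, Nat.mul_div_cancel_left _ hm0]]
  right
  have hs0 : s ≠ 0 := fun h => by rw [h, mul_zero] at hs; exact Nat.card_pos.ne' hs
  have hcop : ∀ q : ℕ, q.Prime → q ∣ n → ¬ q ∣ s := by
    intro q hq hqn hqs
    set v := N.factorization q with hv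
    have hvN : q ^ v ∣ N := Nat.ordProj_dvd N q
    have hvle : v ≤ N := (Nat.lt_pow_self hq.one_lt).le.trans
      (Nat.le_of_dvd Nat.card_pos hvN)
    have hqm : q ^ v ∣ m := Nat.dvd_gcd hvN
      ((pow_dvd_pow q hvle).trans (pow_dvd_pow_of_dvd hqn N))
    have : q ^ (v + 1) ∣ N := by rw [hs, pow_succ]; exact mul_dvd_mul hqm hqs
    exact Nat.pow_succ_factorization_not_dvd (Nat.card_pos.ne') hq this
  have hns : n.Coprime s := Nat.coprime_of_dvd fun q hq h1 h2 => hcop q hq h1 h2
  have hms : m.Coprime s :=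
    Nat.Coprime.coprime_dvd_left (Nat.gcd_dvd_right _ _) (hns.pow_left _)
  let U : Set G := {u | u ^ m = 1 ∧ n ∣ orderOf u}
  have hbij : Nat.card {g : G // n ∣ orderOf g} =
      Nat.card {q : G × G // q.1 ∈ U ∧ Commute q.1 q.2 ∧ q.2 ^ s = 1} := by
    refine (Nat.card_congr (Equiv.ofBijective (fun q => ⟨q.1.1 * q.1.2, ?_⟩) ⟨?_, ?_⟩)).symm
    rotate_right
    · obtain ⟨⟨u, y⟩, ⟨hu, hnu⟩, hc, hy⟩ := q
      rw [hc.orderOf_mul_eq_mul_orderOf_of_coprime (Nat.Coprime.coprime_dvd_right
        (orderOf_dvd_of_pow_eq_one hy) (hms.coprime_dvd_left (orderOf_dvd_of_pow_eq_one hu)))]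
      exact hnu.mul_right _
    · rintro ⟨⟨u, y⟩, ⟨hu, hnu⟩, hc, hy⟩ ⟨⟨v, z⟩, ⟨hv, hnv⟩, hd, hz⟩ h
      simp only [Subtype.mk.injEq] at h
      have e1 : u ^ s = v ^ s := by
        have := congrArg (· ^ s) h
        simp only [hc.mul_pow, hd.mul_pow, hy, hz, mul_one] at this
        exact this
      have huv : u = v := by
        have hgu : ∀ w : G, w ^ m = 1 → (w ^ s) ^ Nat.gcdB m s = w := by
          intro w hw
          have hb := Nat.gcd_eq_gcd_ab m s
          rw [hms.gcd_eq_one, Nat.cast_one] at hb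
          calc (w ^ s) ^ Nat.gcdB m s
              = (w ^ m) ^ Nat.gcdA m s * (w ^ s) ^ Nat.gcdB m s := by rw [hw, one_zpow, one_mul]
            _ = w := by
                rw [← zpow_natCast, ← zpow_natCast, ← zpow_mul, ← zpow_mul, ← zpow_add, ← hb,
                  zpow_one]
        rw [← hgu u hu, e1, hgu v hv]
      subst huv
      simp only [mul_right_inj] at h
      subst h
      rfl
    · rintro ⟨g, hg⟩
      have hb := Nat.gcd_eq_gcd_ab m s
      rw [hms.gcd_eq_one, Nat.cast_one] at hb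
      have hgN : g ^ (m * s) = 1 := by rw [← hs]; exact pow_card_eq_one'
      set u := (g ^ s) ^ Nat.gcdB m s with hu
      set y := (g ^ m) ^ Nat.gcdA m s with hy
      have e1 : g = u * y := by
        rw [hu, hy, ← zpow_natCast, ← zpow_natCast, ← zpow_mul, ← zpow_mul, ← zpow_add, add_comm,
          ← hb, zpow_one]
      have hum : u ^ m = 1 := by
        rw [hu, ← zpow_natCast, ← zpow_mul, mul_comm, zpow_mul, zpow_natCast, ← pow_mul, mul_comm,
          hgN, one_zpow]
      have hys : y ^ s = 1 := by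
        rw [hy, ← zpow_natCast, ← zpow_mul, mul_comm, zpow_mul, zpow_natCast, ← pow_mul,
          hgN, one_zpow]
      have hc : Commute u y := (((Commute.refl g).pow_pow s m).zpow_zpow _ _)
      refine ⟨⟨(u, y), ⟨hum, ?_⟩, hc, hys⟩, Subtype.ext e1.symm⟩
      have : n ∣ orderOf u * orderOf y := by
        refine hg.trans ?_
        conv_lhs => rw [e1]
        exact hc.orderOf_mul_dvd_mul_orderOf
      exact (hns.coprime_dvd_right (orderOf_dvd_of_pow_eq_one hys)).dvd_of_dvd_mul_right this
  rw [hbij]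
  refine GStructB.FrobeniusCount.dvd_card_pairs U (fun u hu g => ?_) s fun u hu => ?_
  · have h1 : orderOf (g * u * g⁻¹) = orderOf u :=
      orderOf_injective (MulAut.conj g).toMonoidHom (MulAut.conj g).injective u
    exact ⟨by rw [conj_pow, hu.1]; group, h1 ▸ hu.2⟩
  · refine GStructB.FrobeniusCount.dvd_index_mul (n := 1) ?_ (one_mul _).symm
      (f := GStructB.FrobeniusCount.numPowOne _ s) ?_
    · rw [mul_one, ← hN, hs]; exact dvd_mul_left _ _
    · rw [← GStructB.FrobeniusCount.numPowOne_gcd]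
      exact GStructB.FrobeniusCount.dvd_numPowOne (Nat.gcd_dvd_left _ _)

end Cfsg.Agent.S3994
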