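import Cfsg.Statements.S3995
import Mathlib
import Cfsg.Agent.GStructB.FrobeniusCount
import Cfsg.Agent.Lib.PGroups.UniqueSubgroup

set_option autoImplicit false
open Cfsg
set_option maxHeartbeats 4000000

namespace Cfsg.Agent.S3995
/-- A type synonym for `Fin m` without algebraic structure. -/
def Carrier (m : ℕ) : Type := Fin m

def quaternionCast {a b : ℕ} (h : a = b) : QuaternionGroup a ≃* QuaternionGroup b := h ▸ MulEquiv.refl _

/-- Let G be a finite group such that the numbers of elements of each order that occurs in G (the numbers #{g : o(g) = m}, m ranging over the element orders of G) take exactly two values, 1 and some n ≠ 1. Then either G is a p-group of exponent p and order at least 3 for some prime p, or G is the quaternion group of order 8, or G is cyclic of order 4, or G ≅ Z₂ × P for a p-group P of exponent p with p an odd prime. -/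
theorem result {G : Type*} [Group G] [Finite G] (n : ℕ) (hn : n ≠ 1) (h : ((fun m : ℕ => Nat.card {g : G // orderOf g = m}) '' Set.range (orderOf : G → ℕ)) = {1, n}) :
    (∃ p : ℕ, p.Prime ∧ IsPGroup p G ∧ 3 ≤ Nat.card G ∧ Monoid.exponent G = p) ∨
      Nonempty (G ≃* QuaternionGroup 2) ∨ (IsCyclic G ∧ Nat.card G = 4) ∨
      (∃ (p : ℕ) (P : Type) (_ : Group P) (_ : Finite P), p.Prime ∧ p ≠ 2 ∧ IsPGroup p P ∧ Monoid.exponent P = p ∧
        Nonempty (G ≃* Multiplicative (ZMod 2) × P)) := by
  classical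
  have := Fintype.ofFinite G
  set cnt : ℕ → ℕ := fun m => Nat.card {g : G // orderOf g = m} with hcnt
  have hval : ∀ g : G, cnt (orderOf g) = 1 ∨ cnt (orderOf g) = n := fun g => by
    have : cnt (orderOf g) ∈ ({1, n} : Set ℕ) := h ▸ ⟨_, ⟨g, rfl⟩, rfl⟩
    exact this
  have hbig : ∀ g : G, 3 ≤ orderOf g → cnt (orderOf g) = n := fun g hg => by
    rcases hval g with h1 | h1
    · have h2 := GStructB.FrobeniusCount.totient_dvd_card_orderOf (G := G) (orderOf g)
      have h3 : Nat.totient (orderOf g) = 1 := Nat.dvd_one.mp (h2.trans (dvd_of_eq h1))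
      rcases Nat.totient_eq_one_iff.mp h3 with h4 | h4 <;> omega
    · exact h1
  have hexact : ∀ (g : G) (d : ℕ), d ∣ orderOf g → d ≠ 0 → ∃ y : G, orderOf y = d := fun g d hd hd0 => by
    refine ⟨g ^ (orderOf g / d), ?_⟩
    exact orderOf_pow_orderOf_div (orderOf_pos g).ne' hd
  -- counting the solutions of `x ^ k = 1`
  have hsum : ∀ (k : ℕ) (D : Finset ℕ), k ∣ Nat.card G → (∀ g : G, orderOf g ∣ k → orderOf g ∈ D) →
      (∀ d ∈ D, d ∣ k) → k ∣ ∑ d ∈ D, cnt d := by
    intro k D hk h1 h2
    refine (GStructB.FrobeniusCount.dvd_numPowOne hk).trans (dvd_of_eq ?_)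
    rw [GStructB.FrobeniusCount.numPowOne, Nat.card_eq_fintype_card, Fintype.card_subtype,
      Finset.card_eq_sum_card_fiberwise (f := fun g : G => orderOf g) (t := D)
        (fun g hg => h1 g (orderOf_dvd_of_pow_eq_one (Finset.mem_filter.mp (Finset.mem_coe.mp hg)).2))]
    refine Finset.sum_congr rfl fun d hd => ?_
    simp only [hcnt]
    rw [Nat.card_eq_fintype_card, Fintype.card_subtype]
    congr 1
    ext g
    simp only [Finset.mem_filter, Finset.mem_univ, true_and]
    exact ⟨fun hh => hh.2, fun hh => ⟨orderOf_dvd_iff_pow_eq_one.mp (hh ▸ h2 d hd), hh⟩⟩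
  have hcnt1 : cnt 1 = 1 := by
    simp only [hcnt]
    rw [Nat.card_congr (Equiv.subtypeEquivRight fun g : G => orderOf_eq_one_iff), Nat.card_unique]
  by_cases hsmall : ∀ g : G, orderOf g ≤ 2
  · -- exponent two
    left
    have hsq : ∀ g : G, g ^ 2 = 1 := fun g => orderOf_dvd_iff_pow_eq_one.mp (by
      have := hsmall g
      have := orderOf_pos g
      rcases (show orderOf g = 1 ∨ orderOf g = 2 by omega) with h' | h' <;> rw [h'] <;> norm_num)
    obtain ⟨g, hgn⟩ : ∃ g : G, cnt (orderOf g) = n := by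
      have : n ∈ ({1, n} : Set ℕ) := Or.inr rfl
      rw [← h] at this
      obtain ⟨m, ⟨g, rfl⟩, hm⟩ := this
      exact ⟨g, hm⟩
    have hg2 : orderOf g = 2 := by
      have := hsmall g
      have := orderOf_pos g
      rcases (show orderOf g = 1 ∨ orderOf g = 2 by omega) with h' | h'
      · rw [h', hcnt1] at hgn; exact absurd hgn.symm hn
      · exact h'
    haveI : Fact (Nat.Prime 2) := ⟨Nat.prime_two⟩
    refine ⟨2, Nat.prime_two, fun x => ⟨1, by rw [pow_one]; exact hsq x⟩, ?_, ?_⟩
    · have h3 : n + 1 ≤ Nat.card G := by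
        rw [← hgn, hg2, ← Finite.card_option]
        refine Nat.card_le_card_of_injective
          (fun o : Option {g : G // orderOf g = 2} => o.elim (1 : G) Subtype.val) ?_
        rintro (- | a) (- | b) hab <;> simp only [Option.elim] at hab
        · rfl
        · exact absurd b.2 (by rw [← hab]; simp)
        · exact absurd a.2 (by rw [hab]; simp)
        · exact congrArg some (Subtype.ext hab)
      have : 0 < n := by
        rw [← hgn]
        have : Nonempty {x : G // orderOf x = orderOf g} := ⟨⟨g, rfl⟩⟩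
        exact Nat.card_pos
      omega
    · refine Nat.dvd_antisymm (Monoid.exponent_dvd_of_forall_pow_eq_one hsq) ?_
      exact hg2 ▸ Monoid.order_dvd_exponent g
  simp only [not_forall, not_le] at hsmall
  obtain ⟨g₀, hg₀⟩ := hsmall
  have heven : Even n := by
    rw [← hbig g₀ hg₀]
    exact even_iff_two_dvd.mpr ((Nat.totient_even hg₀).two_dvd.trans
      (GStructB.FrobeniusCount.totient_dvd_card_orderOf _))
  -- at most one involution
  have hinv : ∀ s t : G, orderOf s = 2 → orderOf t = 2 → s = t := by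
    intro s t hs ht
    have h2 : 2 ∣ Nat.card G := hs ▸ orderOf_dvd_natCard s
    have h3 := hsum 2 {1, 2} h2 (fun g hg => by
      rcases (Nat.dvd_prime Nat.prime_two).mp hg with h' | h' <;> rw [h'] <;> decide) (by decide)
    rw [Finset.sum_pair (by decide), hcnt1] at h3
    have hodd : ¬ Even (cnt 2) := fun he => by
      obtain ⟨c, hc⟩ := he
      omega
    rcases hval s with h' | h' <;> rw [hs] at h'
    · have := (Nat.card_eq_one_iff_unique.mp h').1
      exact congrArg Subtype.val (Subsingleton.elim (⟨s, hs⟩ : {g : G // orderOf g = 2}) ⟨t, ht⟩)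
    · exact absurd (h' ▸ heven) hodd
  have hcnt2 : ∀ t : G, orderOf t = 2 → cnt 2 = 1 := fun t ht => Nat.card_eq_one_iff_unique.mpr
    ⟨⟨fun a b => Subtype.ext (hinv a b a.2 b.2)⟩, ⟨⟨t, ht⟩⟩⟩
  have hmod : ∀ (g : G) (p : ℕ), p.Prime → p ≠ 2 → orderOf g = p → p ∣ 1 + n := by
    intro g p hp hp2 hg
    have h3 := hsum p {1, p} (hg ▸ orderOf_dvd_natCard g) (fun x hx => by
      rcases (Nat.dvd_prime hp).mp hx with h' | h' <;> simp [h']) (fun d hd => by
        rcases Finset.mem_insert.mp hd with h' | h'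
        · simp [h']
        · simp [Finset.mem_singleton.mp h'])
    rwa [Finset.sum_pair (Ne.symm hp.ne_one), hcnt1, ← hg, hbig g (by
      have := hp.two_le; omega), hg] at h3
  have hnosq : ∀ (g : G) (p : ℕ), p.Prime → p ≠ 2 → ¬ p ^ 2 ∣ orderOf g := by
    intro g p hp hp2 hd
    obtain ⟨y, hy⟩ := hexact g p ((dvd_pow_self p two_ne_zero).trans hd) hp.ne_zero
    obtain ⟨z, hz⟩ := hexact g (p ^ 2) hd (pow_ne_zero _ hp.ne_zero)
    have h1 : p ∣ n := by
      rw [← hbig z (by rw [hz]; nlinarith [hp.two_le]), hz]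
      refine dvd_trans ?_ (GStructB.FrobeniusCount.totient_dvd_card_orderOf _)
      rw [Nat.totient_prime_pow hp two_pos]
      exact dvd_mul_of_dvd_left (by simp) _
    exact hp.ne_one (Nat.dvd_one.mp ((Nat.dvd_add_left h1).mp (hmod y p hp hp2 hy)))
  have hone : ∀ p q : ℕ, p.Prime → q.Prime → p ≠ 2 → q ≠ 2 → p ∣ Nat.card G → q ∣ Nat.card G → p = q := by
    intro p q hp hq hp2 hq2 hpd hqd
    by_contra hne
    haveI := Fact.mk hp
    haveI := Fact.mk hq
    obtain ⟨a, ha⟩ := exists_prime_orderOf_dvd_card' p hpd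
    obtain ⟨b, hb⟩ := exists_prime_orderOf_dvd_card' q hqd
    have hp3 : 3 ≤ p := by have := hp.two_le; omega
    have hq3 : 3 ≤ q := by have := hq.two_le; omega
    have hcop := (Nat.coprime_primes hp hq).mpr hne
    have hd := hcop.mul_dvd_of_dvd_of_dvd hpd hqd
    have hpm := hmod a p hp hp2 ha
    have hcp : cnt p = n := ha ▸ hbig a (ha ▸ hp3)
    have hcq : cnt q = n := hb ▸ hbig b (hb ▸ hq3)
    have h3 := hsum (p * q) {1, p, q, p * q} hd (fun x hx => by
      obtain ⟨c, e, hc, he, hce⟩ := Nat.dvd_mul.mp hx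
      rcases (Nat.dvd_prime hp).mp hc with rfl | rfl <;> rcases (Nat.dvd_prime hq).mp he with rfl | rfl <;>
        simp [← hce]) (fun d hd => by
      simp only [Finset.mem_insert, Finset.mem_singleton] at hd
      rcases hd with rfl | rfl | rfl | rfl
      · exact one_dvd _
      · exact dvd_mul_right _ _
      · exact dvd_mul_left _ _
      · exact dvd_refl _)
    have hpq1 : p < p * q := by nlinarith
    have hpq2 : q < p * q := by nlinarith
    rw [Finset.sum_insert (by simp; omega), Finset.sum_insert (by simp; omega),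
      Finset.sum_pair (by omega), hcnt1, hcp, hcq] at h3
    have hp' := (dvd_mul_right p q).trans h3
    rcases Nat.eq_zero_or_pos (cnt (p * q)) with h0 | h0
    · rw [h0] at hp'
      have h4 : p ∣ 2 * (1 + n) - (1 + (n + (n + 0))) := Nat.dvd_sub (dvd_mul_of_dvd_right hpm 2) hp'
      rw [show 2 * (1 + n) - (1 + (n + (n + 0))) = 1 by omega] at h4
      exact hp.ne_one (Nat.dvd_one.mp h4)
    · have : Nonempty {g : G // orderOf g = p * q} := (Nat.card_pos_iff.mp h0).1
      obtain ⟨⟨c, hc⟩⟩ := this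
      rw [← hc, hbig c (by rw [hc]; omega)] at hp'
      have h4 : p ∣ 3 * (1 + n) - (1 + (n + (n + n))) := Nat.dvd_sub (dvd_mul_of_dvd_right hpm 3) hp'
      rw [show 3 * (1 + n) - (1 + (n + (n + n))) = 2 by omega] at h4
      exact hp2 ((Nat.prime_dvd_prime_iff_eq hp Nat.prime_two).mp h4)
  by_cases hodd : ∀ p : ℕ, p.Prime → p ≠ 2 → ¬ p ∣ Nat.card G
  · -- a 2-group with one involution
    haveI : Fact (Nat.Prime 2) := ⟨Nat.prime_two⟩
    have hG2 : IsPGroup 2 G := IsPGroup.iff_card.mpr ⟨(Nat.card G).primeFactorsList.length,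
      Nat.eq_prime_pow_of_unique_prime_dvd Nat.card_pos.ne' fun {r} hr hd => by
        by_contra hne; exact hodd r hr hne hd⟩
    have h4 : ∀ g : G, orderOf g ∣ 4 := fun g => by
      obtain ⟨k, hk⟩ := IsPGroup.iff_orderOf.mp hG2 g
      rw [hk]
      refine pow_dvd_pow 2 (m := k) (n := 2) ?_ |>.trans (by norm_num)
      by_contra hk3
      obtain ⟨z, hz⟩ := hexact g 8 (hk ▸ pow_dvd_pow 2 (m := 3) (by omega)) (by norm_num)
      obtain ⟨y, hy⟩ := hexact g 4 (hk ▸ pow_dvd_pow 2 (m := 2) (by omega)) (by norm_num)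
      obtain ⟨t, ht⟩ := hexact g 2 (hk ▸ pow_dvd_pow 2 (m := 1) (by omega)) (by norm_num)
      have h8 : 4 ∣ n := by
        rw [← hbig z (by omega), hz]
        exact (show 4 ∣ Nat.totient 8 by decide).trans (GStructB.FrobeniusCount.totient_dvd_card_orderOf _)
      have h3 := hsum 4 {1, 2, 4} (hy ▸ orderOf_dvd_natCard y) (fun x hx => by
        have := Nat.le_of_dvd (by norm_num) hx
        have := orderOf_pos x
        interval_cases (orderOf x) <;> simp_all) (by decide)
      rw [Finset.sum_insert (by decide), Finset.sum_pair (by decide), hcnt1, hcnt2 t ht, ← hy,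
        hbig y (by omega), hy] at h3
      omega
    obtain ⟨t, ht⟩ := hexact g₀ 2 (by
      rcases (Nat.dvd_prime_pow Nat.prime_two).mp ((h4 g₀).trans (by norm_num : (4 : ℕ) ∣ 2 ^ 2)) with ⟨k, hk, hk'⟩
      interval_cases k <;> simp_all) (by norm_num)
    by_cases hcyc : IsCyclic G
    · right; right; left
      refine ⟨hcyc, ?_⟩
      obtain ⟨g, hg⟩ := hcyc.exists_ofOrder_eq_natCard
      have h1 := h4 g
      rw [hg] at h1
      have h2 : 3 ≤ Nat.card G := hg₀.trans_le (Nat.le_of_dvd Nat.card_pos (orderOf_dvd_natCard g₀))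
      have := Nat.le_of_dvd (by norm_num) h1
      interval_cases (Nat.card G) <;> simp_all
    · right; left
      have huniq : ∀ H K : Subgroup G, Nat.card H = 2 → Nat.card K = 2 → H = K := by
        intro H K hH hK
        obtain ⟨x, hx⟩ := exists_prime_orderOf_dvd_card' (G := H) 2 hH.symm.dvd
        obtain ⟨y, hy⟩ := exists_prime_orderOf_dvd_card' (G := K) 2 hK.symm.dvd
        have hxy : (x : G) = y := hinv _ _ (by rw [Subgroup.orderOf_coe, hx]) (by rw [Subgroup.orderOf_coe, hy])
        have h1 : Subgroup.zpowers (x : G) = H := Subgroup.eq_of_le_of_card_ge (Subgroup.zpowers_le.mpr x.2)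
          (by rw [hH, Nat.card_zpowers, Subgroup.orderOf_coe, hx])
        have h2 : Subgroup.zpowers (y : G) = K := Subgroup.eq_of_le_of_card_ge (Subgroup.zpowers_le.mpr y.2)
          (by rw [hK, Nat.card_zpowers, Subgroup.orderOf_coe, hy])
        rw [← h1, ← h2, hxy]
      obtain ⟨-, k, ⟨e⟩⟩ := (PGroups.UniqueSubgroup.isCyclic_or_quaternion hG2 huniq).resolve_left hcyc
      have h2 : 2 ^ k = 2 := by
        have h3 : orderOf (e.symm (QuaternionGroup.a 1)) = 2 * 2 ^ k := by
          rw [e.symm.orderOf_eq, QuaternionGroup.orderOf_a_one]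
        have h5 := Nat.le_of_dvd (by norm_num) (h3 ▸ h4 _)
        rcases Nat.eq_zero_or_pos k with rfl | hk
        · exfalso
          refine hcyc (isCyclic_of_orderOf_eq_card (e.symm (QuaternionGroup.xa 0)) ?_)
          rw [e.symm.orderOf_eq, QuaternionGroup.orderOf_xa, Nat.card_congr e.toEquiv,
            Nat.card_eq_fintype_card, QuaternionGroup.card, pow_zero]; norm_num
        · have : 2 ≤ 2 ^ k := Nat.le_self_pow hk.ne' 2
          omega
      exact ⟨e.trans (quaternionCast h2)⟩
  simp only [not_forall, not_not] at hodd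
  obtain ⟨p, hp, hp2, hpd⟩ := hodd
  haveI := Fact.mk hp
  have hp3 : 3 ≤ p := by have := hp.two_le; omega
  obtain ⟨a, ha⟩ := exists_prime_orderOf_dvd_card' p hpd
  have hpm := hmod a p hp hp2 ha
  have hcp : cnt p = n := ha ▸ hbig a (ha ▸ hp3)
  by_cases h2d : 2 ∣ Nat.card G
  swap
  · -- odd order
    left
    have hexp : ∀ g : G, g ^ p = 1 := by
      intro g
      apply orderOf_dvd_iff_pow_eq_one.mp
      rcases eq_or_ne (orderOf g) 1 with h' | h'
      · rw [h']; exact one_dvd _
      · have h1 : orderOf g = p ^ (orderOf g).primeFactorsList.length :=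
          Nat.eq_prime_pow_of_unique_prime_dvd (orderOf_pos g).ne' fun {r} hr hd => by
            refine hone r p hr hp (fun h2 => h2d (h2 ▸ hd.trans (orderOf_dvd_natCard g))) hp2
              (hd.trans (orderOf_dvd_natCard g)) hpd
        rw [h1]
        have h2 : (orderOf g).primeFactorsList.length ≤ 1 := by
          by_contra hh
          exact hnosq g p hp hp2 (h1 ▸ pow_dvd_pow p (by omega))
        exact (pow_dvd_pow p h2).trans (dvd_of_eq (pow_one p))
    refine ⟨p, hp, fun x => ⟨1, by rw [pow_one]; exact hexp x⟩, ?_, ?_⟩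
    · exact hp3.trans (Nat.le_of_dvd Nat.card_pos hpd)
    · exact Nat.dvd_antisymm (Monoid.exponent_dvd_of_forall_pow_eq_one hexp) (ha ▸ Monoid.order_dvd_exponent a)
  -- an odd prime and a central involution
  right; right; right
  haveI : Fact (Nat.Prime 2) := ⟨Nat.prime_two⟩
  obtain ⟨t, ht⟩ := exists_prime_orderOf_dvd_card' 2 h2d
  have htc : ∀ g : G, g * t = t * g := fun g => mul_inv_eq_iff_eq_mul.mp
    (hinv _ t ((orderOf_injective (MulAut.conj g).toMonoidHom (MulAut.conj g).injective t).trans ht) ht)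
  have hsup : ∀ (r : ℕ), r.Prime → r ∣ Nat.card G → r = 2 ∨ r = p := fun r hr hd => by
    by_cases h2 : r = 2
    · exact Or.inl h2
    · exact Or.inr (hone r p hr hp h2 hp2 hd hpd)
  have hno4 : ∀ g : G, ¬ 4 ∣ orderOf g := by
    intro g hg
    obtain ⟨y, hy⟩ := hexact g 4 hg (by norm_num)
    have h4G : 4 ∣ Nat.card G := hy ▸ orderOf_dvd_natCard y
    have hcy : cnt 4 = n := hy ▸ hbig y (by omega)
    have hmod4 : 4 ∣ 2 + n := by
      have h3 := hsum 4 {1, 2, 4} h4G (fun x hx => by
        have := Nat.le_of_dvd (by norm_num) hx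
        have := orderOf_pos x
        interval_cases (orderOf x) <;> simp_all) (by decide)
      rw [Finset.sum_insert (by decide), Finset.sum_pair (by decide), hcnt1, hcnt2 t ht, hcy] at h3
      omega
    have hne : ∀ c : G, orderOf c ≠ 4 * p := fun c hc => by
      have h1 : Nat.totient (4 * p) ∣ n := by
        rw [← hc, ← hbig c (by omega)]
        exact GStructB.FrobeniusCount.totient_dvd_card_orderOf _
      have hc4 : Nat.Coprime 4 p := Nat.Coprime.pow_left 2 ((Nat.coprime_primes Nat.prime_two hp).mpr (Ne.symm hp2))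
      rw [Nat.totient_mul hc4, Nat.totient_prime hp, show Nat.totient 4 = 2 by decide] at h1
      obtain ⟨w, hw⟩ := hp.odd_of_ne_two hp2
      rw [hw] at h1
      obtain ⟨v, hv⟩ := h1
      have : 4 ∣ n := ⟨w * v, by rw [hv, Nat.add_sub_cancel]; ring⟩
      omega
    have hta : orderOf (t * a) = 2 * p := by
      rw [(show Commute t a from (htc a).symm).orderOf_mul_eq_mul_orderOf_of_coprime
        (by rw [ht, ha]; exact (Nat.coprime_primes Nat.prime_two hp).mpr (Ne.symm hp2)), ht, ha]
    have hc2p : cnt (2 * p) = n := hta ▸ hbig _ (by omega)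
    have h3 := hsum (4 * p) {1, 2, 4, p, 2 * p}
      (Nat.Coprime.mul_dvd_of_dvd_of_dvd (Nat.Coprime.pow_left 2
        ((Nat.coprime_primes Nat.prime_two hp).mpr (Ne.symm hp2))) h4G hpd)
      (fun x hx => by
        obtain ⟨c, e, hc, he, hce⟩ := Nat.dvd_mul.mp hx
        have := hne x
        have := Nat.le_of_dvd (by norm_num) hc
        rcases (Nat.dvd_prime hp).mp he with he' | he' <;>
          interval_cases c <;> subst he' <;> simp_all)
      (fun d hd => by
        simp only [Finset.mem_insert, Finset.mem_singleton] at hd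
        rcases hd with rfl | rfl | rfl | rfl | rfl
        · exact one_dvd _
        · exact dvd_mul_of_dvd_left (by norm_num) _
        · exact dvd_mul_right _ _
        · exact dvd_mul_left _ _
        · exact mul_dvd_mul_right (by norm_num) _)
    have hp4 : p ≠ 4 := fun h4 => by rw [h4] at hp; norm_num at hp
    rw [Finset.sum_insert (by simp; omega), Finset.sum_insert (by simp; omega),
      Finset.sum_insert (by simp; omega), Finset.sum_pair (by omega), hcnt1, hcnt2 t ht, hcy, hcp, hc2p] at h3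
    have hp' := (dvd_mul_left p 4).trans h3
    have h4 : p ∣ 3 * (1 + n) - (1 + (1 + (n + (n + n)))) := Nat.dvd_sub (dvd_mul_of_dvd_right hpm 3) hp'
    rw [show 3 * (1 + n) - (1 + (1 + (n + (n + n)))) = 1 by omega] at h4
    exact hp.ne_one (Nat.dvd_one.mp h4)
  obtain ⟨T⟩ : Nonempty (Sylow 2 G) := inferInstance
  obtain ⟨Q⟩ : Nonempty (Sylow p G) := inferInstance
  have hT : (T : Subgroup G) ≤ Subgroup.zpowers t := by
    intro x hx
    obtain ⟨k, hk⟩ := IsPGroup.iff_orderOf.mp T.2 ⟨x, hx⟩
    rw [Subgroup.orderOf_mk] at hk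
    rcases Nat.lt_or_ge k 2 with hlt | hge
    · interval_cases k
      · rw [pow_zero, orderOf_eq_one_iff] at hk; rw [hk]; exact one_mem _
      · rw [hinv x t (by simpa using hk) ht]; exact Subgroup.mem_zpowers t
    · exact absurd (hk ▸ pow_dvd_pow 2 hge) (hno4 x)
  have hTc : Nat.card (T : Subgroup G) = 2 := by
    refine le_antisymm ((Subgroup.card_le_of_le hT).trans (le_of_eq (by rw [Nat.card_zpowers, ht]))) ?_
    exact Nat.le_of_dvd Nat.card_pos (T.dvd_card_of_dvd_card h2d)
  have hidx : (Q : Subgroup G).index = 2 := by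
    have hQ0 : (Q : Subgroup G).index ≠ 0 := Subgroup.index_ne_zero_of_finite
    have h1 : (Q : Subgroup G).index = 2 ^ (Q : Subgroup G).index.primeFactorsList.length :=
      Nat.eq_prime_pow_of_unique_prime_dvd hQ0 fun {r} hr hd => by
        rcases hsup r hr (hd.trans (Subgroup.index_dvd_card _)) with rfl | rfl
        · rfl
        · exact absurd hd Q.not_dvd_index
    obtain ⟨j, hj⟩ : ∃ j, (Q : Subgroup G).index = 2 ^ j := ⟨_, h1⟩
    have h2 : 2 ^ j ∣ Nat.card (T : Subgroup G) := by
      rw [T.card_eq_multiplicity]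
      refine pow_dvd_pow 2 ((Nat.Prime.pow_dvd_iff_le_factorization Nat.prime_two Nat.card_pos.ne').mp ?_)
      exact hj ▸ Subgroup.index_dvd_card _
    have h3 : j ≠ 0 := fun h0 => by
      rw [h0, pow_zero, Subgroup.index_eq_one] at hj
      obtain ⟨k, hk⟩ := IsPGroup.iff_orderOf.mp Q.2 ⟨t, hj ▸ Subgroup.mem_top t⟩
      rw [Subgroup.orderOf_mk, ht] at hk
      rcases Nat.eq_zero_or_pos k with rfl | hk0
      · simp at hk
      · exact hp2 ((Nat.prime_dvd_prime_iff_eq hp Nat.prime_two).mp (hk ▸ dvd_pow_self p hk0.ne'))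
    rw [hTc] at h2
    have h4 := Nat.le_of_dvd two_pos h2
    have h5 : 2 ≤ 2 ^ j := Nat.le_self_pow h3 2
    omega
  have hexp : ∀ x ∈ (Q : Subgroup G), x ^ p = 1 := fun x hx => by
    obtain ⟨k, hk⟩ := IsPGroup.iff_orderOf.mp Q.2 ⟨x, hx⟩
    rw [Subgroup.orderOf_mk] at hk
    apply orderOf_dvd_iff_pow_eq_one.mp
    rw [hk]
    refine (pow_dvd_pow p ?_).trans (dvd_of_eq (pow_one p))
    by_contra hh
    exact hnosq x p hp hp2 (hk ▸ pow_dvd_pow p (by omega))
  let f : Subgroup.zpowers t × (Q : Subgroup G) →* G :=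
    MonoidHom.noncommCoprod (Subgroup.subtype _) (Subgroup.subtype _) (fun z q => by
      obtain ⟨k, hk⟩ := z.2
      show (z : G) * (q : G) = (q : G) * (z : G)
      rw [← hk]
      exact (Commute.zpow_left (show Commute t (q : G) from (htc q).symm) k).eq)
  have hcardG : Nat.card (Subgroup.zpowers t × (Q : Subgroup G)) = Nat.card G := by
    rw [Nat.card_prod, Nat.card_zpowers, ht, ← (Q : Subgroup G).card_mul_index, hidx, mul_comm]
  have hdisj : Subgroup.zpowers t ⊓ (Q : Subgroup G) = ⊥ := by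
    apply Subgroup.inf_eq_bot_of_coprime
    rw [Nat.card_zpowers, ht, Q.card_eq_multiplicity]
    exact ((Nat.coprime_primes Nat.prime_two hp).mpr (Ne.symm hp2)).pow_right _
  have hinj : Function.Injective f := by
    rw [injective_iff_map_eq_one]
    rintro ⟨z, q⟩ hzq
    have hzq' : (z : G) * (q : G) = 1 := hzq
    have hz : (z : G) ∈ Subgroup.zpowers t ⊓ (Q : Subgroup G) :=
      ⟨z.2, by rw [eq_inv_of_mul_eq_one_left hzq']; exact (Q : Subgroup G).inv_mem q.2⟩
    rw [hdisj, Subgroup.mem_bot] at hz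
    rw [hz, one_mul] at hzq'
    exact Prod.ext (Subtype.ext hz) (Subtype.ext hzq')
  let ef := MulEquiv.ofBijective f (hinj.bijective_of_nat_card_le hcardG.symm.le)
  obtain ⟨m, ⟨eQ⟩⟩ := Finite.exists_equiv_fin (Q : Subgroup G)
  let eC : Carrier m ≃ (Q : Subgroup G) := eQ.symm
  letI : Group (Carrier m) := eC.group
  let eQ' : Carrier m ≃* (Q : Subgroup G) := eC.mulEquiv
  haveI : Finite (Carrier m) := Finite.of_equiv _ eC.symm
  refine ⟨p, Carrier m, inferInstance, inferInstance, hp, hp2, Q.2.of_equiv eQ'.symm, ?_, ⟨?_⟩⟩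
  · rw [Monoid.exponent_eq_of_mulEquiv eQ']
    refine Nat.dvd_antisymm (Monoid.exponent_dvd_of_forall_pow_eq_one fun x => Subtype.ext (by
      simpa using hexp x x.2)) ?_
    obtain ⟨y, hy⟩ := exists_prime_orderOf_dvd_card' (G := (Q : Subgroup G)) p (Q.dvd_card_of_dvd_card hpd)
    exact (dvd_of_eq hy.symm).trans (Monoid.order_dvd_exponent y)
  · have e2 : Subgroup.zpowers t ≃* Multiplicative (ZMod 2) :=
      mulEquivOfPrimeCardEq (p := 2) (by rw [Nat.card_zpowers, ht]) (by simp [Nat.card_eq_fintype_card])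
    exact ef.symm.trans (MulEquiv.prodCongr e2 eQ'.symm)

end Cfsg.Agent.S3995
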