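import Cfsg.Statements.S3997
import Cfsg.Agent.GStructB.PElements

set_option autoImplicit false
open Cfsg

namespace Cfsg.Agent.S3997

/-- Let G and H be finite groups with the same order type: for every m they have the same number of elements of order m. If G is nilpotent then so is H. -/
theorem result {G H : Type*} [Group G] [Finite G] [Group H] [Finite H] (hT : (∀ m : ℕ, Nat.card {g : G // orderOf g = m} = Nat.card {h : H // orderOf h = m})) (hG : Group.IsNilpotent G) :
    Group.IsNilpotent H := by
  classical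
  -- counts of elements with prescribed orders agree
  have key : ∀ S : ℕ → Prop, Nat.card {g : G // S (orderOf g)} = Nat.card {h : H // S (orderOf h)} := by
    intro S
    let e : ∀ m, {g : G // orderOf g = m} ≃ {h : H // orderOf h = m} :=
      fun m => (Finite.card_eq.mp (hT m)).some
    exact Nat.card_congr
      { toFun := fun g => ⟨(e (orderOf g.1) ⟨g.1, rfl⟩).1, by rw [(e (orderOf g.1) ⟨g.1, rfl⟩).2]; exact g.2⟩
        invFun := fun h => ⟨((e (orderOf h.1)).symm ⟨h.1, rfl⟩).1, by
          rw [((e (orderOf h.1)).symm ⟨h.1, rfl⟩).2]; exact h.2⟩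
        left_inv := fun g => by
          apply Subtype.ext
          have h1 := (e (orderOf g.1) ⟨g.1, rfl⟩).2
          have : ∀ m (hm : orderOf (e (orderOf g.1) ⟨g.1, rfl⟩).1 = m),
              ((e m).symm ⟨(e (orderOf g.1) ⟨g.1, rfl⟩).1, hm⟩).1 =
              ((e (orderOf (e (orderOf g.1) ⟨g.1, rfl⟩).1)).symm
                ⟨(e (orderOf g.1) ⟨g.1, rfl⟩).1, rfl⟩).1 := by
            intro m hm; subst hm; rfl
          rw [← this _ h1]
          simp
        right_inv := fun h => by
          apply Subtype.ext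
          have h1 := ((e (orderOf h.1)).symm ⟨h.1, rfl⟩).2
          have : ∀ m (hm : orderOf ((e (orderOf h.1)).symm ⟨h.1, rfl⟩).1 = m),
              ((e m) ⟨((e (orderOf h.1)).symm ⟨h.1, rfl⟩).1, hm⟩).1 =
              ((e (orderOf ((e (orderOf h.1)).symm ⟨h.1, rfl⟩).1))
                ⟨((e (orderOf h.1)).symm ⟨h.1, rfl⟩).1, rfl⟩).1 := by
            intro m hm; subst hm; rfl
          rw [← this _ h1]
          simp }
  have hcard : Nat.card G = Nat.card H := by
    have h1 := key fun _ => True
    rwa [Nat.card_congr (Equiv.subtypeUnivEquiv fun _ => trivial),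
      Nat.card_congr (Equiv.subtypeUnivEquiv fun _ => trivial)] at h1
  refine ((Group.isNilpotent_of_finite_tfae (G := H)).out 0 3 rfl rfl).mpr ?_
  intro p hp P
  have := hp.out
  obtain ⟨Q⟩ := (inferInstance : Nonempty (Sylow p G))
  have hQn : (Q : Subgroup G).Normal :=
    ((Group.isNilpotent_of_finite_tfae (G := G)).out 0 3 rfl rfl).mp hG p hp Q
  have hQset : ∀ g : G, g ∈ (Q : Subgroup G) ↔ ∃ k, orderOf g = p ^ k := by
    intro g
    refine ⟨GStructB.PElements.exists_orderOf_eq Q.2, fun ⟨k, hk⟩ => ?_⟩
    have h1 := Q.3 ((GStructB.PElements.isPGroup_zpowers hk).to_sup_of_normal_right' Q.2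
        (Subgroup.zpowers_le.mpr (by rw [Subgroup.normalizer_eq_top]; exact Subgroup.mem_top g)))
        le_sup_right
    exact h1 ▸ Subgroup.mem_sup_left (Subgroup.mem_zpowers g)
  have hn : Nat.card {h : H // ∃ k, orderOf h = p ^ k} = Nat.card (P : Subgroup H) := by
    rw [← key fun m => ∃ k, m = p ^ k, ← Nat.card_congr (Equiv.subtypeEquivRight hQset),
      P.card_eq_multiplicity, ← hcard, ← Q.card_eq_multiplicity]
  let ι : ↥(P : Subgroup H) → {h : H // ∃ k, orderOf h = p ^ k} :=
    fun x => ⟨(x : H), GStructB.PElements.exists_orderOf_eq P.2 x.2⟩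
  have hι : Function.Surjective ι :=
    (Function.Injective.bijective_of_nat_card_le
      (f := ι) (fun a b h => Subtype.ext (congrArg Subtype.val h :)) hn.le).2
  refine ⟨fun x hx g => ?_⟩
  obtain ⟨k, hk⟩ := GStructB.PElements.exists_orderOf_eq P.2 hx
  obtain ⟨y, hy⟩ := hι ⟨g * x * g⁻¹, k, by
    rw [← hk]; exact orderOf_injective (MulAut.conj g).toMonoidHom (MulAut.conj g).injective x⟩
  have : (y : H) = g * x * g⁻¹ := congrArg Subtype.val hy
  exact this ▸ y.2

end Cfsg.Agent.S3997
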