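import Cfsg.Statements.S3998
import Mathlib
import Cfsg.Agent.GStructB.OrderType
import Cfsg.Agent.Lib.Hall.Supersolvable
import Cfsg.Agent.Lib.Coprime.Basic

set_option autoImplicit false
open Cfsg

namespace Cfsg.Agent.S3998

open Cfsg.Agent

universe u v

/-- The Sylow subgroups for the largest prime of a supersolvable group are normal. -/
theorem normal_sylow_max {G : Type u} [Group G] [Finite G] (hG : Cfsg.IsSupersolvable G) :
    ∀ (p : ℕ) [Fact p.Prime], (∀ q : ℕ, q.Prime → q ∣ Nat.card G → q ≤ p) →
      ∀ P : Sylow p G, (P : Subgroup G).Normal := by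
  refine Hall.Supersolvable.induction_prime (motive := fun G _ => ∀ (p : ℕ) [Fact p.Prime],
    (∀ q : ℕ, q.Prime → q ∣ Nat.card G → q ≤ p) → ∀ P : Sylow p G, (P : Subgroup G).Normal)
    ?_ ?_ G hG
  · intro G _ _ hs p _ _ P
    refine ⟨fun x hx g => ?_⟩
    rw [Subsingleton.elim (g * x * g⁻¹) x]
    exact hx
  · intro G _ _ _ N _ hr ih p _ hmax P
    have hp : p.Prime := Fact.out
    set L := (P : Subgroup G) ⊔ N with hL
    have hLn : L.Normal := by
      have h := ih p (fun q hq hd => hmax q hq (hd.trans (Subgroup.card_quotient_dvd_card N)))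
        (P.mapSurjective (QuotientGroup.mk'_surjective N))
      rw [Sylow.coe_mapSurjective] at h
      haveI := h
      have e : L = ((P : Subgroup G).map (QuotientGroup.mk' N)).comap (QuotientGroup.mk' N) := by
        rw [Subgroup.comap_map_eq, QuotientGroup.ker_mk']
      rw [e]
      exact h.comap _
    rcases eq_or_ne (Nat.card N) p with hrp | hrp
    · have hNP : N ≤ (P : Subgroup G) := by
        haveI hn : N.Normal := inferInstance
        exact le_trans (Cores.le_pCore (IsPGroup.of_card (n := 1) (by rw [hrp, pow_one])))
          (Cores.pCore_le_sylow P)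
      rw [hL, sup_eq_left.mpr hNP] at hLn
      exact hLn
    · have hlt : Nat.card N < p :=
        lt_of_le_of_ne (hmax _ hr (N.card_subgroup_dvd_card)) hrp
      have hPL : (P : Subgroup G) ≤ L := le_sup_left
      have hcop : (Nat.card (P : Subgroup G)).Coprime (Nat.card N) := by
        obtain ⟨k, hk⟩ := IsPGroup.iff_card.mp P.2
        rw [show Nat.card (P : Subgroup G) = p ^ k from hk]
        exact ((Nat.coprime_primes hp hr).mpr (Ne.symm hrp)).pow_left k
      let P' : Sylow p L := P.subtype hPL
      have hidx : (P' : Subgroup L).index = Nat.card N := by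
        have h1 := (P' : Subgroup L).card_mul_index
        rw [show Nat.card (P' : Subgroup L) = Nat.card (P : Subgroup G) by
          rw [show (P' : Subgroup L) = (P : Subgroup G).subgroupOf L from Sylow.coe_subtype P hPL]
          exact Nat.card_congr (Subgroup.subgroupOfEquivOfLe hPL).toEquiv] at h1
        rw [show Nat.card L = Nat.card (P : Subgroup G) * Nat.card N by
          rw [hL, sup_comm, Coprime.card_sup_of_coprime Subgroup.le_normalizer_of_normal hcop.symm,
            mul_comm]] at h1
        exact Nat.eq_of_mul_eq_mul_left Nat.card_pos h1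
      have h1 : Nat.card (Sylow p L) = 1 := by
        have hd := P'.card_dvd_index
        rw [hidx] at hd
        rcases (Nat.dvd_prime hr).mp hd with h | h
        · exact h
        · exfalso
          have hm := card_sylow_modEq_one p L
          rw [h] at hm
          have h2 := Nat.ModEq.eq_of_lt_of_lt hm hlt hp.one_lt
          exact hr.ne_one h2
      haveI : Subsingleton (Sylow p L) := (Nat.card_eq_one_iff_unique.mp h1).1
      have hP'n : (P' : Subgroup L).Normal := Sylow.normal_of_subsingleton P'
      haveI := P'.characteristic_of_normal hP'n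
      haveI := hLn
      have hn := Cores.normal_map_subtype L (P' : Subgroup L)
      rwa [show (P' : Subgroup L) = (P : Subgroup G).subgroupOf L from Sylow.coe_subtype P hPL,
        Subgroup.map_subgroupOf_eq_of_le hPL] at hn

theorem main : ∀ (n : ℕ) {G : Type u} [Group G] [Finite G] {H : Type v} [Group H] [Finite H],
    Nat.card G = n → (∀ m, GStructB.OrderType.cnt G m = GStructB.OrderType.cnt H m) →
    Cfsg.IsSupersolvable G → Group.IsSolvable H := by
  intro n
  induction n using Nat.strong_induction_on with
  | _ n ih =>
    intro G _ _ H _ _ hn hc hG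
    have hcard : Nat.card H = Nat.card G := by
      rw [← GStructB.OrderType.cnt_zero H, ← hc, GStructB.OrderType.cnt_zero]
    rcases Nat.lt_or_ge (Nat.card G) 2 with h1 | h1
    · haveI : Subsingleton H := Finite.card_le_one_iff_subsingleton.mp (by omega)
      exact Group.isSolvable_of_comm fun a b => Subsingleton.elim _ _
    obtain ⟨p, hpm, hmax⟩ := (Nat.card G).primeFactors.exists_max_image id
      (Nat.nonempty_primeFactors.mpr h1)
    obtain ⟨hp, hpd, -⟩ := Nat.mem_primeFactors.mp hpm
    haveI := Fact.mk hp
    obtain ⟨P⟩ : Nonempty (Sylow p G) := inferInstance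
    obtain ⟨Q⟩ : Nonempty (Sylow p H) := inferInstance
    have hPn := normal_sylow_max hG p (fun q hq hd =>
      hmax q (Nat.mem_primeFactors.mpr ⟨hq, hd, Nat.card_pos.ne'⟩)) P
    have hQn := GStructB.OrderType.normal_transfer hc P hPn Q
    haveI := hPn
    haveI := hQn
    have hq := GStructB.OrderType.quotient_transfer hc (P : Subgroup G) (Q : Subgroup H)
      P.card_coprime_index Q.card_coprime_index (GStructB.OrderType.card_sylow_eq hc P Q)
    have hP1 : 1 < Nat.card (P : Subgroup G) :=
      (Subgroup.one_lt_card_iff_ne_bot _).mpr (P.ne_bot_of_dvd_card hpd)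
    haveI := ih _ (hn ▸ Hall.Supersolvable.card_quotient_lt hP1) rfl hq
      (Hall.Supersolvable.quotient hG (P : Subgroup G))
    haveI : Group.IsSolvable (Q : Subgroup H) :=
      @IsNilpotent.to_isSolvable _ _ Q.2.isNilpotent
    exact (Group.isSolvable_iff_subgroup_quotient (Q : Subgroup H)).mpr ⟨inferInstance, inferInstance⟩

/-- Let G and H be finite groups with the same order type (for every m the same number of elements of order m). If G is supersolvable then H is solvable. -/
theorem result {G H : Type*} [Group G] [Finite G] [Group H] [Finite H] (hT : (∀ m : ℕ, Nat.card {g : G // orderOf g = m} = Nat.card {h : H // orderOf h = m})) (hG : Cfsg.IsSupersolvable G) :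
    Group.IsSolvable H := by
  exact main _ rfl (GStructB.OrderType.cnt_eq hT) hG

end Cfsg.Agent.S3998
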