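import Cfsg.Statements.S3999
import Mathlib
import Cfsg.Agent.GStructB.OrderType
import Cfsg.Agent.GStructB.TIComplement
import Cfsg.Agent.S0042
import Cfsg.Agent.Solvable.Frobenius
import Cfsg.Agent.Lib.Cores.Fitting
import Cfsg.Agent.Lib.Coprime.FixedPointFree
import Cfsg.Agent.Lib.Coprime.Commutator

set_option autoImplicit false
open Cfsg

namespace Cfsg.Agent.S3999

open Cfsg.Agent

universe u

theorem card_five_le {F : Type u} [Group F] [Finite F] {C : Subgroup F}
    (hC : Cfsg.IsFrobeniusComplement C) (hs : Group.IsSolvable C) :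
    GStructB.OrderType.cnt C 5 ≤ 5 := by
  classical
  haveI : Fact (Nat.Prime 5) := ⟨Nat.prime_five⟩
  haveI : Fact (Nat.Prime 2) := ⟨Nat.prime_two⟩
  obtain ⟨K, -, hKn, hKc⟩ := Cfsg.Agent.Characters.frobenius_kernel_theorem hC
  haveI := hKn
  have hK := Solvable.Frobenius.kernel_ne_bot hC hKc
  have hfpf := Solvable.Frobenius.fpf_of_kernel hC hKc
  -- elements of prime order normalised by an element of prime order commute with it
  have hkey : ∀ (a x : C) (p q : ℕ), p.Prime → q.Prime → orderOf a = p → orderOf x = q →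
      x * a * x⁻¹ ∈ Subgroup.zpowers a → x * a = a * x ∧ (p = q → x ∈ Subgroup.zpowers a) := by
    intro a x p q hp hq ha hx hmem
    obtain ⟨h1, h2⟩ := Coprime.fpf_commute_and_mem (A := C) (K := K) Subgroup.le_normalizer_of_normal
      hfpf hK hp hq a.2 x.2 (by rw [Subgroup.orderOf_coe, ha]) (by rw [Subgroup.orderOf_coe, hx])
      (by obtain ⟨j, hj⟩ := hmem; exact ⟨j, congrArg Subtype.val hj⟩)
    refine ⟨Subtype.ext h1, fun e => ?_⟩
    obtain ⟨j, hj⟩ := h2 e
    exact ⟨j, Subtype.ext hj⟩
  haveI := hs
  set Fc := Cfsg.fittingSubgroup C with hFc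
  have hstruct : ∀ (p : ℕ), p.Prime → ∀ P : Subgroup C, IsPGroup p P →
      IsCyclic P ∨ ∃ n : ℕ, Nonempty (P ≃* QuaternionGroup (2 ^ n)) :=
    (GStructB.TIComplement.complement_structure hC).1
  have hcentral : ∀ x : C, orderOf x = 5 → x ∈ Subgroup.centralizer (Fc : Set C) := by
    intro x hx
    rw [← Subgroup.zpowers_le, Subgroup.le_centralizer_iff, hFc, Cores.fittingSubgroup_eq_iSup,
      iSup_le_iff]
    rintro ⟨p, hp⟩
    haveI := Fact.mk (Nat.prime_of_mem_primeFactors hp)
    rw [Subgroup.le_centralizer_iff]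
    set P := Cfsg.pCore p C with hP
    have hPp : IsPGroup p P := Cores.pCore_isPGroup p
    by_cases hp5 : p = 5
    · subst hp5
      have hsup := (IsPGroup.of_card (n := 1) (by rw [Nat.card_zpowers, hx, pow_one]) :
        IsPGroup 5 (Subgroup.zpowers x)).to_sup_of_normal_right hPp
      rcases hstruct 5 Nat.prime_five _ hsup with hc | ⟨n, ⟨e⟩⟩
      · haveI := hc
        letI := IsCyclic.commGroup (α := ↥(Subgroup.zpowers x ⊔ P))
        intro a ha
        rw [Subgroup.mem_centralizer_iff]
        intro y hy
        exact congrArg Subtype.val (mul_comm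
          (⟨y, Subgroup.mem_sup_right hy⟩ : ↥(Subgroup.zpowers x ⊔ P))
          ⟨a, Subgroup.mem_sup_left ha⟩)
      · exfalso
        obtain ⟨k, hk⟩ := IsPGroup.iff_card.mp hsup
        haveI : NeZero (2 ^ n) := ⟨by positivity⟩
        have h2 : 2 ∣ 5 ^ k := by
          rw [← hk, Nat.card_congr e.toEquiv, Nat.card_eq_fintype_card, QuaternionGroup.card]
          exact ⟨2 * 2 ^ n, by ring⟩
        exact absurd (Nat.prime_two.dvd_of_dvd_pow h2) (by decide)
    have hcop : (Nat.card (Subgroup.zpowers x)).Coprime (Nat.card P) := by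
      obtain ⟨k, hk⟩ := IsPGroup.iff_card.mp hPp
      rw [Nat.card_zpowers, hx, hk]
      exact ((Nat.coprime_primes Nat.prime_five (Fact.out : p.Prime)).mpr (Ne.symm hp5)).pow_right k
    have hn : Subgroup.zpowers x ≤ Subgroup.normalizer (P : Set C) := Subgroup.le_normalizer_of_normal
    rcases hstruct p (Fact.out : p.Prime) P hPp with hc | ⟨n, ⟨e⟩⟩
    · haveI := hc
      haveI : IsMulCommutative P := inferInstance
      refine Coprime.le_centralizer_of_prime_order_abelian hn hcop fun v hv hvp a ha => ?_
      obtain ⟨j, rfl⟩ := ha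
      have hmem : x * v * x⁻¹ ∈ Subgroup.zpowers v := by
        letI := IsCyclic.commGroup (α := P)
        have h1 : Subgroup.zpowers (⟨v, hv⟩ : P) = (powMonoidHom (orderOf v) : P →* P).ker := by
          refine Subgroup.eq_of_le_of_card_ge (Subgroup.zpowers_le.mpr ?_) ?_
          · rw [MonoidHom.mem_ker, powMonoidHom_apply]
            exact Subtype.ext (pow_orderOf_eq_one v)
          · rw [IsCyclic.card_powMonoidHom_ker, Nat.card_zpowers]
            refine (Nat.le_of_dvd (orderOf_pos v) (Nat.gcd_dvd_right _ _)).trans (le_of_eq ?_)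
            exact Subgroup.orderOf_coe (⟨v, hv⟩ : P)
        have h2 : (⟨x * v * x⁻¹, Subgroup.Normal.conj_mem inferInstance v hv x⟩ : P) ∈
            Subgroup.zpowers (⟨v, hv⟩ : P) := by
          rw [h1, MonoidHom.mem_ker, powMonoidHom_apply]
          refine Subtype.ext ?_
          show (x * v * x⁻¹) ^ orderOf v = 1
          rw [conj_pow, pow_orderOf_eq_one, mul_one, mul_inv_cancel]
        obtain ⟨i, hi⟩ := h2
        exact ⟨i, congrArg Subtype.val hi⟩
      exact ((show Commute x v from (hkey v x _ 5 hvp Nat.prime_five rfl hx hmem).1).zpow_left j).eq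
    · -- the action on the quotient by the Frattini subgroup is trivial
      haveI : NeZero (2 ^ n) := ⟨by positivity⟩
      have hp2 : p = 2 := by
        obtain ⟨k, hk⟩ := IsPGroup.iff_card.mp hPp
        have h4 : 2 ∣ p ^ k := by
          rw [← hk, Nat.card_congr e.toEquiv, Nat.card_eq_fintype_card, QuaternionGroup.card]
          exact ⟨2 * 2 ^ n, by ring⟩
        exact ((Nat.prime_dvd_prime_iff_eq Nat.prime_two (Fact.out : p.Prime)).mp
          (Nat.prime_two.dvd_of_dvd_pow h4)).symm
      subst hp2
      set Φ := frattini P with hΦ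
      -- the Frattini subgroup has index at most four
      have hidx : Φ.index ≤ 4 := by
        set y := e.symm (QuaternionGroup.a 1) with hy
        have hyΦ : y ^ 2 ∈ Φ := by
          have hnil := hPp.isNilpotent
          rw [hΦ, frattini, Order.radical]
          simp only [Subgroup.mem_iInf]
          intro M hM
          haveI : M.Normal :=
            ((Group.isNilpotent_of_finite_tfae (G := P)).out 0 2 rfl rfl).mp hnil M hM
          have hi : M.index = 2 := by
            have hbot : ∀ H : Subgroup (P ⧸ M), H ≠ ⊥ → H = ⊤ := by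
              intro H hH
              have hlt : M < H.comap (QuotientGroup.mk' M) := by
                refine lt_of_le_of_ne (fun m hm => ?_) fun heq => hH ?_
                · show QuotientGroup.mk' M m ∈ H
                  rw [show QuotientGroup.mk' M m = 1 from (QuotientGroup.eq_one_iff m).mpr hm]
                  exact one_mem _
                · rw [← Subgroup.map_comap_eq_self_of_surjective (QuotientGroup.mk'_surjective M) H,
                    ← heq, QuotientGroup.map_mk'_self]
              rw [← Subgroup.map_comap_eq_self_of_surjective (QuotientGroup.mk'_surjective M) H,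
                hM.2 _ hlt, Subgroup.map_top_of_surjective _ (QuotientGroup.mk'_surjective M)]
            haveI : Nontrivial (P ⧸ M) := QuotientGroup.nontrivial_iff.mpr hM.1
            have hq : IsPGroup 2 (P ⧸ M) := hPp.to_quotient M
            obtain ⟨k, hk, hck⟩ := hq.nontrivial_iff_card.mp inferInstance
            obtain ⟨z, hz⟩ := exists_prime_orderOf_dvd_card' (G := P ⧸ M) 2 (hck ▸ dvd_pow_self 2 hk.ne')
            have hzne : z ≠ 1 := fun h => by rw [h, orderOf_one] at hz; omega
            rw [Subgroup.index_eq_card, ← Subgroup.card_top, ← hbot (Subgroup.zpowers z)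
              (Subgroup.zpowers_ne_bot.mpr hzne), Nat.card_zpowers, hz]
          rw [← hi]
          exact M.pow_index_mem y
        have hle := Nat.le_of_dvd Nat.card_pos
          (Subgroup.card_dvd_of_le (Subgroup.zpowers_le.mpr hyΦ))
        rw [Nat.card_zpowers, orderOf_pow' y two_ne_zero, hy, MulEquiv.orderOf_eq,
          QuaternionGroup.orderOf_a_one, Nat.gcd_mul_right_left, Nat.mul_div_cancel_left _ two_pos] at hle
        have hc := Φ.card_mul_index
        rw [Nat.card_congr e.toEquiv, Nat.card_eq_fintype_card (α := QuaternionGroup (2 ^ n)),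
          QuaternionGroup.card] at hc
        by_contra h5
        have hmul : 2 ^ n * 5 ≤ Nat.card Φ * Φ.index := Nat.mul_le_mul hle (by omega)
        have : 0 < 2 ^ n := by positivity
        omega
      haveI : Φ.Characteristic := inferInstance
      have hN : (Φ.map P.subtype).Normal := inferInstance
      refine Coprime.le_centralizer_of_frattini hn
        (hcop.coprime_dvd_right Φ.card_subgroup_dvd_card) ?_
      let ψ : C →* MulAut P := MulAut.conjNormal
      have hψ : ∀ (c : C) (k : P), k ∈ Φ → ψ c k ∈ Φ := fun c k hk =>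
        (Subgroup.characteristic_iff_map_le.mp inferInstance (ψ c)) ⟨k, hk, rfl⟩
      let act : P ⧸ Φ → P ⧸ Φ := QuotientGroup.map Φ Φ (ψ x).toMonoidHom (fun k hk => hψ x k hk)
      have hact : ∀ k : P, act (k : P ⧸ Φ) = ((ψ x k : P) : P ⧸ Φ) := fun k => rfl
      have hit : ∀ (j : ℕ) (k : P), act^[j] (k : P ⧸ Φ) = ((ψ (x ^ j) k : P) : P ⧸ Φ) := by
        intro j
        induction j with
        | zero => intro k; simp
        | succ j ih => intro k; rw [Function.iterate_succ_apply', ih, hact, pow_succ', map_mul]; rfl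
      have h5 : act^[5] = id := funext fun q => by
        induction q using QuotientGroup.induction_on with
        | H k => rw [hit, ← hx, pow_orderOf_eq_one, map_one]; rfl
      have hid : ∀ q : P ⧸ Φ, act q = q := by
        intro q
        haveI : Fintype (P ⧸ Φ) := Fintype.ofFinite _
        have hbij : Function.Bijective act :=
          ⟨fun a b hab => by
            have := congrArg (act^[4]) hab
            rwa [← Function.iterate_succ_apply, ← Function.iterate_succ_apply, h5] at this,
           fun a => ⟨act^[4] a, by rw [← Function.iterate_succ_apply' act 4 a, h5]; rfl⟩⟩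
        let σ : Equiv.Perm (P ⧸ Φ) := Equiv.ofBijective act hbij
        have hpow : ∀ (j : ℕ) (r : P ⧸ Φ), (σ ^ j) r = act^[j] r := by
          intro j
          induction j with
          | zero => intro r; rfl
          | succ j ih => intro r; rw [pow_succ', Equiv.Perm.mul_apply, ih, Function.iterate_succ_apply']; rfl
        have hσ : σ ^ 5 = 1 := Equiv.ext fun r => by rw [hpow, h5]; rfl
        have hσ1 : σ = 1 := by
          rw [← orderOf_eq_one_iff]
          refine Nat.eq_one_of_dvd_coprimes (show (5 : ℕ).Coprime (Nat.factorial 4) by decide)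
            (orderOf_dvd_of_pow_eq_one hσ) ?_
          refine (orderOf_dvd_natCard σ).trans ?_
          rw [Nat.card_perm, ← Subgroup.index_eq_card]
          exact Nat.factorial_dvd_factorial hidx
        exact congrArg (fun τ : Equiv.Perm (P ⧸ Φ) => τ q) hσ1
      intro a ha k hk
      obtain ⟨j, rfl⟩ := mem_powers_iff_mem_zpowers.mpr ha
      refine ⟨ψ (x ^ j) ⟨k, hk⟩ * (⟨k, hk⟩ : P)⁻¹, ?_, ?_⟩
      · show _ ∈ Φ
        rw [← QuotientGroup.eq_one_iff, QuotientGroup.mk_mul, QuotientGroup.mk_inv, ← hit,
          Function.iterate_fixed (hid _) j, mul_inv_cancel]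
      · simp only [ψ, map_mul, map_inv, Subgroup.coe_subtype, MulAut.conjNormal_apply]
  have hF5 : ∀ x : C, orderOf x = 5 → x ∈ Fc := fun x hx =>
    Cores.centralizer_fittingSubgroup_le (hcentral x hx)
  by_cases hex : ∃ x : C, orderOf x = 5
  · obtain ⟨x, hx⟩ := hex
    have hmem : ∀ y : C, y ^ 5 = 1 → y ∈ Subgroup.zpowers x := by
      intro y hy
      rcases (Nat.dvd_prime Nat.prime_five).mp (orderOf_dvd_of_pow_eq_one hy) with h | h
      · rw [orderOf_eq_one_iff.mp h]; exact one_mem _
      · have hc := Subgroup.mem_centralizer_iff.mp (hcentral y h) x (hF5 x hx)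
        refine (hkey x y 5 5 Nat.prime_five Nat.prime_five hx h ?_).2 rfl
        rw [← hc, mul_inv_cancel_right]
        exact Subgroup.mem_zpowers x
    calc GStructB.OrderType.cnt C 5 ≤ Nat.card (Subgroup.zpowers x) :=
          Nat.card_le_card_of_injective (fun y => (⟨y.1, hmem y.1 y.2⟩ : Subgroup.zpowers x))
            fun a b h => Subtype.ext (congrArg Subtype.val h :)
      _ = 5 := by rw [Nat.card_zpowers, hx]
  · calc GStructB.OrderType.cnt C 5 ≤ Nat.card (⊥ : Subgroup C) :=
          Nat.card_le_card_of_injective (fun y => (⟨1, one_mem _⟩ : (⊥ : Subgroup C))) fun a b _ => by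
            have h1 : ∀ y : {g : C // g ^ 5 = 1}, y.1 = 1 := fun y => by
              rcases (Nat.dvd_prime Nat.prime_five).mp (orderOf_dvd_of_pow_eq_one y.2) with h | h
              · exact orderOf_eq_one_iff.mp h
              · exact absurd ⟨y.1, h⟩ hex
            exact Subtype.ext ((h1 a).trans (h1 b).symm)
      _ ≤ 5 := by rw [Subgroup.card_bot]; omega

/-- six solutions of `g ^ 5 = 1` in `SL(2,5)` -/
def fives (i : Fin 6) : Matrix (Fin 2) (Fin 2) (ZMod 5) :=
  if i = 5 then !![1, 0; 1, 1] else !![1, (i.val : ZMod 5); 0, 1]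

theorem six_fives : 6 ≤ GStructB.OrderType.cnt (Matrix.SpecialLinearGroup (Fin 2) (ZMod 5)) 5 := by
  have hdet : ∀ i : Fin 6, (fives i).det = 1 := fun i => by
    fin_cases i <;> simp [fives, Matrix.det_fin_two]
  have hpow : ∀ i : Fin 6, (fives i) ^ 5 = 1 := by decide
  have hinj : ∀ i j : Fin 6, fives i = fives j → i = j := by decide
  have h := Nat.card_le_card_of_injective
    (fun i : Fin 6 => (⟨⟨fives i, hdet i⟩, Subtype.ext
      ((Matrix.SpecialLinearGroup.coe_pow _ 5).trans (hpow i))⟩ :
        {g : Matrix.SpecialLinearGroup (Fin 2) (ZMod 5) // g ^ 5 = 1}))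
    (fun i j h => hinj i j (congrArg (fun g => g.1.1) h))
  rwa [Nat.card_fin] at h

theorem not_solvable_five {F : Type u} [Group F] [Finite F] {C : Subgroup F}
    (hC : Cfsg.IsFrobeniusComplement C) (hns : ¬ Group.IsSolvable C) :
    6 ≤ GStructB.OrderType.cnt C 5 := by
  obtain ⟨K, ⟨f⟩⟩ := (GStructB.TIComplement.complement_structure hC).2 hns
  refine six_fives.trans (Nat.card_le_card_of_injective
    (fun g => (⟨((f.symm g.1 : K) : C), ?_⟩ : {c : C // c ^ 5 = 1})) fun a b h => ?_)
  · rw [← Subgroup.coe_pow, ← map_pow, g.2, map_one]; rfl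
  · exact Subtype.ext (f.symm.injective (Subtype.ext (congrArg Subtype.val h :)))

/-- Let F be a finite Frobenius group (it has a Frobenius complement) and G a finite group with the same order type as F (for every m the same number of elements of order m). Then G is a Frobenius group; moreover G is solvable if and only if F is. -/
theorem result {F G : Type*} [Group F] [Finite F] [Group G] [Finite G] (hF : (∃ C : Subgroup F, Cfsg.IsFrobeniusComplement C)) (hT : (∀ m : ℕ, Nat.card {g : F // orderOf g = m} = Nat.card {h : G // orderOf h = m})) :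
    (∃ C : Subgroup G, Cfsg.IsFrobeniusComplement C) ∧ (Group.IsSolvable G ↔ Group.IsSolvable F) := by
  classical
  obtain ⟨C, hC⟩ := hF
  obtain ⟨K, hKset, hKn, hKnil⟩ := S0042.result C hC
  haveI := hKn
  obtain ⟨K', hK'set, -, hKc'⟩ := Cfsg.Agent.Characters.frobenius_kernel_theorem hC
  have hKeq : K' = K := SetLike.coe_injective (hK'set.trans hKset.symm)
  have hKc : K.IsComplement' C := hKeq ▸ hKc'
  have hK := Solvable.Frobenius.kernel_ne_bot hC hKc
  have hfpf := Solvable.Frobenius.fpf_of_kernel hC hKc
  have hcop : (Nat.card K).Coprime K.index := by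
    rw [hKc.symm.index_eq_card]
    exact (Coprime.fpf_coprime Subgroup.le_normalizer_of_normal hfpf).symm
  have hmix : ∀ x : F, orderOf x ∣ Nat.card K ∨ orderOf x ∣ K.index := by
    intro x
    by_cases hx : x ∈ K
    · exact Or.inl (Subgroup.orderOf_dvd_natCard K hx)
    · obtain ⟨g, hg⟩ := Solvable.Frobenius.exists_conj_mem_of_notMem_kernel
        (H := C) (x := x) (by rw [← hKset]; exact hx)
      right
      rw [hKc.symm.index_eq_card]
      obtain ⟨c, hc, rfl⟩ := hg
      show orderOf (MulAut.conj g c) ∣ _
      rw [MulEquiv.orderOf_eq]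
      exact Subgroup.orderOf_dvd_natCard C hc
  obtain ⟨e, he⟩ := GStructB.OrderType.exists_equiv hT
  have hc := GStructB.OrderType.cnt_eq hT
  obtain ⟨N, hNn, hNnil, hNK, hNcop⟩ := GStructB.OrderType.hall_transfer hc K hKnil hcop
  haveI := hNn
  have hidx : N.index = K.index := by
    have h1 := N.card_mul_index
    rw [hNK, ← GStructB.OrderType.cnt_zero G, ← hc, GStructB.OrderType.cnt_zero,
      ← K.card_mul_index] at h1
    exact Nat.eq_of_mul_eq_mul_left Nat.card_pos h1
  obtain ⟨D, hD⟩ := Subgroup.exists_right_complement'_of_coprime hNcop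
  have hN1 : N ≠ ⊥ := fun h => hK (Subgroup.card_eq_one.mp (by rw [← hNK, h, Subgroup.card_bot]))
  have hDc : Nat.card D = Nat.card C := by
    rw [← hD.symm.index_eq_card, hidx, hKc.symm.index_eq_card]
  have hD1 : D ≠ ⊥ := fun h => hC.1 (Subgroup.card_eq_one.mp (by rw [← hDc, h, Subgroup.card_bot]))
  have hDC : Cfsg.IsFrobeniusComplement D := by
    rw [Solvable.Frobenius.isFrobeniusComplement_iff_fpf N D hD hN1 hD1]
    intro d hd hd1
    rw [Subgroup.eq_bot_iff_forall]
    rintro n ⟨hn, hnc⟩
    by_contra hn1
    have hco : (orderOf n).Coprime (orderOf d) :=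
      (hNcop.coprime_dvd_left (Subgroup.orderOf_dvd_natCard N hn)).coprime_dvd_right
        (hD.symm.index_eq_card ▸ Subgroup.orderOf_dvd_natCard D hd)
    have hcom : Commute n d := (Subgroup.mem_centralizer_iff.mp hnc d rfl).symm
    have ho := hcom.orderOf_mul_eq_mul_orderOf_of_coprime hco
    obtain ⟨y, hy⟩ := e.surjective (n * d)
    rw [← hy, he] at ho
    rcases hmix y with h | h
    · rw [ho, ← hNK] at h
      exact hd1 (orderOf_eq_one_iff.mp (Nat.eq_one_of_dvd_coprimes hNcop
        ((dvd_mul_left _ _).trans h) (hD.symm.index_eq_card ▸ Subgroup.orderOf_dvd_natCard D hd)))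
    · rw [ho, ← hidx] at h
      exact hn1 (orderOf_eq_one_iff.mp (Nat.eq_one_of_dvd_coprimes hNcop
        (Subgroup.orderOf_dvd_natCard N hn) ((dvd_mul_right _ _).trans h)))
  refine ⟨⟨D, hDC⟩, ?_⟩
  have h5 : GStructB.OrderType.cnt D 5 = GStructB.OrderType.cnt C 5 := by
    have hq := GStructB.OrderType.quotient_transfer hc K N hcop hNcop hNK 5
    rw [GStructB.OrderType.cnt_congr hD.symm.QuotientMulEquiv.symm,
      GStructB.OrderType.cnt_congr hKc.symm.QuotientMulEquiv.symm, hq]
  have hiff : Group.IsSolvable D ↔ Group.IsSolvable C := by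
    constructor
    · intro h
      by_contra hn
      have := card_five_le hDC h
      have := not_solvable_five hC hn
      omega
    · intro h
      by_contra hn
      have := card_five_le hC h
      have := not_solvable_five hDC hn
      omega
  haveI := hKnil
  haveI := hNnil
  rw [Group.isSolvable_iff_subgroup_quotient N, Group.isSolvable_iff_subgroup_quotient K]
  constructor
  · rintro ⟨-, h⟩
    refine ⟨inferInstance, ?_⟩
    haveI := h
    haveI : Group.IsSolvable C := hiff.mp (Group.isSolvable_of_isSolvable_injective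
      (f := hD.symm.QuotientMulEquiv.symm.toMonoidHom) (MulEquiv.injective _))
    exact Group.isSolvable_of_isSolvable_injective
      (f := hKc.symm.QuotientMulEquiv.toMonoidHom) (MulEquiv.injective _)
  · rintro ⟨-, h⟩
    refine ⟨inferInstance, ?_⟩
    haveI := h
    haveI : Group.IsSolvable D := hiff.mpr (Group.isSolvable_of_isSolvable_injective
      (f := hKc.symm.QuotientMulEquiv.symm.toMonoidHom) (MulEquiv.injective _))
    exact Group.isSolvable_of_isSolvable_injective
      (f := hD.symm.QuotientMulEquiv.toMonoidHom) (MulEquiv.injective _)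

end Cfsg.Agent.S3999
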