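import Cfsg.Statements.S4001
import Mathlib
import Cfsg.Agent.Solvable.Frobenius
import Cfsg.Agent.Solvable.Thompson
import Cfsg.Agent.GStructB.PElements
import Cfsg.Agent.Lib.Coprime.FixedPointFree
import Cfsg.Agent.Lib.Cores.Fitting
import Cfsg.Agent.Lib.CN.Basic

set_option autoImplicit false
open Cfsg
set_option maxHeartbeats 2000000

namespace Cfsg.Agent.S4001
open scoped Pointwise

theorem frobenius_data {X : Type*} [Group X] [Finite X] (N : Subgroup X) {C : Subgroup X}
    [N.Normal] (hC : Cfsg.IsFrobeniusComplement C) (hset : Cfsg.frobeniusKernel C = (N : Set X)) :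
    N.IsComplement' C ∧ (∀ b ∈ N, b ≠ 1 → ∀ a : X, a * b = b * a → a ∈ N) ∧
      (∀ h ∈ C, h ≠ 1 → N ⊓ Subgroup.centralizer {h} = ⊥) := by
  obtain ⟨M, hM, -, hMc⟩ := Characters.frobenius_kernel_theorem hC
  obtain rfl : M = N := SetLike.coe_injective (hM.trans hset)
  have hfpf := Solvable.Frobenius.fpf_of_kernel hC hMc
  refine ⟨hMc, fun b hb hb1 a hab => ?_, hfpf⟩
  by_contra ha
  have h1 : a ∉ Cfsg.frobeniusKernel C := by rw [hset]; exact ha
  simp only [Cfsg.frobeniusKernel, Set.mem_ofPred_eq, not_or, not_forall, not_not] at h1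
  obtain ⟨ha1, g, hg⟩ := h1
  rw [Subgroup.mem_pointwise_smul_iff_inv_smul_mem, ← map_inv] at hg
  have hg' : g⁻¹ * a * g ∈ C := by simpa [MulAut.smul_def] using hg
  have hb' : g⁻¹ * b * g ∈ M := by
    simpa using (inferInstance : M.Normal).conj_mem b hb g⁻¹
  have hne : g⁻¹ * a * g ≠ 1 := fun h => ha1 (by
    have := congrArg (fun y => g * y * g⁻¹) h
    simpa [mul_assoc] using this)
  have h2 := Coprime.fpf_eq_one hfpf hg' hne hb' (by
    calc g⁻¹ * b * g * (g⁻¹ * a * g) = g⁻¹ * (b * a) * g := by group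
      _ = _ := by rw [← hab]; group)
  exact hb1 (by
    have := congrArg (fun y => g * y * g⁻¹) h2
    simpa [mul_assoc] using this)

theorem isNilpotent_kernel {X : Type*} [Group X] [Finite X] (N C : Subgroup X) [N.Normal] (hC1 : C ≠ ⊥)
    (hfpf : ∀ h ∈ C, h ≠ 1 → N ⊓ Subgroup.centralizer {h} = ⊥) : Group.IsNilpotent N := by
  obtain ⟨q, hq, hqd⟩ := Nat.exists_prime_and_dvd (mt Subgroup.card_eq_one.mp hC1 : Nat.card C ≠ 1)
  haveI := Fact.mk hq
  obtain ⟨c, hc⟩ := exists_prime_orderOf_dvd_card' q hqd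
  have hcq : (c : X) ^ q = 1 := by
    have := pow_orderOf_eq_one (c : X)
    rwa [Subgroup.orderOf_coe, hc] at this
  have hc1 : (c : X) ≠ 1 := fun h => by
    rw [← Subgroup.orderOf_coe, h, orderOf_one] at hc
    exact hq.ne_one hc.symm
  refine Solvable.Thompson.isNilpotent_of_fixedPointFree (MulAut.conjNormal (c : X)) (p := q) hq ?_ ?_
  · intro v hv
    have h1 : (c : X) * (v : X) * (c : X)⁻¹ = v := congrArg Subtype.val hv
    exact Subtype.ext (Coprime.fpf_eq_one hfpf c.2 hc1 v.2 (mul_inv_eq_iff_eq_mul.mp h1).symm)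
  · rw [← map_pow, hcq, map_one]

theorem card_map_mk {X : Type*} [Group X] [Finite X] (H K : Subgroup X) [H.Normal] :
    Nat.card (K.map (QuotientGroup.mk' H)) = Nat.card (K ⧸ H.subgroupOf K) := by
  have hker : ((QuotientGroup.mk' H).subgroupMap K).ker = H.subgroupOf K := by
    ext x
    rw [MonoidHom.mem_ker, Subgroup.mem_subgroupOf]
    exact ⟨fun h => (QuotientGroup.eq_one_iff (x : X)).mp (congrArg Subtype.val h),
      fun h => Subtype.ext ((QuotientGroup.eq_one_iff (x : X)).mpr h)⟩
  rw [← Nat.card_congr (QuotientGroup.quotientKerEquivOfSurjective _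
    (MonoidHom.subgroupMap_surjective (QuotientGroup.mk' H) K)).toEquiv]
  exact Nat.card_congr (QuotientGroup.quotientMulEquivOfEq hker).toEquiv

theorem complement_bijective {X : Type*} [Group X] [Finite X] (H K : Subgroup X) [H.Normal]
    (C : Subgroup K) (hc : (H.subgroupOf K).IsComplement' C) :
    Function.Bijective (((QuotientGroup.mk' H).subgroupMap K).comp C.subtype) := by
  have hinj : Function.Injective (((QuotientGroup.mk' H).subgroupMap K).comp C.subtype) := by
    rw [injective_iff_map_eq_one]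
    intro x hx
    have h1 : QuotientGroup.mk' H ((x : K) : X) = 1 := congrArg Subtype.val hx
    exact Subtype.ext (Subgroup.mem_bot.mp (hc.disjoint.le_bot
      ⟨Subgroup.mem_subgroupOf.mpr ((QuotientGroup.eq_one_iff ((x : K) : X)).mp h1), x.2⟩))
  exact hinj.bijective_of_nat_card_le (by rw [card_map_mk, ← Subgroup.index_eq_card, hc.symm.index_eq_card])

/-- A complement maps isomorphically to the quotient. -/
noncomputable def complementEquiv {X : Type*} [Group X] [Finite X] (H K : Subgroup X) [H.Normal]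
    (C : Subgroup K) (hc : (H.subgroupOf K).IsComplement' C) : C ≃* K.map (QuotientGroup.mk' H) :=
  MulEquiv.ofBijective _ (complement_bijective H K C hc)

theorem quotient_isCyclic {X : Type*} [Group X] [Finite X] (H K : Subgroup X) [H.Normal] [K.Normal]
    (hHK : H ≤ K) (L : Subgroup (X ⧸ H)) (hc : (K.map (QuotientGroup.mk' H)).IsComplement' L)
    (hL : IsCyclic L) : IsCyclic (X ⧸ K) := by
  let φ : X ⧸ H →* X ⧸ K := QuotientGroup.map H K (MonoidHom.id X) (fun x hx => hHK hx)
  have hsurj : Function.Surjective (φ.comp L.subtype) := by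
    intro z
    obtain ⟨x, rfl⟩ := QuotientGroup.mk'_surjective K z
    have : (K.map (QuotientGroup.mk' H)).Normal :=
      Subgroup.Normal.map inferInstance _ (QuotientGroup.mk'_surjective H)
    obtain ⟨_, ⟨k, hk, rfl⟩, l, hl, hkl⟩ := Subgroup.mem_sup_of_normal_left.mp
      (show QuotientGroup.mk' H x ∈ K.map (QuotientGroup.mk' H) ⊔ L by rw [hc.sup_eq_top]; exact Subgroup.mem_top _)
    refine ⟨⟨l, hl⟩, ?_⟩
    have h1 := congrArg φ hkl
    rw [map_mul] at h1
    have h2 : φ (QuotientGroup.mk' H k) = 1 := (QuotientGroup.eq_one_iff k).mpr hk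
    rw [h2, one_mul] at h1
    exact h1
  exact isCyclic_of_surjective _ hsurj

theorem mem_of_coprime {X : Type*} [Group X] [Finite X] (K : Subgroup X) [K.Normal] {a : X}
    (h : (orderOf a).Coprime (Nat.card (X ⧸ K))) : a ∈ K :=
  (QuotientGroup.eq_one_iff a).mp (orderOf_eq_one_iff.mp (Nat.eq_one_of_dvd_coprimes h
    (orderOf_map_dvd (QuotientGroup.mk' K) a) (orderOf_dvd_natCard _)))

theorem mem_of_coprime_le {X : Type*} [Group X] [Finite X] (H K : Subgroup X) [H.Normal] {b : X} (hb : b ∈ K)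
    (h : (orderOf b).Coprime (Nat.card (K ⧸ H.subgroupOf K))) : b ∈ H := by
  have h1 := mem_of_coprime (H.subgroupOf K) (a := (⟨b, hb⟩ : K)) (by rwa [Subgroup.orderOf_mk])
  exact Subgroup.mem_subgroupOf.mp h1

theorem conj_mem_zpowers_of_isCyclic {X : Type*} [Group X] [Finite X] (R : Subgroup X) [IsCyclic R] {x y : X}
    (hx : x ∈ R) {r : ℕ} (hr : r.Prime) (hxr : orderOf x = r) (hy : y ∈ R) (hyr : orderOf y = r) :
    y ∈ Subgroup.zpowers x := by
  classical
  have := Fintype.ofFinite R
  set u : R := ⟨x, hx⟩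
  have hu : orderOf u = r := by rw [Subgroup.orderOf_mk, hxr]
  have hsub : ((Subgroup.zpowers u : Subgroup R) : Set R).toFinset = Finset.univ.filter (fun z => z ^ r = 1) := by
    refine Finset.eq_of_subset_of_card_le (fun z hz => ?_) ?_
    · rw [Set.mem_toFinset] at hz
      obtain ⟨j, rfl⟩ := hz
      simp only [Finset.mem_filter, Finset.mem_univ, true_and]
      rw [← zpow_natCast, ← zpow_mul, ← orderOf_dvd_iff_zpow_eq_one, hu]
      exact dvd_mul_left _ _
    · refine (IsCyclic.card_pow_eq_one_le hr.pos).trans (le_of_eq ?_)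
      rw [Set.toFinset_card, ← Nat.card_eq_fintype_card]
      exact ((Nat.card_zpowers u).trans hu).symm
  have hv : (⟨y, hy⟩ : R) ∈ ((Subgroup.zpowers u : Subgroup R) : Set R).toFinset := by
    rw [hsub, Finset.mem_filter]
    exact ⟨Finset.mem_univ _, Subtype.ext (orderOf_dvd_iff_pow_eq_one.mp hyr.dvd)⟩
  rw [Set.mem_toFinset] at hv
  obtain ⟨j, hj⟩ := hv
  exact ⟨j, by simpa [u] using congrArg Subtype.val hj⟩

theorem mem_normalizer_zpowers {X : Type*} [Group X] [Finite X] {w x : X}
    (h : w * x * w⁻¹ ∈ Subgroup.zpowers x) : w ∈ Subgroup.normalizer (Subgroup.zpowers x : Set X) := by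
  have hle : MulAut.conj w • Subgroup.zpowers x ≤ Subgroup.zpowers x := by
    intro n hn
    obtain ⟨m, ⟨j, rfl⟩, rfl⟩ := (Subgroup.mem_smul_pointwise_iff_exists _ _ _).mp hn
    show w * x ^ j * w⁻¹ ∈ _
    rw [← conj_zpow]
    exact Subgroup.zpow_mem _ h j
  exact Coprime.conj_smul_eq_self_iff.mp
    (Subgroup.eq_of_le_of_card_ge hle (le_of_eq (Coprime.card_conj_smul w _).symm))

/-- Let G be a 2-Frobenius group: it has normal subgroups H < K with K a Frobenius group with kernel H and G/H a Frobenius group with kernel K/H. Then G is solvable; K/H has odd order coprime to the order of H and to the order of G/K (it is the image of an odd-order Hall subgroup); G/K is cyclic; and the prime graph of G has exactly two connected components, both complete: for distinct primes p, q dividing the order of G, G has an element of order pq exactly when p and q either both divide the order of K/H or both do not. -/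
theorem result {G : Type*} [Group G] [Finite G] (H K : Subgroup G) [H.Normal] [K.Normal] (hlt : H < K)
    (hK : ∃ C : Subgroup ↥K, Cfsg.IsFrobeniusComplement C ∧ Cfsg.frobeniusKernel C = (H.subgroupOf K : Set ↥K))
    (hGH : ∃ C : Subgroup (G ⧸ H), Cfsg.IsFrobeniusComplement C ∧ Cfsg.frobeniusKernel C = (K.map (QuotientGroup.mk' H) : Set (G ⧸ H))) :
    Group.IsSolvable G ∧ Odd (Nat.card (↥K ⧸ H.subgroupOf K)) ∧
      Nat.Coprime (Nat.card (↥K ⧸ H.subgroupOf K)) (Nat.card ↥H * Nat.card (G ⧸ K)) ∧ IsCyclic (G ⧸ K) ∧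
      ∀ p q : ℕ, p.Prime → q.Prime → p ≠ q → p ∣ Nat.card G → q ∣ Nat.card G →
        ((∃ g : G, orderOf g = p * q) ↔ (p ∣ Nat.card (↥K ⧸ H.subgroupOf K) ↔ q ∣ Nat.card (↥K ⧸ H.subgroupOf K))) := by
  classical
  obtain ⟨C, hC, hCset⟩ := hK
  obtain ⟨L, hL, hLset⟩ := hGH
  set f := QuotientGroup.mk' H with hf
  set Kb := K.map f with hKb
  have hKbn : Kb.Normal := Subgroup.Normal.map inferInstance f (QuotientGroup.mk'_surjective H)
  obtain ⟨hcK, hfixK, hfKC⟩ := frobenius_data (H.subgroupOf K) hC hCset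
  obtain ⟨hcG, hfixG, hfGL⟩ := frobenius_data Kb hL hLset
  -- sizes
  have hcardC : Nat.card C = Nat.card (K ⧸ H.subgroupOf K) := by
    rw [← Subgroup.index_eq_card, hcK.symm.index_eq_card]
  have hcardKb : Nat.card Kb = Nat.card (K ⧸ H.subgroupOf K) := card_map_mk H K
  have hcardL : Nat.card L = Nat.card (G ⧸ K) := by
    rw [← Subgroup.index_eq_card, ← hcG.symm.index_eq_card, hKb,
      Subgroup.index_map_eq K (QuotientGroup.mk'_surjective H)]
    rw [QuotientGroup.ker_mk']
    exact hlt.le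
  have hHk : H.subgroupOf K ≠ ⊥ := Solvable.Frobenius.kernel_ne_bot hC hcK
  have hKb1 : Kb ≠ ⊥ := Solvable.Frobenius.kernel_ne_bot hL hcG
  -- the kernels are nilpotent
  have hHnil : Group.IsNilpotent H := by
    have h1 := isNilpotent_kernel (H.subgroupOf K) C hC.1 hfKC
    exact Group.nilpotent_of_mulEquiv (Subgroup.subgroupOfEquivOfLe hlt.le)
  have hKbnil : Group.IsNilpotent Kb := isNilpotent_kernel Kb L hL.1 hfGL
  -- coprimality
  have hcop1 : (Nat.card (K ⧸ H.subgroupOf K)).Coprime (Nat.card H) := by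
    have := Coprime.fpf_coprime (A := C) (K := H.subgroupOf K)
      (by rw [Subgroup.normalizer_eq_top]; exact le_top) hfKC
    rwa [hcardC, Nat.card_congr (Subgroup.subgroupOfEquivOfLe hlt.le).toEquiv] at this
  have hcop2 : (Nat.card (K ⧸ H.subgroupOf K)).Coprime (Nat.card (G ⧸ K)) := by
    have := Coprime.fpf_coprime (A := L) (K := Kb) (by rw [Subgroup.normalizer_eq_top]; exact le_top) hfGL
    rw [hcardKb, hcardL] at this
    exact this.symm
  -- the middle factor has odd order
  let e : C ≃* Kb := complementEquiv H K C hcK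
  have hodd : Odd (Nat.card C) := by
    rw [Nat.odd_iff]
    by_contra hne
    have h2 : 2 ∣ Nat.card C := by omega
    haveI : Fact (Nat.Prime 2) := ⟨Nat.prime_two⟩
    obtain ⟨s, hs⟩ := exists_prime_orderOf_dvd_card' 2 h2
    have huniq : ∀ t : C, orderOf t = 2 → t = s := fun t ht => Subtype.ext
      (Solvable.Frobenius.fpf_involution_unique (A := C) (K := H.subgroupOf K)
        (by rw [Subgroup.normalizer_eq_top]; exact le_top) hfKC hHk s.2
        (by rw [Subgroup.orderOf_coe, hs]) t.2 (by rw [Subgroup.orderOf_coe, ht]))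
    obtain ⟨l, hl, hl1⟩ : ∃ l ∈ L, l ≠ 1 := by
      by_contra h
      push Not at h
      exact hL.1 ((Subgroup.eq_bot_iff_forall L).mpr h)
    set t : Kb := e s with ht
    let t' : Kb := ⟨l * (t : G ⧸ H) * l⁻¹, hKbn.conj_mem _ t.2 l⟩
    have ht' : orderOf (e.symm t') = 2 := by
      rw [e.symm.orderOf_eq, Subgroup.orderOf_mk]
      refine ((orderOf_injective (MulAut.conj l).toMonoidHom (MulAut.conj l).injective (t : G ⧸ H))).trans ?_
      rw [Subgroup.orderOf_coe, ht, e.orderOf_eq, hs]
    have h3 : t' = t := by rw [ht, ← huniq _ ht', e.apply_symm_apply]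
    have h4 : (t : G ⧸ H) = 1 := Coprime.fpf_eq_one hfGL hl hl1 t.2
      (mul_inv_eq_iff_eq_mul.mp (congrArg Subtype.val h3)).symm
    rw [← orderOf_eq_one_iff, Subgroup.orderOf_coe, ht, e.orderOf_eq, hs] at h4
    omega
  -- hence it is cyclic
  have hCcyc : IsCyclic C := by
    have : Group.IsNilpotent C := Group.nilpotent_of_mulEquiv e.symm
    have : IsZGroup C := by
      refine ⟨fun p hp P => ?_⟩
      haveI := Fact.mk hp
      rcases Coprime.fpf_isCyclic_or_quaternion (A := (P : Subgroup C).map C.subtype) (K := H.subgroupOf K)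
        (P.2.map _) (by rw [Subgroup.normalizer_eq_top]; exact le_top)
        (Coprime.fpf_mono hfKC (Subgroup.map_subtype_le _) le_rfl) hHk with h | ⟨rfl, k, ⟨g⟩⟩
      · exact ((P : Subgroup C).equivMapOfInjective C.subtype C.subtype_injective).isCyclic.mpr h
      · exfalso
        have h1 : 2 ∣ Nat.card ((P : Subgroup C).map C.subtype) := by
          rw [Nat.card_congr g.toEquiv, Nat.card_eq_fintype_card, QuaternionGroup.card]
          exact dvd_mul_of_dvd_left (by norm_num) _
        rw [Subgroup.card_subtype] at h1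
        exact (Nat.not_even_iff_odd.mpr hodd) (even_iff_two_dvd.mpr (h1.trans (Subgroup.card_subgroup_dvd_card _)))
    infer_instance
  have hKbcyc : IsCyclic Kb := e.isCyclic.mp hCcyc
  have hLcyc : IsCyclic L := by
    have hLab : IsMulCommutative L := by
      refine ⟨⟨fun a b => ?_⟩⟩
      let φ : L →* MulAut Kb := (MulAut.conjNormal).comp L.subtype
      refine (?_ : Function.Injective φ) ?_
      · rw [injective_iff_map_eq_one]
        intro a ha
        by_contra ha1
        refine hKb1 ((Subgroup.eq_bot_iff_forall Kb).mpr fun v hv => ?_)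
        have h1 := congrArg (fun g : MulAut Kb => ((g ⟨v, hv⟩ : Kb) : G ⧸ H)) ha
        simp only [φ, MonoidHom.comp_apply, MulAut.conjNormal_apply, MulAut.one_apply, Subgroup.coe_subtype] at h1
        exact Coprime.fpf_eq_one hfGL a.2 (fun h => ha1 (Subtype.ext h)) hv (mul_inv_eq_iff_eq_mul.mp h1).symm
      · rw [map_mul, map_mul]
        exact (IsCyclic.mulAutMulEquiv Kb).injective (by rw [map_mul, map_mul, mul_comm])
    exact Coprime.fpf_isCyclic_of_abelian (by rw [Subgroup.normalizer_eq_top]; exact le_top) hfGL hKb1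
  -- the quotient
  have hGKcyc : IsCyclic (G ⧸ K) := quotient_isCyclic H K hlt.le L hcG hLcyc
  have hHsolv : Group.IsSolvable H := inferInstance
  have hKsolv : Group.IsSolvable K := by
    refine Group.isSolvable_of_ker_le_range (Subgroup.inclusion hlt.le) (f.subgroupMap K) ?_
      (hG' := hHsolv) (hG'' := Group.isSolvable_of_comm fun a b => ?_)
    · intro x hx
      rw [Subgroup.inclusion_range, Subgroup.mem_subgroupOf]
      exact (QuotientGroup.eq_one_iff (x : G)).mp (congrArg Subtype.val (MonoidHom.mem_ker.mp hx))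
    · letI : CommGroup Kb := IsCyclic.commGroup
      exact mul_comm a b
  have hGsolv : Group.IsSolvable G := by
    refine Group.isSolvable_of_ker_le_range K.subtype (QuotientGroup.mk' K) ?_
      (hG' := hKsolv) (hG'' := Group.isSolvable_of_comm fun a b => ?_)
    · rw [QuotientGroup.ker_mk', Subgroup.range_subtype]
    · letI : CommGroup (G ⧸ K) := IsCyclic.commGroup
      exact mul_comm a b
  refine ⟨hGsolv, hcardC ▸ hodd, hcop1.mul_right hcop2, hGKcyc, ?_⟩
  -- no element of order `p * q` joins the middle factor to the rest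
  have hsep : ∀ p q : ℕ, p.Prime → q.Prime → p ∣ Nat.card (K ⧸ H.subgroupOf K) →
      ¬ q ∣ Nat.card (K ⧸ H.subgroupOf K) → ∀ a b : G, orderOf a = p → orderOf b = q → Commute a b → False := by
    intro p q hp hq hpc hqc a b ha hb hab
    have haK : a ∈ K := mem_of_coprime K (ha ▸ hcop2.coprime_dvd_left hpc)
    have haH : a ∉ H := fun h => by
      have h1 := H.orderOf_dvd_natCard h
      rw [ha] at h1
      exact hp.ne_one (Nat.eq_one_of_dvd_coprimes hcop1 hpc h1)
    have ha1 : f a ≠ 1 := fun h => haH ((QuotientGroup.eq_one_iff a).mp h)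
    have hbKb : f b ∈ Kb := hfixG (f a) ⟨a, haK, rfl⟩ ha1 (f b) (hab.map f).symm
    have hbK : b ∈ K := by
      obtain ⟨k, hk, hkb⟩ := hbKb
      have h1 : k⁻¹ * b ∈ H := QuotientGroup.eq.mp hkb
      have := mul_mem hk (hlt.le h1)
      rwa [mul_inv_cancel_left] at this
    have hbH : b ∈ H := mem_of_coprime_le H K hbK (hb ▸ hq.coprime_iff_not_dvd.mpr hqc)
    have hb1 : (⟨b, hbK⟩ : K) ≠ 1 := fun h => by
      rw [← Subgroup.orderOf_mk b hbK, h, orderOf_one] at hb
      exact hq.ne_one hb.symm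
    exact haH (Subgroup.mem_subgroupOf.mp (hfixK ⟨b, hbK⟩ (Subgroup.mem_subgroupOf.mpr hbH) hb1 ⟨a, haK⟩
      (Subtype.ext hab.eq)))
  intro p q hp hq hpq hpG hqG
  constructor
  · rintro ⟨g, hg⟩
    have ha : orderOf (g ^ q) = p := by
      rw [orderOf_pow_of_dvd hq.ne_zero (hg ▸ dvd_mul_left q p), hg, Nat.mul_div_cancel _ hq.pos]
    have hb : orderOf (g ^ p) = q := by
      rw [orderOf_pow_of_dvd hp.ne_zero (hg ▸ dvd_mul_right p q), hg, Nat.mul_div_cancel_left _ hp.pos]
    have hc : Commute (g ^ q) (g ^ p) := (Commute.refl g).pow_pow q p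
    constructor
    · intro h1
      by_contra h2
      exact hsep p q hp hq h1 h2 _ _ ha hb hc
    · intro h1
      by_contra h2
      exact hsep q p hq hp h1 h2 _ _ hb ha hc.symm
  intro hiff
  haveI := Fact.mk hp
  haveI := Fact.mk hq
  have hcop := (Nat.coprime_primes hp hq).mpr hpq
  by_cases hpc : p ∣ Nat.card (K ⧸ H.subgroupOf K)
  · obtain ⟨g, hg⟩ := hCcyc.exists_ofOrder_eq_natCard
    refine ⟨((g ^ (orderOf g / (p * q)) : C) : K), ?_⟩
    rw [Subgroup.orderOf_coe, Subgroup.orderOf_coe]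
    exact orderOf_pow_orderOf_div (orderOf_pos g).ne'
      (by rw [hg, hcardC]; exact hcop.mul_dvd_of_dvd_of_dvd hpc (hiff.mp hpc))
  have hqc : ¬ q ∣ Nat.card (K ⧸ H.subgroupOf K) := fun h => hpc (hiff.mpr h)
  have hG : Nat.card G = Nat.card H * Nat.card (K ⧸ H.subgroupOf K) * Nat.card (G ⧸ K) := by
    rw [← Subgroup.index_eq_card, ← Subgroup.index_eq_card, ← Nat.card_congr (Subgroup.subgroupOfEquivOfLe hlt.le).toEquiv,
      Subgroup.card_mul_index, Subgroup.card_mul_index]
  -- one prime divides `H`, the other only `G ⧸ K`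
  have hmixed : ∀ p q : ℕ, p.Prime → q.Prime → p ≠ q → p ∣ Nat.card H →
      ¬ q ∣ Nat.card H → ¬ q ∣ Nat.card (K ⧸ H.subgroupOf K) → q ∣ Nat.card (G ⧸ K) → ∃ g : G, orderOf g = p * q := by
    intro p q hp hq hpq hpH hqH hqc hql
    haveI := Fact.mk hp
    haveI := Fact.mk hq
    by_contra hcon
    obtain ⟨r, hr, hrc⟩ := Nat.exists_prime_and_dvd (n := Nat.card (K ⧸ H.subgroupOf K)) (by
      rw [← hcardC]; exact mt Subgroup.card_eq_one.mp hC.1)
    haveI := Fact.mk hr
    have hrq : r ≠ q := fun h => hqc (h ▸ hrc)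
    have hrH : ¬ r ∣ Nat.card H := fun h => hr.ne_one (Nat.eq_one_of_dvd_coprimes hcop1 hrc h)
    obtain ⟨R⟩ : Nonempty (Sylow r K) := inferInstance
    have hinj : Function.Injective ((f.comp K.subtype).comp (R : Subgroup K).subtype) := by
      rw [injective_iff_map_eq_one]
      intro x hx
      have h1 : ((x : K) : G) ∈ H := (QuotientGroup.eq_one_iff _).mp hx
      obtain ⟨i, hi⟩ := IsPGroup.iff_orderOf.mp R.2 x
      have h2 := H.orderOf_dvd_natCard h1
      rw [Subgroup.orderOf_coe, Subgroup.orderOf_coe, hi] at h2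
      rcases Nat.eq_zero_or_pos i with rfl | hi0
      · exact orderOf_eq_one_iff.mp (by rw [hi, pow_zero])
      · exact absurd ((dvd_pow_self r hi0.ne').trans h2) hrH
    have hRcyc : IsCyclic (R : Subgroup K) := by
      let f' : (R : Subgroup K) →* Kb := ((f.comp K.subtype).comp (R : Subgroup K).subtype).codRestrict Kb
        fun x => ⟨_, (x : K).2, rfl⟩
      exact isCyclic_of_injective f' fun a b hab => hinj (congrArg Subtype.val hab)
    obtain ⟨x₀, hx₀⟩ := exists_prime_orderOf_dvd_card' (G := (R : Subgroup K)) r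
      (R.dvd_card_of_dvd_card (hrc.trans (Subgroup.card_quotient_dvd_card _)))
    set x : G := ((x₀ : K) : G) with hxdef
    have hx : orderOf x = r := by rw [hxdef, Subgroup.orderOf_coe, Subgroup.orderOf_coe, hx₀]
    set Rg := (R : Subgroup K).map K.subtype with hRg
    have hRgcyc : IsCyclic Rg := ((R : Subgroup K).equivMapOfInjective K.subtype K.subtype_injective).isCyclic.mp hRcyc
    have hxR : x ∈ Rg := ⟨_, x₀.2, rfl⟩
    have hfrat : Subgroup.normalizer (Rg : Set G) ⊔ K = ⊤ := Sylow.normalizer_sup_eq_top R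
    obtain ⟨wb, hwb⟩ := exists_prime_orderOf_dvd_card' (G := G ⧸ K) q hql
    obtain ⟨w₀, rfl⟩ := QuotientGroup.mk'_surjective K wb
    obtain ⟨n, hn, k, hk, rfl⟩ := Subgroup.mem_sup_of_normal_right.mp
      (show w₀ ∈ Subgroup.normalizer (Rg : Set G) ⊔ K by rw [hfrat]; exact Subgroup.mem_top _)
    have hnim : orderOf (QuotientGroup.mk' K n) = q := by
      rw [← hwb, map_mul, show QuotientGroup.mk' K k = 1 from (QuotientGroup.eq_one_iff k).mpr hk, mul_one]
    have hqn : q ∣ orderOf n := (dvd_of_eq hnim.symm).trans (orderOf_map_dvd _ n)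
    obtain ⟨i, s, hns, hqs, hnp⟩ := GStructB.PElements.exists_split q n
    set w := n ^ s with hwdef
    have hwN : w ∈ Subgroup.normalizer (Rg : Set G) := Subgroup.pow_mem _ hn s
    have hwK : w ∉ K := fun h => by
      have h1 : (QuotientGroup.mk' K n) ^ s = 1 := by
        rw [← map_pow]; exact (QuotientGroup.eq_one_iff _).mpr h
      exact hqs (hnim ▸ orderOf_dvd_of_pow_eq_one h1)
    have hwq : orderOf w = q := by
      refine orderOf_eq_prime ?_ fun h => hwK (h ▸ one_mem K)
      have h1 : w ^ q ∈ K := by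
        rw [hwdef, ← pow_mul, mul_comm, pow_mul]
        refine Subgroup.pow_mem _ ((QuotientGroup.eq_one_iff _).mp ?_) _
        show QuotientGroup.mk' K (n ^ q) = 1
        rw [map_pow, ← hnim]; exact pow_orderOf_eq_one _
      have h2 : orderOf (w ^ q) ∣ q ^ i := (orderOf_pow_dvd _).trans hnp.dvd
      have h3 : orderOf (w ^ q) ∣ Nat.card K := K.orderOf_dvd_natCard h1
      have h4 : (q ^ i).Coprime (Nat.card K) := by
        apply Nat.Coprime.pow_left
        rw [hq.coprime_iff_not_dvd, ← (H.subgroupOf K).card_mul_index,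
          Nat.card_congr (Subgroup.subgroupOfEquivOfLe hlt.le).toEquiv, Subgroup.index_eq_card]
        exact fun h => (hq.dvd_mul.mp h).elim hqH hqc
      exact orderOf_eq_one_iff.mp (Nat.eq_one_of_dvd_coprimes h4 h2 h3)
    have hxK : x ∈ K := (x₀ : K).2
    have hwX : w * x * w⁻¹ ∈ Subgroup.zpowers x := by
      refine conj_mem_zpowers_of_isCyclic Rg hxR hr hx ((Subgroup.mem_normalizer_iff.mp hwN x).mp hxR) ?_
      exact (orderOf_injective (MulAut.conj w).toMonoidHom (MulAut.conj w).injective x).trans hx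
    have hnocomm : ¬ Commute w x := fun h => by
      have h1 : f x ≠ 1 := fun h1 => hrH (hx ▸ H.orderOf_dvd_natCard ((QuotientGroup.eq_one_iff x).mp h1))
      obtain ⟨k, hk, hkw⟩ := hfixG (f x) ⟨x, hxK, rfl⟩ h1 (f w) (h.map f)
      have h2 := mul_mem hk (hlt.le (QuotientGroup.eq.mp hkw))
      rw [mul_inv_cancel_left] at h2
      exact hwK h2
    set A := Subgroup.zpowers x ⊔ Subgroup.zpowers w
    have hnormx : Subgroup.zpowers w ≤ Subgroup.normalizer (Subgroup.zpowers x : Set G) := by
      rw [Subgroup.zpowers_le]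
      exact mem_normalizer_zpowers hwX
    have hAcard : Nat.card A = r * q := by
      rw [Coprime.card_sup_of_coprime hnormx (by
        rw [Nat.card_zpowers, Nat.card_zpowers, hx, hwq]; exact (Nat.coprime_primes hr hq).mpr hrq),
        Nat.card_zpowers, Nat.card_zpowers, hx, hwq]
    set P := Cfsg.pCore p G
    have hPH : P ⊓ H ≠ ⊥ := by
      obtain ⟨S⟩ : Nonempty (Sylow p H) := inferInstance
      haveI : (S : Subgroup H).Characteristic := S.characteristic_of_normal inferInstance
      have h1 : (S : Subgroup H).map H.subtype ≤ P ⊓ H :=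
        le_inf (Cores.le_pCore (S.2.map H.subtype)) (Subgroup.map_subtype_le _)
      intro h
      rw [h, le_bot_iff, Subgroup.map_eq_bot_iff_of_injective _ H.subtype_injective] at h1
      exact S.ne_bot_of_dvd_card hpH h1
    have hfpf : ∀ a ∈ A, a ≠ 1 → (P ⊓ H) ⊓ Subgroup.centralizer {a} = ⊥ := by
      intro a ha ha1
      rw [Subgroup.eq_bot_iff_forall]
      rintro v ⟨hv, hvc⟩
      by_contra hv1
      have hcv : Commute v a := Subgroup.mem_centralizer_singleton_iff.mp hvc
      obtain ⟨s, hs, hsd⟩ := Nat.exists_prime_and_dvd (fun h => ha1 (orderOf_eq_one_iff.mp h))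
      have hb : orderOf (a ^ (orderOf a / s)) = s := orderOf_pow_orderOf_div (orderOf_pos a).ne' hsd
      obtain ⟨j, hj⟩ := IsPGroup.iff_orderOf.mp (Cores.pCore_isPGroup (G := G) p) ⟨v, hv.1⟩
      rw [Subgroup.orderOf_mk] at hj
      have hj0 : j ≠ 0 := fun h => hv1 (orderOf_eq_one_iff.mp (by rw [hj, h, pow_zero]))
      have hc : orderOf (v ^ (orderOf v / p)) = p :=
        orderOf_pow_orderOf_div (orderOf_pos v).ne' (hj ▸ dvd_pow_self p hj0)
      have hsrq : s = r ∨ s = q := by
        have := hsd.trans ((A.orderOf_dvd_natCard ha).trans hAcard.dvd)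
        rcases hs.dvd_mul.mp this with h | h
        · exact Or.inl ((Nat.prime_dvd_prime_iff_eq hs hr).mp h)
        · exact Or.inr ((Nat.prime_dvd_prime_iff_eq hs hq).mp h)
      rcases hsrq with rfl | rfl
      · exact hsep s p hr hp hrc (fun h => hp.ne_one (Nat.eq_one_of_dvd_coprimes hcop1 h hpH)) _ _ hb hc
          (hcv.symm.pow_pow _ _)
      · refine hcon ⟨v ^ (orderOf v / p) * a ^ (orderOf a / s), ?_⟩
        rw [(hcv.pow_pow _ _).orderOf_mul_eq_mul_orderOf_of_coprime (by
          rw [hb, hc]; exact (Nat.coprime_primes hp hq).mpr hpq), hb, hc]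
    have hAcyc := Coprime.fpf_isCyclic_of_card_mul_prime hr hq hAcard
      (A := A) (K := P ⊓ H) (by rw [Subgroup.normalizer_eq_top]; exact le_top) hfpf hPH
    letI : CommGroup A := IsCyclic.commGroup
    exact hnocomm (congrArg Subtype.val (mul_comm
      (⟨w, Subgroup.mem_sup_right (Subgroup.mem_zpowers w)⟩ : A) ⟨x, Subgroup.mem_sup_left (Subgroup.mem_zpowers x)⟩))
  have hsplit : ∀ s : ℕ, s.Prime → s ∣ Nat.card G → ¬ s ∣ Nat.card (K ⧸ H.subgroupOf K) →
      ¬ s ∣ Nat.card H → s ∣ Nat.card (G ⧸ K) := fun s hs hd h1 h2 => by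
    rw [hG] at hd
    exact (hs.dvd_mul.mp hd).resolve_left fun h => (hs.dvd_mul.mp h).elim h2 h1
  by_cases hpH : p ∣ Nat.card H <;> by_cases hqH : q ∣ Nat.card H
  · obtain ⟨a, ha⟩ := exists_prime_orderOf_dvd_card' p hpH
    obtain ⟨b, hb⟩ := exists_prime_orderOf_dvd_card' q hqH
    have hcop' : (orderOf (a : G)).Coprime (orderOf (b : G)) := by
      rw [Subgroup.orderOf_coe, Subgroup.orderOf_coe, ha, hb]; exact hcop
    refine ⟨(a : G) * b, ?_⟩
    rw [Commute.orderOf_mul_eq_mul_orderOf_of_coprime (CN.commute_of_coprime hHnil a.2 b.2 hcop') hcop',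
      Subgroup.orderOf_coe, Subgroup.orderOf_coe, ha, hb]
  · exact hmixed p q hp hq hpq hpH hqH hqc (hsplit q hq hqG hqc hqH)
  · obtain ⟨g, hg⟩ := hmixed q p hq hp (Ne.symm hpq) hqH hpH hpc (hsplit p hp hpG hpc hpH)
    exact ⟨g, hg.trans (mul_comm q p)⟩
  · obtain ⟨g, hg⟩ := hGKcyc.exists_ofOrder_eq_natCard
    obtain ⟨g, rfl⟩ := QuotientGroup.mk'_surjective K g
    have hd : p * q ∣ orderOf g := (hcop.mul_dvd_of_dvd_of_dvd (hsplit p hp hpG hpc hpH)
      (hsplit q hq hqG hqc hqH)).trans (hg.symm.dvd.trans (orderOf_map_dvd _ g))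
    exact ⟨g ^ (orderOf g / (p * q)), orderOf_pow_orderOf_div (orderOf_pos g).ne' hd⟩

end Cfsg.Agent.S4001
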