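import Cfsg.Statements.S4002
import Mathlib
import Cfsg.Agent.GStructB.ThreePrimes

set_option autoImplicit false
open Cfsg

namespace Cfsg.Agent.S4002
theorem exists_three_primes (n : ℕ) (hn : 7 ≤ n) :
    ∃ p q r : ℕ, p.Prime ∧ q.Prime ∧ r.Prime ∧ p < q ∧ q < r ∧ r ≤ n ∧ n < p * q := by
  rcases Nat.lt_or_ge n 15 with h | h
  · exact ⟨3, 5, 7, by norm_num, by norm_num, by norm_num, by norm_num, by norm_num, hn, h⟩
  rcases Nat.lt_or_ge n 35 with h' | h'
  · exact ⟨5, 7, 11, by norm_num, by norm_num, by norm_num, by norm_num, by norm_num, by omega, h'⟩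
  obtain ⟨r, hr, hr1, hr2⟩ := Nat.exists_prime_lt_and_le_two_mul (n / 2) (by omega)
  obtain ⟨q, hq, hq1, hq2⟩ := Nat.exists_prime_lt_and_le_two_mul (n / 4) (by omega)
  obtain ⟨p, hp, hp1, hp2⟩ := Nat.exists_prime_lt_and_le_two_mul (n / 8) (by omega)
  refine ⟨p, q, r, hp, hq, hr, by omega, by omega, by omega, ?_⟩
  have h1 : n + 1 ≤ 8 * p := by omega
  have h2 : n + 1 ≤ 4 * q := by omega
  have h3 : (n + 1) * (n + 1) ≤ (8 * p) * (4 * q) := Nat.mul_le_mul h1 h2
  nlinarith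

/-- If the set of element orders of a finite group G is {1, 2, …, n} with n ≥ 7, then G is not solvable. -/
theorem result {G : Type*} [Group G] [Finite G] (n : ℕ) (hn : 7 ≤ n) (h : Set.range (orderOf : G → ℕ) = {k : ℕ | 1 ≤ k ∧ k ≤ n}) : ¬ Group.IsSolvable G := by
  intro hs
  obtain ⟨p, q, r, hp, hq, hr, hpq, hqr, hrn, hprod⟩ := exists_three_primes n hn
  have hle : ∀ g : G, orderOf g ≤ n := fun g => (h ▸ ⟨g, rfl⟩ : orderOf g ∈ {k : ℕ | 1 ≤ k ∧ k ≤ n}).2
  have hd : ∀ m : ℕ, m.Prime → m ≤ n → m ∣ Nat.card G := fun m hm hmn => by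
    have : m ∈ Set.range (orderOf : G → ℕ) := h.symm ▸ ⟨hm.one_le, hmn⟩
    obtain ⟨g, rfl⟩ := this
    exact orderOf_dvd_natCard g
  obtain ⟨i, j, hij, x, hx⟩ := GStructB.ThreePrimes.exists_pair (G := G) ![p, q, r]
    (fun i => by fin_cases i <;> assumption)
    (fun i j hij => by fin_cases i <;> fin_cases j <;> simp at hij <;> first | rfl | omega)
    (fun i => by fin_cases i <;> (apply hd <;> first | assumption | (simp; omega)))
  have hxn := hx ▸ hle x
  have h1 : p * q ≤ p * r := Nat.mul_le_mul_left p hqr.le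
  have h2 : p * r ≤ q * r := Nat.mul_le_mul_right r hpq.le
  fin_cases i <;> fin_cases j <;>
    simp [Nat.mul_comm q p, Nat.mul_comm r p, Nat.mul_comm r q] at hij hxn <;> omega

end Cfsg.Agent.S4002
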