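import Cfsg.Statements.S4003
import Mathlib
import Cfsg.Agent.GStructB.MillerCount

set_option autoImplicit false
open Cfsg

namespace Cfsg.Agent.S4003

/-- Let G be a finite group, p an odd prime dividing the order of G whose Sylow p-subgroups are not cyclic, and n = p^s·m with s > 1 and m coprime to p. Then the number of elements of G of order n is a multiple of p^s. -/
theorem result {G : Type*} [Group G] [Finite G] (p : ℕ) [Fact p.Prime] (hodd : p ≠ 2) (hpG : p ∣ Nat.card G)
    (P : Sylow p G) (hP : ¬ IsCyclic ↥(P : Subgroup G)) (s m : ℕ) (hs : 1 < s) (hm : Nat.Coprime p m) :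
    p ^ s ∣ Nat.card {g : G // orderOf g = p ^ s * m} := by
  classical
  have hpp : p.Prime := Fact.out
  have := Fintype.ofFinite G
  rcases Nat.eq_zero_or_pos m with rfl | hm0
  · exact absurd (Nat.coprime_zero_right p |>.mp hm) hpp.ne_one
  -- pairs (part prime to p, p-part)
  let f : (Σ z : {z : G // orderOf z = m},
      {x : Subgroup.centralizer ({z.1} : Set G) // orderOf x = p ^ s}) →
      {g : G // orderOf g = p ^ s * m} := fun σ => ⟨(σ.2.1 : G) * σ.1.1, by
    have hc : Commute (σ.2.1 : G) σ.1.1 := Subgroup.mem_centralizer_singleton_iff.mp σ.2.1.2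
    rw [hc.orderOf_mul_eq_mul_orderOf_of_coprime (by
      rw [Subgroup.orderOf_coe, σ.2.2, σ.1.2]; exact hm.pow_left s), Subgroup.orderOf_coe, σ.2.2, σ.1.2]⟩
  have hcop : (p ^ s).Coprime m := hm.pow_left s
  obtain ⟨b, hb1, hb2⟩ : ∃ b : ℕ, b ≡ 1 [MOD p ^ s] ∧ b ≡ 0 [MOD m] :=
    ⟨_, (Nat.chineseRemainder hcop 1 0).2⟩
  obtain ⟨d, hd1, hd2⟩ : ∃ d : ℕ, d ≡ 0 [MOD p ^ s] ∧ d ≡ 1 [MOD m] :=
    ⟨_, (Nat.chineseRemainder hcop 0 1).2⟩
  have hone : ∀ (w : G) (n e : ℕ), orderOf w = n → e ≡ 1 [MOD n] → w ^ e = w := fun w n e hw he => by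
    conv_rhs => rw [← pow_one w]
    exact pow_eq_pow_iff_modEq.mpr (hw.symm ▸ he)
  have hzero : ∀ (w : G) (n e : ℕ), orderOf w = n → e ≡ 0 [MOD n] → w ^ e = 1 := fun w n e hw he => by
    rw [← pow_zero w]
    exact pow_eq_pow_iff_modEq.mpr (hw.symm ▸ he)
  have hf : Function.Bijective f := by
    constructor
    · rintro ⟨⟨z, hz⟩, ⟨⟨x, hx⟩, ho⟩⟩ ⟨⟨z', hz'⟩, ⟨⟨x', hx'⟩, ho'⟩⟩ h
      have h1 : x * z = x' * z' := congrArg Subtype.val h
      rw [Subgroup.orderOf_mk] at ho ho'
      have hc : Commute x z := Subgroup.mem_centralizer_singleton_iff.mp hx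
      have hc' : Commute x' z' := Subgroup.mem_centralizer_singleton_iff.mp hx'
      have hxx : x = x' := by
        have h2 := congrArg (· ^ b) h1
        simp only [hc.mul_pow, hc'.mul_pow, hone x _ b ho hb1, hone x' _ b ho' hb1,
          hzero z _ b hz hb2, hzero z' _ b hz' hb2, mul_one] at h2
        exact h2
      subst hxx
      obtain rfl : z = z' := mul_left_cancel h1
      rfl
    · rintro ⟨g, hg⟩
      have hmod : b + d ≡ 1 [MOD p ^ s * m] := by
        refine (Nat.modEq_and_modEq_iff_modEq_mul hcop).mp ⟨?_, ?_⟩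
        · simpa using hb1.add hd1
        · simpa using hb2.add hd2
      have hsplit : g ^ b * g ^ d = g := by rw [← pow_add]; exact hone g _ _ hg hmod
      have hxm : (g ^ b) ^ p ^ s = 1 := by
        rw [← pow_mul]
        obtain ⟨t, ht⟩ := Nat.modEq_zero_iff_dvd.mp hb2
        refine hzero g _ _ hg (Nat.modEq_zero_iff_dvd.mpr ⟨t, ?_⟩)
        rw [ht]; ring
      have hzm : (g ^ d) ^ m = 1 := by
        rw [← pow_mul]
        obtain ⟨t, ht⟩ := Nat.modEq_zero_iff_dvd.mp hd1
        refine hzero g _ _ hg (Nat.modEq_zero_iff_dvd.mpr ⟨t, ?_⟩)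
        rw [ht]; ring
      have h1 := orderOf_dvd_of_pow_eq_one hxm
      have h2 := orderOf_dvd_of_pow_eq_one hzm
      have hc : Commute (g ^ b) (g ^ d) := (Commute.refl g).pow_pow b d
      have h3 : orderOf (g ^ b) * orderOf (g ^ d) = p ^ s * m := by
        rw [← hc.orderOf_mul_eq_mul_orderOf_of_coprime
          ((hcop.coprime_dvd_left h1).coprime_dvd_right h2), hsplit, hg]
      have h4 : orderOf (g ^ b) = p ^ s := by
        refine Nat.dvd_antisymm h1 ((hcop.coprime_dvd_right h2).dvd_of_dvd_mul_right ?_)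
        rw [h3]; exact dvd_mul_right _ _
      have h5 : orderOf (g ^ d) = m := by
        rw [h4] at h3
        exact Nat.eq_of_mul_eq_mul_left (pow_pos hpp.pos s) h3
      exact ⟨⟨⟨g ^ d, h5⟩, ⟨⟨g ^ b, Subgroup.mem_centralizer_singleton_iff.mpr hc.eq⟩,
        by rw [Subgroup.orderOf_mk]; exact h4⟩⟩, Subtype.ext hsplit⟩
  rw [← Nat.card_congr (Equiv.ofBijective f hf), Nat.card_sigma]
  let cnt : G → ℕ := fun z => Nat.card {x : Subgroup.centralizer ({z} : Set G) // orderOf x = p ^ s}
  show p ^ s ∣ ∑ z : {z : G // orderOf z = m}, cnt z.1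
  let T := Finset.univ.filter fun z : G => orderOf z = m
  rw [← Finset.sum_subtype T (fun z => by simp [T]) cnt,
    ← Finset.sum_fiberwise_of_maps_to (g := fun z : G => ConjClasses.mk z)
      (t := T.image fun z => ConjClasses.mk z) (fun z hz => Finset.mem_image_of_mem _ hz)]
  refine Finset.dvd_sum fun K hK => ?_
  obtain ⟨u, hu, rfl⟩ := Finset.mem_image.mp hK
  have hum : orderOf u = m := (Finset.mem_filter.mp hu).2
  have hord : ∀ g : G, orderOf (g * u * g⁻¹) = m := fun g =>
    (orderOf_injective (MulAut.conj g).toMonoidHom (MulAut.conj g).injective u).trans hum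
  have hconst : ∀ v ∈ T.filter (fun v => ConjClasses.mk v = ConjClasses.mk u), cnt v = cnt u := by
    intro v hv
    obtain ⟨g, rfl⟩ := isConj_iff.mp (ConjClasses.mk_eq_mk_iff_isConj.mp (Finset.mem_filter.mp hv).2).symm
    let e : Subgroup.centralizer ({u} : Set G) ≃* Subgroup.centralizer ({g * u * g⁻¹} : Set G) :=
      { toFun := fun c => ⟨g * c * g⁻¹, by
          rw [Subgroup.mem_centralizer_singleton_iff]
          have := Subgroup.mem_centralizer_singleton_iff.mp c.2
          calc g * c * g⁻¹ * (g * u * g⁻¹) = g * (c * u) * g⁻¹ := by group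
            _ = _ := by rw [this]; group⟩
        invFun := fun c => ⟨g⁻¹ * c * g, by
          rw [Subgroup.mem_centralizer_singleton_iff]
          have := Subgroup.mem_centralizer_singleton_iff.mp c.2
          calc g⁻¹ * c * g * u = g⁻¹ * (c * (g * u * g⁻¹)) * g := by group
            _ = _ := by rw [this]; group⟩
        left_inv := fun c => Subtype.ext (by simp [mul_assoc])
        right_inv := fun c => Subtype.ext (by simp [mul_assoc])
        map_mul' := fun a b => Subtype.ext (by simp [mul_assoc]) }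
    exact (Nat.card_congr (e.toEquiv.subtypeEquiv fun c => by
      rw [show e.toEquiv c = e c from rfl, e.orderOf_eq])).symm
  rw [Finset.sum_congr rfl hconst, Finset.sum_const, smul_eq_mul]
  set C := Subgroup.centralizer ({u} : Set G)
  have hc : (T.filter fun v => ConjClasses.mk v = ConjClasses.mk u).card = C.index := by
    rw [← Set.ncard_coe_finset, ← Nat.card_coe_set_eq]
    have hset : ((T.filter fun v => ConjClasses.mk v = ConjClasses.mk u) : Set G) =
        MulAction.orbit (ConjAct G) u := by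
      ext v
      rw [ConjAct.orbit_eq_carrier_conjClasses, ConjClasses.mem_carrier_iff_mk_eq]
      simp only [T, Finset.coe_filter, Finset.mem_filter, Finset.mem_univ, true_and, Set.mem_ofPred_eq]
      refine ⟨fun hv => hv.2, fun hv => ⟨?_, hv⟩⟩
      obtain ⟨g, rfl⟩ := isConj_iff.mp (ConjClasses.mk_eq_mk_iff_isConj.mp hv).symm
      exact hord g
    rw [hset, Nat.card_congr (MulAction.orbitEquivQuotientStabilizer (ConjAct G) u)]
    show _ = (Subgroup.centralizer ({u} : Set G)).index
    rw [Subgroup.centralizer_eq_comap_stabilizer]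
    exact (Subgroup.index_comap_of_surjective _ (MulEquiv.surjective _)).symm
  rw [hc]
  obtain ⟨S⟩ : Nonempty (Sylow p C) := inferInstance
  by_cases hS : IsCyclic (S : Subgroup C)
  · have hidx : p ∣ C.index := by
      by_contra hnd
      have hS' : ((S : Subgroup C).map C.subtype).index = (S : Subgroup C).index * C.index :=
        Subgroup.index_map_subtype (S : Subgroup C)
      have hnd' : ¬ p ∣ ((S : Subgroup C).map C.subtype).index := by
        rw [hS']
        exact fun h => (hpp.dvd_mul.mp h).elim S.not_dvd_index hnd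
      let S' : Sylow p G := (S.2.map C.subtype).toSylow hnd'
      refine hP ?_
      have e := Subgroup.equivMapOfInjective (S : Subgroup C) C.subtype C.subtype_injective
      exact ((Sylow.equiv P S').trans e.symm).isCyclic.mpr hS
    have htot : p ^ (s - 1) ∣ cnt u := by
      have := GStructB.FrobeniusCount.totient_dvd_card_orderOf (G := C) (p ^ s)
      rw [Nat.totient_prime_pow hpp (by omega)] at this
      exact (dvd_mul_right _ _).trans this
    rw [show p ^ s = p * p ^ (s - 1) by rw [← pow_succ', show s - 1 + 1 = s by omega]]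
    exact mul_dvd_mul hidx htot
  · exact (GStructB.MillerCount.dvd_card_orderOf_eq hodd S hS s hs).trans (dvd_mul_left _ _)

end Cfsg.Agent.S4003
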