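import Cfsg.Statements.S4005
import Mathlib
import Cfsg.Agent.Lib.Characters.Burnside
import Cfsg.Agent.Lib.Counting.SylowCount
import Cfsg.Agent.Lib.Coprime.FixedPointFree

set_option autoImplicit false
open Cfsg

namespace Cfsg.Agent.S4005
theorem card_eq_two_pow_mul_three_pow (n : ℕ) (hn : n ≠ 0)
    (h : ∀ q : ℕ, q.Prime → q ∣ n → q = 2 ∨ q = 3) : ∃ a b : ℕ, n = 2 ^ a * 3 ^ b := by
  obtain ⟨a, m, hm, rfl⟩ := Nat.exists_eq_pow_mul_and_not_dvd hn 2 (by norm_num)
  refine ⟨a, m.primeFactorsList.length, ?_⟩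
  rw [← Nat.eq_prime_pow_of_unique_prime_dvd (p := 3) (by rintro rfl; simp at hm)
    (fun {q} hq hd => ?_)]
  rcases h q hq (hd.trans (dvd_mul_left _ _)) with rfl | rfl
  · exact absurd hd hm
  · rfl

theorem card_eq_of_exponent {G : Type*} [Group G] [Finite G] {r : ℕ} [hr : Fact r.Prime] (R : Subgroup G)
    (h : ∀ a ∈ R, a ^ r = 1) (hc : IsCyclic R) (hne : ∃ a : R, a ≠ 1) : Nat.card R = r := by
  obtain ⟨g, hg⟩ := hc.exists_generator
  rw [← orderOf_eq_card_of_forall_mem_zpowers hg]
  have hg1 : g ≠ 1 := fun e => by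
    obtain ⟨a, ha⟩ := hne
    have := hg a
    rw [e, Subgroup.zpowers_one_eq_bot, Subgroup.mem_bot] at this
    exact ha this
  exact orderOf_eq_prime (Subtype.ext (by simpa using h g g.2)) hg1

theorem index_eq_card_sylow {G : Type*} [Group G] [Finite G] {p q : ℕ} [Fact p.Prime] [Fact q.Prime]
    (P : Sylow p G) (Q : Sylow q G) (hpq : p ≠ q)
    (h : ∀ r : ℕ, r.Prime → r ∣ Nat.card G → r = p ∨ r = q) :
    (P : Subgroup G).index = Nat.card (Q : Subgroup G) := by
  have hP := P.not_dvd_index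
  have hidx0 : (P : Subgroup G).index ≠ 0 := Subgroup.index_ne_zero_of_finite
  have hpow : (P : Subgroup G).index = q ^ (P : Subgroup G).index.primeFactorsList.length :=
    Nat.eq_prime_pow_of_unique_prime_dvd hidx0 fun {r} hr hd => by
      rcases h r hr (hd.trans (Subgroup.index_dvd_card _)) with rfl | rfl
      · exact absurd hd hP
      · rfl
  obtain ⟨j, hj⟩ : ∃ j, (P : Subgroup G).index = q ^ j := ⟨_, hpow⟩
  have hf : (Nat.card G).factorization q = j := by
    rw [← (P : Subgroup G).card_mul_index, Nat.factorization_mul Nat.card_pos.ne' hidx0,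
      P.card_eq_multiplicity, hj]
    simp [Nat.factorization_pow, (Fact.out : p.Prime).factorization, (Fact.out : q.Prime).factorization, hpq]
  rw [Q.card_eq_multiplicity, hf, hj]

/-- A finite group whose set of element orders is exactly {1, 2, 3} has either a normal elementary abelian 3-subgroup of index 2 or a normal elementary abelian 2-subgroup of index 3. -/
theorem result {G : Type*} [Group G] [Finite G] (h : Set.range (orderOf : G → ℕ) = {k : ℕ | 1 ≤ k ∧ k ≤ 3}) :
    (∃ N : Subgroup G, N.Normal ∧ Cfsg.IsElementaryAbelian 3 N ∧ N.index = 2) ∨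
      (∃ N : Subgroup G, N.Normal ∧ Cfsg.IsElementaryAbelian 2 N ∧ N.index = 3) := by
  classical
  have hord : ∀ g : G, orderOf g = 1 ∨ orderOf g = 2 ∨ orderOf g = 3 := fun g => by
    have : orderOf g ∈ Set.range (orderOf : G → ℕ) := ⟨g, rfl⟩
    rw [h, Set.mem_setOf_eq] at this
    omega
  obtain ⟨u, hu⟩ : ∃ u : G, orderOf u = 2 := by
    have : (2 : ℕ) ∈ Set.range (orderOf : G → ℕ) := by rw [h]; simp
    exact this
  obtain ⟨v, hv⟩ : ∃ v : G, orderOf v = 3 := by
    have : (3 : ℕ) ∈ Set.range (orderOf : G → ℕ) := by rw [h]; simp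
    exact this
  have hprime : ∀ q : ℕ, q.Prime → q ∣ Nat.card G → q = 2 ∨ q = 3 := fun q hq hd => by
    haveI := Fact.mk hq
    obtain ⟨g, hg⟩ := exists_prime_orderOf_dvd_card' q hd
    have := hq.one_lt
    rcases hord g with h' | h' | h' <;> omega
  have hcard := card_eq_two_pow_mul_three_pow (Nat.card G) Nat.card_pos.ne' hprime
  haveI : Nontrivial G := ⟨u, 1, fun e => by rw [e, orderOf_one] at hu; omega⟩
  obtain ⟨q, N, hq, hN, hNbot, hNq⟩ := Counting.SylowCount.exists_normal_pGroup_of_isSolvable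
    (hcard.elim fun a ⟨b, hab⟩ => Characters.burnside_pa_qb Nat.prime_two Nat.prime_three hab)
  haveI := hN
  haveI := Fact.mk hq
  haveI : Fact (Nat.Prime 2) := ⟨Nat.prime_two⟩
  haveI : Fact (Nat.Prime 3) := ⟨Nat.prime_three⟩
  have hexp : ∀ (r : ℕ), r.Prime → ∀ R : Subgroup G, IsPGroup r R → ∀ a ∈ R, a ^ r = 1 := by
    intro r hr R hR a ha
    haveI := Fact.mk hr
    obtain ⟨k, hk⟩ := IsPGroup.iff_orderOf.mp hR ⟨a, ha⟩
    rw [Subgroup.orderOf_mk] at hk
    apply orderOf_dvd_iff_pow_eq_one.mp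
    rcases Nat.eq_zero_or_pos k with h0 | h0
    · rw [hk, h0, pow_zero]; exact one_dvd _
    · have hd : r ∣ orderOf a := hk ▸ dvd_pow_self r (by omega)
      rcases hord a with h' | h' | h'
      · rw [h']; exact one_dvd _
      · rw [h', (Nat.prime_dvd_prime_iff_eq hr Nat.prime_two).mp (h' ▸ hd)]
      · rw [h', (Nat.prime_dvd_prime_iff_eq hr Nat.prime_three).mp (h' ▸ hd)]
  -- elements of coprime orders 2 and 3 do not commute
  have hnc : ∀ a b : G, a ^ 2 = 1 → b ^ 3 = 1 → a * b = b * a → a = 1 ∨ b = 1 := by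
    intro a b ha hb hab
    by_contra hne
    rw [not_or] at hne
    have ha' := orderOf_eq_prime ha hne.1
    have hb' := orderOf_eq_prime hb hne.2
    have := Commute.orderOf_mul_eq_mul_orderOf_of_coprime hab (by rw [ha', hb']; norm_num)
    rcases hord (a * b) with h' | h' | h' <;> rw [h', ha', hb'] at this <;> omega
  obtain ⟨T⟩ : Nonempty (Sylow 2 G) := inferInstance
  obtain ⟨Q⟩ : Nonempty (Sylow 3 G) := inferInstance
  have hTab : IsMulCommutative (T : Subgroup G) :=
    ⟨⟨fun x y => by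
      have h2 : ∀ z : (T : Subgroup G), z⁻¹ = z := fun z => by
        apply inv_eq_of_mul_eq_one_right
        exact Subtype.ext (by simpa [pow_two] using hexp 2 Nat.prime_two _ T.2 z z.2)
      calc x * y = (x * y)⁻¹ := (h2 _).symm
        _ = y * x := by rw [mul_inv_rev, h2, h2]⟩⟩
  obtain ⟨x, hx, hx1⟩ := N.ne_bot_iff_exists_ne_one.mp hNbot |>.elim
    (fun x hx => (⟨x.1, x.2, fun e => hx (Subtype.ext e)⟩ : ∃ x ∈ N, x ≠ 1))
  rcases hprime q hq (by
    obtain ⟨k, hk⟩ := IsPGroup.iff_orderOf.mp hNq ⟨x, hx⟩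
    rw [Subgroup.orderOf_mk] at hk
    have hk0 : k ≠ 0 := fun e => hx1 (orderOf_eq_one_iff.mp (by rw [hk, e, pow_zero]))
    exact (hk ▸ dvd_pow_self q hk0 : q ∣ orderOf x).trans (orderOf_dvd_natCard x)) with rfl | rfl
  · -- a normal 2-subgroup
    right
    have hQ : Nat.card (Q : Subgroup G) = 3 := by
      refine card_eq_of_exponent _ (hexp 3 Nat.prime_three _ Q.2) ?_
        ((Q.1.ne_bot_iff_exists_ne_one).mp ?_)
      · rcases Coprime.fpf_isCyclic_or_quaternion Q.2 (K := N)
          (by rw [Subgroup.normalizer_eq_top]; exact le_top)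
          (fun a ha ha1 => by
            rw [Subgroup.eq_bot_iff_forall]
            intro z hz
            have hzc := Subgroup.mem_centralizer_singleton_iff.mp hz.2
            rcases hnc z a (hexp 2 Nat.prime_two _ hNq z hz.1) (hexp 3 Nat.prime_three _ Q.2 a ha) hzc with e | e
            · exact e
            · exact absurd e ha1) hNbot with hc | ⟨h2, -⟩
        · exact hc
        · exact absurd h2 (by norm_num)
      · exact Q.ne_bot_of_dvd_card (hv ▸ orderOf_dvd_natCard v)
    have hC : ∀ z ∈ Subgroup.centralizer (N : Set G), z ^ 2 = 1 := by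
      intro z hz
      have hzx : x * z = z * x := hz x hx
      rcases hord z with h' | h' | h'
      · rw [orderOf_eq_one_iff.mp h', one_pow]
      · exact h' ▸ pow_orderOf_eq_one z
      · exfalso
        rcases hnc x z (hexp 2 Nat.prime_two _ hNq x hx) (h' ▸ pow_orderOf_eq_one z) hzx with e | e
        · exact hx1 e
        · rw [e, orderOf_one] at h'; omega
    have hTC : (T : Subgroup G) ≤ Subgroup.centralizer (N : Set G) := fun t ht n hn => by
      have hnT : n ∈ (T : Subgroup G) := (hNq.le_sylow_of_normal T) hn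
      exact congrArg Subtype.val (hTab.is_comm.comm ⟨n, hnT⟩ ⟨t, ht⟩)
    have hTeq : (T : Subgroup G) = Subgroup.centralizer (N : Set G) :=
      (T.is_maximal' (IsPGroup.iff_orderOf.mpr fun z => by
        have h2 : orderOf (z : G) ∣ 2 := orderOf_dvd_of_pow_eq_one (hC z z.2)
        obtain ⟨k, -, hk⟩ := (Nat.dvd_prime_pow Nat.prime_two).mp (by rwa [pow_one] : orderOf (z : G) ∣ 2 ^ 1)
        exact ⟨k, by rw [← hk, Subgroup.orderOf_coe]⟩) hTC).symm
    refine ⟨_, by rw [hTeq]; infer_instance, ⟨hTab, hexp 2 Nat.prime_two _ T.2⟩, ?_⟩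
    exact index_eq_card_sylow T Q (by norm_num) hprime |>.trans hQ
  · -- a normal 3-subgroup
    left
    have hT : Nat.card (T : Subgroup G) = 2 := by
      refine card_eq_of_exponent _ (hexp 2 Nat.prime_two _ T.2) ?_
        ((T.1.ne_bot_iff_exists_ne_one).mp ?_)
      · haveI := hTab
        exact Coprime.fpf_isCyclic_of_abelian (K := N)
          (by rw [Subgroup.normalizer_eq_top]; exact le_top)
          (fun a ha ha1 => by
            rw [Subgroup.eq_bot_iff_forall]
            intro z hz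
            have hzc := Subgroup.mem_centralizer_singleton_iff.mp hz.2
            rcases hnc a z (hexp 2 Nat.prime_two _ T.2 a ha) (hexp 3 Nat.prime_three _ hNq z hz.1) hzc.symm with e | e
            · exact absurd e ha1
            · exact e) hNbot
      · exact T.ne_bot_of_dvd_card (hu ▸ orderOf_dvd_natCard u)
    have hidx : (Q : Subgroup G).index = 2 :=
      (index_eq_card_sylow Q T (by norm_num) (fun r hr hd => (hprime r hr hd).symm)).trans hT
    haveI hQn : (Q : Subgroup G).Normal := Subgroup.normal_of_index_eq_two hidx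
    refine ⟨_, hQn, ⟨?_, hexp 3 Nat.prime_three _ Q.2⟩, hidx⟩
    have hfpf : MonoidHom.FixedPointFree (MulAut.conjNormal u : MulAut (Q : Subgroup G)) := by
      intro z hz
      have hz' : u * (z : G) * u⁻¹ = z := congrArg Subtype.val hz
      rcases hnc u z (hu ▸ pow_orderOf_eq_one u) (hexp 3 Nat.prime_three _ Q.2 z z.2) (mul_inv_eq_iff_eq_mul.mp hz') with e | e
      · rw [e, orderOf_one] at hu; omega
      · exact Subtype.ext e
    refine ⟨⟨fun a b => hfpf.commute_all_of_involutive (fun z => ?_) a b⟩⟩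
    have := hu ▸ pow_orderOf_eq_one u
    apply Subtype.ext
    show u * (u * (z : G) * u⁻¹) * u⁻¹ = z
    calc u * (u * (z : G) * u⁻¹) * u⁻¹ = u ^ 2 * (z : G) * (u ^ 2)⁻¹ := by rw [pow_two]; group
      _ = z := by rw [this]; group

end Cfsg.Agent.S4005
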