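import Cfsg.Statements.S4006
import Mathlib
import Cfsg.Agent.S1475
import Cfsg.Agent.Lib.Cores.Basic
import Cfsg.Agent.SolvStruct.TwoPrimes
import Cfsg.Agent.Lib.PGroups.UniqueSubgroup
import Cfsg.Agent.Lib.Coprime.FixedPointFree
import Cfsg.Agent.GStructB.OrderThreeFpf

set_option autoImplicit false
open Cfsg

namespace Cfsg.Agent.S4006

open Cfsg.Agent

variable {G : Type*} [Group G] [Finite G] (hor : ∀ g : G, orderOf g ≤ 4)

include hor in
theorem order_cases (g : G) : orderOf g = 1 ∨ orderOf g = 2 ∨ orderOf g = 3 ∨ orderOf g = 4 := by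
  have := orderOf_pos g
  have := hor g
  omega

include hor in
theorem not_six {a b : G} (hab : Commute a b) (ha : orderOf a = 2) (hb : orderOf b = 3) : False := by
  have h := hab.orderOf_mul_eq_mul_orderOf_of_coprime (by rw [ha, hb]; decide)
  rw [ha, hb] at h
  have := hor (a * b)
  omega

/-- the order of the image divides the order -/
theorem image_dvd (N : Subgroup G) [N.Normal] (y : G) :
    orderOf (QuotientGroup.mk' N y) ∣ orderOf y := orderOf_map_dvd _ y

include hor in
theorem two_power_of_commute {g b : G} (hgb : Commute g b) (hb : orderOf b = 3) :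
    orderOf g = 1 ∨ orderOf g = 3 := by
  rcases order_cases hor g with h | h | h | h
  · exact Or.inl h
  · exact (not_six hor hgb h hb).elim
  · exact Or.inr h
  · exact (not_six hor (hgb.pow_left 2) (by rw [orderOf_pow' g two_ne_zero, h]; rfl) hb).elim

include hor in
theorem two_group_of_commute {g a : G} (hga : Commute g a) (ha : orderOf a = 2) :
    orderOf g ∣ 4 := by
  rcases order_cases hor g with h | h | h | h <;> rw [h]
  · exact one_dvd _
  · decide
  · exact (not_six hor hga.symm ha h).elim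

theorem exists_order_eq {p : ℕ} [Fact p.Prime] {N : Subgroup G} (hN : IsPGroup p N) (h1 : N ≠ ⊥) :
    ∃ a ∈ N, orderOf a = p := by
  haveI : Nontrivial N := N.nontrivial_iff_ne_bot.mpr h1
  obtain ⟨n, hn, hcn⟩ := hN.nontrivial_iff_card.mp inferInstance
  obtain ⟨a, ha⟩ := exists_prime_orderOf_dvd_card' (G := N) p (hcn ▸ dvd_pow_self p hn.ne')
  exact ⟨a, a.2, by rw [Subgroup.orderOf_coe, ha]⟩

include hor in
theorem case_three (h2 : ∃ g : G, orderOf g = 2) (h4 : ∃ g : G, orderOf g = 4)
    (hO : pCore 3 G ≠ ⊥) : Cfsg.IsElementaryAbelian 3 (pCore 3 G) ∧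
      ((IsCyclic (G ⧸ pCore 3 G) ∧ (pCore 3 G).index = 4) ∨
        Nonempty (G ⧸ pCore 3 G ≃* QuaternionGroup 2)) := by
  haveI : Fact (Nat.Prime 3) := ⟨Nat.prime_three⟩
  set N := pCore 3 G with hNdef
  have hNp : IsPGroup 3 N := Cores.pCore_isPGroup 3
  have hN3 : ∀ a ∈ N, orderOf a = 1 ∨ orderOf a = 3 := by
    intro a ha
    obtain ⟨k, hk⟩ := IsPGroup.iff_orderOf.mp hNp ⟨a, ha⟩
    rw [Subgroup.orderOf_mk] at hk
    rcases order_cases hor a with h | h | h | h <;> rw [h] at hk ⊢
    · exact Or.inl rfl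
    · exfalso
      have hd : 2 ∣ 3 ^ k := ⟨1, by omega⟩
      exact absurd (Nat.prime_two.dvd_of_dvd_pow hd) (by decide)
    · exact Or.inr rfl
    · exfalso
      have hd : 2 ∣ 3 ^ k := ⟨2, by omega⟩
      exact absurd (Nat.prime_two.dvd_of_dvd_pow hd) (by decide)
  obtain ⟨a, haN, ha3⟩ := exists_order_eq hNp hO
  -- involutions invert `N`
  have hinv : ∀ t : G, orderOf t = 2 → ∀ b ∈ N, t * b * t⁻¹ = b⁻¹ := by
    intro t ht b hb
    have htN : t ∉ N := fun h => by rcases hN3 t h with e | e <;> omega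
    have ht2 : t * t = 1 := by rw [← pow_two, ← ht, pow_orderOf_eq_one]
    have hsq : (t * b) ^ 2 ∈ N := by
      rw [pow_two, show t * b * (t * b) = (t * b * t⁻¹) * (t * t) * b by group, ht2, mul_one]
      exact mul_mem (Subgroup.Normal.conj_mem inferInstance b hb t) hb
    have hout : t * b ∉ N := fun h => htN (by simpa using mul_mem h (inv_mem hb))
    have h2 : (t * b) ^ 2 = 1 := by
      rcases order_cases hor (t * b) with h | h | h | h
      · exact absurd (orderOf_eq_one_iff.mp h ▸ one_mem N) hout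
      · exact h ▸ pow_orderOf_eq_one _
      · exfalso
        apply hout
        have e : t * b = ((t * b) ^ 2) ^ 2 := by
          rw [← pow_mul, show 2 * 2 = 3 + 1 from rfl, pow_succ, ← h, pow_orderOf_eq_one, one_mul]
        rw [e]; exact pow_mem hsq 2
      · exfalso
        have e : orderOf ((t * b) ^ 2) = 2 := by rw [orderOf_pow' _ two_ne_zero, h]; rfl
        rcases hN3 _ hsq with e' | e' <;> omega
    rw [pow_two] at h2
    calc t * b * t⁻¹ = t * b * (t * b) * (b⁻¹ * t⁻¹ * t⁻¹) := by group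
      _ = b⁻¹ := by rw [h2, show t⁻¹ = t from inv_eq_of_mul_eq_one_left ht2, mul_assoc b⁻¹, ht2]; group
  obtain ⟨t, ht⟩ := h2
  have hcomm : ∀ x ∈ N, ∀ y ∈ N, x * y = y * x := by
    intro x hx y hy
    have h := hinv t ht (x * y) (mul_mem hx hy)
    rw [show t * (x * y) * t⁻¹ = (t * x * t⁻¹) * (t * y * t⁻¹) by group, hinv t ht x hx,
      hinv t ht y hy] at h
    exact (inv_inj.mp (by rw [mul_inv_rev]; exact h)).symm
  refine ⟨⟨⟨⟨fun x y => Subtype.ext (hcomm _ x.2 _ y.2)⟩⟩, fun x hx => ?_⟩, ?_⟩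
  · rcases hN3 x hx with e | e
    · rw [orderOf_eq_one_iff.mp e, one_pow]
    · exact e ▸ pow_orderOf_eq_one x
  have hC : Subgroup.centralizer (N : Set G) ≤ N := by
    refine Cores.le_pCore (p := 3) (IsPGroup.iff_orderOf.mpr fun g => ?_)
    rw [← Subgroup.orderOf_coe]
    rcases two_power_of_commute hor
      ((Subgroup.mem_centralizer_iff.mp g.2 a haN).symm : Commute (g : G) a) ha3 with e | e
    · exact ⟨0, by rw [e, pow_zero]⟩
    · exact ⟨1, by rw [e, pow_one]⟩
  set π := QuotientGroup.mk' N with hπ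
  have htN : t ∉ N := fun h => by rcases hN3 t h with e | e <;> omega
  have hτ : π t ≠ 1 := fun h => htN ((QuotientGroup.eq_one_iff t).mp h)
  have huniq : ∀ u : G ⧸ N, orderOf u = 2 → u = π t := by
    intro u hu
    obtain ⟨y, rfl⟩ := QuotientGroup.mk'_surjective N u
    have hd := image_dvd N y
    rw [← hπ, hu] at hd
    have hy2 : (y ^ 2) ∈ N := by
      rw [← QuotientGroup.eq_one_iff]
      show π (y ^ 2) = 1
      rw [map_pow, ← hu, pow_orderOf_eq_one]
    have hy : orderOf y = 2 := by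
      rcases order_cases hor y with h | h | h | h
      · omega
      · exact h
      · omega
      · have e : orderOf (y ^ 2) = 2 := by rw [orderOf_pow' _ two_ne_zero, h]; rfl
        rcases hN3 _ hy2 with e' | e' <;> omega
    have hmem : y⁻¹ * t ∈ N := hC (by
      rw [Subgroup.mem_centralizer_iff]
      intro b hb
      have h1 := hinv t ht b hb
      have h2 := hinv y hy b hb
      have h3 : t * b * t⁻¹ = y * b * y⁻¹ := h1.trans h2.symm
      calc b * (y⁻¹ * t) = y⁻¹ * (y * b * y⁻¹) * t := by group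
        _ = y⁻¹ * (t * b * t⁻¹) * t := by rw [h3]
        _ = y⁻¹ * t * b := by group)
    exact QuotientGroup.eq.mpr hmem
  have hτ2 : orderOf (π t) = 2 :=
    ((Nat.dvd_prime Nat.prime_two).mp (ht ▸ image_dvd N t)).resolve_left
      (mt orderOf_eq_one_iff.mp hτ)
  have hle4 : ∀ u : G ⧸ N, orderOf u ≤ 4 := by
    intro u
    obtain ⟨y, rfl⟩ := QuotientGroup.mk'_surjective N u
    exact (Nat.le_of_dvd (orderOf_pos y) (image_dvd N y)).trans (hor y)
  have hQ2 : IsPGroup 2 (G ⧸ N) := by
    rw [IsPGroup.iff_orderOf]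
    intro u
    rcases order_cases hle4 u with h | h | h | h
    · exact ⟨0, by rw [h, pow_zero]⟩
    · exact ⟨1, by rw [h, pow_one]⟩
    · exfalso
      have hcent : Commute (π t) u := by
        have he : orderOf (u * π t * u⁻¹) = 2 := by
          rw [← hτ2]
          exact (MulAut.conj u).orderOf_eq (π t)
        have := huniq _ he
        show π t * u = u * π t
        calc π t * u = u * π t * u⁻¹ * u := by rw [this]
          _ = u * π t := by group
      exact not_six hle4 hcent hτ2 h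
    · exact ⟨2, by rw [h]; rfl⟩
  haveI : Fact (Nat.Prime 2) := ⟨Nat.prime_two⟩
  have hU : ∀ H K : Subgroup (G ⧸ N), Nat.card H = 2 → Nat.card K = 2 → H = K := by
    have key : ∀ H : Subgroup (G ⧸ N), Nat.card H = 2 → H = Subgroup.zpowers (π t) := by
      intro H hH
      refine Subgroup.eq_of_le_of_card_ge (fun y hy => ?_) (by rw [hH, Nat.card_zpowers, hτ2])
      rcases (Nat.dvd_prime Nat.prime_two).mp (hH ▸ Subgroup.orderOf_dvd_natCard H hy) with e | e
      · rw [orderOf_eq_one_iff.mp e]; exact one_mem _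
      · rw [huniq y e]; exact Subgroup.mem_zpowers _
    exact fun H K hH hK => (key H hH).trans (key K hK).symm
  rcases PGroups.UniqueSubgroup.isCyclic_or_quaternion hQ2 hU with hcyc | ⟨-, n, ⟨e⟩⟩
  · left
    refine ⟨hcyc, ?_⟩
    obtain ⟨g, hg⟩ := hcyc.exists_ofOrder_eq_natCard
    rw [← Subgroup.index_eq_card] at hg
    rcases order_cases hle4 g with h | h | h | h <;> rw [h] at hg
    · exfalso
      rw [eq_comm, Subgroup.index_eq_one] at hg
      exact htN (hg ▸ Subgroup.mem_top t)
    · exfalso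
      obtain ⟨y, hy⟩ := h4
      have hy2 : y ^ 2 ∈ N := by
        rw [← QuotientGroup.eq_one_iff]
        show π (y ^ 2) = 1
        rw [map_pow, hg, Subgroup.index_eq_card]
        exact pow_card_eq_one'
      have e : orderOf (y ^ 2) = 2 := by rw [orderOf_pow' _ two_ne_zero, hy]; rfl
      rcases hN3 _ hy2 with e' | e' <;> omega
    · obtain ⟨k, hk⟩ := IsPGroup.iff_card.mp hQ2
      rw [← Subgroup.index_eq_card, ← hg] at hk
      rcases k with - | k
      · omega
      · rw [pow_succ] at hk; omega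
    · exact hg.symm
  · have h := hle4 (e.symm (QuaternionGroup.a 1))
    haveI : NeZero (2 ^ n) := ⟨by positivity⟩
    rw [MulEquiv.orderOf_eq, QuaternionGroup.orderOf_a_one] at h
    have hn : n ≤ 1 := by
      by_contra hc
      have h2 : 2 ^ 2 ≤ 2 ^ n := Nat.pow_le_pow_right (by norm_num) (by omega)
      omega
    rcases n with - | n
    · left
      have hcard : Nat.card (G ⧸ N) = 4 := by
        rw [Nat.card_congr e.toEquiv, Nat.card_eq_fintype_card, QuaternionGroup.card]; rfl
      refine ⟨?_, by rw [Subgroup.index_eq_card, hcard]⟩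
      refine isCyclic_of_orderOf_eq_card (e.symm (QuaternionGroup.xa 0)) ?_
      rw [MulEquiv.orderOf_eq, QuaternionGroup.orderOf_xa, hcard]
    · obtain rfl : n = 0 := by omega
      exact Or.inr ⟨e⟩

include hor in
theorem case_two (h3 : ∃ g : G, orderOf g = 3) (h4 : ∃ g : G, orderOf g = 4)
    (hs : Group.IsSolvable G) (hO3 : pCore 3 G = ⊥) :
    (IsPGroup 2 (pCore 2 G) ∧ Monoid.exponent (pCore 2 G) = 4 ∧
        Group.nilpotencyClass (pCore 2 G) ≤ 2 ∧ (pCore 2 G).index = 3) ∨
      (Cfsg.IsElementaryAbelian 2 (pCore 2 G) ∧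
        Nonempty (G ⧸ pCore 2 G ≃* Equiv.Perm (Fin 3))) := by
  haveI : Fact (Nat.Prime 3) := ⟨Nat.prime_three⟩
  haveI : Fact (Nat.Prime 2) := ⟨Nat.prime_two⟩
  haveI := hs
  obtain ⟨x0, hx0⟩ := h3
  haveI : Nontrivial G := nontrivial_of_ne x0 1 (fun h => by rw [h, orderOf_one] at hx0; omega)
  set N := pCore 2 G with hNdef
  have hNp : IsPGroup 2 N := Cores.pCore_isPGroup 2
  have hprime : ∀ p : ℕ, p.Prime → p ∣ Nat.card G → p = 2 ∨ p = 3 := by
    intro p hp hd
    haveI := Fact.mk hp
    obtain ⟨g, hg⟩ := exists_prime_orderOf_dvd_card' p hd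
    rcases order_cases hor g with h | h | h | h <;> rw [h] at hg <;> subst hg
    · exact absurd hp (by decide)
    · exact Or.inl rfl
    · exact Or.inr rfl
    · exact absurd hp (by decide)
  have hNne : N ≠ ⊥ := by
    obtain ⟨p, hp, hne⟩ := S1475.exists_pCore_ne_bot (G := G)
    haveI := Fact.mk hp
    rcases hprime p hp ((by
      obtain ⟨a, -, ha⟩ := exists_order_eq (Cores.pCore_isPGroup p) hne
      exact ha ▸ orderOf_dvd_natCard a)) with rfl | rfl
    · exact hne
    · exact absurd hO3 hne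
  have hN4 : ∀ a ∈ N, orderOf a ∣ 4 := by
    intro a ha
    obtain ⟨k, hk⟩ := IsPGroup.iff_orderOf.mp hNp ⟨a, ha⟩
    rw [Subgroup.orderOf_mk] at hk
    rcases order_cases hor a with h | h | h | h <;> rw [h] at hk ⊢
    · exact one_dvd _
    · decide
    · exfalso
      have hd : 3 ∣ 2 ^ k := ⟨1, by omega⟩
      exact absurd (Nat.prime_three.dvd_of_dvd_pow hd) (by decide)
  obtain ⟨z, hzN, hz2⟩ := exists_order_eq hNp hNne
  set π := QuotientGroup.mk' N with hπ
  have hcoset : ∀ y : G, orderOf (π y) = 3 → orderOf y = 3 := by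
    intro y hy
    have hd := image_dvd N y
    rw [← hπ, hy] at hd
    rcases order_cases hor y with h | h | h | h <;> omega
  have hQle : ∀ u : G ⧸ N, orderOf u ≤ 4 := by
    intro u
    obtain ⟨y, rfl⟩ := QuotientGroup.mk'_surjective N u
    exact (Nat.le_of_dvd (orderOf_pos y) (image_dvd N y)).trans (hor y)
  -- a Sylow 3-subgroup has order 3
  obtain ⟨P⟩ : Nonempty (Sylow 3 G) := inferInstance
  have hP1 : (P : Subgroup G) ≠ ⊥ := P.ne_bot_of_dvd_card (hx0 ▸ orderOf_dvd_natCard x0)
  have hP3 : ∀ g ∈ (P : Subgroup G), g ≠ 1 → orderOf g = 3 := by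
    intro g hg hg1
    obtain ⟨k, hk⟩ := IsPGroup.iff_orderOf.mp P.2 ⟨g, hg⟩
    rw [Subgroup.orderOf_mk] at hk
    rcases order_cases hor g with h | h | h | h <;> rw [h] at hk ⊢
    · exact absurd (orderOf_eq_one_iff.mp h) hg1
    · exfalso
      have hd : 2 ∣ 3 ^ k := ⟨1, by omega⟩
      exact absurd (Nat.prime_two.dvd_of_dvd_pow hd) (by decide)
    · exfalso
      have hd : 2 ∣ 3 ^ k := ⟨2, by omega⟩
      exact absurd (Nat.prime_two.dvd_of_dvd_pow hd) (by decide)
  have hPcard : Nat.card (P : Subgroup G) = 3 := by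
    have hfpf : ∀ g ∈ (P : Subgroup G), g ≠ 1 → N ⊓ Subgroup.centralizer {g} = ⊥ := by
      intro g hg hg1
      rw [eq_bot_iff]
      rintro b ⟨hb, hbc⟩
      rw [Subgroup.mem_bot, ← orderOf_eq_one_iff]
      have := hN4 b hb
      rcases two_power_of_commute hor
        ((Subgroup.mem_centralizer_iff.mp hbc g rfl).symm : Commute b g) (hP3 g hg hg1) with e | e
      · exact e
      · rw [e] at this; omega
    rcases Coprime.fpf_isCyclic_or_quaternion P.2 (K := N) (by
      intro g _; rw [Subgroup.normalizer_eq_top]; exact Subgroup.mem_top g) hfpf hNne with hc | ⟨h, -⟩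
    · obtain ⟨g, hg⟩ := hc.exists_ofOrder_eq_natCard
      rw [← hg, ← Subgroup.orderOf_coe]
      refine hP3 g g.2 fun h1 => hP1 (Subgroup.eq_bot_of_card_eq _ ?_)
      rw [← hg, ← Subgroup.orderOf_coe, h1, orderOf_one]
    · omega
  -- the quotient
  set R := pCore 3 (G ⧸ N) with hR
  have hRne : R ≠ ⊥ := by
    haveI : Nontrivial (G ⧸ N) := by
      rw [QuotientGroup.nontrivial_iff]
      intro htop
      have : x0 ∈ N := htop ▸ Subgroup.mem_top x0
      have := hN4 x0 this
      rw [hx0] at this; omega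
    obtain ⟨p, hp, hne⟩ := S1475.exists_pCore_ne_bot (G := G ⧸ N)
    haveI := Fact.mk hp
    rcases hprime p hp ((by
      obtain ⟨a, -, ha⟩ := exists_order_eq (Cores.pCore_isPGroup p) hne
      exact (ha ▸ orderOf_dvd_natCard a).trans (Subgroup.card_quotient_dvd_card N))) with rfl | rfl
    · exact absurd (Cores.pCore_quotient_self 2) hne
    · exact hne
  have hRcard : Nat.card R = 3 := by
    obtain ⟨k, hk⟩ := IsPGroup.iff_card.mp (Cores.pCore_isPGroup (G := G ⧸ N) 3)
    rw [← hR] at hk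
    have hd : Nat.card R ∣ Nat.card G :=
      (Subgroup.card_subgroup_dvd_card R).trans (Subgroup.card_quotient_dvd_card N)
    have hk1 : k = 1 := by
      have hk0 : k ≠ 0 := fun h0 => hRne (Subgroup.card_eq_one.mp (by rw [hk, h0, pow_zero]))
      by_contra hk1
      have h9 : 3 ^ 2 ∣ Nat.card G := ((pow_dvd_pow 3 (by omega : 2 ≤ k)).trans (hk ▸ hd))
      obtain ⟨Q, hQ⟩ := Sylow.exists_subgroup_card_pow_prime 3 h9
      obtain ⟨P', hP'⟩ := (IsPGroup.of_card (p := 3) hQ).exists_le_sylow
      have h1 := Subgroup.card_dvd_of_le hP'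
      rw [hQ, show Nat.card (P' : Subgroup G) = 3 from (Sylow.card_eq_multiplicity P').trans
        ((Sylow.card_eq_multiplicity P).symm.trans hPcard)] at h1
      exact absurd h1 (by decide)
    rw [hk, hk1, pow_one]
  haveI hRcyc : IsCyclic R := isCyclic_of_prime_card hRcard
  obtain ⟨ρ, hρR, hρ⟩ := exists_order_eq (Cores.pCore_isPGroup (G := G ⧸ N) 3) hRne
  have hCR : Subgroup.centralizer (R : Set (G ⧸ N)) ≤ R := by
    refine Cores.le_pCore (p := 3) (IsPGroup.iff_orderOf.mpr fun g => ?_)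
    rw [← Subgroup.orderOf_coe]
    rcases two_power_of_commute hQle
      ((Subgroup.mem_centralizer_iff.mp g.2 ρ hρR).symm : Commute (g : G ⧸ N) ρ) hρ with e | e
    · exact ⟨0, by rw [e, pow_zero]⟩
    · exact ⟨1, by rw [e, pow_one]⟩
  let f : G ⧸ N →* MulAut R := MulAut.conjNormal
  have hker : f.ker = R := by
    refine le_antisymm (fun g hg => hCR ?_) fun g hg => ?_
    · rw [Subgroup.mem_centralizer_iff]
      intro y hy
      have := congrArg Subtype.val (DFunLike.congr_fun (MonoidHom.mem_ker.mp hg) ⟨y, hy⟩)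
      simp only [f, MulAut.conjNormal_apply, MulAut.one_apply] at this
      calc y * g = g * y * g⁻¹ * g := by rw [this]
        _ = g * y := by group
    · haveI := hRcyc
      letI := IsCyclic.commGroup (α := R)
      rw [MonoidHom.mem_ker]
      ext y
      simp only [f, MulAut.conjNormal_apply, MulAut.one_apply]
      have := congrArg Subtype.val (mul_comm (⟨g, hg⟩ : R) y)
      simp only [Subgroup.coe_mul] at this
      rw [this, mul_inv_cancel_right]
  have hidx : R.index = 1 ∨ R.index = 2 := by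
    have h1 : R.index ∣ Nat.card (MulAut R) := by
      have e : R.index = Nat.card f.range := by rw [← Subgroup.index_ker f, hker]
      rw [e]; exact Subgroup.card_subgroup_dvd_card f.range
    rw [IsCyclic.card_mulAut, hRcard] at h1
    exact (Nat.dvd_prime Nat.prime_two).mp h1
  have hQcard : Nat.card (G ⧸ N) = 3 * R.index := by
    rw [← R.card_mul_index, hRcard]
  -- the operator of order three
  obtain ⟨x, hxρ⟩ := QuotientGroup.mk'_surjective N ρ
  have hx : orderOf x = 3 := hcoset x (by rw [← hρ, ← hxρ, hπ])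
  let φ : N →* N := (MulAut.conjNormal x : N ≃* N).toMonoidHom
  have hφc : ∀ a : N, (φ a : G) = x * a * x⁻¹ := fun a => MulAut.conjNormal_apply x a
  have hxcube : ∀ y : G, orderOf y = 3 → ∀ a : N,
      (a : G) * (y * a * y⁻¹) * (y * (y * a * y⁻¹) * y⁻¹) = 1 ↔ ((a : G) * y) ^ 3 = 1 := by
    intro y hy a
    have hy3 : y * y * y = 1 := by
      rw [show y * y * y = y ^ 3 by simp [pow_succ]]
      exact hy ▸ pow_orderOf_eq_one y
    have e : ((a : G) * y) ^ 3
        = (a : G) * (y * a * y⁻¹) * (y * (y * a * y⁻¹) * y⁻¹) * (y * y * y) := by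
      simp only [pow_succ, pow_zero, one_mul]; group
    rw [e, hy3, mul_one]
  have hnorm : ∀ y : G, orderOf (π y) = 3 → ∀ a : N,
      (a : G) * (y * a * y⁻¹) * (y * (y * a * y⁻¹) * y⁻¹) = 1 := by
    intro y hy a
    rw [hxcube y (hcoset y hy)]
    have : π ((a : G) * y) = π y := by
      rw [map_mul, show π (a : G) = 1 from (QuotientGroup.eq_one_iff _).mpr a.2, one_mul]
    exact (hcoset _ (this.trans rfl ▸ hy)) ▸ pow_orderOf_eq_one _
  have hρ3 : ∀ g ∈ N, orderOf (π (g * x)) = 3 := fun g hg => by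
    rw [map_mul, show π g = 1 from (QuotientGroup.eq_one_iff g).mpr hg, one_mul, hπ, hxρ, hρ]
  have hN' : ∀ a : N, a * φ a * φ (φ a) = 1 := by
    intro a
    apply Subtype.ext
    simp only [Subgroup.coe_mul, hφc, Subgroup.coe_one]
    exact hnorm x (by rw [hπ, hxρ, hρ]) a
  have hcc : ∀ a g : N, Commute a (g * φ a * g⁻¹) := by
    intro a g
    set y := (g : G) * x with hy
    have h1 := hρ3 g g.2
    have h2 : orderOf (π (y ^ 2)) = 3 := by
      rw [map_pow, orderOf_pow' _ two_ne_zero, h1]; rfl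
    have hy3 : y * y * y = 1 := by
      rw [show y * y * y = y ^ 3 by simp [pow_succ]]
      exact (hcoset y h1) ▸ pow_orderOf_eq_one y
    set b : G := (a : G) with hb
    have e1 := hnorm y h1 a
    have e2 := hnorm (y ^ 2) h2 a
    rw [← hb, pow_two] at e2
    have hyi : y⁻¹ = y * y := inv_eq_of_mul_eq_one_right (by rw [← mul_assoc, hy3])
    -- conjugates by `y` and by `y * y` commute
    have e3 : y * y * (y * y * b * (y * y)⁻¹) * (y * y)⁻¹ = y * b * y⁻¹ := by
      calc y * y * (y * y * b * (y * y)⁻¹) * (y * y)⁻¹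
          = (y * y * y) * y * b * y⁻¹ * (y * y * y)⁻¹ := by group
        _ = y * b * y⁻¹ := by rw [hy3]; group
    rw [e3] at e2
    have e4 : (y * b * y⁻¹) * (y * (y * b * y⁻¹) * y⁻¹) = (y * (y * b * y⁻¹) * y⁻¹) * (y * b * y⁻¹) := by
      rw [mul_assoc] at e1 e2
      rw [show y * (y * b * y⁻¹) * y⁻¹ = y * y * b * (y * y)⁻¹ by group] at e1 ⊢
      exact mul_left_cancel (e1.trans e2.symm)
    show a * (g * φ a * g⁻¹) = g * φ a * g⁻¹ * a
    apply Subtype.ext
    simp only [Subgroup.coe_mul, Subgroup.coe_inv, hφc, ← hb]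
    rw [show (g : G) * (x * b * x⁻¹) * (g : G)⁻¹ = y * b * y⁻¹ by rw [hy]; group]
    calc b * (y * b * y⁻¹) = y⁻¹ * ((y * b * y⁻¹) * (y * (y * b * y⁻¹) * y⁻¹)) * y := by group
      _ = y⁻¹ * ((y * (y * b * y⁻¹) * y⁻¹) * (y * b * y⁻¹)) * y := by rw [e4]
      _ = _ := by group
  have hcop : (Nat.card N).Coprime 3 := by
    obtain ⟨k, hk⟩ := IsPGroup.iff_card.mp hNp
    rw [hk]; exact (by decide : Nat.Coprime 2 3).pow_left k
  have hT := GStructB.OrderThreeFpf.class_two _ rfl hNp.isNilpotent φ hN' hcc hcop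
  rcases hidx with hi | hi
  · left
    rw [hi, mul_one] at hQcard
    refine ⟨hNp, ?_, GStructB.OrderThreeFpf.nilpotencyClass_le_two hT,
      by rw [Subgroup.index_eq_card, hQcard]⟩
    obtain ⟨y, hy⟩ := h4
    have hyN : y ∈ N := by
      rw [← QuotientGroup.eq_one_iff]
      show π y = 1
      rw [← orderOf_eq_one_iff]
      exact Nat.eq_one_of_dvd_coprimes (by decide : Nat.Coprime 4 3) (hy ▸ image_dvd N y)
        (hQcard ▸ orderOf_dvd_natCard _)
    refine Nat.dvd_antisymm (Monoid.exponent_dvd.mpr fun a => ?_) ?_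
    · rw [← Subgroup.orderOf_coe]; exact hN4 _ a.2
    · have := Monoid.order_dvd_exponent (⟨y, hyN⟩ : N)
      rwa [Subgroup.orderOf_mk, hy] at this
  · right
    rw [hi] at hQcard
    obtain ⟨τ, hτ⟩ := exists_prime_orderOf_dvd_card' (G := G ⧸ N) 2 (by rw [hQcard]; decide)
    obtain ⟨s, hsτ⟩ := QuotientGroup.mk'_surjective N τ
    have hτρ : τ * ρ * τ⁻¹ = ρ⁻¹ := by
      have hmem : τ * ρ * τ⁻¹ ∈ R := Subgroup.Normal.conj_mem inferInstance ρ hρR τ
      have hz : R = Subgroup.zpowers ρ := (Subgroup.eq_of_le_of_card_ge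
        ((Subgroup.zpowers_le).mpr hρR) (by rw [hRcard, Nat.card_zpowers, hρ])).symm
      classical
      rw [hz, ← mem_powers_iff_mem_zpowers, mem_powers_iff_mem_range_orderOf, hρ] at hmem
      simp only [Finset.mem_image, Finset.mem_range] at hmem
      obtain ⟨i, hi3, hi⟩ := hmem
      interval_cases i
      · exfalso
        rw [pow_zero, eq_comm, conj_eq_one_iff] at hi
        rw [hi, orderOf_one] at hρ; omega
      · exfalso
        rw [pow_one] at hi
        exact not_six hQle (show Commute τ ρ from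
          mul_inv_eq_iff_eq_mul.mp hi.symm) hτ hρ
      · rw [← hi]
        exact eq_inv_of_mul_eq_one_left (by
          rw [← pow_succ, show 2 + 1 = orderOf ρ from hρ.symm, pow_orderOf_eq_one])
    -- an involution inverting `x`
    let F : N → N := fun n => n * (MulAut.conjNormal (x⁻¹) n⁻¹ : N)
    have hFi : Function.Injective F := by
      intro a b hab
      have h := congrArg Subtype.val hab
      simp only [F, Subgroup.coe_mul, MulAut.conjNormal_apply, Subgroup.coe_inv, inv_inv] at h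
      have h' : ((b : G)⁻¹ * a) * x⁻¹ = x⁻¹ * ((b : G)⁻¹ * a) := by
        calc ((b : G)⁻¹ * a) * x⁻¹
            = (b : G)⁻¹ * (↑a * (x⁻¹ * (↑a)⁻¹ * x)) * x⁻¹ * a := by group
          _ = (b : G)⁻¹ * (↑b * (x⁻¹ * (↑b)⁻¹ * x)) * x⁻¹ * a := by rw [h]
          _ = _ := by group
      have hc : Commute ((b : G)⁻¹ * a) x := by
        have := (show Commute ((b : G)⁻¹ * a) x⁻¹ from h').inv_right
        rwa [inv_inv] at this
      have h1 := two_power_of_commute hor hc hx
      have h2 := hN4 _ (mul_mem (inv_mem b.2) a.2)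
      rcases h1 with e | e
      · exact Subtype.ext (inv_mul_eq_one.mp (orderOf_eq_one_iff.mp e)).symm
      · rw [e] at h2; omega
    have hc1 : π (s * x * s⁻¹ * x) = 1 := by
      rw [map_mul, map_mul, map_mul, map_inv, hπ, hsτ, hxρ, hτρ, inv_mul_cancel]
    obtain ⟨n, hn⟩ := (Finite.surjective_of_injective hFi) ⟨s * x * s⁻¹ * x,
      (QuotientGroup.eq_one_iff _).mp hc1⟩
    have hn' := congrArg Subtype.val hn
    simp only [F, Subgroup.coe_mul, MulAut.conjNormal_apply, Subgroup.coe_inv, inv_inv] at hn'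
    set t := (n : G)⁻¹ * s with ht
    have htx : t * x * t⁻¹ = x⁻¹ := by
      calc t * x * t⁻¹ = (n : G)⁻¹ * (s * x * s⁻¹ * x) * x⁻¹ * n := by rw [ht]; group
        _ = (n : G)⁻¹ * (↑n * (x⁻¹ * (↑n)⁻¹ * x)) * x⁻¹ * n := by rw [hn']
        _ = x⁻¹ := by group
    have htπ : π t = τ := by
      rw [ht, map_mul, map_inv, show π (n : G) = 1 from (QuotientGroup.eq_one_iff _).mpr n.2,
        inv_one, one_mul, hπ, hsτ]
    have ht2 : orderOf t = 2 := by
      have hd : orderOf (π t) ∣ orderOf t := image_dvd N t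
      rw [htπ, hτ] at hd
      have hc : Commute (t ^ 2) x := by
        show t ^ 2 * x = x * t ^ 2
        calc t ^ 2 * x = t * (t * x * t⁻¹) * t⁻¹ * t ^ 2 := by rw [pow_two]; group
          _ = t * x⁻¹ * t⁻¹ * t ^ 2 := by rw [htx]
          _ = (t * x * t⁻¹)⁻¹ * t ^ 2 := by group
          _ = x * t ^ 2 := by rw [htx, inv_inv]
      rcases order_cases hor t with h | h | h | h
      · omega
      · exact h
      · omega
      · exact (not_six hor hc (by rw [orderOf_pow' _ two_ne_zero, h]; rfl) hx).elim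
    have htt : t * t = 1 := by rw [← pow_two, ← ht2, pow_orderOf_eq_one]
    let σ : N →* N := (MulAut.conjNormal t : N ≃* N).toMonoidHom
    have hσc : ∀ a : N, (σ a : G) = t * a * t⁻¹ := fun a => MulAut.conjNormal_apply t a
    have hexp : ∀ a : N, a ^ 4 = 1 := fun a => orderOf_dvd_iff_pow_eq_one.mp (by
      rw [← Subgroup.orderOf_coe]; exact hN4 _ a.2)
    have hti : t⁻¹ = t := inv_eq_of_mul_eq_one_left htt
    have hx3 : x * x * x = 1 := by
      rw [show x * x * x = x ^ 3 by simp [pow_succ]]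
      exact hx ▸ pow_orderOf_eq_one x
    have hxi : x⁻¹ = x * x := inv_eq_of_mul_eq_one_right (by rw [← mul_assoc, hx3])
    obtain ⟨hab, hsq⟩ := GStructB.OrderThreeFpf.elementary_abelian φ σ hN' hcc hexp hT
      (fun a => Subtype.ext (by
        rw [hσc, hσc]
        calc t * (t * (a : G) * t⁻¹) * t⁻¹ = (t * t) * a * (t * t)⁻¹ := by group
          _ = a := by rw [htt]; group))
      (fun a => Subtype.ext (by
        rw [hσc, hφc, hφc, hφc, hσc]
        calc t * (x * (a : G) * x⁻¹) * t⁻¹
            = (t * x * t⁻¹) * (t * a * t⁻¹) * (t * x * t⁻¹)⁻¹ := by group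
          _ = x⁻¹ * (t * a * t⁻¹) * x⁻¹⁻¹ := by rw [htx]
          _ = (x * x) * (t * a * t⁻¹) * (x * x)⁻¹ := by rw [hxi]
          _ = _ := by group))
      (fun a => by
        apply Subtype.ext
        simp only [Subgroup.coe_pow, Subgroup.coe_mul, hσc, Subgroup.coe_one]
        rw [show t * (a : G) * t⁻¹ * a = (t * a) ^ 2 by rw [hti, pow_two]; group, ← pow_mul]
        have hd : orderOf (π (t * a)) ∣ orderOf (t * (a : G)) := image_dvd N _
        rw [map_mul, htπ, show π (a : G) = 1 from (QuotientGroup.eq_one_iff _).mpr a.2, mul_one,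
          hτ] at hd
        refine orderOf_dvd_iff_pow_eq_one.mp ?_
        rcases order_cases hor (t * (a : G)) with h | h | h | h <;> rw [h] at hd ⊢ <;>
          first | decide | omega)
    refine ⟨⟨⟨⟨fun a b => hab a b⟩⟩, fun a ha => congrArg Subtype.val (hsq ⟨a, ha⟩)⟩, ?_⟩
    let H := Subgroup.zpowers τ
    have hH : Nat.card H = 2 := by rw [Nat.card_zpowers, hτ]
    have h3 : Nat.card ((G ⧸ N) ⧸ H) = 3 := by
      have := H.card_mul_index
      rw [hH, hQcard, Subgroup.index_eq_card] at this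
      omega
    have hcore : H.normalCore = ⊥ := by
      rw [eq_bot_iff]
      intro u hu
      rw [Subgroup.mem_bot]
      by_contra hu1
      have h2 : orderOf u = 2 :=
        ((Nat.dvd_prime Nat.prime_two).mp
          ((Subgroup.orderOf_dvd_natCard H (H.normalCore_le hu)).trans (dvd_of_eq hH))).resolve_left
          (mt orderOf_eq_one_iff.mp hu1)
      have hz : H = Subgroup.zpowers u := (Subgroup.eq_of_le_of_card_ge
        ((Subgroup.zpowers_le).mpr (H.normalCore_le hu)) (by rw [hH, Nat.card_zpowers, h2])).symm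
      have hτn : τ ∈ H.normalCore := by
        have : H ≤ H.normalCore := hz.le.trans ((Subgroup.zpowers_le).mpr hu)
        exact this (Subgroup.mem_zpowers τ)
      have hc := H.normalCore_le ((Subgroup.normalCore_normal H).conj_mem τ hτn ρ)
      have he : orderOf (ρ * τ * ρ⁻¹) = 2 := ((MulAut.conj ρ).orderOf_eq τ).trans hτ
      have hHu : ∀ v ∈ H, orderOf v = 2 → v = τ := by
        intro v hv hv2
        obtain ⟨y, hy, hyu⟩ := (Nat.card_eq_two_iff' (1 : H)).mp hH
        have e1 := hyu ⟨v, hv⟩ (fun h => by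
          rw [show v = 1 from congrArg Subtype.val h, orderOf_one] at hv2; omega)
        have e2 := hyu ⟨τ, Subgroup.mem_zpowers τ⟩ (fun h => by
          rw [show τ = 1 from congrArg Subtype.val h, orderOf_one] at hτ; omega)
        exact congrArg Subtype.val (e1.trans e2.symm)
      exact not_six hQle (show Commute τ ρ from
        (mul_inv_eq_iff_eq_mul.mp (hHu _ hc he)).symm) hτ hρ
    haveI : Fintype ((G ⧸ N) ⧸ H) := Fintype.ofFinite _
    let e := Fintype.equivFinOfCardEq (α := (G ⧸ N) ⧸ H) (by rw [← Nat.card_eq_fintype_card, h3])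
    let ψ : G ⧸ N →* Equiv.Perm (Fin 3) :=
      e.permCongrHom.toMonoidHom.comp (MulAction.toPermHom (G ⧸ N) ((G ⧸ N) ⧸ H))
    have hψ : Function.Injective ψ := by
      refine e.permCongrHom.injective.comp ?_
      rw [← MonoidHom.ker_eq_bot_iff, ← Subgroup.normalCore_eq_ker, hcore]
    exact ⟨MulEquiv.ofBijective ψ ((Nat.bijective_iff_injective_and_card _).mpr
      ⟨hψ, by rw [hQcard, Nat.card_eq_fintype_card, Fintype.card_perm, Fintype.card_fin]; rfl⟩)⟩

/-- A finite group whose set of element orders is exactly {1, 2, 3, 4} has a normal subgroup N such that either N is a 2-group of exponent 4 and nilpotency class at most 2 with G/N of order 3, or N is an elementary abelian 2-group with G/N isomorphic to the symmetric group of degree 3, or N is an elementary abelian 3-group with G/N cyclic of order 4 or quaternion of order 8. -/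
theorem result {G : Type*} [Group G] [Finite G] (h : Set.range (orderOf : G → ℕ) = {k : ℕ | 1 ≤ k ∧ k ≤ 4}) :
    ∃ (N : Subgroup G) (_ : N.Normal),
      (IsPGroup 2 ↥N ∧ Monoid.exponent ↥N = 4 ∧ Group.nilpotencyClass ↥N ≤ 2 ∧ N.index = 3) ∨
      (Cfsg.IsElementaryAbelian 2 N ∧ Nonempty (G ⧸ N ≃* Equiv.Perm (Fin 3))) ∨
      (Cfsg.IsElementaryAbelian 3 N ∧ ((IsCyclic (G ⧸ N) ∧ N.index = 4) ∨ Nonempty (G ⧸ N ≃* QuaternionGroup 2))) := by
  have hor : ∀ g : G, orderOf g ≤ 4 := fun g => (h.subset ⟨g, rfl⟩ : 1 ≤ orderOf g ∧ _).2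
  have hex : ∀ k, 1 ≤ k → k ≤ 4 → ∃ g : G, orderOf g = k := fun k h1 h2 =>
    h.symm.subset (show k ∈ {k : ℕ | 1 ≤ k ∧ k ≤ 4} from ⟨h1, h2⟩)
  haveI hs : Group.IsSolvable G := by
    refine SolvStruct.isSolvable_of_primeFactors_card_le_two (le_trans (Finset.card_le_card
      (t := ({2, 3} : Finset ℕ)) fun p hp => ?_) (by decide))
    obtain ⟨hp', hd, -⟩ := Nat.mem_primeFactors.mp hp
    haveI := Fact.mk hp'
    obtain ⟨g, hg⟩ := exists_prime_orderOf_dvd_card' p hd
    rcases order_cases hor g with e | e | e | e <;> rw [e] at hg <;> subst hg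
    · exact absurd hp' (by decide)
    · decide
    · decide
    · exact absurd hp' (by decide)
  by_cases hO : pCore 3 G = ⊥
  · rcases case_two hor (hex 3 (by omega) (by omega)) (hex 4 (by omega) le_rfl) hs hO with hc | hc
    · exact ⟨pCore 2 G, inferInstance, Or.inl hc⟩
    · exact ⟨pCore 2 G, inferInstance, Or.inr (Or.inl hc)⟩
  · exact ⟨pCore 3 G, inferInstance, Or.inr (Or.inr
      (case_three hor (hex 2 (by omega) (by omega)) (hex 4 (by omega) le_rfl) hO))⟩

end Cfsg.Agent.S4006
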