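import Cfsg.Statements.S4009
import Cfsg.Agent.Lib.PGroups.Basic

/-!
Mann's lower bound for the order of a `p`-group of given derived length, by a potential
argument along the derived series.
-/

set_option autoImplicit false
open Cfsg

namespace Cfsg.Agent.S4009

open Subgroup
open Cfsg.Agent.PGroups.Basic
open scoped commutatorElement

variable {G : Type*} [Group G]

/-- Lower central series, starting with `G` at `0`. -/
abbrev lc (G : Type*) [Group G] (k : ℕ) : Subgroup G := (⊤ : Subgroup G).lowerCentralSeries k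

theorem lc_anti {a b : ℕ} (h : a ≤ b) : lc G b ≤ lc G a :=
  Subgroup.lowerCentralSeries_antitone _ h

instance lc_normal (k : ℕ) : (lc G k).Normal := by
  unfold lc; infer_instance

theorem iterTop_lc (a : ℕ) : ∀ m, iterTop (lc G a) m = lc G (a + m)
  | 0 => rfl
  | m + 1 => by
    show ⁅iterTop (lc G a) m, (⊤ : Subgroup G)⁆ = _
    rw [iterTop_lc a m]; rfl

theorem comm_lc_le (a b : ℕ) : ⁅lc G a, lc G b⁆ ≤ lc G (a + b + 1) := by
  refine (commutator_lowerCentral_le b (lc G a)).trans ?_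
  rw [iterTop_lc]
  exact le_of_eq (by rw [Nat.add_assoc])

/-- If `N` is cyclic modulo a normal `L`, then `[N,N] ≤ [N,L]`. -/
theorem comm_le_of_cyclic_mod (N L : Subgroup G) [N.Normal] [L.Normal] (hLN : L ≤ N)
    (u : G) (h : N ≤ zpowers u ⊔ L) (hu : u ∈ N) : ⁅N, N⁆ ≤ ⁅N, L⁆ := by
  haveI : (⁅N, L⁆ : Subgroup G).Normal := commutator_normal N L
  set f := QuotientGroup.mk' ⁅N, L⁆ with hf
  have key : ∀ A : Subgroup G, A ≤ ⁅N, L⁆ ↔ A.map f = ⊥ := fun A => by
    rw [Subgroup.map_eq_bot_iff]; simp [f]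
  have hNL : N.map f ≤ centralizer (L.map f : Set (G ⧸ ⁅N, L⁆)) := by
    rw [← commutator_eq_bot_iff_le_centralizer, ← Subgroup.map_commutator]
    exact (key _).mp le_rfl
  have hLN' : L.map f ≤ centralizer (N.map f : Set (G ⧸ ⁅N, L⁆)) :=
    le_centralizer_iff.mp hNL
  have hu' : f u ∈ centralizer (N.map f : Set (G ⧸ ⁅N, L⁆)) := by
    have : N.map f ≤ centralizer (zpowers (f u) : Set (G ⧸ ⁅N, L⁆)) := by
      refine (Subgroup.map_mono h).trans ?_
      rw [Subgroup.map_sup, MonoidHom.map_zpowers]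
      refine sup_le (Subgroup.le_centralizer _) ?_
      refine hLN'.trans (centralizer_le ?_)
      exact SetLike.coe_subset_coe.mpr (zpowers_le.mpr (mem_map_of_mem f hu))
    exact le_centralizer_iff.mp this (mem_zpowers _)
  rw [key, Subgroup.map_commutator, commutator_eq_bot_iff_le_centralizer]
  refine (Subgroup.map_mono h).trans ?_
  rw [Subgroup.map_sup, MonoidHom.map_zpowers]
  exact sup_le (zpowers_le.mpr hu') hLN'

section fin

variable [Finite G] {p : ℕ} [hp : Fact p.Prime]

/-- The exponent of `p` in the order of a subgroup. -/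
noncomputable def ex (p : ℕ) (H : Subgroup G) : ℕ := Nat.log p (Nat.card H)

theorem card_ex (hG : IsPGroup p G) (H : Subgroup G) : Nat.card H = p ^ ex p H := by
  obtain ⟨a, ha⟩ := IsPGroup.iff_card.mp (hG.to_subgroup H)
  rw [ex, ha, Nat.log_pow hp.out.one_lt]

theorem ex_lt (hG : IsPGroup p G) {H K : Subgroup G} (h : H < K) : ex p H + 1 ≤ ex p K := by
  have hc : Nat.card H < Nat.card K := by
    refine lt_of_le_of_ne (Subgroup.card_le_of_le h.le) fun e => h.ne ?_
    exact Subgroup.eq_of_le_of_card_ge h.le e.ge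
  rw [card_ex hG H, card_ex hG K] at hc
  exact (Nat.pow_lt_pow_iff_right hp.out.one_lt).mp hc

theorem ex_mono {H K : Subgroup G} (h : H ≤ K) : ex p H ≤ ex p K :=
  Nat.log_mono_right (Subgroup.card_le_of_le h)

/-- The series `N, [N,G], …` is strict until it reaches `[N,N]`. -/
theorem iter_steps (hG : IsPGroup p G) (N : Subgroup G) [N.Normal] (hne : ⁅N, N⁆ ≠ ⊥) (v : ℕ)
    (hv : ⁅N, N⁆ ≤ iterTop N v) :
    ∀ r, 1 ≤ r → r ≤ v → ex p (⁅N, N⁆) + (v - r) ≤ ex p (iterTop N r) := by
  haveI := hG.isNilpotent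
  have strict : ∀ r, r < v → iterTop N (r + 1) < iterTop N r := by
    intro r hr
    refine lt_of_le_of_ne (iterTop_succ_le N r) fun e => hne (le_bot_iff.mp ?_)
    refine (hv.trans (iterTop_antitone N hr.le)).trans ?_
    refine le_of_le_commutator_sup _ ⊥ ?_
    rw [sup_bot_eq]
    exact le_of_eq e.symm
  intro r _ hr
  obtain ⟨d, rfl⟩ := Nat.exists_eq_add_of_le hr
  clear hr
  induction d generalizing r with
  | zero => simpa using ex_mono (p := p) hv
  | succ d ih =>
    have h1 := ih (r + 1) (by omega) (by rwa [show r + 1 + d = r + (d + 1) by omega])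
      (fun q hq => strict q (by omega))
    have h2 := ex_lt hG (strict r (by omega))
    omega

theorem step_two (hG : IsPGroup p G) (N L : Subgroup G) (hLN : L ≤ N)
    (h : ∀ u ∈ N, ¬ N ≤ zpowers u ⊔ L) : ex p L + 2 ≤ ex p N := by
  obtain ⟨u, hu, hu'⟩ : ∃ u ∈ N, u ∉ L := by
    by_contra hc
    exact h 1 (one_mem N) (le_sup_of_le_right fun x hx => not_not.mp fun hx' => hc ⟨x, hx, hx'⟩)
  have h1 : L < zpowers u ⊔ L :=
    lt_of_le_of_ne le_sup_right fun e => hu' (e ▸ mem_sup_left (mem_zpowers u))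
  have h2 : zpowers u ⊔ L < N :=
    lt_of_le_of_ne (sup_le (zpowers_le.mpr hu) hLN) fun e => h u hu e.ge
  have := ex_lt hG h1
  have := ex_lt hG h2
  omega

theorem step_three (hG : IsPGroup p G) (N L : Subgroup G) (hLN : L ≤ N)
    (h : ∀ u ∈ N, ∀ v ∈ N, ¬ N ≤ zpowers u ⊔ zpowers v ⊔ L) : ex p L + 3 ≤ ex p N := by
  obtain ⟨u, hu, hu'⟩ : ∃ u ∈ N, u ∉ L := by
    by_contra hc
    exact h 1 (one_mem N) 1 (one_mem N)
      (le_sup_of_le_right fun x hx => not_not.mp fun hx' => hc ⟨x, hx, hx'⟩)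
  have h1 : L < zpowers u ⊔ L :=
    lt_of_le_of_ne le_sup_right fun e => hu' (e ▸ mem_sup_left (mem_zpowers u))
  have := ex_lt hG h1
  have := step_two hG N (zpowers u ⊔ L) (sup_le (zpowers_le.mpr hu) hLN) (fun v hv hc =>
    h u hu v hv (hc.trans (by rw [← sup_assoc, sup_comm (zpowers v)])))
  omega

/-- Hall's bound: `|N/[N,N]| ≥ p ^ (v + 1)` for nonabelian normal `N ≤ γ_v`. -/
theorem hall_step (hG : IsPGroup p G) (N : Subgroup G) [N.Normal] (hne : ⁅N, N⁆ ≠ ⊥) (a : ℕ)
    (hN : N ≤ lc G a) : ex p (⁅N, N⁆) + (a + 2) ≤ ex p N := by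
  have hv : ⁅N, N⁆ ≤ iterTop N (a + 1) :=
    (commutator_mono le_rfl hN).trans (commutator_lowerCentral_le a N)
  haveI : (⁅N, (⊤ : Subgroup G)⁆ : Subgroup G).Normal := commutator_normal _ _
  have hL : ⁅N, (⊤ : Subgroup G)⁆ ≤ N := commutator_le_left _ _
  have hL1 : ⁅N, (⊤ : Subgroup G)⁆ ≤ lc G (a + 1) := commutator_mono hN le_rfl
  by_cases hc : ∃ u ∈ N, N ≤ zpowers u ⊔ ⁅N, (⊤ : Subgroup G)⁆
  · obtain ⟨u, hu, hc⟩ := hc
    have hv2 : ⁅N, N⁆ ≤ iterTop N (a + 2) :=
      ((comm_le_of_cyclic_mod N _ hL u hc hu).trans (commutator_mono le_rfl hL1)).trans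
        (commutator_lowerCentral_le (a + 1) N)
    have h1 := iter_steps hG N hne (a + 2) hv2 1 le_rfl (by omega)
    have h2 : ex p (iterTop N 1) + 1 ≤ ex p N := by
      refine ex_lt hG (lt_of_le_of_ne hL fun e => hne (le_bot_iff.mp ?_))
      haveI := hG.isNilpotent
      refine (Subgroup.commutator_le_left N N).trans ?_
      refine le_of_le_commutator_sup _ ⊥ ?_
      rw [sup_bot_eq]
      exact le_of_eq e.symm
    omega
  · have h1 := iter_steps hG N hne (a + 1) hv 1 le_rfl (by omega)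
    have h2 : ex p (iterTop N 1) + 2 ≤ ex p N :=
      step_two hG N _ hL fun u hu hu' => hc ⟨u, hu, hu'⟩
    omega

open scoped Classical in
/-- The potential. -/
noncomputable def pot (N : Subgroup G) (w : ℕ) : ℕ :=
  if N ≤ lc G w then 0 else if ∃ u ∈ N, N ≤ zpowers u ⊔ (N ⊓ lc G w) then 1 else 2

theorem pot_le_two (N : Subgroup G) (w : ℕ) : pot N w ≤ 2 := by
  unfold pot; split_ifs <;> omega

/-- One step of the derived series. -/
theorem pot_step (hG : IsPGroup p G) (N : Subgroup G) [N.Normal] (hne : ⁅N, N⁆ ≠ ⊥) (a : ℕ)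
    (hN : N ≤ lc G a) :
    ex p (⁅N, N⁆) + pot (⁅N, N⁆) (2 * (a + 1)) + (a + 1) + 2 ≤ ex p N + pot N (a + 1) := by
  classical
  have hhall := hall_step hG N hne a hN
  have hL : N ⊓ lc G (a + 1) ≤ N := inf_le_left
  haveI : (N ⊓ lc G (a + 1)).Normal := Subgroup.normal_inf_normal _ _
  have hK : ⁅N, N ⊓ lc G (a + 1)⁆ ≤ lc G (2 * (a + 1)) :=
    (commutator_mono hN inf_le_right).trans
      ((comm_lc_le a (a + 1)).trans (lc_anti (by omega)))
  by_cases h0 : N ≤ lc G (a + 1)
  · have := hall_step hG N hne (a + 1) h0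
    have h' : pot (⁅N, N⁆) (2 * (a + 1)) = 0 :=
      if_pos ((commutator_mono h0 h0).trans ((comm_lc_le _ _).trans (lc_anti (by omega))))
    omega
  by_cases h1 : ∃ u ∈ N, N ≤ zpowers u ⊔ (N ⊓ lc G (a + 1))
  · have hp1 : pot N (a + 1) = 1 := by rw [pot, if_neg h0, if_pos h1]
    obtain ⟨u, hu, hu'⟩ := h1
    have h' : pot (⁅N, N⁆) (2 * (a + 1)) = 0 :=
      if_pos ((comm_le_of_cyclic_mod N _ hL u hu' hu).trans hK)
    omega
  have hp2 : pot N (a + 1) = 2 := by rw [pot, if_neg h0, if_neg h1]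
  by_cases h2 : ∃ u ∈ N, ∃ v ∈ N, N ≤ zpowers u ⊔ zpowers v ⊔ (N ⊓ lc G (a + 1))
  · obtain ⟨u, hu, v, hv, hN2⟩ := h2
    set K := lc G (2 * (a + 1)) with hKdef
    set c := ⁅u, v⁆ with hcdef
    have hc : c ∈ ⁅N, N⁆ := commutator_mem_commutator hu hv
    have hNN : ⁅N, N⁆ ≤ lc G (2 * a + 1) :=
      (commutator_mono hN hN).trans ((comm_lc_le a a).trans (lc_anti (by omega)))
    set J := zpowers c ⊔ K with hJ
    have hJle : J ≤ lc G (2 * a + 1) :=
      sup_le (zpowers_le.mpr (hNN hc)) (lc_anti (by omega))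
    haveI : J.Normal := ⟨fun x hx g => by
      have h : ⁅x, g⁆ ∈ K := by
        rw [hKdef, show 2 * (a + 1) = (2 * a + 1) + 1 by omega]
        exact commutator_mem_commutator (hJle hx) (mem_top g)
      have e : g * x * g⁻¹ = ⁅x, g⁆⁻¹ * x := by group
      rw [e]
      exact mul_mem (inv_mem (mem_sup_right h)) hx⟩
    set f := QuotientGroup.mk' J with hf
    have key : ∀ A : Subgroup G, A ≤ J ↔ A.map f = ⊥ := fun A => by
      rw [Subgroup.map_eq_bot_iff]; simp [f]
    have hLc : (N ⊓ lc G (a + 1)).map f ≤ centralizer (N.map f : Set (G ⧸ J)) := by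
      refine le_centralizer_iff.mp ?_
      rw [← commutator_eq_bot_iff_le_centralizer, ← Subgroup.map_commutator]
      exact (key _).mp (hK.trans le_sup_right)
    have huv : Commute (f u) (f v) := by
      rw [← commutatorElement_eq_one_iff_commute, ← map_commutatorElement]
      exact (QuotientGroup.eq_one_iff _).mpr (mem_sup_left (mem_zpowers c))
    have hcent : ∀ x ∈ N, Commute (f x) (f u) → Commute (f x) (f v) →
        f x ∈ centralizer (N.map f : Set (G ⧸ J)) := by
      intro x hx hxu hxv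
      have h : N.map f ≤ centralizer (zpowers (f x) : Set (G ⧸ J)) := by
        refine (Subgroup.map_mono hN2).trans ?_
        rw [Subgroup.map_sup, Subgroup.map_sup, MonoidHom.map_zpowers, MonoidHom.map_zpowers]
        refine sup_le (sup_le ?_ ?_) ?_
        · rw [zpowers_le, mem_centralizer_iff]
          intro y hy
          obtain ⟨t, rfl⟩ := mem_zpowers_iff.mp hy
          exact (hxu.zpow_left t).eq
        · rw [zpowers_le, mem_centralizer_iff]
          intro y hy
          obtain ⟨t, rfl⟩ := mem_zpowers_iff.mp hy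
          exact (hxv.zpow_left t).eq
        · exact hLc.trans (centralizer_le (SetLike.coe_subset_coe.mpr
            (zpowers_le.mpr (mem_map_of_mem f hx))))
      exact le_centralizer_iff.mp h (mem_zpowers _)
    have hNJ : ⁅N, N⁆ ≤ J := by
      rw [key, Subgroup.map_commutator, commutator_eq_bot_iff_le_centralizer]
      refine (Subgroup.map_mono hN2).trans ?_
      rw [Subgroup.map_sup, Subgroup.map_sup, MonoidHom.map_zpowers, MonoidHom.map_zpowers]
      exact sup_le (sup_le (zpowers_le.mpr (hcent u hu (Commute.refl _) huv))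
        (zpowers_le.mpr (hcent v hv huv.symm (Commute.refl _)))) hLc
    have h' : pot (⁅N, N⁆) (2 * (a + 1)) ≤ 1 := by
      unfold pot
      split_ifs with g0 g1
      · omega
      · omega
      · refine absurd ⟨c, hc, fun y hy => ?_⟩ g1
        obtain ⟨s, hs, t, ht, rfl⟩ := mem_sup_of_normal_right.mp (hNJ hy)
        have hs' : s ∈ ⁅N, N⁆ := zpowers_le.mpr hc hs
        exact mul_mem (mem_sup_left hs)
          (mem_sup_right ⟨by simpa using mul_mem (inv_mem hs') hy, ht⟩)
    omega
  · have hthree : ex p (N ⊓ lc G (a + 1)) + 3 ≤ ex p N :=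
      step_three hG N _ hL fun u hu v hv hh => h2 ⟨u, hu, v, hv, hh⟩
    have hle : ex p (iterTop N 1) ≤ ex p (N ⊓ lc G (a + 1)) :=
      ex_mono (show ⁅N, (⊤ : Subgroup G)⁆ ≤ _ from le_inf (commutator_le_left _ _) (commutator_mono hN le_rfl))
    have hv' : ⁅N, N⁆ ≤ iterTop N (a + 1) :=
      (commutator_mono le_rfl hN).trans (commutator_lowerCentral_le a N)
    have h1 := iter_steps hG N hne (a + 1) hv' 1 le_rfl (by omega)
    have h' := pot_le_two (⁅N, N⁆) (2 * (a + 1))
    omega

end fin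

/-- Let P be a finite p-group of order p^n whose derived length is exactly k + 1 (the k-th derived subgroup is nontrivial and the (k+1)-st is trivial). Then n ≥ 2^k + 2k − 2. -/
theorem result {P : Type*} [Group P] [Finite P] (p : ℕ) [Fact p.Prime] (n k : ℕ) (hcard : Nat.card P = p ^ n) (hk : derivedSeries P k ≠ ⊥) (hk' : derivedSeries P (k + 1) = ⊥) : 2 ^ k + 2 * k ≤ n + 2 := by
  have hG : IsPGroup p P := IsPGroup.of_card hcard
  have hlc : ∀ i, derivedSeries P i ≤ lc P (2 ^ i - 1) := by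
    intro i
    induction i with
    | zero => simp [lc]
    | succ i ih =>
      rw [derivedSeries_succ]
      refine (Subgroup.commutator_mono ih ih).trans ((comm_lc_le _ _).trans (lc_anti ?_))
      have := Nat.one_le_two_pow (n := i)
      rw [pow_succ]; omega
  have main : ∀ i, i ≤ k →
      ex p (derivedSeries P i) + pot (derivedSeries P i) (2 ^ i) + (2 ^ i + 2 * i) ≤ n + 3 := by
    intro i
    induction i with
    | zero =>
      intro _
      have h1 : ex p (derivedSeries P 0) = n := by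
        rw [ex, derivedSeries_zero, Subgroup.card_top, hcard, Nat.log_pow (Fact.out : p.Prime).one_lt]
      have := pot_le_two (derivedSeries P 0) (2 ^ 0)
      simp only [pow_zero] at this ⊢
      omega
    | succ i ih =>
      intro hi
      have h0 := ih (by omega)
      haveI := derivedSeries_normal P i
      have hne : ⁅derivedSeries P i, derivedSeries P i⁆ ≠ ⊥ := by
        rw [← derivedSeries_succ]
        exact fun e => hk (le_bot_iff.mp ((derivedSeries_antitone P hi).trans e.le))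
      have hs := pot_step hG (derivedSeries P i) hne (2 ^ i - 1) (hlc i)
      have h2 := Nat.one_le_two_pow (n := i)
      rw [show 2 ^ i - 1 + 1 = 2 ^ i by omega, ← derivedSeries_succ, ← pow_succ'] at hs
      rw [pow_succ] at hs ⊢
      omega
  have := main k le_rfl
  have h1 : ex p (⊥ : Subgroup P) + 1 ≤ ex p (derivedSeries P k) :=
    ex_lt hG (bot_lt_iff_ne_bot.mpr hk)
  omega

end Cfsg.Agent.S4009
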