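import Cfsg.Statements.S4010
import Mathlib
import Cfsg.Agent.GStructB.LinearPGroup

set_option autoImplicit false
open Cfsg

namespace Cfsg.Agent.S4010

/-- Let F be a field, n ≥ 1, and P a finite p-group (p a prime) admitting an injective homomorphism into the general linear group of degree n over F. Then the derived length of P is at most ⌊log₂ n⌋ + 1: that term of the derived series of P is trivial. -/
theorem result {P : Type*} [Group P] [Finite P] (p : ℕ) [Fact p.Prime] (hP : IsPGroup p P) (F : Type*) [Field F] (n : ℕ) (hn : 1 ≤ n) (ρ : P →* Matrix.GeneralLinearGroup (Fin n) F) (hρ : Function.Injective ρ) : derivedSeries P (Nat.log 2 n + 1) = ⊥ := by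
  have hp := (Fact.out : p.Prime)
  rw [Subgroup.eq_bot_iff_forall]
  intro g hg
  by_cases hpk : (p : F) = 0
  · obtain ⟨q, hq⟩ := CharP.exists F
    have hqp : q = p := by
      have h1 := (CharP.cast_eq_zero_iff F q p).mp hpk
      rcases CharP.char_is_prime_or_zero F q with h | h
      · exact (Nat.prime_dvd_prime_iff_eq h hp).mp h1
      · subst h
        exact (zero_dvd_iff.mp h1).symm
    subst hqp
    let σ : P →* Module.End F (Fin n → F) :=
      (Matrix.toLinAlgEquiv' (R := F) (n := Fin n)).toMonoidHom.comp ((Units.coeHom _).comp ρ)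
    have h := GStructB.LinearPGroup.eq_one_of_char hP σ (j := Nat.log 2 n + 1)
      (by rw [Module.finrank_fin_fun]; exact (Nat.lt_pow_succ_log_self one_lt_two n).le) hg
    apply hρ
    rw [map_one]
    exact Units.ext ((Matrix.toLinAlgEquiv' (R := F) (n := Fin n)).injective (h.trans (map_one _).symm))
  · let K := AlgebraicClosure F
    let σ₀ := (Matrix.GeneralLinearGroup.map (n := Fin n) (algebraMap F K)).comp ρ
    let σ : P →* Module.End K (Fin n → K) :=
      (Matrix.toLinAlgEquiv' (R := K) (n := Fin n)).toMonoidHom.comp ((Units.coeHom _).comp σ₀)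
    have h := GStructB.LinearPGroup.eq_one_of_not_char (k := K)
      (by rw [← map_natCast (algebraMap F K)]; exact (map_ne_zero _).mpr hpk) n hP σ
      (Module.finrank_fin_fun K).le g (derivedSeries_antitone P (Nat.succ_le_succ (Nat.log_anti_left one_lt_two hp.two_le)) hg)
    apply hρ
    rw [map_one]
    have h1 : σ₀ g = 1 :=
      Units.ext ((Matrix.toLinAlgEquiv' (R := K) (n := Fin n)).injective (h.trans (map_one _).symm))
    refine Units.ext (Matrix.ext fun i j => (algebraMap F K).injective ?_)
    have h2 : ((σ₀ g : Matrix.GeneralLinearGroup (Fin n) K) : Matrix (Fin n) (Fin n) K) i j = (1 : Matrix (Fin n) (Fin n) K) i j := by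
      rw [h1]; rfl
    rw [show algebraMap F K ((ρ g : Matrix (Fin n) (Fin n) F) i j) = _ from h2, Units.val_one, Matrix.one_apply,
      Matrix.one_apply]
    split_ifs <;> simp

end Cfsg.Agent.S4010
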