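import Cfsg.Statements.S4013

set_option autoImplicit false
open Cfsg

namespace Cfsg.Agent.S4013

/-- Let G be a finite p-group (p prime) and N < M normal subgroups of G such that for some g ∈ M ∖ N the conjugacy class of g is exactly M ∖ N. Then p = 2 and N has index 2 in M. -/
theorem result {G : Type*} [Group G] [Finite G] (p : ℕ) [Fact p.Prime] (hG : IsPGroup p G) (N M : Subgroup G) [N.Normal] [M.Normal] (hNM : N < M) (g : G) (hgM : g ∈ M) (hgN : g ∉ N) (hcl : {h : G | IsConj g h} = (M : Set G) \ (N : Set G)) : p = 2 ∧ N.relIndex M = 2 := by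
  have hp := (Fact.out : p.Prime)
  have hcard : Nat.card {h : G | IsConj g h} = Nat.card M - Nat.card N := by
    rw [hcl, Nat.card_coe_set_eq, Set.ncard_sdiff (SetLike.coe_subset_coe.mpr hNM.le),
      ← Nat.card_coe_set_eq, ← Nat.card_coe_set_eq]
    rfl
  obtain ⟨a, ha⟩ : ∃ a, Nat.card {h : G | IsConj g h} = p ^ a := by
    obtain ⟨a, ha⟩ := (hG.of_equiv ConjAct.toConjAct).card_orbit g
    refine ⟨a, ?_⟩
    rw [← ha]
    apply Nat.card_congr
    apply Equiv.setCongr
    ext h
    rw [Set.mem_ofPred_eq, ConjAct.mem_orbit_conjAct, isConj_comm]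
  obtain ⟨b, hb⟩ := (hG.to_subgroup N).exists_card_eq
  obtain ⟨c, hc⟩ := (hG.to_subgroup M).exists_card_eq
  have hbc : b < c := by
    have hlt : Nat.card N < Nat.card M := by
      by_contra hle
      exact hNM.ne (Subgroup.eq_of_le_of_card_ge hNM.le (not_lt.mp hle))
    rw [hb, hc] at hlt
    exact (Nat.pow_lt_pow_iff_right hp.one_lt).mp hlt
  obtain ⟨d, rfl⟩ : ∃ d, c = b + d := ⟨c - b, by omega⟩
  have hrel : N.relIndex M = p ^ d := by
    have := Subgroup.relIndex_mul_relIndex ⊥ N M bot_le hNM.le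
    rw [Subgroup.relIndex_bot_left, Subgroup.relIndex_bot_left, mul_comm] at this
    rw [hb, hc, pow_add, mul_comm (p ^ b)] at this
    exact Nat.eq_of_mul_eq_mul_right (pow_pos hp.pos _) this
  have hdvd : p ^ b * (p ^ d - 1) = p ^ a := by
    rw [← ha, hcard, hb, hc, pow_add, Nat.mul_sub, mul_one]
  obtain ⟨e, -, he⟩ := (Nat.dvd_prime_pow hp).mp (Dvd.intro_left _ hdvd)
  have hd1 : 1 ≤ p ^ d := Nat.one_le_pow _ _ hp.pos
  have he0 : e = 0 := by
    by_contra h0
    have h1 : p ∣ p ^ d - 1 := he ▸ dvd_pow_self p h0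
    have h2 : p ∣ p ^ d := dvd_pow_self p (by omega)
    have := Nat.dvd_sub h2 h1
    rw [show p ^ d - (p ^ d - 1) = 1 by omega] at this
    exact hp.not_dvd_one this
  rw [he0, pow_zero] at he
  have h2 : p ^ d = 2 := by omega
  refine ⟨?_, hrel.trans h2⟩
  exact ((Nat.prime_dvd_prime_iff_eq hp Nat.prime_two).mp (h2 ▸ dvd_pow_self p (by omega)))

end Cfsg.Agent.S4013
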