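import Cfsg.Statements.S4014
import Mathlib
import Cfsg.Agent.GStructB.PermPGroup

set_option autoImplicit false
open Cfsg

namespace Cfsg.Agent.S4014

/-- Let p be a prime, n ≥ 1, and P a Sylow p-subgroup of the symmetric group on n letters. Then the derived length of P is exactly k = ⌊log_p n⌋ (the largest k with p^k ≤ n): the k-th derived subgroup of P is trivial and, when k ≥ 1, the (k−1)-st is not. -/
theorem result (p : ℕ) [Fact p.Prime] (n : ℕ) (hn : 1 ≤ n) (P : Sylow p (Equiv.Perm (Fin n))) : derivedSeries ↥(P : Subgroup (Equiv.Perm (Fin n))) (Nat.log p n) = ⊥ ∧ (1 ≤ Nat.log p n → derivedSeries ↥(P : Subgroup (Equiv.Perm (Fin n))) (Nat.log p n - 1) ≠ ⊥) := by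
  have hp := (Fact.out : p.Prime)
  refine ⟨?_, fun hk => ?_⟩
  · rw [Subgroup.eq_bot_iff_forall]
    intro g hg
    refine Subtype.ext (Equiv.ext fun x => ?_)
    exact GStructB.PermPGroup.smul_eq_of_mem P.2 (X := Fin n) (by rwa [Nat.card_fin]) x
  · obtain ⟨j, hj⟩ : ∃ j, Nat.log p n = j + 1 := ⟨Nat.log p n - 1, by omega⟩
    rw [hj, Nat.add_sub_cancel]
    have hle : p ^ (j + 1) ≤ n := hj ▸ Nat.pow_log_le_self p (by omega)
    obtain ⟨Q⟩ : Nonempty (Sylow p (Equiv.Perm (Fin (p ^ (j + 1))))) := inferInstance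
    let e := Sylow.mulEquivIteratedWreathProduct p (j + 1) (Fin (p ^ (j + 1))) (Nat.card_fin _)
      (Multiplicative (ZMod p)) (by simp) Q
    let f := Equiv.Perm.viaEmbeddingHom (Fin.castLEEmb hle)
    obtain ⟨R, hR⟩ := (Q.2.map f).exists_le_sylow
    let φ : IteratedWreathProduct (Multiplicative (ZMod p)) (j + 1) →* (P : Subgroup (Equiv.Perm (Fin n))) :=
      ((R.equiv P).toMonoidHom.comp ((Subgroup.inclusion hR).comp (f.subgroupMap (Q : Subgroup _)))).comp
        e.symm.toMonoidHom
    have hφ : Function.Injective φ := ((R.equiv P).injective.comp ((Subgroup.inclusion_injective hR).comp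
      (fun a b h => Subtype.ext (Equiv.Perm.viaEmbeddingHom_injective _ (congrArg Subtype.val h :))))).comp
      e.symm.injective
    intro hbot
    have h1 := map_derivedSeries_le_derivedSeries φ j
    rw [hbot, le_bot_iff, Subgroup.map_eq_bot_iff_of_injective _ hφ] at h1
    exact GStructB.PermPGroup.iterated_ne_bot (Multiplicative (ZMod p)) j h1

end Cfsg.Agent.S4014
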