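import Cfsg.Statements.S4015
import Mathlib
import Cfsg.Agent.GStructB.GLDerived

set_option autoImplicit false
open Cfsg

namespace Cfsg.Agent.S4015

/-- Let p be an odd prime, F a finite field with q elements where p does not divide q, and e the multiplicative order of q modulo p. Let n ≥ e and write w = ⌊n/e⌋ and k = ⌊log_p w⌋. Then a Sylow p-subgroup of GL(n, F) has derived length exactly k + 1: its (k+1)-st derived subgroup is trivial and its k-th is not. -/
theorem result (p : ℕ) [Fact p.Prime] (hp : p ≠ 2) (F : Type*) [Field F] [Fintype F] (q : ℕ) (hq : Fintype.card F = q) (hpq : ¬ p ∣ q) (n : ℕ) (hn : orderOf (q : ZMod p) ≤ n) (P : Sylow p (Matrix.GeneralLinearGroup (Fin n) F)) : derivedSeries ↥(P : Subgroup (Matrix.GeneralLinearGroup (Fin n) F)) (Nat.log p (n / orderOf (q : ZMod p)) + 1) = ⊥ ∧ derivedSeries ↥(P : Subgroup (Matrix.GeneralLinearGroup (Fin n) F)) (Nat.log p (n / orderOf (q : ZMod p))) ≠ ⊥ := by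
  classical
  have hpp := (Fact.out : p.Prime)
  subst hq
  set o := orderOf (Fintype.card F : ZMod p) with ho
  have ho0 : 0 < o := (isOfFinOrder_iff_pow_eq_one.mpr ⟨p - 1, by have := hpp.two_le; omega, ZMod.pow_card_sub_one_eq_one
    (by rwa [Ne, ZMod.natCast_eq_zero_iff])⟩).orderOf_pos
  have hpF : (p : F) ≠ 0 := by
    intro h
    obtain ⟨r, hr⟩ := CharP.exists F
    obtain ⟨a, hrp, hra⟩ := FiniteField.card F r
    have h1 := (Nat.prime_dvd_prime_iff_eq hrp hpp).mp ((CharP.cast_eq_zero_iff F r p).mp h)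
    exact hpq (by rw [hra, h1]; exact dvd_pow_self p a.ne_zero)
  have hd : 1 ≤ n / o := (Nat.le_div_iff_mul_le ho0).mpr (by rwa [one_mul])
  refine ⟨?_, ?_⟩
  · rw [Subgroup.eq_bot_iff_forall]
    intro g hg
    let K := AlgebraicClosure F
    let σ₀ := (Matrix.GeneralLinearGroup.map (n := Fin n) (algebraMap F K)).comp
      (P : Subgroup (Matrix.GeneralLinearGroup (Fin n) F)).subtype
    let σ : (P : Subgroup (Matrix.GeneralLinearGroup (Fin n) F)) →* Module.End K (Fin n → K) :=
      (Matrix.toLinAlgEquiv' (R := K) (n := Fin n)).toMonoidHom.comp ((Units.coeHom _).comp σ₀)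
    have h := GStructB.LinearPGroup.eq_one_of_eigen_bound (k := K) (d := n / o)
      (by rw [← map_natCast (algebraMap F K)]; exact (map_ne_zero _).mpr hpF) n P.2 σ
      (Module.finrank_fin_fun K).le (fun z μ hμ => (Nat.le_div_iff_mul_le ho0).mpr (by
        rw [mul_comm]
        exact GStructB.GLDerived.mul_eigen_le hpq P.2 (P : Subgroup (Matrix.GeneralLinearGroup (Fin n) F)).subtype z μ hμ))
      g hg
    have h1 : σ₀ g = 1 :=
      Units.ext ((Matrix.toLinAlgEquiv' (R := K) (n := Fin n)).injective (h.trans (map_one _).symm))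
    refine Subtype.ext (Units.ext (Matrix.ext fun i j => (algebraMap F K).injective ?_))
    have h2 : ((σ₀ g : Matrix.GeneralLinearGroup (Fin n) K) : Matrix (Fin n) (Fin n) K) i j =
        (1 : Matrix (Fin n) (Fin n) K) i j := by
      rw [h1]; rfl
    rw [show algebraMap F K (((g : Matrix.GeneralLinearGroup (Fin n) F) : Matrix (Fin n) (Fin n) F) i j) = _ from h2,
      OneMemClass.coe_one, Units.val_one, Matrix.one_apply, Matrix.one_apply]
    split_ifs <;> simp
  · obtain ⟨x, hx⟩ := exists_prime_orderOf_dvd_card' (G := Matrix.GeneralLinearGroup (Fin o) F) p (by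
      rw [Classical.Linear.natCard_GL_fin]
      refine Dvd.dvd.trans ?_ (Finset.dvd_prod_of_mem _ (Finset.mem_univ (⟨0, ho0⟩ : Fin o)))
      rw [pow_zero, ← ZMod.natCast_eq_zero_iff, Nat.cast_sub (Nat.one_le_pow _ _ Fintype.card_pos), Nat.cast_pow,
        ho, pow_orderOf_eq_one, Nat.cast_one, sub_self])
    let C : Subgroup (Matrix.GeneralLinearGroup (Fin o) F) := Subgroup.zpowers x
    have hC : Nat.card C = p := by rw [Nat.card_zpowers, hx]
    have : Nontrivial C := Finite.one_lt_card_iff_nontrivial.mp (hC ▸ hpp.one_lt)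
    let e : C ≃* Multiplicative (ZMod p) := (zmodMulEquivOfGenerator (g := (⟨x, Subgroup.mem_zpowers x⟩ : C))
      (fun y => by obtain ⟨k, hk⟩ := Subgroup.mem_zpowers_iff.mp y.2; exact ⟨k, Subtype.ext hk⟩) hC).symm
    let ρ : Multiplicative (ZMod p) →* Module.End F (Fin o → F) :=
      (Matrix.toLinAlgEquiv' (R := F) (n := Fin o)).toMonoidHom.comp ((Units.coeHom _).comp (C.subtype.comp e.symm.toMonoidHom))
    obtain ⟨σ, hσ⟩ := GStructB.GLDerived.exists_iterated_rep (Multiplicative (ZMod p)) ho0 ρ
      ((Matrix.toLinAlgEquiv' (R := F) (n := Fin o)).injective.comp (Units.val_injective.comp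
        (Subtype.coe_injective.comp e.symm.injective))) (Nat.log p (n / o))
    have hcard : Nat.card (Multiplicative (ZMod p)) = p := by simp
    obtain ⟨τ, hτ⟩ := GStructB.GLDerived.exists_extend (n := n) (by
      rw [hcard]
      exact (Nat.mul_le_mul_right o (Nat.pow_log_le_self p (by omega))).trans (Nat.div_mul_le_self n o)) σ hσ
    have hpg : IsPGroup p (IteratedWreathProduct (Multiplicative (ZMod p)) (Nat.log p (n / o) + 1)) :=
      IsPGroup.of_card (n := ∑ i ∈ Finset.range (Nat.log p (n / o) + 1), p ^ i)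
        (by rw [IteratedWreathProduct.card, hcard])
    obtain ⟨R, hR⟩ := (hpg.of_surjective τ.rangeRestrict τ.rangeRestrict_surjective : IsPGroup p τ.range).exists_le_sylow
    let φ : IteratedWreathProduct (Multiplicative (ZMod p)) (Nat.log p (n / o) + 1) →*
        (P : Subgroup (Matrix.GeneralLinearGroup (Fin n) F)) :=
      (R.equiv P).toMonoidHom.comp ((Subgroup.inclusion hR).comp τ.rangeRestrict)
    have hφ : Function.Injective φ := (R.equiv P).injective.comp ((Subgroup.inclusion_injective hR).comp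
      (MonoidHom.rangeRestrict_injective_iff.mpr hτ))
    intro hbot
    have h1 := map_derivedSeries_le_derivedSeries φ (Nat.log p (n / o))
    rw [hbot, le_bot_iff, Subgroup.map_eq_bot_iff_of_injective _ hφ] at h1
    exact GStructB.PermPGroup.iterated_ne_bot (Multiplicative (ZMod p)) _ h1

end Cfsg.Agent.S4015
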