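import Cfsg.Statements.S4018
import Mathlib
import Cfsg.Agent.GStructB.AbelianSylowThree.Chars

set_option autoImplicit false
open Cfsg

namespace Cfsg.Agent.S4018

/-- Let G be a finite group with an abelian Sylow 3-subgroup P such that the normalizer of P has order 4·#P, the centralizer C of P has order 2·#P, C meets each of its conjugates by elements outside its normalizer trivially, and every proper subgroup of G of even order has order dividing 4·#P. Then G is not simple. -/
theorem result {G : Type*} [Group G] [Finite G]
    (P : Sylow 3 G) (hab : IsMulCommutative P)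
    (hN : Nat.card (Subgroup.normalizer ((P : Subgroup G) : Set G)) = 4 * Nat.card P)
    (hC : Nat.card (Subgroup.centralizer (P : Set G)) = 2 * Nat.card P)
    (hTI : Cfsg.IsTISubset (Subgroup.centralizer (P : Set G) : Set G))
    (heven : ∀ H : Subgroup G, H ≠ ⊤ → 2 ∣ Nat.card H → Nat.card H ∣ 4 * Nat.card P) :
    ¬ IsSimpleGroup G := by
  intro hs
  classical
  haveI := Fintype.ofFinite G
  haveI : Fact (Nat.Prime 3) := ⟨by norm_num⟩
  have hne : Nat.card P ≠ 0 := Nat.card_pos.ne'
  have hnonab : ∃ a b : G, a * b ≠ b * a := by
    by_contra hno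
    push Not at hno
    have h1 : Subgroup.centralizer (P : Set G) = ⊤ :=
      eq_top_iff.2 fun x _ => Subgroup.mem_centralizer_iff.2 fun y _ => hno y x
    have h2 : Subgroup.normalizer ((P : Subgroup G) : Set G) = ⊤ :=
      eq_top_iff.2 fun x _ => Subgroup.centralizer_le_normalizer _ (h1 ▸ Subgroup.mem_top x)
    rw [h1, Subgroup.card_top] at hC
    rw [h2, Subgroup.card_top] at hN
    omega
  have hyp : GStructB.AbelianSylowThree.Hyp 3 P := ⟨hs, hnonab, by decide,
    fun a ha b hb => congrArg Subtype.val (hab.is_comm.comm ⟨a, ha⟩ ⟨b, hb⟩), hN, hC,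
    fun g hg x hx hgx => hTI g hg x hx hgx, heven⟩
  obtain ⟨t, u, hset⟩ := GStructB.AbelianSylowThree.exists_setup hyp
  have hcov := GStructB.AbelianSylowThree.covered_of_hyp hyp hset
  have hG : ¬ IsMulCommutative G := fun hc => by
    obtain ⟨a, b, h⟩ := hnonab
    exact h (hc.is_comm.comm a b)
  obtain ⟨k, hk⟩ := IsPGroup.iff_card.1 P.2
  rcases Nat.lt_or_ge (Nat.card P) 9 with hlt | hge
  · have hcard := GStructB.AbelianSylowThree.card_eq hset hcov
    have hk1 : k < 2 := by
      by_contra hk2
      have := Nat.pow_le_pow_right (show 1 ≤ 3 by norm_num) (not_lt.1 hk2)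
      rw [← hk] at this
      omega
    interval_cases k
    · -- trivial Sylow subgroup: the group would have order twelve
      rw [hk] at hcard
      norm_num at hcard
      have h3 : 3 ^ 1 ∣ Nat.card P := P.pow_dvd_card_of_pow_dvd_card (by
        rw [Nat.card_eq_fintype_card, hcard]; norm_num)
      rw [hk] at h3
      norm_num at h3
    · rw [hk] at hcard
      norm_num at hcard
      haveI : Fact (Nat.Prime 31) := ⟨by norm_num⟩
      let Q : Sylow 31 G := default
      have hmul := (Q : Subgroup G).card_mul_index
      obtain ⟨j, hj⟩ := IsPGroup.iff_card.1 Q.2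
      have h31 : 31 ^ 1 ∣ Nat.card Q := Q.pow_dvd_card_of_pow_dvd_card (by
        rw [Nat.card_eq_fintype_card, hcard]; norm_num)
      have hQd : Nat.card Q ∣ 372 := by
        rw [← hcard, ← Nat.card_eq_fintype_card]; exact Subgroup.card_subgroup_dvd_card _
      have hj1 : j = 1 := by
        rw [hj] at h31 hQd
        have h1 := (Nat.pow_dvd_pow_iff_le_right (by norm_num)).1 h31
        by_contra hj1
        have h2 : 31 ^ 2 ∣ 372 := (pow_dvd_pow 31 (by omega : 2 ≤ j)).trans hQd
        norm_num at h2
      rw [hj1, pow_one] at hj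
      have hidx : (Q : Subgroup G).index = 12 := by
        rw [hj, Nat.card_eq_fintype_card, hcard] at hmul
        omega
      have hmod := card_sylow_modEq_one 31 G
      have hdvd := Sylow.card_dvd_index Q
      rw [hidx] at hdvd
      have hone : Nat.card (Sylow 31 G) = 1 := by
        have := Nat.le_of_dvd (by norm_num) hdvd
        rw [Nat.ModEq] at hmod
        omega
      haveI := (Nat.card_eq_one_iff_unique.1 hone).1
      haveI : (Q : Subgroup G).Normal := Sylow.normal_of_subsingleton Q
      rcases (inferInstance : (Q : Subgroup G).Normal).eq_bot_or_eq_top with e | e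
      · rw [e] at hj; simp at hj
      · rw [e, Subgroup.card_top, Nat.card_eq_fintype_card, hcard] at hj
        norm_num at hj
  · exact GStructB.AbelianSylowThree.false_of_setup hG hset hcov hge

end Cfsg.Agent.S4018
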