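import Cfsg.Statements.S4024
import Mathlib
import Cfsg.Agent.GStructB.ConjPSubgroups
import Cfsg.Agent.Lib.PLocal.PSolvable

set_option autoImplicit false
open Cfsg

namespace Cfsg.Agent.S4024

/-- Let p be an odd prime and G a finite group in which any two p-subgroups of the same order are conjugate, with Sylow p-subgroup P. If H is a normal p-solvable subgroup of G whose order is divisible by p, then P is abelian, and either P ≤ H or P is cyclic. -/
theorem result {G : Type*} [Group G] [Finite G]
    {p : ℕ} [Fact p.Prime] (hp : p ≠ 2) (hC : ∀ H K : Subgroup G, IsPGroup p H → IsPGroup p K → Nat.card H = Nat.card K →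
      ∃ g : G, K = H.map (MulAut.conj g).toMonoidHom) (P : Sylow p G)
    (H : Subgroup G) [H.Normal] (hsolv : Cfsg.IsPSolvable p H) (hdiv : p ∣ Nat.card H) :
    IsMulCommutative P ∧ ((P : Subgroup G) ≤ H ∨ IsCyclic P) := by
  obtain ⟨K, -, ⟨hKn, hKH, hKc⟩, hKmax⟩ := Set.Finite.exists_le_maximal (Set.toFinite
    {K : Subgroup G | K.Normal ∧ K ≤ H ∧ (Nat.card K).Coprime p}) (a := ⊥)
    ⟨inferInstance, bot_le, by simp⟩
  haveI := hKn
  set f := QuotientGroup.mk' K with hf
  have hsurj : Function.Surjective f := QuotientGroup.mk'_surjective K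
  have hC' : GStructB.ConjPSubgroups.ConjP p (G ⧸ K) := GStructB.ConjPSubgroups.quotient hC K
  haveI hHn : (H.map f).Normal := Subgroup.Normal.map inferInstance f hsurj
  have hcomap : (H.map f).comap f = H := by
    rw [Subgroup.comap_map_eq, QuotientGroup.ker_mk', sup_eq_left.mpr hKH]
  have hHb : H.map f ≠ ⊥ := by
    intro h
    have : H ≤ K := fun x hx => by
      have : f x ∈ H.map f := ⟨x, hx, rfl⟩
      rw [h, Subgroup.mem_bot] at this
      exact (QuotientGroup.eq_one_iff x).mp this
    exact (Fact.out : p.Prime).ne_one (Nat.eq_one_of_dvd_coprimes hKc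
      (hdiv.trans (Subgroup.card_dvd_of_le this)) dvd_rfl)
  haveI : Nontrivial (H.map f) := (Subgroup.nontrivial_iff_ne_bot _).mpr hHb
  have hsol : IsPSolvable p (H.map f) :=
    PLocal.PSolvable.of_surjective hsolv (f := f.subgroupMap H) (f.subgroupMap_surjective H)
  have hcore : Cfsg.pPrimeCore p (H.map f) = ⊥ := by
    by_contra hne
    set N := (Cfsg.pPrimeCore p (H.map f)).map (H.map f).subtype
    haveI hNn : N.Normal := ConjAct.normal_of_characteristic_of_normal
    have hNc : (Nat.card N).Coprime p := by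
      rw [Subgroup.card_map_of_injective (Subgroup.subtype_injective _)]
      exact Cores.pPrimeCore_card_coprime p
    have hmem : (N.comap f).Normal ∧ N.comap f ≤ H ∧ (Nat.card (N.comap f)).Coprime p :=
      ⟨inferInstance, (Subgroup.comap_mono (Subgroup.map_subtype_le _)).trans hcomap.le, by
        rw [Cores.card_comap_mk']; exact hKc.mul_left hNc⟩
    have hle := hKmax hmem (fun x hx => by
      show f x ∈ N
      rw [show f x = 1 from (QuotientGroup.eq_one_iff x).mpr hx]
      exact N.one_mem)
    apply hne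
    rw [← Subgroup.map_eq_bot_iff_of_injective _ (Subgroup.subtype_injective (H.map f))]
    rw [eq_bot_iff]
    intro y hy
    obtain ⟨x, rfl⟩ := hsurj y
    exact Subgroup.mem_bot.mpr ((QuotientGroup.eq_one_iff x).mpr (hle hy))
  have hpc : Cfsg.pCore p (H.map f) ≠ ⊥ :=
    (PLocal.PSolvable.exists_core_ne_bot hsol).resolve_right (by simp [hcore])
  set N := (Cfsg.pCore p (H.map f)).map (H.map f).subtype with hN
  haveI hNn : N.Normal := ConjAct.normal_of_characteristic_of_normal
  have hNb : N ≠ ⊥ := fun h => hpc ((Subgroup.map_eq_bot_iff_of_injective _ (Subgroup.subtype_injective _)).mp h)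
  have hNp : IsPGroup p N := (Cores.pCore_isPGroup p).map _
  obtain ⟨V, hVn, hVN, hVb, hVmin⟩ := Hall.exists_minimal_normal N hNb
  haveI := hVn
  have hVp : IsPGroup p V := hNp.to_le hVN
  haveI := hVp.isNilpotent
  obtain ⟨q, hq, hqd, -, hel⟩ := Hall.minimal_normal_isElementaryAbelian hVb hVmin
  have hqp : q = p := by
    obtain ⟨k, hk⟩ := hVp.exists_card_eq
    rw [hk] at hqd
    exact (Nat.prime_dvd_prime_iff_eq hq Fact.out).mp (hq.dvd_of_dvd_pow hqd)
  subst hqp
  let Pb : Sylow q (G ⧸ K) := Sylow.mapSurjective hsurj P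
  have hPinj : Function.Injective (f.subgroupMap (P : Subgroup G)) := by
    intro a b hab
    have h1 : (a : G)⁻¹ * b ∈ K := QuotientGroup.eq.mp (congrArg Subtype.val hab)
    have h2 : (a : G)⁻¹ * b ∈ K ⊓ (P : Subgroup G) := ⟨h1, Subgroup.mul_mem _ (Subgroup.inv_mem _ a.2) b.2⟩
    rw [Subgroup.inf_eq_bot_of_coprime (by
      obtain ⟨k, hk⟩ := P.2.exists_card_eq; rw [hk]; exact hKc.pow_right k), Subgroup.mem_bot,
      inv_mul_eq_one] at h2
    exact Subtype.ext h2
  let e := MulEquiv.ofBijective (f.subgroupMap (P : Subgroup G)) ⟨hPinj, f.subgroupMap_surjective _⟩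
  have hPb : (Pb : Subgroup (G ⧸ K)) = (P : Subgroup G).map f := rfl
  rcases GStructB.ConjPSubgroups.dichotomy hC' hVp hel.2 hVb with hc | hall
  · have hcyc : IsCyclic ((P : Subgroup G).map f) := by
      refine (PGroups.UniqueSubgroup.isCyclic_or_quaternion (p := q) (hPb ▸ Pb.2) fun A B hA hB => ?_).resolve_right (fun h => hp h.1)
      have key : ∀ A : Subgroup ((P : Subgroup G).map f), Nat.card A = q →
          A.map ((P : Subgroup G).map f).subtype = V := by
        intro A hA
        refine GStructB.ConjPSubgroups.eq_of_normal hC' hVp (IsPGroup.of_card (n := 1) ?_) ?_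
        · rw [Subgroup.card_map_of_injective (Subgroup.subtype_injective _), hA, pow_one]
        · rw [Subgroup.card_map_of_injective (Subgroup.subtype_injective _), hA, hc]
      exact Subgroup.map_injective (Subgroup.subtype_injective _) ((key A hA).trans (key B hB).symm)
    have hcycP : IsCyclic P := e.isCyclic.mpr hcyc
    refine ⟨⟨⟨fun a b => ?_⟩⟩, Or.inr hcycP⟩
    obtain ⟨g, hg⟩ := hcycP.exists_generator
    obtain ⟨i, rfl⟩ := hg a
    obtain ⟨j, rfl⟩ := hg b
    exact (Commute.refl g).zpow_zpow i j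
  · have hVP := hall Pb
    rw [hPb] at hVP
    refine ⟨⟨⟨fun a b => ?_⟩⟩, Or.inl fun x hx => ?_⟩
    · apply hPinj
      rw [map_mul, map_mul]
      have ha : ((f.subgroupMap (P : Subgroup G) a : (P : Subgroup G).map f) : G ⧸ K) ∈ V := hVP.le (f.subgroupMap (P : Subgroup G) a).2
      have hb : ((f.subgroupMap (P : Subgroup G) b : (P : Subgroup G).map f) : G ⧸ K) ∈ V := hVP.le (f.subgroupMap (P : Subgroup G) b).2
      refine Subtype.ext ?_
      haveI := hel.1
      have h0 := congrArg Subtype.val (mul_comm' (⟨_, ha⟩ : V) ⟨_, hb⟩)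
      exact h0
    · rw [← hcomap]
      exact (hVN.trans (Subgroup.map_subtype_le _)) (hVP.le ⟨x, hx, rfl⟩)

end Cfsg.Agent.S4024
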