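import Cfsg.Statements.S4028
import Cfsg.Agent.GStructB.PElements

set_option autoImplicit false
open Cfsg

namespace Cfsg.Agent.S4028

/-- Let G be a finite group with Sylow 2-subgroup P. Then N_G(⟨x⟩) = C_G(x) holds for every 2-element x of G if and only if N_P(⟨y⟩) = C_P(y) holds for every y ∈ P (computed inside P). -/
theorem result {G : Type*} [Group G] [Finite G] (P : Sylow 2 G) :
    (∀ x : G, (∀ r : ℕ, r.Prime → r ∣ orderOf x → r = 2) →
      Subgroup.normalizer ((Subgroup.zpowers x : Subgroup G) : Set G) ≤ Subgroup.centralizer {x}) ↔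
    (∀ y : ↥(P : Subgroup G), Subgroup.normalizer ((Subgroup.zpowers y : Subgroup ↥(P : Subgroup G)) : Set ↥(P : Subgroup G)) ≤
        Subgroup.centralizer {y}) := by
  have : Fact (Nat.Prime 2) := ⟨Nat.prime_two⟩
  constructor
  · intro h y g hg
    obtain ⟨k, hk⟩ := IsPGroup.iff_orderOf.mp P.2 y
    rw [← Subgroup.orderOf_coe] at hk
    have hord : ∀ r : ℕ, r.Prime → r ∣ orderOf (y : G) → r = 2 := fun r hr hrd => by
      rw [hk] at hrd
      exact (Nat.prime_dvd_prime_iff_eq hr Nat.prime_two).mp (hr.dvd_of_dvd_pow hrd)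
    have h2 : (g : G) ∈ Subgroup.centralizer ({(y : G)} : Set G) := by
      apply h (y : G) hord
      have h1 := Subgroup.le_normalizer_map (H := Subgroup.zpowers y)
        (P : Subgroup G).subtype ⟨g, hg, rfl⟩
      rwa [MonoidHom.map_zpowers] at h1
    rw [Subgroup.mem_centralizer_singleton_iff] at h2 ⊢
    exact Subtype.ext h2
  · intro h x hx c hc
    obtain ⟨k, hk⟩ : ∃ k, orderOf x = 2 ^ k := ⟨_, Nat.eq_prime_pow_of_unique_prime_dvd
      (orderOf_pos x).ne' fun {d} hd hdd => hx d hd hdd⟩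
    obtain ⟨j, hj⟩ : ∃ j : ℕ, x ^ j = c * x * c⁻¹ :=
      (isOfFinOrder_of_finite x).mem_powers_iff_mem_zpowers.mpr
        ((Subgroup.mem_normalizer_iff.mp hc x).mp (Subgroup.mem_zpowers x))
    rcases Nat.eq_zero_or_pos k with hk0 | hk0
    · rw [hk0, pow_zero, orderOf_eq_one_iff] at hk
      simp [hk, Subgroup.mem_centralizer_singleton_iff]
    have hj1 : j ≡ 1 [MOD 2] := by
      have hodd : ¬ 2 ∣ j := by
        intro h2
        have h3 : orderOf (x ^ j) = 2 ^ k := by
          rw [hj, ← hk]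
          exact orderOf_injective (MulAut.conj c).toMonoidHom (MulAut.conj c).injective x
        rw [orderOf_pow, hk] at h3
        have h4 : Nat.gcd (2 ^ k) j = 1 := (Nat.div_eq_self.mp h3).resolve_left (by positivity)
        have := Nat.dvd_gcd (dvd_pow_self 2 hk0.ne') h2
        rw [h4] at this
        omega
      unfold Nat.ModEq
      omega
    obtain ⟨m, hm⟩ := GStructB.PElements.exists_pow_commute (a := k) (dvd_of_eq hk) hj.symm hj1
    obtain ⟨a, s, -, hs, hsp⟩ := GStructB.PElements.exists_split 2 c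
    -- the 2-part together with `x` lies in a Sylow subgroup
    have hcs : c ^ s ∈ Subgroup.normalizer ((Subgroup.zpowers x : Subgroup G) : Set G) := pow_mem hc _
    have hK : IsPGroup 2 ↥(Subgroup.zpowers (c ^ s) ⊔ Subgroup.zpowers x) :=
      (GStructB.PElements.isPGroup_zpowers hsp).to_sup_of_normal_right'
        (GStructB.PElements.isPGroup_zpowers hk) (Subgroup.zpowers_le.mpr hcs)
    obtain ⟨R, hR⟩ := hK.exists_le_sylow
    obtain ⟨b, rfl⟩ := MulAction.exists_smul_eq G P R
    have hmem : ∀ w ∈ Subgroup.zpowers (c ^ s) ⊔ Subgroup.zpowers x, b⁻¹ * w * b ∈ (P : Subgroup G) := by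
      intro w hw
      have := hR hw
      rwa [Sylow.coe_subgroup_smul, GStructB.PElements.mem_conj_smul] at this
    let x' : (P : Subgroup G) := ⟨_, hmem x (Subgroup.mem_sup_right (Subgroup.mem_zpowers x))⟩
    let c' : (P : Subgroup G) := ⟨_, hmem _ (Subgroup.mem_sup_left (Subgroup.mem_zpowers _))⟩
    have hconj : ∀ e : G, e * x * e⁻¹ ∈ Subgroup.zpowers x →
        (b⁻¹ * e * b) * (b⁻¹ * x * b) * (b⁻¹ * e * b)⁻¹ ∈ Subgroup.zpowers (b⁻¹ * x * b) := by
      intro e he
      obtain ⟨i, hi⟩ := he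
      refine ⟨i, ?_⟩
      dsimp only at hi ⊢
      have : (b⁻¹ * x * b⁻¹⁻¹) ^ i = b⁻¹ * x ^ i * b⁻¹⁻¹ := conj_zpow
      rw [inv_inv] at this
      rw [this, hi]; group
    have hnorm : c' ∈ Subgroup.normalizer ((Subgroup.zpowers x' : Subgroup (P : Subgroup G)) : Set _) := by
      have hle : (Subgroup.zpowers x').map (MulAut.conj c').toMonoidHom ≤ Subgroup.zpowers x' := by
        rw [MonoidHom.map_zpowers, Subgroup.zpowers_le]
        obtain ⟨i, hi⟩ := hconj _ ((Subgroup.mem_normalizer_iff.mp hcs x).mp (Subgroup.mem_zpowers x))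
        exact ⟨i, Subtype.ext (by simpa [x', c'] using hi)⟩
      rw [Subgroup.mem_normalizer_iff_map_conj_eq]
      exact Subgroup.eq_of_le_of_card_ge hle
        (by rw [Subgroup.card_map_of_injective (MulAut.conj c').injective])
    have h1 := h x' hnorm
    rw [Subgroup.mem_centralizer_singleton_iff] at h1
    have h2 : c ^ s * x = x * c ^ s := by
      have := congrArg Subtype.val h1
      simp only [x', c', Subgroup.coe_mul] at this
      calc c ^ s * x = b * ((b⁻¹ * c ^ s * b) * (b⁻¹ * x * b)) * b⁻¹ := by group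
        _ = x * c ^ s := by rw [this]; group
    exact GStructB.PElements.mem_of_pow_mem_coprime
      ((Nat.prime_two.coprime_iff_not_dvd.mpr hs).pow_left m)
      (Subgroup.mem_centralizer_singleton_iff.mpr hm) (Subgroup.mem_centralizer_singleton_iff.mpr h2)

end Cfsg.Agent.S4028
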