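import Cfsg.Statements.S4029
import Mathlib
import Cfsg.Agent.Solvable.Basics

set_option autoImplicit false
open Cfsg

namespace Cfsg.Agent.S4029

/-- Let P be a finite 2-group in which N_P(⟨y⟩) = C_P(y) for every y ∈ P. If s is the number of conjugacy classes of involutions of P, then #(P/Φ(P)) ≤ s + 1; in particular the subgroup generated by the involutions of P has order at least #(P/Φ(P)). -/
theorem result {P : Type*} [Group P] [Finite P] (hP : IsPGroup 2 P)
    (hirr : ∀ y : P, Subgroup.normalizer ((Subgroup.zpowers y : Subgroup P) : Set P) ≤ Subgroup.centralizer {y}) :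
    Nat.card (P ⧸ frattini P) ≤ Nat.card {c : ConjClasses P // ∃ y : P, ConjClasses.mk y = c ∧ orderOf y = 2} + 1 ∧
    Nat.card (P ⧸ frattini P) ≤ Nat.card (Subgroup.closure {y : P | orderOf y = 2}) := by
  classical
  have := Fintype.ofFinite P
  let S := {c : P // c ^ 2 = 1}
  letI : MulAction P S :=
    { smul := fun g c => ⟨g * c.1 * g⁻¹, by rw [conj_pow, c.2]; group⟩
      one_smul := fun c => Subtype.ext (show (1 : P) * c.1 * 1⁻¹ = c.1 by group)
      mul_smul := fun g k c => Subtype.ext (show g * k * c.1 * (g * k)⁻¹ = g * (k * c.1 * k⁻¹) * g⁻¹ by group) }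
  let K := {c : ConjClasses P // ∃ y : P, ConjClasses.mk y = c ∧ orderOf y = 2}
  -- orbits on elements of order at most two inject into classes of involutions plus one
  have horb : Nat.card (MulAction.orbitRel.Quotient P S) ≤ Nat.card K + 1 := by
    let f : MulAction.orbitRel.Quotient P S → Option K := fun w =>
      if h : (Quotient.out w).1 = 1 then none else
        some ⟨ConjClasses.mk (Quotient.out w).1, _, rfl, orderOf_eq_prime (Quotient.out w).2 h⟩
    refine (Nat.card_le_card_of_injective f ?_).trans (le_of_eq Finite.card_option)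
    intro w w' hw
    rw [← Quotient.out_eq w, ← Quotient.out_eq w']
    by_cases h : (Quotient.out w).1 = 1
    · by_cases h' : (Quotient.out w').1 = 1
      · rw [Subtype.ext (h.trans h'.symm) (a1 := Quotient.out w) (a2 := Quotient.out w')]
      · simp [f, h, h'] at hw
    · by_cases h' : (Quotient.out w').1 = 1
      · simp [f, h, h'] at hw
      · simp only [f, h, h', dite_false, Option.some.injEq, Subtype.mk.injEq] at hw
        obtain ⟨g, hg⟩ := isConj_iff.mp (ConjClasses.mk_eq_mk_iff_isConj.mp (congrArg Subtype.val hw.symm))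
        exact Quotient.sound ⟨g, Subtype.ext hg⟩
  -- pairs with equal squares are the same as commuting pairs (g, c) with c of order at most two
  have hpairs : Nat.card {q : P × P // q.1 ^ 2 = q.2 ^ 2} ≤
      Nat.card (MulAction.orbitRel.Quotient P S) * Nat.card P := by
    have key : ∀ a b : P, a ^ 2 = b ^ 2 → (a⁻¹ * b) ^ 2 = 1 ∧ a * (a⁻¹ * b) * a⁻¹ = a⁻¹ * b := by
      intro a b hab
      have h1 : a * (a⁻¹ * b) * a⁻¹ = (a⁻¹ * b)⁻¹ := by
        apply mul_inv_eq_iff_eq_mul.mpr
        rw [mul_inv_rev, inv_inv, mul_inv_cancel_left, mul_assoc]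
        apply eq_inv_mul_iff_mul_eq.mpr
        rw [← pow_two, ← pow_two, hab]
      have hn : a ∈ Subgroup.normalizer ((Subgroup.zpowers (a⁻¹ * b) : Subgroup P) : Set P) := by
        rw [Subgroup.mem_normalizer_iff]
        intro n
        constructor
        · rintro ⟨k, rfl⟩
          exact ⟨-k, by show (a⁻¹ * b) ^ (-k) = a * (a⁻¹ * b) ^ k * a⁻¹; rw [← conj_zpow, h1, inv_zpow']⟩
        · rintro ⟨k, hk⟩
          refine ⟨-k, ?_⟩
          have hk' : a * (a⁻¹ * b) ^ (-k) * a⁻¹ = a * n * a⁻¹ := by
            rw [← hk, ← conj_zpow, h1, inv_zpow', neg_neg]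
          exact mul_left_cancel (mul_right_cancel hk')
      have h2 : a * (a⁻¹ * b) * a⁻¹ = a⁻¹ * b := by
        rw [Subgroup.mem_centralizer_singleton_iff.mp (hirr _ hn), mul_inv_cancel_right]
      refine ⟨?_, h2⟩
      rw [pow_two]
      exact mul_eq_one_iff_eq_inv.mpr (h2.symm.trans h1)
    rw [← Nat.card_prod]
    refine le_of_le_of_eq ?_ (Nat.card_congr (MulAction.sigmaFixedByEquivOrbitsProdGroup P S))
    refine Nat.card_le_card_of_injective
      (fun q => ⟨q.1.1, ⟨⟨q.1.1⁻¹ * q.1.2, (key _ _ q.2).1⟩, Subtype.ext (key _ _ q.2).2⟩⟩) ?_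
    intro q q' hq
    have h1 := congrArg (fun z : (g : P) × MulAction.fixedBy S g => z.1) hq
    have h2 := congrArg (fun z : (g : P) × MulAction.fixedBy S g => z.2.1.1) hq
    simp only at h1 h2
    refine Subtype.ext (Prod.ext h1 ?_)
    rw [h1] at h2
    exact mul_left_cancel h2
  -- Cauchy-Schwarz for the squaring map
  have hcs : Nat.card P * Nat.card P ≤
      Nat.card (frattini P) * Nat.card {q : P × P // q.1 ^ 2 = q.2 ^ 2} := by
    let sq : P → P := fun a => a ^ 2
    let I := Finset.univ.image sq
    have e1 : Nat.card P = ∑ t ∈ I, (Finset.univ.filter fun a => sq a = t).card := by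
      rw [Nat.card_eq_fintype_card, ← Finset.card_univ, Finset.card_eq_sum_card_image sq]
    have e2 : Nat.card {q : P × P // q.1 ^ 2 = q.2 ^ 2} =
        ∑ t ∈ I, (Finset.univ.filter fun a => sq a = t).card ^ 2 := by
      rw [Nat.card_eq_fintype_card, Fintype.card_subtype,
        Finset.card_eq_sum_card_fiberwise (f := fun q => sq q.1) (t := I)
          (fun q _ => Finset.mem_coe.mpr (Finset.mem_image_of_mem sq (Finset.mem_univ q.1)))]
      refine Finset.sum_congr rfl fun t _ => ?_
      rw [pow_two, ← Finset.card_product]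
      congr 1
      ext ⟨a, b⟩
      simp only [Finset.mem_filter, Finset.mem_univ, true_and, Finset.mem_product, sq]
      constructor
      · rintro ⟨h1, rfl⟩; exact ⟨rfl, h1.symm⟩
      · rintro ⟨h1, h2⟩; exact ⟨h1.trans h2.symm, h1⟩
    have hI : I.card ≤ Nat.card (frattini P) := by
      rw [← Set.ncard_coe_finset]
      refine Set.ncard_le_ncard ?_ (Set.toFinite _)
      intro t ht
      obtain ⟨a, -, rfl⟩ := Finset.mem_image.mp ht
      haveI : Fact (Nat.Prime 2) := ⟨Nat.prime_two⟩
      exact Cfsg.Agent.Solvable.Basics.pow_mem_frattini hP a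
    calc Nat.card P * Nat.card P
        = (∑ t ∈ I, (Finset.univ.filter fun a => sq a = t).card) ^ 2 := by rw [e1, pow_two]
      _ ≤ I.card * ∑ t ∈ I, (Finset.univ.filter fun a => sq a = t).card ^ 2 := sq_sum_le_card_mul_sum_sq
      _ ≤ _ := by rw [e2]; exact Nat.mul_le_mul_right _ hI
  have h1 : Nat.card (P ⧸ frattini P) ≤ Nat.card K + 1 := by
    refine le_trans ?_ horb
    have := hcs.trans (Nat.mul_le_mul_left _ hpairs)
    rw [← mul_assoc] at this
    have h' := Nat.le_of_mul_le_mul_right this Nat.card_pos
    rw [← Subgroup.index_eq_card]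
    refine Nat.le_of_mul_le_mul_left ?_ (Nat.card_pos (α := frattini P))
    rwa [Subgroup.card_mul_index]
  refine ⟨h1, h1.trans ?_⟩
  rw [← Finite.card_option]
  refine Nat.card_le_card_of_injective (fun o => o.elim 1
    (fun c => (⟨c.2.choose, Subgroup.subset_closure c.2.choose_spec.2⟩ :
      Subgroup.closure {y : P | orderOf y = 2}))) ?_
  intro o o' h
  rcases o with - | c <;> rcases o' with - | c'
  · rfl
  · have := congrArg Subtype.val h
    simp only [Option.elim] at this
    exact absurd c'.2.choose_spec.2 (by rw [← this]; simp)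
  · have := congrArg Subtype.val h
    simp only [Option.elim] at this
    exact absurd c.2.choose_spec.2 (by rw [this]; simp)
  · have := congrArg Subtype.val h
    simp only [Option.elim] at this
    exact congrArg some (Subtype.ext (c.2.choose_spec.1.symm.trans
      ((congrArg ConjClasses.mk this).trans c'.2.choose_spec.1)))

end Cfsg.Agent.S4029
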