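import Cfsg.Statements.S4032
import Cfsg.Agent.Lib.Coprime.SchurZassenhaus
import Cfsg.Agent.GStructB.PElements

set_option autoImplicit false
open Cfsg

namespace Cfsg.Agent.S4032

/-- Let π be a set of primes and G a finite group in which N_G(⟨x⟩) = C_G(x) for every π-element x. If N is a normal subgroup of G whose order is divisible by no prime of π, then G/N has the same property: N_{G/N}(⟨y⟩) = C_{G/N}(y) for every π-element y of G/N. -/
theorem result {G : Type*} [Group G] [Finite G] (π : Set ℕ)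
    (hirr : ∀ x : G, (∀ r : ℕ, r.Prime → r ∣ orderOf x → r ∈ π) →
      Subgroup.normalizer ((Subgroup.zpowers x : Subgroup G) : Set G) ≤ Subgroup.centralizer {x})
    (N : Subgroup G) [N.Normal] (hN : ∀ r : ℕ, r.Prime → r ∣ Nat.card N → r ∉ π) :
    ∀ y : G ⧸ N, (∀ r : ℕ, r.Prime → r ∣ orderOf y → r ∈ π) →
      Subgroup.normalizer ((Subgroup.zpowers y : Subgroup (G ⧸ N)) : Set (G ⧸ N)) ≤ Subgroup.centralizer {y} := by
  intro y hy c hc
  classical
  obtain ⟨w, rfl⟩ := QuotientGroup.mk'_surjective N y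
  obtain ⟨g, rfl⟩ := QuotientGroup.mk'_surjective N c
  set π' := QuotientGroup.mk' N
  -- a lift which is a `π`-element
  set d := orderOf (π' w) with hd
  have hdN : d.Coprime (Nat.card N) :=
    Nat.coprime_of_dvd fun r hr h1 h2 => hN r hr h2 (hy r hr h1)
  obtain ⟨x, hxd, hxw⟩ : ∃ x : G, orderOf x ∣ d ∧ π' x = π' w := by
    have hwd : w ^ d ∈ N := by
      rw [← QuotientGroup.eq_one_iff]
      change π' (w ^ d) = 1
      rw [map_pow, hd, pow_orderOf_eq_one]
    have hkill : (w ^ d) ^ Nat.card N = 1 := by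
      have h2 : (⟨w ^ d, hwd⟩ : N) ^ Nat.card N = 1 := pow_card_eq_one'
      exact congrArg Subtype.val h2
    have hb := Nat.gcd_eq_gcd_ab d (Nat.card N)
    rw [hdN.gcd_eq_one, Nat.cast_one] at hb
    refine ⟨(w ^ Nat.card N) ^ Nat.gcdB d (Nat.card N), ?_, ?_⟩
    · rw [orderOf_dvd_iff_pow_eq_one, ← zpow_natCast, ← zpow_mul, mul_comm, zpow_mul, zpow_natCast,
        ← pow_mul, mul_comm, pow_mul, hkill, one_zpow]
    · have h3 : π' w ^ ((d : ℤ) * Nat.gcdA d (Nat.card N)) = 1 := by
        rw [zpow_mul, zpow_natCast, hd, pow_orderOf_eq_one, one_zpow]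
      calc π' ((w ^ Nat.card N) ^ Nat.gcdB d (Nat.card N))
          = π' w ^ ((d : ℤ) * Nat.gcdA d (Nat.card N)) *
              π' w ^ ((Nat.card N : ℤ) * Nat.gcdB d (Nat.card N)) := by
            rw [h3, one_mul, map_zpow, map_pow, zpow_mul, zpow_natCast]
        _ = π' w := by rw [← zpow_add, ← hb, zpow_one]
  have hxπ : ∀ r : ℕ, r.Prime → r ∣ orderOf x → r ∈ π := fun r hr h => hy r hr (h.trans hxd)
  have hcop : (Nat.card N).Coprime (Nat.card (Subgroup.zpowers x)) := by
    rw [Nat.card_zpowers]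
    exact (hdN.coprime_dvd_left hxd).symm
  set H := Subgroup.zpowers x with hH
  set H' := H.map (MulAut.conj g).toMonoidHom with hH'
  have hsub : ∀ K : Subgroup G, K ≤ Subgroup.normalizer (N : Set G) := fun K => by
    rw [Subgroup.normalizer_eq_top]; exact le_top
  have heq : N ⊔ H = N ⊔ H' := by
    have h : H.map π' = H'.map π' := by
      rw [hH', Subgroup.map_map, hH, MonoidHom.map_zpowers, MonoidHom.map_zpowers]
      have h1 := Subgroup.mem_normalizer_iff_map_conj_eq.mp hc
      rw [MonoidHom.map_zpowers, ← hxw] at h1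
      refine h1.symm.trans ?_
      congr 1
    have := congrArg (Subgroup.comap π') h
    rw [Subgroup.comap_map_eq, Subgroup.comap_map_eq, QuotientGroup.ker_mk', sup_comm,
      sup_comm H' N] at this
    exact this
  have hH'card : (Nat.card N).Coprime (Nat.card H') := by
    rw [hH', Subgroup.card_map_of_injective (MulAut.conj g).injective]; exact hcop
  obtain ⟨n, hn, hnH⟩ := Coprime.exists_conj_eq_of_sup_eq (hsub H) (hsub H') heq hcop hH'card
    (Or.inr inferInstance)
  have hnorm : n⁻¹ * g ∈ Subgroup.normalizer (H : Set G) := by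
    rw [Subgroup.mem_normalizer_iff_map_conj_eq]
    have h2 : H.map (MulAut.conj g).toMonoidHom = H.map (MulAut.conj n).toMonoidHom := by
      rw [← hH', ← hnH]
      rfl
    rw [map_mul]
    have h3 : H.map ((MulAut.conj n⁻¹ * MulAut.conj g : MulAut G).toMonoidHom) =
        (H.map (MulAut.conj g).toMonoidHom).map (MulAut.conj n⁻¹).toMonoidHom := by
      rw [Subgroup.map_map]; rfl
    refine h3.trans ?_
    rw [h2, Subgroup.map_map]
    have h4 : (MulAut.conj n⁻¹).toMonoidHom.comp (MulAut.conj n).toMonoidHom = MonoidHom.id G := by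
      ext z; simp [mul_assoc]
    rw [h4, Subgroup.map_id]
  have h5 := hirr x hxπ hnorm
  rw [Subgroup.mem_centralizer_singleton_iff] at h5 ⊢
  have h6 : π' n⁻¹ = 1 := (QuotientGroup.eq_one_iff _).mpr (inv_mem hn)
  have h7 := congrArg π' h5
  rw [map_mul, map_mul, map_mul, map_mul, h6, one_mul, hxw] at h7
  exact h7

end Cfsg.Agent.S4032
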