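import Cfsg.Statements.S4034
import Cfsg.Agent.SolvStruct.Kazarin
import Cfsg.Agent.Lib.Characters.Integrality
import Cfsg.Agent.SolvStruct.WielandtHall
import Cfsg.Agent.Solvable.HallOrder
import Cfsg.Agent.Solvable.Fitting
import Cfsg.Agent.Lib.PLocal.Cores

set_option autoImplicit false
open Cfsg
open scoped Pointwise IsMulCommutative

universe u

namespace Cfsg.Agent.S4034

open Subgroup

/-- Every `p`-regular element has centraliser of `p`-power index. -/
def Reg (p : ℕ) (G : Type*) [Group G] : Prop :=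
  ∀ x : G, (orderOf x).Coprime p → ∃ k : ℕ, (centralizer ({x} : Set G)).index = p ^ k

theorem Reg.of_surjective {G Q : Type*} [Group G] [Finite G] [Group Q] {p : ℕ} [Fact p.Prime]
    (h : Reg p G) {f : G →* Q} (hf : Function.Surjective f) : Reg p Q := by
  intro y hy
  obtain ⟨g, rfl⟩ := hf y
  obtain ⟨i, l, hl, hi⟩ := Nat.exists_eq_pow_mul_and_not_dvd (orderOf_pos g).ne' p
    (Fact.out : p.Prime).ne_one
  obtain ⟨j, hj⟩ := exists_pow_eq_self_of_coprime (hy.pow_right i).symm
  have hgo : (orderOf ((g ^ p ^ i) ^ j)).Coprime p := by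
    refine Nat.Coprime.coprime_dvd_left (orderOf_pow_dvd j) ?_
    rw [orderOf_pow, hi, Nat.gcd_mul_right_left,
      Nat.mul_div_cancel_left _ (pow_pos (Fact.out : p.Prime).pos i)]
    exact ((Nat.Prime.coprime_iff_not_dvd Fact.out).2 hl).symm
  obtain ⟨k, hk⟩ := h _ hgo
  have he : f ((g ^ p ^ i) ^ j) = f g := by rw [map_pow, map_pow, hj]
  have hle : centralizer ({(g ^ p ^ i) ^ j} : Set G) ≤ (centralizer ({f g} : Set Q)).comap f := by
    intro c hc
    rw [mem_comap, mem_centralizer_singleton_iff, ← he, ← map_mul, ← map_mul,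
      mem_centralizer_singleton_iff.1 hc]
  have hd : (centralizer ({f g} : Set Q)).index ∣ p ^ k := by
    rw [← index_comap_of_surjective _ hf, ← hk]
    exact index_dvd_of_le hle
  obtain ⟨k', -, hk'⟩ := (Nat.dvd_prime_pow Fact.out).1 hd
  exact ⟨k', hk'⟩

theorem isSolvable_of_reg {p : ℕ} [Fact p.Prime] : ∀ (n : ℕ) (G : Type u) [Group G] [Finite G],
    Nat.card G < n → Reg p G → Group.IsSolvable G := by
  intro n
  induction n with
  | zero => intro G _ _ h; omega
  | succ n ih =>
  intro G _ _ hn h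
  by_cases hN : ∃ N : Subgroup G, N.Normal ∧ N ≠ ⊥ ∧ Group.IsSolvable N
  · obtain ⟨N, hNn, hN1, hNs⟩ := hN
    refine (Group.isSolvable_iff_subgroup_quotient N).mpr ⟨hNs, ih _ ?_ (h.of_surjective (QuotientGroup.mk'_surjective N))⟩
    have h1 : 1 < Nat.card N := (one_lt_card_iff_ne_bot N).2 hN1
    have h2 := card_eq_card_quotient_mul_card_subgroup N
    have h4 : 0 < Nat.card (G ⧸ N) := Nat.card_pos
    nlinarith
  · push Not at hN
    have hP : IsPGroup p G := by
      intro g
      obtain ⟨i, l, hl, hi⟩ := Nat.exists_eq_pow_mul_and_not_dvd (orderOf_pos g).ne' p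
        (Fact.out : p.Prime).ne_one
      refine ⟨i, ?_⟩
      have hgo : (orderOf (g ^ p ^ i)).Coprime p := by
        rw [orderOf_pow, hi, Nat.gcd_mul_right_left,
          Nat.mul_div_cancel_left _ (pow_pos (Fact.out : p.Prime).pos i)]
        exact ((Nat.Prime.coprime_iff_not_dvd Fact.out).2 hl).symm
      obtain ⟨k, hk⟩ := h _ hgo
      by_contra hne
      refine hN (normalClosure {g ^ p ^ i}) inferInstance (fun hb => hne ?_)
        (Cfsg.Agent.SolvStruct.Kazarin.isSolvable_normalClosure (a := k) Fact.out hk)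
      exact mem_bot.1 (hb ▸ subset_normalClosure rfl)
    have := hP.isNilpotent
    infer_instance

theorem exists_abelian_complement {p : ℕ} [hp : Fact p.Prime] : ∀ (n : ℕ) (G : Type u) [Group G] [Finite G],
    Nat.card G < n → Reg p G →
    ∃ H : Subgroup G, IsMulCommutative H ∧ ¬ p ∣ Nat.card H ∧ ∃ k : ℕ, H.index = p ^ k := by
  intro n
  induction n with
  | zero => intro G _ _ h; omega
  | succ n ih =>
  intro G _ _ hn h
  have hsol : Group.IsSolvable G := isSolvable_of_reg (Nat.card G + 1) G (Nat.lt_succ_self _) h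
  set N := Cfsg.pCore p G with hNdef
  by_cases hN1 : N = ⊥
  · obtain ⟨H, hH⟩ := Cfsg.Agent.Solvable.HallOrder.exists_complementSystem (G := G) p hp.out
    have hHp : ¬ p ∣ Nat.card H := fun hd => Nat.pow_succ_factorization_not_dvd
      (Nat.card_pos (α := G)).ne' hp.out (((pow_succ' p _).dvd.trans (Nat.mul_dvd_mul_right hd _)).trans
        ((congrArg (Nat.card H * ·) hH).symm.trans H.card_mul_index).dvd)
    set F := Cfsg.pPrimeCore p G with hFdef
    have hFC : centralizer (F : Set G) ≤ F := by
      have hle : Cfsg.fittingSubgroup G ≤ F := by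
        rw [Cfsg.Agent.Components.Fitting.fitting_eq_coreJoin]
        exact (Cfsg.Agent.Components.Fitting.coreJoin_le_sup p).trans (by rw [← hNdef, hN1, bot_sup_eq])
      exact (centralizer_le hle).trans (Cfsg.Agent.Solvable.Fitting.centralizer_fitting_le.trans hle)
    have hcomp : ∀ K : Subgroup G, (∃ k, K.index = p ^ k) → F ≤ K := by
      rintro K ⟨k, hk⟩
      have hd : K.relIndex (K ⊔ F) ∣ p ^ k := hk ▸ relIndex_dvd_index_of_le le_sup_left
      have h1 : K.relIndex (K ⊔ F) ∣ Nat.card F := by
        have h2 := Cfsg.Agent.PLocal.Cores.card_sup_dvd_of_normal K F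
        rw [← Cfsg.Agent.Solvable.Basics.card_mul_relIndex (C := K) (K := K ⊔ F) le_sup_left] at h2
        exact Nat.dvd_of_mul_dvd_mul_left Nat.card_pos h2
      have h3 := Nat.eq_one_of_dvd_coprimes
        (Cfsg.Agent.PLocal.Cores.coprime_card_pPrimeCore.pow_right k) h1 hd
      exact le_sup_right.trans (relIndex_eq_one.1 h3)
    have hHF : H ≤ F := by
      intro x hx
      refine hFC fun f hf => ?_
      obtain ⟨k, hk⟩ := h x (((Nat.Prime.coprime_iff_not_dvd hp.out).2 hHp).symm.coprime_dvd_left
        (H.orderOf_dvd_natCard hx))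
      exact mem_centralizer_singleton_iff.1 (hcomp _ ⟨k, hk⟩ hf)
    have hFH : F = H := le_antisymm (hcomp H ⟨_, hH⟩) hHF
    refine ⟨H, isMulCommutative_iff.2 fun a b => Subtype.ext ?_, hHp, _, hH⟩
    obtain ⟨k, hk⟩ := h b (((Nat.Prime.coprime_iff_not_dvd hp.out).2 hHp).symm.coprime_dvd_left
      (H.orderOf_dvd_natCard b.2))
    exact mem_centralizer_singleton_iff.1 (hcomp _ ⟨k, hk⟩ (hFH.ge a.2))
  · have hNp : IsPGroup p N := Cfsg.Agent.PLocal.Cores.isPGroup_pCore
    obtain ⟨Hb, hHc, hHp, k, hHk⟩ := ih (G ⧸ N) (by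
      have h1 : 1 < Nat.card N := (one_lt_card_iff_ne_bot N).2 hN1
      have h2 := card_eq_card_quotient_mul_card_subgroup N
      have h4 : 0 < Nat.card (G ⧸ N) := Nat.card_pos
      nlinarith) (h.of_surjective (QuotientGroup.mk'_surjective N))
    set L := Hb.comap (QuotientGroup.mk' N) with hLdef
    have hNL : N ≤ L := by
      intro x hx
      rw [hLdef, mem_comap, QuotientGroup.mk'_apply, (QuotientGroup.eq_one_iff (N := N) x).2 hx]
      exact one_mem _
    obtain ⟨e, he⟩ := hNp.exists_card_eq
    have hLcard : Nat.card L = Nat.card Hb * p ^ e := by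
      have h1 := L.card_mul_index
      rw [index_comap_of_surjective _ (QuotientGroup.mk'_surjective N),
        card_eq_card_quotient_mul_card_subgroup N, ← Hb.card_mul_index, he] at h1
      refine Nat.eq_of_mul_eq_mul_right (pos_of_ne_zero index_ne_zero_of_finite : 0 < Hb.index) ?_
      rw [h1]; ring
    have hN'card : Nat.card (N.subgroupOf L) = p ^ e := by
      rw [Nat.card_congr (subgroupOfEquivOfLe hNL).toEquiv, he]
    have hNidx : (N.subgroupOf L).index = Nat.card Hb := by
      have h1 := (N.subgroupOf L).card_mul_index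
      rw [hN'card, hLcard, mul_comm (Nat.card Hb)] at h1
      exact Nat.eq_of_mul_eq_mul_left (pow_pos hp.out.pos e) h1
    obtain ⟨K, hK⟩ := exists_right_complement'_of_coprime (N := N.subgroupOf L) (by
      rw [hN'card, hNidx]
      exact ((Nat.Prime.coprime_iff_not_dvd hp.out).2 hHp).pow_left e)
    have hKcard : Nat.card K = Nat.card Hb := by rw [← hK.symm.index_eq_card, hNidx]
    refine ⟨K.map L.subtype, ?_, by rwa [card_map_of_injective L.subtype_injective, hKcard], e + k, ?_⟩
    · refine isMulCommutative_iff.2 ?_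
      rintro ⟨_, a, ha, rfl⟩ ⟨_, b, hb, rfl⟩
      have h1 : ((a * b * a⁻¹ * b⁻¹ : L) : G) ∈ N := by
        rw [← QuotientGroup.eq_one_iff]
        have h2 : (QuotientGroup.mk (s := N) (a : G)) * QuotientGroup.mk (b : G) =
            QuotientGroup.mk (b : G) * QuotientGroup.mk (a : G) :=
          congrArg Subtype.val (mul_comm' (⟨_, a.2⟩ : Hb) ⟨_, b.2⟩)
        simp only [coe_mul, coe_inv, QuotientGroup.mk_mul, QuotientGroup.mk_inv]
        rw [h2, mul_inv_cancel_right, mul_inv_cancel]
      have h3 : a * b * a⁻¹ * b⁻¹ ∈ K := mul_mem (mul_mem (mul_mem ha hb) (inv_mem ha)) (inv_mem hb)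
      have h4 := Subgroup.disjoint_def.1 hK.disjoint (mem_subgroupOf.2 h1) h3
      refine Subtype.ext ?_
      show (a : G) * b = b * a
      have h5 := congrArg Subtype.val h4
      simp only [coe_mul, coe_inv, coe_one] at h5
      exact mul_inv_eq_iff_eq_mul.1 (mul_inv_eq_one.1 h5)
    · have h1 := (K.map L.subtype).card_mul_index
      rw [card_map_of_injective L.subtype_injective, hKcard, card_eq_card_quotient_mul_card_subgroup N,
        ← Hb.card_mul_index, he, hHk] at h1
      refine Nat.eq_of_mul_eq_mul_left (Nat.card_pos (α := Hb)) ?_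
      rw [h1, pow_add]; ring


/-- Let G be a finite group and p a prime. Every conjugacy class of p-regular elements of G (elements of order prime to p) has p-power size if and only if G has an abelian p-complement, i.e. an abelian subgroup of order prime to p and p-power index. -/
theorem result {G : Type*} [Group G] [Finite G] {p : ℕ} (hp : p.Prime) :
    (∀ x : G, (orderOf x).Coprime p → ∃ k : ℕ, (ConjClasses.mk x).carrier.ncard = p ^ k) ↔
    (∃ H : Subgroup G, IsMulCommutative H ∧ ¬ p ∣ Nat.card H ∧ ∃ k : ℕ, H.index = p ^ k) := by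
  haveI : Fact p.Prime := ⟨hp⟩
  have hcc : ∀ x : G, (ConjClasses.mk x).carrier.ncard = (Subgroup.centralizer ({x} : Set G)).index := by
    intro x
    rw [← Cfsg.Agent.Characters.classCard_eq_index, Nat.card_coe_set_eq]
  constructor
  · intro h
    exact exists_abelian_complement (Nat.card G + 1) G (Nat.lt_succ_self _) fun x hx => by
      obtain ⟨k, hk⟩ := h x hx
      exact ⟨k, by rw [← hcc, hk]⟩
  · rintro ⟨H, hHc, hHp, k, hHk⟩ x hx
    rw [hcc]
    have hcop : (Nat.card H).Coprime H.index := by
      rw [hHk]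
      exact ((Nat.Prime.coprime_iff_not_dvd hp).2 hHp).symm.pow_right k
    obtain ⟨g, hg⟩ := Cfsg.Agent.SolvStruct.WielandtHall.le_conj_nilpotent_hall (Nat.card G) G H rfl
      inferInstance hcop (Subgroup.zpowers x) (by
        intro q hq hd
        rw [Nat.card_zpowers] at hd
        have h1 : q ∣ Nat.card H * p ^ k := by
          rw [← hHk, H.card_mul_index]; exact hd.trans (orderOf_dvd_natCard x)
        refine (hq.dvd_mul.1 h1).resolve_right fun h2 => ?_
        exact hq.ne_one (Nat.eq_one_of_dvd_coprimes hx hd (hq.dvd_of_dvd_pow h2)))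
    rw [Subgroup.zpowers_le, Subgroup.mem_pointwise_smul_iff_inv_smul_mem] at hg
    have hle : (MulAut.conj g • H : Subgroup G) ≤ Subgroup.centralizer ({x} : Set G) := by
      intro y hy
      rw [Subgroup.mem_pointwise_smul_iff_inv_smul_mem] at hy
      refine Subgroup.mem_centralizer_singleton_iff.2 ((MulAut.conj g)⁻¹.injective ?_)
      rw [map_mul, map_mul]
      exact congrArg Subtype.val (mul_comm' (⟨_, hy⟩ : H) ⟨_, hg⟩)
    have hidx : (MulAut.conj g • H : Subgroup G).index = H.index := by
      rw [Subgroup.pointwise_smul_def]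
      exact Subgroup.index_map_equiv H (MulAut.conj g)
    obtain ⟨i, -, hi⟩ := (Nat.dvd_prime_pow hp).1 (hHk ▸ hidx ▸ Subgroup.index_dvd_of_le hle)
    exact ⟨i, hi⟩

end Cfsg.Agent.S4034
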