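import Cfsg.Statements.S4036
import Mathlib
import Cfsg.Agent.GStructB.PElements

set_option autoImplicit false
open Cfsg

namespace Cfsg.Agent.S4036

/-- Let P be a finite abelian p-group and K a group of automorphisms of P (a subgroup of Aut P) whose order is divisible by p. If all non-identity elements of K have the same fixed-point subgroup on P, then K has no non-trivial normal subgroup of order prime to p. -/
theorem result {P : Type*} [CommGroup P] [Finite P] {p : ℕ}
    [Fact p.Prime] (hP : IsPGroup p P) (K : Subgroup (MulAut P)) (hK : p ∣ Nat.card K)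
    (hfix : ∀ x y : MulAut P, x ∈ K → y ∈ K → x ≠ 1 → y ≠ 1 → ∀ v : P, x v = v ↔ y v = v) :
    ∀ N : Subgroup ↥K, N.Normal → ¬ p ∣ Nat.card N → N = ⊥ := by
  classical
  intro N hN hpN
  by_contra hNbot
  obtain ⟨x, hx⟩ := exists_prime_orderOf_dvd_card' p hK
  obtain ⟨n₀, hn₀, hn₀1⟩ := (Subgroup.bot_or_exists_ne_one N).resolve_left hNbot
  have hp := (Fact.out : p.Prime)
  have hx1 : ((x : MulAut P)) ≠ 1 := by
    intro h
    have : x = 1 := Subtype.ext h
    rw [this, orderOf_one] at hx
    exact hp.ne_one hx.symm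
  have hn1 : ((n₀ : MulAut P)) ≠ 1 := fun h => hn₀1 (Subtype.ext h)
  have hfix' : ∀ v, (x : MulAut P) v = v ↔ (n₀ : MulAut P) v = v :=
    hfix _ _ x.2 n₀.2 hx1 hn1
  have : Fintype N := Fintype.ofFinite N
  let f : P →* P :=
    { toFun := fun v => ∏ n : N, ((n : K) : MulAut P) v
      map_one' := by simp
      map_mul' := fun v w => by simp [Finset.prod_mul_distrib] }
  have hfN : ∀ (m : N) v, ((m : K) : MulAut P) (f v) = f v := by
    intro m v
    simp only [f, MonoidHom.coe_mk, OneHom.coe_mk, map_prod]
    exact Fintype.prod_equiv (Equiv.mulLeft m) _ _ (fun n => by simp [MulAut.mul_apply])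
  have hfx : ∀ v, (x : MulAut P) (f v) = f ((x : MulAut P) v) := by
    intro v
    simp only [f, MonoidHom.coe_mk, OneHom.coe_mk, map_prod]
    refine Fintype.prod_equiv ((MulAut.conjNormal x).toEquiv) _ _ (fun n => ?_)
    simp [MulAut.mul_apply]
  have hfxv : ∀ v, f ((x : MulAut P) v) = f v := fun v => by
    rw [← hfx]
    exact (hfix' _).mpr (hfN ⟨n₀, hn₀⟩ v)
  -- on the common fixed points `f` is the `|N|`-th power map
  have hF : ∀ v, (x : MulAut P) v = v → f v = v ^ Nat.card N := by
    intro v hv
    have h1 : ∀ n : N, ((n : K) : MulAut P) v = v := by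
      intro n
      by_cases h : ((n : K) : MulAut P) = 1
      · rw [h]; rfl
      · exact (hfix _ _ x.2 (n : K).2 hx1 h v).mp hv
    simp only [f, MonoidHom.coe_mk, OneHom.coe_mk, Finset.prod_congr rfl (fun n _ => h1 n),
      Finset.prod_const, Finset.card_univ, Nat.card_eq_fintype_card]
  have hker : ∀ v, f v = 1 → v = 1 := by
    by_contra hne
    push_neg at hne
    obtain ⟨v, hv, hv1⟩ := hne
    set X := Subgroup.zpowers (x : MulAut P) with hX
    have hXp : IsPGroup p X := GStructB.PElements.isPGroup_zpowers (k := 1)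
      (by rw [pow_one, ← hx]; exact Subgroup.orderOf_coe x)
    have hxker : ∀ (g : X) (w : P), f w = 1 → f ((g : MulAut P) w) = 1 := by
      rintro ⟨g, hg⟩ w hw
      obtain ⟨j, rfl⟩ := Subgroup.mem_zpowers_iff.mp hg
      show f (((x : MulAut P) ^ j) w) = 1
      clear hg
      revert w
      induction j using Int.induction_on with
      | zero => intro w hw; simpa using hw
      | succ j ih => intro w hw; rw [zpow_add_one, MulAut.mul_apply]; exact ih _ (by rw [hfxv, hw])
      | pred j ih =>
        intro w hw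
        rw [zpow_sub_one, MulAut.mul_apply]
        refine ih _ ?_
        rw [← hfxv, MulAut.apply_inv_self, hw]
    let _ : MulAction X f.ker :=
      { smul := fun g w => ⟨(g : MulAut P) (w : P), hxker g _ w.2⟩
        one_smul := fun w => rfl
        mul_smul := fun g h w => rfl }
    have hnt : Nontrivial f.ker := ⟨⟨v, hv⟩, 1, fun h => hv1 (congrArg Subtype.val h)⟩
    have hdvd : p ∣ Nat.card f.ker := by
      obtain ⟨k, hk⟩ := (IsPGroup.iff_card.mp (hP.to_subgroup f.ker))
      rw [hk]
      refine dvd_pow_self p ?_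
      rintro rfl
      exact absurd hk (ne_of_gt Finite.one_lt_card)
    obtain ⟨w, hw, hw1⟩ := hXp.exists_fixed_point_of_prime_dvd_card_of_fixed_point f.ker hdvd
      (a := 1) (fun g => Subtype.ext (map_one (g : MulAut P)))
    have hwfix : (x : MulAut P) (w : P) = w :=
      congrArg Subtype.val (hw ⟨_, Subgroup.mem_zpowers _⟩)
    have h2 := hF _ hwfix
    rw [show f (w : P) = 1 from w.2] at h2
    obtain ⟨k, hk⟩ := (IsPGroup.iff_orderOf.mp hP) (w : P)
    refine hw1 (Subtype.ext ?_)
    rw [Subgroup.coe_one, eq_comm, ← orderOf_eq_one_iff]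
    exact Nat.eq_one_of_dvd_coprimes ((hp.coprime_iff_not_dvd.mpr hpN).pow_left k)
      (dvd_of_eq hk) (orderOf_dvd_of_pow_eq_one h2.symm)
  exact hx1 (MulEquiv.ext fun v => (injective_iff_map_eq_one f).mpr hker (hfxv v))

end Cfsg.Agent.S4036
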