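import Cfsg.Statements.S4038
import Cfsg.Agent.Lib.Coprime.OddInvariant.NilpotentMaximal
import Cfsg.Agent.S0205

set_option autoImplicit false
open Cfsg
open scoped commutatorElement

namespace Cfsg.Agent.S4038

/-- Let A and G be finite groups of coprime orders with A acting on G by automorphisms. Suppose G has a proper A-invariant subgroup M, maximal among proper A-invariant subgroups, which is nilpotent and whose Sylow 2-subgroups have nilpotency class at most 2. Then G is solvable. -/
theorem result {G A : Type*} [Group G] [Finite G]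
    [Group A] [Finite A] (φ : A →* MulAut G) (hcop : (Nat.card A).Coprime (Nat.card G))
    (M : Subgroup G) (hMtop : M ≠ ⊤) (hMinv : ∀ a : A, ∀ m : G, m ∈ M → φ a m ∈ M)
    (hMmax : ∀ H : Subgroup G, M ≤ H → H ≠ ⊤ → (∀ a : A, ∀ h : G, h ∈ H → φ a h ∈ H) → H = M)
    (hnil : Group.IsNilpotent M) (h2 : ∀ S : Sylow 2 ↥M, Group.nilpotencyClass ↥(S : Subgroup ↥M) ≤ 2) :
    Group.IsSolvable G := by
  have hodd : ∀ (K : Type _) [Group K] [Finite K], Odd (Nat.card K) → Group.IsSolvable K :=
    fun K _ _ h => Cfsg.Agent.S0205.result h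
  refine Cfsg.Agent.Coprime.OddInvariant.isSolvable_of_nilpotent_maximal hodd _ φ M rfl hcop hMtop
    (fun a m hm => hMinv a m hm) (fun H h1 h2' h3 => hMmax H h1 h2' h3) hnil ?_
  intro U hUM hU x hx y hy z hz
  haveI : Fact (Nat.Prime 2) := ⟨Nat.prime_two⟩
  obtain ⟨T, hT⟩ := (hU.comap_subtype (K := M)).exists_le_sylow
  haveI : Group.IsNilpotent (T : Subgroup M) := T.2.isNilpotent
  have h1 := Subgroup.lowerCentralSeries_eq_bot_iff_nilpotencyClass_le.mpr (h2 T)
  let x' : (T : Subgroup M) := ⟨⟨x, hUM hx⟩, hT hx⟩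
  let y' : (T : Subgroup M) := ⟨⟨y, hUM hy⟩, hT hy⟩
  let z' : (T : Subgroup M) := ⟨⟨z, hUM hz⟩, hT hz⟩
  have h3 : ⁅⁅x', y'⁆, z'⁆ ∈ (⊤ : Subgroup (T : Subgroup M)).lowerCentralSeries 2 := by
    rw [Subgroup.lowerCentralSeries_succ, Subgroup.lowerCentralSeries_succ,
      Subgroup.lowerCentralSeries_zero]
    exact Subgroup.commutator_mem_commutator
      (Subgroup.commutator_mem_commutator (Subgroup.mem_top _) (Subgroup.mem_top _)) (Subgroup.mem_top _)
  rw [h1, Subgroup.mem_bot, commutatorElement_eq_one_iff_mul_comm] at h3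
  exact congrArg (fun w => (((w : (T : Subgroup M)) : M) : G)) h3

end Cfsg.Agent.S4038
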