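import Cfsg.Statements.S4040
import Mathlib
import Cfsg.Agent.GStructB.NilpotentMaximal

set_option autoImplicit false
open Cfsg

namespace Cfsg.Agent.S4040

universe u

theorem aux : ∀ (n : ℕ) (G : Type u) [Group G] [Finite G], Nat.card G ≤ n → ∀ M : Subgroup G,
    IsCoatom M → Group.IsNilpotent M → Odd (Nat.card M) → Group.IsSolvable G := by
  intro n
  induction n with
  | zero => intro G _ _ hn; exact absurd hn (by simp [Nat.card_pos.ne'])
  | succ n ih =>
    intro G _ _ hn M hmax hnil hcond
    by_cases hcore : ∀ N : Subgroup G, N.Normal → N ≤ M → N = ⊥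
    · by_cases hM1 : M = ⊥
      · -- every nontrivial element generates `G`
        subst hM1
        refine Group.isSolvable_of_comm fun a b => ?_
        by_cases ha : a = 1
        · simp [ha]
        have : b ∈ Subgroup.zpowers a := by
          rw [(hmax.le_iff.mp bot_le).resolve_right (fun h => ha (Subgroup.mem_bot.mp (h ▸ Subgroup.mem_zpowers a)))]
          exact Subgroup.mem_top b
        obtain ⟨j, rfl⟩ := Subgroup.mem_zpowers_iff.mp this
        exact ((Commute.refl a).zpow_right j).eq
      have hs : GStructB.NilpotentMaximal.Setup M := ⟨hmax, hnil, hM1, hcore⟩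
      refine hs.isSolvable fun p hp hpM => ?_
      have := Fact.mk hp
      exact hs.complement_odd (by rintro rfl; exact Nat.not_even_iff_odd.mpr hcond (even_iff_two_dvd.mpr hpM)) hpM
    push Not at hcore
    obtain ⟨N, hN, hNM, hN1⟩ := hcore
    have hNs : Group.IsSolvable N := by
      have := hnil
      exact Group.isSolvable_of_isSolvable_injective (Subgroup.inclusion_injective hNM)
    have hlt : Nat.card (G ⧸ N) ≤ n := by
      have h1 := N.card_eq_card_quotient_mul_card_subgroup
      have h2 : 1 < Nat.card N := Subgroup.one_lt_card_iff_ne_bot _ |>.mpr hN1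
      have h3 : 0 < Nat.card (G ⧸ N) := Nat.card_pos
      nlinarith
    set π := QuotientGroup.mk' N
    have hsurj := QuotientGroup.mk'_surjective N
    have hker : M ⊔ π.ker = M := sup_eq_left.mpr (by rw [QuotientGroup.ker_mk']; exact hNM)
    have hmax' : IsCoatom (M.map π) := by
      refine ⟨fun h => hmax.1 ?_, fun X hX => ?_⟩
      · rw [← hker, ← Subgroup.comap_map_eq, h, Subgroup.comap_top]
      · have h1 : M < X.comap π := by
          rw [← hker, ← Subgroup.comap_map_eq]
          exact (Subgroup.comap_lt_comap_of_surjective hsurj).mpr hX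
        rw [← Subgroup.map_comap_eq_self_of_surjective hsurj X, hmax.2 _ h1,
          Subgroup.map_top_of_surjective _ hsurj]
    have hq : Group.IsSolvable (G ⧸ N) := by
      have := hnil
      have hnil' : Group.IsNilpotent (M.map π) :=
        Group.nilpotent_of_surjective (π.subgroupMap M) (π.subgroupMap_surjective M)
      exact ih (G ⧸ N) hlt _ hmax' hnil' (hcond.of_dvd_nat (Subgroup.card_map_dvd M π))
    exact (Group.isSolvable_iff_subgroup_quotient N).mpr ⟨hNs, hq⟩


/-- A finite group possessing a maximal subgroup that is nilpotent of odd order is solvable. -/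
theorem result {G : Type*} [Group G] [Finite G]
    (M : Subgroup G) (hmax : IsCoatom M) (hnil : Group.IsNilpotent M) (hodd : Odd (Nat.card M)) :
    Group.IsSolvable G := by
  exact aux (Nat.card G) G le_rfl M hmax hnil hodd

end Cfsg.Agent.S4040
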