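import Cfsg.Statements.S4043
import Mathlib
import Cfsg.Agent.GStructB.PElements
import Cfsg.Agent.Lib.Coprime.SchurZassenhaus
import Cfsg.Agent.Lib.Transfer.NormalPComplement
import Cfsg.Agent.OddLocal.Coprime

set_option autoImplicit false
open Cfsg

namespace Cfsg.Agent.S4043

/-- Let G be a finite group that is the semidirect product of a normal p-subgroup N by a subgroup A, and also of N by a subgroup A₁, where p is a prime and A and A₁ both have normal p-complements. If C_N(A) = C_N(A₁) = 1, then A₁ is conjugate to A by an element of N. -/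
theorem result {G : Type*} [Group G] [Finite G] {p : ℕ}
    [Fact p.Prime] (N : Subgroup G) [N.Normal] (hN : IsPGroup p N) (A A₁ : Subgroup G)
    (hA : A.IsComplement' N) (hA₁ : A₁.IsComplement' N)
    (hAp : Cfsg.HasNormalPComplement p A) (hA₁p : Cfsg.HasNormalPComplement p A₁)
    (hC : ∀ n : G, n ∈ N → (∀ a : G, a ∈ A → a * n * a⁻¹ = n) → n = 1)
    (hC₁ : ∀ n : G, n ∈ N → (∀ a : G, a ∈ A₁ → a * n * a⁻¹ = n) → n = 1) :
    ∃ n : G, n ∈ N ∧ A₁ = A.map (MulAut.conj n).toMonoidHom := by
  classical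
  have hp := (Fact.out : p.Prime)
  set π := QuotientGroup.mk' N
  -- the image of the normal p-complement of a complement
  have key : ∀ B : Subgroup G, B.IsComplement' N → Cfsg.HasNormalPComplement p B →
      ∃ (K P : Subgroup G), K ≤ B ∧ P ≤ B ∧ B ≤ Subgroup.normalizer (K : Set G) ∧
        (Nat.card K).Coprime p ∧ IsPGroup p P ∧ K ⊔ P = B ∧
        K.map π = Cfsg.pResidual p (G ⧸ N) := by
    intro B hB hBp
    obtain ⟨K, hKn, hKcop, k, hk⟩ :=
      Transfer.NormalPComplement.hasNormalPComplement_iff_exists.mp hBp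
    obtain ⟨P⟩ := (inferInstance : Nonempty (Sylow p B))
    have hKP := Transfer.NormalPComplement.isComplement'_of_coprime_card hKcop hk P
    refine ⟨K.map B.subtype, (P : Subgroup B).map B.subtype, Subgroup.map_subtype_le _,
      Subgroup.map_subtype_le _, ?_, by rwa [Subgroup.card_subtype], P.2.map _, ?_, ?_⟩
    · intro b hb
      have h1 : (⟨b, hb⟩ : B) ∈ Subgroup.normalizer (K : Set B) := by
        rw [Subgroup.normalizer_eq_top]; exact Subgroup.mem_top _
      exact Subgroup.le_normalizer_map B.subtype ⟨_, h1, rfl⟩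
    · rw [← Subgroup.map_sup, hKP.sup_eq_top, ← MonoidHom.range_eq_map, Subgroup.range_subtype]
    · -- the residual of the quotient is the image of `K`
      have hf : Function.Surjective (π.comp B.subtype) := by
        intro q
        obtain ⟨g, rfl⟩ := QuotientGroup.mk'_surjective N q
        obtain ⟨b, hb, n, hn, rfl⟩ := Subgroup.mem_sup_of_normal_right.mp
          (show g ∈ B ⊔ N from hB.sup_eq_top ▸ Subgroup.mem_top g)
        exact ⟨⟨b, hb⟩, by simp [π, (QuotientGroup.eq_one_iff n).mpr hn]⟩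
      rw [Subgroup.map_map, ← Transfer.NormalPComplement.map_pResidual_of_surjective hf,
        Transfer.NormalPComplement.pResidual_eq_of_normalPComplement hKcop hk]
  obtain ⟨K, P, hKA, hPA, hAK, hKc, hPp, hKP, hKim⟩ := key A hA hAp
  obtain ⟨K₁, P₁, hKA₁, hPA₁, hAK₁, hKc₁, hPp₁, hKP₁, hKim₁⟩ := key A₁ hA₁ hA₁p
  have heq : N ⊔ K = N ⊔ K₁ := by
    have h1 := congrArg (Subgroup.comap π) (hKim.trans hKim₁.symm)
    rwa [Subgroup.comap_map_eq, Subgroup.comap_map_eq, QuotientGroup.ker_mk', sup_comm,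
      sup_comm K₁ N] at h1
  have hsub : ∀ L : Subgroup G, L ≤ Subgroup.normalizer (N : Set G) := fun L => by
    rw [Subgroup.normalizer_eq_top]; exact le_top
  obtain ⟨nN, hnN⟩ := hN.exists_card_eq
  have := hN.isNilpotent
  obtain ⟨n, hn, hnK⟩ := Coprime.exists_conj_eq_of_sup_eq (hsub K) (hsub K₁) heq
    (by rw [hnN]; exact (Nat.Coprime.pow_right nN hKc).symm)
    (by rw [hnN]; exact (Nat.Coprime.pow_right nN hKc₁).symm)
    (Or.inl inferInstance)
  refine ⟨n, hn, ?_⟩
  set A₂ := A.map (MulAut.conj n).toMonoidHom with hA₂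
  set M := Subgroup.normalizer (K₁ : Set G) with hM
  have hA₂M : A₂ ≤ M := by
    rintro _ ⟨b, hb, rfl⟩
    rw [hM, ← hnK]
    exact Subgroup.le_normalizer_map (MulAut.conj n).toMonoidHom ⟨b, hAK hb, rfl⟩
  -- nothing of `N` normalises `K₁`
  have hV : N ⊓ M = ⊥ := by
    set V := N ⊓ M with hV
    by_contra hne
    have hcentK : ∀ v ∈ V, ∀ k ∈ K₁, v * k = k * v := by
      intro v hv k hk
      have h1 : v * k * v⁻¹ * k⁻¹ ∈ N ⊓ K₁ := by
        refine Subgroup.mem_inf.mpr ⟨?_, ?_⟩
        · rw [show v * k * v⁻¹ * k⁻¹ = v * (k * v⁻¹ * k⁻¹) by group]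
          exact mul_mem hv.1 (‹N.Normal›.conj_mem _ (inv_mem hv.1) k)
        · exact mul_mem ((Subgroup.mem_normalizer_iff.mp hv.2 k).mp hk) (inv_mem hk)
      have h2 : N ⊓ K₁ = ⊥ := le_bot_iff.mp
        ((inf_le_inf_left N hKA₁).trans (le_of_eq (disjoint_iff.mp hA₁.disjoint.symm)))
      rw [h2, Subgroup.mem_bot, mul_inv_eq_one, mul_inv_eq_iff_eq_mul] at h1
      exact h1
    have hPV : P₁ ≤ Subgroup.normalizer (V : Set G) := by
      intro z hz
      have hzM : z ∈ M := hAK₁ (hPA₁ hz)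
      have hzN : z ∈ Subgroup.normalizer (N : Set G) := hsub P₁ hz
      rw [Subgroup.mem_normalizer_iff] at hzN ⊢
      intro w
      simp only [hV, Subgroup.mem_inf]
      refine and_congr (hzN w) ⟨fun hw => mul_mem (mul_mem hzM hw) (inv_mem hzM), fun hw => ?_⟩
      have := mul_mem (mul_mem (inv_mem hzM) hw) hzM
      simpa [mul_assoc] using this
    have hVp : IsPGroup p V := hN.to_le inf_le_left
    have hT : IsPGroup p ↥(V ⊔ P₁) := sup_comm P₁ V ▸ hPp₁.to_sup_of_normal_right' hVp hPV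
    have := hT.isNilpotent
    have hVn : (V.subgroupOf (V ⊔ P₁)).Normal :=
      (Subgroup.normal_subgroupOf_iff_le_normalizer le_sup_left).mpr
        (sup_le Subgroup.le_normalizer hPV)
    have h3 := OddLocal.Coprime.inf_center_ne_bot hVn (by
      rw [Ne, Subgroup.subgroupOf_eq_bot, disjoint_iff, inf_eq_left.mpr le_sup_left]
      exact hne)
    obtain ⟨v, hv, hv1⟩ := (Subgroup.bot_or_exists_ne_one _).resolve_left h3
    obtain ⟨hvV, hvZ⟩ := Subgroup.mem_inf.mp hv
    rw [Subgroup.mem_subgroupOf] at hvV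
    apply hv1
    apply Subtype.ext
    refine hC₁ (v : G) hvV.1 fun a ha => ?_
    have hac : a ∈ Subgroup.centralizer ({(v : G)} : Set G) := by
      have hle : K₁ ⊔ P₁ ≤ Subgroup.centralizer ({(v : G)} : Set G) := by
        refine sup_le (fun k hk => ?_) (fun z hz => ?_) <;>
          rw [Subgroup.mem_centralizer_singleton_iff]
        · exact (hcentK v hvV k hk).symm
        · exact congrArg Subtype.val
            (Subgroup.mem_center_iff.mp hvZ ⟨z, Subgroup.mem_sup_right hz⟩)
      exact hle (hKP₁ ▸ ha)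
    rw [Subgroup.mem_centralizer_singleton_iff] at hac
    rw [hac, mul_inv_cancel_right]
  have hle : A₂ ≤ A₁ := by
    intro a ha
    obtain ⟨b, hb, m, hm, rfl⟩ := Subgroup.mem_sup_of_normal_right.mp
      (show a ∈ A₁ ⊔ N from hA₁.sup_eq_top ▸ Subgroup.mem_top a)
    have hmM : m ∈ N ⊓ M := by
      refine Subgroup.mem_inf.mpr ⟨hm, ?_⟩
      have := mul_mem (inv_mem (hAK₁ hb)) (hA₂M ha)
      simpa using this
    rw [hV, Subgroup.mem_bot] at hmM
    rwa [hmM, mul_one]
  refine (Subgroup.eq_of_le_of_card_ge hle ?_).symm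
  rw [hA₂, Subgroup.card_map_of_injective (MulAut.conj n).injective, ← hA₁.index_eq_card,
    ← hA.index_eq_card]

end Cfsg.Agent.S4043
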