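import Cfsg.Statements.S4049
import Mathlib
import Cfsg.Agent.GStructB.InvertedOdd

set_option autoImplicit false
open Cfsg

namespace Cfsg.Agent.S4049

/-- Let G be a finite group such that N_G(H)/C_G(H) has odd order for every nontrivial subgroup H of odd order. Then the Sylow 2-subgroups of G are normal. -/
theorem result {G : Type*} [Group G] [Finite G]
    (hhom : ∀ H : Subgroup G, H ≠ ⊥ → ¬ 2 ∣ Nat.card ↥H →
        ¬ 2 ∣ (Subgroup.centralizer (H : Set G)).relIndex (Subgroup.normalizer (H : Set G))) (P : Sylow 2 G) :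
    (P : Subgroup G).Normal := by
  refine (GStructB.InvertedOdd.normal_or_exists P).resolve_right ?_
  rintro ⟨x, u, hx, hx1, ⟨k, hk⟩, hu, hux⟩
  have hodd : ¬ 2 ∣ Nat.card (Subgroup.zpowers x) := by
    rw [Nat.card_zpowers]; exact fun h => Nat.not_even_iff_odd.mpr hx (even_iff_two_dvd.mpr h)
  have hh := hhom (Subgroup.zpowers x) (by simpa using hx1) hodd
  set N := Subgroup.normalizer ((Subgroup.zpowers x : Subgroup G) : Set G)
  set C := Subgroup.centralizer ((Subgroup.zpowers x : Subgroup G) : Set G)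
  have hn : (C.subgroupOf N).Normal := by
    refine ⟨fun c hc m => Subgroup.mem_subgroupOf.mpr (Subgroup.mem_centralizer_iff.mpr fun z hz => ?_)⟩
    have h3 : (m : G)⁻¹ * z * m ∈ Subgroup.zpowers x := by
      simpa using (Subgroup.mem_normalizer_iff.mp (inv_mem m.2) z).mp hz
    have h4 := Subgroup.mem_centralizer_iff.mp (Subgroup.mem_subgroupOf.mp hc) _ h3
    simp only [Subgroup.coe_mul, Subgroup.coe_inv]
    calc z * ((m : G) * c * (m : G)⁻¹) = m * (((m : G)⁻¹ * z * m) * c) * (m : G)⁻¹ := by group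
      _ = _ := by rw [h4]; group
  have hdvd : orderOf (QuotientGroup.mk' (C.subgroupOf N) ⟨u, hu⟩) ∣ C.relIndex N := by
    rw [Subgroup.relIndex, Subgroup.index_eq_card]
    exact orderOf_dvd_natCard _
  obtain ⟨j, -, hj⟩ := (Nat.dvd_prime_pow Nat.prime_two).mp
    ((orderOf_map_dvd (QuotientGroup.mk' (C.subgroupOf N)) ⟨u, hu⟩).trans
      (dvd_of_eq ((Subgroup.orderOf_mk u hu).trans hk)))
  rcases j with _ | j
  · rw [pow_zero, orderOf_eq_one_iff] at hj
    have h1 := Subgroup.mem_subgroupOf.mp ((QuotientGroup.eq_one_iff (⟨u, hu⟩ : N)).mp hj)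
    exact hux (Subgroup.mem_centralizer_iff.mp h1 x (Subgroup.mem_zpowers x)).symm
  · exact hh (((dvd_pow_self 2 (Nat.succ_ne_zero j)).trans (dvd_of_eq hj.symm)).trans hdvd)

end Cfsg.Agent.S4049
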