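import Cfsg.Statements.S4050
import Mathlib
import Cfsg.Agent.GStructB.PiHomogeneous

set_option autoImplicit false
open Cfsg

namespace Cfsg.Agent.S4050

/-- Let π be a set of primes and G a finite group. The π-elements of G (elements whose order is divisible only by primes of π) form a subgroup if and only if G is π-separable (it has a chain of normal subgroups from 1 to G with each successive index divisible only by primes in π or only by primes outside π) and N_G(H)/C_G(H) is a π'-group for every nontrivial π'-subgroup H of G. -/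
theorem result {G : Type*} [Group G] [Finite G] (π : Set ℕ)
    (hπ : ∀ p ∈ π, p.Prime) :
    (∃ K : Subgroup G, ∀ x : G, x ∈ K ↔ ∀ p : ℕ, p.Prime → p ∣ orderOf x → p ∈ π) ↔
    ((∃ (n : ℕ) (H : Fin (n + 1) → Subgroup G), H 0 = ⊥ ∧ H (Fin.last n) = ⊤ ∧ Monotone H ∧ (∀ i, (H i).Normal) ∧
      ∀ i : Fin n, (∀ q : ℕ, q.Prime → q ∣ (H i.castSucc).relIndex (H i.succ) → q ∈ π) ∨
        (∀ q : ℕ, q.Prime → q ∣ (H i.castSucc).relIndex (H i.succ) → q ∉ π)) ∧
     (∀ H : Subgroup G, H ≠ ⊥ → (∀ p : ℕ, p.Prime → p ∣ Nat.card ↥H → p ∉ π) →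
        ∀ p : ℕ, p.Prime → p ∣ (Subgroup.centralizer (H : Set G)).relIndex (Subgroup.normalizer (H : Set G)) → p ∉ π)) := by
  classical
  constructor
  · rintro ⟨K, hK⟩
    have hKn : K.Normal := by
      refine ⟨fun x hx g => (hK _).mpr fun p hp hd => (hK x).mp hx p hp ?_⟩
      rwa [show g * x * g⁻¹ = MulAut.conj g x from rfl, MulEquiv.orderOf_eq] at hd
    have hKπ : ∀ p : ℕ, p.Prime → p ∣ Nat.card K → p ∈ π := by
      intro p hp hd
      have := Fact.mk hp
      obtain ⟨y, hy⟩ := exists_prime_orderOf_dvd_card' p hd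
      exact (hK y).mp y.2 p hp (by rw [Subgroup.orderOf_coe, hy])
    refine ⟨⟨2, ![⊥, K, ⊤], rfl, rfl, ?_, ?_, ?_⟩, ?_⟩
    · intro i j hij; fin_cases i <;> fin_cases j <;> simp_all
    · intro i; fin_cases i
      · simpa using (inferInstance : (⊥ : Subgroup G).Normal)
      · simpa using hKn
      · simpa using (inferInstance : (⊤ : Subgroup G).Normal)
    · intro i; fin_cases i
      · left; simpa using hKπ
      · right
        intro q hq hd hqπ
        have := Fact.mk hq
        replace hd : q ∣ Nat.card (G ⧸ K) := by simpa [← Subgroup.index_eq_card] using hd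
        obtain ⟨z, hz⟩ := exists_prime_orderOf_dvd_card' q hd
        obtain ⟨y, rfl⟩ := QuotientGroup.mk'_surjective K z
        obtain ⟨a, s, -, hs, hys⟩ := GStructB.PElements.exists_split q y
        have h1 : y ^ s ∈ K := (hK _).mpr fun r hr hrd => by
          rw [hys] at hrd
          rwa [(Nat.prime_dvd_prime_iff_eq hr hq).mp (hr.dvd_of_dvd_pow hrd)]
        exact hs (hz ▸ orderOf_dvd_of_pow_eq_one
          (by rw [← map_pow]; exact (QuotientGroup.eq_one_iff _).mpr h1))
    · intro H hH1 hH p hp hd hpπ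
      have := Fact.mk hp
      have := GStructB.PiHomogeneous.centralizer_subgroupOf_normal H
      set C := (Subgroup.centralizer (H : Set G)).subgroupOf (Subgroup.normalizer (H : Set G))
      obtain ⟨z, hz⟩ := exists_prime_orderOf_dvd_card' (G := _ ⧸ C) p (by rwa [← Subgroup.index_eq_card])
      obtain ⟨n, rfl⟩ := QuotientGroup.mk'_surjective C z
      obtain ⟨a, s, -, hs, hns⟩ := GStructB.PElements.exists_split p n
      refine hs (hz ▸ orderOf_dvd_of_pow_eq_one ?_)
      rw [← map_pow]
      refine (QuotientGroup.eq_one_iff _).mpr (Subgroup.mem_subgroupOf.mpr ?_)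
      rw [Subgroup.mem_centralizer_iff]
      intro w hw
      set m : G := ((n ^ s : _) : G) with hm
      have hmK : m ∈ K := (hK _).mpr fun r hr hrd => by
        rw [hm, Subgroup.orderOf_coe, hns] at hrd
        rwa [(Nat.prime_dvd_prime_iff_eq hr hp).mp (hr.dvd_of_dvd_pow hrd)]
      have h1 : m * w * m⁻¹ * w⁻¹ ∈ K := by
        rw [show m * w * m⁻¹ * w⁻¹ = m * (w * m⁻¹ * w⁻¹) by group]
        exact mul_mem hmK (hKn.conj_mem _ (inv_mem hmK) w)
      have h2 : m * w * m⁻¹ * w⁻¹ ∈ H :=
        mul_mem ((Subgroup.mem_normalizer_iff.mp (n ^ s).2 w).mp hw) (inv_mem hw)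
      have h3 : orderOf (m * w * m⁻¹ * w⁻¹) = 1 := by
        by_contra hne
        obtain ⟨r, hr, hrd⟩ := Nat.exists_prime_and_dvd hne
        exact hH r hr (hrd.trans (H.orderOf_dvd_natCard h2)) ((hK _).mp h1 r hr hrd)
      rw [orderOf_eq_one_iff, mul_inv_eq_one] at h3
      exact (mul_inv_eq_iff_eq_mul.mp h3).symm
  · rintro ⟨⟨n, S, h0, h1, hmono, hn, hi⟩, hhom⟩
    have main : ∀ i, GStructB.PiHomogeneous.Closed π (S i) := by
      intro i
      induction i using Fin.induction with
      | zero =>
        refine ⟨⊤, fun x => iff_of_true (Subgroup.mem_top x) fun p hp hd => ?_⟩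
        exfalso
        have hx : x = 1 := Subtype.ext (Subgroup.mem_bot.mp (h0 ▸ x.2))
        rw [hx, orderOf_one, Nat.dvd_one] at hd
        exact hp.ne_one hd
      | succ i ih =>
        have := hn i.castSucc
        set L := S i.succ
        set K := (S i.castSucc).subgroupOf L
        have hKL : S i.castSucc ≤ L := hmono (Fin.castSucc_le_succ i)
        refine GStructB.PiHomogeneous.closed_of_extension hπ (GStructB.PiHomogeneous.Homog.subgroup hhom L) K ?_ ?_
        · obtain ⟨U, hU⟩ := ih
          let e := Subgroup.subgroupOfEquivOfLe hKL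
          refine ⟨U.comap e.toMonoidHom, fun x => ?_⟩
          rw [Subgroup.mem_comap]
          exact (hU _).trans (by rw [show e.toMonoidHom x = e x from rfl, MulEquiv.orderOf_eq])
        · rcases hi i with h | h
          · exact ⟨⊤, fun x => iff_of_true (Subgroup.mem_top x) fun p hp hd =>
              h p hp (hd.trans ((orderOf_dvd_natCard x).trans (dvd_of_eq K.index_eq_card.symm)))⟩
          · refine ⟨⊥, fun x => ?_⟩
            rw [Subgroup.mem_bot, ← orderOf_eq_one_iff]
            refine ⟨fun h' p hp hd => absurd (h' ▸ hd) (fun hd => hp.ne_one (Nat.dvd_one.mp hd)), fun hx => ?_⟩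
            by_contra hne
            obtain ⟨p, hp, hd⟩ := Nat.exists_prime_and_dvd hne
            exact h p hp (hd.trans ((orderOf_dvd_natCard x).trans (dvd_of_eq K.index_eq_card.symm))) (hx p hp hd)
    obtain ⟨U, hU⟩ := main (Fin.last n)
    refine ⟨U.map (S (Fin.last n)).subtype, fun x => ?_⟩
    constructor
    · rintro ⟨y, hy, rfl⟩ p hp hd
      rw [Subgroup.coe_subtype, Subgroup.orderOf_coe] at hd
      exact (hU y).mp hy p hp hd
    · intro hx
      exact ⟨⟨x, h1 ▸ Subgroup.mem_top x⟩, (hU _).mpr (fun p hp hd => hx p hp (by rwa [Subgroup.orderOf_mk] at hd)), rfl⟩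

end Cfsg.Agent.S4050
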