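import Cfsg.Statements.S4052
import Cfsg.Agent.Lib.Components.DPiHomogeneous
import Cfsg.Agent.S0877

set_option autoImplicit false
open Cfsg

namespace Cfsg.Agent.S4052

/-- Let π be a set of primes and G a finite group whose maximal π-subgroups are pairwise conjugate (so Hall π-subgroups exist, any two are conjugate, and every π-subgroup lies in one of them), and suppose N_G(H)/C_G(H) is a π-group for every nontrivial π-subgroup H. If either 3 does not divide the order of G, or the π'-elements of every proper subgroup of G form a subgroup, then the π'-elements of G form a subgroup. -/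
theorem result {G : Type*} [Group G] [Finite G] (π : Set ℕ)
    (hπ : ∀ p ∈ π, p.Prime) (hD : Cfsg.IsDPiGroup π G) (hhom : (∀ H : Subgroup G, H ≠ ⊥ → (∀ p : ℕ, p.Prime → p ∣ Nat.card ↥H → p ∈ π) →
        ∀ p : ℕ, p.Prime → p ∣ (Subgroup.centralizer (H : Set G)).relIndex (Subgroup.normalizer (H : Set G)) → p ∈ π))
    (hcase : ¬ 3 ∣ Nat.card G ∨ ∀ M : Subgroup G, M ≠ ⊤ →
      ∃ L : Subgroup ↥M, ∀ x : ↥M, x ∈ L ↔ ∀ p : ℕ, p.Prime → p ∣ orderOf x → p ∉ π) :
    (∃ K : Subgroup G, ∀ x : G, x ∈ K ↔ ∀ p : ℕ, p.Prime → p ∣ orderOf x → p ∉ π) := by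
  classical
  have hex : ∀ U : Subgroup G, Cfsg.IsPiSubgroup π U → ∃ K, U ≤ K ∧ Maximal (Cfsg.IsPiSubgroup π) K :=
    fun U hU => Finite.exists_le_maximal hU
  obtain ⟨H, -, hHmax⟩ := hex ⊥ (fun p hp hd => by
    rw [Subgroup.card_bot] at hd; exact absurd (Nat.dvd_one.mp hd) hp.ne_one)
  have hy : Components.DPiHom.Hyp π H := by
    refine ⟨hHmax.prop, ?_, ?_⟩
    · intro U hU
      obtain ⟨K, hUK, hK⟩ := hex U hU
      obtain ⟨g, hg⟩ := hD K H hK hHmax
      exact ⟨g, hg ▸ Subgroup.map_mono hUK⟩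
    · intro U hU hUπ p hp hd hn
      exact hn (hhom U hU (fun q hq hqd => not_not.mp (hUπ q hq hqd)) p hp hd)
  have hHall : ∀ p : ℕ, p.Prime → p ∈ π → ¬ p ∣ H.index := by
    intro p hp hpπ hd
    have := Fact.mk hp
    obtain ⟨P⟩ := (inferInstance : Nonempty (Sylow p G))
    obtain ⟨g, hg⟩ := hy.emb (P : Subgroup G) (Components.DPiHom.pi_of_pGroup hpπ P.isPGroup')
    have h1 : Nat.card (P : Subgroup G) ∣ Nat.card H := by
      rw [← Components.DPiHom.card_cmap g (P : Subgroup G)]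
      exact Subgroup.card_dvd_of_le hg
    refine P.not_dvd_index (hd.trans ?_)
    refine Nat.dvd_of_mul_dvd_mul_left (Nat.card_pos (α := H)) ?_
    rw [Subgroup.card_mul_index]
    calc Nat.card G = Nat.card (P : Subgroup G) * (P : Subgroup G).index := (Subgroup.card_mul_index _).symm
      _ ∣ Nat.card H * (P : Subgroup G).index := Nat.mul_dvd_mul_right h1 _
  have hco : Nat.Coprime (Nat.card H) H.index :=
    Nat.coprime_of_dvd fun p hp hd1 hd2 => hHall p hp (hy.piH p hp hd1) hd2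
  obtain ⟨K, hKn, hKH, hKH'⟩ := S0877.result H hco
    (fun x hx y hy' hxy => by
      obtain ⟨g, hg⟩ := isConj_iff.mp hxy
      obtain ⟨h, hh, he⟩ := Components.DPiHom.fusion _ hy x hx le_rfl g (hg.symm ▸ hy')
      exact ⟨h, hh, he.trans hg⟩)
    (fun E p hp _ hd => hy.emb E fun q hq hqd => hy.piH q hq (hqd.trans hd))
  have hc : K.IsComplement' H :=
    Subgroup.isComplement'_of_disjoint_and_mul_eq_univ (disjoint_iff.mpr hKH') (by
      rw [← Subgroup.normal_mul, hKH]; rfl)
  refine ⟨K, fun x => ⟨fun hx p hp hd hpπ => ?_, fun hx => ?_⟩⟩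
  · refine hHall p hp hpπ ?_
    rw [hc.index_eq_card]
    refine hd.trans ?_
    have := orderOf_dvd_natCard (⟨x, hx⟩ : K)
    rwa [Subgroup.orderOf_mk] at this
  · have h1 : Nat.Coprime (orderOf x) K.index := by
      refine Nat.coprime_of_dvd fun p hp hd1 hd2 => hx p hp hd1 ?_
      rw [hc.symm.index_eq_card] at hd2
      exact hy.piH p hp hd2
    have h2 : orderOf (x : G ⧸ K) = 1 :=
      Nat.dvd_one.mp (h1.gcd_eq_one ▸ Nat.dvd_gcd (orderOf_map_dvd (QuotientGroup.mk' K) x)
        (by rw [Subgroup.index_eq_card]; exact orderOf_dvd_natCard _))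
    exact (QuotientGroup.eq_one_iff x).mp (orderOf_eq_one_iff.mp h2)

end Cfsg.Agent.S4052
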