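import Cfsg.Statements.S4056
import Cfsg.Agent.Lib.CharP.Basic

set_option autoImplicit false
open Cfsg

namespace Cfsg.Agent.S4056
open scoped commutatorElement

/-- In a finite 2-group of nilpotency class at most 2 and exponent dividing 4, the Frattini subgroup lies in the centre and is elementary abelian. -/
theorem result {P : Type*} [Group P] [Finite P] (hP : IsPGroup 2 P)
    (hcl : Group.nilpotencyClass P ≤ 2) (hexp : Monoid.exponent P ∣ 4) :
    frattini P ≤ Subgroup.center P ∧ Cfsg.IsElementaryAbelian 2 (frattini P) := by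
  have : Fact (Nat.Prime 2) := ⟨Nat.prime_two⟩
  have := hP.isNilpotent
  have hc : ∀ a b : P, ⁅a, b⁆ ∈ Subgroup.center P := by
    intro a b
    have h2 := (lowerCentralSeries_eq_bot_iff_nilpotencyClass_le (G := P)).mpr hcl
    rw [Subgroup.mem_center_iff]
    intro c
    have : ⁅⁅a, b⁆, c⁆ ∈ (⊤ : Subgroup P).lowerCentralSeries 2 := by
      rw [Subgroup.lowerCentralSeries_succ]
      refine Subgroup.commutator_mem_commutator ?_ (Subgroup.mem_top c)
      rw [Subgroup.lowerCentralSeries_succ]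
      exact Subgroup.commutator_mem_commutator (Subgroup.mem_top a) (Subgroup.mem_top b)
    rw [h2, Subgroup.mem_bot, commutatorElement_eq_one_iff_mul_comm] at this
    exact this.symm
  have h4 : ∀ a : P, a ^ 4 = 1 := fun a => Monoid.exponent_dvd_iff_forall_pow_eq_one.mp hexp a
  have hswap : ∀ a b : P, b * a = ⁅b, a⁆ * (a * b) := fun a b => by
    rw [commutatorElement_def]; group
  have hsq : ∀ a b : P, (a * b) ^ 2 = ⁅b, a⁆ * (a ^ 2 * b ^ 2) := by
    intro a b
    calc (a * b) ^ 2 = a * (b * a) * b := by rw [pow_two]; group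
      _ = a * (⁅b, a⁆ * (a * b)) * b := by rw [hswap a b]
      _ = (a * ⁅b, a⁆) * (a * b * b) := by group
      _ = (⁅b, a⁆ * a) * (a * b * b) := by rw [(Subgroup.mem_center_iff.mp (hc b a) a)]
      _ = _ := by rw [pow_two, pow_two]; group
  have hright : ∀ a b : P, ⁅a ^ 2, b⁆ = ⁅a, b⁆ ^ 2 := by
    intro a b
    have := Subgroup.mem_center_iff.mp (hc a b) a
    calc ⁅a ^ 2, b⁆ = a * ⁅a, b⁆ * a⁻¹ * ⁅a, b⁆ := by
          rw [pow_two, commutatorElement_def, commutatorElement_def]; group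
      _ = ⁅a, b⁆ ^ 2 := by rw [this, mul_inv_cancel_right, pow_two]
  have hcomm2 : ∀ a b : P, ⁅a, b⁆ ^ 2 = 1 := by
    intro a b
    have e1 : ⁅b ^ 2, a ^ 2⁆ = ⁅b, a⁆ ^ 4 := by
      rw [hright, ← commutatorElement_inv, inv_pow, hright, ← inv_pow, ← inv_pow, ← pow_mul,
        commutatorElement_inv]
    have e2 : (a * b) ^ 4 = ⁅b, a⁆ ^ 2 * (a ^ 2 * b ^ 2) ^ 2 := by
      rw [show (4 : ℕ) = 2 * 2 from rfl, pow_mul, hsq]
      exact (Commute.mul_pow (Subgroup.mem_center_iff.mp (hc b a) (a ^ 2 * b ^ 2)).symm 2)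
    rw [h4, hsq, e1, ← pow_mul, ← pow_mul, h4, h4, h4, mul_one, mul_one, mul_one] at e2
    rw [← commutatorElement_inv, inv_pow, ← e2, inv_one]
  have hsqc : ∀ a : P, a ^ 2 ∈ Subgroup.center P := by
    intro a
    rw [Subgroup.mem_center_iff]
    intro b
    have := hright a b
    rw [hcomm2, commutatorElement_eq_one_iff_mul_comm] at this
    exact this.symm
  let W : Subgroup P :=
    { carrier := {z | z ∈ Subgroup.center P ∧ z ^ 2 = 1}
      one_mem' := ⟨one_mem _, one_pow _⟩
      mul_mem' := fun {a b} ha hb => ⟨mul_mem ha.1 hb.1, by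
        rw [Commute.mul_pow (Subgroup.mem_center_iff.mp hb.1 a), ha.2, hb.2, one_mul]⟩
      inv_mem' := fun {a} ha => ⟨inv_mem ha.1, by rw [inv_pow, ha.2, inv_one]⟩ }
  have : W.Normal := ⟨fun a ha g => by rwa [Subgroup.mem_center_iff.mp ha.1 g, mul_inv_cancel_right]⟩
  have hle : frattini P ≤ W := by
    have := Cfsg.Agent.CharP.frattini_le_ker (p := 2) (QuotientGroup.mk' W)
      (fun a b => by
        rw [← commutatorElement_eq_one_iff_commute, ← map_commutatorElement]
        exact (QuotientGroup.eq_one_iff _).mpr ⟨hc a b, hcomm2 a b⟩)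
      (fun a => by
        rw [← map_pow]
        exact (QuotientGroup.eq_one_iff _).mpr ⟨hsqc a, by rw [← pow_mul]; exact h4 a⟩)
    rwa [QuotientGroup.ker_mk'] at this
  refine ⟨fun z hz => (hle hz).1, ⟨⟨fun a b => Subtype.ext ?_⟩⟩, fun z hz => (hle hz).2⟩
  exact Subgroup.mem_center_iff.mp (hle b.2).1 a

end Cfsg.Agent.S4056
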