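import Cfsg.Statements.S4057
import Cfsg.Agent.GenA.SubgroupRank.Triangular
import Cfsg.Agent.GenA.SubgroupRank.PCentral
import Cfsg.Agent.Lib.PGroups.Alperin

set_option autoImplicit false
open Cfsg

namespace Cfsg.Agent.S4057

open Cfsg.Agent.GenA.SubgroupRank

theorem card_closure_le {A : Type*} [CommGroup A] [Finite A] {p : ℕ} (hp : 0 < p) (hexp : ∀ a : A, a ^ p = 1)
    (S : Finset A) : Nat.card (Subgroup.closure (S : Set A)) ≤ p ^ S.card := by
  classical
  induction S using Finset.induction_on with
  | empty => simp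
  | @insert a S ha ih =>
    rw [Finset.coe_insert, Set.insert_eq, Subgroup.closure_union, Finset.card_insert_of_notMem ha,
      pow_succ', ← Subgroup.zpowers_eq_closure]
    refine le_trans ?_ (Nat.mul_le_mul
      (Nat.le_of_dvd hp (orderOf_dvd_of_pow_eq_one (hexp a))) ih)
    rw [← Nat.card_zpowers, ← Nat.card_prod]
    refine Nat.card_le_card_of_surjective
      (fun x : Subgroup.zpowers a × Subgroup.closure (S : Set A) =>
        (⟨x.1.1 * x.2.1, Subgroup.mul_mem_sup x.1.2 x.2.2⟩ :
          ↥(Subgroup.zpowers a ⊔ Subgroup.closure (S : Set A)))) fun z => ?_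
    obtain ⟨u, hu, v, hv, huv⟩ := Subgroup.mem_sup.mp z.2
    exact ⟨(⟨u, hu⟩, ⟨v, hv⟩), Subtype.ext huv⟩

/-- Let p be an odd prime and P a finite p-group in which every normal abelian subgroup can be generated by k elements. Then every subgroup of P can be generated by at most ⌊k(k+4)/4⌋ elements. -/
theorem result {P : Type*} [Group P] [Finite P] {p : ℕ} [Fact p.Prime]
    (hp : p ≠ 2) (hP : IsPGroup p P) (k : ℕ)
    (hab : ∀ A : Subgroup P, A.Normal → IsMulCommutative A → ∃ S : Finset P, S.card ≤ k ∧ Subgroup.closure (S : Set P) = A) :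
    ∀ H : Subgroup P, ∃ S : Finset P, S.card ≤ k * (k + 4) / 4 ∧ Subgroup.closure (S : Set P) = H := by
  classical
  have hpp : p.Prime := Fact.out
  intro H
  obtain ⟨A, ⟨hAn, hAc, hAe⟩, hAmax⟩ := Set.exists_max_image
    {A : Subgroup P | A.Normal ∧ IsMulCommutative A ∧ ∀ a ∈ A, a ^ p = 1} (fun A => Nat.card A)
    (Set.toFinite _) ⟨⊥, inferInstance, inferInstance, fun a ha => by rw [Subgroup.mem_bot.mp ha, one_pow]⟩
  haveI := hAn
  haveI := hAc
  have hmax : ∀ B : Subgroup P, B.Normal → IsMulCommutative B → (∀ b ∈ B, b ^ p ^ 1 = 1) → A ≤ B →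
      B = A := fun B h1 h2 h3 hle =>
    (Subgroup.eq_of_le_of_card_ge hle (hAmax B ⟨h1, h2, fun b hb => by simpa using h3 b hb⟩)).symm
  -- the order of `A`
  obtain ⟨SA, hSA, hSAcl⟩ := hab A hAn hAc
  letI : CommGroup A := { (inferInstance : Group A) with mul_comm := fun a b => hAc.is_comm.comm a b }
  have hexpA : ∀ a : A, a ^ p = 1 := fun a => Subtype.ext (hAe a a.2)
  have hAk : Nat.card A ≤ p ^ k := by
    have hmem : ∀ x ∈ SA, x ∈ A := fun x hx => hSAcl ▸ Subgroup.subset_closure hx
    set T : Finset A := SA.attach.image fun x => ⟨x.1, hmem x.1 x.2⟩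
    have htop : Subgroup.closure (T : Set A) = ⊤ := by
      apply Subgroup.map_injective A.subtype_injective
      rw [MonoidHom.map_closure, ← MonoidHom.range_eq_map, Subgroup.range_subtype]
      conv_rhs => rw [← hSAcl]
      congr 1
      ext x
      simp [T]
      exact fun hx => hmem x hx
    have h := card_closure_le hpp.pos hexpA T
    rw [htop, Subgroup.card_top] at h
    exact h.trans (Nat.pow_le_pow_right hpp.pos
      ((Finset.card_image_le.trans_eq Finset.card_attach).trans hSA))
  haveI : Module (ZMod p) (Additive A) :=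
    AddCommGroup.zmodModule (fun v => Additive.toMul.injective (by simpa using hexpA v.toMul))
  set d := Module.finrank (ZMod p) (Additive A) with hd
  have hdk : d ≤ k := by
    have h : Nat.card A = p ^ d := by
      have h0 := Module.natCard_eq_pow_finrank (K := ZMod p) (V := Additive A)
      rw [Nat.card_zmod] at h0
      exact (Nat.card_congr Additive.ofMul).trans h0
    exact (Nat.pow_le_pow_iff_right hpp.one_lt).mp (h ▸ hAk)
  let b := Module.finBasisOfFinrankEq (ZMod p) (Additive A) hd.symm
  let φ : P →* Module.End (ZMod p) (Additive A) :=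
    { toFun := fun g => (MonoidHom.toAdditive
        ((MulAut.conjNormal g : MulAut A).toMonoidHom)).toZModLinearMap p
      map_one' := by
        refine LinearMap.ext fun v => ?_
        show Additive.ofMul ((MulAut.conjNormal (1 : P) : MulAut A) v.toMul) = v
        rw [map_one]
        rfl
      map_mul' := fun g h => by
        refine LinearMap.ext fun v => ?_
        show Additive.ofMul ((MulAut.conjNormal (g * h) : MulAut A) v.toMul) =
          Additive.ofMul ((MulAut.conjNormal g : MulAut A) ((MulAut.conjNormal h : MulAut A) v.toMul))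
        rw [map_mul]
        rfl }
  let ρ : P →* GL (Fin d) (ZMod p) :=
    ((LinearMap.toMatrixAlgEquiv b).toMonoidHom.comp φ).toHomUnits
  obtain ⟨g, hg⟩ := Triangular.exists_conj_uni hP ρ
  let σ : P →* GL (Fin d) (ZMod p) := (MulAut.conj g⁻¹).toMonoidHom.comp ρ
  have hσ : ∀ x, σ x = g⁻¹ * ρ x * g := fun x => by
    show g⁻¹ * ρ x * g⁻¹⁻¹ = _
    rw [inv_inv]
  have hker : ∀ x, σ x = 1 → x ∈ Subgroup.centralizer (A : Set P) := by
    intro x hx a ha
    have h1 : ρ x = 1 := by
      have h := congrArg (fun u => g * u * g⁻¹) ((hσ x).symm.trans hx)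
      simpa [mul_assoc] using h
    have h2 : φ x = 1 := (LinearMap.toMatrixAlgEquiv b).injective (by
      rw [map_one]
      exact congrArg Units.val h1)
    have h3 : x * a * x⁻¹ = a := congrArg (fun v : Additive A => (v.toMul : P))
      (LinearMap.congr_fun h2 (Additive.ofMul ⟨a, ha⟩))
    rw [← mul_inv_eq_iff_eq_mul.mp h3]
  -- generators of the image
  let R : Subgroup (GL (Fin d) (ZMod p)) := H.map σ
  obtain ⟨T, hTcard, hT⟩ := Leading.exists_generators
    (ρ := (Units.coeHom (Matrix (Fin d) (Fin d) (ZMod p))).comp R.subtype)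
    (fun x y h => Subtype.ext (Units.ext h)) (by
      rintro ⟨_, x, -, rfl⟩
      show Leading.Uni (Units.val (σ x))
      rw [hσ]
      exact hg x)
  have hlift : ∀ r : R, ∃ x ∈ H, σ x = r.1 := fun r => r.2
  choose l hlH hlσ using hlift
  -- generators of the kernel
  set N := H ⊓ Subgroup.centralizer (A : Set P) with hN
  have hΩ : ∀ x : N, x ^ p = 1 → x ∈ A.subgroupOf N := fun x hx =>
    Subgroup.mem_subgroupOf.mpr (Cfsg.Agent.PGroups.Alperin.mem_of_pow_eq_one hP (n := 1)
      (by rwa [pow_one]) A (fun a ha => by simpa using hAe a ha) hmax x.2.2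
      (by simpa using congrArg Subtype.val hx))
  obtain ⟨U, hUcard, hU⟩ := PCentral.exists_generators hp (hP.to_subgroup N) (A.subgroupOf N)
    (fun a ha => Subgroup.mem_center_iff.mpr fun w => Subtype.ext (w.2.2 a.1 ha).symm)
    hΩ d (by
      refine le_trans (Nat.card_le_card_of_injective (fun a : A.subgroupOf N => (⟨a.1.1, a.2⟩ : A))
        fun a b h => Subtype.ext (Subtype.ext (congrArg (fun v : A => (v : P)) h))) ?_
      rw [show Nat.card A = Nat.card (Additive A) from Nat.card_congr Additive.ofMul,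
        Module.natCard_eq_pow_finrank (K := ZMod p), Nat.card_zmod])
  refine ⟨T.image l ∪ U.image Subtype.val, ?_, le_antisymm ?_ ?_⟩
  · refine le_trans (Finset.card_union_le _ _) ?_
    rw [Nat.le_div_iff_mul_le (by norm_num)]
    have h1 := (Finset.card_image_le (s := T) (f := l))
    have h2 := (Finset.card_image_le (s := U) (f := Subtype.val)).trans hUcard
    have h3 : d * d ≤ k * k := Nat.mul_le_mul hdk hdk
    rw [mul_add k k 4, add_mul]
    omega
  · rw [Subgroup.closure_le]
    intro x hx
    simp only [Finset.coe_union, Finset.coe_image, Set.mem_union, Set.mem_image] at hx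
    rcases hx with ⟨r, -, rfl⟩ | ⟨u, -, rfl⟩
    · exact hlH r
    · exact u.2.1
  · intro x hx
    set Q := Subgroup.closure ((T.image l ∪ U.image Subtype.val : Finset P) : Set P) with hQ
    have hN' : N ≤ Q := by
      rw [← Subgroup.range_subtype N, MonoidHom.range_eq_map, ← hU, MonoidHom.map_closure]
      exact Subgroup.closure_mono (by simp)
    have hR : (⊤ : Subgroup R).map R.subtype ≤ (Q ⊓ H).map σ := by
      rw [← hT, MonoidHom.map_closure, Subgroup.closure_le]
      rintro _ ⟨r, hr, rfl⟩
      exact ⟨l r, ⟨Subgroup.subset_closure (by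
        simp only [Finset.coe_union, Finset.coe_image]
        exact Or.inl ⟨r, hr, rfl⟩), hlH r⟩, hlσ r⟩
    obtain ⟨y, ⟨hyQ, hyH⟩, hy⟩ := hR ⟨⟨σ x, x, hx, rfl⟩, Subgroup.mem_top _, rfl⟩
    have : y⁻¹ * x ∈ N := Subgroup.mem_inf.mpr ⟨H.mul_mem (H.inv_mem hyH) hx, hker _ (by
      rw [map_mul, map_inv, hy]
      exact inv_mul_cancel _)⟩
    simpa using mul_mem hyQ (hN' this)

end Cfsg.Agent.S4057
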