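import Cfsg.Statements.S4058
import Mathlib
import Cfsg.Agent.Lib.FrobeniusSchur.Basic
import Cfsg.Agent.Lib.Characters.Integrality
import Cfsg.Agent.Lib.Coprime.PGroup
import Cfsg.Agent.Solvable.Basics

set_option autoImplicit false
open Cfsg
open scoped ComplexConjugate

namespace Cfsg.Agent.S4058

variable {G : Type*} [Group G] [Finite G]

/-- The linear characters with trivial square. -/
noncomputable def signs (G : Type*) [Group G] : Subgroup (G →* ℂˣ) := (powMonoidHom 2).ker

theorem sign_sq (l : ↥(signs G)) (g : G) : ((l : G →* ℂˣ) g : ℂ) * ((l : G →* ℂˣ) g : ℂ) = 1 := by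
  rw [← Units.val_mul, ← MonoidHom.mul_apply, ← pow_two, show (l : G →* ℂˣ) ^ 2 = 1 from l.2,
    MonoidHom.one_apply, Units.val_one]

theorem sign_conj (l : ↥(signs G)) (g : G) :
    conj ((l : G →* ℂˣ) g : ℂ) = ((l : G →* ℂˣ) g : ℂ) := by
  rcases mul_self_eq_one_iff.1 (sign_sq l g) with h | h <;> simp [h]

theorem isIrr_sign_mul (l : ↥(signs G)) (χ : Cfsg.IrrCharacter G) :
    Cfsg.IsIrrCharacter G (fun g => ((l : G →* ℂˣ) g : ℂ) * (χ : G → ℂ) g) := by
  haveI := Fintype.ofFinite G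
  rw [Characters.isIrrCharacter_iff_norm_one]
  refine ⟨Characters.isCharacter_mul (Characters.isCharacter_linear _) (Characters.irr_isCharacter χ), ?_⟩
  rw [← Characters.classInner_isIrr_self χ.2]
  simp only [Cfsg.classInner, map_mul, sign_conj]
  congr 1
  refine Finset.sum_congr rfl fun g _ => ?_
  rw [mul_mul_mul_comm, sign_sq, one_mul]

noncomputable instance : MulAction ↥(signs G) (Cfsg.IrrCharacter G) where
  smul l χ := ⟨_, isIrr_sign_mul l χ⟩
  one_smul χ := Subtype.ext (funext fun g => by simp [HSMul.hSMul])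
  mul_smul a b χ := Subtype.ext (funext fun g => by simp [HSMul.hSMul, mul_assoc])

theorem smul_coe (l : ↥(signs G)) (χ : Cfsg.IrrCharacter G) (g : G) :
    ((l • χ : Cfsg.IrrCharacter G) : G → ℂ) g = ((l : G →* ℂˣ) g : ℂ) * (χ : G → ℂ) g := rfl

theorem smul_one_val (l : ↥(signs G)) (χ : Cfsg.IrrCharacter G) :
    ((l • χ : Cfsg.IrrCharacter G) : G → ℂ) 1 = (χ : G → ℂ) 1 := by
  rw [smul_coe, map_one, Units.val_one, one_mul]

theorem nu_smul [Fintype G] (l : ↥(signs G)) (χ : Cfsg.IrrCharacter G) :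
    FrobeniusSchur.nu ((l • χ : Cfsg.IrrCharacter G) : G → ℂ) = FrobeniusSchur.nu (χ : G → ℂ) := by
  simp only [FrobeniusSchur.nu, smul_coe, map_mul, Units.val_mul, sign_sq, one_mul]

/-- The stabilizer of a character has at most the square of its degree many elements. -/
theorem card_stabilizer_le (χ : Cfsg.IrrCharacter G) (n : ℕ) (hn : (χ : G → ℂ) 1 = n) :
    Nat.card (MulAction.stabilizer ↥(signs G) χ) ≤ n * n := by
  classical
  haveI := Fintype.ofFinite G
  haveI := Fintype.ofFinite (Cfsg.IrrCharacter G)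
  let f : G → ℂ := fun g => (χ : G → ℂ) g * (FrobeniusSchur.conjIrr χ : G → ℂ) g
  have hf : Cfsg.IsCharacter G f :=
    Characters.isCharacter_mul (Characters.irr_isCharacter χ) (Characters.irr_isCharacter _)
  have hc : ∀ ψ : Cfsg.IrrCharacter G, ∃ m : ℕ, Cfsg.classInner f (ψ : G → ℂ) = m := fun ψ =>
    Characters.classInner_char_nat hf (Characters.irr_isCharacter ψ)
  choose m hm using hc
  have hd : ∀ ψ : Cfsg.IrrCharacter G, ∃ k : ℕ, 0 < k ∧ (ψ : G → ℂ) 1 = k := fun ψ =>
    Characters.irr_one_pos ψ.2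
  choose d hd0 hd using hd
  let j : MulAction.stabilizer ↥(signs G) χ → Cfsg.IrrCharacter G := fun l =>
    ⟨_, Characters.isIrrCharacter_linear ((l : ↥(signs G)) : G →* ℂˣ)⟩
  have hj : Function.Injective j := by
    intro a b h
    refine Subtype.ext (Subtype.ext (MonoidHom.ext fun g => Units.ext ?_))
    exact congrFun (congrArg Subtype.val h) g
  have hone : ∀ l, m (j l) = 1 := by
    intro l
    have h1 : Cfsg.classInner f (j l : G → ℂ) = 1 := by
      rw [← Characters.classInner_isIrr_self χ.2]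
      simp only [Cfsg.classInner]
      congr 1
      refine Finset.sum_congr rfl fun g _ => ?_
      have h2 : ((((l : ↥(signs G)) : G →* ℂˣ) g : ℂ)) * (χ : G → ℂ) g = (χ : G → ℂ) g := by
        rw [← smul_coe, MulAction.mem_stabilizer_iff.1 l.2]
      show (χ : G → ℂ) g * conj ((χ : G → ℂ) g) * conj ((((l : ↥(signs G)) : G →* ℂˣ) g : ℂ)) = _
      rw [sign_conj]
      linear_combination conj ((χ : G → ℂ) g) * h2
    rw [hm] at h1
    exact_mod_cast h1
  have hdone : ∀ l, d (j l) = 1 := by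
    intro l
    have h1 := hd (j l)
    simp only [j, map_one, Units.val_one] at h1
    exact_mod_cast h1.symm
  have htot : n * n = ∑ ψ : Cfsg.IrrCharacter G, m ψ * d ψ := by
    have h1 := congrFun (Characters.classFun_eq_sum (Characters.char_isClassFunction hf)) 1
    simp only [Finset.sum_apply, Pi.smul_apply, smul_eq_mul, hm, hd] at h1
    simp only [f, FrobeniusSchur.conjIrr_coe, hn, Complex.conj_natCast] at h1
    exact_mod_cast h1
  haveI := Fintype.ofFinite (MulAction.stabilizer ↥(signs G) χ)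
  rw [htot, Nat.card_eq_fintype_card, ← Finset.card_univ, Finset.card_eq_sum_ones,
    ← Finset.sum_congr rfl (fun l _ => show m (j l) * d (j l) = 1 by rw [hone, hdone]),
    ← Finset.sum_image (f := fun ψ => m ψ * d ψ) hj.injOn]
  exact Finset.sum_le_sum_of_subset (Finset.subset_univ _)

/-- Let G be a finite 2-group with #(G/Φ(G)) ≥ 2^(2k+1). Then the number of elements x of G with x² = 1 is divisible by 2^(k+1). -/
theorem result {G : Type*} [Group G] [Finite G] (hG : IsPGroup 2 G) (k : ℕ)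
    (hgen : 2 ^ (2 * k + 1) ≤ Nat.card (G ⧸ frattini G)) :
    2 ^ (k + 1) ∣ Nat.card {x : G // x ^ 2 = 1} := by
  classical
  haveI := Fintype.ofFinite G
  haveI := Fintype.ofFinite (Cfsg.IrrCharacter G)
  haveI := hG.isNilpotent
  -- the signs form a group as big as the Frattini quotient
  haveI : IsMulCommutative (G ⧸ frattini G) :=
    (Subgroup.Normal.quotient_commutative_iff_commutator_le (N := frattini G)).2
      (Coprime.commutator_le_frattini G)
  letI : CommGroup (G ⧸ frattini G) :=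
    { (inferInstance : Group (G ⧸ frattini G)) with mul_comm := IsMulCommutative.is_comm.comm }
  have hsq : ∀ φ : G ⧸ frattini G →* ℂˣ, φ.comp (QuotientGroup.mk' (frattini G)) ∈ signs G := by
    intro φ
    refine MonoidHom.ext fun g => ?_
    show (φ (QuotientGroup.mk g)) ^ 2 = 1
    rw [← map_pow, ← QuotientGroup.mk_pow,
      (QuotientGroup.eq_one_iff _).2 (Solvable.Basics.pow_mem_frattini (p := 2) hG g), map_one]
  have hE : 2 ^ (2 * k + 1) ≤ Nat.card ↥(signs G) := by
    refine hgen.trans ?_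
    rw [← Nat.card_congr (CommGroup.monoidHom_mulEquiv_of_hasEnoughRootsOfUnity (G ⧸ frattini G) ℂ).some.toEquiv]
    exact Nat.card_le_card_of_injective (fun φ => (⟨_, hsq φ⟩ : ↥(signs G))) fun a b h =>
      MonoidHom.ext fun x => by
        obtain ⟨g, rfl⟩ := QuotientGroup.mk_surjective x
        exact DFunLike.congr_fun (congrArg Subtype.val h) g
  -- every term is an integer
  have hterm : ∀ χ : Cfsg.IrrCharacter G, ∃ a : ℕ, ∃ s : ℤ,
      (χ : G → ℂ) 1 = ((2 ^ a : ℕ) : ℂ) ∧ FrobeniusSchur.nu (χ : G → ℂ) = s := by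
    intro χ
    obtain ⟨d, hd, -, hdvd⟩ := Characters.irr_degree_dvd_card χ.2
    obtain ⟨e, he⟩ := IsPGroup.iff_card.1 hG
    obtain ⟨a, -, rfl⟩ := (Nat.dvd_prime_pow Nat.prime_two).1 (he ▸ hdvd)
    rcases FrobeniusSchur.nu_trichotomy χ with h | h | h
    · exact ⟨a, 0, hd, by rw [h, Int.cast_zero]⟩
    · exact ⟨a, 1, hd, by rw [h, Int.cast_one]⟩
    · exact ⟨a, -1, hd, by rw [h, Int.cast_neg, Int.cast_one]⟩
  choose a s ha hs using hterm
  let w : Cfsg.IrrCharacter G → ℤ := fun χ => s χ * 2 ^ a χ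
  have hw : ∀ χ, (w χ : ℂ) = FrobeniusSchur.nu (χ : G → ℂ) * (χ : G → ℂ) 1 := by
    intro χ
    simp [w, hs, ha]
  have hwinv : ∀ (l : ↥(signs G)) χ, w (l • χ) = w χ := by
    intro l χ
    apply Int.cast_injective (α := ℂ)
    rw [hw, hw, nu_smul, smul_one_val]
  have hcount : ((Nat.card {x : G // x ^ 2 = 1} : ℕ) : ℤ) = ∑ χ, w χ := by
    have h := FrobeniusSchur.card_sq_eq_one (G := G)
    simp only [← hw, ← sq, ← Int.cast_sum] at h
    exact_mod_cast h
  rw [← Int.natCast_dvd_natCast, hcount,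
    ← Finset.sum_fiberwise Finset.univ (Quotient.mk (MulAction.orbitRel ↥(signs G) (Cfsg.IrrCharacter G))) w]
  refine Finset.dvd_sum fun q _ => ?_
  obtain ⟨χ, rfl⟩ := Quotient.exists_rep q
  have horb : ∀ ψ, Quotient.mk (MulAction.orbitRel ↥(signs G) (Cfsg.IrrCharacter G)) ψ =
      Quotient.mk _ χ ↔ ψ ∈ MulAction.orbit ↥(signs G) χ := fun ψ => Quotient.eq
  rw [Finset.sum_congr rfl (fun ψ hψ => (show w ψ = w χ by
    obtain ⟨l, rfl⟩ := (horb ψ).1 (Finset.mem_filter.1 hψ).2
    exact hwinv l χ)), Finset.sum_const, nsmul_eq_mul]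
  have hcard : (Finset.univ.filter fun ψ =>
      Quotient.mk (MulAction.orbitRel ↥(signs G) (Cfsg.IrrCharacter G)) ψ = Quotient.mk _ χ).card =
      Nat.card (MulAction.orbit ↥(signs G) χ) := by
    rw [← Fintype.card_subtype, ← Nat.card_eq_fintype_card]
    exact Nat.card_congr (Equiv.subtypeEquivRight horb)
  rw [hcard]
  haveI : Finite (G →* ℂˣ) := Finite.of_injective
    (fun f : G →* ℂˣ => (⟨_, Characters.isIrrCharacter_linear f⟩ : Cfsg.IrrCharacter G))
    fun f g h => MonoidHom.ext fun x => Units.ext (congrFun (congrArg Subtype.val h) x)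
  have hos : Nat.card (MulAction.orbit ↥(signs G) χ) *
      Nat.card (MulAction.stabilizer ↥(signs G) χ) = Nat.card ↥(signs G) := by
    haveI : Fintype ↥(signs G) := Fintype.ofFinite _
    rw [Nat.card_eq_fintype_card, Nat.card_eq_fintype_card, Nat.card_eq_fintype_card]
    exact MulAction.card_orbit_mul_card_stabilizer_eq_card_group _ χ
  have hsig : IsPGroup 2 ↥(signs G) := fun l => ⟨1, by
    refine Subtype.ext ?_
    rw [pow_one, Subgroup.coe_pow, Subgroup.coe_one]
    exact l.2⟩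
  obtain ⟨e, he⟩ := IsPGroup.iff_card.1 hsig
  obtain ⟨j, -, hj⟩ := (Nat.dvd_prime_pow Nat.prime_two).1 (he ▸ Dvd.intro _ hos)
  have hst := card_stabilizer_le χ _ (ha χ)
  have hexp : k + 1 ≤ j + a χ := by
    have h1 : 2 ^ (2 * k + 1) ≤ 2 ^ (j + (a χ + a χ)) := by
      refine hE.trans ?_
      rw [← hos, hj, pow_add, pow_add]
      exact Nat.mul_le_mul_left _ hst
    have h2 := (Nat.pow_le_pow_iff_right (by norm_num)).1 h1
    omega
  have hdvd : ((2 ^ (k + 1) : ℕ) : ℤ) ∣ ((2 ^ (j + a χ) : ℕ) : ℤ) :=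
    Int.natCast_dvd_natCast.2 (pow_dvd_pow 2 hexp)
  refine hdvd.trans ⟨s χ, ?_⟩
  rw [hj]
  simp only [w]
  push_cast
  ring

end Cfsg.Agent.S4058
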