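import Cfsg.Statements.S4059
import Cfsg.Agent.GStructB.Real

set_option autoImplicit false
open Cfsg

namespace Cfsg.Agent.S4059
open scoped commutatorElement

/-- Let G be a finite group in which every element is conjugate to its inverse. Then: every non-identity element commuting with all elements of some Sylow 2-subgroup is an involution; the centre of G is an elementary abelian 2-group; the commutator quotient G/G' is an elementary abelian 2-group; and G is generated by its 2-elements. -/
theorem result {G : Type*} [Group G] [Finite G] (hamb : ∀ x : G, IsConj x x⁻¹) :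
    (∀ (S : Sylow 2 G) (x : G), x ∈ Subgroup.centralizer ((S : Subgroup G) : Set G) → x ≠ 1 → orderOf x = 2) ∧
    (∀ z : G, z ∈ Subgroup.center G → z ^ 2 = 1) ∧
    (∀ x : G, x ^ 2 ∈ commutator G) ∧
    Subgroup.closure {x : G | ∃ k : ℕ, orderOf x = 2 ^ k} = ⊤ := by
  refine ⟨fun S x hx hx1 => orderOf_eq_prime (GStructB.Real.sq_eq_one S hx (hamb x)) hx1, ?_, ?_, ?_⟩
  · intro z hz
    obtain ⟨g, hg⟩ := isConj_iff.mp (hamb z)
    rw [Subgroup.mem_center_iff.mp hz g, mul_inv_cancel_right] at hg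
    rw [pow_two]
    nth_rewrite 2 [hg]
    exact mul_inv_cancel z
  · intro x
    obtain ⟨g, hg⟩ := isConj_iff.mp (hamb x)
    have h1 : ⁅x, g⁆ = x ^ 2 := by
      rw [commutatorElement_def, show x * g * x⁻¹ * g⁻¹ = x * (g * x * g⁻¹)⁻¹ by group, hg, inv_inv,
        pow_two]
    rw [← h1, _root_.commutator_def]
    exact Subgroup.commutator_mem_commutator (Subgroup.mem_top _) (Subgroup.mem_top _)
  · set T := Subgroup.closure {x : G | ∃ k : ℕ, orderOf x = 2 ^ k} with hT
    have : T.Normal := ⟨fun a ha g => by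
      have h1 : T.map (MulAut.conj g).toMonoidHom ≤ T := by
        rw [hT, MonoidHom.map_closure, Subgroup.closure_le]
        rintro _ ⟨y, ⟨k, hk⟩, rfl⟩
        exact Subgroup.subset_closure ⟨k, by
          rw [orderOf_injective _ (MulAut.conj g).injective, hk]⟩
      exact h1 ⟨a, ha, rfl⟩⟩
    have h2 : ∀ g : G, ∃ s : ℕ, Odd s ∧ g ^ s ∈ T := by
      intro g
      have : Fact (Nat.Prime 2) := ⟨Nat.prime_two⟩
      obtain ⟨a, s, -, hs, hsp⟩ := GStructB.PElements.exists_split 2 g
      exact ⟨s, Nat.odd_iff.mpr (by omega), Subgroup.subset_closure ⟨a, hsp⟩⟩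
    have hodd : ∀ q : G ⧸ T, Odd (orderOf q) := by
      intro q
      obtain ⟨g, rfl⟩ := QuotientGroup.mk'_surjective T q
      obtain ⟨s, hs, hgs⟩ := h2 g
      refine hs.of_dvd_nat (orderOf_dvd_of_pow_eq_one ?_)
      rw [← map_pow]; exact (QuotientGroup.eq_one_iff _).mpr hgs
    rw [eq_top_iff]
    intro x _
    obtain ⟨g, hg⟩ := isConj_iff.mp (hamb x)
    set π := QuotientGroup.mk' T
    have hqg : π g * π x * (π g)⁻¹ = (π x)⁻¹ := by rw [← map_inv, ← map_mul, ← map_mul, hg, map_inv]
    obtain ⟨m, hm⟩ := hodd (π g)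
    have key : ∀ k : ℕ, (π g) ^ (2 * k + 1) * π x * ((π g) ^ (2 * k + 1))⁻¹ = (π x)⁻¹ := by
      intro k
      induction k with
      | zero => simpa using hqg
      | succ k ih =>
        calc (π g) ^ (2 * (k + 1) + 1) * π x * ((π g) ^ (2 * (k + 1) + 1))⁻¹
            = π g * (π g * ((π g) ^ (2 * k + 1) * π x * ((π g) ^ (2 * k + 1))⁻¹) * (π g)⁻¹) *
              (π g)⁻¹ := by group
          _ = (π x)⁻¹ := by rw [ih, ← conj_inv, hqg, inv_inv, hqg]
    have h3 := key m
    rw [← hm, pow_orderOf_eq_one, one_mul, inv_one, mul_one] at h3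
    obtain ⟨n, hn⟩ := hodd (π x)
    have h4 : (π x) ^ 2 = 1 := by rw [pow_two]; nth_rewrite 2 [h3]; exact mul_inv_cancel _
    have h5 : π x = 1 := by
      have := pow_orderOf_eq_one (π x)
      rwa [hn, pow_succ, pow_mul, h4, one_pow, one_mul] at this
    exact (QuotientGroup.eq_one_iff x).mp h5

end Cfsg.Agent.S4059
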