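import Cfsg.Statements.S4060
import Mathlib
import Cfsg.Agent.Lib.Hall.MinimalNormal
import Cfsg.Agent.GStructB.Real

set_option autoImplicit false
open Cfsg

namespace Cfsg.Agent.S4060

theorem aux : ∀ (n : ℕ) {G : Type*} [Group G] [Finite G] [Group.IsSolvable G]
    (S : Sylow 2 G) (x : G), Nat.card G ≤ n → x ≠ 1 → Odd (orderOf x) →
    x ∈ Subgroup.normalizer ((S : Subgroup G) : Set G) → ¬ IsConj x x⁻¹ := by
  intro n
  induction n with
  | zero => intro G _ _ _ S x h; exact absurd h (by simp [Nat.card_pos.ne'])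
  | succ n ih =>
    intro G _ _ _ S x hG hx hodd hnorm hreal
    have : Fact (Nat.Prime 2) := ⟨Nat.prime_two⟩
    have hxG : Nontrivial G := ⟨⟨x, 1, hx⟩⟩
    obtain ⟨M, hMn, -, hM, hmin⟩ := Hall.exists_minimal_normal (⊤ : Subgroup G) top_ne_bot
    obtain ⟨q, hq, -, hMq, -⟩ := Hall.minimal_normal_isElementaryAbelian hM hmin
    have : Fact q.Prime := ⟨hq⟩
    let π := QuotientGroup.mk' M
    have hlt : Nat.card (G ⧸ M) ≤ n := by
      have h1 := M.card_eq_card_quotient_mul_card_subgroup
      have h2 : 1 < Nat.card M := Subgroup.one_lt_card_iff_ne_bot _ |>.mpr hM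
      have h3 : 0 < Nat.card (G ⧸ M) := Nat.card_pos
      nlinarith
    have hxM : x ∈ M := by
      by_contra hxM
      refine ih (S.mapSurjective (QuotientGroup.mk'_surjective M)) (π x) hlt
        (fun h => hxM ((QuotientGroup.eq_one_iff x).mp h))
        (hodd.of_dvd_nat (orderOf_map_dvd π x)) ?_ ?_
      · rw [Sylow.coe_mapSurjective]
        exact Subgroup.le_normalizer_map π (Subgroup.mem_map_of_mem π hnorm)
      · rw [← map_inv]
        exact π.map_isConj hreal
    rcases eq_or_ne q 2 with rfl | hq2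
    · obtain ⟨k, hk⟩ := GStructB.PElements.exists_orderOf_eq hMq hxM
      apply hx
      rw [← orderOf_eq_one_iff, hk]
      rw [hk] at hodd
      rcases k with _ | k
      · rfl
      · exact absurd hodd (by simp [Nat.pow_succ])
    · have hxC : x ∈ Subgroup.centralizer ((S : Subgroup G) : Set G) := by
        rw [Subgroup.mem_centralizer_iff]
        intro s hs
        have h1 : x * s * x⁻¹ * s⁻¹ ∈ M := by
          rw [show x * s * x⁻¹ * s⁻¹ = x * (s * x⁻¹ * s⁻¹) by group]
          exact mul_mem hxM (hMn.conj_mem _ (inv_mem hxM) s)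
        have h2 : x * s * x⁻¹ * s⁻¹ ∈ (S : Subgroup G) :=
          mul_mem ((Subgroup.mem_normalizer_iff.mp hnorm s).mp hs) (inv_mem hs)
        obtain ⟨a, ha⟩ := GStructB.PElements.exists_orderOf_eq hMq h1
        obtain ⟨b, hb⟩ := GStructB.PElements.exists_orderOf_eq S.2 h2
        have h3 : orderOf (x * s * x⁻¹ * s⁻¹) = 1 :=
          Nat.eq_one_of_dvd_coprimes (Nat.coprime_pow_primes a b hq Nat.prime_two hq2)
            (dvd_of_eq ha) (dvd_of_eq hb)
        rw [orderOf_eq_one_iff] at h3
        exact (mul_inv_eq_iff_eq_mul.mp (by rwa [mul_inv_eq_one] at h3)).symm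
      have h2 := GStructB.Real.sq_eq_one S hxC hreal
      apply hx
      rw [← orderOf_eq_one_iff]
      exact Nat.eq_one_of_dvd_coprimes (Nat.coprime_two_left.mpr hodd)
        (orderOf_dvd_of_pow_eq_one h2) dvd_rfl


/-- Let G be a finite solvable group with Sylow 2-subgroup S, and let x ≠ 1 be an element of odd order normalizing S. Then x is not conjugate to its inverse in G. -/
theorem result {G : Type*} [Group G] [Finite G] [Group.IsSolvable G]
    (S : Sylow 2 G) (x : G) (hx : x ≠ 1) (hodd : Odd (orderOf x))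
    (hnorm : x ∈ Subgroup.normalizer ((S : Subgroup G) : Set G)) : ¬ IsConj x x⁻¹ := by
  exact aux (Nat.card G) S x le_rfl hx hodd hnorm

end Cfsg.Agent.S4060
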