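import Cfsg.Statements.S4061
import Mathlib
import Cfsg.Agent.GStructB.OneInvolution
import Cfsg.Agent.GStructB.AutomizerRank
import Cfsg.Agent.Lib.PGroups.UniqueSubgroup

set_option autoImplicit false
open Cfsg

namespace Cfsg.Agent.S4061

/-- A cyclic Sylow 2-subgroup of an ambivalent group has order 2. -/
theorem cyclic_case {G : Type*} [Group G] [Finite G] (hamb : ∀ x : G, IsConj x x⁻¹)
    (heven : 2 ∣ Nat.card G) (S : Sylow 2 G) [hc : IsCyclic (S : Subgroup G)] : Nat.card S = 2 := by
  classical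
  have : Fact (Nat.Prime 2) := ⟨Nat.prime_two⟩
  obtain ⟨g, hg⟩ := hc.exists_generator
  have hrank : Group.rank (S : Subgroup G) ≤ 1 :=
    calc Group.rank (S : Subgroup G) ≤ ({g} : Finset (S : Subgroup G)).card :=
          Group.rank_le (by rw [Finset.coe_singleton, ← Subgroup.zpowers_eq_closure,
            Subgroup.eq_top_iff']; exact hg)
      _ = 1 := Finset.card_singleton g
  have hab : IsMulCommutative (S : Subgroup G) := ⟨⟨fun a b => IsCyclic.commGroup.mul_comm a b⟩⟩
  obtain ⟨N, hN, hc'⟩ := (Transfer.NormalPComplement.hasNormalPComplement_iff_sylow S).mp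
    (GStructB.AutomizerRank.hasNormalPComplement S hab hrank fun r hr _ _ i hi hi1 hd => by
      rw [show i = 1 by omega] at hd
      exact hr.ne_one (Nat.dvd_one.mp (by simpa using hd)))
  have hdis : ∀ z : G, z ∈ N → z ∈ S → z = 1 := fun z h1 h2 =>
    Subgroup.mem_bot.mp (hc'.disjoint.le_bot ⟨h1, h2⟩)
  -- the generator is real modulo the complement
  obtain ⟨u, hu⟩ := isConj_iff.mp (hamb (g : G))
  obtain ⟨n, hn, s, hs, rfl⟩ := Subgroup.mem_sup_of_normal_left.mp
    (show u ∈ N ⊔ (S : Subgroup G) by rw [hc'.sup_eq_top]; exact Subgroup.mem_top u)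
  have hsg : s * (g : G) * s⁻¹ = g := by
    rw [show s * (g : G) = g * s from congrArg Subtype.val (IsCyclic.commGroup.mul_comm ⟨s, hs⟩ g),
      mul_inv_cancel_right]
  have h1 : (g : G) * g = 1 := by
    refine hdis _ ?_ (mul_mem g.2 g.2)
    have h2 : n * (g : G) * n⁻¹ = (g : G)⁻¹ := by
      rw [← hu]
      calc n * (g : G) * n⁻¹ = n * (s * g * s⁻¹) * n⁻¹ := by rw [hsg]
        _ = _ := by group
    have h3 : (g : G) * (n * (g : G)⁻¹ * n⁻¹) = (g : G) * g := by
      rw [show n * (g : G)⁻¹ * n⁻¹ = (n * g * n⁻¹)⁻¹ by group, h2, inv_inv]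
    rw [← h3, show (g : G) * (n * (g : G)⁻¹ * n⁻¹) = (g * n * (g : G)⁻¹) * n⁻¹ by group]
    exact mul_mem (hN.conj_mem n hn _) (inv_mem hn)
  have hcard : Nat.card (S : Subgroup G) ∣ 2 := by
    rw [← orderOf_eq_card_of_forall_mem_zpowers hg]
    exact orderOf_dvd_of_pow_eq_one (Subtype.ext (by simpa [pow_two] using h1))
  rcases (Nat.dvd_prime Nat.prime_two).mp hcard with h | h
  · exact absurd (Subgroup.eq_bot_of_card_eq _ h) (S.ne_bot_of_dvd_card heven)
  · exact h

/-- The case of a Sylow 2-subgroup of order 2. -/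
theorem order_two {G : Type*} [Group G] [Finite G] (hamb : ∀ x : G, IsConj x x⁻¹) (S : Sylow 2 G)
    (hS2 : Nat.card S = 2) : (S : Subgroup G).IsComplement' (Cfsg.oddCore G) ∧
      Cfsg.oddCore G = commutator G ∧
      ∀ t : G, t ∈ S → t ≠ 1 → ∀ x : G, x ∈ Cfsg.oddCore G → t * x * t⁻¹ = x⁻¹ := by
  classical
  have : Fact (Nat.Prime 2) := ⟨Nat.prime_two⟩
  have hS2' : Nat.card (S : Subgroup G) = 2 := hS2
  have := isCyclic_of_prime_card hS2'
  have hrank : Group.rank (S : Subgroup G) ≤ 1 := by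
    obtain ⟨g, hg⟩ := IsCyclic.exists_generator (α := (S : Subgroup G))
    calc Group.rank (S : Subgroup G) ≤ ({g} : Finset (S : Subgroup G)).card :=
          Group.rank_le (by rw [Finset.coe_singleton, ← Subgroup.zpowers_eq_closure,
            Subgroup.eq_top_iff']; exact hg)
      _ = 1 := Finset.card_singleton g
  have hab : IsMulCommutative (S : Subgroup G) := ⟨⟨fun a b => IsCyclic.commGroup.mul_comm a b⟩⟩
  obtain ⟨N, hN, hc⟩ := (Transfer.NormalPComplement.hasNormalPComplement_iff_sylow S).mp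
    (GStructB.AutomizerRank.hasNormalPComplement S hab hrank fun r hr _ _ i hi hi1 hd => by
      rw [show i = 1 by omega] at hd
      exact hr.ne_one (Nat.dvd_one.mp (by simpa using hd)))
  set O := Cfsg.oddCore G
  have hcard := hc.card_mul
  rw [hS2'] at hcard
  have hNidx : N.index = 2 := by rw [hc.symm.index_eq_card, hS2']
  have hNodd : Odd (Nat.card N) := by
    have h1 := S.not_dvd_index
    rw [hc.index_eq_card] at h1
    exact Nat.odd_iff.mpr (by omega)
  have hNO : N = O := by
    refine Subgroup.eq_of_le_of_card_ge (Cores.le_oddCore hNodd) (Nat.le_of_dvd Nat.card_pos ?_)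
    have h2 : Nat.card O ∣ Nat.card N * 2 := hcard.symm ▸ O.card_subgroup_dvd_card
    exact (Nat.coprime_two_right.mpr Cores.oddCore_odd).dvd_of_dvd_mul_right h2
  rw [hNO] at hc hNidx hN hNodd
  refine ⟨hc.symm, le_antisymm ?_ ?_, ?_⟩
  · -- the odd core lies in the derived subgroup
    intro x hx
    rw [← QuotientGroup.eq_one_iff (N := commutator G)]
    set q : G ⧸ commutator G := (x : G ⧸ commutator G)
    obtain ⟨u, hu⟩ := isConj_iff.mp (hamb x)
    have hq : q ^ 2 = 1 := by
      have h1 : (((u * x * u⁻¹ : G)) : G ⧸ commutator G) = q := by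
        show Abelianization.of (u * x * u⁻¹) = Abelianization.of x
        rw [map_mul, map_mul, map_inv, mul_comm, inv_mul_cancel_left]
      rw [hu, QuotientGroup.mk_inv] at h1
      rw [pow_two]
      nth_rewrite 2 [← h1]
      exact mul_inv_cancel q
    exact orderOf_eq_one_iff.mp (Nat.eq_one_of_dvd_coprimes (Nat.coprime_two_left.mpr hNodd)
      (orderOf_dvd_of_pow_eq_one hq)
      ((orderOf_map_dvd (QuotientGroup.mk' (commutator G)) x).trans (O.orderOf_dvd_natCard hx)))
  · have : Fact (Nat.Prime 2) := ⟨Nat.prime_two⟩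
    have : IsCyclic (G ⧸ O) := isCyclic_of_prime_card (p := 2) (by rw [← Subgroup.index_eq_card, hNidx])
    rw [← Subgroup.Normal.quotient_commutative_iff_commutator_le]
    first
      | exact ⟨fun a b => IsCyclic.commGroup.mul_comm a b⟩
      | exact ⟨⟨fun a b => IsCyclic.commGroup.mul_comm a b⟩⟩
  · intro t ht ht1 x hx
    have ht2 : t * t = 1 := by
      have h1 : orderOf t ∣ 2 := hS2' ▸ (S : Subgroup G).orderOf_dvd_natCard ht
      rw [← pow_two]
      exact orderOf_dvd_iff_pow_eq_one.mp h1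
    have hfix : ∀ z ∈ O, t * z = z * t → z = 1 := by
      intro z hz hzt
      have hzodd : Odd (orderOf z) := hNodd.of_dvd_nat (O.orderOf_dvd_natCard hz)
      obtain ⟨u, hu⟩ := isConj_iff.mp (hamb z)
      obtain ⟨n, hn, s, hs, rfl⟩ := Subgroup.mem_sup_of_normal_left.mp
        (show u ∈ O ⊔ (S : Subgroup G) by rw [hc.sup_eq_top]; exact Subgroup.mem_top u)
      have hst : s = 1 ∨ s = t := by
        have := Nat.card_eq_two_iff' (⟨1, one_mem _⟩ : (S : Subgroup G)) |>.mp hS2'
        obtain ⟨y, -, hy⟩ := this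
        by_cases hs1 : s = 1
        · exact Or.inl hs1
        · have e1 := hy ⟨s, hs⟩ (fun h => hs1 (congrArg Subtype.val h))
          have e2 := hy ⟨t, ht⟩ (fun h => ht1 (congrArg Subtype.val h))
          exact Or.inr (congrArg Subtype.val (e1.trans e2.symm))
      refine GStructB.OneInvolution.eq_one_of_odd_real (hNodd.of_dvd_nat (O.orderOf_dvd_natCard hn)) hzodd ?_
      rw [← hu]
      rcases hst with rfl | rfl
      · group
      · calc n * z * n⁻¹ = n * (z * s) * s⁻¹ * n⁻¹ := by group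
          _ = n * (s * z) * s⁻¹ * n⁻¹ := by rw [hzt]
          _ = _ := by group
    let f : O → O := fun r => ⟨(r : G)⁻¹ * (t * r * t⁻¹), mul_mem (inv_mem r.2) (hN.conj_mem _ r.2 t)⟩
    have hf : Function.Injective f := by
      intro a b hab'
      have e : (a : G)⁻¹ * (t * a * t⁻¹) = (b : G)⁻¹ * (t * b * t⁻¹) := congrArg Subtype.val hab'
      have h1 : t * ((b : G) * (a : G)⁻¹)⁻¹ * t⁻¹ = ((b : G) * (a : G)⁻¹)⁻¹ := by
        calc t * ((b : G) * (a : G)⁻¹)⁻¹ * t⁻¹
            = (a : G) * ((a : G)⁻¹ * (t * a * t⁻¹)) * (t * b * t⁻¹)⁻¹ := by group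
          _ = ((b : G) * (a : G)⁻¹)⁻¹ := by rw [e]; group
      have h2 := hfix _ (inv_mem (mul_mem b.2 (inv_mem a.2))) (mul_inv_eq_iff_eq_mul.mp h1)
      rw [inv_eq_one, mul_inv_eq_one] at h2
      exact Subtype.ext h2.symm
    obtain ⟨r, hr⟩ := (Finite.injective_iff_surjective.mp hf) ⟨x, hx⟩
    have hr' : (r : G)⁻¹ * (t * r * t⁻¹) = x := congrArg Subtype.val hr
    rw [← hr']
    calc t * ((r : G)⁻¹ * (t * r * t⁻¹)) * t⁻¹
        = (t * (r : G) * t⁻¹)⁻¹ * ((t * t) * r * (t * t)⁻¹) := by group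
      _ = _ := by rw [ht2]; group


/-- Let G be a finite solvable group of even order in which every element is conjugate to its inverse and all involutions are conjugate. Then a Sylow 2-subgroup S of G has order 2 or is a generalized quaternion group (of order at least 8). Moreover, if S has order 2, then G is the semidirect product of its largest normal subgroup of odd order O(G) by S, O(G) equals the derived subgroup of G, and the involution of S inverts every element of O(G). -/
theorem result {G : Type*} [Group G] [Finite G] [Group.IsSolvable G]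
    (hamb : ∀ x : G, IsConj x x⁻¹) (heven : 2 ∣ Nat.card G) (hone : ∀ s t : G, orderOf s = 2 → orderOf t = 2 → IsConj s t) (S : Sylow 2 G) :
    (Nat.card S = 2 ∨ ∃ n : ℕ, Nonempty ((S : Subgroup G) ≃* QuaternionGroup (2 ^ (n + 1)))) ∧
    (Nat.card S = 2 → (S : Subgroup G).IsComplement' (Cfsg.oddCore G) ∧ Cfsg.oddCore G = commutator G ∧
        ∀ t : G, t ∈ S → t ≠ 1 → ∀ x : G, x ∈ Cfsg.oddCore G → t * x * t⁻¹ = x⁻¹) := by
  classical
  have : Fact (Nat.Prime 2) := ⟨Nat.prime_two⟩
  have huniqS : ∀ s t : G, s ∈ S → t ∈ S → orderOf s = 2 → orderOf t = 2 → s = t := by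
    intro s t hsS htS hs ht
    have key : ∀ z : G, z ∈ S → z ∈ Cfsg.oddCore G → z = 1 := by
      intro z hzS hzO
      obtain ⟨k, hk⟩ := GStructB.PElements.exists_orderOf_eq S.2 hzS
      exact orderOf_eq_one_iff.mp (Nat.eq_one_of_dvd_coprimes
        ((Nat.coprime_two_left.mpr Cores.oddCore_odd).pow_left k) (dvd_of_eq hk)
        ((Cfsg.oddCore G).orderOf_dvd_natCard hzO))
    have himg : ∀ z : G, z ∈ S → orderOf z = 2 → orderOf (QuotientGroup.mk' (Cfsg.oddCore G) z) = 2 := by
      intro z hzS hz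
      refine orderOf_eq_prime ?_ fun h => Involutions.Basic.ne_one hz
        (key z hzS ((QuotientGroup.eq_one_iff z).mp h))
      rw [← map_pow, orderOf_dvd_iff_pow_eq_one.mp (dvd_of_eq hz), map_one]
    have h1 := GStructB.OneInvolution.involution_unique_mod_oddCore hamb hone _ _
      (himg s hsS hs) (himg t htS ht)
    exact inv_mul_eq_one.mp (key _ (mul_mem (inv_mem hsS) htS) (QuotientGroup.eq.mp h1))
  have hu : ∀ H K : Subgroup (S : Subgroup G), Nat.card H = 2 → Nat.card K = 2 → H = K := by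
    intro H K hH hK
    have := isCyclic_of_prime_card hH
    obtain ⟨h, hh⟩ := IsCyclic.exists_generator (α := H)
    have hho : orderOf (h : (S : Subgroup G)) = 2 := by
      rw [Subgroup.orderOf_coe, orderOf_eq_card_of_forall_mem_zpowers hh, hH]
    have := isCyclic_of_prime_card hK
    obtain ⟨k, hk⟩ := IsCyclic.exists_generator (α := K)
    have hko : orderOf (k : (S : Subgroup G)) = 2 := by
      rw [Subgroup.orderOf_coe, orderOf_eq_card_of_forall_mem_zpowers hk, hK]
    have he : (h : (S : Subgroup G)) = k := Subtype.ext (huniqS _ _ h.1.2 k.1.2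
      (by rw [Subgroup.orderOf_coe]; exact hho) (by rw [Subgroup.orderOf_coe]; exact hko))
    have e1 : Subgroup.zpowers (h : (S : Subgroup G)) = H :=
      Subgroup.eq_of_le_of_card_ge (Subgroup.zpowers_le.mpr h.2) (by rw [Nat.card_zpowers, hho, hH])
    have e2 : Subgroup.zpowers (k : (S : Subgroup G)) = K :=
      Subgroup.eq_of_le_of_card_ge (Subgroup.zpowers_le.mpr k.2) (by rw [Nat.card_zpowers, hko, hK])
    rw [← e1, ← e2, he]
  have hcyc : IsCyclic (S : Subgroup G) → Nat.card S = 2 := fun hc => cyclic_case hamb heven S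
  have hfirst : Nat.card S = 2 ∨ ∃ n : ℕ, Nonempty ((S : Subgroup G) ≃* QuaternionGroup (2 ^ (n + 1))) := by
    rcases PGroups.UniqueSubgroup.isCyclic_or_quaternion S.2 hu with h | ⟨-, n, ⟨e⟩⟩
    · exact Or.inl (hcyc h)
    · rcases n with _ | n
      · refine Or.inl (hcyc ?_)
        refine isCyclic_of_orderOf_eq_card (e.symm (QuaternionGroup.xa 0)) ?_
        rw [MulEquiv.orderOf_eq, QuaternionGroup.orderOf_xa, Nat.card_congr e.toEquiv,
          Nat.card_eq_fintype_card, QuaternionGroup.card]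
        norm_num
      · exact Or.inr ⟨n, ⟨e⟩⟩
  exact ⟨hfirst, order_two hamb S⟩

end Cfsg.Agent.S4061
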