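import Cfsg.Statements.S4062
import Mathlib
import Cfsg.Agent.S4061
import Cfsg.Agent.Solvable.Fitting

set_option autoImplicit false
open Cfsg

namespace Cfsg.Agent.S4062

theorem parity : ∀ w : ZMod 2, (0 - w ≠ 1 + w) ∧ (0 + 0 - w ≠ 0 + w - 1) := by decide

/-- The quaternion case does not occur. -/
theorem quaternion_impossible {G : Type*} [Group G] [Finite G] [Group.IsSolvable G]
    (h : ∀ x y : G, orderOf x = orderOf y → IsConj x y) (S : Sylow 2 G) (n : ℕ)
    (e : (S : Subgroup G) ≃* QuaternionGroup (2 ^ (n + 1))) : False := by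
  classical
  have : Fact (Nat.Prime 2) := ⟨Nat.prime_two⟩
  set O := Cfsg.oddCore G
  set π := QuotientGroup.mk' O with hπ
  have hamb : ∀ x : G ⧸ O, IsConj x x⁻¹ := fun x => by
    obtain ⟨y, rfl⟩ := QuotientGroup.mk'_surjective O x
    rw [← map_inv]; exact π.map_isConj (h y y⁻¹ (orderOf_inv _).symm)
  -- elements of order 4 of the quotient are conjugate
  have hlift : ∀ s : G ⧸ O, orderOf s = 4 → ∃ x : G, orderOf x = 4 ∧ π x = s := by
    intro s hs
    obtain ⟨y, rfl⟩ := QuotientGroup.mk'_surjective O s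
    obtain ⟨a, l, ha, hl, hyl⟩ := GStructB.PElements.exists_split 2 y
    have hodd : l % 2 = 1 := Nat.two_dvd_ne_zero.mp hl
    have h4 : (π y) ^ (l * l) = π y := by
      rw [← pow_mod_orderOf, hs]
      have : l * l % 4 = 1 := by
        rw [Nat.mul_mod]
        rcases (show l % 4 = 1 ∨ l % 4 = 3 by omega) with h | h <;> rw [h]
      rw [this, pow_one]
    have h5 : orderOf (y ^ (l * l)) = orderOf (y ^ l) := by
      rw [pow_mul]
      refine Nat.Coprime.orderOf_pow ?_
      rw [hyl]
      exact (Nat.prime_two.coprime_iff_not_dvd.mpr hl).pow_left a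
    refine ⟨y ^ (l * l), ?_, by rw [map_pow, h4]⟩
    have h6 : 4 ∣ orderOf (y ^ (l * l)) := by
      rw [← hs, ← h4, ← map_pow]
      exact orderOf_map_dvd π _
    have h7 : orderOf ((y ^ (l * l)) ^ 4) = 1 := by
      refine Nat.eq_one_of_dvd_coprimes (Nat.Coprime.pow_left a (Nat.coprime_two_left.mpr Cores.oddCore_odd))
        ((orderOf_pow_dvd 4).trans (dvd_of_eq (h5.trans hyl))) (O.orderOf_dvd_natCard ?_)
      refine (QuotientGroup.eq_one_iff _).mp ?_
      show π ((y ^ (l * l)) ^ 4) = 1
      rw [map_pow, map_pow, h4]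
      exact orderOf_dvd_iff_pow_eq_one.mp (dvd_of_eq hs)
    exact Nat.dvd_antisymm (orderOf_dvd_of_pow_eq_one (orderOf_eq_one_iff.mp h7)) h6
  have hconj4 : ∀ s t : G ⧸ O, orderOf s = 4 → orderOf t = 4 → IsConj s t := by
    intro s t hs ht
    obtain ⟨x, hx, rfl⟩ := hlift s hs
    obtain ⟨y, hy, rfl⟩ := hlift t ht
    exact π.map_isConj (h x y (hx.trans hy.symm))
  -- the image of `S`
  let j : (S : Subgroup G) →* G ⧸ O := π.comp (S : Subgroup G).subtype
  have hj : Function.Injective j := by
    rw [injective_iff_map_eq_one]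
    intro z hz
    have hzO : (z : G) ∈ O := (QuotientGroup.eq_one_iff _).mp hz
    obtain ⟨k, hk⟩ := GStructB.PElements.exists_orderOf_eq S.2 z.2
    exact Subtype.ext (orderOf_eq_one_iff.mp (Nat.eq_one_of_dvd_coprimes
      ((Nat.coprime_two_left.mpr Cores.oddCore_odd).pow_left k) (dvd_of_eq hk) (O.orderOf_dvd_natCard hzO)))
  let x : ZMod (2 * 2 ^ (n + 1)) → G ⧸ O := fun i => j (e.symm (QuaternionGroup.xa i))
  have hx : ∀ i, orderOf (x i) = 4 := fun i => by
    show orderOf (j _) = 4
    rw [orderOf_injective j hj, MulEquiv.orderOf_eq, QuaternionGroup.orderOf_xa]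
  -- the 2-core contains an element of order 4
  set E := Cfsg.pCore 2 (G ⧸ O)
  have hE : IsPGroup 2 E := PLocal.Cores.isPGroup_pCore
  have hCE : Subgroup.centralizer (E : Set (G ⧸ O)) ≤ E :=
    Cfsg.Agent.Solvable.Fitting.centralizer_pCore_le 2 (PLocal.Cores.pPrimeCore_quotient_pPrimeCore)
  have hxE : ∀ i, x i ∈ E := by
    have hex : ∃ y ∈ E, orderOf y = 4 := by
      by_contra! hno
      have hsq : ∀ y ∈ E, y ^ 2 = 1 := by
        intro y hy
        obtain ⟨k, hk⟩ := GStructB.PElements.exists_orderOf_eq hE hy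
        rcases k with _ | _ | k
        · rw [pow_zero, orderOf_eq_one_iff] at hk; rw [hk, one_pow]
        · exact orderOf_dvd_iff_pow_eq_one.mp (dvd_of_eq (by simpa using hk))
        · exfalso
          refine hno (y ^ 2 ^ k) (pow_mem hy _) ?_
          rw [orderOf_pow, hk, Nat.gcd_eq_right (pow_dvd_pow 2 (by omega)),
            Nat.pow_div (by omega) two_pos, show k + 1 + 1 - k = 2 by omega]
          rfl
      have huniq := GStructB.OneInvolution.involution_unique_mod_oddCore (G := G)
        (fun y => h y y⁻¹ (orderOf_inv _).symm) (fun s t hs ht => h s t (hs.trans ht.symm))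
      have hcent : ∀ g : G ⧸ O, g ∈ Subgroup.centralizer (E : Set (G ⧸ O)) := by
        intro g
        rw [Subgroup.mem_centralizer_iff]
        intro y hy
        by_cases hy1 : y = 1
        · rw [hy1, one_mul, mul_one]
        have h1 : orderOf y = 2 := orderOf_eq_prime (hsq y hy) hy1
        have h2 := huniq _ _ ((Involutions.Basic.orderOf_conj g y).trans h1) h1
        exact (mul_inv_eq_iff_eq_mul.mp h2).symm
      have h3 : x 0 ∈ E := hCE (hcent (x 0))
      have h4 := orderOf_dvd_of_pow_eq_one (hsq _ h3)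
      rw [hx] at h4
      exact absurd (Nat.le_of_dvd two_pos h4) (by norm_num)
    obtain ⟨y, hy, hy4⟩ := hex
    intro i
    obtain ⟨u, hu⟩ := isConj_iff.mp (hconj4 y (x i) hy4 (hx i))
    exact hu ▸ (inferInstance : E.Normal).conj_mem y hy u
  -- so the 2-core is everything
  have hjE : ∀ z, j z ∈ E := by
    intro z
    rw [← e.symm_apply_apply z]
    rcases e z with i | i
    · have h1 : QuaternionGroup.a i = QuaternionGroup.xa (((2 ^ (n + 1) : ℕ) : ZMod (2 * 2 ^ (n + 1))) - i) *
          QuaternionGroup.xa (0 : ZMod (2 * 2 ^ (n + 1))) := by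
        simp [QuaternionGroup.xa_mul_xa]
      rw [h1, map_mul, map_mul]
      exact mul_mem (hxE _) (hxE 0)
    · exact hxE i
  have hsurj : Function.Surjective j := by
    have hrange : j.range = ((S.mapSurjective (QuotientGroup.mk'_surjective O) : Sylow 2 (G ⧸ O)) :
        Subgroup (G ⧸ O)) := by
      rw [Sylow.coe_mapSurjective, MonoidHom.range_comp, Subgroup.range_subtype]
    have hle : j.range ≤ E := by rintro _ ⟨z, rfl⟩; exact hjE z
    have hodd : Odd (Nat.card ((G ⧸ O) ⧸ E)) := by
      have h1 := (S.mapSurjective (QuotientGroup.mk'_surjective O)).not_dvd_index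
      rw [← hrange] at h1
      rw [← Subgroup.index_eq_card]
      exact Nat.odd_iff.mpr (Nat.two_dvd_ne_zero.mp fun hd => h1 (hd.trans (Subgroup.index_dvd_of_le hle)))
    have hamb' : ∀ q : (G ⧸ O) ⧸ E, IsConj q q⁻¹ := fun q => by
      obtain ⟨y, rfl⟩ := QuotientGroup.mk'_surjective E q
      rw [← map_inv]; exact (QuotientGroup.mk' E).map_isConj (hamb y)
    have hEj : E ≤ j.range := by
      rw [hrange]
      exact PLocal.Cores.pCore_le_sylow _
    intro g
    exact hEj ((QuotientGroup.eq_one_iff g).mp (GStructB.OneInvolution.subsingleton_of_odd hamb' hodd _))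
  -- but the quaternion group has two classes of elements of order 4 outside the cyclic part
  obtain ⟨u, hu⟩ := isConj_iff.mp (hconj4 (x 0) (x 1) (hx 0) (hx 1))
  obtain ⟨v, rfl⟩ := hsurj u
  rw [← map_inv, ← map_mul, ← map_mul] at hu
  have h1 := congrArg e (hj hu)
  rw [map_mul, map_mul, map_inv, e.apply_symm_apply, e.apply_symm_apply] at h1
  let φ : ZMod (2 * 2 ^ (n + 1)) →+* ZMod 2 := ZMod.castHom (dvd_mul_right 2 _) (ZMod 2)
  have hm : φ ((2 ^ (n + 1) : ℕ) : ZMod (2 * 2 ^ (n + 1))) = 0 := by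
    rw [map_natCast, ZMod.natCast_eq_zero_iff]
    exact dvd_pow_self 2 (Nat.succ_ne_zero n)
  have h2 : e v * QuaternionGroup.xa (0 : ZMod (2 * 2 ^ (n + 1))) = QuaternionGroup.xa 1 * e v :=
    mul_inv_eq_iff_eq_mul.mp h1
  rcases hv : e v with i | i <;> rw [hv] at h2
  · rw [QuaternionGroup.a_mul_xa, QuaternionGroup.xa_mul_a] at h2
    injection h2 with h3
    have h4 := congrArg φ h3
    rw [map_sub, map_add, map_zero, map_one] at h4
    exact (parity (φ i)).1 h4
  · rw [QuaternionGroup.xa_mul_xa, QuaternionGroup.xa_mul_xa] at h2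
    injection h2 with h3
    have h4 := congrArg φ h3
    rw [map_sub, map_sub, map_add, map_add, map_zero, map_one, hm] at h4
    exact (parity (φ i)).2 h4


/-- A finite solvable group in which any two elements of the same order are conjugate has order 1 or 2 or is isomorphic to the symmetric group of degree 3. -/
theorem result {G : Type*} [Group G] [Finite G] [Group.IsSolvable G]
    (h : ∀ x y : G, orderOf x = orderOf y → IsConj x y) :
    Nat.card G = 1 ∨ Nat.card G = 2 ∨ Nonempty (G ≃* Equiv.Perm (Fin 3)) := by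
  classical
  have : Fact (Nat.Prime 2) := ⟨Nat.prime_two⟩
  have hamb : ∀ x : G, IsConj x x⁻¹ := fun x => h x x⁻¹ (orderOf_inv _).symm
  by_cases heven : 2 ∣ Nat.card G
  swap
  · have hodd : Odd (Nat.card G) := Nat.odd_iff.mpr (by omega)
    exact Or.inl (Nat.card_eq_one_iff_unique.mpr ⟨⟨fun a b => by
      rw [GStructB.OneInvolution.subsingleton_of_odd hamb hodd a,
        GStructB.OneInvolution.subsingleton_of_odd hamb hodd b]⟩, ⟨1⟩⟩)
  obtain ⟨S⟩ : Nonempty (Sylow 2 G) := inferInstance
  obtain ⟨hS, hS2⟩ := S4061.result hamb heven (fun s t hs ht => h s t (hs.trans ht.symm)) S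
  set O := Cfsg.oddCore G
  rcases hS with hcard | ⟨n, ⟨e⟩⟩
  · obtain ⟨hc, -, hinv⟩ := hS2 hcard
    obtain ⟨t, ht, ht1⟩ := (Subgroup.bot_or_exists_ne_one (S : Subgroup G)).resolve_left
      (S.ne_bot_of_dvd_card heven)
    have hab : ∀ x ∈ O, ∀ y ∈ O, x * y = y * x := by
      intro x hx y hy
      have h1 := hinv t ht ht1 (x * y) (mul_mem hx hy)
      rw [show t * (x * y) * t⁻¹ = (t * x * t⁻¹) * (t * y * t⁻¹) by group, hinv t ht ht1 x hx,
        hinv t ht ht1 y hy] at h1
      exact (inv_inj.mp (by rw [mul_inv_rev]; exact h1)).symm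
    have hS' : ∀ s ∈ S, s = 1 ∨ s = t := by
      intro s hs
      obtain ⟨y, -, hy⟩ := (Nat.card_eq_two_iff' (⟨1, one_mem _⟩ : (S : Subgroup G))).mp hcard
      by_cases hs1 : s = 1
      · exact Or.inl hs1
      · exact Or.inr (congrArg Subtype.val ((hy ⟨s, hs⟩ (fun h => hs1 (congrArg Subtype.val h))).trans
          (hy ⟨t, ht⟩ (fun h => ht1 (congrArg Subtype.val h))).symm))
    have hclass : ∀ x ∈ O, ∀ y, orderOf y = orderOf x → y = x ∨ y = x⁻¹ := by
      intro x hx y hy
      obtain ⟨u, rfl⟩ := isConj_iff.mp (h x y hy.symm)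
      obtain ⟨s, hs, o, ho, rfl⟩ := Subgroup.mem_sup_of_normal_right.mp
        (show u ∈ (S : Subgroup G) ⊔ O by rw [hc.sup_eq_top]; exact Subgroup.mem_top u)
      have e : s * o * x * (s * o)⁻¹ = s * x * s⁻¹ := by
        calc s * o * x * (s * o)⁻¹ = s * (o * x) * o⁻¹ * s⁻¹ := by group
          _ = _ := by rw [hab o ho x hx]; group
      rw [e]
      rcases hS' s hs with rfl | rfl
      · left; group
      · exact Or.inr (hinv s hs ht1 x hx)
    have hcube : ∀ x ∈ O, x ^ 3 = 1 := by
      intro x hx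
      have hodd : Odd (orderOf x) := Cores.oddCore_odd.of_dvd_nat (O.orderOf_dvd_natCard hx)
      rcases hclass x hx (x ^ 2) (Nat.Coprime.orderOf_pow (Nat.coprime_two_right.mpr hodd)) with h2 | h2
      · rw [pow_two, mul_eq_left] at h2
        rw [h2, one_pow]
      · rw [pow_succ, h2, inv_mul_cancel]
    have hle : Nat.card O = 1 ∨ Nat.card O = 3 := by
      by_cases hb : O = ⊥
      · exact Or.inl (by rw [hb, Subgroup.card_bot])
      obtain ⟨x, hx, hx1⟩ := (Subgroup.bot_or_exists_ne_one O).resolve_left hb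
      have : Fact (Nat.Prime 3) := ⟨Nat.prime_three⟩
      have hox : ∀ y ∈ O, y ≠ 1 → orderOf y = 3 := fun y hy hy1 => orderOf_eq_prime (hcube y hy) hy1
      refine Or.inr ?_
      have heq : Subgroup.zpowers x = O := by
        refine le_antisymm (Subgroup.zpowers_le.mpr hx) fun y hy => ?_
        by_cases hy1 : y = 1
        · rw [hy1]; exact one_mem _
        · rcases hclass x hx y ((hox y hy hy1).trans (hox x hx hx1).symm) with rfl | rfl
          · exact Subgroup.mem_zpowers _
          · exact inv_mem (Subgroup.mem_zpowers _)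
      rw [← heq, Nat.card_zpowers, hox x hx hx1]
    have hG : Nat.card G = 2 * Nat.card O := by rw [← hcard]; exact hc.card_mul_card.symm
    rcases hle with h1 | h3
    · exact Or.inr (Or.inl (by omega))
    refine Or.inr (Or.inr ?_)
    have h3' : Nat.card (G ⧸ (S : Subgroup G)) = 3 := by
      rw [← Subgroup.index_eq_card, hc.symm.index_eq_card, h3]
    let eq3 : (G ⧸ (S : Subgroup G)) ≃ Fin 3 := Finite.equivFinOfCardEq h3'
    let f : G →* Equiv.Perm (Fin 3) :=
      (eq3.permCongrHom.toMonoidHom).comp (MulAction.toPermHom G (G ⧸ (S : Subgroup G)))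
    have hker : f.ker = ⊥ := by
      rw [eq_bot_iff]
      intro z hz
      have hz1 : ∀ q : G ⧸ (S : Subgroup G), z • q = q := by
        intro q
        have h4 : MulAction.toPermHom G (G ⧸ (S : Subgroup G)) z = 1 :=
          eq3.permCongrHom.injective ((MonoidHom.mem_ker.mp hz).trans (map_one _).symm)
        exact congrArg (fun σ : Equiv.Perm _ => σ q) h4
      have hzS : z ∈ (S : Subgroup G) := by
        have h5 := QuotientGroup.eq.mp (hz1 ((1 : G) : G ⧸ (S : Subgroup G)))
        simpa using h5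
      obtain ⟨x, hx, hx1⟩ := (Subgroup.bot_or_exists_ne_one O).resolve_left
        (fun hb => by rw [hb, Subgroup.card_bot] at h3; omega)
      rcases hS' z hzS with rfl | rfl
      · exact one_mem _
      exfalso
      have h5 := QuotientGroup.eq.mp (hz1 (x : G ⧸ (S : Subgroup G)))
      change (z * x)⁻¹ * x ∈ (S : Subgroup G) at h5
      rw [show (z * x)⁻¹ * x = (z * x * z⁻¹ * z)⁻¹ * x by group, hinv z ht ht1 x hx] at h5
      have h6 : z⁻¹ * (x * x) ∈ (S : Subgroup G) := by simpa [mul_assoc] using h5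
      have h7 : x * x ∈ (S : Subgroup G) := by
        simpa using mul_mem hzS h6
      have h8 : x * x = 1 := Subgroup.mem_bot.mp (hc.disjoint.le_bot ⟨h7, mul_mem hx hx⟩)
      have h9 := hcube x hx
      rw [pow_succ, pow_two, h8, one_mul] at h9
      exact hx1 h9
    refine ⟨MulEquiv.ofBijective f ((f.ker_eq_bot_iff.mp hker).bijective_of_nat_card_le (le_of_eq ?_))⟩
    rw [Nat.card_perm, Nat.card_fin, hG, h3]
    rfl
  · exfalso
    exact quaternion_impossible h S n e

end Cfsg.Agent.S4062
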