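import Cfsg.Statements.S4065
import Mathlib

set_option autoImplicit false
open Cfsg

namespace Cfsg.Agent.S4065

/-- Two vectors proportional to a nonzero vector `(q, r, d)` are proportional. -/
theorem cross {F : Type*} [Field F] (q r d u t f u' t' f' : F) (h : q ≠ 0 ∨ r ≠ 0 ∨ d ≠ 0)
    (h1 : q * t = u * r) (h2 : r * f = d * t) (h3 : d * u = q * f)
    (k1 : q * t' = u' * r) (k2 : r * f' = d * t') (k3 : d * u' = q * f') :
    u * t' = u' * t ∧ f * u' = f' * u ∧ f * t' = f' * t := by
  rcases h with h | h | h
  · have e1 : u * t' = u' * t := mul_left_cancel₀ h (by linear_combination u * k1 - u' * h1)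
    refine ⟨e1, mul_left_cancel₀ h (by linear_combination u * k3 - u' * h3), mul_left_cancel₀ h ?_⟩
    linear_combination d * e1 - t' * h3 + t * k3
  · have e3 : f * t' = f' * t := mul_left_cancel₀ h (by linear_combination t' * h2 - t * k2)
    have e1 : u * t' = u' * t := mul_left_cancel₀ h (by linear_combination t * k1 - t' * h1)
    refine ⟨e1, mul_left_cancel₀ h ?_, e3⟩
    linear_combination u' * h2 - u * k2 - d * e1
  · have e2 : f * u' = f' * u := mul_left_cancel₀ h (by linear_combination f * k3 - f' * h3)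
    have e3 : f * t' = f' * t := mul_left_cancel₀ h (by linear_combination f' * h2 - f * k2)
    refine ⟨mul_left_cancel₀ h ?_, e2, e3⟩
    linear_combination t' * h3 - t * k3 + q * e3

/-- Let F be a finite field with 2ⁿ elements, n ≥ 2. In PSL₂(F) the centralizer of every element meets each of its conjugates by elements outside its normalizer trivially. -/
theorem result (n : ℕ) (hn : 2 ≤ n)
    (x : Matrix.ProjectiveSpecialLinearGroup (Fin 2) (GaloisField 2 n)) :
    Cfsg.IsTISubset (Subgroup.centralizer ({x} : Set (Matrix.ProjectiveSpecialLinearGroup (Fin 2) (GaloisField 2 n))) :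
      Set (Matrix.ProjectiveSpecialLinearGroup (Fin 2) (GaloisField 2 n))) := by
  classical
  set F := GaloisField 2 n
  let π := QuotientGroup.mk' (Subgroup.center (Matrix.SpecialLinearGroup (Fin 2) F))
  have hbot : Subgroup.center (Matrix.SpecialLinearGroup (Fin 2) F) = ⊥ := by
    rw [eq_bot_iff]
    intro A hA
    obtain ⟨r, hr, hrA⟩ := Matrix.SpecialLinearGroup.mem_center_iff.mp hA
    rw [Fintype.card_fin] at hr
    have h2 : (r - 1) ^ 2 = 0 := by rw [sub_pow_char, one_pow, hr, sub_self]
    rw [sub_eq_zero.mp (eq_zero_of_pow_eq_zero h2), map_one] at hrA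
    exact Subgroup.mem_bot.mpr (Subtype.ext hrA.symm)
  have hinj : Function.Injective π := by
    rw [← MonoidHom.ker_eq_bot_iff, QuotientGroup.ker_mk', hbot]
  have hab : ∀ A : Matrix.ProjectiveSpecialLinearGroup (Fin 2) F, A ≠ 1 → ∀ B C,
      A * B = B * A → A * C = C * A → B * C = C * B := by
    intro A' hA B' C' hB hC
    obtain ⟨A, rfl⟩ := QuotientGroup.mk'_surjective _ A'
    obtain ⟨B, rfl⟩ := QuotientGroup.mk'_surjective _ B'
    obtain ⟨C, rfl⟩ := QuotientGroup.mk'_surjective _ C'
    rw [← map_mul, ← map_mul] at hB hC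
    rw [← map_mul, ← map_mul, hinj (a₁ := B * C) (a₂ := C * B)]
    have hB' := congrArg Subtype.val (hinj hB)
    have hC' := congrArg Subtype.val (hinj hC)
    apply congrArg π
    apply Subtype.ext
    simp only [Matrix.SpecialLinearGroup.coe_mul] at hB' hC' ⊢
    have hns : A.1 0 1 ≠ 0 ∨ A.1 1 0 ≠ 0 ∨ A.1 0 0 ≠ A.1 1 1 := by
      by_contra! hc
      obtain ⟨h1, h2, h3⟩ := hc
      apply hA
      refine (QuotientGroup.eq_one_iff A).mpr (Matrix.SpecialLinearGroup.mem_center_iff.mpr ⟨A.1 0 0, ?_, ?_⟩)
      · rw [Fintype.card_fin]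
        have := A.2
        rw [Matrix.det_fin_two, h1, h2, ← h3] at this
        rw [pow_two]
        simpa using this
      · ext i j
        fin_cases i <;> fin_cases j <;> simp [h1, h2, h3]
    have b00 := congrFun (congrFun hB' 0) 0
    have b01 := congrFun (congrFun hB' 0) 1
    have b10 := congrFun (congrFun hB' 1) 0
    have c00 := congrFun (congrFun hC' 0) 0
    have c01 := congrFun (congrFun hC' 0) 1
    have c10 := congrFun (congrFun hC' 1) 0
    simp only [Matrix.mul_apply, Fin.sum_univ_two] at b00 b01 b10 c00 c01 c10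
    obtain ⟨e1, e2, e3⟩ := cross (A.1 0 1) (A.1 1 0) (A.1 0 0 - A.1 1 1)
      (B.1 0 1) (B.1 1 0) (B.1 0 0 - B.1 1 1) (C.1 0 1) (C.1 1 0) (C.1 0 0 - C.1 1 1)
      (by rcases hns with h | h | h
          · exact Or.inl h
          · exact Or.inr (Or.inl h)
          · exact Or.inr (Or.inr (sub_ne_zero.mpr h)))
      (by linear_combination b00) (by linear_combination b10) (by linear_combination b01)
      (by linear_combination c00) (by linear_combination c10) (by linear_combination c01)
    ext i j
    fin_cases i <;> fin_cases j <;> simp [Matrix.mul_apply, Fin.sum_univ_two]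
    · linear_combination e1
    · linear_combination e2
    · linear_combination (-1 : F) * e3
    · linear_combination (-1 : F) * e1
  intro g hg z hz hzg
  by_contra hz1
  apply hg
  rw [SetLike.mem_coe, Subgroup.mem_centralizer_singleton_iff] at hz hzg
  by_cases hx1 : x = 1
  · rw [Subgroup.mem_normalizer_iff]
    intro w
    simp [hx1, Subgroup.mem_centralizer_singleton_iff]
  have hC : ∀ w, w ∈ Subgroup.centralizer ({x} : Set (Matrix.ProjectiveSpecialLinearGroup (Fin 2) F)) ↔
      z * w = w * z := by
    intro w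
    rw [Subgroup.mem_centralizer_singleton_iff]
    exact ⟨fun h => hab x hx1 z w hz.symm h.symm, fun h => hab z hz1 w x h hz⟩
  rw [Subgroup.mem_normalizer_iff]
  intro w
  set z' := g * z * g⁻¹ with hz'
  have hz'1 : z' ≠ 1 := by rwa [hz', Ne, conj_eq_one_iff]
  rw [hC, Subgroup.mem_centralizer_singleton_iff]
  constructor
  · intro h
    refine hab z' hz'1 _ x ?_ hzg
    calc z' * (g * w * g⁻¹) = g * (z * w) * g⁻¹ := by rw [hz']; group
      _ = _ := by rw [h, hz']; group
  · intro h
    have h2 : z' * (g * w * g⁻¹) = g * w * g⁻¹ * z' := hab x hx1 _ _ hzg.symm h.symm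
    calc z * w = g⁻¹ * (z' * (g * w * g⁻¹)) * g := by rw [hz']; group
      _ = _ := by rw [h2, hz']; group

end Cfsg.Agent.S4065
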