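import Cfsg.Statements.S4066
import Cfsg.Agent.GStructB.PElements

set_option autoImplicit false
open Cfsg

namespace Cfsg.Agent.S4066

/-- Let G be a finite group in which the centralizer of every element meets each of its conjugates by elements outside its normalizer trivially. Then any two distinct Sylow p-subgroups of G, for any prime p, intersect trivially. -/
theorem result {G : Type*} [Group G] [Finite G] (hTI : ∀ x : G, Cfsg.IsTISubset (Subgroup.centralizer ({x} : Set G) : Set G))
    {p : ℕ} [Fact p.Prime] (P Q : Sylow p G) (hPQ : P ≠ Q) : (P : Subgroup G) ⊓ (Q : Subgroup G) = ⊥ := by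
  have hp := (Fact.out : p.Prime)
  classical
  rw [Subgroup.eq_bot_iff_forall]
  by_contra hne
  push Not at hne
  obtain ⟨x, ⟨hxP, hxQ⟩, hx1⟩ := hne
  -- centralisers meeting nontrivially and conjugate are equal
  have hnormC : ∀ a g w : G, w ≠ 1 → w * a = a * w → (g * w * g⁻¹) * a = a * (g * w * g⁻¹) →
      g ∈ Subgroup.normalizer (Subgroup.centralizer ({a} : Set G) : Set G) := by
    intro a g w hw h1 h2
    by_contra hg
    exact hw (hTI a g hg w (Subgroup.mem_centralizer_singleton_iff.mpr h1)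
      (Subgroup.mem_centralizer_singleton_iff.mpr h2))
  have hnorm' : ∀ a g : G, g ∈ Subgroup.normalizer (Subgroup.centralizer ({a} : Set G) : Set G) →
      ∀ w, w * a = a * w → (g * w * g⁻¹) * a = a * (g * w * g⁻¹) := by
    intro a g hg w hw
    exact Subgroup.mem_centralizer_singleton_iff.mp
      ((Subgroup.mem_normalizer_iff.mp hg w).mp (Subgroup.mem_centralizer_singleton_iff.mpr hw))
  -- centre of one Sylow subgroup centralises the other
  have step : ∀ (P Q : Sylow p G) (x a : G), x ∈ P → x ∈ Q → x ≠ 1 → a ∈ P →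
      (∀ y ∈ P, y * a = a * y) → ∀ y ∈ Q, y * a = a * y := by
    intro P Q x a hxP hxQ hx1 haP ha
    set C := Subgroup.centralizer ({a} : Set G) with hC
    set M := Subgroup.normalizer (C : Set G) with hM
    set W := (Q : Subgroup G) ⊓ C with hW
    have hPC : (P : Subgroup G) ≤ C := fun y hy => Subgroup.mem_centralizer_singleton_iff.mpr (ha y hy)
    have hCM : C ≤ M := Subgroup.le_normalizer
    -- p-subgroups of M lie in C
    have hpM : ∀ K : Subgroup G, IsPGroup p K → K ≤ M → K ≤ C := by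
      intro K hK hKM
      obtain ⟨T, hT⟩ := (hK.comap_subtype (K := M)).exists_le_sylow
      obtain ⟨m, rfl⟩ := MulAction.exists_smul_eq M (P.subtype (hPC.trans hCM)) T
      intro k hk
      have := hT (show (⟨k, hKM hk⟩ : M) ∈ K.comap M.subtype from hk)
      rw [Sylow.coe_subgroup_smul, GStructB.PElements.mem_conj_smul, Sylow.coe_subtype,
        Subgroup.mem_subgroupOf] at this
      have h2 : (m : G)⁻¹ * k * m ∈ C := by simpa using hPC this
      have h3 := (Subgroup.mem_normalizer_iff.mp m.2 _).mp h2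
      simpa [mul_assoc] using h3
    have hQp : IsPGroup p W := Q.2.to_le inf_le_left
    by_contra hne
    push Not at hne
    obtain ⟨y, hy, hya⟩ := hne
    have hlt : W.subgroupOf (Q : Subgroup G) < ⊤ := by
      rw [lt_top_iff_ne_top, Ne, Subgroup.subgroupOf_eq_top]
      exact fun h => hya (Subgroup.mem_centralizer_singleton_iff.mp (h hy).2)
    have := (Group.normalizerCondition_of_isNilpotent (h := Q.2.isNilpotent)) _ hlt
    obtain ⟨g, hg, hgW⟩ := SetLike.exists_of_lt this
    rw [Subgroup.mem_subgroupOf] at hgW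
    rw [Subgroup.mem_normalizer_iff] at hg
    apply hgW
    refine ⟨g.2, ?_⟩
    have hgM : (g : G) ∈ M := by
      refine hnormC a g x hx1 (ha x hxP) (Subgroup.mem_centralizer_singleton_iff.mp ?_)
      exact ((hg ⟨x, hxQ⟩).mp (Subgroup.mem_subgroupOf.mpr ⟨hxQ, hPC hxP⟩) :).2
    exact hpM ((Q : Subgroup G) ⊓ M) (Q.2.to_le inf_le_left) inf_le_right ⟨g.2, hgM⟩
  obtain ⟨a, ha1, hain, hacen⟩ : ∃ a : G, a ≠ 1 ∧ a ∈ P ∧ ∀ y ∈ P, y * a = a * y := by
    have : Nontrivial (P : Subgroup G) := ⟨⟨x, hxP⟩, 1, fun h => hx1 (congrArg Subtype.val h)⟩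
    have := P.2.center_nontrivial
    obtain ⟨⟨a, ha⟩, ha1⟩ := exists_ne (1 : Subgroup.center (P : Subgroup G))
    refine ⟨a, fun h => ha1 (Subtype.ext (Subtype.ext h)), a.2, fun y hy => ?_⟩
    exact congrArg Subtype.val (Subgroup.mem_center_iff.mp ha ⟨y, hy⟩)
  have hQa := step P Q x a hxP hxQ hx1 hain hacen
  set H := Subgroup.centralizer ({a} : Set G) with hH
  -- elements of `P` commute with all their `H`-conjugates
  have hcc : ∀ y ∈ P, ∀ g ∈ H, ∀ g' ∈ H, (g * y * g⁻¹) * (g' * y * g'⁻¹) =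
      (g' * y * g'⁻¹) * (g * y * g⁻¹) := by
    intro y hy g hg g' hg'
    have hm : g⁻¹ * g' ∈ H := mul_mem (inv_mem hg) hg'
    have hmem := hnormC y (g⁻¹ * g') a ha1 (hacen y hy).symm (by
      have h1 : g⁻¹ * g' * a * (g⁻¹ * g')⁻¹ = a := by
        rw [Subgroup.mem_centralizer_singleton_iff.mp hm, mul_inv_cancel_right]
      rw [h1]; exact (hacen y hy).symm)
    have h2 := hnorm' y (g⁻¹ * g') hmem y rfl
    calc (g * y * g⁻¹) * (g' * y * g'⁻¹)
        = g * (y * (g⁻¹ * g' * y * (g⁻¹ * g')⁻¹)) * g⁻¹ := by group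
      _ = g * ((g⁻¹ * g' * y * (g⁻¹ * g')⁻¹) * y) * g⁻¹ := by rw [h2]
      _ = _ := by group
  apply hPQ
  have hQH : (Q : Subgroup G) ≤ H := fun y hy =>
    Subgroup.mem_centralizer_singleton_iff.mpr (hQa y hy)
  apply Sylow.ext
  refine (P.3 Q.2 fun y hy => ?_).symm
  have hyH : y ∈ H := Subgroup.mem_centralizer_singleton_iff.mpr (hacen y hy)
  -- the normal closure of `y` in `H` is an abelian p-group
  set N := Subgroup.closure {w : G | ∃ g ∈ H, w = g * y * g⁻¹} with hN
  have hNab : IsMulCommutative N := by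
    rw [hN]
    apply Subgroup.isMulCommutative_closure
    rintro _ ⟨g, hg, rfl⟩ _ ⟨g', hg', rfl⟩
    exact hcc y hy g hg g' hg'
  obtain ⟨k, hk⟩ := GStructB.PElements.exists_orderOf_eq P.2 hy
  have hNp : IsPGroup p N := by
    rw [IsPGroup.iff_orderOf]
    intro w
    have hw : (w : G) ^ p ^ k = 1 := by
      obtain ⟨w, hw⟩ := w
      change w ^ p ^ k = 1
      induction hw using Subgroup.closure_induction with
      | mem z hz =>
        obtain ⟨g, -, rfl⟩ := hz
        rw [conj_pow, ← hk, pow_orderOf_eq_one]; group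
      | one => exact one_pow _
      | mul u v hu hv h1 h2 =>
        have hcm : Commute u v :=
          congrArg Subtype.val (hNab.is_comm.comm ⟨u, hu⟩ ⟨v, hv⟩)
        rw [hcm.mul_pow, h1, h2, one_mul]
      | inv u _ h1 => rw [inv_pow, h1, inv_one]
    have : orderOf w ∣ p ^ k := orderOf_dvd_of_pow_eq_one (Subtype.ext hw)
    obtain ⟨j, -, hj⟩ := (Nat.dvd_prime_pow hp).mp this
    exact ⟨j, hj⟩
  have hQN : (Q : Subgroup G) ≤ Subgroup.normalizer (N : Set G) := by
    intro q hq
    have hle : ∀ r ∈ H, N.map (MulAut.conj r).toMonoidHom ≤ N := by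
      intro r hr
      rw [hN, MonoidHom.map_closure, Subgroup.closure_le]
      rintro _ ⟨_, ⟨g, hg, rfl⟩, rfl⟩
      exact Subgroup.subset_closure ⟨r * g, mul_mem hr hg, by simp [mul_assoc]⟩
    rw [Subgroup.mem_normalizer_iff]
    intro w
    refine ⟨fun hw => hle q (hQH hq) ⟨w, hw, rfl⟩, fun hw => ?_⟩
    have := hle q⁻¹ (inv_mem (hQH hq)) ⟨_, hw, rfl⟩
    simpa [mul_assoc] using this
  have hmax := Q.3 (Q.2.to_sup_of_normal_right' hNp hQN) le_sup_left
  exact hmax ▸ Subgroup.mem_sup_right (Subgroup.subset_closure ⟨1, one_mem _, by group⟩)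

end Cfsg.Agent.S4066
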