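import Cfsg.Statements.S4068
import Mathlib
import Cfsg.Agent.GStructB.FourOrbits

set_option autoImplicit false
open Cfsg

namespace Cfsg.Agent.S4068

/-- A finite non-solvable group on which its automorphism group has exactly four orbits is isomorphic to the alternating group of degree 5. -/
theorem result {G : Type*} [Group G] [Finite G] (hns : ¬ Group.IsSolvable G)
    (h4 : Nat.card (MulAction.orbitRel.Quotient (MulAut G) G) = 4) : Nonempty (G ≃* alternatingGroup (Fin 5)) := by
  refine GStructB.FourOrbits.eq_A5 hns ?_
  have e : Set.range (orderOf : G → ℕ) = Set.range (fun o : MulAction.orbitRel.Quotient (MulAut G) G => orderOf o.out) := by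
    ext n
    constructor
    · rintro ⟨g, rfl⟩
      obtain ⟨a, ha⟩ := Quotient.exact (Quotient.out_eq (Quotient.mk'' g : MulAction.orbitRel.Quotient (MulAut G) G))
      refine ⟨Quotient.mk'' g, ?_⟩
      show orderOf _ = orderOf g
      rw [← ha]
      exact MulEquiv.orderOf_eq a g
    · rintro ⟨o, rfl⟩
      exact ⟨o.out, rfl⟩
  rw [e, ← h4]
  exact (Nat.card_coe_set_eq _).symm.trans_le (Finite.card_range_le _)

end Cfsg.Agent.S4068
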