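import Cfsg.Statements.S5748
import Cfsg.Agent.CTGroup.Core
import Cfsg.Agent.CTGroup.EvenPSL
import Cfsg.Agent.S0182
import Cfsg.Agent.S1230

set_option autoImplicit false
open Cfsg

namespace Cfsg.Agent.S5748

/-- In a simple group a centraliser is the whole group only for the identity. -/
theorem eq_one_of_central {G : Type*} [Group G] [IsSimpleGroup G] (hG : ¬ IsMulCommutative G) {z : G}
    (hz : ∀ g : G, g * z = z * g) : z = 1 := by
  rcases (inferInstance : (Subgroup.center G).Normal).eq_bot_or_eq_top with h | h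
  · exact Subgroup.mem_bot.1 (h ▸ Subgroup.mem_center_iff.2 hz)
  · exact absurd ⟨⟨fun x y => Subgroup.mem_center_iff.1 (h ▸ Subgroup.mem_top y) x⟩⟩ hG

/-- A simple group of even order with transitive commuting is `PSL₂` in characteristic two. -/
theorem forward {G : Type*} [Group G] [Finite G] [IsSimpleGroup G] (hG : ¬ IsMulCommutative G)
    (hCT : ∀ a b c : G, a ≠ 1 → b ≠ 1 → c ≠ 1 → Commute a b → Commute b c → Commute a c) :
    ∃ (F : Type) (_ : Field F) (_ : Fintype F) (f : ℕ), 2 ≤ f ∧ Fintype.card F = 2 ^ f ∧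
      Nonempty (G ≃* Matrix.ProjectiveSpecialLinearGroup (Fin 2) F) := by
  have h2 : Fact (Nat.Prime 2) := ⟨Nat.prime_two⟩
  have hca : ∀ x : G, x ≠ 1 → ∀ a ∈ Subgroup.centralizer ({x} : Set G),
      ∀ b ∈ Subgroup.centralizer ({x} : Set G), a * b = b * a := by
    intro x hx a ha b hb
    by_cases ha1 : a = 1
    · rw [ha1, one_mul, mul_one]
    by_cases hb1 : b = 1
    · rw [hb1, one_mul, mul_one]
    exact (hCT a x b ha1 hx hb1 (Subgroup.mem_centralizer_singleton_iff.1 ha)
      (show Commute b x from Subgroup.mem_centralizer_singleton_iff.1 hb).symm).eq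
  have hnsol : ¬ Group.IsSolvable G := fun h => hG ⟨⟨fun a b => by
    have hc := (IsSimpleGroup.comm_iff_isSolvable (G := G)).2 h
    exact hc a b⟩⟩
  have heven : 2 ∣ Nat.card G := by
    by_contra h
    exact hnsol (Cfsg.Agent.S0182.result (Nat.not_even_iff_odd.1 (fun he => h he.two_dvd)) hca)
  let S : Sylow 2 G := default
  have hSbot : (S : Subgroup G) ≠ ⊥ := S.ne_bot_of_dvd_card heven
  have hSnn : ¬ (S : Subgroup G).Normal := by
    intro hn
    rcases hn.eq_bot_or_eq_top with h | h
    · exact hSbot h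
    · refine hnsol ?_
      have := S.2.isNilpotent
      exact (solvable_of_surjective (f := (S : Subgroup G).subtype) fun x =>
        ⟨⟨x, h ▸ Subgroup.mem_top x⟩, rfl⟩)
  have hSnc : ¬ IsCyclic (S : Subgroup G) := by
    intro hc
    have hp : (Nat.card G).minFac = 2 := (Nat.minFac_eq_two_iff _).2 heven
    have hNC := IsCyclic.normalizer_le_centralizer hp hc
    have hcompl := MonoidHom.ker_transferSylow_isComplement' S hNC
    rcases (MonoidHom.transferSylow S hNC).normal_ker.eq_bot_or_eq_top with h | h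
    · rw [h, Subgroup.isComplement'_bot_left] at hcompl
      exact hSnn (hcompl ▸ (inferInstance : (⊤ : Subgroup G).Normal))
    · rw [h, Subgroup.isComplement'_top_left] at hcompl
      exact hSbot hcompl
  have : Nontrivial (S : Subgroup G) := (Subgroup.nontrivial_iff_ne_bot _).2 hSbot
  have : Nontrivial (Subgroup.center (S : Subgroup G)) := S.2.center_nontrivial
  obtain ⟨z, hz⟩ := exists_ne (1 : Subgroup.center (S : Subgroup G))
  have hz1 : (((z : (S : Subgroup G))) : G) ≠ 1 := fun e => hz (Subtype.ext (Subtype.ext e))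
  set A := Subgroup.centralizer ({(((z : (S : Subgroup G))) : G)} : Set G) with hA
  have hcent : ∀ a ∈ A, a ≠ 1 → Subgroup.centralizer ({a} : Set G) = A := by
    intro a ha ha1
    have hza : ((z : (S : Subgroup G)) : G) ∈ Subgroup.centralizer ({a} : Set G) :=
      Subgroup.mem_centralizer_singleton_iff.2 (Subgroup.mem_centralizer_singleton_iff.1 ha).symm
    ext x
    constructor
    · intro hx
      rw [hA, Subgroup.mem_centralizer_singleton_iff]
      exact hca a ha1 x hx _ hza
    · intro hx
      rw [Subgroup.mem_centralizer_singleton_iff]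
      exact hca _ hz1 x hx a ha
  have hH : Cfsg.Agent.CTGroup.Hyp A := by
    refine ⟨hcent, ⟨S, fun s hs => Subgroup.mem_centralizer_singleton_iff.2
      (congrArg Subtype.val (Subgroup.mem_center_iff.1 z.2 ⟨s, hs⟩)), hSnc⟩, fun hn => ?_⟩
    rcases hn.eq_bot_or_eq_top with h | h
    · exact hz1 (Subgroup.mem_bot.1 (h ▸ Subgroup.mem_centralizer_singleton_iff.2 rfl))
    · exact hz1 (eq_one_of_central hG fun g =>
        Subgroup.mem_centralizer_singleton_iff.1
        (show g ∈ A by rw [h]; exact Subgroup.mem_top g))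
  obtain ⟨s, -, hs, -, hso, -, -⟩ := hH.two_involutions
  have hC : ∀ t : G, orderOf t = 2 → IsMulCommutative (Subgroup.centralizer ({t} : Set G)) ∧
      ∀ c ∈ Subgroup.centralizer ({t} : Set G), c ^ 2 = 1 := by
    intro t ht
    refine ⟨⟨⟨fun a b => Subtype.ext (hca t (Cfsg.Agent.Involutions.Basic.ne_one ht) a a.2 b b.2)⟩⟩, fun c hc => ?_⟩
    obtain ⟨g, hg⟩ := isConj_iff.1
      (Cfsg.Agent.Involutions.StronglyEmbedded.isConj_involutions hH.stronglyEmbedded hso ht)
    rw [Subgroup.mem_centralizer_singleton_iff, ← hg] at hc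
    have hmem : g⁻¹ * c * g ∈ A := hH.mem_of_commute hs (Cfsg.Agent.Involutions.Basic.ne_one hso) (by
      calc g⁻¹ * c * g * s = g⁻¹ * (c * (g * s * g⁻¹)) * g := by group
        _ = g⁻¹ * (g * s * g⁻¹ * c) * g := by rw [hc]
        _ = s * (g⁻¹ * c * g) := by group)
    have h2c := hH.sq_eq_one hmem
    calc c ^ 2 = g * ((g⁻¹ * c * g) * (g⁻¹ * c * g)) * g⁻¹ := by rw [pow_two]; group
      _ = 1 := by rw [h2c]; group
  obtain ⟨F, iF, iT, hF, he⟩ := Cfsg.Agent.S1230.result S hSnc hSnn hC
  obtain ⟨k, hk⟩ := IsPGroup.iff_card.1 S.2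
  refine ⟨F, iF, iT, k, ?_, hF.trans hk, he⟩
  rcases k with _ | _ | k
  · exact absurd ((Subgroup.card_eq_one).1 (by simpa using hk)) hSbot
  · exact absurd (isCyclic_of_prime_card (p := 2) (by simpa using hk)) hSnc
  · omega

/-- A finite non-abelian simple group in which commuting is a transitive relation on the non-identity elements (equivalently, every non-identity element has abelian centraliser) is isomorphic to PSL₂ over a field with 2^f elements for some f ≥ 2; conversely these groups have that property. -/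
theorem result {G : Type*} [Group G] [Finite G] [IsSimpleGroup G] (hG : ¬ IsMulCommutative G) :
    (∀ a b c : G, a ≠ 1 → b ≠ 1 → c ≠ 1 → Commute a b → Commute b c → Commute a c) ↔
    ∃ (F : Type) (_ : Field F) (_ : Fintype F) (f : ℕ), 2 ≤ f ∧ Fintype.card F = 2 ^ f ∧ Nonempty (G ≃* Matrix.ProjectiveSpecialLinearGroup (Fin 2) F) := by
  refine ⟨forward hG, ?_⟩
  rintro ⟨F, _, _, f, hf, hF, ⟨e⟩⟩ a b c - hb - hab hbc
  have : Fact (Nat.Prime 2) := ⟨Nat.prime_two⟩
  haveI : CharP F 2 := (CharP.charP_iff_prime_eq_zero Nat.prime_two).2 (by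
    have h := Nat.cast_card_eq_zero F
    rw [hF, Nat.cast_pow] at h
    exact_mod_cast eq_zero_of_pow_eq_zero h)
  have h := Cfsg.Agent.CTGroup.psl_two_comm (F := F) (a := e b) (b := e a) (c := e c)
    (by simpa using hb) (hab.symm.map e.toMonoidHom) (hbc.map e.toMonoidHom)
  exact e.injective (by simpa only [map_mul] using h.eq)

end Cfsg.Agent.S5748
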