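import Cfsg.Statements.S4216
import Mathlib

set_option autoImplicit false
open Cfsg

namespace Cfsg.Agent.S4216

/-- Grün's first Theorem: if `P` is a Sylow `p`-subgroup of the finite group `G`, then `P ∩ G'` is the subgroup generated by `P ∩ N_G(P)'` together with the subgroups `P ∩ z P' z⁻¹` for all `z ∈ G`, where `'` denotes the derived subgroup and `N_G(P)` the normalizer of `P`. -/
theorem result {G : Type*} [Group G] [Finite G] {p : ℕ} [Fact p.Prime] (P : Sylow p G) : (P : Subgroup G) ⊓ commutator G = ((P : Subgroup G) ⊓ ⁅Subgroup.normalizer ((P : Subgroup G) : Set G), Subgroup.normalizer ((P : Subgroup G) : Set G)⁆) ⊔ ⨆ z : G, (P : Subgroup G) ⊓ (⁅(P : Subgroup G), (P : Subgroup G)⁆).map (MulAut.conj z).toMonoidHom := by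
  classical
  set N := Subgroup.normalizer ((P : Subgroup G) : Set G) with hN
  set Q := ((P : Subgroup G) ⊓ ⁅N, N⁆) ⊔ ⨆ z : G,
    (P : Subgroup G) ⊓ (⁅(P : Subgroup G), (P : Subgroup G)⁆).map (MulAut.conj z).toMonoidHom with hQ
  have hPN : (P : Subgroup G) ≤ N := Subgroup.le_normalizer
  have hQP : Q ≤ (P : Subgroup G) := sup_le inf_le_left (iSup_le fun z => inf_le_left)
  have hQG : Q ≤ commutator G := by
    rw [commutator_def]
    refine sup_le (inf_le_right.trans (Subgroup.commutator_mono le_top le_top))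
      (iSup_le fun z => inf_le_right.trans ?_)
    rw [Subgroup.map_commutator]
    exact Subgroup.commutator_mono le_top le_top
  refine le_antisymm ?_ (le_inf hQP hQG)
  -- `Q` is normal in `P` with abelian quotient
  have hterm : ∀ z c : G, c ∈ ⁅(P : Subgroup G), (P : Subgroup G)⁆ → z * c * z⁻¹ ∈ (P : Subgroup G) →
      z * c * z⁻¹ ∈ Q := fun z c hc hcP =>
    Subgroup.mem_sup_right (Subgroup.mem_iSup_of_mem z ⟨hcP, c, hc, rfl⟩)
  have hP' : ∀ a ∈ (P : Subgroup G), ∀ b ∈ (P : Subgroup G), a * b * a⁻¹ * b⁻¹ ∈ Q := fun a ha b hb => by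
    have := hterm 1 _ (Subgroup.commutator_mem_commutator ha hb) (by
      simp only [commutatorElement_def, one_mul, inv_one, mul_one]
      exact mul_mem (mul_mem (mul_mem ha hb) (inv_mem ha)) (inv_mem hb))
    simpa [commutatorElement_def] using this
  haveI hQn : (Q.subgroupOf (P : Subgroup G)).Normal := ⟨fun q hq u => by
    rw [Subgroup.mem_subgroupOf] at hq ⊢
    have h1 := mul_mem (hP' u u.2 q q.2) hq
    simpa [mul_assoc] using h1⟩
  letI : CommGroup ((P : Subgroup G) ⧸ Q.subgroupOf (P : Subgroup G)) :=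
    { (inferInstance : Group ((P : Subgroup G) ⧸ Q.subgroupOf (P : Subgroup G))) with
      mul_comm := fun a b => by
        induction a using QuotientGroup.induction_on with | _ a => ?_
        induction b using QuotientGroup.induction_on with | _ b => ?_
        rw [← QuotientGroup.mk_mul, ← QuotientGroup.mk_mul, QuotientGroup.eq,
          Subgroup.mem_subgroupOf]
        have := hP' (b : G)⁻¹ (inv_mem b.2) (a : G)⁻¹ (inv_mem a.2)
        simpa [mul_assoc, mul_inv_rev] using this }
  let φ := QuotientGroup.mk' (Q.subgroupOf (P : Subgroup G))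
  have hφ : ∀ (w : G) (hw : w ∈ (P : Subgroup G)), φ ⟨w, hw⟩ = 1 ↔ w ∈ Q := fun w hw => by
    rw [QuotientGroup.mk'_apply, QuotientGroup.eq_one_iff, Subgroup.mem_subgroupOf]
  suffices hind : ∀ (n : ℕ) (x : G), orderOf x = n → x ∈ (P : Subgroup G) → x ∈ commutator G → x ∈ Q by
    intro x hx
    exact hind _ x rfl hx.1 hx.2
  intro n
  induction n using Nat.strong_induction_on with
  | _ n ih =>
  intro x hn hx hxG
  by_cases hx1 : x = 1
  · rw [hx1]; exact one_mem _
  have hsmall : ∀ (m : ℕ) (g : G), m ∣ orderOf x → 1 < m → g⁻¹ * x ^ m * g ∈ (P : Subgroup G) →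
      g⁻¹ * x ^ m * g ∈ Q := by
    intro m g hm h1m hmem
    refine ih _ ?_ _ rfl hmem ?_
    · have h2 : orderOf (MulAut.conj g⁻¹ (x ^ m)) = orderOf (x ^ m) := MulEquiv.orderOf_eq _ _
      rw [MulAut.conj_apply, inv_inv] at h2
      rw [h2, orderOf_pow_of_dvd (by omega) hm, ← hn]
      exact Nat.div_lt_self (orderOf_pos x) h1m
    · have hn' : (commutator G).Normal := inferInstance
      simpa using hn'.conj_mem _ (pow_mem hxG m) g⁻¹
  letI := Fintype.ofFinite (G ⧸ (P : Subgroup G))
  let ψ : G ⧸ (P : Subgroup G) → (P : Subgroup G) ⧸ Q.subgroupOf (P : Subgroup G) := fun c =>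
    if h : c.out⁻¹ * x * c.out ∈ (P : Subgroup G) then φ ⟨_, h⟩ else 1
  have hfixiff : ∀ c : G ⧸ (P : Subgroup G), x • c = c ↔ c.out⁻¹ * x * c.out ∈ (P : Subgroup G) := by
    intro c
    conv_lhs => rw [← QuotientGroup.out_eq' c]
    show (((x * c.out : G)) : G ⧸ (P : Subgroup G)) = ((c.out : G) : G ⧸ (P : Subgroup G)) ↔ _
    rw [QuotientGroup.eq, ← inv_mem_iff]
    simp [mul_assoc]
  have hout : ∀ c : G ⧸ (P : Subgroup G), ψ c ^ p = 1 := by
    intro c
    by_cases hc : c.out⁻¹ * x * c.out ∈ (P : Subgroup G)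
    · simp only [ψ, dif_pos hc, ← map_pow]
      rw [hφ]
      have h1 : (c.out⁻¹ * x * c.out) ^ p = c.out⁻¹ * x ^ p * c.out := by
        have := map_pow (MulAut.conj c.out⁻¹) x p
        simpa using this.symm
      rw [SubmonoidClass.coe_pow, h1]
      refine hsmall p _ ?_ (Fact.out : p.Prime).one_lt (h1 ▸ pow_mem hc p)
      obtain ⟨k, hk⟩ := IsPGroup.iff_orderOf.1 P.2 ⟨x, hx⟩
      rw [Subgroup.orderOf_mk] at hk
      rw [hk]
      refine dvd_pow_self p fun hk0 => hx1 ?_
      rw [hk0, pow_zero, orderOf_eq_one_iff] at hk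
      exact hk
    · simp only [ψ, dif_neg hc, one_pow]
  -- the transfer
  have htr : ∏ c, ψ c = 1 := by
    letI := Fintype.ofFinite (Quotient (MulAction.orbitRel (Subgroup.zpowers x) (G ⧸ (P : Subgroup G))))
    have h1 := MonoidHom.transfer_eq_prod_quotient_orbitRel_zpowers_quot φ x
    rw [(MonoidHom.mem_ker.1 (Abelianization.commutator_subset_ker (MonoidHom.transfer φ) hxG))] at h1
    rw [h1]
    have hper : ∀ c : G ⧸ (P : Subgroup G), Function.minimalPeriod (x • ·) c ∣ orderOf x := fun c => by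
      refine Function.IsPeriodicPt.minimalPeriod_dvd ?_
      show ((x • ·)^[orderOf x]) c = c
      simp only [smul_iterate, pow_orderOf_eq_one, one_smul]
    symm
    refine Finset.prod_bij_ne_one (fun q _ _ => q.out) (fun _ _ _ => Finset.mem_univ _)
      (fun a _ _ b _ _ h => by rw [← Quotient.out_eq a, ← Quotient.out_eq b, h]) ?_ ?_
    · intro c _ hc
      have hfix : x • c = c := by
        by_contra h
        exact hc (dif_neg fun h' => h ((hfixiff c).2 h'))
      let q : Quotient (MulAction.orbitRel (Subgroup.zpowers x) (G ⧸ (P : Subgroup G))) := Quotient.mk'' c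
      have hq : q.out = c := by
        have h2 : q.out ∈ MulAction.orbit (Subgroup.zpowers x) c := Quotient.eq''.1 (Quotient.out_eq q)
        obtain ⟨⟨y, hy⟩, hy2⟩ := h2
        rw [← hy2]
        show y • c = c
        obtain ⟨k, rfl⟩ := Subgroup.mem_zpowers_iff.1 hy
        have hmem : x ∈ MulAction.stabilizer G c := hfix
        exact Subgroup.zpow_mem _ hmem k
      refine ⟨q, Finset.mem_univ _, ?_, hq⟩
      have hm : Function.minimalPeriod (x • ·) q.out = 1 := by
        rw [hq]; exact Function.minimalPeriod_eq_one_iff_isFixedPt.2 hfix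
      simp only [hm, pow_one]
      intro hone
      refine hc ?_
      rw [← hq]
      simp only [ψ, dif_pos ((hfixiff q.out).1 (by rw [hq]; exact hfix))]
      exact hone
    · intro q _ hq
      have hm : Function.minimalPeriod (x • ·) q.out = 1 := by
        by_contra hm
        refine hq ((hφ _ _).2 (hsmall _ _ (hper _) ?_ (QuotientGroup.out_conj_pow_minimalPeriod_mem _ x q.out)))
        have := Nat.pos_of_dvd_of_pos (hper q.out) (orderOf_pos x)
        omega
      have hfix : x • q.out = q.out := Function.minimalPeriod_eq_one_iff_isFixedPt.1 hm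
      simp only [hm, pow_one, ψ, dif_pos ((hfixiff _).1 hfix)]
  -- group the cosets in `P`-orbits
  have hconst : ∀ (c : G ⧸ (P : Subgroup G)) (u : (P : Subgroup G)), x • c = c → x • (u • c) = u • c →
      ψ (u • c) = ψ c := by
    intro c u h1 h2
    have hc := (hfixiff c).1 h1
    have hc' := (hfixiff (u • c)).1 h2
    simp only [ψ, dif_pos hc, dif_pos hc']
    set g := c.out with hg
    set g' := (u • c).out with hg'
    have hv : ((u : G) * g)⁻¹ * g' ∈ (P : Subgroup G) := by
      rw [← QuotientGroup.eq, hg', QuotientGroup.out_eq']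
      show (((u : G) * g : G) : G ⧸ (P : Subgroup G)) = u • c
      conv_rhs => rw [← QuotientGroup.out_eq' c]
      rfl
    have hmid : g⁻¹ * ((u : G)⁻¹ * x * u) * g ∈ (P : Subgroup G) := by
      have := mul_mem (mul_mem hv hc') (inv_mem hv)
      convert this using 1
      group
    have e1 : φ ⟨_, hc'⟩ = φ ⟨_, hmid⟩ := by
      have h3 : (⟨_, hc'⟩ : (P : Subgroup G)) = ⟨_, hv⟩⁻¹ * ⟨_, hmid⟩ * ⟨_, hv⟩ :=
        Subtype.ext (by simp only [Subgroup.coe_mul, Subgroup.coe_inv]; group)
      rw [h3, map_mul, map_mul, map_inv, mul_comm, ← mul_assoc, mul_inv_cancel, one_mul]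
    rw [e1]
    refine QuotientGroup.eq.2 ?_
    rw [Subgroup.mem_subgroupOf, Subgroup.coe_mul, Subgroup.coe_inv]
    have h4 : g⁻¹ * ((u : G)⁻¹ * x⁻¹ * u * x) * g⁻¹⁻¹ =
        (g⁻¹ * ((u : G)⁻¹ * x * u) * g)⁻¹ * (g⁻¹ * x * g) := by group
    rw [← h4]
    refine hterm _ _ ?_ ?_
    · have := Subgroup.commutator_mem_commutator (inv_mem u.2) (inv_mem hx)
      simpa [commutatorElement_def, mul_assoc] using this
    · rw [h4]
      exact mul_mem (inv_mem hmid) hc
  have hψx : ∀ c : G ⧸ (P : Subgroup G), c ∈ MulAction.fixedPoints (P : Subgroup G) (G ⧸ (P : Subgroup G)) →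
      ψ c = φ ⟨x, hx⟩ := by
    intro c hc
    have hc1 : x • c = c := hc ⟨x, hx⟩
    have hgN : c.out ∈ N := by
      rw [hN, Subgroup.mem_normalizer_iff'']
      have hle : (P : Subgroup G).map (MulAut.conj c.out⁻¹).toMonoidHom ≤ P := by
        rintro _ ⟨u, hu, rfl⟩
        have h1 : ((u * c.out : G) : G ⧸ (P : Subgroup G)) = ((c.out : G) : G ⧸ (P : Subgroup G)) := by
          conv_rhs => rw [QuotientGroup.out_eq' c, ← hc ⟨u, hu⟩, ← QuotientGroup.out_eq' c]
          rfl
        rw [eq_comm, QuotientGroup.eq] at h1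
        simpa [mul_assoc] using h1
      have heq : (P : Subgroup G).map (MulAut.conj c.out⁻¹).toMonoidHom = P :=
        Subgroup.eq_of_le_of_card_ge hle (le_of_eq (Subgroup.card_map_of_injective
          (MulAut.conj c.out⁻¹).injective).symm)
      intro h
      constructor
      · intro hh
        have := hle ⟨h, hh, rfl⟩
        simpa using this
      · intro hh
        obtain ⟨u, hu, he⟩ := (SetLike.ext_iff.1 heq _).2 hh
        simp only [MulEquiv.coe_toMonoidHom, MulAut.conj_apply, inv_inv, mul_left_inj,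
          mul_right_inj] at he
        exact he ▸ hu
    have hcP := (hfixiff c).1 hc1
    simp only [ψ, dif_pos hcP]
    refine QuotientGroup.eq.2 ?_
    rw [Subgroup.mem_subgroupOf, Subgroup.coe_mul, Subgroup.coe_inv]
    refine Subgroup.mem_sup_left (Subgroup.mem_inf.2 ⟨mul_mem (inv_mem hcP) hx, ?_⟩)
    have := Subgroup.commutator_mem_commutator (N.inv_mem hgN) (N.inv_mem (hPN hx))
    simpa [commutatorElement_def, mul_assoc] using this
  letI := Fintype.ofFinite (MulAction.orbitRel.Quotient (P : Subgroup G) (G ⧸ (P : Subgroup G)))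
  rw [← Finset.prod_fiberwise Finset.univ (fun c : G ⧸ (P : Subgroup G) =>
    (Quotient.mk'' c : MulAction.orbitRel.Quotient (P : Subgroup G) (G ⧸ (P : Subgroup G))))] at htr
  let S : Finset (MulAction.orbitRel.Quotient (P : Subgroup G) (G ⧸ (P : Subgroup G))) :=
    Finset.univ.filter fun o => o.out ∈ MulAction.fixedPoints (P : Subgroup G) (G ⧸ (P : Subgroup G))
  have horb : ∀ o, (∏ c ∈ Finset.univ.filter (fun c : G ⧸ (P : Subgroup G) =>
      (Quotient.mk'' c : MulAction.orbitRel.Quotient (P : Subgroup G) (G ⧸ (P : Subgroup G))) = o), ψ c) =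
      if o ∈ S then φ ⟨x, hx⟩ else 1 := by
    intro o
    have hmem : ∀ c, (Quotient.mk'' c : MulAction.orbitRel.Quotient (P : Subgroup G) (G ⧸ (P : Subgroup G))) = o ↔
        c ∈ MulAction.orbit (P : Subgroup G) o.out := fun c => by
      conv_lhs => rw [← Quotient.out_eq o]
      exact Quotient.eq''
    by_cases ho : o ∈ S
    · rw [if_pos ho]
      have hof := (Finset.mem_filter.1 ho).2
      rw [Finset.prod_eq_single o.out]
      · exact hψx _ hof
      · intro c hc hne
        obtain ⟨u, rfl⟩ := (hmem c).1 (Finset.mem_filter.1 hc).2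
        exact absurd (hof u) hne
      · intro h
        refine absurd ?_ h
        rw [Finset.mem_filter]
        exact ⟨Finset.mem_univ _, (hmem _).2 (MulAction.mem_orbit_self _)⟩
    · rw [if_neg ho]
      set O := MulAction.orbit (P : Subgroup G) o.out with hO
      have hcard := (P.2.to_subgroup (Subgroup.zpowers (⟨x, hx⟩ : (P : Subgroup G)))).card_modEq_card_fixedPoints O
      have hdvd : p ∣ Nat.card O := by
        obtain ⟨k, hk⟩ := P.2.card_orbit o.out
        rw [hk]
        refine dvd_pow_self p fun hk0 => ho (Finset.mem_filter.2 ⟨Finset.mem_univ _, fun u => ?_⟩)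
        rw [hk0, pow_zero] at hk
        haveI := (Nat.card_eq_one_iff_unique.1 hk).1
        exact congrArg Subtype.val (Subsingleton.elim
          (⟨u • o.out, MulAction.mem_orbit _ _⟩ : O) ⟨o.out, MulAction.mem_orbit_self _⟩)
      set F := Finset.univ.filter (fun c : G ⧸ (P : Subgroup G) => c ∈ O ∧ x • c = c) with hF
      have hFcard : p ∣ F.card := by
        have he : Nat.card (MulAction.fixedPoints (Subgroup.zpowers (⟨x, hx⟩ : (P : Subgroup G))) O) = F.card := by
          rw [← Fintype.card_coe, ← Nat.card_eq_fintype_card]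
          refine Nat.card_congr
            { toFun := fun c => ⟨c.1.1, Finset.mem_filter.2 ⟨Finset.mem_univ _, c.1.2,
                congrArg Subtype.val (c.2 ⟨_, Subgroup.mem_zpowers _⟩)⟩⟩
              invFun := fun c => ⟨⟨c.1, (Finset.mem_filter.1 c.2).2.1⟩, ?_⟩
              left_inv := fun c => rfl
              right_inv := fun c => rfl }
          rintro ⟨y, hy⟩
          obtain ⟨k, rfl⟩ := Subgroup.mem_zpowers_iff.1 hy
          have : (⟨x, hx⟩ : (P : Subgroup G)) ∈ MulAction.stabilizer (P : Subgroup G)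
              (⟨c.1, (Finset.mem_filter.1 c.2).2.1⟩ : O) := Subtype.ext (Finset.mem_filter.1 c.2).2.2
          exact Subgroup.zpow_mem _ this k
        rw [← he]
        exact Nat.modEq_zero_iff_dvd.1 (hcard.symm.trans (Nat.modEq_zero_iff_dvd.2 hdvd))
      have hsub : ∀ c ∈ Finset.univ.filter (fun c : G ⧸ (P : Subgroup G) =>
          (Quotient.mk'' c : MulAction.orbitRel.Quotient (P : Subgroup G) (G ⧸ (P : Subgroup G))) = o),
          c ∉ F → ψ c = 1 := by
        intro c hc hcF
        exact dif_neg fun h => hcF (Finset.mem_filter.2 ⟨Finset.mem_univ _,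
          (hmem c).1 (Finset.mem_filter.1 hc).2, (hfixiff c).2 h⟩)
      rw [← Finset.prod_subset (fun c hc => Finset.mem_filter.2 ⟨Finset.mem_univ _,
        (hmem c).2 (Finset.mem_filter.1 hc).2.1⟩) hsub]
      rcases F.eq_empty_or_nonempty with hFe | ⟨c₀, hc₀⟩
      · rw [hFe, Finset.prod_empty]
      obtain ⟨-, hc₀O, hc₀f⟩ := Finset.mem_filter.1 hc₀
      rw [Finset.prod_congr rfl (g := fun _ => ψ c₀) fun c hc => ?_, Finset.prod_const]
      · obtain ⟨m, hm⟩ := hFcard
        rw [hm, pow_mul, hout, one_pow]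
      · obtain ⟨-, hcO, hcf⟩ := Finset.mem_filter.1 hc
        obtain ⟨u, rfl⟩ : c ∈ MulAction.orbit (P : Subgroup G) c₀ := by
          rw [MulAction.orbit_eq_iff.2 hc₀O]; exact hcO
        exact hconst c₀ u hc₀f hcf
  rw [Finset.prod_congr rfl fun o _ => horb o, Finset.prod_ite, Finset.prod_const_one, mul_one,
    Finset.prod_const, Finset.filter_mem_eq_inter, Finset.univ_inter] at htr
  have hScard : S.card = Nat.card (MulAction.fixedPoints (P : Subgroup G) (G ⧸ (P : Subgroup G))) := by
    rw [← Fintype.card_coe, ← Nat.card_eq_fintype_card]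
    refine Nat.card_congr
      { toFun := fun o => ⟨o.1.out, (Finset.mem_filter.1 o.2).2⟩
        invFun := fun c => ⟨Quotient.mk'' c.1, Finset.mem_filter.2 ⟨Finset.mem_univ _, ?_⟩⟩
        left_inv := fun o => Subtype.ext (Quotient.out_eq o.1)
        right_inv := fun c => Subtype.ext ?_ }
    · obtain ⟨u, hu⟩ : Quotient.out (Quotient.mk'' c.1 : MulAction.orbitRel.Quotient (P : Subgroup G)
          (G ⧸ (P : Subgroup G))) ∈ MulAction.orbit (P : Subgroup G) c.1 :=
        Quotient.eq''.1 (Quotient.out_eq (Quotient.mk'' c.1 :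
          MulAction.orbitRel.Quotient (P : Subgroup G) (G ⧸ (P : Subgroup G))))
      rw [← hu]
      show u • c.1 ∈ _
      rw [c.2 u]
      exact c.2
    · obtain ⟨u, hu⟩ : Quotient.out (Quotient.mk'' c.1 : MulAction.orbitRel.Quotient (P : Subgroup G)
          (G ⧸ (P : Subgroup G))) ∈ MulAction.orbit (P : Subgroup G) c.1 :=
        Quotient.eq''.1 (Quotient.out_eq (Quotient.mk'' c.1 :
          MulAction.orbitRel.Quotient (P : Subgroup G) (G ⧸ (P : Subgroup G))))
      show Quotient.out _ = c.1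
      rw [← hu]
      exact c.2 u
  have hnd : ¬ p ∣ S.card := by
    rw [hScard]
    intro h
    refine P.not_dvd_index ?_
    rw [Subgroup.index_eq_card]
    exact Nat.modEq_zero_iff_dvd.1 ((P.2.card_modEq_card_fixedPoints (G ⧸ (P : Subgroup G))).trans
      (Nat.modEq_zero_iff_dvd.2 h))
  have hxp : φ ⟨x, hx⟩ ^ p = 1 := by
    rw [← map_pow, SubmonoidClass.mk_pow, hφ]
    have := hsmall p 1 ?_ (Fact.out : p.Prime).one_lt (by simpa using pow_mem hx p)
    · simpa using this
    · obtain ⟨k, hk⟩ := IsPGroup.iff_orderOf.1 P.2 ⟨x, hx⟩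
      rw [Subgroup.orderOf_mk] at hk
      rw [hk]
      refine dvd_pow_self p fun hk0 => hx1 ?_
      rw [hk0, pow_zero, orderOf_eq_one_iff] at hk
      exact hk
  rw [← hφ x hx]
  refine orderOf_eq_one_iff.1 (Nat.eq_one_of_dvd_coprimes
    ((Nat.Prime.coprime_iff_not_dvd Fact.out).2 hnd) (orderOf_dvd_of_pow_eq_one hxp)
    (orderOf_dvd_of_pow_eq_one htr))

end Cfsg.Agent.S4216
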