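import Cfsg.Statements.S4073
import Cfsg.Agent.SelfNorm.Psl
import Cfsg.Agent.S5748

set_option autoImplicit false
open Cfsg

namespace Cfsg.Agent.S4073

/-- Let G be a finite non-abelian simple group. Every non-abelian subgroup of G is self-normalizing if and only if G is isomorphic to PSL₂(2ⁿ) for some n ≥ 2 with 2ⁿ − 1 prime (this includes the alternating group of degree 5 as PSL₂(4)). -/
theorem result {G : Type*} [Group G] [Finite G] [IsSimpleGroup G]
    (hna : ¬ IsMulCommutative G) :
    (∀ H : Subgroup G, ¬ IsMulCommutative H → Subgroup.normalizer (H : Set G) = H) ↔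
    ∃ n : ℕ, 2 ≤ n ∧ (2 ^ n - 1).Prime ∧ Nonempty (G ≃* Matrix.ProjectiveSpecialLinearGroup (Fin 2) (GaloisField 2 n)) := by
  constructor
  · intro h
    obtain ⟨F, iF, iT, f, hf, hF, ⟨e⟩⟩ := Cfsg.Agent.S5748.forward hna
      (SelfNorm4073.comm_transitive h hna)
    have h2 : Fact (Nat.Prime 2) := ⟨Nat.prime_two⟩
    haveI : CharP F 2 := charP_of_card_eq_prime_pow (f := f) (by rw [hF])
    have hG : SelfNorm4073.SelfN G := fun H hH => (h H fun hc => hH (SelfNorm4073.ab_of hc)).le
    refine ⟨f, hf, SelfNorm4073.prime_of_selfN hf hF (SelfNorm4073.selfN_congr e hG), ?_⟩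
    haveI := Fintype.ofFinite (GaloisField 2 f)
    have hc : Fintype.card F = Fintype.card (GaloisField 2 f) := by
      rw [hF, ← Nat.card_eq_fintype_card (α := GaloisField 2 f), GaloisField.card 2 f (by omega)]
    exact ⟨e.trans (Cfsg.Agent.Classical.SmallIso.pslCongr (FiniteField.ringEquivOfCardEq hc))⟩
  · rintro ⟨n, hn, hp, ⟨e⟩⟩ H hH
    haveI := Fintype.ofFinite (GaloisField 2 n)
    have hq : Fintype.card (GaloisField 2 n) = 2 ^ n := by
      rw [← Nat.card_eq_fintype_card, GaloisField.card 2 n (by omega)]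
    haveI := e.toEquiv.symm.nontrivial
    haveI := IsSimpleGroup.isSimpleGroup_of_surjective e.toMonoidHom e.surjective
    refine le_antisymm ?_ Subgroup.le_normalizer
    exact SelfNorm4073.selfN_congr e.symm (SelfNorm4073.selfN_psl hn hq hp) H
      fun hc => hH (SelfNorm4073.isMulCommutative_of hc)

end Cfsg.Agent.S4073
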