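import Cfsg.Statements.S4074
import Mathlib

set_option autoImplicit false
open Cfsg

namespace Cfsg.Agent.S4074

/-- For n > 2, every non-abelian subgroup of the dihedral group of order 2n is self-normalizing if and only if n = 4 or n is odd. -/
theorem result (n : ℕ) (hn : 2 < n) :
    (∀ H : Subgroup (DihedralGroup n), ¬ IsMulCommutative H → Subgroup.normalizer (H : Set (DihedralGroup n)) = H) ↔
    (n = 4 ∨ Odd n) := by
  have : NeZero n := ⟨by omega⟩
  constructor
  · intro h
    by_contra hn4
    push Not at hn4
    obtain ⟨hne, hodd⟩ := hn4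
    obtain ⟨m, hm⟩ := Nat.not_odd_iff_even.mp hodd
    have hdvd : 2 ∣ n := ⟨m, by omega⟩
    let φ := ZMod.castHom hdvd (ZMod 2)
    let χ : DihedralGroup n →* Multiplicative (ZMod 2) := MonoidHom.mk'
      (fun g => match g with
        | .r i => Multiplicative.ofAdd (φ i)
        | .sr i => Multiplicative.ofAdd (φ i))
      (by
        have h2 : ∀ a b : ZMod 2, a - b = b + a := by decide
        rintro (i | i) (j | j) <;> simp [← ofAdd_add, h2, add_comm])
    have h2r : DihedralGroup.r (2 : ZMod n) ∈ χ.ker := by
      have h2 : φ (2 : ZMod n) = 0 := by rw [map_ofNat]; rfl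
      simp [MonoidHom.mem_ker, χ, h2]
    have h0 : DihedralGroup.sr (0 : ZMod n) ∈ χ.ker := by
      simp [MonoidHom.mem_ker, χ]
    have hna : ¬ IsMulCommutative χ.ker := by
      intro hab
      have := congrArg Subtype.val (hab.is_comm.comm ⟨_, h2r⟩ ⟨_, h0⟩)
      simp only [Subgroup.coe_mul, DihedralGroup.r_mul_sr, DihedralGroup.sr_mul_r,
        DihedralGroup.sr.injEq] at this
      have h4 : ((4 : ℕ) : ZMod n) = 0 := by
        push_cast
        linear_combination -this
      rw [ZMod.natCast_eq_zero_iff] at h4
      have := Nat.le_of_dvd (by omega) h4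
      omega
    have htop : (⊤ : Subgroup (DihedralGroup n)) ≤ χ.ker := by
      rw [← h χ.ker hna, Subgroup.normalizer_eq_top]
    have := htop (Subgroup.mem_top (DihedralGroup.r (1 : ZMod n)))
    simp [MonoidHom.mem_ker, χ] at this
  · intro h H hna
    refine le_antisymm ?_ Subgroup.le_normalizer
    -- a non-abelian subgroup contains a reflection and a rotation of order above two
    obtain ⟨j, hj⟩ : ∃ j, DihedralGroup.sr j ∈ H := by
      by_contra hno
      push Not at hno
      apply hna
      refine ⟨⟨?_⟩⟩
      rintro ⟨x, hx⟩ ⟨y, hy⟩
      rcases x with a | a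
      · rcases y with b | b
        · exact Subtype.ext (by simp [add_comm])
        · exact absurd hy (hno b)
      · exact absurd hx (hno a)
    rcases h with rfl | hodd
    · intro x hx
      by_contra hxH
      have hlt : H ≠ ⊤ := fun h => hxH (h ▸ Subgroup.mem_top x)
      apply hna
      have hc : Nat.card H ∣ 8 := by
        have h8 := H.card_subgroup_dvd_card
        rwa [DihedralGroup.nat_card] at h8
      have h4 : Nat.card H ≤ 4 := by
        have hlt' : Nat.card H < 8 := by
          by_contra hge
          apply hlt
          apply Subgroup.eq_top_of_le_card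
          rw [DihedralGroup.nat_card]
          omega
        have := Nat.le_of_dvd (by norm_num) hc
        rcases hc with ⟨e, he⟩
        interval_cases hN : Nat.card H <;> omega
      have hpos : 0 < Nat.card H := Nat.card_pos
      interval_cases hN : Nat.card H
      · have : Subsingleton H := (Nat.card_eq_one_iff_unique.mp hN).1
        exact ⟨⟨fun a b => Subsingleton.elim _ _⟩⟩
      · have : Fact (Nat.Prime 2) := ⟨Nat.prime_two⟩
        have := isCyclic_of_prime_card hN
        exact IsCyclic.isMulCommutative
      · exact absurd hc (by norm_num)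
      · have : Fact (Nat.Prime 2) := ⟨Nat.prime_two⟩
        exact IsPGroup.isMulCommutative_of_card_eq_prime_sq (p := 2) (by rw [hN]; norm_num)
    · intro x hx
      rw [Subgroup.mem_normalizer_iff] at hx
      obtain ⟨k, hk⟩ := hodd
      have hhalf : ∀ i : ZMod n, ((k + 1 : ℕ) : ZMod n) * (2 * i) = i := by
        intro i
        have h2 : ((2 * k + 1 : ℕ) : ZMod n) = 0 := by rw [← hk, ZMod.natCast_self]
        push_cast at h2 ⊢
        linear_combination i * h2
      have hpow : ∀ i : ZMod n, DihedralGroup.r (2 * i) ∈ H → DihedralGroup.r i ∈ H := by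
        intro i hi
        have := pow_mem hi (k + 1)
        rwa [DihedralGroup.r_pow, mul_comm, hhalf] at this
      rcases x with i | i
      · apply hpow
        have h1 := (hx _).mp hj
        have h2 := mul_mem h1 hj
        simp only [DihedralGroup.inv_r, DihedralGroup.r_mul_sr, DihedralGroup.sr_mul_r,
          DihedralGroup.sr_mul_sr] at h2
        convert h2 using 2
        ring
      · have h1 := (hx _).mp hj
        have h2 := mul_mem h1 hj
        simp only [DihedralGroup.inv_sr, DihedralGroup.sr_mul_sr, DihedralGroup.r_mul_sr] at h2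
        have h3 : DihedralGroup.r (2 * (j - i)) ∈ H := by
          convert h2 using 2
          ring
        have h4 := mul_mem hj (inv_mem (hpow _ h3))
        simp only [DihedralGroup.inv_r, DihedralGroup.sr_mul_r] at h4
        convert h4 using 2
        ring

end Cfsg.Agent.S4074
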