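import Cfsg.Statements.S4075
import Mathlib

set_option autoImplicit false
open Cfsg

namespace Cfsg.Agent.S4075

/-- Let G be a finite nilpotent group. Every non-abelian subgroup of G is self-normalizing if and only if G is abelian or G is a minimal non-abelian p-group for some prime p (non-abelian of prime-power order with every proper subgroup abelian). -/
theorem result {G : Type*} [Group G] [Finite G]
    [Group.IsNilpotent G] :
    (∀ H : Subgroup G, ¬ IsMulCommutative H → Subgroup.normalizer (H : Set G) = H) ↔
    (IsMulCommutative G ∨ (IsPrimePow (Nat.card G) ∧ ¬ IsMulCommutative G ∧ ∀ H : Subgroup G, H ≠ ⊤ → IsMulCommutative H)) := by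
  constructor
  · intro h
    by_cases hab : IsMulCommutative G
    · exact Or.inl hab
    have hprop : ∀ H : Subgroup G, H ≠ ⊤ → IsMulCommutative H := by
      intro H hH
      by_contra hna
      have := Group.normalizerCondition_of_isNilpotent H (lt_top_iff_ne_top.mpr hH)
      rw [h H hna] at this
      exact lt_irrefl _ this
    refine Or.inr ⟨?_, hab, hprop⟩
    by_contra hpp
    obtain ⟨e⟩ := (Group.isNilpotent_of_finite_tfae (G := G)).out 0 4 rfl rfl |>.mp ‹_›
    apply hab
    have hS : ∀ (p : (Nat.card G).primeFactors) (P : Sylow p G), IsMulCommutative (P : Subgroup G) := by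
      intro p P
      have : Fact (p : ℕ).Prime := ⟨Nat.prime_of_mem_primeFactors p.2⟩
      refine hprop _ fun htop => hpp ?_
      obtain ⟨k, hk⟩ := P.2.exists_card_eq
      rw [htop, Subgroup.card_top] at hk
      have hk0 : k ≠ 0 := by
        rintro rfl
        rw [pow_zero] at hk
        exact (Nat.prime_of_mem_primeFactors p.2).not_dvd_one
          ((Nat.mem_primeFactors.mp p.2).2.1.trans (dvd_of_eq hk))
      rw [hk]
      exact (Nat.prime_of_mem_primeFactors p.2).isPrimePow.pow hk0
    refine ⟨⟨fun a b => ?_⟩⟩
    apply e.symm.injective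
    rw [map_mul, map_mul]
    funext p P
    exact (hS p P).is_comm.comm _ _
  · intro h H hna
    by_cases hH : H = ⊤
    · subst hH
      exact eq_top_iff.mpr Subgroup.le_normalizer
    rcases h with hab | ⟨-, -, hall⟩
    · exact absurd (⟨⟨fun a b => Subtype.ext (hab.is_comm.comm a.1 b.1)⟩⟩ : IsMulCommutative H) hna
    · exact absurd (hall H hH) hna

end Cfsg.Agent.S4075
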