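import Cfsg.Statements.S4079
import Cfsg.Agent.Lib.Components.MetacyclicOmega
import Cfsg.Agent.Lib.PLocal.CyclicExtension

set_option linter.all false

set_option autoImplicit false
open Cfsg

namespace Cfsg.Agent.S4079

open Subgroup Cfsg.Agent.Components Cfsg.Agent.Components.MetacyclicOmega
open scoped commutatorElement

universe u

/-- fixed points -/
def fixSub {L : Type u} [Group L] (a : MulAut L) : Subgroup L :=
  MonoidHom.eqLocus a.toMonoidHom (MonoidHom.id L)

lemma mem_fixSub {L : Type u} [Group L] (a : MulAut L) (x : L) : x ∈ fixSub a ↔ a x = x := Iff.rfl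

lemma fixed_dvd {L : Type u} [Group L] [Finite L] {p : ℕ} [hp : Fact p.Prime] (a : MulAut L) (ha : a ^ p = 1)
    (H : Subgroup L) (hH : ∀ x ∈ H, a x ∈ H) (hd : p ∣ Nat.card H) :
    p ∣ Nat.card (H ⊓ fixSub a : Subgroup L) := by
  classical
  have hiff : ∀ x, a x ∈ H ↔ x ∈ H := by
    have hm : H.map a.toMonoidHom = H := by
      refine eq_of_le_of_card_ge (by rintro _ ⟨x, hx, rfl⟩; exact hH x hx) ?_
      rw [Nat.card_congr (equivMapOfInjective H a.toMonoidHom a.injective).toEquiv.symm]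
    refine fun x => ⟨fun h => ?_, hH x⟩
    rw [← hm] at h
    obtain ⟨y, hy, hxy⟩ := h
    exact a.injective hxy ▸ hy
  let σ : Equiv.Perm H := Equiv.Perm.subtypePerm a.toEquiv hiff
  have hk : ∀ (k : ℕ) (x : H), (((σ ^ k) x : H) : L) = (a ^ k) (x : L) := by
    intro k
    induction k with
    | zero => intro x; rfl
    | succ k ih =>
      intro x
      rw [pow_succ', pow_succ', MulAut.mul_apply, ← ih x]
      rfl
  have hσ : σ ^ p ^ 1 = 1 := Equiv.ext fun x => Subtype.ext (by rw [pow_one, hk, ha]; rfl)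
  haveI : Fintype H := Fintype.ofFinite _
  have h := Equiv.Perm.card_compl_support_modEq hσ
  rw [← Nat.card_eq_fintype_card] at h
  have h' : σ.supportᶜ.card = Nat.card (H ⊓ fixSub a : Subgroup L) := by
    rw [← Nat.card_eq_finsetCard]
    refine Nat.card_congr
      { toFun := fun x => ⟨(x.1 : L), x.1.2, by
          have := Equiv.Perm.notMem_support.mp (Finset.mem_compl.mp x.2)
          exact congrArg Subtype.val this⟩
        invFun := fun y => ⟨⟨y.1, y.2.1⟩, Finset.mem_compl.mpr (Equiv.Perm.notMem_support.mpr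
          (Subtype.ext y.2.2))⟩
        left_inv := fun _ => rfl
        right_inv := fun _ => rfl }
  rw [← h']
  exact Nat.dvd_of_mod_eq_zero ((show _ % p = _ % p from h).trans (Nat.mod_eq_zero_of_dvd hd))

lemma fixed_all {L : Type u} [Group L] {a : MulAut L} {x : L} (h : a x = x) (g : zpowers a) :
    (g : MulAut L) x = x := by
  have : zpowers a ≤ MulAction.stabilizer (MulAut L) x := zpowers_le.mpr (MulAction.mem_stabilizer_iff.mpr h)
  exact MulAction.mem_stabilizer_iff.mp (this g.2)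

theorem forward {L : Type u} [Group L] [Finite L] {p : ℕ} [hp : Fact p.Prime] (hp2 : p ≠ 2) (hL : IsPGroup p L)
    (hO : MetacyclicOmega.Omega p L) (a : MulAut L) (hord : orderOf a = p) (m : ℕ) (hm : Nat.card L = p ^ m)
    (hmv : ∃ x : L, x ^ p = 1 ∧ a x ≠ x) :
    p = 3 ∧ Group.nilpotencyClass (SemidirectProduct L ↥(zpowers a) (zpowers a).subtype) = m := by
  have ha : a ^ p = 1 := by rw [← hord, pow_orderOf_eq_one]
  have hp2' : ∀ x : L, x ^ p = 1 → x ^ p ^ 2 = 1 := fun x hx => by rw [sq, pow_mul, hx, one_pow]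
  let E : Subgroup L :=
    { carrier := {x | x ^ p = 1}
      one_mem' := one_pow p
      mul_mem' := fun {x y} hx hy => by
        show (x * y) ^ p = 1
        rw [hO.mul_pow x y (hp2' x hx) (hp2' y hy), show x ^ p = 1 from hx, show y ^ p = 1 from hy, one_mul]
      inv_mem' := fun {x} hx => by
        show x⁻¹ ^ p = 1
        rw [inv_pow, show x ^ p = 1 from hx, inv_one] }
  have hEm : ∀ x, x ∈ E ↔ x ^ p = 1 := fun x => Iff.rfl
  have hE : Nat.card E = p ^ 2 := hO.card
  have haE : ∀ x ∈ E, a x ∈ E := fun x hx => by rw [hEm] at hx ⊢; rw [← map_pow, hx, map_one]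
  have hcomm : ∀ x ∈ E, ∀ y : L, y ^ p ^ 2 = 1 → Commute x y := fun x hx y hy => hO.central x y hx hy
  have hEc : ∀ x ∈ E, ∀ y ∈ E, Commute x y := fun x hx y hy => hcomm x hx y (hp2' y hy)
  -- the fixed part
  set F : Subgroup L := E ⊓ fixSub a with hF
  have hFc : Nat.card F = p := by
    have h1 : p ∣ Nat.card F := fixed_dvd a ha E haE (by rw [hE]; exact dvd_pow_self p two_ne_zero)
    obtain ⟨j, hj, hjc⟩ := (Nat.dvd_prime_pow hp.out).mp (hE ▸ card_dvd_of_le (inf_le_left : F ≤ E))
    interval_cases j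
    · rw [hjc, pow_zero] at h1; exact absurd h1 hp.out.not_dvd_one
    · rw [hjc, pow_one]
    · obtain ⟨x, hx, hne⟩ := hmv
      have : F = E := eq_of_le_of_card_ge inf_le_left (by rw [hjc, hE])
      exact absurd (this.ge ((hEm x).mpr hx)).2 hne
  let δ : L → L := fun x => x⁻¹ * a x
  have hδ : ∀ x, δ x = x⁻¹ * a x := fun x => rfl
  have hδE : ∀ x ∈ E, δ x ∈ E := fun x hx => mul_mem (inv_mem hx) (haE x hx)
  have hδmul : ∀ x ∈ E, ∀ y ∈ E, δ (x * y) = δ x * δ y := fun x hx y hy => by
    rw [hδ (x * y), map_mul, mul_inv_rev]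
    calc y⁻¹ * x⁻¹ * (a x * a y) = y⁻¹ * (δ x) * a y := by rw [hδ]; group
      _ = δ x * δ y := by rw [(hEc _ (inv_mem hy) _ (hδE x hx)).eq, hδ y, mul_assoc]
  let d : E →* L := MonoidHom.mk' (fun x => δ x) fun x y => hδmul x x.2 y y.2
  have hker : d.ker = F.subgroupOf E := by
    ext x
    rw [MonoidHom.mem_ker, mem_subgroupOf]
    show (x : L)⁻¹ * a x = 1 ↔ _
    rw [inv_mul_eq_one]
    exact ⟨fun h => ⟨x.2, h.symm⟩, fun h => h.2.symm⟩
  have hrc : Nat.card d.range = p := by
    have h := card_eq_card_quotient_mul_card_subgroup d.ker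
    rw [Nat.card_congr (QuotientGroup.quotientKerEquivRange d).toEquiv, hE, hker,
      Nat.card_congr (subgroupOfEquivOfLe (inf_le_left : F ≤ E)).toEquiv, hFc, sq] at h
    exact (Nat.eq_of_mul_eq_mul_right hp.out.pos h).symm
  have hDF : d.range = F := by
    have h1 := fixed_dvd a ha d.range (by
      rintro _ ⟨x, rfl⟩
      exact ⟨⟨a x, haE x x.2⟩, by show (a (x : L))⁻¹ * a (a x) = a ((x : L)⁻¹ * a x); rw [map_mul, map_inv]⟩)
      (by rw [hrc])
    have h2 : d.range ⊓ fixSub a = d.range := eq_of_le_of_card_ge inf_le_left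
      (by rw [hrc]; exact Nat.le_of_dvd Nat.card_pos h1)
    have h3 : d.range ≤ F := by
      rintro _ ⟨x, rfl⟩
      exact ⟨hδE x x.2, (h2.ge ⟨x, rfl⟩).2⟩
    exact eq_of_le_of_card_ge h3 (by rw [hrc, hFc])
  have hδF : ∀ x ∈ E, δ x ∈ F := fun x hx => hDF ▸ ⟨⟨x, hx⟩, rfl⟩
  have hFfix : ∀ x ∈ F, a x = x := fun x hx => hx.2
  -- the iteration
  have hinv : ∀ z : L, z ^ p ^ 2 = 1 → z⁻¹ ^ p ^ 2 = 1 := fun z hz => by rw [inv_pow, hz, inv_one]
  have haT : ∀ z : L, z ^ p ^ 2 = 1 → (a z) ^ p ^ 2 = 1 := fun z hz => by rw [← map_pow, hz, map_one]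
  have hδT : ∀ z : L, z ^ p ^ 2 = 1 → (δ z) ^ p ^ 2 = 1 := fun z hz => hO.mul_mem _ _ (hinv z hz) (haT z hz)
  have hδp : ∀ z : L, z ^ p ^ 2 = 1 → (δ z) ^ p = δ (z ^ p) := fun z hz => by
    rw [hδ, hδ, hO.mul_pow _ _ (hinv z hz) (haT z hz), map_pow, inv_pow]
  have hzE : ∀ z : L, z ^ p ^ 2 = 1 → z ^ p ∈ E := fun z hz => by rw [hEm, ← pow_mul, ← sq, hz]
  have hδ2 : ∀ z : L, z ^ p ^ 2 = 1 → δ (δ z) ∈ E := fun z hz => by
    rw [hEm, hδp _ (hδT z hz), hδp z hz, hδ (δ (z ^ p)), hFfix _ (hδF _ (hzE z hz)), inv_mul_cancel]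
  have hrel : ∀ z : L, z ^ p ^ 2 = 1 → (δ z) ^ p * δ (δ (δ z)) ^ p.choose 3 = 1 := by
    intro z hz
    have h1 : a z = z * δ z := by rw [hδ, mul_inv_cancel_left]
    have h2 : a (δ z) = δ z * δ (δ z) := by rw [hδ (δ z), mul_inv_cancel_left]
    have h3 : a (δ (δ z)) = δ (δ z) * δ (δ (δ z)) := by rw [hδ (δ (δ z)), mul_inv_cancel_left]
    have h4 : a (δ (δ (δ z))) = δ (δ (δ z)) := hFfix _ (hδF _ (hδ2 z hz))
    have c12 : Commute (δ z) (δ (δ z)) := (hcomm _ (hδ2 z hz) _ (hδT z hz)).symm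
    have c23 : Commute (δ (δ z)) (δ (δ (δ z))) := hEc _ (hδ2 z hz) _ (hδF _ (hδ2 z hz)).1
    have key : ∀ k : ℕ, (a ^ k) z = z * δ z ^ k * δ (δ z) ^ k.choose 2 * δ (δ (δ z)) ^ k.choose 3 := by
      intro k
      induction k with
      | zero => simp
      | succ k ih =>
        rw [pow_succ' a k, MulAut.mul_apply, ih, map_mul, map_mul, map_mul, map_pow, map_pow, map_pow, h4, h1,
          h2, h3, c12.mul_pow, c23.mul_pow, Nat.choose_succ_succ' k 1, Nat.choose_succ_succ' k 2,
          Nat.choose_one_right, pow_succ' (δ z) k, pow_add, pow_add]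
        simp only [mul_assoc]
    have h := key p
    rw [ha, MulAut.one_apply] at h
    obtain ⟨q, hq⟩ := hp.out.dvd_choose_self two_ne_zero (lt_of_le_of_ne hp.out.two_le (Ne.symm hp2))
    rw [hq, pow_mul, show δ (δ z) ^ p = 1 from hδ2 z hz, one_pow, mul_one, mul_assoc] at h
    exact mul_eq_left.mp h.symm
  have hcontra : (∀ z : L, z ^ p ^ 2 = 1 → (δ z) ^ p = 1) → False := by
    intro h
    obtain ⟨x, hx, hne⟩ := hmv
    obtain ⟨z, hz, hzx⟩ := hO.root x hx
    have h' := h z hz
    rw [hδp z hz, hzx, hδ, inv_mul_eq_one] at h'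
    exact hne h'.symm
  have hp3 : p = 3 := by
    by_contra hne
    have h3 : 3 < p := by
      have := hp.out.two_le
      omega
    obtain ⟨q, hq⟩ := hp.out.dvd_choose_self three_ne_zero h3
    refine hcontra fun z hz => ?_
    have h := hrel z hz
    rwa [hq, pow_mul, show δ (δ (δ z)) ^ p = 1 from (hδF _ (hδ2 z hz)).1, one_pow, mul_one] at h
  refine ⟨hp3, ?_⟩
  -- the fixed points lie in `E`
  have hfixE : ∀ c : L, a c = c → c ∈ E := by
    intro c hc
    by_contra hcE
    obtain ⟨k, hk⟩ := (IsPGroup.iff_orderOf.mp hL) c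
    have hk2 : 2 ≤ k := by
      by_contra hlt
      refine hcE ((hEm c).mpr (orderOf_dvd_iff_pow_eq_one.mp ?_))
      rw [hk]
      exact (pow_dvd_pow p (show k ≤ 1 by omega)).trans (pow_one p).dvd
    set z := c ^ p ^ (k - 2) with hzdef
    have hzo : orderOf z = p ^ 2 := by
      rw [hzdef, orderOf_pow_of_dvd (pow_pos hp.out.pos _).ne' (by rw [hk]; exact pow_dvd_pow p (Nat.sub_le k 2)),
        hk, Nat.pow_div (Nat.sub_le k 2) hp.out.pos, show k - (k - 2) = 2 by omega]
    have hz2 : z ^ p ^ 2 = 1 := by rw [← hzo, pow_orderOf_eq_one]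
    have hza : a z = z := by rw [hzdef, map_pow, hc]
    have hzpF : z ^ p ∈ F := ⟨hzE z hz2, by show a (z ^ p) = z ^ p; rw [map_pow, hza]⟩
    have hgen : zpowers (z ^ p) = F := by
      refine eq_of_le_of_card_ge (zpowers_le.mpr hzpF) (le_of_eq ?_)
      rw [hFc, Nat.card_zpowers, orderOf_pow_of_dvd hp.out.ne_zero (by rw [hzo]; exact dvd_pow_self p two_ne_zero),
        hzo, sq, Nat.mul_div_cancel _ hp.out.pos]
    refine hcontra fun w hw => ?_
    have hwF : δ w ^ p ∈ F := by rw [hδp w hw]; exact hδF _ (hzE w hw)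
    obtain ⟨j, hj⟩ := mem_zpowers_iff.mp (hgen ▸ hwF)
    have hzjT : (z ^ j) ^ p ^ 2 = 1 := by rw [← zpow_natCast, zpow_comm, zpow_natCast, hz2, one_zpow]
    have he : δ w * (z ^ j)⁻¹ ∈ E := by
      rw [hEm, hO.mul_pow _ _ (hδT w hw) (hinv _ hzjT), ← hj, inv_pow, ← zpow_natCast (z ^ j), zpow_comm,
        zpow_natCast, mul_inv_cancel]
    have h2 : δ (δ w) = δ (δ w * (z ^ j)⁻¹) := by
      have hazj : a ((z ^ j)⁻¹) = (z ^ j)⁻¹ := by rw [map_inv, map_zpow, hza]
      rw [hδ (δ w * (z ^ j)⁻¹), map_mul, hazj, mul_inv_rev, inv_inv]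
      calc δ (δ w) = δ (δ w) * (z ^ j * (z ^ j)⁻¹) := by rw [mul_inv_cancel, mul_one]
        _ = z ^ j * δ (δ w) * (z ^ j)⁻¹ := by rw [← mul_assoc, (hcomm _ (hδ2 w hw) _ hzjT).eq]
        _ = _ := by rw [hδ (δ w)]; simp only [mul_assoc]
    have h3 : δ (δ (δ w)) = 1 := by
      rw [h2, hδ (δ (δ w * _)), hFfix _ (hδF _ he), inv_mul_cancel]
    simpa [h3] using hrel w hw
  -- maximal class
  haveI : Finite (SemidirectProduct L ↥(zpowers a) (zpowers a).subtype) :=
    Finite.of_equiv _ SemidirectProduct.equivProd.symm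
  let B : Subgroup (SemidirectProduct L ↥(zpowers a) (zpowers a).subtype) :=
    { carrier := {j | j.left ∈ F}
      one_mem' := one_mem F
      mul_mem' := fun {x y} hx hy => by
        show (x * y).left ∈ F
        rw [SemidirectProduct.mul_left]
        show x.left * (x.right : MulAut L) y.left ∈ F
        rw [fixed_all (Subgroup.mem_inf.mp hy).2 x.right]
        exact mul_mem hx hy
      inv_mem' := fun {x} hx => by
        show x⁻¹.left ∈ F
        rw [SemidirectProduct.inv_left]
        show (x.right⁻¹ : zpowers a).1 x.left⁻¹ ∈ F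
        rw [fixed_all (Subgroup.mem_inf.mp (inv_mem hx : x.left⁻¹ ∈ F)).2]
        exact (inv_mem hx : x.left⁻¹ ∈ F) }
  have hB : Nat.card B = p ^ 2 := by
    have e : Nat.card B = Nat.card (F × zpowers a) := Nat.card_congr
      { toFun := fun j => (⟨j.1.left, j.2⟩, j.1.right)
        invFun := fun q => ⟨⟨q.1.1, q.2⟩, q.1.2⟩
        left_inv := fun _ => rfl
        right_inv := fun _ => rfl }
    rw [e, Nat.card_prod, hFc, Nat.card_zpowers, hord, sq]
  have hCB : centralizer (B : Set (SemidirectProduct L ↥(zpowers a) (zpowers a).subtype)) = B := by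
    refine le_antisymm (fun j hj => ?_) fun j hj => mem_centralizer_iff.mpr fun i hi =>
      congrArg Subtype.val (Cfsg.Agent.GStructB.MaxClass.comm_of_card (p := p) le_rfl hB ⟨i, hi⟩ ⟨j, hj⟩)
    have h := congrArg SemidirectProduct.left (mem_centralizer_iff.mp hj
      (SemidirectProduct.inr ⟨a, mem_zpowers a⟩) (one_mem F))
    simp only [SemidirectProduct.mul_left, SemidirectProduct.left_inr, SemidirectProduct.right_inr,
      one_mul, map_one, mul_one, Subgroup.coe_subtype] at h
    exact ⟨hfixE _ h, h⟩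
  have hJ : Nat.card (SemidirectProduct L ↥(zpowers a) (zpowers a).subtype) = p ^ (m + 1) := by
    rw [SemidirectProduct.card, hm, Nat.card_zpowers, hord, pow_succ]
  exact ((Cfsg.Agent.GStructB.MaxClass.class_aux (m + 1)).1 _ hJ B hB hCB).trans (Nat.add_sub_cancel m 1)

theorem backward {L : Type u} [Group L] [Finite L] {p : ℕ} [hp : Fact p.Prime] (hL : IsPGroup p L)
    (hne : Nontrivial L) (hnc : ∀ C : Subgroup L, IsCyclic C → C.index ≠ p) (hO : MetacyclicOmega.Omega p L)
    (A : Subgroup L) (hAc : IsCyclic A) (hA : commutator L ≤ A) (a : MulAut L) (hord : orderOf a = p)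
    (m : ℕ) (hm : Nat.card L = p ^ m)
    (hcl : Group.nilpotencyClass (SemidirectProduct L ↥(zpowers a) (zpowers a).subtype) = m)
    (hfix : ∀ x : L, x ^ p = 1 → a x = x) : False := by
  have hp2' : ∀ x : L, x ^ p = 1 → x ^ p ^ 2 = 1 := fun x hx => by rw [sq, pow_mul, hx, one_pow]
  let E : Subgroup L :=
    { carrier := {x | x ^ p = 1}
      one_mem' := one_pow p
      mul_mem' := fun {x y} hx hy => by
        show (x * y) ^ p = 1
        rw [hO.mul_pow x y (hp2' x hx) (hp2' y hy), show x ^ p = 1 from hx, show y ^ p = 1 from hy, one_mul]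
      inv_mem' := fun {x} hx => by
        show x⁻¹ ^ p = 1
        rw [inv_pow, show x ^ p = 1 from hx, inv_one] }
  have hE : Nat.card E = p ^ 2 := hO.card
  have hm3 : 3 ≤ m := by
    obtain ⟨g, hg⟩ := exists_ne (1 : L)
    obtain ⟨k, hk⟩ := (IsPGroup.iff_orderOf.mp hL) g
    have hk1 : k ≠ 0 := fun h => hg (orderOf_eq_one_iff.mp (by rw [hk, h, pow_zero]))
    have h := no_big hL hnc hne g
    rw [hk, hm, ← pow_add] at h
    have := (Nat.pow_le_pow_iff_right hp.out.one_lt).mp h
    omega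
  set J := SemidirectProduct L ↥(zpowers a) (zpowers a).subtype with hJdef
  have hJ : Nat.card J = p ^ (m + 1) := by
    rw [hJdef, SemidirectProduct.card, hm, Nat.card_zpowers, hord, pow_succ]
  haveI : Finite J := Finite.of_equiv _ SemidirectProduct.equivProd.symm
  let ι : L →* J := SemidirectProduct.inl
  have hι : Function.Injective ι := SemidirectProduct.inl_injective
  have hrange : (ι.range).Normal := by
    show (SemidirectProduct.inl : L →* J).range.Normal
    rw [SemidirectProduct.range_inl_eq_ker_rightHom]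
    exact MonoidHom.normal_ker _
  have hconj : ∀ (j : J) (x : L), ∃ y : L, j * ι x * j⁻¹ = ι y := fun j x =>
    let ⟨y, hy⟩ := hrange.conj_mem _ ⟨x, rfl⟩ j; ⟨y, hy.symm⟩
  have hconjn : ∀ (j : J) (x y : L) (n : ℕ), j * ι x * j⁻¹ = ι y → x ^ n = 1 → y ^ n = 1 := by
    intro j x y n h hx
    refine hι ?_
    rw [map_pow, ← h, conj_pow, ← map_pow, hx, map_one, mul_one, mul_inv_cancel]
  have hEn : (E.map ι).Normal := ⟨by
    rintro _ ⟨x, hx, rfl⟩ j
    obtain ⟨y, hy⟩ := hconj j x
    exact ⟨y, hconjn j x y p hy hx, hy.symm⟩⟩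
  have hindex : ∀ N : Subgroup J, Nat.card N = p ^ 2 → N.index = p ^ (m - 1) := fun N hN => by
    refine Nat.eq_of_mul_eq_mul_left (pow_pos hp.out.pos 2) ?_
    rw [← hN, N.card_mul_index, hJ, hN, ← pow_add]
    congr 1
    omega
  have hEι : Nat.card (E.map ι) = p ^ 2 := by
    rw [← Nat.card_congr (equivMapOfInjective E ι hι).toEquiv, hE]
  have huniq : ∀ N : Subgroup J, N.Normal → Nat.card N = p ^ 2 → N = E.map ι := by
    intro N hN hNc
    haveI := hN
    haveI := hEn
    have hcl' : Group.nilpotencyClass J = m + 1 - 1 := hcl.trans (Nat.add_sub_cancel m 1).symm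
    rw [Cfsg.Agent.PGroups.MaximalClass.normal_eq_lcs (r := m - 1) (by omega) hJ hcl' N (by omega) (hindex N hNc),
      Cfsg.Agent.PGroups.MaximalClass.normal_eq_lcs (r := m - 1) (by omega) hJ hcl' (E.map ι) (by omega)
        (hindex _ hEι)]
  -- the derived subgroup is small
  have hD : ∀ x ∈ commutator L, x ^ p = 1 := by
    intro x hx
    by_contra hxp
    obtain ⟨k, hk⟩ := (IsPGroup.iff_orderOf.mp hL) x
    have hk2 : 2 ≤ k := by
      by_contra hlt
      refine hxp (orderOf_dvd_iff_pow_eq_one.mp ?_)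
      rw [hk]
      exact (pow_dvd_pow p (show k ≤ 1 by omega)).trans (pow_one p).dvd
    set w := x ^ p ^ (k - 2) with hwdef
    have hwo : orderOf w = p ^ 2 := by
      rw [hwdef, orderOf_pow_of_dvd (pow_pos hp.out.pos _).ne' (by rw [hk]; exact pow_dvd_pow p (Nat.sub_le k 2)),
        hk, Nat.pow_div (Nat.sub_le k 2) hp.out.pos, show k - (k - 2) = 2 by omega]
    have hwD : w ∈ commutator L := pow_mem hx _
    haveI := hAc
    have hAcomm : ∀ y ∈ A, ∀ z ∈ A, Commute y z := fun y hy z hz => by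
      letI : CommGroup A := IsCyclic.commGroup
      exact congrArg Subtype.val (mul_comm (⟨y, hy⟩ : A) ⟨z, hz⟩)
    let K : Subgroup L :=
      { carrier := {y | y ∈ commutator L ∧ y ^ p ^ 2 = 1}
        one_mem' := ⟨one_mem _, one_pow _⟩
        mul_mem' := fun {y z} hy hz => ⟨mul_mem hy.1 hz.1, by
          rw [(hAcomm _ (hA hy.1) _ (hA hz.1)).mul_pow, hy.2, hz.2, one_mul]⟩
        inv_mem' := fun {y} hy => ⟨inv_mem hy.1, by rw [inv_pow, hy.2, inv_one]⟩ }
    have hDn : ((commutator L).map ι).Normal := by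
      haveI := hrange
      rw [_root_.commutator_def, map_commutator, ← MonoidHom.range_eq_map]
      exact commutator_normal _ _
    have hKn : (K.map ι).Normal := ⟨by
      rintro _ ⟨y, hy, rfl⟩ j
      obtain ⟨z, hz⟩ := hconj j y
      obtain ⟨z', hz', e⟩ := hDn.conj_mem _ ⟨y, hy.1, rfl⟩ j
      exact ⟨z, ⟨hι (e.trans hz) ▸ hz', hconjn j y z _ hz hy.2⟩, hz.symm⟩⟩
    have hKc : Nat.card K = p ^ 2 := by
      refine le_antisymm ?_ ?_
      · classical
        haveI : Fintype A := Fintype.ofFinite _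
        calc Nat.card K ≤ Nat.card {y : A | y ^ p ^ 2 = 1} := by
              refine Nat.card_le_card_of_injective (fun y => ⟨⟨y.1, hA y.2.1⟩, Subtype.ext y.2.2⟩) ?_
              intro y z h
              exact Subtype.ext (congrArg (fun u : {y : A | y ^ p ^ 2 = 1} => ((u : A) : L)) h)
          _ ≤ p ^ 2 := by
              rw [Nat.card_eq_fintype_card, Fintype.card_subtype]
              exact IsCyclic.card_pow_eq_one_le (pow_pos hp.out.pos 2)
      · have hle : zpowers w ≤ K := zpowers_le.mpr ⟨hwD, by rw [← hwo, pow_orderOf_eq_one]⟩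
        calc p ^ 2 = Nat.card (zpowers w) := by rw [Nat.card_zpowers, hwo]
          _ ≤ Nat.card K := Subgroup.card_le_of_le hle
    have hKι : Nat.card (K.map ι) = p ^ 2 := by
      rw [← Nat.card_congr (equivMapOfInjective K ι hι).toEquiv, hKc]
    have hw : ι w ∈ E.map ι := huniq _ hKn hKι ▸ ⟨w, ⟨hwD, by rw [← hwo, pow_orderOf_eq_one]⟩, rfl⟩
    obtain ⟨w', hw', e⟩ := hw
    have h1 : w ^ p = 1 := hι e ▸ hw'
    have h2 := Nat.le_of_dvd hp.out.pos (hwo ▸ orderOf_dvd_of_pow_eq_one h1)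
    have h3 : p < p ^ 2 := lt_self_pow₀ hp.out.one_lt (by norm_num)
    omega
  have hDc : commutator L ≤ center L := by
    haveI := hAc
    rcases eq_or_ne (commutator L) ⊥ with h | h
    · rw [h]; exact bot_le
    refine Cfsg.Agent.PLocal.CyclicExtension.le_center_of_card_eq hL (le_antisymm ?_ ?_)
    · classical
      haveI : Fintype A := Fintype.ofFinite _
      calc Nat.card (commutator L) ≤ Nat.card {y : A | y ^ p = 1} := by
            refine Nat.card_le_card_of_injective
              (fun y => ⟨⟨y.1, hA y.2⟩, Subtype.ext (hD y.1 y.2)⟩) ?_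
            intro y z h
            exact Subtype.ext (congrArg (fun u : {y : A | y ^ p = 1} => ((u : A) : L)) h)
        _ ≤ p := by
            rw [Nat.card_eq_fintype_card, Fintype.card_subtype]
            exact IsCyclic.card_pow_eq_one_le hp.out.pos
    · obtain ⟨x, hx, hx1⟩ := (Subgroup.bot_or_exists_ne_one _).resolve_left h
      calc p = Nat.card (zpowers x) := by rw [Nat.card_zpowers, orderOf_eq_prime (hD x hx) hx1]
        _ ≤ _ := Subgroup.card_le_of_le (zpowers_le.mpr hx)
  have hEZ : E.map ι ≤ center J := by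
    rintro _ ⟨x, hx, rfl⟩
    rw [mem_center_iff]
    intro j
    obtain ⟨b, -, hb⟩ := hO.root x hx
    have hc : Commute j.left x := by
      have hc1 : ⁅j.left, b⁆ ∈ commutator L := by
        rw [_root_.commutator_def]; exact commutator_mem_commutator (mem_top _) (mem_top _)
      have h1 : j.left * b * j.left⁻¹ = ⁅j.left, b⁆ * b := by rw [commutatorElement_def]; group
      have hcb : Commute ⁅j.left, b⁆ b := ((mem_center_iff.mp (hDc hc1)) b).symm
      have h2 : j.left * x * j.left⁻¹ = x := by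
        rw [← hb, ← conj_pow, h1, hcb.mul_pow, hD _ hc1, one_mul]
      exact mul_inv_eq_iff_eq_mul.mp h2
    ext1
    · show (j * ι x).left = (ι x * j).left
      simp only [ι, SemidirectProduct.mul_left, SemidirectProduct.left_inl, SemidirectProduct.right_inl,
        map_one, MulAut.one_apply]
      show j.left * (j.right : MulAut L) x = x * j.left
      rw [fixed_all (hfix x hx) j.right, hc.eq]
    · show j.right * 1 = 1 * j.right
      rw [mul_one, one_mul]
  have h := Subgroup.card_le_of_le hEZ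
  rw [hEι, (Cfsg.Agent.PGroups.MaximalClass.center_eq (p := p) (n := m + 1) (by omega) hJ
    (hcl.trans (Nat.add_sub_cancel m 1).symm)).2] at h
  have h3 : p < p ^ 2 := lt_self_pow₀ hp.out.one_lt (by norm_num)
  omega

/-- Let p be an odd prime and L a finite metacyclic p-group with no cyclic subgroup of index p, and let a be an automorphism of L of order p. Then a moves some element of order p of L if and only if p = 3 and the semidirect product L ⋊ ⟨a⟩ (of order 3·#L) has maximal class, i.e. nilpotency class m where #L = 3^m. -/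
theorem result {L : Type*} [Group L] [Finite L] {p : ℕ} [Fact p.Prime]
    (hp : p ≠ 2) (hL : IsPGroup p L) (hmc : Cfsg.IsMetacyclic L) (hnc : ∀ C : Subgroup L, IsCyclic C → C.index ≠ p)
    (a : MulAut L) (ha : orderOf a = p) (m : ℕ) (hm : Nat.card L = p ^ m) :
    (∃ x : L, orderOf x = p ∧ a x ≠ x) ↔
    (p = 3 ∧ Group.nilpotencyClass (SemidirectProduct L ↥(Subgroup.zpowers a) (Subgroup.zpowers a).subtype) = m) := by
  have hne : Nontrivial L := by
    rcases subsingleton_or_nontrivial L with h | h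
    · have : a = 1 := MulEquiv.ext fun x => Subsingleton.elim _ _
      rw [this, orderOf_one] at ha
      exact absurd ha.symm (Fact.out : p.Prime).ne_one
    · exact h
  obtain ⟨hO, A, hAc, hA⟩ := omega_of_metacyclic hp hL hmc hnc hne
  constructor
  · rintro ⟨x, hx, hax⟩
    exact forward hp hL hO a ha m hm ⟨x, by rw [← hx, pow_orderOf_eq_one], hax⟩
  · rintro ⟨-, hcl⟩
    by_contra h
    refine backward hL hne hnc hO A hAc hA a ha m hm hcl fun x hx => ?_
    rcases eq_or_ne x 1 with rfl | hx1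
    · exact map_one a
    · by_contra hax
      exact h ⟨x, orderOf_eq_prime hx hx1, hax⟩

end Cfsg.Agent.S4079
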