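import Cfsg.Statements.S4080
import Mathlib

set_option autoImplicit false
open Cfsg

namespace Cfsg.Agent.S4080

/-- Let p > 3 be a prime and L the direct product of two cyclic groups of order p². Every automorphism of L of order p fixes every element of order p of L. -/
theorem result {p : ℕ} [Fact p.Prime] (hp : 3 < p)
    (a : MulAut (Multiplicative (ZMod (p ^ 2) × ZMod (p ^ 2)))) (ha : orderOf a = p)
    (x : Multiplicative (ZMod (p ^ 2) × ZMod (p ^ 2))) (hx : orderOf x = p) : a x = x := by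
  classical
  have hp' := (Fact.out : p.Prime)
  have : NeZero (p ^ 2) := ⟨pow_ne_zero 2 hp'.ne_zero⟩
  let V := Fin 2 → ZMod (p ^ 2)
  let e : V ≃+ ZMod (p ^ 2) × ZMod (p ^ 2) := (RingEquiv.piFinTwo fun _ : Fin 2 => ZMod (p ^ 2)).toAddEquiv
  let conv : MulAut (Multiplicative (ZMod (p ^ 2) × ZMod (p ^ 2))) →* Module.End (ZMod (p ^ 2)) V :=
    { toFun := fun b => (AddMonoidHom.toZModLinearMap (p ^ 2)
        ((e.symm.toAddMonoidHom.comp (AddEquiv.toMultiplicative.symm b).toAddMonoidHom).comp e.toAddMonoidHom))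
      map_one' := by
        apply LinearMap.ext
        intro v
        exact e.symm_apply_apply v
      map_mul' := fun b c => by
        apply LinearMap.ext
        intro v
        show e.symm (Multiplicative.toAdd (b (c (Multiplicative.ofAdd (e v))))) = e.symm
          (Multiplicative.toAdd (b (Multiplicative.ofAdd (e (e.symm
            (Multiplicative.toAdd (c (Multiplicative.ofAdd (e v)))))))))
        rw [e.apply_symm_apply]
        rfl }
  set M : Matrix (Fin 2) (Fin 2) (ZMod (p ^ 2)) := LinearMap.toMatrixAlgEquiv' (conv a) with hM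
  have hMp : M ^ p = 1 := by
    rw [hM, ← map_pow, ← map_pow, orderOf_dvd_iff_pow_eq_one.mp (dvd_of_eq ha),
      map_one, map_one]
  -- reduce modulo `p`
  have hdvd : p ∣ (p ^ 2) := dvd_pow_self p two_ne_zero
  let red : Matrix (Fin 2) (Fin 2) (ZMod (p ^ 2)) →+* Matrix (Fin 2) (Fin 2) (ZMod p) :=
    (ZMod.castHom hdvd (ZMod p)).mapMatrix
  have hnil : (red M - 1) ^ p = 0 := by
    rw [sub_pow_char_of_commute p (Commute.one_right _), ← map_pow, hMp, map_one, one_pow, sub_self]
  have hsq : (red M - 1) ^ 2 = 0 := by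
    set B := red M - 1
    have hdet : B.det = 0 := by
      have := congrArg Matrix.det hnil
      rw [Matrix.det_pow, Matrix.det_zero] at this
      exact eq_zero_of_pow_eq_zero this
    have htr : B.trace = 0 := (Matrix.isNilpotent_trace_of_isNilpotent ⟨p, hnil⟩).eq_zero
    rw [Matrix.det_fin_two] at hdet
    rw [Matrix.trace_fin_two] at htr
    rw [pow_two]
    ext i j
    fin_cases i <;> fin_cases j <;> simp [Matrix.mul_apply, Fin.sum_univ_two] <;> grind
  set N := M - 1 with hN
  have hmult : ∀ z : ZMod (p ^ 2), ZMod.castHom hdvd (ZMod p) z = 0 → ∃ w, z = (p : ZMod (p ^ 2)) * w := by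
    intro z hz
    rw [ZMod.castHom_apply, ZMod.cast_eq_val, ZMod.natCast_eq_zero_iff] at hz
    obtain ⟨c, hc⟩ := hz
    exact ⟨c, by rw [← Nat.cast_mul, ← hc, ZMod.natCast_zmod_val]⟩
  have hN2 : ∃ W, N ^ 2 = (p : Matrix (Fin 2) (Fin 2) (ZMod (p ^ 2))) * W := by
    have h0 : red (N ^ 2) = 0 := by rw [map_pow, hN, map_sub, map_one, hsq]
    choose w hw using fun i j => hmult ((N ^ 2) i j)
      (by have := congrFun (congrFun h0 i) j; simpa [red] using this)
    refine ⟨Matrix.of w, ?_⟩
    ext i j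
    rw [← nsmul_eq_mul, Matrix.smul_apply, Matrix.of_apply, nsmul_eq_mul, hw i j]
  obtain ⟨W, hW⟩ := hN2
  have hpp : (p : Matrix (Fin 2) (Fin 2) (ZMod (p ^ 2))) * (p : Matrix (Fin 2) (Fin 2) (ZMod (p ^ 2))) = 0 := by
    rw [← Nat.cast_mul, ← pow_two, ← map_natCast (Matrix.scalar (Fin 2) : ZMod (p ^ 2) →+* _),
      ZMod.natCast_self, map_zero]
  have hN4 : N ^ 4 = 0 := by
    rw [show N ^ 4 = N ^ 2 * N ^ 2 by rw [← pow_add], hW, mul_assoc,
      ← mul_assoc W, ← (Nat.cast_commute p W).eq, mul_assoc, ← mul_assoc, hpp, zero_mul]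
  have hpN : (p : Matrix (Fin 2) (Fin 2) (ZMod (p ^ 2))) * N = 0 := by
    have h1 : (N + 1) ^ p = 1 := by rw [hN, sub_add_cancel, hMp]
    rw [(Commute.one_right N).add_pow, Finset.sum_range_succ,
      Finset.sum_eq_add_of_mem 0 1 (by simp; omega) (by simp; omega) zero_ne_one] at h1
    · simp only [pow_zero, one_pow, mul_one, one_mul, pow_one, Nat.choose_zero_right, Nat.cast_one,
        Nat.choose_one_right, Nat.choose_self] at h1
      rw [show N ^ p = 0 from pow_eq_zero_of_le (by omega) hN4, add_zero] at h1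
      rw [(Nat.cast_commute p N).eq]
      exact add_eq_left.mp h1
    · intro m hm hm'
      rw [Finset.mem_range] at hm
      obtain ⟨c, hc⟩ := hp'.dvd_choose_self (by omega : m ≠ 0) hm
      rw [one_pow, mul_one, hc, Nat.cast_mul, show m = 2 + (m - 2) by omega, pow_add, hW,
        ← mul_assoc, ← (Nat.cast_commute p _).eq, ← mul_assoc, ← mul_assoc, hpp]
      simp
  -- `x` is a multiple of `p`
  set v := e.symm (Multiplicative.toAdd x) with hv
  have hpv : p • v = 0 := by
    rw [hv, ← map_nsmul, ← toAdd_pow, orderOf_dvd_iff_pow_eq_one.mp (dvd_of_eq hx)]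
    exact map_zero e.symm
  have hdiv : ∀ i, ∃ w, v i = (p : ZMod (p ^ 2)) * w := by
    intro i
    have h1 : ((p * (v i).val : ℕ) : ZMod (p ^ 2)) = 0 := by
      rw [Nat.cast_mul, ZMod.natCast_zmod_val, ← nsmul_eq_mul]
      exact congrFun hpv i
    rw [ZMod.natCast_eq_zero_iff] at h1
    obtain ⟨c, hc⟩ := (Nat.mul_dvd_mul_iff_left hp'.pos).mp ((dvd_of_eq (pow_two p).symm).trans h1)
    exact ⟨c, by rw [← Nat.cast_mul, ← hc, ZMod.natCast_zmod_val]⟩
  choose w hw using hdiv
  have hMv : Matrix.mulVec M v = v := by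
    rw [show M = N + 1 by rw [hN, sub_add_cancel], Matrix.add_mulVec, Matrix.one_mulVec,
      show v = Matrix.mulVec ((p : Matrix (Fin 2) (Fin 2) (ZMod (p ^ 2)))) w from funext fun i => by
        rw [hw i, ← Matrix.diagonal_natCast, Matrix.mulVec_diagonal],
      Matrix.mulVec_mulVec, ← (Nat.cast_commute p N).eq, hpN, Matrix.zero_mulVec, zero_add]
  have hav : conv a v = v := by
    refine Eq.trans ?_ hMv
    rw [hM, ← Matrix.toLinAlgEquiv'_apply, Matrix.toLinAlgEquiv'_toMatrixAlgEquiv']
  have h2 : e.symm (Multiplicative.toAdd (a (Multiplicative.ofAdd (e v)))) = v := hav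
  rw [hv, e.apply_symm_apply, ofAdd_toAdd, ← hv] at h2
  have h3 := congrArg e h2
  rw [e.apply_symm_apply, hv, e.apply_symm_apply] at h3
  exact Multiplicative.toAdd.injective h3

end Cfsg.Agent.S4080
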