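import Cfsg.Statements.S4081
import Mathlib
import Cfsg.Prelude.Def_Transfer
import Cfsg.Agent.Lib.CyclicModule.PrimeOrder
import Cfsg.Agent.Lib.Coprime.Generation
import Cfsg.Agent.Lib.Characters.Burnside

set_option autoImplicit false
open Cfsg

namespace Cfsg.Agent.S4081

universe u

variable {G : Type u} [Group G] [Finite G]

/-- The class of an element under automorphisms. -/
abbrev cls (g : G) : MulAction.orbitRel.Quotient (MulAut G) G :=
  Quotient.mk (MulAction.orbitRel (MulAut G) G) g

theorem cls_eq {g h : G} : cls g = cls h ↔ ∃ φ : MulAut G, φ h = g := by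
  rw [Quotient.eq, MulAction.orbitRel_apply, MulAction.mem_orbit_iff]
  rfl

theorem orderOf_eq_of_cls_eq {g h : G} (e : cls g = cls h) : orderOf g = orderOf h := by
  obtain ⟨φ, rfl⟩ := cls_eq.1 e
  exact MulEquiv.orderOf_eq φ h

/-- The shape of the group. -/
structure Shape (p q : ℕ) (P : Subgroup G) (x : G) : Prop where
  normal : P.Normal
  comm : ∀ a ∈ P, ∀ b ∈ P, a * b = b * a
  exp : ∀ v ∈ P, v ^ p = 1
  ordx : orderOf x = q
  fpf : ∀ v ∈ P, x * v * x⁻¹ = v → v = 1
  compl : P.IsComplement' (Subgroup.zpowers x)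

section shape

variable {p q : ℕ} [Fact p.Prime] [Fact q.Prime] {P : Subgroup G} {x : G}

/-- The vector space and the operator attached to the shape. -/
structure Model (p : ℕ) [Fact p.Prime] (P : Subgroup G) [P.Normal] (x : G) (V : Type u)
    [AddCommGroup V] [Module (ZMod p) V] where
  e : P ≃ V
  map_mul : ∀ a b, e (a * b) = e a + e b
  T : Module.End (ZMod p) V
  map_conj : ∀ a, e (MulAut.conjNormal x a) = T (e a)

theorem Model.map_one [P.Normal] {V : Type u} [AddCommGroup V] [Module (ZMod p) V]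
    (M : Model p P x V) : M.e 1 = 0 := by
  have h := M.map_mul 1 1
  rw [one_mul] at h
  exact left_eq_add.1 h

theorem Model.map_conj_pow [P.Normal] {V : Type u} [AddCommGroup V] [Module (ZMod p) V]
    (M : Model p P x V) (i : ℕ) (a : P) : M.e (MulAut.conjNormal (x ^ i) a) = (M.T ^ i) (M.e a) := by
  induction i with
  | zero => simp
  | succ i ih =>
    rw [pow_succ', pow_succ', _root_.map_mul, MulAut.mul_apply, M.map_conj, ih, Module.End.mul_apply]

/-- A twisted automorphism of `G`. -/
theorem exists_aut [P.Normal] (hs : P.IsComplement' (Subgroup.zpowers x)) (f : P ≃* P) {j : ℕ}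
    (hj : (orderOf x).Coprime j) (hf : ∀ a, f (MulAut.conjNormal x a) = MulAut.conjNormal (x ^ j) (f a)) :
    ∃ φ : MulAut G, (∀ a : P, φ a = f a) ∧ φ x = x ^ j := by
  letI : CommGroup (Subgroup.zpowers x) :=
    { (inferInstance : Group (Subgroup.zpowers x)) with
      mul_comm := IsMulCommutative.is_comm.comm }
  let fg : Subgroup.zpowers x ≃* Subgroup.zpowers x :=
    { powCoprime (G := Subgroup.zpowers x) (n := j) (by rwa [Nat.card_zpowers]) with
      map_mul' := fun a b => mul_pow a b j }
  have hfg : ∀ g, fg g = g ^ j := fun _ => rfl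
  let φ₁ : Subgroup.zpowers x →* MulAut P :=
    (P.normalizerMonoidHom).comp (Subgroup.inclusion (P.normalizer_eq_top ▸ le_top))
  have hφ₁ : ∀ (g : Subgroup.zpowers x) (a : P), φ₁ g a = MulAut.conjNormal (g : G) a :=
    fun g a => Subtype.ext rfl
  have key : ∀ (g : Subgroup.zpowers x), (φ₁ g).trans f = f.trans (φ₁ (fg g)) := by
    rintro ⟨g, hg⟩
    obtain ⟨i, rfl⟩ := (mem_powers_iff_mem_zpowers.2 hg : g ∈ Submonoid.powers x)
    refine MulEquiv.ext fun a => ?_
    simp only [MulEquiv.trans_apply, hφ₁, hfg, Subgroup.coe_pow, Subgroup.coe_mk]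
    clear hg
    induction i generalizing a with
    | zero => simp
    | succ i ih =>
      rw [pow_succ, _root_.map_mul, MulAut.mul_apply, ih, hf, ← MulAut.mul_apply, ← _root_.map_mul,
        ← (Commute.pow_self x i).mul_pow]
  let Φ := SemidirectProduct.congr f fg key
  let e := SemidirectProduct.mulEquivSubgroup hs
  refine ⟨e.symm.trans (Φ.trans e), fun a => ?_, ?_⟩
  · have h1 : e.symm (a : G) = SemidirectProduct.inl a := by
      rw [MulEquiv.symm_apply_eq]
      show (a : G) = (a : G) * 1
      rw [mul_one]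
    rw [MulEquiv.trans_apply, MulEquiv.trans_apply, h1]
    show ((f a : P) : G) * ((fg 1 : Subgroup.zpowers x) : G) = _
    rw [_root_.map_one, Subgroup.coe_one, mul_one]
  · have h1 : e.symm x = SemidirectProduct.inr ⟨x, Subgroup.mem_zpowers x⟩ := by
      rw [MulEquiv.symm_apply_eq]
      show x = (1 : G) * x
      rw [one_mul]
    rw [MulEquiv.trans_apply, MulEquiv.trans_apply, h1]
    show ((f 1 : P) : G) * ((fg ⟨x, Subgroup.mem_zpowers x⟩ : Subgroup.zpowers x) : G) = _
    rw [_root_.map_one, Subgroup.coe_one, one_mul, hfg]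
    rfl

theorem exists_model (h : Shape p q P x) :
    haveI := h.normal
    ∃ (V : Type u) (_ : AddCommGroup V) (_ : Module (ZMod p) V) (_ : Finite V),
      Nonempty (Model p P x V) := by
  haveI := h.normal
  letI : CommGroup P :=
    { (inferInstance : Group P) with mul_comm := fun a b => Subtype.ext (h.comm a a.2 b b.2) }
  letI : Module (ZMod p) (Additive P) := AddCommGroup.zmodModule fun v => by
    apply Additive.toMul.injective
    rw [toMul_nsmul, toMul_zero]
    exact Subtype.ext (by rw [Subgroup.coe_pow, Subgroup.coe_one]; exact h.exp _ v.toMul.2)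
  exact ⟨Additive P, inferInstance, inferInstance, inferInstance, ⟨{
    e := Additive.ofMul
    map_mul := fun a b => rfl
    T := (MonoidHom.toAdditive (MulAut.conjNormal x : P ≃* P).toMonoidHom).toZModLinearMap p
    map_conj := fun a => rfl }⟩⟩

theorem Shape.coprime_q (hpq : p ≠ q) : ¬ p ∣ q := fun h =>
  hpq ((Nat.prime_dvd_prime_iff_eq Fact.out Fact.out).1 h)

theorem T_pow_q [P.Normal] {V : Type u} [AddCommGroup V] [Module (ZMod p) V] (M : Model p P x V)
    (h : Shape p q P x) : M.T ^ q = 1 := by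
  refine LinearMap.ext fun v => ?_
  obtain ⟨a, rfl⟩ := M.e.surjective v
  rw [← M.map_conj_pow, ← h.ordx, pow_orderOf_eq_one, _root_.map_one]
  rfl

theorem T_fpf [P.Normal] {V : Type u} [AddCommGroup V] [Module (ZMod p) V] (M : Model p P x V)
    (h : Shape p q P x) (v : V) (hv : M.T v = v) : v = 0 := by
  obtain ⟨a, rfl⟩ := M.e.surjective v
  rw [← M.map_conj] at hv
  have h1 := congrArg Subtype.val (M.e.injective hv)
  rw [MulAut.conjNormal_apply] at h1
  rw [show a = 1 from Subtype.ext (h.fpf _ a.2 h1), M.map_one]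

/-- An additive automorphism of the model as an automorphism of `P`. -/
def toMulEquiv [P.Normal] {V : Type u} [AddCommGroup V] [Module (ZMod p) V] (M : Model p P x V)
    (φ : V ≃+ V) : P ≃* P where
  toFun a := M.e.symm (φ (M.e a))
  invFun a := M.e.symm (φ.symm (M.e a))
  left_inv a := by simp
  right_inv a := by simp
  map_mul' a b := M.e.injective (by simp [M.map_mul])

theorem toMulEquiv_conj [P.Normal] {V : Type u} [AddCommGroup V] [Module (ZMod p) V]
    (M : Model p P x V) (φ : V ≃+ V) {j : ℕ} (hφ : ∀ v, φ (M.T v) = (M.T ^ j) (φ v)) (a : P) :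
    toMulEquiv M φ (MulAut.conjNormal x a) = MulAut.conjNormal (x ^ j) (toMulEquiv M φ a) :=
  M.e.injective (by
    rw [M.map_conj_pow]
    simp only [toMulEquiv, MulEquiv.coe_mk, Equiv.coe_fn_mk, Equiv.apply_symm_apply, M.map_conj, hφ])

/-- Elements outside `P` are conjugate into `⟨x⟩`. -/
theorem conj_into (h : Shape p q P x) {g : G} (hg : g ∉ P) :
    ∃ j : ℕ, ¬ q ∣ j ∧ IsConj g (x ^ j) := by
  haveI := h.normal
  obtain ⟨⟨v, ⟨c, hc⟩⟩, hvc⟩ := ((show Subgroup.IsComplement _ _ from h.compl).existsUnique g).exists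
  obtain ⟨j, rfl⟩ := (mem_powers_iff_mem_zpowers.2 hc : c ∈ Submonoid.powers x)
  simp only at hvc
  have hjq : ¬ q ∣ j := by
    rintro ⟨k, rfl⟩
    rw [pow_mul, ← h.ordx, pow_orderOf_eq_one, one_pow, mul_one] at hvc
    exact hg (hvc ▸ v.2)
  refine ⟨j, hjq, ?_⟩
  have hfix : ∀ a : P, MulAut.conjNormal (x ^ j) a = a → a = 1 := by
    intro a ha
    obtain ⟨i, hi⟩ : ∃ i : ℕ, (x ^ j) ^ i = x := by
      refine exists_pow_eq_self_of_coprime ?_
      rw [h.ordx]
      exact (((Fact.out : q.Prime).coprime_iff_not_dvd).2 hjq).symm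
    have h2 : ∀ m : ℕ, MulAut.conjNormal ((x ^ j) ^ m) a = a := fun m => by
      induction m with
      | zero => simp
      | succ m ih => rw [pow_succ, _root_.map_mul, MulAut.mul_apply, ha, ih]
    have h3 := congrArg Subtype.val (h2 i)
    rw [hi, MulAut.conjNormal_apply] at h3
    exact Subtype.ext (h.fpf _ a.2 h3)
  let ψ : P → P := fun a => a * (MulAut.conjNormal (x ^ j) a)⁻¹
  have hψ : Function.Injective ψ := by
    intro a b hab
    have h1 : MulAut.conjNormal (x ^ j) (b⁻¹ * a) = b⁻¹ * a := by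
      have hab' : a * (MulAut.conjNormal (x ^ j) a)⁻¹ = b * (MulAut.conjNormal (x ^ j) b)⁻¹ := hab
      rw [_root_.map_mul, _root_.map_inv, eq_comm, inv_mul_eq_iff_eq_mul, ← mul_assoc]
      exact mul_inv_eq_iff_eq_mul.1 hab'
    exact (inv_mul_eq_one.1 (hfix _ h1)).symm
  obtain ⟨a, ha⟩ := (Finite.injective_iff_surjective.1 hψ) v
  refine (isConj_iff.2 ⟨(a : G), ?_⟩).symm
  rw [← hvc]
  have h1 := congrArg Subtype.val ha
  simp only [ψ, Subgroup.coe_mul, Subgroup.coe_inv, MulAut.conjNormal_apply] at h1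
  rw [← h1]
  group

theorem orderOf_of_not_mem (h : Shape p q P x) {g : G} (hg : g ∉ P) : orderOf g = q := by
  obtain ⟨j, hjq, hj⟩ := conj_into h hg
  obtain ⟨c, hc⟩ := isConj_iff.1 hj
  rw [← MulEquiv.orderOf_eq (MulAut.conj c) g, MulAut.conj_apply, hc, Nat.Coprime.orderOf_pow, h.ordx]
  rw [h.ordx]
  exact ((Fact.out : q.Prime).coprime_iff_not_dvd).2 hjq

theorem three_orbits (hpq : p ≠ q) (h : Shape p q P x) (hP : P ≠ ⊥)
    (hroot : orderOf (p : ZMod q) = q - 1) :
    Nat.card (MulAction.orbitRel.Quotient (MulAut G) G) = 3 := by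
  classical
  haveI := h.normal
  obtain ⟨V, _, _, _, ⟨M⟩⟩ := exists_model h
  obtain ⟨v₀, hv₀, hv1⟩ : ∃ v ∈ P, v ≠ 1 := (Subgroup.ne_bot_iff_exists_ne_one.1 hP).elim
    fun v hv => ⟨v, v.2, fun e => hv (Subtype.ext e)⟩
  haveI : Nontrivial V := ⟨⟨M.e ⟨v₀, hv₀⟩, 0, fun e => hv1 (congrArg Subtype.val
    (M.e.injective (e.trans M.map_one.symm)))⟩⟩
  have hq := Shape.coprime_q (p := p) (q := q) hpq
  have hord : ∀ v ∈ P, v ≠ 1 → orderOf v = p := fun v hv hne =>
    orderOf_eq_prime (h.exp v hv) hne
  have hall : ∀ g : G, cls g = cls 1 ∨ cls g = cls v₀ ∨ cls g = cls x := by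
    intro g
    by_cases hg : g ∈ P
    · by_cases hg1 : g = 1
      · exact Or.inl (by rw [hg1])
      refine Or.inr (Or.inl ?_)
      obtain ⟨φ, hφ, hφv⟩ := CyclicModule.exists_commuting M.T hq (T_pow_q M h) (T_fpf M h) hroot
        (v := M.e ⟨v₀, hv₀⟩) (w := M.e ⟨g, hg⟩)
        (fun e => hv1 (congrArg Subtype.val (M.e.injective (e.trans M.map_one.symm))))
        (fun e => hg1 (congrArg Subtype.val (M.e.injective (e.trans M.map_one.symm))))
      obtain ⟨ψ, hψ, -⟩ := exists_aut h.compl (toMulEquiv M φ) (j := 1) (Nat.coprime_one_right _)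
        (toMulEquiv_conj M φ (by simpa using hφ))
      refine cls_eq.2 ⟨ψ, ?_⟩
      have h1 := hψ ⟨v₀, hv₀⟩
      simp only [toMulEquiv, MulEquiv.coe_mk, Equiv.coe_fn_mk, hφv, Equiv.symm_apply_apply] at h1
      exact h1
    · refine Or.inr (Or.inr ?_)
      obtain ⟨j, hjq, hj⟩ := conj_into h hg
      obtain ⟨c, hc⟩ := isConj_iff.1 hj
      obtain ⟨φ, hφ⟩ := CyclicModule.exists_twist M.T hq (T_pow_q M h) (T_fpf M h) hroot hjq
      obtain ⟨ψ, -, hψx⟩ := exists_aut h.compl (toMulEquiv M φ) (j := j)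
        (by rw [h.ordx]; exact ((Fact.out : q.Prime).coprime_iff_not_dvd).2 hjq)
        (toMulEquiv_conj M φ hφ)
      refine cls_eq.2 ⟨(MulAut.conj c).symm * ψ, ?_⟩
      rw [MulAut.mul_apply, hψx, MulEquiv.symm_apply_eq, MulAut.conj_apply, hc]
  haveI := Fintype.ofFinite (MulAction.orbitRel.Quotient (MulAut G) G)
  have n1 : ∀ {a b : G}, orderOf a ≠ orderOf b → cls a ≠ cls b := fun hne e =>
    hne (orderOf_eq_of_cls_eq e)
  have o1 : orderOf v₀ = p := hord v₀ hv₀ hv1
  have hp := (Fact.out : p.Prime).one_lt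
  have hq' := (Fact.out : q.Prime).one_lt
  have hs : ({cls 1, cls v₀, cls x} : Finset (MulAction.orbitRel.Quotient (MulAut G) G)) =
      Finset.univ := Finset.eq_univ_of_forall fun c => by
    obtain ⟨g, rfl⟩ := Quotient.exists_rep c
    simpa using hall g
  have n12 : cls 1 ≠ cls v₀ := n1 (by rw [orderOf_one, o1]; omega)
  have n13 : cls 1 ≠ cls x := n1 (by rw [orderOf_one, h.ordx]; omega)
  have n23 : cls v₀ ≠ cls x := n1 (by rw [o1, h.ordx]; exact hpq)
  rw [Nat.card_eq_fintype_card, ← Finset.card_univ, ← hs]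
  simp [n12, n13, n23]

end shape


/-- Let G be a finite group whose order is not a prime power. Then the automorphism group of G has exactly three orbits on G if and only if there are distinct primes p, q with #G = pⁿ·q (n ≥ 1) such that G has a normal elementary abelian Sylow p-subgroup P, p is a primitive root modulo q (the multiplicative order of p mod q is q − 1), and every element of order q of G acts on P without non-identity fixed points. -/
theorem result {G : Type*} [Group G] [Finite G] (hnpp : ¬ IsPrimePow (Nat.card G)) (hnt : Nat.card G ≠ 1) :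
    Nat.card (MulAction.orbitRel.Quotient (MulAut G) G) = 3 ↔
    ∃ (p q n : ℕ) (_ : Fact p.Prime) (_ : Fact q.Prime), p ≠ q ∧ 1 ≤ n ∧ Nat.card G = p ^ n * q ∧
      (∀ P : Sylow p G, (P : Subgroup G).Normal ∧ Cfsg.IsElementaryAbelian p (P : Subgroup G)) ∧
      orderOf (p : ZMod q) = q - 1 ∧
      ∀ x y : G, orderOf x = q → orderOf y = p → x * y * x⁻¹ ≠ y := by
  classical
  constructor
  · intro h3
    have htwo : ∀ a b c : G, cls a ≠ cls b → cls a ≠ cls c → cls b ≠ cls c →
        ∀ g : G, cls g = cls a ∨ cls g = cls b ∨ cls g = cls c := by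
      intro a b c hab hac hbc g
      have hfin : Finite (MulAction.orbitRel.Quotient (MulAut G) G) :=
        Nat.finite_of_card_ne_zero (by rw [h3]; norm_num)
      haveI := Fintype.ofFinite (MulAction.orbitRel.Quotient (MulAut G) G)
      have hs : ({cls a, cls b, cls c} : Finset (MulAction.orbitRel.Quotient (MulAut G) G)) = Finset.univ := by
        refine Finset.eq_univ_of_card _ ?_
        rw [← Nat.card_eq_fintype_card, h3]
        simp [hab, hac, hbc]
      have := hs ▸ Finset.mem_univ (cls g)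
      simpa using this
    obtain ⟨r, hr, hrd⟩ := Nat.exists_prime_and_dvd hnt
    obtain ⟨s, hs, hsd, hsr⟩ : ∃ s : ℕ, s.Prime ∧ s ∣ Nat.card G ∧ s ≠ r := by
      by_contra hcon
      push Not at hcon
      refine hnpp ⟨r, (Nat.card G).factorization r, hr.prime, ?_, ?_⟩
      · exact hr.factorization_pos_of_dvd Nat.card_pos.ne' hrd
      · have e := Nat.eq_prime_pow_of_unique_prime_dvd Nat.card_pos.ne'
          (fun {d} hd hdvd => hcon d hd hdvd)
        conv_lhs => rw [e, hr.factorization_pow, Finsupp.single_eq_same]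
        exact e.symm
    haveI := Fact.mk hr
    haveI := Fact.mk hs
    obtain ⟨a, ha⟩ := exists_prime_orderOf_dvd_card' r hrd
    obtain ⟨b, hb⟩ := exists_prime_orderOf_dvd_card' s hsd
    have hcases := htwo 1 a b
      (fun e => hr.ne_one (by rw [← ha, ← orderOf_eq_of_cls_eq e, orderOf_one]))
      (fun e => hs.ne_one (by rw [← hb, ← orderOf_eq_of_cls_eq e, orderOf_one]))
      (fun e => hsr (by rw [← hb, ← orderOf_eq_of_cls_eq e, ha]))
    have hordall : ∀ g : G, g ≠ 1 → orderOf g = r ∨ orderOf g = s := by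
      intro g hg
      rcases hcases g with e | e | e
      · exact absurd (orderOf_eq_one_iff.1 ((orderOf_eq_of_cls_eq e).trans orderOf_one)) hg
      · exact Or.inl ((orderOf_eq_of_cls_eq e).trans ha)
      · exact Or.inr ((orderOf_eq_of_cls_eq e).trans hb)
    have hsame : ∀ g g' : G, g ≠ 1 → orderOf g = orderOf g' → ∃ φ : MulAut G, φ g = g' := by
      intro g g' hg hgg
      refine cls_eq.1 ?_
      have hg' : g' ≠ 1 := fun e => hg (orderOf_eq_one_iff.1 (by rw [hgg, e, orderOf_one]))
      rcases hcases g with e | e | e <;> rcases hcases g' with e' | e' | e' <;>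
        first
          | exact e'.trans e.symm
          | (exfalso
             have o := orderOf_eq_of_cls_eq e
             have o' := orderOf_eq_of_cls_eq e'
             simp only [orderOf_one, ha, hb, orderOf_eq_one_iff] at o o'
             first
               | exact hg o
               | exact hg' o'
               | exact hsr (by omega))
    have hprimes : ∀ t : ℕ, t.Prime → t ∣ Nat.card G → t = r ∨ t = s := by
      intro t ht htd
      haveI := Fact.mk ht
      obtain ⟨c, hc⟩ := exists_prime_orderOf_dvd_card' t htd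
      exact hc ▸ hordall c (fun e => ht.ne_one (by rw [← hc, e, orderOf_one]))
    have hfac : Nat.card G = r ^ (Nat.card G).factorization r * s ^ (Nat.card G).factorization s := by
      conv_lhs => rw [← Nat.prod_factorization_pow_eq_self (Nat.card_pos (α := G)).ne']
      rw [Finsupp.prod_of_support_subset (s := {r, s}) _ (fun t ht => by
        rw [Nat.support_factorization, Nat.mem_primeFactors] at ht
        rcases hprimes t ht.1 ht.2.1 with rfl | rfl <;> simp) _ (fun _ _ => pow_zero _)]
      exact Finset.prod_pair hsr.symm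
    have hsolv : Group.IsSolvable G := Characters.burnside_pa_qb hr hs hfac
    -- a characteristic abelian subgroup
    obtain ⟨D, hDne, hDchar, hDcomm⟩ : ∃ D : Subgroup G, D ≠ ⊥ ∧
        (∀ φ : MulAut G, D.map φ.toMonoidHom = D) ∧ ∀ u ∈ D, ∀ v ∈ D, u * v = v * u := by
      obtain ⟨n, hn⟩ := (Group.isSolvable_def G).1 hsolv
      have hn0 : derivedSeries G 0 ≠ ⊥ := by
        rw [derivedSeries_zero]
        intro e
        exact hr.ne_one (Nat.dvd_one.1 (by rwa [← Subgroup.card_top, e, Subgroup.card_bot] at hrd))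
      have hex : ∃ m, derivedSeries G m = ⊥ := ⟨n, hn⟩
      obtain ⟨m, hm⟩ : ∃ m, Nat.find hex = m + 1 :=
        Nat.exists_eq_succ_of_ne_zero fun e => hn0 (e ▸ Nat.find_spec hex)
      refine ⟨derivedSeries G m, Nat.find_min hex (by omega), fun φ => ?_, fun u hu v hv => ?_⟩
      · exact map_derivedSeries_eq (f := φ.toMonoidHom) φ.surjective m
      · have h1 : derivedSeries G (m + 1) = ⊥ := hm ▸ Nat.find_spec hex
        rw [derivedSeries_succ, Subgroup.commutator_eq_bot_iff_le_centralizer] at h1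
        exact (Subgroup.mem_centralizer_iff.1 (h1 hv) u hu)
    obtain ⟨⟨d, hdD⟩, hd1'⟩ := Subgroup.ne_bot_iff_exists_ne_one.1 hDne
    have hd1 : d ≠ 1 := fun e => hd1' (Subtype.ext e)
    obtain ⟨p, q, hp, hq, hpq, hdp, hord⟩ : ∃ p q : ℕ, p.Prime ∧ q.Prime ∧ p ≠ q ∧ orderOf d = p ∧
        ((p = r ∧ q = s) ∨ (p = s ∧ q = r)) := by
      rcases hordall d hd1 with e | e
      · exact ⟨r, s, hr, hs, hsr.symm, e, Or.inl ⟨rfl, rfl⟩⟩
      · exact ⟨s, r, hs, hr, hsr, e, Or.inr ⟨rfl, rfl⟩⟩
    have hordpq : ∀ g : G, g ≠ 1 → orderOf g = p ∨ orderOf g = q := fun g hg => by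
      rcases hord with ⟨rfl, rfl⟩ | ⟨rfl, rfl⟩
      · exact hordall g hg
      · exact (hordall g hg).symm
    have hqd : q ∣ Nat.card G := by rcases hord with ⟨rfl, rfl⟩ | ⟨rfl, rfl⟩ <;> assumption
    haveI := Fact.mk hp
    haveI := Fact.mk hq
    have hcop : p.Coprime q := (Nat.coprime_primes hp hq).2 hpq
    have hpmem : ∀ g : G, orderOf g = p → g ∈ D := by
      intro g hg
      obtain ⟨φ, rfl⟩ := hsame d g hd1 (hdp.trans hg.symm)
      rw [← hDchar φ]
      exact Subgroup.mem_map_of_mem _ hdD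
    have hnocomm : ∀ g g' : G, orderOf g = p → orderOf g' = q → ¬ Commute g g' := by
      intro g g' hg hg' hc
      have h1 := hc.orderOf_mul_eq_mul_orderOf_of_coprime (by rw [hg, hg']; exact hcop)
      rw [hg, hg'] at h1
      have hne : g * g' ≠ 1 := fun e => by
        rw [e, orderOf_one] at h1
        have := hp.one_lt
        have := hq.pos
        nlinarith
      have := hp.one_lt
      have := hq.one_lt
      rcases hordpq _ hne with e | e <;> rw [h1] at e <;> nlinarith
    have hDord : ∀ u ∈ D, u ≠ 1 → orderOf u = p := fun u hu hu1 =>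
      (hordpq u hu1).resolve_right fun e => hnocomm d u hdp e (hDcomm d hdD u hu)
    have hDp : IsPGroup p D := fun u => ⟨1, Subtype.ext (by
      rw [Subgroup.coe_pow, Subgroup.coe_one, pow_one]
      by_cases hu : (u : G) = 1
      · rw [hu, one_pow]
      · rw [← hDord _ u.2 hu, pow_orderOf_eq_one])⟩
    have hDexp : ∀ u ∈ D, u ^ p = 1 := fun u hu => by
      by_cases hu1 : u = 1
      · rw [hu1, one_pow]
      · rw [← hDord u hu hu1, pow_orderOf_eq_one]
    haveI hDn : D.Normal := by
      refine ⟨fun u hu g => ?_⟩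
      rw [← hDchar (MulAut.conj g)]
      exact Subgroup.mem_map_of_mem _ hu
    have hsyl : ∀ P : Sylow p G, (P : Subgroup G) = D := by
      intro P
      have hle : (P : Subgroup G) ≤ D := fun u hu => by
        by_cases hu1 : u = 1
        · rw [hu1]; exact one_mem D
        obtain ⟨k, hk⟩ := IsPGroup.iff_orderOf.1 P.2 ⟨u, hu⟩
        rw [Subgroup.orderOf_mk] at hk
        refine hpmem u ((hordpq u hu1).resolve_right fun e => ?_)
        rw [e] at hk
        exact hpq ((Nat.prime_dvd_prime_iff_eq hq hp).1 (hq.dvd_of_dvd_pow hk.dvd)).symm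
      exact (P.3 hDp hle).symm
    obtain ⟨x, hx⟩ := exists_prime_orderOf_dvd_card' q hqd
    have hfpfq : ∀ g : G, orderOf g = q → ∀ v ∈ D, g * v * g⁻¹ = v → v = 1 := by
      intro g hg v hv hgv
      by_contra hv1
      exact hnocomm v g (hDord v hv hv1) hg (mul_inv_eq_iff_eq_mul.1 hgv).symm
    -- the Sylow `q`-subgroups have order `q`
    obtain ⟨Q, hQx⟩ := (IsPGroup.of_card (p := q) (n := 1)
      (by rw [Nat.card_zpowers, hx, pow_one]) : IsPGroup q (Subgroup.zpowers x)).exists_le_sylow
    have hQord : ∀ g ∈ (Q : Subgroup G), g ≠ 1 → orderOf g = q := fun g hg hg1 => by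
      refine (hordpq g hg1).resolve_left fun e => ?_
      obtain ⟨k, hk⟩ := IsPGroup.iff_orderOf.1 Q.2 ⟨g, hg⟩
      rw [Subgroup.orderOf_mk, e] at hk
      exact hpq ((Nat.prime_dvd_prime_iff_eq hp hq).1 (hp.dvd_of_dvd_pow hk.dvd))
    have hQeq : (Q : Subgroup G) = Subgroup.zpowers x := by
      refine le_antisymm ?_ hQx
      haveI : Nontrivial (Q : Subgroup G) := ⟨⟨⟨x, hQx (Subgroup.mem_zpowers x)⟩, 1, fun e => by
        have e' : x = 1 := congrArg Subtype.val e
        rw [e', orderOf_one] at hx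
        exact hq.ne_one hx.symm⟩⟩
      haveI := Q.2.center_nontrivial
      obtain ⟨⟨⟨z, hzQ⟩, hzc⟩, hz1⟩ := exists_ne (1 : Subgroup.center (Q : Subgroup G))
      have hzne : z ≠ 1 := fun e => hz1 (Subtype.ext (Subtype.ext e))
      have hzcomm : ∀ y ∈ (Q : Subgroup G), Commute z y := fun y hy =>
        (congrArg Subtype.val (Subgroup.mem_center_iff.1 hzc ⟨y, hy⟩)).symm
      have key : ∀ y ∈ (Q : Subgroup G), y ∈ Subgroup.zpowers z := by
        intro y hy
        by_contra hyz
        set A := Subgroup.zpowers z ⊔ Subgroup.zpowers y with hA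
        have hAQ : A ≤ (Q : Subgroup G) := sup_le (Subgroup.zpowers_le.2 hzQ) (Subgroup.zpowers_le.2 hy)
        haveI : IsMulCommutative A := by
          have hz' : A ≤ Subgroup.centralizer ({z} : Set G) := sup_le
            (Subgroup.zpowers_le.2 (Subgroup.mem_centralizer_singleton_iff.2 rfl))
            (Subgroup.zpowers_le.2 (Subgroup.mem_centralizer_singleton_iff.2 (hzcomm y hy).symm.eq))
          have hy' : A ≤ Subgroup.centralizer ({y} : Set G) := sup_le
            (Subgroup.zpowers_le.2 (Subgroup.mem_centralizer_singleton_iff.2 (hzcomm y hy).eq))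
            (Subgroup.zpowers_le.2 (Subgroup.mem_centralizer_singleton_iff.2 rfl))
          have hle : A ≤ Subgroup.centralizer (A : Set G) := sup_le
            (Subgroup.zpowers_le.2 (Subgroup.mem_centralizer_iff.2 fun w hw =>
              Subgroup.mem_centralizer_singleton_iff.1 (hz' hw)))
            (Subgroup.zpowers_le.2 (Subgroup.mem_centralizer_iff.2 fun w hw =>
              Subgroup.mem_centralizer_singleton_iff.1 (hy' hw)))
          exact ⟨⟨fun u v => Subtype.ext (Subgroup.mem_centralizer_iff.1 (hle v.2) u u.2)⟩⟩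
        have hAnc : ¬ IsCyclic A := fun hc => by
          obtain ⟨c, hc'⟩ := hc.exists_generator
          have hc1 : (c : G) ≠ 1 := fun e => hzne (by
            obtain ⟨i, hi⟩ := Subgroup.mem_zpowers_iff.1 (hc' ⟨z, Subgroup.mem_sup_left (Subgroup.mem_zpowers z)⟩)
            have := congrArg Subtype.val hi
            rw [Subgroup.coe_zpow, e, one_zpow] at this
            exact this.symm)
          have hAc : A ≤ Subgroup.zpowers (c : G) := fun w hw => by
            obtain ⟨i, hi⟩ := Subgroup.mem_zpowers_iff.1 (hc' ⟨w, hw⟩)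
            exact Subgroup.mem_zpowers_iff.2 ⟨i, congrArg Subtype.val hi⟩
          have hzc' : Subgroup.zpowers z = Subgroup.zpowers (c : G) := by
            refine Subgroup.eq_of_le_of_card_ge
              (Subgroup.zpowers_le.2 (hAc (Subgroup.mem_sup_left (Subgroup.mem_zpowers z)))) ?_
            rw [Nat.card_zpowers, Nat.card_zpowers, hQord z hzQ hzne, hQord c (hAQ c.2) hc1]
          exact hyz (hzc' ▸ hAc (Subgroup.mem_sup_right (Subgroup.mem_zpowers y)))
        have hcopAD : (Nat.card A).Coprime (Nat.card D) := by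
          obtain ⟨m, hm⟩ := IsPGroup.iff_card.1 (Q.2.to_le hAQ)
          obtain ⟨n, hn⟩ := IsPGroup.iff_card.1 hDp
          rw [hm, hn]
          exact Nat.Coprime.pow m n hcop.symm
        have hgen := Coprime.fixedGen_eq hAnc (K := D)
          ((Subgroup.normalizer_eq_top (H := D)).symm ▸ le_top) hcopAD
        refine hDne (le_bot_iff.1 (hgen ▸ iSup₂_le ?_))
        rintro w ⟨hwA, hw1⟩ v ⟨hvD, hvw⟩
        have hc : w * v * w⁻¹ = v := by
          rw [← (Subgroup.mem_centralizer_singleton_iff.1 hvw), mul_inv_cancel_right]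
        exact Subgroup.mem_bot.2 (hfpfq w (hQord w (hAQ hwA) hw1) v hvD hc)
      have hxz : Subgroup.zpowers x = Subgroup.zpowers z := by
        refine Subgroup.eq_of_le_of_card_ge (Subgroup.zpowers_le.2 (key x (hQx (Subgroup.mem_zpowers x)))) ?_
        rw [Nat.card_zpowers, Nat.card_zpowers, hx, hQord z hzQ hzne]
      exact fun y hy => hxz ▸ key y hy
    obtain ⟨P⟩ : Nonempty (Sylow p G) := inferInstance
    have hcardG : Nat.card G = Nat.card D * q := by
      have hq1 : (Nat.card G).factorization q = 1 := by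
        have := Q.card_eq_multiplicity
        rw [hQeq, Nat.card_zpowers, hx] at this
        exact Nat.pow_right_injective hq.two_le ((pow_one q).trans this).symm
      rw [← hsyl P, P.card_eq_multiplicity]
      rcases hord with ⟨rfl, rfl⟩ | ⟨rfl, rfl⟩
      · conv_lhs => rw [hfac, hq1, pow_one]
      · conv_lhs => rw [hfac, hq1, pow_one, mul_comm]
    have hcompl : D.IsComplement' (Subgroup.zpowers x) := by
      refine Subgroup.isComplement'_of_coprime (by rw [Nat.card_zpowers, hx, hcardG]) ?_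
      rw [Nat.card_zpowers, hx]
      obtain ⟨n, hn⟩ := IsPGroup.iff_card.1 hDp
      rw [hn]
      exact Nat.Coprime.pow_left n hcop
    have hshape : Shape p q D x := ⟨hDn, hDcomm, hDexp, hx, hfpfq x hx, hcompl⟩
    obtain ⟨n, hn⟩ := IsPGroup.iff_card.1 hDp
    have hn1 : 1 ≤ n := Nat.one_le_iff_ne_zero.2 fun e => hDne
      (Subgroup.card_eq_one.1 (by rw [hn, e, pow_zero]))
    refine ⟨p, q, n, ⟨hp⟩, ⟨hq⟩, hpq, hn1, by rw [hcardG, hn], fun P' => ?_, ?_, ?_⟩
    · rw [hsyl P']
      exact ⟨hDn, ⟨⟨fun u v => Subtype.ext (hDcomm u u.2 v v.2)⟩⟩, hDexp⟩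
    · obtain ⟨V, _, _, _, ⟨M⟩⟩ := exists_model hshape
      haveI : Nontrivial V := ⟨⟨M.e ⟨d, hdD⟩, 0, fun e => hd1 (congrArg Subtype.val
        (M.e.injective (e.trans M.map_one.symm)))⟩⟩
      have hmem : ∀ (φ : MulAut G) (a : D), φ a ∈ D := fun φ a => by
        have h := Subgroup.mem_map_of_mem φ.toMonoidHom a.2
        rw [hDchar φ] at h
        exact h
      have hres : ∀ (φ : MulAut G) (j : ℕ) (u : G), u ∈ D → φ x = u * x ^ j →
          ∃ f : V ≃ₗ[ZMod p] V, (∀ v, f (M.T v) = (M.T ^ j) (f v)) ∧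
            ∀ a : D, f (M.e a) = M.e ⟨φ a, hmem φ a⟩ := by
        intro φ j u hu hφx
        let g : V →+ V := AddMonoidHom.mk' (fun v => M.e ⟨φ (M.e.symm v), hmem φ _⟩) fun v w => by
          rw [← M.map_mul]
          congr 1
          refine Subtype.ext ?_
          obtain ⟨a, rfl⟩ := M.e.surjective v
          obtain ⟨b, rfl⟩ := M.e.surjective w
          rw [← M.map_mul, Equiv.symm_apply_apply, Equiv.symm_apply_apply, Equiv.symm_apply_apply]
          simp
        have hginj : Function.Injective g := fun v w e =>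
          M.e.symm.injective (Subtype.ext (φ.injective (congrArg Subtype.val (M.e.injective e))))
        refine ⟨LinearEquiv.ofBijective (g.toZModLinearMap p)
          (Finite.injective_iff_bijective.1 hginj), fun v => ?_, fun a => ?_⟩
        · obtain ⟨a, rfl⟩ := M.e.surjective v
          show g (M.T (M.e a)) = (M.T ^ j) (g (M.e a))
          rw [← M.map_conj]
          show M.e ⟨φ (M.e.symm (M.e _)), _⟩ = (M.T ^ j) (M.e ⟨φ (M.e.symm (M.e a)), _⟩)
          rw [← M.map_conj_pow]
          congr 1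
          refine Subtype.ext ?_
          simp only [Equiv.symm_apply_apply, MulAut.conjNormal_apply, _root_.map_mul, _root_.map_inv, hφx]
          have hw : x ^ j * φ a * (x ^ j)⁻¹ ∈ D := hDn.conj_mem _ (hmem φ a) _
          calc u * x ^ j * φ a * (u * x ^ j)⁻¹ = u * (x ^ j * φ a * (x ^ j)⁻¹) * u⁻¹ := by group
            _ = x ^ j * φ a * (x ^ j)⁻¹ := by rw [hDcomm u hu _ hw, mul_inv_cancel_right]
        · show M.e ⟨φ (M.e.symm (M.e a)), _⟩ = _
          congr 1
          exact Subtype.ext (by simp)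
      have hT1 : M.T ≠ 1 := fun e => hd1 (congrArg Subtype.val (M.e.injective
        ((T_fpf M hshape _ (by rw [e]; rfl)).trans M.map_one.symm) : (⟨d, hdD⟩ : D) = 1))
      refine CyclicModule.orderOf_eq_of_transitive M.T hpq (T_pow_q M hshape) hT1 ?_ ?_
      · intro v w hv hw
        obtain ⟨a, rfl⟩ := M.e.surjective v
        obtain ⟨b, rfl⟩ := M.e.surjective w
        have ha1 : (a : G) ≠ 1 := fun e => hv (by rw [show a = 1 from Subtype.ext e, M.map_one])
        have hb1 : (b : G) ≠ 1 := fun e => hw (by rw [show b = 1 from Subtype.ext e, M.map_one])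
        obtain ⟨φ, hφ⟩ := hsame (a : G) (b : G) ha1 ((hDord _ a.2 ha1).trans (hDord _ b.2 hb1).symm)
        obtain ⟨⟨u, ⟨c, hc⟩⟩, huc⟩ := ((show Subgroup.IsComplement _ _ from hcompl).existsUnique (φ x)).exists
        obtain ⟨j, rfl⟩ := (mem_powers_iff_mem_zpowers.2 hc : c ∈ Submonoid.powers x)
        obtain ⟨f, hf, hfa⟩ := hres φ j u u.2 huc.symm
        refine ⟨f, ⟨j, hf⟩, ?_⟩
        rw [hfa]
        congr 1
        exact Subtype.ext hφ
      · intro j hj
        have hoj : orderOf (x ^ j) = q := by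
          rw [Nat.Coprime.orderOf_pow, hx]
          rw [hx]
          exact (hq.coprime_iff_not_dvd).2 hj
        obtain ⟨φ, hφ⟩ := hsame x (x ^ j) (fun e => hq.ne_one (by rw [← hx, e, orderOf_one]))
          (hx.trans hoj.symm)
        obtain ⟨f, hf, -⟩ := hres φ j 1 D.one_mem (by rw [hφ, one_mul])
        exact ⟨f, hf⟩
    · intro y z hy hz e
      exact hnocomm z y hz hy (mul_inv_eq_iff_eq_mul.1 e).symm
  · rintro ⟨p, q, n, hp, hq, hpq, hn, hcard, hP, hroot, hfpf⟩
    obtain ⟨P⟩ : Nonempty (Sylow p G) := inferInstance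
    obtain ⟨hPn, hPab, hPexp⟩ := hP P
    obtain ⟨x, hx⟩ := exists_prime_orderOf_dvd_card' (G := G) q (hcard ▸ Dvd.intro_left _ rfl)
    have hcop : p.Coprime q := (Nat.coprime_primes hp.out hq.out).2 hpq
    have hPc : Nat.card (P : Subgroup G) = p ^ n := by
      rw [P.card_eq_multiplicity, hcard, Nat.factorization_mul (pow_ne_zero _ hp.out.ne_zero) hq.out.ne_zero,
        Finsupp.add_apply, hp.out.factorization_pow, Finsupp.single_eq_same, hq.out.factorization, Finsupp.single_eq_of_ne hpq,
        add_zero]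
    have hcompl : (P : Subgroup G).IsComplement' (Subgroup.zpowers x) := by
      refine Subgroup.isComplement'_of_coprime (by rw [Nat.card_zpowers, hx, hcard, hPc]) ?_
      rw [Nat.card_zpowers, hx, hPc]
      exact Nat.Coprime.pow_left n hcop
    refine three_orbits hpq ⟨hPn, fun a ha b hb => congrArg Subtype.val (hPab.is_comm.comm ⟨a, ha⟩ ⟨b, hb⟩),
      hPexp, hx, fun v hv e => ?_, hcompl⟩ ?_ hroot
    · by_contra hv1
      exact hfpf x v hx (orderOf_eq_prime (hPexp v hv) hv1) e
    · intro e
      rw [e, Subgroup.card_bot] at hPc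
      exact (Nat.one_lt_pow (by omega) hp.out.one_lt).ne hPc

end Cfsg.Agent.S4081
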