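import Cfsg.Statements.S4082
import Mathlib
import Cfsg.Agent.GStructB.RestrictedPCyclic

set_option autoImplicit false
open Cfsg

namespace Cfsg.Agent.S4082

open Subgroup Cfsg.Agent.GStructB.RestrictedPCyclic

universe w

variable {G : Type w} [Group G] [Finite G] {p : ℕ} [Fact p.Prime]

theorem eq_zpowers_of_card {Q : Subgroup G} {s : G} {e : ℕ} (he : orderOf s = p ^ (e + 1))
    (hQs : Q ≤ zpowers s) (hQ : Nat.card Q = p) : Q = zpowers (s ^ p ^ e) := by
  have hp : p.Prime := Fact.out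
  refine eq_of_le_of_card_ge (fun z hz => ?_) (le_of_eq ?_)
  · obtain ⟨i, hi⟩ := mem_powers_iff_mem_zpowers.2 (hQs hz)
    replace hi : s ^ i = z := hi
    have hzp : orderOf z ∣ p := hQ ▸ (Q.orderOf_dvd_natCard hz)
    rw [← hi, orderOf_dvd_iff_pow_eq_one, ← pow_mul, ← orderOf_dvd_iff_pow_eq_one, he, pow_succ,
      Nat.mul_dvd_mul_iff_right hp.pos] at hzp
    obtain ⟨j, rfl⟩ := hzp
    rw [← hi, pow_mul]
    exact pow_mem (mem_zpowers _) j
  · rw [hQ, Nat.card_zpowers, orderOf_pow_of_dvd (pow_ne_zero _ hp.ne_zero)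
      (he ▸ pow_dvd_pow p e.le_succ), he, pow_succ, Nat.mul_div_cancel_left _ (pow_pos hp.pos e)]

theorem mem_top_of_fix {P : Sylow p G} {n : G} (hn : n ∈ normalizer ((P : Subgroup G) : Set G))
    {Q : Subgroup G} (hQP : Q ≤ P) (hQ : Nat.card Q = p) {s : G} (hs : (P : Subgroup G) = zpowers s)
    (hfix : n ∈ centralizer (Q : Set G)) : n ∈ centralizer ((P : Subgroup G) : Set G) := by
  have hp : p.Prime := Fact.out
  obtain ⟨e', he'⟩ := P.2.exists_card_eq
  rw [hs, Nat.card_zpowers] at he'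
  obtain ⟨e, rfl⟩ : ∃ e, e' = e + 1 := by
    refine ⟨e' - 1, ?_⟩
    rcases Nat.eq_zero_or_pos e' with rfl | h
    · have h1 := Subgroup.card_le_of_le hQP
      rw [hs, Nat.card_zpowers, he', pow_zero, hQ] at h1
      have := hp.two_le
      omega
    · omega
  have hQeq : Q = zpowers (s ^ p ^ e) := eq_zpowers_of_card he' (hs ▸ hQP) hQ
  have hconj : ∀ i : ℕ, n ^ i * s * (n ^ i)⁻¹ ∈ zpowers s := fun i => by
    rw [← hs]
    exact (mem_normalizer_iff.1 ((normalizer ((P : Subgroup G) : Set G)).pow_mem hn i) s).1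
      (hs ▸ mem_zpowers s)
  have hcomm : ∀ i : ℕ, Commute (n ^ i) (s ^ p ^ e) := fun i => by
    refine Commute.pow_left ?_ i
    exact (mem_centralizer_iff.1 hfix _ (hQeq ▸ mem_zpowers _)).symm
  obtain ⟨a, c, hord, hc, hu⟩ := GStructB.PElements.exists_split p n
  have hy : Commute (n ^ p ^ a) s := commute_of_fix he' (hconj _) (by
    rw [orderOf_pow_of_dvd (pow_ne_zero _ hp.ne_zero) (hord ▸ dvd_mul_right _ _), hord,
      Nat.mul_div_cancel_left _ (pow_pos hp.pos a)]
    exact hc) (hcomm _)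
  have hu' : Commute (n ^ c) s := by
    have hle : zpowers (n ^ c) ≤ normalizer ((P : Subgroup G) : Set G) := zpowers_le.2 (pow_mem hn c)
    have hR : IsPGroup p ↥((P : Subgroup G) ⊔ zpowers (n ^ c)) :=
      P.2.to_sup_of_normal_left' (GStructB.PElements.isPGroup_zpowers hu) hle
    have hmem : n ^ c ∈ zpowers s := by
      rw [← hs, ← P.3 hR le_sup_left]
      exact mem_sup_right (mem_zpowers _)
    obtain ⟨i, hi⟩ := mem_zpowers_iff.1 hmem
    rw [← hi]
    exact (Commute.refl s).zpow_left i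
  refine mem_centralizer_iff.2 fun z hz => ?_
  obtain ⟨i, rfl⟩ := mem_zpowers_iff.1 (hs ▸ hz)
  refine (Commute.zpow_right (mem_centralizer_singleton_iff.1 ?_) i).eq.symm
  exact GStructB.PElements.mem_of_pow_mem_coprime (a := c) (b := p ^ a)
    ((hp.coprime_iff_not_dvd.2 hc).pow_left a).symm
    (mem_centralizer_singleton_iff.2 hu') (mem_centralizer_singleton_iff.2 hy)

theorem isCyclic_map_iso {H H' : Subgroup G} {f : G →* G} (hf : Function.Injective f)
    (h : H.map f = H') : (IsCyclic H' → IsCyclic H) ∧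
      ∀ n : ℕ, Nonempty (H' ≃* DihedralGroup n) → Nonempty (H ≃* DihedralGroup n) := by
  let e : H ≃* H' := (H.equivMapOfInjective f hf).trans (MulEquiv.subgroupCongr h)
  refine ⟨fun hc => ?_, fun n ⟨e'⟩ => ⟨e.trans e'⟩⟩
  haveI := hc
  exact isCyclic_of_surjective e.symm e.symm.surjective

theorem forward (hp2 : p ≠ 2) (P : Sylow p G)
    (hR : ∀ H : Subgroup G, Shape p H → IsCyclic H ∨ ∃ n : ℕ, Nonempty (H ≃* DihedralGroup (p ^ n))) :
    IsCyclic P ∧
      (normalizer ((P : Subgroup G) : Set G) = centralizer ((P : Subgroup G) : Set G) ∨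
       ((centralizer ((P : Subgroup G) : Set G)).relIndex (normalizer ((P : Subgroup G) : Set G)) = 2 ∧
        ∀ Q : Subgroup G, Q ≤ P → Nat.card Q = p →
          IsMulCommutative ↥(centralizer (Q : Set G)) ∧
          ∀ x : G, x ∈ normalizer (Q : Set G) → x ∉ centralizer (Q : Set G) →
            orderOf x = 2 ∧ ∀ c : G, c ∈ centralizer (Q : Set G) → x * c * x⁻¹ = c⁻¹)) := by
  have hp : p.Prime := Fact.out
  have hcyc : IsCyclic ↥(P : Subgroup G) := by
    have h1 := shape_sup (p := p) P.2 (y := 1) (one_mem _) (by rw [orderOf_one]; exact hp.not_dvd_one)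
    rw [zpowers_one_eq_bot, sup_bot_eq] at h1
    rcases hR _ h1 with h | ⟨n, ⟨e⟩⟩
    · exact h
    · exfalso
      obtain ⟨k, hk⟩ := P.2.exists_card_eq
      rw [Nat.card_congr e.toEquiv, DihedralGroup.nat_card] at hk
      exact hp2 ((Nat.prime_dvd_prime_iff_eq Nat.prime_two hp).1
        (Nat.prime_two.dvd_of_dvd_pow (hk ▸ dvd_mul_right 2 _))).symm
  obtain ⟨s, hs⟩ := (Subgroup.isCyclic_iff_exists_zpowers_eq_top (P : Subgroup G)).1 hcyc
  have hout : ∀ Q : Subgroup G, Nat.card Q = p → ∀ x ∈ normalizer (Q : Set G),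
      x ∉ centralizer (Q : Set G) →
      orderOf x = 2 ∧ ∀ c ∈ centralizer (Q : Set G), x * c * x⁻¹ = c⁻¹ := by
    intro Q hQ x hxN hxC
    obtain ⟨⟨q, hqQ⟩, hq⟩ := exists_prime_orderOf_dvd_card' (G := Q) p (by rw [hQ])
    rw [Subgroup.orderOf_mk] at hq
    have hQq : zpowers q = Q := eq_of_le_of_card_ge (zpowers_le.2 hqQ) (by rw [Nat.card_zpowers, hq, hQ])
    have key : ∀ z ∈ normalizer (Q : Set G), z ∉ centralizer (Q : Set G) → orderOf z = 2 := by
      intro z hzN hzC
      refine outside_order_two hp2 hR hq (hQq.symm ▸ (mem_normalizer_iff.1 hzN q).1 hqQ) fun h => hzC ?_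
      refine mem_centralizer_iff.2 fun w hw => ?_
      obtain ⟨i, rfl⟩ := mem_zpowers_iff.1 (hQq.symm ▸ hw)
      exact (h.zpow_right i).eq.symm
    refine ⟨key x hxN hxC, fun c hc => ?_⟩
    have h2 := key (x * c) (mul_mem hxN (centralizer_le_normalizer _ hc)) fun h => hxC (by
      have := mul_mem h (inv_mem hc)
      rwa [mul_inv_cancel_right] at this)
    have hxx : x * x = 1 := by rw [← pow_two, ← key x hxN hxC, pow_orderOf_eq_one]
    have hxc : x * c * (x * c) = 1 := by rw [← pow_two, ← h2, pow_orderOf_eq_one]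
    rw [inv_eq_of_mul_eq_one_right hxx]
    exact eq_inv_of_mul_eq_one_left (by rw [mul_assoc (x * c) x c]; exact hxc)
  refine ⟨hcyc, ?_⟩
  by_cases hN : normalizer ((P : Subgroup G) : Set G) ≤ centralizer ((P : Subgroup G) : Set G)
  · exact Or.inl (le_antisymm hN (centralizer_le_normalizer _))
  obtain ⟨n, hnN, hnC⟩ := SetLike.not_le_iff_exists.1 hN
  refine Or.inr ?_
  have hmove : ∀ Q : Subgroup G, Q ≤ P → Nat.card Q = p → ∀ b ∈ normalizer ((P : Subgroup G) : Set G),
      b ∉ centralizer ((P : Subgroup G) : Set G) →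
      b ∈ normalizer (Q : Set G) ∧ b ∉ centralizer (Q : Set G) := by
    intro Q hQP hQ b hb hbC
    refine ⟨mem_normalizer_fintype (S := (Q : Set G)) fun z hz => ?_,
      fun h => hbC (mem_top_of_fix hb hQP hQ hs.symm h)⟩
    -- the subgroup of order `p` of a cyclic group is invariant
    have hbz : b * z * b⁻¹ ∈ (P : Subgroup G) := (mem_normalizer_iff.1 hb z).1 (hQP hz)
    have hsub : Q.map (MulAut.conj b).toMonoidHom = Q := by
      have hle : Q.map (MulAut.conj b).toMonoidHom ≤ (P : Subgroup G) := by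
        rintro _ ⟨w, hw, rfl⟩
        exact (mem_normalizer_iff.1 hb w).1 (hQP hw)
      obtain ⟨k, hk⟩ := P.2.exists_card_eq
      rw [← hs, Nat.card_zpowers] at hk
      rcases k with _ | k
      · exfalso
        have h1 := Subgroup.card_le_of_le hQP
        rw [← hs, Nat.card_zpowers, hk, pow_zero, hQ] at h1
        have := hp.two_le
        omega
      rw [eq_zpowers_of_card hk (hle.trans hs.symm.le)
        ((card_map_of_injective (MulAut.conj b).injective).trans hQ),
        ← eq_zpowers_of_card hk (hQP.trans hs.symm.le) hQ]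
    exact hsub ▸ ⟨z, hz, rfl⟩
  obtain ⟨⟨q, hqP⟩, hq⟩ : ∃ q : (P : Subgroup G), orderOf q = p := by
    refine exists_prime_orderOf_dvd_card' p ?_
    obtain ⟨k, hk⟩ := P.2.exists_card_eq
    rcases k with _ | k
    · rw [pow_zero, card_eq_one] at hk
      exact absurd (mem_centralizer_iff.2 fun z hz => by
        rw [hk] at hz
        rw [mem_bot.1 hz, one_mul, mul_one]) hnC
    · rw [hk]; exact dvd_pow_self p k.succ_ne_zero
  rw [Subgroup.orderOf_mk] at hq
  have hQ0 : Nat.card (zpowers q) = p := by rw [Nat.card_zpowers, hq]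
  have hQ0P : zpowers q ≤ (P : Subgroup G) := zpowers_le.2 hqP
  have hPC : ∀ Q : Subgroup G, Q ≤ P → (P : Subgroup G) ≤ centralizer (Q : Set G) := fun Q hQP z hz =>
    mem_centralizer_iff.2 fun w hw => by
      obtain ⟨i, rfl⟩ := mem_zpowers_iff.1 (hs.symm ▸ hz)
      obtain ⟨j, rfl⟩ := mem_zpowers_iff.1 (hs.symm ▸ hQP hw)
      exact ((Commute.refl s).zpow_zpow j i).eq
  have hinv : ∀ b ∈ normalizer ((P : Subgroup G) : Set G), b ∉ centralizer ((P : Subgroup G) : Set G) →
      ∀ z ∈ (P : Subgroup G), b * z * b⁻¹ = z⁻¹ := fun b hb hbC z hz => by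
    obtain ⟨h1, h2⟩ := hmove _ hQ0P hQ0 b hb hbC
    exact (hout _ hQ0 b h1 h2).2 z (hPC _ hQ0P hz)
  refine ⟨relIndex_eq_two_iff.2 ⟨n, hnN, fun b hb => ?_⟩, fun Q hQP hQ => ⟨?_, hout Q hQ⟩⟩
  · by_cases hbC : b ∈ centralizer ((P : Subgroup G) : Set G)
    · exact Or.inr ⟨hbC, fun h => hnC (by
        have := mul_mem (inv_mem hbC) h
        rwa [inv_mul_cancel_left] at this)⟩
    · refine Or.inl ⟨mem_centralizer_iff.2 fun z hz => ?_, hbC⟩
      have h1 := hinv b hb hbC _ ((P : Subgroup G).inv_mem hz)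
      have h2 := hinv n hnN hnC z hz
      rw [inv_inv] at h1
      have h3 : b * n * z * (b * n)⁻¹ = z := by
        calc b * n * z * (b * n)⁻¹ = b * (n * z * n⁻¹) * b⁻¹ := by group
          _ = z := by rw [h2, h1]
      exact (mul_inv_eq_iff_eq_mul.1 h3).symm
  · obtain ⟨h1, h2⟩ := hmove Q hQP hQ n hnN hnC
    have hI := (hout Q hQ n h1 h2).2
    refine ⟨⟨fun c d => Subtype.ext ?_⟩⟩
    have h3 := hI _ (mul_mem c.2 d.2)
    rw [conj_mul_aux n (c : G) (d : G), hI _ c.2, hI _ d.2] at h3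
    have h4 := congrArg (fun z => z⁻¹) h3
    simp only [mul_inv_rev, inv_inv] at h4
    exact h4.symm
where
  conj_mul_aux {G : Type w} [Group G] (n c d : G) :
      n * (c * d) * n⁻¹ = (n * c * n⁻¹) * (n * d * n⁻¹) := by group

theorem backward (P : Sylow p G) (hcyc : IsCyclic P)
    (h : normalizer ((P : Subgroup G) : Set G) = centralizer ((P : Subgroup G) : Set G) ∨
      ∀ Q : Subgroup G, Q ≤ P → Nat.card Q = p → ∀ x : G, x ∈ normalizer (Q : Set G) → x ∉ centralizer (Q : Set G) →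
        orderOf x = 2 ∧ ∀ c : G, c ∈ centralizer (Q : Set G) → x * c * x⁻¹ = c⁻¹)
    (H : Subgroup G) (hH : Shape p H) :
    IsCyclic H ∨ ∃ n : ℕ, Nonempty (H ≃* DihedralGroup (p ^ n)) := by
  have hp : p.Prime := Fact.out
  obtain ⟨S₀, y₀, hS₀, -, hy₀, hy₀p, rfl⟩ := exists_of_shape hH
  obtain ⟨T, hT⟩ := hS₀.exists_le_sylow
  obtain ⟨g, hg⟩ := MulAction.exists_smul_eq G T P
  let f := (MulAut.conj g).toMonoidHom
  have hf : Function.Injective f := (MulAut.conj g).injective
  set S := S₀.map f with hS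
  set y := f y₀ with hy
  have hmap : (S₀ ⊔ zpowers y₀).map f = S ⊔ zpowers y := by
    rw [Subgroup.map_sup, MonoidHom.map_zpowers]
  obtain ⟨hcycl, hdih⟩ := isCyclic_map_iso hf hmap
  suffices IsCyclic ↥(S ⊔ zpowers y) ∨ ∃ n : ℕ, Nonempty (↥(S ⊔ zpowers y) ≃* DihedralGroup (p ^ n)) from
    this.imp hcycl fun ⟨n, hn⟩ => ⟨n, hdih _ hn⟩
  have hSP : S ≤ P := by
    rw [← hg, Sylow.coe_subgroup_smul]
    rintro _ ⟨z, hz, rfl⟩
    exact Subgroup.smul_mem_pointwise_smul z (MulAut.conj g) _ (hT hz)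
  have hyS : y ∈ normalizer (S : Set G) := le_normalizer_map f ⟨y₀, hy₀, rfl⟩
  have hyp : ¬ p ∣ orderOf y := by rwa [hy, orderOf_injective f hf]
  haveI := hcyc
  obtain ⟨s, hs⟩ := (Subgroup.isCyclic_iff_exists_zpowers_eq_top S).1
    (isCyclic_of_injective (inclusion hSP) (inclusion_injective hSP))
  by_cases hs1 : s = 1
  · left
    rw [← hs, hs1, zpowers_one_eq_bot, bot_sup_eq]
    infer_instance
  obtain ⟨e', he'⟩ := GStructB.PElements.exists_orderOf_eq P.2 (hSP (hs ▸ mem_zpowers s))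
  obtain ⟨e, rfl⟩ : ∃ e, e' = e + 1 := ⟨e' - 1, by
    rcases Nat.eq_zero_or_pos e' with rfl | h
    · exact absurd (orderOf_eq_one_iff.1 (by rw [he', pow_zero])) hs1
    · omega⟩
  have hco : (orderOf s).Coprime (orderOf y) := by
    rw [he']; exact (hp.coprime_iff_not_dvd.2 hyp).pow_left _
  have hys : y * s * y⁻¹ ∈ zpowers s := by
    rw [hs]; exact (mem_normalizer_iff.1 hyS s).1 (hs ▸ mem_zpowers s)
  by_cases hfix : Commute y (s ^ p ^ e)
  · exact Or.inl (isCyclic_of_commute hs.symm (commute_of_fix he' hys hyp hfix) hco)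
  set Q := zpowers (s ^ p ^ e) with hQdef
  have hQ : Nat.card Q = p := by
    rw [Nat.card_zpowers, orderOf_pow_of_dvd (pow_ne_zero _ hp.ne_zero)
      (he' ▸ pow_dvd_pow p e.le_succ), he', pow_succ, Nat.mul_div_cancel_left _ (pow_pos hp.pos e)]
  have hQP : Q ≤ P := zpowers_le.2 (hSP (hs ▸ pow_mem (mem_zpowers s) _))
  have hyQC : y ∉ centralizer (Q : Set G) := fun h' =>
    hfix (mem_centralizer_iff.1 h' _ (mem_zpowers _)).symm
  have hyQ : y ∈ normalizer (Q : Set G) := by
    obtain ⟨k, hk⟩ := mem_powers_iff_mem_zpowers.2 hys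
    replace hk : s ^ k = y * s * y⁻¹ := hk
    refine mem_normalizer_fintype (S := (Q : Set G)) fun z hz => ?_
    obtain ⟨i, rfl⟩ := mem_zpowers_iff.1 hz
    show y * (s ^ p ^ e) ^ i * y⁻¹ ∈ Q
    rw [← conj_zpow, ← conj_pow, ← hk, ← pow_mul, mul_comm, pow_mul]
    exact zpow_mem (pow_mem (mem_zpowers _) _) i
  have hPC : (P : Subgroup G) ≤ centralizer (Q : Set G) := fun z hz =>
    mem_centralizer_iff.2 fun w hw => congrArg Subtype.val
      (IsMulCommutative.is_comm.comm (⟨w, hQP hw⟩ : (P : Subgroup G)) ⟨z, hz⟩)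
  rcases h with hN | h
  · refine absurd ?_ hyQC
    -- Frattini
    set C := centralizer (Q : Set G) with hC
    have hCy : ((y • P : Sylow p G) : Subgroup G) ≤ C := by
      intro z hz
      rw [Sylow.coe_subgroup_smul, GStructB.PElements.mem_conj_smul] at hz
      refine mem_centralizer_iff.2 fun w hw => ?_
      have h1 := mem_centralizer_iff.1 (hPC hz) (y⁻¹ * w * y)
        ((mem_normalizer_iff''.1 hyQ w).1 hw)
      calc w * z = y * ((y⁻¹ * w * y) * (y⁻¹ * z * y)) * y⁻¹ := by group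
        _ = y * ((y⁻¹ * z * y) * (y⁻¹ * w * y)) * y⁻¹ := by rw [h1]
        _ = z * w := by group
    obtain ⟨c, hc⟩ := MulAction.exists_smul_eq C ((y • P).subtype hCy) (P.subtype hPC)
    have hcy : (c : G) * y ∈ normalizer ((P : Subgroup G) : Set G) := by
      refine mem_normalizer_fintype (S := ((P : Subgroup G) : Set G)) fun z hz => ?_
      have h1 : y * z * y⁻¹ ∈ ((y • P : Sylow p G) : Subgroup G) := by
        rw [Sylow.coe_subgroup_smul, GStructB.PElements.mem_conj_smul]
        simp only [inv_mul_cancel_left, inv_inv, mul_assoc, inv_mul_cancel, mul_one]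
        exact hz
      have h2 : (c * ⟨y * z * y⁻¹, hCy h1⟩ * c⁻¹ : C) ∈
          ((c • (y • P).subtype hCy : Sylow p C) : Subgroup C) := by
        rw [Sylow.coe_subgroup_smul, GStructB.PElements.mem_conj_smul]
        simpa [mul_assoc, mem_subgroupOf] using h1
      rw [hc, Sylow.coe_subtype, mem_subgroupOf] at h2
      simp only [Subgroup.coe_mul, Subgroup.coe_inv, mul_assoc] at h2
      simp only [mul_assoc, mul_inv_rev]
      exact h2
    rw [hN] at hcy
    have hmem : (c : G) * y ∈ C := centralizer_le (fun w hw => hQP hw) hcy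
    have := mul_mem (inv_mem c.2) hmem
    rwa [inv_mul_cancel_left] at this
  · obtain ⟨ht, hinv⟩ := h Q hQP hQ y hyQ hyQC
    refine Or.inr ⟨e + 1, ?_⟩
    rw [← he']
    refine dihedral_of_inverts hs.symm hs1 ht (fun hy' => hfix ?_) (hinv s (hPC (hSP (hs ▸ mem_zpowers s))))
    exact congrArg Subtype.val (IsMulCommutative.is_comm.comm (⟨y, hSP hy'⟩ : (P : Subgroup G))
      ⟨s ^ p ^ e, hQP (mem_zpowers _)⟩)


/-- Let p be an odd prime and G a finite group with Sylow p-subgroup P. Say that G has restricted p-by-cyclic subgroups when every subgroup H of G whose Sylow p-subgroup is normal in H with cyclic quotient is itself cyclic or dihedral of order 2pⁿ for some n. Then G has restricted p-by-cyclic subgroups if and only if P is cyclic and one of the following holds: (1) N_G(P) = C_G(P); or (2) N_G(P)/C_G(P) has order 2 and, for the subgroup Q of order p of P, the centralizer C_G(Q) is abelian and every element of N_G(Q) outside C_G(Q) is an involution inverting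 every element of C_G(Q). -/
theorem result {G : Type*} [Group G] [Finite G] {p : ℕ}
    [Fact p.Prime] (hp : p ≠ 2) (P : Sylow p G) :
    (∀ H : Subgroup G, (∀ S : Sylow p ↥H, (S : Subgroup ↥H).Normal) →
        (∀ (S : Sylow p ↥H) [(S : Subgroup ↥H).Normal], IsCyclic (↥H ⧸ (S : Subgroup ↥H))) →
        IsCyclic H ∨ (∃ n : ℕ, Nonempty (H ≃* DihedralGroup (p ^ n)))) ↔
    (IsCyclic P ∧
      (Subgroup.normalizer ((P : Subgroup G) : Set G) = Subgroup.centralizer ((P : Subgroup G) : Set G) ∨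
       ((Subgroup.centralizer ((P : Subgroup G) : Set G)).relIndex (Subgroup.normalizer ((P : Subgroup G) : Set G)) = 2 ∧
        ∀ Q : Subgroup G, Q ≤ P → Nat.card Q = p →
          IsMulCommutative ↥(Subgroup.centralizer (Q : Set G)) ∧
          ∀ x : G, x ∈ Subgroup.normalizer (Q : Set G) → x ∉ Subgroup.centralizer (Q : Set G) →
            orderOf x = 2 ∧ ∀ c : G, c ∈ Subgroup.centralizer (Q : Set G) → x * c * x⁻¹ = c⁻¹))) := by
  constructor
  · intro hR
    exact forward hp P fun H hH => hR H hH.1 hH.2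
  · rintro ⟨hc, hcase⟩ H h1 h2
    refine backward P hc ?_ H ⟨h1, h2⟩
    exact hcase.imp id fun h Q hQ hQc x hx hxC => (h.2 Q hQ hQc).2 x hx hxC

end Cfsg.Agent.S4082
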