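import Cfsg.Statements.S4083
import Mathlib
import Mathlib
import Cfsg.Agent.GStructB.RestrictedPCyclic
import Cfsg.Agent.Lib.Classical.SmallIso

set_option autoImplicit false
open Cfsg

namespace Cfsg.Agent.S4083
open Subgroup Cfsg.Agent.GStructB.RestrictedPCyclic

universe w

variable {G : Type w} [Group G] [Finite G]

/-- The three possibilities. -/
def Good (H : Subgroup G) : Prop :=
  IsCyclic H ∨ (∃ n : ℕ, Nonempty (H ≃* DihedralGroup (2 ^ n))) ∨ Nonempty (H ≃* alternatingGroup (Fin 4))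

theorem sq_of_d2 {K : Subgroup G} (e : K ≃* DihedralGroup 2) : ∀ k ∈ K, k ^ 2 = 1 := by
  intro k hk
  have h : ∀ d : DihedralGroup 2, d ^ 2 = 1 := by decide
  have h1 : (⟨k, hk⟩ : K) ^ 2 = 1 := e.injective (by rw [map_pow, h, map_one])
  exact congrArg Subtype.val h1

theorem forward (P : Sylow 2 G) (hR : ∀ H : Subgroup G, Shape 2 H → Good H) :
    IsCyclic P ∨
      ((∃ n : ℕ, 1 ≤ n ∧ Nonempty ((P : Subgroup G) ≃* DihedralGroup (2 ^ n))) ∧
        ∀ K : Subgroup G, K ≤ P → Nat.card K = 4 → (∀ k ∈ K, k ^ 2 = 1) →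
          centralizer (K : Set G) = K) := by
  have h1 := shape_sup (p := 2) P.2 (y := 1) (one_mem _) (by rw [orderOf_one]; norm_num)
  rw [zpowers_one_eq_bot, sup_bot_eq] at h1
  rcases hR _ h1 with h | ⟨n, ⟨e⟩⟩ | ⟨⟨e⟩⟩
  · exact Or.inl h
  · rcases Nat.eq_zero_or_pos n with rfl | hn
    · refine Or.inl ?_
      exact isCyclic_of_prime_card (p := 2) (by rw [Nat.card_congr e.toEquiv, DihedralGroup.nat_card]; norm_num)
    refine Or.inr ⟨⟨n, hn, ⟨e⟩⟩, fun K _ hK4 hK2 => ?_⟩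
    have hKcomm : ∀ a ∈ K, ∀ b ∈ K, Commute a b := by
      intro a ha b hb
      have h1 : ∀ c ∈ K, c⁻¹ = c := fun c hc => inv_eq_of_mul_eq_one_right (by rw [← pow_two]; exact hK2 c hc)
      show a * b = b * a
      rw [← h1 _ (mul_mem ha hb), mul_inv_rev, h1 a ha, h1 b hb]
    refine le_antisymm (fun g hg => ?_) fun a ha => mem_centralizer_iff.2 fun b hb => (hKcomm b hb a ha).eq
    obtain ⟨a, s, hord, hs, hu⟩ := GStructB.PElements.exists_split 2 g
    set u := g ^ s
    set y := g ^ 2 ^ a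
    have hyord : orderOf y = s := by
      rw [orderOf_pow_of_dvd (pow_ne_zero _ two_ne_zero) (hord ▸ dvd_mul_right _ _), hord,
        Nat.mul_div_cancel_left _ (pow_pos two_pos a)]
    have hgK : ∀ k ∈ K, Commute k g := fun k hk => mem_centralizer_iff.1 hg k hk
    have huy : Commute u y := (Commute.refl g).pow_pow _ _
    set S := K ⊔ zpowers u
    set M := S ⊔ zpowers y
    have key : ∀ z : G, (∀ k ∈ K, Commute z k) → Commute z u → Commute z y → M ≤ centralizer {z} := by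
      intro z h1 h2 h3
      refine sup_le (sup_le (fun k hk => ?_) (zpowers_le.2 ?_)) (zpowers_le.2 ?_)
      · exact mem_centralizer_singleton_iff.2 (h1 k hk).eq.symm
      · exact mem_centralizer_singleton_iff.2 h2.eq.symm
      · exact mem_centralizer_singleton_iff.2 h3.eq.symm
    have hcomm : M ≤ centralizer (M : Set G) := by
      refine sup_le (sup_le (fun k hk => ?_) (zpowers_le.2 ?_)) (zpowers_le.2 ?_) <;>
        refine mem_centralizer_iff.2 fun z hz => ?_
      · exact mem_centralizer_singleton_iff.1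
          (key k (fun b hb => hKcomm k hk b hb) ((hgK k hk).pow_right _) ((hgK k hk).pow_right _) hz)
      · exact mem_centralizer_singleton_iff.1
          (key u (fun b hb => ((hgK b hb).pow_right _).symm) (Commute.refl u) huy hz)
      · exact mem_centralizer_singleton_iff.1
          (key y (fun b hb => ((hgK b hb).pow_right _).symm) huy.symm (Commute.refl y) hz)
    have hKM : K ≤ M := le_sup_left.trans le_sup_left
    have hgM : g ∈ M :=
      GStructB.PElements.mem_of_pow_mem_coprime (a := s) (b := 2 ^ a)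
        ((Nat.prime_two.coprime_iff_not_dvd.2 hs).pow_left a).symm
        (mem_sup_left (mem_sup_right (mem_zpowers u))) (mem_sup_right (mem_zpowers y))
    have hMc : ∀ c d : M, c * d = d * c := fun c d => Subtype.ext (mem_centralizer_iff.1 (hcomm d.2) c c.2)
    have hSp : IsPGroup 2 S :=
      (IsPGroup.of_card (n := 2) (by rw [hK4]; norm_num)).to_sup_of_normal_left'
        (GStructB.PElements.isPGroup_zpowers hu) (zpowers_le.2 (mem_normalizer_fintype (S := (K : Set G))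
          fun z hz => by
            show u * z * u⁻¹ ∈ K
            rw [((hgK z hz).pow_right s).eq.symm, mul_inv_cancel_right]
            exact hz))
    have hyN : y ∈ normalizer (S : Set G) :=
      mem_normalizer_fintype (S := (S : Set G)) fun z hz => by
        have hc := hMc ⟨y, mem_sup_right (mem_zpowers y)⟩ ⟨z, mem_sup_left hz⟩
        show y * z * y⁻¹ ∈ S
        rw [show y * z = z * y from congrArg Subtype.val hc, mul_inv_cancel_right]
        exact hz
    rcases hR M (shape_sup hSp hyN (by rw [hyord]; exact hs)) with hc | ⟨m, ⟨f⟩⟩ | ⟨⟨f⟩⟩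
    · exfalso
      haveI := hc
      haveI : IsCyclic K := isCyclic_of_injective (inclusion hKM) (inclusion_injective hKM)
      obtain ⟨z, hz⟩ := IsCyclic.exists_ofOrder_eq_natCard (α := K)
      have h2 : orderOf (z : G) ∣ 2 := orderOf_dvd_iff_pow_eq_one.2 (hK2 _ z.2)
      rw [Subgroup.orderOf_coe, hz, hK4] at h2
      exact absurd (Nat.le_of_dvd two_pos h2) (by norm_num)
    · have hm : m ≤ 1 := by
        have h2 := congrArg f (hMc (f.symm (DihedralGroup.r 1)) (f.symm (DihedralGroup.sr 0)))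
        simp only [map_mul, MulEquiv.apply_symm_apply, DihedralGroup.r_mul_sr, DihedralGroup.sr_mul_r,
          DihedralGroup.sr.injEq, zero_sub, zero_add] at h2
        have h3 : ((2 : ℕ) : ZMod (2 ^ m)) = 0 := by
          rw [show ((2 : ℕ) : ZMod (2 ^ m)) = 1 + 1 by norm_num]
          linear_combination (-1 : ZMod (2 ^ m)) * h2
        rw [ZMod.natCast_eq_zero_iff] at h3
        exact (Nat.pow_le_pow_iff_right (by norm_num : 1 < 2)).1 (Nat.le_of_dvd two_pos h3)
      have hcard : Nat.card M ≤ 4 := by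
        rw [Nat.card_congr f.toEquiv, DihedralGroup.nat_card]
        calc 2 * 2 ^ m ≤ 2 * 2 ^ 1 := Nat.mul_le_mul_left 2 (Nat.pow_le_pow_right two_pos hm)
          _ = 4 := by norm_num
      rw [eq_of_le_of_card_ge hKM (by omega)]
      exact hgM
    · exfalso
      obtain ⟨c, d, hcd⟩ : ∃ c d : alternatingGroup (Fin 4), c * d ≠ d * c :=
        ⟨⟨Equiv.swap 0 1 * Equiv.swap 1 2, Equiv.Perm.mem_alternatingGroup.2 (by decide)⟩,
          ⟨Equiv.swap 1 2 * Equiv.swap 2 3, Equiv.Perm.mem_alternatingGroup.2 (by decide)⟩,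
          by decide⟩
      exact hcd (f.symm.injective (by rw [map_mul, map_mul, hMc]))
  · exfalso
    obtain ⟨k, hk⟩ := P.2.exists_card_eq
    rw [Nat.card_congr e.toEquiv, nat_card_alternatingGroup, Nat.card_fin,
      show Nat.factorial 4 / 2 = 12 from rfl] at hk
    have h3 : 3 ∣ 2 ^ k := hk ▸ (by norm_num : 3 ∣ 12)
    exact absurd (Nat.le_of_dvd two_pos (Nat.prime_three.dvd_of_dvd_pow h3)) (by norm_num)

theorem cube_commute {S : Subgroup G} (hS : Nat.card S = 4) {y g : G} (hy : y ∈ normalizer (S : Set G))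
    (hodd : ¬ 2 ∣ orderOf y) (hg : g ∈ S) : Commute (y ^ 3) g := by
  by_cases hg1 : g = 1
  · rw [hg1]; exact Commute.one_right _
  classical
  have hconj : ∀ i : ℕ, y ^ i * g * (y ^ i)⁻¹ ∈ S := fun i =>
    (mem_normalizer_iff.1 (pow_mem hy i) g).1 hg
  let φ : Fin 4 → {z : S // z ≠ 1} := fun i => ⟨⟨y ^ (i : ℕ) * g * (y ^ (i : ℕ))⁻¹, hconj _⟩, fun h =>
    hg1 (conj_eq_one_iff.1 (congrArg Subtype.val h))⟩
  haveI := Fintype.ofFinite S
  obtain ⟨i, j, hij, hφ⟩ := Fintype.exists_ne_map_eq_of_card_lt φ (by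
    rw [Fintype.card_subtype_compl, Fintype.card_subtype_eq, ← Nat.card_eq_fintype_card, hS,
      Fintype.card_fin]
    norm_num)
  have h1 : y ^ (i : ℕ) * g * (y ^ (i : ℕ))⁻¹ = y ^ (j : ℕ) * g * (y ^ (j : ℕ))⁻¹ :=
    congrArg (fun z : {z : S // z ≠ 1} => ((z : S) : G)) hφ
  have main : ∀ a d : ℕ, y ^ a * g * (y ^ a)⁻¹ = y ^ (a + d) * g * (y ^ (a + d))⁻¹ → Commute (y ^ d) g := by
    intro a d h
    rw [pow_add, mul_inv_rev] at h
    have h2 : y ^ d * g * (y ^ d)⁻¹ = g := by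
      apply mul_left_cancel (a := y ^ a)
      apply mul_right_cancel (b := (y ^ a)⁻¹)
      refine Eq.trans ?_ h.symm
      group
    exact mul_inv_eq_iff_eq_mul.1 h2
  obtain ⟨d, hd1, hd3, hd⟩ : ∃ d : ℕ, 1 ≤ d ∧ d ≤ 3 ∧ Commute (y ^ d) g := by
    rcases lt_or_gt_of_ne hij with h | h
    · refine ⟨(j : ℕ) - i, by omega, by omega, main i _ ?_⟩
      rw [Nat.add_sub_cancel' (by omega)]
      exact h1
    · refine ⟨(i : ℕ) - j, by omega, by omega, main j _ ?_⟩
      rw [Nat.add_sub_cancel' (by omega)]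
      exact h1.symm
  interval_cases d
  · rw [pow_one] at hd
    exact hd.pow_left 3
  · obtain ⟨k, hk⟩ := exists_pow_eq_self_of_coprime (x := y) (n := 2)
      (Nat.prime_two.coprime_iff_not_dvd.2 hodd)
    have h2 := hd.pow_left k
    rw [hk] at h2
    exact h2.pow_left 3
  · exact hd

theorem iso_alt {S : Subgroup G} (hS : Nat.card S = 4) {y : G} (hy : y ∈ normalizer (S : Set G))
    (hy3 : orderOf y = 3) (hne : ∃ g ∈ S, ¬ Commute y g) :
    Nonempty (↥(S ⊔ zpowers y) ≃* alternatingGroup (Fin 4)) := by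
  classical
  set H := S ⊔ zpowers y with hH
  have hdis : Disjoint S (zpowers y) := disjoint_iff.2
    (inf_eq_bot_of_coprime (by rw [hS, Nat.card_zpowers, hy3]; decide))
  have hcard : Nat.card H = 12 := by
    have h1 : (H : Set G) = Set.range fun z : S × zpowers y => (z.1 : G) * z.2 := by
      rw [hH, coe_mul_of_right_le_normalizer_left S (zpowers y) (zpowers_le.2 hy)]
      ext z
      constructor
      · rintro ⟨a, ha, b, hb, rfl⟩; exact ⟨(⟨a, ha⟩, ⟨b, hb⟩), rfl⟩
      · rintro ⟨⟨a, b⟩, rfl⟩; exact ⟨a, a.2, b, b.2, rfl⟩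
    rw [show Nat.card H = Nat.card (H : Set G) from rfl, h1,
      Nat.card_range_of_injective (mul_injective_of_disjoint hdis), Nat.card_prod, hS, Nat.card_zpowers, hy3]
  set Y := (zpowers y).subgroupOf H with hY
  have hYc : Nat.card Y = 3 := by
    rw [Nat.card_congr (subgroupOfEquivOfLe le_sup_right).toEquiv, Nat.card_zpowers, hy3]
  have hq : Nat.card (H ⧸ Y) = 4 := by
    have h1 := Y.card_mul_index
    rw [hYc, hcard, index_eq_card] at h1
    omega
  have hinj : Function.Injective (MulAction.toPermHom H (H ⧸ Y)) := by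
    rw [← MonoidHom.ker_eq_bot_iff, ← normalCore_eq_ker]
    rcases (Nat.dvd_prime Nat.prime_three).1 (hYc ▸ card_dvd_of_le (normalCore_le Y)) with h | h
    · exact card_eq_one.1 h
    · exfalso
      have he : Y.normalCore = Y := eq_of_le_of_card_ge (normalCore_le Y) (by rw [h, hYc])
      have hn : Y.Normal := he ▸ normalCore_normal Y
      obtain ⟨g, hg, hgy⟩ := hne
      apply hgy
      have h1 : g * y * g⁻¹ ∈ zpowers y :=
        hn.conj_mem (⟨y, mem_sup_right (mem_zpowers y)⟩ : H)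
          (show y ∈ zpowers y from mem_zpowers y) ⟨g, mem_sup_left hg⟩
      have h2 : g * y * g⁻¹ * y⁻¹ ∈ S ⊓ zpowers y := by
        refine ⟨?_, Subgroup.mul_mem _ h1 (Subgroup.inv_mem _ (mem_zpowers y))⟩
        rw [show g * y * g⁻¹ * y⁻¹ = g * (y * g⁻¹ * y⁻¹) by group]
        exact mul_mem hg ((mem_normalizer_iff.1 hy _).1 (inv_mem hg))
      rw [disjoint_iff.1 hdis, mem_bot, mul_inv_eq_one, mul_inv_eq_iff_eq_mul] at h2
      exact h2.symm
  let e4 : H ⧸ Y ≃ Fin 4 := Finite.equivFinOfCardEq hq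
  exact Classical.SmallIso.nonempty_mulEquiv_alternating
    ((e4.permCongrHom.toMonoidHom).comp (MulAction.toPermHom H (H ⧸ Y)))
    (e4.permCongrHom.injective.comp hinj) (by rw [hcard, Fintype.card_fin]; rfl)

theorem good_of_le (P : Sylow 2 G) {S : Subgroup G} (hSP : S ≤ P) {y : G}
    (hy : y ∈ normalizer (S : Set G)) (hodd : ¬ 2 ∣ orderOf y)
    (h : IsCyclic P ∨
      ((∃ n : ℕ, 1 ≤ n ∧ Nonempty ((P : Subgroup G) ≃* DihedralGroup (2 ^ n))) ∧
        ∀ K : Subgroup G, K ≤ P → Nat.card K = 4 → (∀ k ∈ K, k ^ 2 = 1) →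
          centralizer (K : Set G) = K)) : Good (S ⊔ zpowers y) := by
  haveI : Fact (Nat.Prime 2) := ⟨Nat.prime_two⟩
  by_cases hcS : IsCyclic S
  · left
    obtain ⟨s, hs⟩ := (Subgroup.isCyclic_iff_exists_zpowers_eq_top S).1 hcS
    obtain ⟨e', he'⟩ := GStructB.PElements.exists_orderOf_eq P.2 (hSP (hs ▸ mem_zpowers s))
    rcases e' with _ | e
    · rw [← hs, show s = 1 from orderOf_eq_one_iff.1 (by rw [he', pow_zero]), zpowers_one_eq_bot, bot_sup_eq]
      infer_instance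
    have hys : y * s * y⁻¹ ∈ zpowers s := by
      rw [hs]; exact (mem_normalizer_iff.1 hy s).1 (hs ▸ mem_zpowers s)
    refine isCyclic_of_commute hs.symm (commute_of_fix he' hys hodd ?_)
      (by rw [he']; exact (Nat.prime_two.coprime_iff_not_dvd.2 hodd).pow_left _)
    set z := s ^ 2 ^ e with hzdef
    have hz : orderOf z = 2 := by
      rw [orderOf_pow_of_dvd (pow_ne_zero _ two_ne_zero) (he' ▸ pow_dvd_pow 2 e.le_succ), he', pow_succ,
        Nat.mul_div_cancel_left _ (pow_pos two_pos e)]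
    have hzn : y * z * y⁻¹ ∈ zpowers z := by
      obtain ⟨k, hk⟩ := mem_powers_iff_mem_zpowers.2 hys
      replace hk : s ^ k = y * s * y⁻¹ := hk
      rw [hzdef, ← conj_pow, ← hk, ← pow_mul, mul_comm, pow_mul]
      exact pow_mem (mem_zpowers _) k
    obtain ⟨i, hi⟩ := mem_powers_iff_mem_zpowers.2 hzn
    replace hi : z ^ i = y * z * y⁻¹ := hi
    rw [← pow_mod_orderOf, hz] at hi
    rcases Nat.mod_two_eq_zero_or_one i with hm | hm <;> rw [hm] at hi
    · rw [pow_zero, eq_comm, conj_eq_one_iff] at hi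
      rw [hi]; exact Commute.one_right y
    · rw [pow_one] at hi
      exact mul_inv_eq_iff_eq_mul.1 hi.symm
  rcases h with hc | ⟨⟨n, hn, ⟨f⟩⟩, hK⟩
  · exact absurd (isCyclic_of_injective (inclusion hSP) (inclusion_injective hSP)) hcS
  set r : G := ((f.symm (DihedralGroup.r 1) : (P : Subgroup G)) : G) with hr
  have hrot : ∀ z : (P : Subgroup G), (z : G) ∈ zpowers r ↔ ∃ j, f z = DihedralGroup.r j := by
    intro z
    constructor
    · intro hz
      obtain ⟨i, hi⟩ := mem_zpowers_iff.1 hz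
      refine ⟨(i : ZMod (2 ^ n)), ?_⟩
      rw [← DihedralGroup.r_one_zpow, ← MulEquiv.apply_symm_apply f (DihedralGroup.r 1), ← map_zpow]
      exact congrArg f (Subtype.ext (by simpa using hi.symm))
    · rintro ⟨j, hj⟩
      refine mem_zpowers_iff.2 ⟨(j.val : ℤ), ?_⟩
      rw [hr, zpow_natCast, ← SubmonoidClass.coe_pow, ← map_pow, DihedralGroup.r_one_pow,
        ZMod.natCast_rightInverse j, ← hj, MulEquiv.symm_apply_apply]
  have hout : ∀ z ∈ S, z ∉ zpowers r → orderOf z = 2 ∧ z * r * z⁻¹ = r⁻¹ ∧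
      ∀ w ∈ S, w ∉ zpowers r → z * w ∈ zpowers r := by
    intro z hz hzr
    rcases hfz : f ⟨z, hSP hz⟩ with j | j
    · exact absurd ((hrot ⟨z, hSP hz⟩).2 ⟨j, hfz⟩) hzr
    refine ⟨by rw [← Subgroup.orderOf_mk z (hSP hz), ← f.orderOf_eq, hfz, DihedralGroup.orderOf_sr], ?_, ?_⟩
    · have h1 : (⟨z, hSP hz⟩ : (P : Subgroup G)) * f.symm (DihedralGroup.r 1) * (⟨z, hSP hz⟩ : (P : Subgroup G))⁻¹ =
          (f.symm (DihedralGroup.r 1))⁻¹ := f.injective (by
        rw [map_mul, map_mul, map_inv, map_inv, hfz, MulEquiv.apply_symm_apply, DihedralGroup.inv_sr,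
          DihedralGroup.sr_mul_r, DihedralGroup.sr_mul_sr, DihedralGroup.inv_r]
        congr 1
        ring)
      exact congrArg Subtype.val h1
    · intro w hw hwr
      rcases hfw : f ⟨w, hSP hw⟩ with l | l
      · exact absurd ((hrot ⟨w, hSP hw⟩).2 ⟨l, hfw⟩) hwr
      exact (hrot (⟨z, hSP hz⟩ * ⟨w, hSP hw⟩)).2 ⟨l - j, by rw [map_mul, hfz, hfw, DihedralGroup.sr_mul_sr]⟩
  obtain ⟨s, hs⟩ := (Subgroup.isCyclic_iff_exists_zpowers_eq_top (S ⊓ zpowers r : Subgroup G)).1
    (isCyclic_of_injective (inclusion (inf_le_right : S ⊓ zpowers r ≤ zpowers r)) (inclusion_injective _))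
  have hsS : s ∈ S := (mem_inf.1 (hs ▸ mem_zpowers s)).1
  have hsr : s ∈ zpowers r := (mem_inf.1 (hs ▸ mem_zpowers s)).2
  obtain ⟨x, hxS, hxr⟩ : ∃ x ∈ S, x ∉ zpowers r := by
    by_contra hcon
    push Not at hcon
    exact hcS (isCyclic_of_injective (inclusion (show S ≤ zpowers r from hcon)) (inclusion_injective _))
  obtain ⟨hx2, hxinv, -⟩ := hout x hxS hxr
  have hxinvR : ∀ w ∈ zpowers r, x * w * x⁻¹ = w⁻¹ := by
    intro w hw
    obtain ⟨i, rfl⟩ := mem_zpowers_iff.1 hw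
    rw [← conj_zpow, hxinv, inv_zpow]
  have hxx : x * x = 1 := by rw [← pow_two, ← hx2, pow_orderOf_eq_one]
  have hSeq : S = zpowers s ⊔ zpowers x := by
    refine le_antisymm (fun z hz => ?_) (sup_le (zpowers_le.2 hsS) (zpowers_le.2 hxS))
    by_cases hzr : z ∈ zpowers r
    · exact mem_sup_left (hs.symm ▸ mem_inf.2 ⟨hz, hzr⟩)
    · have h1 : x * z ∈ zpowers s := hs.symm ▸ mem_inf.2 ⟨mul_mem hxS hz, (hout x hxS hxr).2.2 z hz hzr⟩
      have h2 := mul_mem (mem_sup_right (S := zpowers s) (mem_zpowers x))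
        (mem_sup_left (T := zpowers x) h1)
      rwa [← mul_assoc, hxx, one_mul] at h2
  have hs1 : s ≠ 1 := by
    intro h1
    apply hcS
    rw [hSeq, h1, zpowers_one_eq_bot, bot_sup_eq]
    infer_instance
  have hxs : x ∉ zpowers s := fun h' => hxr ((zpowers_le.2 hsr) h')
  obtain ⟨e⟩ := dihedral_of_inverts rfl hs1 hx2 hxs (hxinvR s hsr)
  obtain ⟨a, ha⟩ := GStructB.PElements.exists_orderOf_eq P.2 (hSP hsS)
  by_cases hy1 : y = 1
  · refine Or.inr (Or.inl ⟨a, ?_⟩)
    rw [hy1, zpowers_one_eq_bot, sup_bot_eq, hSeq, ← ha]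
    exact ⟨e⟩
  have hfaith : ∀ K : Subgroup G, K ≤ P → Nat.card K = 4 → (∀ k ∈ K, k ^ 2 = 1) →
      ∀ t : G, ¬ 2 ∣ orderOf t → (∀ k ∈ K, Commute t k) → t = 1 := by
    intro K hKP hK4 hK2 t htodd ht
    have htK : t ∈ K := (hK K hKP hK4 hK2).le (mem_centralizer_iff.2 fun k hk => (ht k hk).eq.symm)
    rcases (Nat.dvd_prime Nat.prime_two).1 (orderOf_dvd_iff_pow_eq_one.2 (hK2 t htK)) with h' | h'
    · exact orderOf_eq_one_iff.1 h'
    · exact absurd (h' ▸ dvd_rfl) htodd
  rcases a with _ | _ | a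
  · exact absurd (orderOf_eq_one_iff.1 (by rw [ha, pow_zero])) hs1
  · -- Klein four group
    refine Or.inr (Or.inr ?_)
    rw [ha, ← hSeq] at e
    have hS4 : Nat.card S = 4 := by rw [Nat.card_congr e.toEquiv, DihedralGroup.nat_card]; rfl
    have hS2 : ∀ k ∈ S, k ^ 2 = 1 := sq_of_d2 e
    have h3 : y ^ 3 = 1 := hfaith S hSP hS4 hS2 _ (fun h' => hodd (h'.trans (orderOf_pow_dvd 3)))
      fun k hk => cube_commute hS4 hy hodd hk
    refine iso_alt hS4 hy (orderOf_eq_prime h3 hy1) ?_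
    by_contra hcon
    push Not at hcon
    exact hy1 (hfaith S hSP hS4 hS2 y hodd hcon)
  exfalso
  have hys : y * s * y⁻¹ ∈ zpowers s := by
    rw [hs]
    refine mem_inf.2 ⟨(mem_normalizer_iff.1 hy s).1 hsS, ?_⟩
    by_contra hnr
    have h2 := (hout _ ((mem_normalizer_iff.1 hy s).1 hsS) hnr).1
    rw [Involutions.Basic.orderOf_conj, ha, pow_succ, pow_succ] at h2
    have h4 : 0 < 2 ^ a := pow_pos two_pos a
    omega
  have hyz : Commute y (s ^ 2 ^ (a + 1)) := by
    obtain ⟨k, hk⟩ := mem_powers_iff_mem_zpowers.2 hys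
    replace hk : s ^ k = y * s * y⁻¹ := hk
    have hkodd : ¬ 2 ∣ k := by
      rintro ⟨l, rfl⟩
      have h1 : orderOf (s ^ (2 * l)) = orderOf s := by rw [hk, Involutions.Basic.orderOf_conj]
      have h2 : (s ^ (2 * l)) ^ 2 ^ (a + 1) = 1 := by
        rw [← pow_mul, show 2 * l * 2 ^ (a + 1) = 2 ^ (a + 1 + 1) * l by ring, pow_mul, ← ha,
          pow_orderOf_eq_one, one_pow]
      have h3 := Nat.le_of_dvd (pow_pos two_pos _) (orderOf_dvd_of_pow_eq_one h2)
      rw [h1, ha] at h3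
      exact absurd h3 (not_le.2 (Nat.pow_lt_pow_right (by norm_num) (Nat.lt_succ_self _)))
    refine mul_inv_eq_iff_eq_mul.1 ?_
    rw [← conj_pow, ← hk, ← pow_mul]
    obtain ⟨l, rfl⟩ : ∃ l, k = 2 * l + 1 := ⟨k / 2, by omega⟩
    rw [show (2 * l + 1) * 2 ^ (a + 1) = 2 ^ (a + 1 + 1) * l + 2 ^ (a + 1) by ring, pow_add, pow_mul, ← ha,
      pow_orderOf_eq_one, one_pow, one_mul]
  have hyscomm : Commute y s := commute_of_fix ha hys hodd hyz
  have hyx : Commute y x := by
    set w := y * x * y⁻¹ * x with hw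
    have hwS : y * x * y⁻¹ ∈ S := (mem_normalizer_iff.1 hy x).1 hxS
    have hnr : y * x * y⁻¹ ∉ zpowers r := by
      intro h'
      have h1 : y * x * y⁻¹ ∈ zpowers s := hs.symm ▸ mem_inf.2 ⟨hwS, h'⟩
      obtain ⟨i, hi⟩ := mem_zpowers_iff.1 h1
      apply hxs
      refine mem_zpowers_iff.2 ⟨i, ?_⟩
      have h2 : x = y⁻¹ * (s ^ i) * y := by rw [hi]; group
      rw [h2, mul_assoc, ← (hyscomm.zpow_right i).eq, inv_mul_cancel_left]
    have hws : w ∈ zpowers s := hs.symm ▸ mem_inf.2 ⟨mul_mem hwS hxS, (hout _ hwS hnr).2.2 x hxS hxr⟩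
    obtain ⟨i, hi⟩ := mem_zpowers_iff.1 hws
    have hyw : Commute y w := hi ▸ hyscomm.zpow_right i
    have hiter : ∀ k : ℕ, y ^ k * x * (y ^ k)⁻¹ = w ^ k * x := by
      intro k
      induction k with
      | zero => simp
      | succ k ih =>
        calc y ^ (k + 1) * x * (y ^ (k + 1))⁻¹ = y * (y ^ k * x * (y ^ k)⁻¹) * y⁻¹ := by
              rw [pow_succ']; group
          _ = (y * w ^ k * y⁻¹) * (y * x * y⁻¹) := by rw [ih]; group
          _ = w ^ k * (w * x) := by
              rw [(hyw.pow_right k).eq, mul_inv_cancel_right, hw, mul_assoc (y * x * y⁻¹), hxx, mul_one]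
          _ = w ^ (k + 1) * x := by rw [pow_succ]; exact (mul_assoc _ _ _).symm
    have h1 := hiter (orderOf y)
    rw [pow_orderOf_eq_one, one_mul, inv_one, mul_one, right_eq_mul] at h1
    obtain ⟨b, hb⟩ := GStructB.PElements.exists_orderOf_eq P.2 (hSP (mul_mem hwS hxS))
    have h2 : orderOf w = 1 := Nat.eq_one_of_dvd_coprimes
      ((Nat.prime_two.coprime_iff_not_dvd.2 hodd).pow_left b) (hb ▸ dvd_rfl) (orderOf_dvd_of_pow_eq_one h1)
    rw [orderOf_eq_one_iff, hw, mul_eq_one_iff_eq_inv] at h2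
    rw [inv_eq_of_mul_eq_one_right hxx] at h2
    exact mul_inv_eq_iff_eq_mul.1 h2
  have hz2 : orderOf (s ^ 2 ^ (a + 1)) = 2 := by
    rw [orderOf_pow_of_dvd (pow_ne_zero _ two_ne_zero) (ha ▸ pow_dvd_pow 2 (Nat.le_succ _)), ha,
      pow_succ 2 (a + 1), Nat.mul_div_cancel_left _ (pow_pos two_pos _)]
  obtain ⟨eK⟩ := dihedral_of_inverts (S := zpowers (s ^ 2 ^ (a + 1))) rfl
    (fun h' => by rw [h', orderOf_one] at hz2; omega) hx2
    (fun h' => hxs ((zpowers_le.2 (pow_mem (mem_zpowers s) _)) h'))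
    (hxinvR _ (pow_mem hsr _))
  rw [hz2] at eK
  refine hy1 (hfaith _ (sup_le (zpowers_le.2 (hSP (pow_mem hsS _))) (zpowers_le.2 (hSP hxS)))
    (by rw [Nat.card_congr eK.toEquiv, DihedralGroup.nat_card]) (sq_of_d2 eK) y hodd fun k hk => ?_)
  have hle : zpowers (s ^ 2 ^ (a + 1)) ⊔ zpowers x ≤ centralizer {y} :=
    sup_le (zpowers_le.2 (mem_centralizer_singleton_iff.2 hyz.eq.symm))
      (zpowers_le.2 (mem_centralizer_singleton_iff.2 hyx.eq.symm))
  exact (mem_centralizer_singleton_iff.1 (hle hk)).symm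

theorem backward (P : Sylow 2 G) (h : IsCyclic P ∨
      ((∃ n : ℕ, 1 ≤ n ∧ Nonempty ((P : Subgroup G) ≃* DihedralGroup (2 ^ n))) ∧
        ∀ K : Subgroup G, K ≤ P → Nat.card K = 4 → (∀ k ∈ K, k ^ 2 = 1) →
          centralizer (K : Set G) = K)) (H : Subgroup G) (hH : Shape 2 H) : Good H := by
  haveI : Fact (Nat.Prime 2) := ⟨Nat.prime_two⟩
  obtain ⟨S₀, y₀, hS₀, -, hy₀, hy₀p, rfl⟩ := exists_of_shape hH
  obtain ⟨T, hT⟩ := hS₀.exists_le_sylow
  obtain ⟨g, hg⟩ := MulAction.exists_smul_eq G T P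
  let f := (MulAut.conj g).toMonoidHom
  have hf : Function.Injective f := (MulAut.conj g).injective
  have hmap : (S₀ ⊔ zpowers y₀).map f = S₀.map f ⊔ zpowers (f y₀) := by
    rw [Subgroup.map_sup, MonoidHom.map_zpowers]
  let e : ↥(S₀ ⊔ zpowers y₀) ≃* ↥(S₀.map f ⊔ zpowers (f y₀)) :=
    ((S₀ ⊔ zpowers y₀).equivMapOfInjective f hf).trans (MulEquiv.subgroupCongr hmap)
  have hSP : S₀.map f ≤ P := by
    rw [← hg, Sylow.coe_subgroup_smul]
    rintro _ ⟨z, hz, rfl⟩
    exact Subgroup.smul_mem_pointwise_smul z (MulAut.conj g) _ (hT hz)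
  rcases good_of_le P hSP (le_normalizer_map f ⟨y₀, hy₀, rfl⟩)
      (by rwa [orderOf_injective f hf]) h with h' | ⟨n, ⟨e'⟩⟩ | ⟨⟨e'⟩⟩
  · haveI := h'
    exact Or.inl (isCyclic_of_surjective e.symm e.symm.surjective)
  · exact Or.inr (Or.inl ⟨n, ⟨e.trans e'⟩⟩)
  · exact Or.inr (Or.inr ⟨e.trans e'⟩)

/-- Let G be a finite group with Sylow 2-subgroup P. Every subgroup H of G whose Sylow 2-subgroup is normal in H with cyclic quotient is cyclic, dihedral of 2-power order, or isomorphic to the alternating group of degree 4, if and only if either P is cyclic, or P is dihedral (of order at least 4) and every elementary abelian subgroup K of order 4 of P satisfies C_G(K) = K. -/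
theorem result {G : Type*} [Group G] [Finite G] (P : Sylow 2 G) :
    (∀ H : Subgroup G, (∀ S : Sylow 2 ↥H, (S : Subgroup ↥H).Normal) →
        (∀ (S : Sylow 2 ↥H) [(S : Subgroup ↥H).Normal], IsCyclic (↥H ⧸ (S : Subgroup ↥H))) →
        IsCyclic H ∨ (∃ n : ℕ, Nonempty (H ≃* DihedralGroup (2 ^ n))) ∨ Nonempty (H ≃* alternatingGroup (Fin 4))) ↔
    (IsCyclic P ∨
      ((∃ n : ℕ, 1 ≤ n ∧ Nonempty ((P : Subgroup G) ≃* DihedralGroup (2 ^ n))) ∧
        ∀ K : Subgroup G, K ≤ P → Nat.card K = 4 → (∀ k ∈ K, k ^ 2 = 1) → Subgroup.centralizer (K : Set G) = K)) := by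
  constructor
  · intro hR
    haveI : Fact (Nat.Prime 2) := ⟨Nat.prime_two⟩
    exact forward P fun H hH => hR H hH.1 hH.2
  · intro h H h1 h2
    exact backward P h H ⟨h1, h2⟩

end Cfsg.Agent.S4083
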