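import Cfsg.Statements.S4084
import Mathlib

set_option autoImplicit false
open Cfsg

namespace Cfsg.Agent.S4084

theorem key_aux {X : Type*} {Y : Type*} [Group X] [Finite X] [Group Y] [Finite Y] {p q : ℕ}
    (hp : p.Prime) (hq : q.Prime) (hpq : p ≠ q) (e : X ≃ Y)
    (he : ∀ x y : X, Commute x y ↔ Commute (e x) (e y)) :
    (∃ g : X, orderOf g = p * q) → ∃ h : Y, orderOf h = p * q := by
  rintro ⟨g, hg⟩
  classical
  -- a maximal abelian subgroup containing `g`
  obtain ⟨A, hgA, hA⟩ := (Set.toFinite {S : Set X | ∀ a ∈ S, ∀ b ∈ S, Commute a b}).exists_le_maximal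
    (a := (Subgroup.zpowers g : Set X)) (fun a ha b hb => by
      obtain ⟨i, rfl⟩ := ha
      obtain ⟨j, rfl⟩ := hb
      exact (Commute.refl g).zpow_zpow i j)
  have hAc : ∀ a ∈ A, ∀ b ∈ A, Commute a b := hA.1
  have hB : ∀ a ∈ e '' A, ∀ b ∈ e '' A, Commute a b := by
    rintro _ ⟨a, ha, rfl⟩ _ ⟨b, hb, rfl⟩
    exact (he a b).mp (hAc a ha b hb)
  -- maximal commuting sets are subgroups
  have hsubA : ∀ c : X, (∀ a ∈ A, Commute c a) → c ∈ A := by
    intro c hc
    refine hA.2 (y := insert c A) ?_ (Set.subset_insert c A) (Set.mem_insert c A)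
    rintro a (rfl | ha) b (rfl | hb)
    · exact Commute.refl _
    · exact hc b hb
    · exact (hc a ha).symm
    · exact hAc a ha b hb
  have hsubB : ∀ c : Y, (∀ b ∈ e '' A, Commute c b) → c ∈ e '' A := by
    intro c hc
    refine ⟨e.symm c, hsubA _ fun a ha => (he _ _).mpr ?_, e.apply_symm_apply c⟩
    rw [e.apply_symm_apply]
    exact hc _ ⟨a, ha, rfl⟩
  let SA : Subgroup X :=
    { carrier := A
      one_mem' := hsubA 1 fun a _ => Commute.one_left a
      mul_mem' := fun {a b} ha hb => hsubA _ fun c hc => (hAc a ha c hc).mul_left (hAc b hb c hc)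
      inv_mem' := fun {a} ha => hsubA _ fun c hc => (hAc a ha c hc).inv_left }
  let SB : Subgroup Y :=
    { carrier := e '' A
      one_mem' := hsubB 1 fun a _ => Commute.one_left a
      mul_mem' := fun {a b} ha hb => hsubB _ fun c hc => (hB a ha c hc).mul_left (hB b hb c hc)
      inv_mem' := fun {a} ha => hsubB _ fun c hc => (hB a ha c hc).inv_left }
  have hc : Nat.card SB = Nat.card SA := (Nat.card_congr (Equiv.Set.image e A e.injective)).symm
  have hdvd : p * q ∣ Nat.card SB := by
    rw [hc, ← hg]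
    exact SA.orderOf_dvd_natCard (hgA (Subgroup.mem_zpowers g))
  have : Fact p.Prime := ⟨hp⟩
  have : Fact q.Prime := ⟨hq⟩
  obtain ⟨a, ha⟩ := exists_prime_orderOf_dvd_card' p (dvd_of_mul_right_dvd hdvd)
  obtain ⟨b, hb⟩ := exists_prime_orderOf_dvd_card' q (dvd_of_mul_left_dvd hdvd)
  refine ⟨(a : Y) * b, ?_⟩
  rw [(hB a.1 a.2 b.1 b.2).orderOf_mul_eq_mul_orderOf_of_coprime, Subgroup.orderOf_coe,
    Subgroup.orderOf_coe, ha, hb]
  rw [Subgroup.orderOf_coe, Subgroup.orderOf_coe, ha, hb]
  exact (Nat.coprime_primes hp hq).mpr hpq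


/-- Let G and H be finite groups whose commuting graphs are isomorphic: there is a bijection e : G → H with x, y commuting exactly when e(x), e(y) commute. Then G and H have the same prime graph: for distinct primes p, q, G has an element of order pq if and only if H does (and #G = #H, so the prime divisors agree). -/
theorem result {G H : Type*} [Group G] [Finite G] [Group H] [Finite H] (e : G ≃ H)
    (he : ∀ x y : G, Commute x y ↔ Commute (e x) (e y))
    {p q : ℕ} (hp : p.Prime) (hq : q.Prime) (hpq : p ≠ q) :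
    (∃ g : G, orderOf g = p * q) ↔ (∃ h : H, orderOf h = p * q) := by
  classical
  refine ⟨key_aux hp hq hpq e he, key_aux hp hq hpq e.symm fun x y => ?_⟩
  rw [he, e.apply_symm_apply, e.apply_symm_apply]

end Cfsg.Agent.S4084
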