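import Cfsg.Statements.S4086
import Cfsg.Agent.GStructB.PElements

set_option autoImplicit false
open Cfsg

namespace Cfsg.Agent.S4086

/-- For a finite group G the following are equivalent: every non-identity element has prime-power order; whenever two elements generate a cyclic subgroup, one of them is a power of the other (the enhanced power graph of G coincides with its power graph). -/
theorem result {G : Type*} [Group G] [Finite G] :
    (∀ g : G, g ≠ 1 → IsPrimePow (orderOf g)) ↔
    (∀ x y : G, IsCyclic ↥(Subgroup.closure ({x, y} : Set G)) → (x ∈ Subgroup.zpowers y ∨ y ∈ Subgroup.zpowers x)) := by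
  constructor
  · intro h x y hcyc
    set C := Subgroup.closure ({x, y} : Set G)
    obtain ⟨g, hg⟩ := hcyc.exists_generator
    have hx : x ∈ C := Subgroup.subset_closure (Set.mem_insert _ _)
    have hy : y ∈ C := Subgroup.subset_closure (Set.mem_insert_of_mem _ rfl)
    by_cases hg1 : g = 1
    · have : ∀ w : C, w = 1 := fun w => by
        obtain ⟨k, hk⟩ := hg w
        simp only [hg1, one_zpow] at hk
        exact hk.symm
      left
      rw [show x = 1 from congrArg Subtype.val (this ⟨x, hx⟩)]
      exact one_mem _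
    · obtain ⟨p, k, hp, -, hk⟩ := (h (g : G) (by simpa using hg1))
      have hp' : p.Prime := hp.nat_prime
      have : Fact p.Prime := ⟨hp'⟩
      have hC : ∀ w ∈ C, w ∈ Subgroup.zpowers (g : G) := fun w hw => by
        obtain ⟨j, hj⟩ := hg ⟨w, hw⟩
        exact ⟨j, congrArg Subtype.val hj⟩
      obtain ⟨i, hi⟩ := Subgroup.mem_zpowers_iff.mp (hC x hx)
      obtain ⟨j, hj⟩ := Subgroup.mem_zpowers_iff.mp (hC y hy)
      have key : ∀ a b : ℤ, Int.gcd a (orderOf (g : G)) ∣ Int.gcd b (orderOf (g : G)) →
          (g : G) ^ b ∈ Subgroup.zpowers ((g : G) ^ a) := by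
        intro a b hab
        have h1 : (Int.gcd a (orderOf (g : G)) : ℤ) ∣ b :=
          (Int.natCast_dvd_natCast.mpr hab).trans (Int.gcd_dvd_left _ _)
        obtain ⟨d, hd⟩ := h1
        refine ⟨Int.gcdA a (orderOf (g : G)) * d, ?_⟩
        dsimp only
        rw [← zpow_mul, hd, Int.gcd_eq_gcd_ab, add_mul, zpow_add, ← mul_assoc]
        rw [mul_assoc ((orderOf (g : G)) : ℤ), zpow_mul (g : G) ((orderOf (g : G)) : ℤ),
          zpow_natCast, pow_orderOf_eq_one, one_zpow, mul_one]
      have hdiv : ∀ a : ℤ, ∃ e, e ≤ k ∧ Int.gcd a (orderOf (g : G)) = p ^ e := by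
        intro a
        exact (Nat.dvd_prime_pow hp').mp (by
          rw [hk]; exact Int.natCast_dvd_natCast.mp (Int.gcd_dvd_right _ _))
      obtain ⟨e, -, he⟩ := hdiv i
      obtain ⟨f, -, hf⟩ := hdiv j
      rw [← hi, ← hj]
      rcases le_total e f with hef | hef
      · exact Or.inr (key i j (by rw [he, hf]; exact pow_dvd_pow p hef))
      · exact Or.inl (key j i (by rw [he, hf]; exact pow_dvd_pow p hef))
  · intro h g hg1
    obtain ⟨p, hp, hpd⟩ := Nat.exists_prime_and_dvd (mt orderOf_eq_one_iff.mp hg1)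
    have : Fact p.Prime := ⟨hp⟩
    obtain ⟨a, s, ha, hs, hsp⟩ := GStructB.PElements.exists_split p g
    have ha0 : a ≠ 0 := fun h0 => by
      rw [ha, h0, pow_zero, one_mul] at hpd
      exact hs hpd
    by_cases hs1 : s = 1
    · rw [ha, hs1, mul_one]
      exact hp.isPrimePow.pow ha0
    exfalso
    have hcop : (p ^ a).Coprime s := (hp.coprime_iff_not_dvd.mpr hs).pow_left _
    have hy : orderOf (g ^ p ^ a) = s := by
      rw [orderOf_pow' g (pow_ne_zero _ hp.ne_zero), ha, Nat.gcd_eq_right (dvd_mul_right _ _),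
        Nat.mul_div_cancel_left _ (pow_pos hp.pos a)]
    have hcyc : IsCyclic ↥(Subgroup.closure ({g ^ s, g ^ p ^ a} : Set G)) := by
      refine Subgroup.isCyclic_of_le (H' := Subgroup.zpowers g) ?_
      rw [Subgroup.closure_le]
      rintro w (rfl | rfl) <;> exact Subgroup.npow_mem_zpowers g _
    rcases h _ _ hcyc with h1 | h1
    · have := orderOf_dvd_of_mem_zpowers h1
      rw [hsp, hy] at this
      have h2 : p ^ a = 1 := Nat.eq_one_of_dvd_coprimes hcop dvd_rfl this
      exact (Nat.one_lt_pow ha0 hp.one_lt).ne' h2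
    · have := orderOf_dvd_of_mem_zpowers h1
      rw [hsp, hy] at this
      exact hs1 (Nat.eq_one_of_dvd_coprimes hcop this dvd_rfl)

end Cfsg.Agent.S4086
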