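import Cfsg.Statements.S4088
import Mathlib
import Cfsg.Agent.GStructB.SubnormalizerCount

set_option autoImplicit false
open Cfsg

namespace Cfsg.Agent.S4088
open scoped Pointwise

/-- Let G be a finite group, p a prime dividing the order of G, H a p-subgroup of G and P a Sylow p-subgroup of G. Call the subnormalizer of H the set of elements g of G such that H is subnormal in the subgroup generated by H and g. Then the number of elements of the subnormalizer of H equals the number of Sylow p-subgroups of G containing H times the order of N_G(P), and also equals the number of conjugates of H contained in P times the order of N_G(H). -/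
theorem result {G : Type*} [Group G] [Finite G] (p : ℕ) [Fact p.Prime]
    (hp : p ∣ Nat.card G) (H : Subgroup G) (hH : IsPGroup p H) (P : Sylow p G) :
    Nat.card {g : G // ((H).subgroupOf (H ⊔ Subgroup.zpowers g)).IsSubnormal} =
        Nat.card {Q : Sylow p G // H ≤ (Q : Subgroup G)} * Nat.card (Subgroup.normalizer ((P : Subgroup G) : Set G)) ∧
    Nat.card {g : G // ((H).subgroupOf (H ⊔ Subgroup.zpowers g)).IsSubnormal} =
        Nat.card {K : Subgroup G // K ≤ (P : Subgroup G) ∧ ∃ g : G, K = H.map (MulAut.conj g).toMonoidHom} *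
          Nat.card (Subgroup.normalizer (H : Set G)) := by
  classical
  have := Fintype.ofFinite G
  have h1 := GStructB.SubnormalizerCount.card_subnormalizer p hH P
  refine ⟨h1, ?_⟩
  rw [h1]
  let T := {K : Subgroup G // ∃ g : G, K = H.map (MulAut.conj g).toMonoidHom}
  have hsm : ∀ (g : G) (K : Subgroup G), K.map (MulAut.conj g).toMonoidHom = MulAut.conj g • K :=
    fun _ _ => rfl
  have hT : Nat.card T = (Subgroup.normalizer (H : Set G)).index := by
    refine (Nat.card_congr (Equiv.ofBijective
      (Quotient.lift (fun g : G => (⟨MulAut.conj g • H, g, rfl⟩ : T)) ?_ :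
        G ⧸ Subgroup.normalizer (H : Set G) → T) ⟨?_, ?_⟩)).symm
    · intro a b hab
      have hab' := QuotientGroup.leftRel_apply.mp hab
      apply Subtype.ext
      show MulAut.conj a • H = MulAut.conj b • H
      rw [← Coprime.conj_smul_eq_self_iff] at hab'
      conv_lhs => rw [← hab']
      rw [smul_smul, ← map_mul, mul_inv_cancel_left]
    · intro a b hab
      induction a using QuotientGroup.induction_on with
      | _ a =>
      induction b using QuotientGroup.induction_on with
      | _ b =>
      have e : MulAut.conj a • H = MulAut.conj b • H := congrArg Subtype.val hab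
      apply QuotientGroup.eq.mpr
      rw [← Coprime.conj_smul_eq_self_iff, map_mul, mul_smul, ← e, smul_smul, ← map_mul,
        inv_mul_cancel, map_one, one_smul]
    · rintro ⟨K, g, rfl⟩
      exact ⟨QuotientGroup.mk g, rfl⟩
  have eA : ∀ Q : Sylow p G, Nat.card {K : T // K.1 ≤ (Q : Subgroup G)} =
      Nat.card {K : Subgroup G // K ≤ (P : Subgroup G) ∧ ∃ g : G, K = H.map (MulAut.conj g).toMonoidHom} := by
    intro Q
    obtain ⟨g, rfl⟩ := MulAction.exists_smul_eq G P Q
    refine Nat.card_congr ((Equiv.subtypeSubtypeEquivSubtypeInter (fun K : Subgroup G => ∃ a : G, K = H.map (MulAut.conj a).toMonoidHom)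
      (fun K : Subgroup G => K ≤ ((g • P : Sylow p G) : Subgroup G))).trans
      (Equiv.subtypeEquiv (MulAction.toPerm (MulAut.conj g⁻¹)) fun K => ?_))
    show (∃ a : G, K = H.map (MulAut.conj a).toMonoidHom) ∧ _ ≤ _ ↔ MulAut.conj g⁻¹ • K ≤ _ ∧ _
    rw [Sylow.coe_subgroup_smul, Subgroup.subset_pointwise_smul_iff, ← map_inv]
    refine ⟨fun ⟨⟨a, ha⟩, h⟩ => ⟨h, g⁻¹ * a, ?_⟩, fun ⟨h, a, ha⟩ => ⟨⟨g * a, ?_⟩, h⟩⟩
    · rw [ha, hsm, hsm, MulAction.toPerm_apply, smul_smul, ← map_mul]
    · rw [hsm, map_mul, mul_smul, ← hsm a, ← ha, MulAction.toPerm_apply, smul_smul, ← map_mul, mul_inv_cancel, map_one, one_smul]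
  have eB : ∀ K : T, Nat.card {Q : Sylow p G // K.1 ≤ (Q : Subgroup G)} =
      Nat.card {Q : Sylow p G // H ≤ (Q : Subgroup G)} := by
    rintro ⟨K, g, rfl⟩
    refine Nat.card_congr (Equiv.subtypeEquiv (MulAction.toPerm g⁻¹) fun Q => ?_)
    show MulAut.conj g • H ≤ _ ↔ H ≤ ((g⁻¹ • Q : Sylow p G) : Subgroup G)
    rw [Sylow.coe_subgroup_smul, Subgroup.pointwise_smul_subset_iff, ← map_inv]
  have hcount : Nat.card (Sylow p G) *
      Nat.card {K : Subgroup G // K ≤ (P : Subgroup G) ∧ ∃ g : G, K = H.map (MulAut.conj g).toMonoidHom} =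
      Nat.card T * Nat.card {Q : Sylow p G // H ≤ (Q : Subgroup G)} := by
    have e1 : Nat.card {x : Sylow p G × T // x.2.1 ≤ (x.1 : Subgroup G)} = Nat.card (Sylow p G) *
        Nat.card {K : Subgroup G // K ≤ (P : Subgroup G) ∧ ∃ g : G, K = H.map (MulAut.conj g).toMonoidHom} := by
      rw [Nat.card_congr (Equiv.subtypeProdEquivSigmaSubtype fun (Q : Sylow p G) (K : T) => K.1 ≤ (Q : Subgroup G)),
        Nat.card_sigma, Finset.sum_congr rfl (fun Q _ => eA Q), Finset.sum_const, smul_eq_mul,
        Finset.card_univ, ← Nat.card_eq_fintype_card]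
    have e2 : Nat.card {x : T × Sylow p G // x.1.1 ≤ (x.2 : Subgroup G)} =
        Nat.card T * Nat.card {Q : Sylow p G // H ≤ (Q : Subgroup G)} := by
      rw [Nat.card_congr (Equiv.subtypeProdEquivSigmaSubtype fun (K : T) (Q : Sylow p G) => K.1 ≤ (Q : Subgroup G)),
        Nat.card_sigma, Finset.sum_congr rfl (fun Q _ => eB Q), Finset.sum_const, smul_eq_mul,
        Finset.card_univ, ← Nat.card_eq_fintype_card]
    rw [← e1, ← e2]
    exact Nat.card_congr (Equiv.subtypeEquiv (Equiv.prodComm _ _) fun x => Iff.rfl)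
  have eP : (Subgroup.normalizer ((P : Subgroup G) : Set G)).index = Nat.card (Sylow p G) :=
    P.card_eq_index_normalizer.symm
  rw [hT, ← eP] at hcount
  have k1 := (Subgroup.normalizer ((P : Subgroup G) : Set G)).card_mul_index
  have k2 := (Subgroup.normalizer (H : Set G)).card_mul_index
  refine Nat.eq_of_mul_eq_mul_left (Nat.card_pos (α := G)) ?_
  nth_rewrite 1 [← k2]
  rw [← k1]
  generalize Nat.card {Q : Sylow p G // H ≤ (Q : Subgroup G)} = l at hcount ⊢
  generalize Nat.card {K : Subgroup G // K ≤ (P : Subgroup G) ∧ ∃ g : G, K = H.map (MulAut.conj g).toMonoidHom} = a at hcount ⊢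
  calc _ = Nat.card (Subgroup.normalizer (H : Set G)) * Nat.card (Subgroup.normalizer ((P : Subgroup G) : Set G)) *
        ((Subgroup.normalizer (H : Set G)).index * l) := by ring
    _ = _ := by rw [← hcount]; ring

end Cfsg.Agent.S4088
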