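import Cfsg.Statements.S4089
import Mathlib
import Cfsg.Agent.GStructB.Subnormalizer

set_option autoImplicit false
open Cfsg

namespace Cfsg.Agent.S4089

/-- Let G be a finite group, p a prime and H a p-subgroup of G. Then the set of elements g of G such that H is subnormal in the subgroup generated by H and g is the union of the normalizers N_G(R) over the subgroups R of G containing H with R = O_p(N_G(R)); and this set does not change when H is replaced by the intersection of all Sylow p-subgroups of G containing H. -/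
theorem result {G : Type*} [Group G] [Finite G] (p : ℕ) [Fact p.Prime]
    (H : Subgroup G) (hH : IsPGroup p H) :
    {g : G | ((H).subgroupOf (H ⊔ Subgroup.zpowers g)).IsSubnormal} =
      {g : G | ∃ R : Subgroup G, H ≤ R ∧ (Cfsg.pCore p (Subgroup.normalizer (R : Set G))).map (Subgroup.normalizer (R : Set G)).subtype = R ∧ g ∈ Subgroup.normalizer (R : Set G)} ∧
    ∀ g : G, (((H).subgroupOf (H ⊔ Subgroup.zpowers g)).IsSubnormal ↔
      (((sInf {K : Subgroup G | ∃ Q : Sylow p G, H ≤ (Q : Subgroup G) ∧ K = (Q : Subgroup G)})).subgroupOf ((sInf {K : Subgroup G | ∃ Q : Sylow p G, H ≤ (Q : Subgroup G) ∧ K = (Q : Subgroup G)}) ⊔ Subgroup.zpowers g)).IsSubnormal) := by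
  set S := sInf {K : Subgroup G | ∃ Q : Sylow p G, H ≤ (Q : Subgroup G) ∧ K = (Q : Subgroup G)} with hS
  have hle : H ≤ S := le_sInf fun K hK => by
    obtain ⟨Q, hQ, rfl⟩ := hK
    exact hQ
  have hSp : IsPGroup p S := by
    obtain ⟨Q, hQ⟩ := hH.exists_le_sylow
    exact Q.2.to_le (sInf_le ⟨Q, hQ, rfl⟩)
  refine ⟨?_, fun g => ?_⟩
  · ext g
    simp only [Set.mem_ofPred_eq]
    rw [GStructB.Subnormalizer.isSubnormal_iff hH]
    constructor
    · rintro ⟨U, hHU, hU, hg⟩
      obtain ⟨R, hUR, hR, hN⟩ := GStructB.Subnormalizer.exists_radical U hU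
      exact ⟨R, hHU.trans hUR, hR, hN hg⟩
    · rintro ⟨R, hHR, hR, hg⟩
      exact ⟨R, hHR, hR ▸ (Cores.pCore_isPGroup p).map _, hg⟩
  · rw [GStructB.Subnormalizer.isSubnormal_iff hH, GStructB.Subnormalizer.isSubnormal_iff hSp]
    constructor
    · rintro ⟨U, hHU, hU, hg⟩
      obtain ⟨R, hUR, hR, hN⟩ := GStructB.Subnormalizer.exists_radical U hU
      refine ⟨R, le_trans ?_ (GStructB.Subnormalizer.inter_sylow_le hR),
        hR ▸ (Cores.pCore_isPGroup p).map _, hN hg⟩
      refine le_sInf fun K hK => sInf_le ?_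
      obtain ⟨Q, hQ, rfl⟩ := hK
      exact ⟨Q, (hHU.trans hUR).trans hQ, rfl⟩
    · rintro ⟨U, hSU, hU, hg⟩
      exact ⟨U, hle.trans hSU, hU, hg⟩

end Cfsg.Agent.S4089
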