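import Cfsg.Statements.S4092
import Cfsg.Agent.GStructB.FrobeniusCount

set_option autoImplicit false
open Cfsg

namespace Cfsg.Agent.S4092

/-- Let G be a finite group, p a prime and P a Sylow p-subgroup of G that is not normal in G. Then G has at least p·#P elements of p-power order (the identity included). -/
theorem result {G : Type*} [Group G] [Finite G] (p : ℕ) [Fact p.Prime]
    (P : Sylow p G) (hP : ¬ (P : Subgroup G).Normal) :
    p * Nat.card (P : Subgroup G) ≤ Nat.card {g : G // ∃ k : ℕ, orderOf g = p ^ k} := by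
  classical
  have hp := (Fact.out : p.Prime)
  obtain ⟨n, hn⟩ := P.2.exists_card_eq
  set L := Nat.card {g : G // ∃ k : ℕ, orderOf g = p ^ k} with hL
  have hdvd : Nat.card (P : Subgroup G) ∣ L := by
    have h1 := GStructB.FrobeniusCount.dvd_numPowOne (Subgroup.card_subgroup_dvd_card (P : Subgroup G))
    refine h1.trans (dvd_of_eq (Nat.card_congr (Equiv.subtypeEquivRight fun g => ?_)))
    rw [hn, ← orderOf_dvd_iff_pow_eq_one, Nat.dvd_prime_pow hp]
    constructor
    · rintro ⟨k, -, hk⟩; exact ⟨k, hk⟩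
    · rintro ⟨k, hk⟩
      refine ⟨k, ?_, hk⟩
      obtain ⟨Q, hQ⟩ := (IsPGroup.of_card (n := k) (G := Subgroup.zpowers g)
        (by rw [Nat.card_zpowers, hk])).exists_le_sylow
      have h2 : p ^ k ∣ p ^ n := by
        rw [← hk, ← hn, P.card_eq_multiplicity, ← Q.card_eq_multiplicity]
        exact (Q : Subgroup G).orderOf_dvd_natCard (hQ (Subgroup.mem_zpowers g))
      exact (Nat.pow_dvd_pow_iff_le_right hp.one_lt).mp h2
  -- more p-elements than in P
  have hlt : Nat.card (P : Subgroup G) < L := by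
    by_contra hle
    rw [not_lt] at hle
    have hset : ∀ g : G, (∃ k : ℕ, orderOf g = p ^ k) → g ∈ P := by
      have hinj : Function.Injective (fun x : (P : Subgroup G) =>
          (⟨x.1, (IsPGroup.iff_orderOf.mp P.2 x).imp fun k hk => by
            rw [← hk, Subgroup.orderOf_coe]⟩ : {g : G // ∃ k : ℕ, orderOf g = p ^ k})) :=
        fun a b h => Subtype.ext (congrArg Subtype.val h :)
      have := (hinj.bijective_of_nat_card_le (by simpa using hle)).2
      intro g hg
      obtain ⟨x, hx⟩ := this ⟨g, hg⟩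
      have : (x : G) = g := congrArg Subtype.val hx
      exact this ▸ x.2
    refine hP ⟨fun x hx g => hset _ ?_⟩
    obtain ⟨k, hk⟩ := IsPGroup.iff_orderOf.mp P.2 ⟨x, hx⟩
    exact ⟨k, by rwa [show orderOf (g * x * g⁻¹) = orderOf x from
      orderOf_injective (MulAut.conj g).toMonoidHom (MulAut.conj g).injective x,
      ← Subgroup.orderOf_mk x hx]⟩
  have hmod : p - 1 ∣ L - 1 := by
    have := Fintype.ofFinite G
    have h1 : L - 1 = (Finset.univ.filter fun g : G =>
        (∃ k : ℕ, orderOf g = p ^ k) ∧ g ≠ 1).card := by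
      rw [hL, Nat.card_eq_fintype_card, Fintype.card_subtype]
      rw [← Finset.card_erase_of_mem (a := (1 : G)) (by simp; exact ⟨0, by simp⟩)]
      congr 1
      ext g
      simp [and_comm]
    rw [h1, Finset.card_eq_sum_card_image (fun g => orderOf g)]
    refine Finset.dvd_sum fun m hm => ?_
    obtain ⟨g, hg, rfl⟩ := Finset.mem_image.mp hm
    simp only [Finset.mem_filter, Finset.mem_univ, true_and] at hg
    obtain ⟨⟨k, hk⟩, hg1⟩ := hg
    obtain ⟨j, rfl⟩ : ∃ j, k = j + 1 := ⟨k - 1, by
      rcases Nat.eq_zero_or_pos k with rfl | h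
      · exact absurd (orderOf_eq_one_iff.mp (by simpa using hk)) hg1
      · omega⟩
    have heq : {x ∈ Finset.univ.filter (fun g : G => (∃ k : ℕ, orderOf g = p ^ k) ∧ g ≠ 1) |
        orderOf x = orderOf g} = Finset.univ.filter (fun x : G => orderOf x = orderOf g) := by
      ext x
      simp only [Finset.mem_filter, Finset.mem_univ, true_and]
      refine ⟨fun h => h.2, fun h => ⟨⟨⟨j + 1, h.trans hk⟩, fun hx => ?_⟩, h⟩⟩
      rw [hx, orderOf_one, hk] at h
      exact absurd h.symm (Nat.one_lt_pow (by omega) hp.one_lt).ne'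
    rw [heq, ← Fintype.card_subtype, ← Nat.card_eq_fintype_card]
    refine dvd_trans ?_ (GStructB.FrobeniusCount.totient_dvd_card_orderOf _)
    rw [hk, Nat.totient_prime_pow_succ hp]
    exact dvd_mul_left _ _
  obtain ⟨c, hc⟩ := hdvd
  have hP0 : 0 < Nat.card (P : Subgroup G) := Nat.card_pos
  have hc2 : 2 ≤ c := by
    by_contra h
    interval_cases c <;> omega
  -- the quotient is congruent to one modulo p - 1
  have hPmod : Nat.card (P : Subgroup G) ≡ 1 [MOD p - 1] := by
    rw [hn]
    simpa using (((Nat.modEq_iff_dvd' hp.one_le).mpr dvd_rfl).symm.pow n)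
  have hcm : c ≡ 1 [MOD p - 1] := by
    have h1 : L ≡ 1 [MOD p - 1] := ((Nat.modEq_iff_dvd' (by omega)).mpr hmod).symm
    rw [hc] at h1
    simpa using ((hPmod.mul_right c).symm.trans h1)
  have hpc : p ≤ c := by
    have := Nat.le_of_dvd (by omega) ((Nat.modEq_iff_dvd' (by omega)).mp hcm.symm)
    omega
  rw [hc, mul_comm]
  exact Nat.mul_le_mul_left _ hpc

end Cfsg.Agent.S4092
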