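import Cfsg.Statements.S4093
import Mathlib
import Cfsg.Agent.GStructB.PElements

set_option autoImplicit false
open scoped BigOperators
open Cfsg

namespace Cfsg.Agent.S4093

/-- Let G be a finite group with a normal subgroup N complementing a Sylow p-subgroup P (a normal p-complement). Then the number of elements of G of p-power order equals the sum over x ∈ P of the index of C_N(x) in N. -/
theorem result {G : Type*} [Group G] [Finite G] (p : ℕ) [Fact p.Prime]
    (P : Sylow p G) (N : Subgroup G) [N.Normal] (hNP : N.IsComplement' (P : Subgroup G)) :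
    Nat.card {g : G // ∃ k : ℕ, orderOf g = p ^ k} =
      ∑ᶠ x : (P : Subgroup G), Nat.card N / Nat.card ↥(N ⊓ Subgroup.centralizer ({(x : G)} : Set G)) := by
  classical
  have hp := (Fact.out : p.Prime)
  have := Fintype.ofFinite G
  rw [finsum_eq_sum_of_fintype]
  -- the fibre above each element of the Sylow subgroup is an `N`-class
  have key : ∀ g : G, (∃ k, orderOf g = p ^ k) ↔
      ∃ x : (P : Subgroup G), ∃ n ∈ N, g = n * (x : G) * n⁻¹ := by
    intro g
    constructor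
    · rintro ⟨k, hk⟩
      obtain ⟨S, hS⟩ := GStructB.PElements.exists_mem_sylow hk
      obtain ⟨c, rfl⟩ := MulAction.exists_smul_eq G P S
      obtain ⟨n, hn, x, hx, rfl⟩ := Subgroup.mem_sup_of_normal_left.mp
        (show c ∈ N ⊔ (P : Subgroup G) from hNP.sup_eq_top ▸ Subgroup.mem_top c)
      rw [mul_smul, (Sylow.smul_eq_iff_mem_normalizer.mpr (Subgroup.le_normalizer hx) : x • P = P)] at hS
      change g ∈ ((n • P : Sylow p G) : Subgroup G) at hS
      rw [Sylow.coe_subgroup_smul, GStructB.PElements.mem_conj_smul] at hS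
      exact ⟨⟨_, hS⟩, n, hn, by group⟩
    · rintro ⟨x, n, -, rfl⟩
      obtain ⟨k, hk⟩ := GStructB.PElements.exists_orderOf_eq P.2 x.2
      exact ⟨k, by rw [← hk]; exact orderOf_injective (MulAut.conj n).toMonoidHom (MulAut.conj n).injective _⟩
  have huniq : ∀ (x y : ↥(P : Subgroup G)) (n : G), n ∈ N → n * (x : G) * n⁻¹ = (y : G) → x = y := by
    intro x y n hn h
    have h1 : (x : G)⁻¹ * y ∈ N := by
      rw [← h, show (x : G)⁻¹ * (n * x * n⁻¹) = (x : G)⁻¹ * n * (x : G)⁻¹⁻¹ * n⁻¹ by group]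
      exact mul_mem (‹N.Normal›.conj_mem n hn _) (inv_mem hn)
    have h2 : (x : G)⁻¹ * y ∈ N ⊓ (P : Subgroup G) :=
      Subgroup.mem_inf.mpr ⟨h1, (P : Subgroup G).mul_mem ((P : Subgroup G).inv_mem x.2) y.2⟩
    rw [hNP.disjoint.eq_bot, Subgroup.mem_bot, inv_mul_eq_one] at h2
    exact Subtype.ext h2
  let f : (Σ x : ↥(P : Subgroup G), {w : G // ∃ n ∈ N, w = n * (x : G) * n⁻¹}) →
      {g : G // ∃ k : ℕ, orderOf g = p ^ k} := fun z =>
    ⟨z.2.1, (key _).mpr ⟨z.1, z.2.2⟩⟩
  have hf : Function.Bijective f := by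
    constructor
    · rintro ⟨x, w, n, hn, rfl⟩ ⟨y, w', n', hn', rfl⟩ h
      have h' : n * (x : G) * n⁻¹ = n' * (y : G) * n'⁻¹ := congrArg Subtype.val h
      obtain rfl := huniq x y (n'⁻¹ * n) (mul_mem (inv_mem hn') hn) (by
        calc n'⁻¹ * n * (x : G) * (n'⁻¹ * n)⁻¹ = n'⁻¹ * (n * x * n⁻¹) * n' := by group
          _ = y := by rw [h']; group)
      exact congrArg _ (Subtype.ext h')
    · rintro ⟨g, hg⟩
      obtain ⟨x, hx⟩ := (key g).mp hg
      exact ⟨⟨x, g, hx⟩, rfl⟩
  rw [← Nat.card_congr (Equiv.ofBijective f hf), Nat.card_sigma]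
  refine Finset.sum_congr rfl fun x _ => ?_
  set K := N ⊓ Subgroup.centralizer ({(x : G)} : Set G)
  have hK : K ≤ N := inf_le_left
  have hidx : K.relIndex N = Nat.card {w : G // ∃ n ∈ N, w = n * (x : G) * n⁻¹} := by
    refine Nat.card_congr (Equiv.ofBijective (Quotient.lift
      (fun n : N => (⟨(n : G) * x * (n : G)⁻¹, n, n.2, rfl⟩ : {w : G // ∃ m ∈ N, w = m * (x : G) * m⁻¹}))
      ?_) ⟨?_, ?_⟩)
    · intro a b hab
      replace hab := Subgroup.mem_subgroupOf.mp (QuotientGroup.leftRel_apply.mp hab)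
      have h1 := Subgroup.mem_centralizer_singleton_iff.mp hab.2
      simp only [Subgroup.coe_mul, Subgroup.coe_inv] at h1
      apply Subtype.ext
      calc (a : G) * x * (a : G)⁻¹ = (a : G) * ((x : G) * ((a : G)⁻¹ * b)) * (b : G)⁻¹ := by group
        _ = (b : G) * x * (b : G)⁻¹ := by rw [← h1]; group
    · rintro ⟨a⟩ ⟨b⟩ h
      have h' : (a : G) * x * (a : G)⁻¹ = (b : G) * x * (b : G)⁻¹ := congrArg Subtype.val h
      change (QuotientGroup.mk a : N ⧸ K.subgroupOf N) = QuotientGroup.mk b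
      rw [QuotientGroup.eq, Subgroup.mem_subgroupOf]
      refine Subgroup.mem_inf.mpr ⟨N.mul_mem (N.inv_mem a.2) b.2,
        Subgroup.mem_centralizer_singleton_iff.mpr ?_⟩
      simp only [Subgroup.coe_mul, Subgroup.coe_inv]
      calc (a : G)⁻¹ * b * x = (a : G)⁻¹ * ((b : G) * x * (b : G)⁻¹) * b := by group
        _ = (x : G) * ((a : G)⁻¹ * b) := by rw [← h']; group
    · rintro ⟨w, n, hn, rfl⟩
      exact ⟨QuotientGroup.mk ⟨n, hn⟩, rfl⟩
  rw [← hidx]
  have h3 := Subgroup.relIndex_mul_relIndex ⊥ K N bot_le hK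
  rw [Subgroup.relIndex_bot_left, Subgroup.relIndex_bot_left] at h3
  exact (Nat.div_eq_of_eq_mul_right Nat.card_pos h3.symm).symm

end Cfsg.Agent.S4093
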