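import Cfsg.Statements.S4097
import Mathlib
import Cfsg.Agent.S4001

set_option autoImplicit false
open Cfsg

namespace Cfsg.Agent.S4097

open Subgroup
open scoped Pointwise

universe w

theorem le_center_aux : ∀ (n : ℕ) (G : Type w) [Group G] [Finite G], Nat.card G = n → ∀ (A : Subgroup G),
    Group.IsSolvable A →
    (∀ S : Subgroup G, A ≤ S → Group.IsSolvable S → ∀ a ∈ A, ∀ s ∈ S, a * s = s * a) →
    A ≤ center G := by
  intro n
  induction n using Nat.strong_induction_on with
  | _ n ih =>
  intro G _ _ hn A hA hc
  by_contra hnot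
  have hab : ∀ a ∈ A, ∀ b ∈ A, a * b = b * a := hc A le_rfl hA
  have hnsol : ¬ Group.IsSolvable G := fun h => hnot fun a ha => by
    haveI := h
    exact mem_center_iff.2 fun g => (hc ⊤ le_top inferInstance a ha g (mem_top g)).symm
  set M := centralizer (A : Set G) with hMdef
  have hMtop : M ≠ ⊤ := fun h => hnot fun a ha => mem_center_iff.2 fun g =>
    (mem_centralizer_iff.1 (show g ∈ M by rw [h]; exact mem_top g) a ha).symm
  have hAM : A ≤ M := fun a ha => mem_centralizer_iff.2 fun b hb => hab b hb a ha
  -- proper overgroups centralise `A`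
  have hsub : ∀ H : Subgroup G, A ≤ H → H ≠ ⊤ → H ≤ M := by
    intro H hAH hH
    have hlt : Nat.card H < n := hn ▸ lt_of_le_of_ne (card_le_card_group H)
      (fun h => hH (eq_top_of_card_eq H h))
    haveI := hA
    have hA' : Group.IsSolvable (A.subgroupOf H) :=
      Group.isSolvable_of_isSolvable_injective (f := (subgroupOfEquivOfLe hAH).toMonoidHom)
        (subgroupOfEquivOfLe hAH).injective
    have h := ih _ hlt H rfl (A.subgroupOf H) hA' fun S hS hSs a ha s hs => Subtype.ext
      (hc (S.map H.subtype) (fun x hx => ⟨⟨x, hAH hx⟩, hS hx, rfl⟩)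
        (by
          haveI := hSs
          exact Group.isSolvable_of_surjective (H.subtype.subgroupMap_surjective S))
        a ha s ⟨s, hs, rfl⟩)
    intro x hx
    refine mem_centralizer_iff.2 fun a ha => ?_
    have h1 := mem_center_iff.1 (h (show (⟨a, hAH ha⟩ : H) ∈ A.subgroupOf H from ha)) ⟨x, hx⟩
    exact (congrArg Subtype.val h1).symm
  -- the normal closure of `A` is everything
  have hncl : normalClosure (A : Set G) = ⊤ := by
    by_contra hN
    set N := normalClosure (A : Set G)
    have h1 : N ≤ M := hsub N (subset_normalClosure (s := (A : Set G))) hN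
    have h2 : A ≤ centralizer (N : Set G) := fun a ha => mem_centralizer_iff.2 fun x hx =>
      (mem_centralizer_iff.1 (h1 hx) a ha).symm
    haveI : N.Normal := normalClosure_normal
    have h3 : N ≤ centralizer (N : Set G) := normalClosure_le_normal h2
    haveI : IsMulCommutative N :=
      ⟨⟨fun x y => Subtype.ext (mem_centralizer_iff.1 (h3 y.2) x x.2)⟩⟩
    haveI : Group.IsSolvable N := by
      open scoped IsMulCommutative in infer_instance
    refine hnot fun a ha => mem_center_iff.2 fun g => ?_
    set S := (zpowers (QuotientGroup.mk' N g)).comap (QuotientGroup.mk' N) with hS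
    have hNS : N ≤ S := fun x hx => by
      rw [hS, mem_comap, show QuotientGroup.mk' N x = 1 from (QuotientGroup.eq_one_iff x).2 hx]
      exact one_mem _
    have hSs : Group.IsSolvable S := by
      haveI : Group.IsSolvable (zpowers (QuotientGroup.mk' N g)) := by
        open scoped IsMulCommutative in infer_instance
      refine Group.isSolvable_of_ker_le_range (inclusion hNS)
        (((QuotientGroup.mk' N).subgroupComap (zpowers (QuotientGroup.mk' N g)))) ?_
      intro x hx
      exact ⟨⟨x, (QuotientGroup.eq_one_iff (x : G)).1 (congrArg Subtype.val hx)⟩, rfl⟩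
    exact (hc S ((subset_normalClosure (s := (A : Set G))).trans hNS) hSs a ha g
      (by rw [hS, mem_comap]; exact mem_zpowers _)).symm
  -- the centraliser is a trivial intersection subgroup modulo the centre
  have hTI : ∀ x g : G, x ∈ M → g⁻¹ * x * g ∈ M → g ∉ M → x ∈ center G := by
    intro x g hx hxg hg
    set C := centralizer ({x} : Set G) with hC
    have hAC : A ≤ C := fun a ha => mem_centralizer_singleton_iff.2 (mem_centralizer_iff.1 hx a ha)
    have hgC : ∀ a ∈ A, g * a * g⁻¹ ∈ C := fun a ha => mem_centralizer_singleton_iff.2 (by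
      have h := mem_centralizer_iff.1 hxg a ha
      calc g * a * g⁻¹ * x = g * (a * (g⁻¹ * x * g)) * g⁻¹ := by group
        _ = g * (g⁻¹ * x * g * a) * g⁻¹ := by rw [h]
        _ = x * (g * a * g⁻¹) := by group)
    by_contra hxc
    have hCtop : C ≠ ⊤ := fun h => hxc (mem_center_iff.2 fun y =>
      mem_centralizer_singleton_iff.1 (show y ∈ C by rw [h]; exact mem_top y))
    have hCM := hsub C hAC hCtop
    set M' := M.map (MulAut.conj g).toMonoidHom with hM'
    have hAM' : A ≤ M' := fun a ha => ⟨g⁻¹ * a * g, mem_centralizer_iff.2 fun b hb => (by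
      have h := mem_centralizer_iff.1 (hCM (hgC b hb)) a ha
      calc b * (g⁻¹ * a * g) = g⁻¹ * (g * b * g⁻¹ * a) * g := by group
        _ = g⁻¹ * (a * (g * b * g⁻¹)) * g := by rw [h]
        _ = g⁻¹ * a * g * b := by group), by simp [mul_assoc]⟩
    have hM'top : M' ≠ ⊤ := fun h => hMtop (map_injective (MulAut.conj g).injective
      (by rw [← hM', h, ← MonoidHom.range_eq_map]; exact (MonoidHom.range_eq_top.2 (MulAut.conj g).surjective).symm))
    have hM'M := hsub M' hAM' hM'top
    have hgN : g ∈ normalizer (M : Set G) := by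
      exact mem_normalizer_fintype (S := (M : Set G)) fun m hm => hM'M ⟨m, hm, rfl⟩
    by_cases hNt : normalizer (M : Set G) = ⊤
    · have hMn : M.Normal := normalizer_eq_top_iff.1 hNt
      exact hMtop (top_le_iff.1 (hncl ▸ normalClosure_le_normal hAM))
    · exact hg (hsub _ (hAM.trans le_normalizer) hNt hgN)
  set Z := center G with hZ
  have hZM : Z ≤ M := fun z hz => mem_centralizer_iff.2 fun a _ => mem_center_iff.1 hz a
  set f := QuotientGroup.mk' Z with hf
  set Mb := M.map f with hMb
  have hcomap : Mb.comap f = M := comap_map_eq_self (by rw [hf, QuotientGroup.ker_mk']; exact hZM)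
  have hFC : Cfsg.IsFrobeniusComplement Mb := by
    refine ⟨fun h => hnot fun a ha => ?_, fun h => hMtop ?_, fun q hq => ?_⟩
    · exact (QuotientGroup.eq_one_iff a).1 (mem_bot.1 (h ▸ mem_map_of_mem f (hAM ha)))
    · rw [← hcomap, h, comap_top]
    · rw [eq_bot_iff]
      intro y hy
      obtain ⟨hy1, hy2⟩ := mem_inf.1 hy
      obtain ⟨g, rfl⟩ := QuotientGroup.mk'_surjective Z q
      obtain ⟨x, hx, rfl⟩ := hy1
      rw [mem_pointwise_smul_iff_inv_smul_mem, ← map_inv, MulAut.smul_def, MulAut.conj_apply,
        inv_inv, ← map_inv, ← map_mul, ← map_mul, ← mem_comap, hcomap] at hy2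
      exact mem_bot.2 ((QuotientGroup.eq_one_iff x).2
        (hTI x g hx hy2 fun hgM => hq (mem_map_of_mem f hgM)))
  obtain ⟨K, hKset, hKn, hKc⟩ := Cfsg.Agent.Characters.frobenius_kernel_theorem hFC
  obtain ⟨-, -, hfpf⟩ := Cfsg.Agent.S4001.frobenius_data K hFC hKset.symm
  have hKnil := Cfsg.Agent.S4001.isNilpotent_kernel K Mb hFC.1 hfpf
  have htop : K.comap f ⊔ A = ⊤ := by
    by_contra h
    have h1 : K.comap f ≤ M := le_sup_left.trans (hsub _ le_sup_right h)
    have h2 : K ≤ Mb := by
      rw [← map_comap_eq_self_of_surjective (QuotientGroup.mk'_surjective Z) K]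
      exact map_mono h1
    have h3 : K = ⊥ := le_bot_iff.1 (hKc.disjoint le_rfl h2)
    apply hFC.2.1
    have h4 := hKc.sup_eq_top
    rwa [h3, bot_sup_eq] at h4
  apply hnsol
  haveI : Group.IsSolvable (G ⧸ Z) := by
    haveI := hKn
    haveI : Group.IsSolvable K := by
      haveI := hKnil
      infer_instance
    haveI : Group.IsSolvable ((G ⧸ Z) ⧸ K) := by
      haveI := hA
      refine Group.isSolvable_of_surjective (f := ((QuotientGroup.mk' K).comp f).comp A.subtype) ?_
      intro z
      obtain ⟨y, rfl⟩ := QuotientGroup.mk'_surjective K z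
      obtain ⟨x, rfl⟩ := QuotientGroup.mk'_surjective Z y
      obtain ⟨k, hk, a, ha, rfl⟩ := mem_sup_of_normal_left.1
        (show x ∈ K.comap f ⊔ A by rw [htop]; exact mem_top x)
      refine ⟨⟨a, ha⟩, ?_⟩
      simp only [MonoidHom.comp_apply, coe_subtype, map_mul]
      rw [show QuotientGroup.mk' K (f k) = 1 from (QuotientGroup.eq_one_iff _).2 hk, one_mul]
    exact Group.isSolvable_of_ker_le_range K.subtype (QuotientGroup.mk' K)
      (by rw [QuotientGroup.ker_mk', Subgroup.range_subtype])
  haveI : Group.IsSolvable Z := Group.isSolvable_of_comm fun a b =>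
    Subtype.ext (mem_center_iff.1 b.2 a)
  exact Group.isSolvable_of_ker_le_range Z.subtype f
    (by rw [hf, QuotientGroup.ker_mk', Subgroup.range_subtype])


/-- Let A be a solvable subgroup of a finite group G such that A lies in the centre of every solvable subgroup of G containing A. Then A lies in the centre of G. -/
theorem result {G : Type*} [Group G] [Finite G]
    (A : Subgroup G) (hA : Group.IsSolvable A)
    (hc : ∀ S : Subgroup G, A ≤ S → Group.IsSolvable S → ∀ a ∈ A, ∀ s ∈ S, a * s = s * a) : A ≤ Subgroup.center G := by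
  exact le_center_aux _ G rfl A hA hc

end Cfsg.Agent.S4097
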