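import Cfsg.Statements.S4100
import Cfsg.Agent.Lib.AltSections.Witness
import Cfsg.Agent.Lib.AltSections.Two.Main
import Cfsg.Agent.Lib.AltSections.Five.Main

set_option autoImplicit false
open Cfsg

namespace Cfsg.Agent.S4100

open Cfsg.Agent.AltSections

/-- No minimal cover of `A_{a+5}` for the three shapes of `a`. -/
theorem no_cover {G : Type*} [Group G] [Finite G] {p : ℕ} [hp : Fact p.Prime] (hp3 : p ≠ 3)
    (hG : Reduction.Hyp p G) {a : ℕ} (ha : a = if p = 2 then 4 else p)
    (f : G →* alternatingGroup (Fin (a + 5))) (hf : Function.Surjective f)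
    (hfr : f.ker ≤ frattini G) : False := by
  by_cases hp2 : p = 2
  · subst hp2
    obtain rfl : a = 4 := by simpa using ha
    obtain ⟨x, hx⟩ := Witness.exists_four
    obtain ⟨m, ρ, hm, hρ⟩ := Witness.exists_noFix hG f hf hfr hx
    exact one_ne_zero (congrFun (Two.eq_zero hρ fun _ => 1) ⟨0, hm⟩)
  · obtain rfl : a = p := by rw [if_neg hp2] at ha; exact ha
    obtain ⟨x, hx⟩ := Witness.exists_odd hp.out hp2
    by_cases hp5 : a = 5
    · subst hp5
      obtain ⟨m, ρ, hm, hρ⟩ := Witness.exists_noFix hG f hf hfr hx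
      exact hm.ne' (Five.dim_eq_zero hρ)
    · refine Witness.false_of_large hG f hf (fun h => ?_) hx
      have h' : a ∣ 2 * 2 * 3 * 5 := h
      simp only [hp.out.dvd_mul, Nat.prime_dvd_prime_iff_eq hp.out Nat.prime_two,
        Nat.prime_dvd_prime_iff_eq hp.out Nat.prime_three,
        Nat.prime_dvd_prime_iff_eq hp.out Nat.prime_five] at h'
      omega

/-- Let G be a finite group and p a prime other than 3 such that the centralizer of every non-central element of p-power order is solvable. Then every alternating group of degree at least 5 involved in G (as a section) has degree at most p + 4, or at most p + 6 = 8 when p = 2. -/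
theorem result {G : Type*} [Group G] [Finite G] (p : ℕ) [Fact p.Prime] (hp3 : p ≠ 3)
    (h : ∀ x : G, x ∉ Subgroup.center G → (∃ k : ℕ, orderOf x = p ^ k) → Group.IsSolvable (Subgroup.centralizer ({x} : Set G)))
    (d : ℕ) (hd : 5 ≤ d) (hinv : Cfsg.Involves (alternatingGroup (Fin d)) G) :
    d ≤ p + 4 + (if p = 2 then 2 else 0) := by
  by_contra hcon
  set a := if p = 2 then 4 else p with ha
  have had : a + 5 ≤ d := by
    rw [ha]; split_ifs at hcon ⊢ <;> omega
  obtain ⟨K, R, hR, ⟨e⟩⟩ := hinv
  let φ : K →* alternatingGroup (Fin d) := e.toMonoidHom.comp (QuotientGroup.mk' _)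
  have hφ : Function.Surjective φ := e.surjective.comp (QuotientGroup.mk'_surjective _)
  let ι : alternatingGroup (Fin (a + 5)) →* alternatingGroup (Fin d) :=
    Cfsg.Agent.AltSection.altExt (Fin.castLEEmb had)
  have hι : Function.Injective ι := Cfsg.Agent.AltSection.altExt_injective _
  let K₀ : Subgroup G := (ι.range.comap φ).map K.subtype
  let e₀ := (ι.range.comap φ).equivMapOfInjective K.subtype K.subtype_injective
  let g : K₀ →* alternatingGroup (Fin (a + 5)) :=
    (MonoidHom.ofInjective hι).symm.toMonoidHom.comp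
      (((φ.comp (ι.range.comap φ).subtype).codRestrict ι.range fun y => y.2).comp
        e₀.symm.toMonoidHom)
  have hg : Function.Surjective g := fun z => by
    obtain ⟨k, hk⟩ := hφ (ι z)
    refine ⟨e₀ ⟨k, show φ k ∈ ι.range from hk ▸ ⟨z, rfl⟩⟩, ?_⟩
    apply (MonoidHom.ofInjective hι).injective
    apply Subtype.ext
    simp [g, MonoidHom.ofInjective_apply]
    exact hk
  obtain ⟨K', f, hf, hfr⟩ := Reduction.exists_minimal g hg
  exact no_cover hp3 ((show Reduction.Hyp p G from h).subgroup K') ha f hf hfr

end Cfsg.Agent.S4100
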