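import Cfsg.Statements.S4108
import Cfsg.Agent.Lib.Frobenius.Basic
import Cfsg.Agent.GStructB.PElements

set_option autoImplicit false
open Cfsg

namespace Cfsg.Agent.S4108

/-- Let G be a finite group, p a prime and N a proper non-trivial normal p-subgroup such that for every x outside N all elements of the coset xN have the same order as x. Then every non-trivial subgroup H of G of order prime to p acts fixed-point-freely on N: NH is a Frobenius group with complement H and kernel N. -/
theorem result {G : Type*} [Group G] [Finite G] (N : Subgroup G) [N.Normal] (hN1 : N ≠ ⊥) (hN2 : N ≠ ⊤)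
    (heq : ∀ x : G, x ∉ N → ∀ n ∈ N, orderOf (x * n) = orderOf x)
    (p : ℕ) [Fact p.Prime] (hNp : IsPGroup p N) :
    ∀ H : Subgroup G, H ≠ ⊥ → (Nat.card H).Coprime p →
      Cfsg.IsFrobeniusComplement (H.subgroupOf (N ⊔ H)) ∧ Cfsg.frobeniusKernel (H.subgroupOf (N ⊔ H)) = (N.subgroupOf (N ⊔ H) : Set ↥(N ⊔ H)) := by
  intro H hH hcop
  have hp := (Fact.out : p.Prime)
  have hinf : ∀ z : G, z ∈ N → z ∈ H → z = 1 := by
    intro z hz hzH
    obtain ⟨k, hk⟩ := GStructB.PElements.exists_orderOf_eq hNp hz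
    have h1 : orderOf z ∣ Nat.card H := H.orderOf_dvd_natCard hzH
    rw [hk] at h1
    exact orderOf_eq_one_iff.mp (hk.trans (Nat.eq_one_of_dvd_coprimes (hcop.pow_right k) h1 dvd_rfl))
  have : (N.subgroupOf (N ⊔ H)).Normal := ‹N.Normal›.subgroupOf _
  refine Frobenius.Basic.isFrobeniusComplement_of_fixedPointFree
    (N.subgroupOf (N ⊔ H)) (H.subgroupOf (N ⊔ H)) ?_ ?_ ?_ ?_ ?_
  · rw [Subgroup.eq_bot_iff_forall]
    rintro z ⟨h1, h2⟩
    exact Subtype.ext (hinf _ h1 h2)
  · rw [← Subgroup.subgroupOf_sup le_sup_left le_sup_right, Subgroup.subgroupOf_self]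
  · rw [Ne, Subgroup.subgroupOf_eq_bot, disjoint_iff, inf_eq_left.mpr le_sup_left]
    exact hN1
  · rw [Ne, Subgroup.subgroupOf_eq_bot, disjoint_iff, inf_eq_left.mpr le_sup_right]
    exact hH
  intro h hh hh1 n hn hcomm
  have hhN : (h : G) ∉ N := fun h' => hh1 (Subtype.ext (hinf _ h' hh))
  have hc : Commute (h : G) (n : G) := (congrArg Subtype.val hcomm).symm
  obtain ⟨k, hk⟩ := GStructB.PElements.exists_orderOf_eq hNp hn
  have hco : (orderOf (h : G)).Coprime (orderOf (n : G)) := by
    have hk' : orderOf (n : G) = p ^ k := hk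
    rw [hk']
    exact Nat.Coprime.coprime_dvd_left (H.orderOf_dvd_natCard hh) (hcop.pow_right k)
  have h2 := heq (h : G) hhN (n : G) hn
  rw [hc.orderOf_mul_eq_mul_orderOf_of_coprime hco] at h2
  exact Subtype.ext (orderOf_eq_one_iff.mp
    (Nat.eq_of_mul_eq_mul_left (orderOf_pos (h : G)) (by rw [h2, mul_one])))

end Cfsg.Agent.S4108
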