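import Cfsg.Statements.S4112
import Mathlib
import Cfsg.Agent.GStructB.PElements
import Cfsg.Agent.OddLocal.Coprime
import Cfsg.Agent.Lib.Involutions.Basic

set_option autoImplicit false
open Cfsg

namespace Cfsg.Agent.S4112

/-- Let G be a finite group and M ≤ N non-trivial proper normal subgroups such that for every g outside N the conjugacy class of g is a union of cosets of M (equivalently gm is conjugate to g for every m ∈ M). Then (1) and (2) below are equivalent, and they imply (3): (1) every g outside N acts fixed-point-freely on M, that is C_G(x) ≤ N for every x ∈ M, x ≠ 1; (2) the index of N in G is coprime to the order of M; (3) there is a subgroup H of G with HN = G and H ∩ M = 1. -/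
theorem result {G : Type*} [Group G] [Finite G] (N M : Subgroup G) [N.Normal] [M.Normal] (hMN : M ≤ N) (hM1 : M ≠ ⊥) (hN2 : N ≠ ⊤)
    (hcam : ∀ g : G, g ∉ N → ∀ m ∈ M, ∃ x : G, x * g * x⁻¹ = g * m) :
    ((∀ x ∈ M, x ≠ 1 → Subgroup.centralizer ({x} : Set G) ≤ N) ↔ N.index.Coprime (Nat.card M)) ∧
    ((∀ x ∈ M, x ≠ 1 → Subgroup.centralizer ({x} : Set G) ≤ N) → ∃ H : Subgroup G, H ⊔ N = ⊤ ∧ H ⊓ M = ⊥) := by
  have key : (∀ x ∈ M, x ≠ 1 → Subgroup.centralizer ({x} : Set G) ≤ N) →
      N.index.Coprime (Nat.card M) := by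
    intro h1
    by_contra hco
    obtain ⟨r, hr, hr1, hr2⟩ := Nat.Prime.not_coprime_iff_dvd.mp hco
    have : Fact r.Prime := ⟨hr⟩
    obtain ⟨P⟩ : Nonempty (Sylow r G) := inferInstance
    have hPN : ¬ (P : Subgroup G) ≤ N := fun h =>
      P.not_dvd_index (hr1.trans (Subgroup.index_dvd_of_le h))
    obtain ⟨g, hgP, hgN⟩ := SetLike.not_le_iff_exists.mp hPN
    have := P.2.isNilpotent
    have hne : M.subgroupOf (P : Subgroup G) ≠ ⊥ := by
      intro h
      have hcd : Nat.card (P : Subgroup G) * Nat.card M ∣ Nat.card G := by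
        have hd : Disjoint M (P : Subgroup G) := Subgroup.subgroupOf_eq_bot.mp h
        have h2 : Nat.card ↥(M ⊔ (P : Subgroup G)) = Nat.card M * Nat.card (P : Subgroup G) :=
          Coprime.card_sup_of_disjoint (by rw [Subgroup.normalizer_eq_top]; exact le_top) hd
        rw [mul_comm, ← h2]
        exact Subgroup.card_subgroup_dvd_card _
      rw [← (P : Subgroup G).card_mul_index] at hcd
      exact P.not_dvd_index (hr2.trans ((Nat.mul_dvd_mul_iff_left Nat.card_pos).mp hcd))
    obtain ⟨z, hz, hz1⟩ := (Subgroup.bot_or_exists_ne_one _).resolve_left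
      (OddLocal.Coprime.inf_center_ne_bot (inferInstance : (M.subgroupOf (P : Subgroup G)).Normal) hne)
    have hzM : (z : G) ∈ M := Subgroup.mem_subgroupOf.mp hz.1
    exact hgN (h1 _ hzM (fun h => hz1 (Subtype.ext h)) (Subgroup.mem_centralizer_singleton_iff.mpr
      (congrArg Subtype.val (Subgroup.mem_center_iff.mp hz.2 ⟨g, hgP⟩))))
  refine ⟨⟨key, fun hco => ?_⟩, fun h1 => ?_⟩
  · intro x hx hx1 g hg
    by_contra hgN
    rw [Subgroup.mem_centralizer_singleton_iff] at hg
    set b := QuotientGroup.mk' N g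
    have hb1 : orderOf b ≠ 1 := fun h =>
      hgN ((QuotientGroup.eq_one_iff g).mp (orderOf_eq_one_iff.mp h))
    obtain ⟨q, hq, hqd⟩ := Nat.exists_prime_and_dvd hb1
    have : Fact q.Prime := ⟨hq⟩
    have hqn : q ∣ N.index := hqd.trans (orderOf_dvd_natCard b)
    obtain ⟨a, s, ha, hs, hgs⟩ := GStructB.PElements.exists_split q g
    have hgsN : g ^ s ∉ N := fun h =>
      hs (hqd.trans (orderOf_dvd_of_pow_eq_one
        ((map_pow (QuotientGroup.mk' N) g s).symm.trans ((QuotientGroup.eq_one_iff _).mpr h))))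
    obtain ⟨y, hy⟩ := hcam _ hgsN x hx
    have hcomm : Commute (g ^ s) x := Commute.pow_left hg s
    have hcop : (orderOf (g ^ s)).Coprime (orderOf x) := by
      rw [hgs]
      exact Nat.Coprime.coprime_dvd_right (M.orderOf_dvd_natCard hx)
        ((hco.coprime_dvd_left hqn).pow_left a)
    have heq : orderOf (g ^ s * x) = orderOf (g ^ s) := by
      rw [← hy]; exact Involutions.Basic.orderOf_conj _ _
    rw [hcomm.orderOf_mul_eq_mul_orderOf_of_coprime hcop] at heq
    exact hx1 (orderOf_eq_one_iff.mp ((Nat.mul_eq_left (orderOf_pos _).ne').mp heq))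
  · have hco := key h1
    obtain ⟨H, -, hHN, hmin⟩ := exists_minimal_le_of_wellFoundedLT
      (fun H : Subgroup G => H ⊔ N = ⊤) ⊤ (top_sup_eq _)
    refine ⟨H, hHN, Subgroup.eq_bot_of_card_eq _ ?_⟩
    by_contra hne
    obtain ⟨r, hr, hrd⟩ := Nat.exists_prime_and_dvd hne
    have : Fact r.Prime := ⟨hr⟩
    have hrn : ¬ r ∣ N.index := fun h =>
      hr.ne_one (Nat.eq_one_of_dvd_coprimes hco h (hrd.trans (Subgroup.card_dvd_of_le inf_le_right)))
    obtain ⟨R⟩ : Nonempty (Sylow r H) := inferInstance
    let L := N.subgroupOf H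
    have hLidx : L.index = N.index := by
      show N.relIndex H = N.index
      rw [← Subgroup.relIndex_top_right, ← hHN, sup_comm, Subgroup.relIndex_sup_left]
    have hRL : (R : Subgroup H) ≤ L := by
      intro x hx
      obtain ⟨k, hk⟩ := GStructB.PElements.exists_orderOf_eq R.2 hx
      refine (QuotientGroup.eq_one_iff x).mp (orderOf_eq_one_iff.mp ?_)
      refine Nat.eq_one_of_dvd_coprimes ((hr.coprime_iff_not_dvd.mpr hrn).pow_left k)
        (hk ▸ orderOf_map_dvd (QuotientGroup.mk' L) x) ?_
      rw [← hLidx]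
      exact orderOf_dvd_natCard _
    have hsub : ∀ K : Subgroup H, K ⊔ L = ⊤ → K = ⊤ := by
      intro K hK
      have h2 : K.map H.subtype ⊔ N = ⊤ := by
        rw [eq_top_iff, ← hHN, sup_le_iff]
        refine ⟨?_, le_sup_right⟩
        calc H = (K ⊔ L).map H.subtype := by rw [hK, ← MonoidHom.range_eq_map, H.range_subtype]
          _ = K.map H.subtype ⊔ L.map H.subtype := Subgroup.map_sup _ _ _
          _ ≤ _ := sup_le_sup_left (Subgroup.subgroupOf_map_subtype N H ▸ inf_le_left) _
      have h3 := le_antisymm (Subgroup.map_subtype_le K) (hmin h2 (Subgroup.map_subtype_le K))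
      refine Subgroup.map_injective H.subtype_injective ?_
      rw [h3, ← MonoidHom.range_eq_map, H.range_subtype]
    have hRn : (R : Subgroup H).Normal :=
      Subgroup.normalizer_eq_top_iff.mp (hsub _ (R.normalizer_sup_eq_top' hRL))
    obtain ⟨K, hK⟩ := Subgroup.exists_right_complement'_of_coprime R.card_coprime_index
    have hKtop : K = ⊤ := hsub K (eq_top_iff.mpr (by
      rw [← hK.sup_eq_top, sup_comm]; exact sup_le_sup_left hRL _))
    rw [hKtop, Subgroup.isComplement'_top_right] at hK
    exact R.ne_bot_of_dvd_card (hrd.trans (Subgroup.card_dvd_of_le inf_le_left)) hK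

end Cfsg.Agent.S4112
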