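import Cfsg.Statements.S4113
import Mathlib
import Cfsg.Agent.Lib.Cores.Basic

set_option autoImplicit false
open Cfsg

namespace Cfsg.Agent.S4113

/-- Let G be a finite group, M ≤ N non-trivial proper normal subgroups, and H a subgroup with HM = G and H ∩ M = 1. Then every element of G outside N acts fixed-point-freely on M (C_G(x) ≤ N for every x ∈ M, x ≠ 1) if and only if H ∩ gHg⁻¹ ≤ H ∩ N for every g outside H, with H proper and non-trivial and H ∩ N proper in H. -/
theorem result {G : Type*} [Group G] [Finite G] (N M : Subgroup G) [N.Normal] [M.Normal] (hMN : M ≤ N) (hM1 : M ≠ ⊥) (hN2 : N ≠ ⊤)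
    (H : Subgroup G) (hHM : H ⊔ M = ⊤) (hHM' : H ⊓ M = ⊥) :
    (∀ x ∈ M, x ≠ 1 → Subgroup.centralizer ({x} : Set G) ≤ N) ↔
      (H ≠ ⊥ ∧ H ≠ ⊤ ∧ H ⊓ N < H ∧ ∀ g : G, g ∉ H → H ⊓ H.map (MulAut.conj g).toMonoidHom ≤ N) := by
  classical
  have hN : H ⊔ N = ⊤ := eq_top_iff.mpr (hHM ▸ sup_le_sup_left hMN H)
  have hdis : ∀ z, z ∈ H → z ∈ M → z = 1 := fun z h1 h2 =>
    Subgroup.mem_bot.mp (hHM' ▸ ⟨h1, h2⟩)
  constructor
  · intro h1
    refine ⟨fun hb => hN2 ?_, fun ht => hM1 ?_, lt_of_le_of_ne inf_le_left fun he => hN2 ?_, ?_⟩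
    · rw [hb, bot_sup_eq] at hN; exact hN
    · rw [ht, top_inf_eq] at hHM'; exact hHM'
    · rw [inf_eq_left] at he
      rwa [sup_eq_right.mpr he] at hN
    intro g hg x hx
    obtain ⟨hxH, y, hy, hyx⟩ := hx
    obtain ⟨h, hh, m, hm, rfl⟩ := Subgroup.mem_sup_of_normal_right.mp
      (show g ∈ H ⊔ M by rw [hHM]; exact Subgroup.mem_top g)
    have hyx' : h * m * y * (h * m)⁻¹ = x := hyx
    have hx' : m * y * m⁻¹ ∈ H := by
      rw [show m * y * m⁻¹ = h⁻¹ * (h * m * y * (h * m)⁻¹) * h by group, hyx']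
      exact mul_mem (mul_mem (inv_mem hh) hxH) hh
    have h2 : y⁻¹ * (m * y * m⁻¹) = 1 := hdis _ (mul_mem (inv_mem hy) hx') (by
      rw [show y⁻¹ * (m * y * m⁻¹) = y⁻¹ * m * (y⁻¹)⁻¹ * m⁻¹ by group]
      exact mul_mem ((inferInstance : M.Normal).conj_mem m hm y⁻¹) (inv_mem hm))
    rw [inv_mul_eq_one] at h2
    have hm1 : m ≠ 1 := by
      rintro rfl
      exact hg (by simpa using hh)
    have hyN : y ∈ N := h1 m hm hm1
      (Subgroup.mem_centralizer_singleton_iff.mpr (mul_inv_eq_iff_eq_mul.mp h2.symm).symm)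
    rw [← hyx']
    exact (inferInstance : N.Normal).conj_mem y hyN (h * m)
  · rintro ⟨-, -, -, hTI⟩ x hx hx1 g hg
    by_contra hgN
    let f : (G ⧸ H) × {h : H // (h : G) ∉ N} → {g : G // g ∉ N} := fun qh =>
      ⟨qh.1.out * (qh.2.1 : G) * qh.1.out⁻¹, fun hmem => qh.2.2 (by
        have h2 := (inferInstance : N.Normal).conj_mem _ hmem qh.1.out⁻¹
        simpa [mul_assoc] using h2)⟩
    have hf : Function.Injective f := by
      rintro ⟨q, h, hh⟩ ⟨q', h', hh'⟩ he
      have he' : q.out * (h : G) * q.out⁻¹ = q'.out * (h' : G) * q'.out⁻¹ := congrArg Subtype.val he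
      set c := q'.out⁻¹ * q.out with hc
      have hc' : c * (h : G) * c⁻¹ = (h' : G) := by
        calc c * (h : G) * c⁻¹ = q'.out⁻¹ * (q.out * (h : G) * q.out⁻¹) * q'.out := by rw [hc]; group
          _ = _ := by rw [he']; group
      have hcH : c ∈ H := by
        by_contra hcH
        exact hh' (hTI c hcH ⟨h'.2, ⟨h, h.2, hc'⟩⟩)
      have hqq : q = q' := by
        rw [← QuotientGroup.out_eq' q, ← QuotientGroup.out_eq' q']
        exact (QuotientGroup.eq.mpr hcH).symm
      subst hqq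
      simp [hc] at hc'
      simp [hc']
    have hcard : Nat.card {g : G // g ∉ N} = Nat.card ((G ⧸ H) × {h : H // (h : G) ∉ N}) := by
      have e1 : Nat.card {g : G // g ∉ N} = Nat.card G - Nat.card N := by
        have h0 := Set.ncard_compl (N : Set G)
        rw [← Nat.card_coe_set_eq, ← Nat.card_coe_set_eq] at h0
        exact h0
      have e2 : Nat.card {h : H // (h : G) ∉ N} = Nat.card H - Nat.card ↥(H ⊓ N) := by
        have h0 := Set.ncard_compl ((N.subgroupOf H : Subgroup H) : Set H)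
        rw [← Nat.card_coe_set_eq, ← Nat.card_coe_set_eq] at h0
        have h00 : Nat.card ↥(N.subgroupOf H) = Nat.card ↥(H ⊓ N) := by
          rw [← Subgroup.card_subtype H, Subgroup.subgroupOf_map_subtype, inf_comm]
        exact h0.trans (congrArg (Nat.card H - ·) h00)
      have e3 := Cores.card_sup_mul_card_inf H N
      rw [hN, Subgroup.card_top, ← H.card_mul_index, mul_assoc] at e3
      rw [Nat.card_prod, ← Subgroup.index_eq_card, e1, e2, Nat.mul_sub, mul_comm H.index,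
        ← Nat.eq_of_mul_eq_mul_left Nat.card_pos e3, H.card_mul_index]
    obtain ⟨⟨q, h, hhN⟩, hqh⟩ := (hf.bijective_of_nat_card_le hcard.le).2 ⟨g, hgN⟩
    have hg' : g = q.out * (h : G) * q.out⁻¹ := (congrArg Subtype.val hqh).symm
    set x' := q.out⁻¹ * x * q.out with hx'
    have hx'M : x' ∈ M := by simpa [hx'] using (inferInstance : M.Normal).conj_mem x hx q.out⁻¹
    have hx'1 : x' ≠ 1 := by
      intro h0
      apply hx1
      calc x = q.out * x' * q.out⁻¹ := by rw [hx']; group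
        _ = 1 := by rw [h0]; group
    have hx'H : x' ∉ H := fun h0 => hx'1 (hdis _ h0 hx'M)
    have hcomm : x' * (h : G) * x'⁻¹ = (h : G) := by
      rw [Subgroup.mem_centralizer_singleton_iff, hg'] at hg
      calc x' * (h : G) * x'⁻¹ = q.out⁻¹ * (x * (q.out * (h : G) * q.out⁻¹)) * x⁻¹ * q.out := by
            rw [hx']; group
        _ = q.out⁻¹ * (q.out * (h : G) * q.out⁻¹ * x) * x⁻¹ * q.out := by rw [hg]
        _ = _ := by group
    exact hhN (hTI x' hx'H ⟨h.2, ⟨h, h.2, hcomm⟩⟩)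

end Cfsg.Agent.S4113
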