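import Cfsg.Statements.S4116
import Mathlib
import Cfsg.Agent.GStructB.PElements
import Cfsg.Agent.Lib.Characters.Frobenius

set_option autoImplicit false
open Cfsg

namespace Cfsg.Agent.S4116

/-- Let G be a finite group with a subgroup H whose order is coprime to its index (a Hall subgroup) and which meets each of its conjugates by elements outside N_G(H) trivially. Then every subgroup of G whose order is divisible only by primes dividing the order of H lies in a conjugate of H. -/
theorem result {G : Type*} [Group G] [Finite G] (H : Subgroup G)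
    (hHall : (Nat.card H).Coprime H.index) (hTI : Cfsg.IsTISubset (H : Set G))
    (K : Subgroup G) (hK : ∀ q : ℕ, q.Prime → q ∣ Nat.card K → q ∣ Nat.card H) :
    ∃ g : G, K ≤ H.map (MulAut.conj g).toMonoidHom := by
  classical
  rcases eq_or_ne K ⊥ with rfl | hK1
  · exact ⟨1, bot_le⟩
  have hmemc : ∀ (c x : G), x ∈ H.map (MulAut.conj c).toMonoidHom ↔ c⁻¹ * x * c ∈ H := by
    intro c x
    constructor
    · rintro ⟨y, hy, rfl⟩; simpa [mul_assoc] using hy
    · intro hx; exact ⟨_, hx, by simp [mul_assoc]⟩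
  -- two conjugates of `H` meet trivially or coincide
  have hTI' : ∀ a b x : G, x ≠ 1 → a⁻¹ * x * a ∈ H → b⁻¹ * x * b ∈ H →
      b⁻¹ * a ∈ Subgroup.normalizer (H : Set G) := by
    intro a b x hx ha hb
    by_contra hn
    have h1 := hTI _ hn _ ha (by
      convert hb using 1
      group
      rfl)
    apply hx
    calc x = a * (a⁻¹ * x * a) * a⁻¹ := by group
      _ = 1 := by rw [h1]; group
  let D : G → Subgroup K := fun c => (H.map (MulAut.conj c).toMonoidHom).subgroupOf K
  have hD : ∀ (c : G) (k : K), k ∈ D c ↔ c⁻¹ * (k : G) * c ∈ H := fun c k => by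
    rw [Subgroup.mem_subgroupOf, hmemc]
  -- nontrivial ones are everything or Frobenius complements
  have hfrob : ∀ c, D c ≠ ⊥ → D c = ⊤ ∨ Cfsg.IsFrobeniusComplement (D c) := by
    intro c hc
    by_cases hct : D c = ⊤
    · exact Or.inl hct
    refine Or.inr ⟨hc, hct, fun k hk => ?_⟩
    rw [Subgroup.eq_bot_iff_forall]
    rintro w ⟨hw1, hw2⟩
    by_contra hw
    apply hk
    replace hw1 := (hD c w).mp hw1
    have hw2' := GStructB.PElements.mem_conj_smul.mp hw2
    rw [hD] at hw2'
    simp only [Subgroup.coe_mul, Subgroup.coe_inv] at hw2'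
    have hN := hTI' c ((k : G) * c) (w : G) (fun h => hw (Subtype.ext h)) hw1 (by
      convert hw2' using 1
      group)
    rw [hD]
    -- a `π`-element of the normaliser of the Hall subgroup `H`
    set z := c⁻¹ * (k : G) * c with hz
    have hzN : z ∈ Subgroup.normalizer (H : Set G) := by
      have := inv_mem hN
      convert this using 1
      rw [hz]; group
    rw [Subgroup.mem_normalizer_iff] at hzN
    have hcopz : (orderOf z).Coprime H.index := by
      refine Nat.coprime_of_dvd fun q hq h1 h2 => ?_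
      have h3 : orderOf z ∣ Nat.card K := by
        have e : orderOf z = orderOf (k : G) := by
          rw [hz, show c⁻¹ * (k : G) * c = c⁻¹ * (k : G) * c⁻¹⁻¹ by group]
          exact orderOf_injective (MulAut.conj c⁻¹).toMonoidHom (MulAut.conj c⁻¹).injective _
        rw [e]
        exact K.orderOf_dvd_natCard k.2
      exact hq.not_dvd_one (hHall ▸ Nat.dvd_gcd (hK q hq (h1.trans h3)) h2)
    have hzN' : z ∈ Subgroup.normalizer (H : Set G) := Subgroup.mem_normalizer_iff.mpr hzN
    let HN := H.subgroupOf (Subgroup.normalizer (H : Set G))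
    have hHN : HN.Normal := Subgroup.normal_subgroupOf_iff_le_normalizer Subgroup.le_normalizer |>.mpr le_rfl
    have h5 : (QuotientGroup.mk (⟨z, hzN'⟩ : Subgroup.normalizer (H : Set G)) :
        _ ⧸ HN) = 1 := by
      rw [← orderOf_eq_one_iff]
      refine Nat.eq_one_of_dvd_coprimes hcopz ?_ ?_
      · exact (orderOf_map_dvd (QuotientGroup.mk' HN) _).trans (dvd_of_eq (Subgroup.orderOf_mk z hzN'))
      · refine (orderOf_dvd_natCard _).trans ?_
        exact dvd_of_mul_right_eq _ (Subgroup.relIndex_mul_index Subgroup.le_normalizer)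
    exact Subgroup.mem_subgroupOf.mp ((QuotientGroup.eq_one_iff _).mp h5)
  -- every Sylow subgroup of `K` lies in one of them
  have hsyl : ∀ (q : ℕ) [Fact q.Prime], q ∣ Nat.card K → ∀ Q : Sylow q K,
      ∃ c, (Q : Subgroup K) ≤ D c := by
    intro q _ hq Q
    obtain ⟨T⟩ := (inferInstance : Nonempty (Sylow q H))
    have hqH := hK q Fact.out hq
    obtain ⟨R, hR⟩ := (T.2.map H.subtype).exists_le_sylow
    have hRH : (R : Subgroup G) ≤ H := by
      have : (R : Subgroup G) = (T : Subgroup H).map H.subtype := by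
        refine (Subgroup.eq_of_le_of_card_ge hR ?_).symm
        rw [Subgroup.card_subtype, T.card_eq_multiplicity, R.card_eq_multiplicity]
        apply le_of_eq
        congr 1
        rw [← H.card_mul_index, Nat.factorization_mul Nat.card_pos.ne' Subgroup.index_ne_zero_of_finite,
          Finsupp.add_apply, Nat.factorization_eq_zero_of_not_dvd (fun h2 =>
            (Fact.out : q.Prime).not_dvd_one (hHall ▸ Nat.dvd_gcd hqH h2)), add_zero]
      rw [this]; exact Subgroup.map_subtype_le _
    obtain ⟨S, hS⟩ := (Q.2.map K.subtype).exists_le_sylow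
    obtain ⟨c, rfl⟩ := MulAction.exists_smul_eq G R S
    refine ⟨c, fun w hw => (hD c w).mpr (hRH ?_)⟩
    have := hS ⟨w, hw, rfl⟩
    rwa [Sylow.coe_subgroup_smul, GStructB.PElements.mem_conj_smul] at this
  have hKnt : Nat.card K ≠ 1 := fun h => hK1 (K.eq_bot_of_card_eq h)
  obtain ⟨q, hq, hqK⟩ := Nat.exists_prime_and_dvd hKnt
  have : Fact q.Prime := ⟨hq⟩
  obtain ⟨Q⟩ := (inferInstance : Nonempty (Sylow q K))
  obtain ⟨c, hc⟩ := hsyl q hqK Q
  have hne : ∀ (r : ℕ) [Fact r.Prime], r ∣ Nat.card K → ∀ R : Sylow r K, ∀ d,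
      (R : Subgroup K) ≤ D d → D d ≠ ⊥ := fun r _ hr R d hd h0 =>
    R.ne_bot_of_dvd_card hr (le_bot_iff.mp (h0 ▸ hd))
  suffices h : ∃ d, D d = ⊤ by
    obtain ⟨d, hd⟩ := h
    exact ⟨d, Subgroup.subgroupOf_eq_top.mp hd⟩
  by_contra hno
  push Not at hno
  have hDc := (hfrob c (hne q hqK Q c hc)).resolve_left (hno c)
  refine hno c (Subgroup.eq_top_of_card_eq _ (Nat.dvd_antisymm (D c).card_subgroup_dvd_card ?_))
  rw [Nat.dvd_iff_prime_pow_dvd_dvd]
  intro r i hr hri
  rcases Nat.eq_zero_or_pos i with rfl | hi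
  · simp
  have : Fact r.Prime := ⟨hr⟩
  have hrK : r ∣ Nat.card K := (dvd_pow_self r hi.ne').trans hri
  obtain ⟨R⟩ := (inferInstance : Nonempty (Sylow r K))
  obtain ⟨d, hd⟩ := hsyl r hrK R
  have hDd := (hfrob d (hne r hrK R d hd)).resolve_left (hno d)
  suffices h : Nat.card (D d) = Nat.card (D c) by
    rw [← h]
    refine dvd_trans ?_ (Subgroup.card_dvd_of_le hd)
    exact R.pow_dvd_card_of_pow_dvd_card hri
  -- both classes of conjugates cover more than half of `K`
  have hbig : ∀ e, Cfsg.IsFrobeniusComplement (D e) →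
      Nat.card K ≤ 2 * ((Cfsg.frobeniusKernel (D e))ᶜ).ncard := by
    intro e he
    rw [Set.ncard_compl, ← Nat.card_coe_set_eq, Characters.card_frobeniusKernel he]
    have h2 : 2 ≤ Nat.card (D e) :=
      (Subgroup.one_lt_card_iff_ne_bot _).mpr he.1
    have h3 := (D e).index_mul_card
    have : 2 * (D e).index ≤ Nat.card K := by
      rw [← h3, mul_comm]; exact Nat.mul_le_mul_left _ h2
    omega
  obtain ⟨x, hxc, hxd⟩ : ∃ x, x ∈ (Cfsg.frobeniusKernel (D c))ᶜ ∧ x ∈ (Cfsg.frobeniusKernel (D d))ᶜ := by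
    by_contra hdis
    push Not at hdis
    have h1 : ((Cfsg.frobeniusKernel (D c))ᶜ ∪ (Cfsg.frobeniusKernel (D d))ᶜ).ncard =
        ((Cfsg.frobeniusKernel (D c))ᶜ).ncard + ((Cfsg.frobeniusKernel (D d))ᶜ).ncard :=
      Set.ncard_union_eq (Set.disjoint_left.mpr hdis) (Set.toFinite _) (Set.toFinite _)
    have h2 : (Cfsg.frobeniusKernel (D c))ᶜ ∪ (Cfsg.frobeniusKernel (D d))ᶜ ⊆ {(1 : K)}ᶜ := by
      rintro z (hz | hz) rfl <;> exact hz (Or.inl rfl)
    have h3 := Set.ncard_le_ncard h2 (Set.toFinite _)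
    rw [Set.ncard_compl, Set.ncard_singleton] at h3
    have := hbig c hDc
    have := hbig d hDd
    have : 0 < Nat.card K := Nat.card_pos
    omega
  simp only [Set.mem_compl_iff, Cfsg.frobeniusKernel, Set.mem_ofPred_eq, not_or, not_forall,
    not_not] at hxc hxd
  obtain ⟨hx1, a, ha⟩ := hxc
  obtain ⟨-, b, hb⟩ := hxd
  rw [GStructB.PElements.mem_conj_smul, hD] at ha hb
  simp only [Subgroup.coe_mul, Subgroup.coe_inv] at ha hb
  have hN := hTI' ((a : G) * c) ((b : G) * d) (x : G) (fun h => hx1 (Subtype.ext h))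
    (by convert ha using 1; group) (by convert hb using 1; group)
  rw [Subgroup.mem_normalizer_iff] at hN
  have hm : (D c).map (MulAut.conj (b⁻¹ * a)).toMonoidHom = D d := by
    ext w
    constructor
    · rintro ⟨u, hu, rfl⟩
      rw [SetLike.mem_coe, hD] at hu
      rw [hD]
      have := (hN (c⁻¹ * (u : G) * c)).mp hu
      convert this using 1
      simp
      group
    · intro hw
      refine ⟨(b⁻¹ * a)⁻¹ * w * (b⁻¹ * a), ?_, by simp [mul_assoc]⟩
      rw [SetLike.mem_coe, hD, hN]
      rw [hD] at hw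
      convert hw using 1
      simp
      group
  rw [← hm, Subgroup.card_map_of_injective (MulAut.conj (b⁻¹ * a)).injective]

end Cfsg.Agent.S4116
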