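import Cfsg.Statements.S4117
import Mathlib

set_option autoImplicit false
open Cfsg

namespace Cfsg.Agent.S4117
open scoped commutatorElement Pointwise

/-- Let A be a finite group acting on the finite group G by automorphisms with the orders of A and G coprime, and suppose every Sylow subgroup of G is cyclic. Then the fixed-point subgroup C_G(A) is a Hall subgroup of G (its order is coprime to its index), the subgroup [G, A] generated by the elements g⁻¹·a(g) is cyclic and normal with [G, A] ∩ C_G(A) = 1 and [G, A]·C_G(A) = G. -/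
theorem result {G A : Type*} [Group G] [Finite G] [Group A] [Finite A]
    [MulDistribMulAction A G] (hcop : (Nat.card A).Coprime (Nat.card G))
    (hcyc : ∀ (p : ℕ) [Fact p.Prime] (P : Sylow p G), IsCyclic (P : Subgroup G)) :
    (Nat.card (MulAction.fixedPoints A G : Set G)).Coprime (Nat.card G / Nat.card (MulAction.fixedPoints A G : Set G)) ∧
    IsCyclic (Subgroup.closure {y : G | ∃ (a : A) (g : G), y = g⁻¹ * a • g}) ∧
    (Subgroup.closure {y : G | ∃ (a : A) (g : G), y = g⁻¹ * a • g}).Normal ∧
    (Subgroup.closure {y : G | ∃ (a : A) (g : G), y = g⁻¹ * a • g} : Set G) ∩ MulAction.fixedPoints A G = {1} ∧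
    Subgroup.closure {y : G | ∃ (a : A) (g : G), y = g⁻¹ * a • g} ⊔ Subgroup.closure (MulAction.fixedPoints A G) = ⊤ := by
  classical
  have : IsZGroup G := ⟨fun p hp P => by haveI := Fact.mk hp; exact hcyc p P⟩
  have := Fintype.ofFinite A
  set D := Subgroup.closure {y : G | ∃ (a : A) (g : G), y = g⁻¹ * a • g} with hD
  have hgen : ∀ (a : A) (g : G), g⁻¹ * a • g ∈ D := fun a g => Subgroup.subset_closure ⟨a, g, rfl⟩
  have hnorm : D.Normal := by
    refine ⟨fun d hd h => ?_⟩
    induction hd using Subgroup.closure_induction with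
    | mem y hy =>
      obtain ⟨a, g, rfl⟩ := hy
      have e : h * (g⁻¹ * a • g) * h⁻¹ = (g * h⁻¹)⁻¹ * a • (g * h⁻¹) * (h * a • h⁻¹)⁻¹ := by
        rw [smul_mul']; group
      rw [e]
      refine mul_mem (hgen a _) (inv_mem ?_)
      have := hgen a h⁻¹
      rwa [inv_inv] at this
    | one => simpa using one_mem D
    | mul u v _ _ hu hv =>
      rw [show h * (u * v) * h⁻¹ = (h * u * h⁻¹) * (h * v * h⁻¹) by group]
      exact mul_mem hu hv
    | inv u _ hu =>
      rw [show h * u⁻¹ * h⁻¹ = (h * u * h⁻¹)⁻¹ by group]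
      exact inv_mem hu
  -- `D` centralises the commutator subgroup
  set N := commutator G with hN
  have hNcyc : IsCyclic N := IsZGroup.isCyclic_commutator G
  have hDN : ∀ d ∈ D, ∀ x ∈ N, d * x = x * d := by
    intro d hd
    let φ : G →* MulAut N := MulAut.conjNormal
    have hcommAut : ∀ f f' : MulAut N, f * f' = f' * f := fun f f' =>
      (IsCyclic.mulAutMulEquiv N).injective (by rw [map_mul, map_mul, mul_comm])
    have hker : d ∈ φ.ker := by
      refine (Subgroup.closure_le φ.ker).mpr ?_ hd
      rintro _ ⟨a, g, rfl⟩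
      let f : MulAut G := MulDistribMulAction.toMulAut A G a
      have hfN : ∀ x : N, f (x : G) ∈ N := fun x => by
        have : N.map f.toMonoidHom = N := Subgroup.characteristic_iff_map_eq.mp inferInstance f
        exact this.le ⟨_, x.2, rfl⟩
      have hfN' : ∀ x : N, f.symm (x : G) ∈ N := fun x => by
        have : N.map f.symm.toMonoidHom = N := Subgroup.characteristic_iff_map_eq.mp inferInstance f.symm
        exact this.le ⟨_, x.2, rfl⟩
      let af : MulAut N :=
        { toFun := fun x => ⟨f x, hfN x⟩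
          invFun := fun x => ⟨f.symm x, hfN' x⟩
          left_inv := fun x => Subtype.ext (f.symm_apply_apply _)
          right_inv := fun x => Subtype.ext (f.apply_symm_apply _)
          map_mul' := fun x y => Subtype.ext (map_mul f _ _) }
      have he : φ (a • g) = φ g := by
        have h1 : φ (a • g) * af = af * φ g := by
          ext x
          show (a • g) * f (x : G) * (a • g)⁻¹ = f (g * (x : G) * g⁻¹)
          rw [map_mul, map_mul, map_inv]; rfl
        rw [hcommAut af (φ g)] at h1
        exact mul_right_cancel h1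
      rw [SetLike.mem_coe, MonoidHom.mem_ker, map_mul, map_inv, he, inv_mul_cancel]
    intro x hx
    have h1 := congrArg (fun f : MulAut N => ((f ⟨x, hx⟩ : N) : G)) (MonoidHom.mem_ker.mp hker)
    simp only [φ, MulAut.conjNormal_apply, MulAut.one_apply] at h1
    exact mul_inv_eq_iff_eq_mul.mp h1
  -- hence it is nilpotent, so cyclic
  have hcycD : IsCyclic D := by
    have hcomm : ∀ u v : D, ⁅u, v⁆ ∈ Subgroup.center D := fun u v => Subgroup.mem_center_iff.mpr fun w =>
      Subtype.ext (hDN w w.2 _ (by
        show ⁅(u : G), (v : G)⁆ ∈ commutator G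
        exact Subgroup.commutator_mem_commutator (Subgroup.mem_top _) (Subgroup.mem_top _)))
    have : Group.IsNilpotent D := by
      rw [Group.isNilpotent_iff]
      refine ⟨2, eq_top_iff.mpr fun u _ => ?_⟩
      rw [Subgroup.mem_upperCentralSeries_succ_iff]
      intro v
      rw [Subgroup.upperCentralSeries_one]
      exact hcomm u v
    infer_instance
  letI : CommGroup D := IsCyclic.commGroup
  set n := Nat.card A with hn
  have hcopD : n.Coprime (Nat.card D) := hcop.coprime_dvd_right (Subgroup.card_subgroup_dvd_card D)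
  have haD : ∀ (a : A) (d : D), a • (d : G) ∈ D := by
    intro a d
    have := D.mul_mem d.2 (hgen a (d : G))
    rwa [mul_inv_cancel_left] at this
  let act : A → D →* D := fun a =>
    { toFun := fun d => ⟨a • (d : G), haD a d⟩
      map_one' := Subtype.ext (smul_one a)
      map_mul' := fun x y => Subtype.ext (smul_mul' a _ _) }
  let nu : D →* D := ∏ a : A, act a
  -- trivial intersection with the fixed points
  have hint : ∀ d ∈ D, d ∈ MulAction.fixedPoints A G → d = 1 := by
    intro d hd hfix
    have hnu : ∀ (x : G) (hx : x ∈ D), (∀ a b : A, a • b • x = (a * b) • x) → True := fun _ _ _ => trivial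
    have hzero : ∀ y : D, nu y = 1 := by
      intro y
      obtain ⟨y, hy⟩ := y
      induction hy using Subgroup.closure_induction with
      | mem y hy =>
        obtain ⟨a, g, rfl⟩ := hy
        -- telescoping
        let c : A → D := fun b => ⟨g⁻¹ * b • g, hgen b g⟩
        have hc : ∀ b : A, act b ⟨g⁻¹ * a • g, hgen a g⟩ = (c b)⁻¹ * c (b * a) := fun b => Subtype.ext (by
          show b • (g⁻¹ * a • g) = (g⁻¹ * b • g)⁻¹ * (g⁻¹ * (b * a) • g)
          rw [smul_mul', smul_inv', mul_smul]; group)
        simp only [nu, MonoidHom.finsetProd_apply]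
        rw [Finset.prod_congr rfl fun b _ => hc b, Finset.prod_mul_distrib, Finset.prod_inv_distrib]
        rw [inv_mul_eq_one]
        exact (Fintype.prod_equiv (Equiv.mulRight a) _ _ fun _ => rfl).symm
      | one => exact map_one nu
      | mul u v hu hv ihu ihv =>
        rw [show (⟨u * v, _⟩ : D) = ⟨u, hu⟩ * ⟨v, hv⟩ from rfl, map_mul, ihu, ihv, one_mul]
      | inv u hu ihu =>
        rw [show (⟨u⁻¹, _⟩ : D) = (⟨u, hu⟩ : D)⁻¹ from rfl, map_inv, ihu, inv_one]
    have h1 : nu ⟨d, hd⟩ = ⟨d, hd⟩ ^ n := by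
      simp only [nu, MonoidHom.finsetProd_apply]
      rw [Finset.prod_congr rfl fun b _ => (show act b ⟨d, hd⟩ = ⟨d, hd⟩ from Subtype.ext (hfix b)),
        Finset.prod_const, Finset.card_univ, hn, Nat.card_eq_fintype_card]
    rw [hzero] at h1
    have h2 : (⟨d, hd⟩ : D) = 1 := orderOf_eq_one_iff.mp (Nat.eq_one_of_dvd_coprimes hcopD
      (orderOf_dvd_of_pow_eq_one h1.symm) (orderOf_dvd_natCard _))
    exact congrArg Subtype.val h2
  -- every coset contains a fixed point
  have hfac : ∀ g : G, ∃ c ∈ MulAction.fixedPoints A G, c⁻¹ * g ∈ D := by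
    intro g
    let c : A → D := fun b => ⟨g⁻¹ * b • g, hgen b g⟩
    set d := ∏ b : A, c b with hd
    have hcd : ∀ a : A, act a d = (c a)⁻¹ ^ n * d := by
      intro a
      rw [hd, map_prod, Finset.prod_congr rfl (fun b _ => (show act a (c b) = (c a)⁻¹ * c (a * b) from
        Subtype.ext (by
          show a • (g⁻¹ * b • g) = (g⁻¹ * a • g)⁻¹ * (g⁻¹ * (a * b) • g)
          rw [smul_mul', smul_inv', mul_smul]; group))), Finset.prod_mul_distrib, Finset.prod_const,
        Finset.card_univ, hn, Nat.card_eq_fintype_card]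
      congr 1
      exact Fintype.prod_equiv (Equiv.mulLeft a) _ _ fun _ => rfl
    obtain ⟨m, hm⟩ : ∃ m : ℕ, n * m ≡ 1 [MOD Nat.card D] := by
      obtain ⟨m, hm⟩ := Nat.chineseRemainder hcopD 0 1
      obtain ⟨t, ht⟩ := Nat.modEq_zero_iff_dvd.mp hm.1
      exact ⟨t, ht ▸ hm.2⟩
    refine ⟨g * ((d ^ m : D) : G), fun a => ?_, ?_⟩
    · have h1 : act a (d ^ m) = (c a)⁻¹ * d ^ m := by
        rw [map_pow, hcd, mul_pow, ← pow_mul]
        congr 1
        conv_rhs => rw [← pow_one ((c a)⁻¹)]
        exact pow_eq_pow_iff_modEq.mpr (hm.of_dvd (orderOf_dvd_natCard _))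
      have h2 : a • ((d ^ m : D) : G) = ((c a : D) : G)⁻¹ * ((d ^ m : D) : G) := congrArg Subtype.val h1
      rw [smul_mul', h2]
      show a • g * ((g⁻¹ * a • g)⁻¹ * _) = _
      group
    · rw [mul_inv_rev, mul_assoc, inv_mul_cancel, mul_one]
      exact inv_mem (d ^ m : D).2
  -- the statements
  set C := FixedPoints.subgroup A G with hC
  have hCset : (C : Set G) = MulAction.fixedPoints A G := rfl
  have hdisj : Disjoint D C := by
    rw [disjoint_iff, Subgroup.eq_bot_iff_forall]
    exact fun x hx => hint x hx.1 hx.2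
  have hmul : (C : Set G) * (D : Set G) = Set.univ := by
    refine Set.eq_univ_of_forall fun g => ?_
    obtain ⟨c, hc, hcg⟩ := hfac g
    exact ⟨c, hc, c⁻¹ * g, hcg, mul_inv_cancel_left c g⟩
  have hcompl := Subgroup.isComplement'_of_disjoint_and_mul_eq_univ hdisj.symm hmul
  have hcard : Nat.card C * Nat.card D = Nat.card G := hcompl.card_mul
  have hcp : (Nat.card C).Coprime (Nat.card D) := by
    refine Nat.coprime_of_dvd fun p hp hpC hpD => ?_
    haveI := Fact.mk hp
    obtain ⟨x, hx⟩ := exists_prime_orderOf_dvd_card' p hpC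
    obtain ⟨y, hy⟩ := exists_prime_orderOf_dvd_card' p hpD
    have hx' : orderOf (x : G) = p := by rw [Subgroup.orderOf_coe, hx]
    have hy' : orderOf (y : G) = p := by rw [Subgroup.orderOf_coe, hy]
    obtain ⟨P, hP⟩ := (IsPGroup.of_card (n := 1) (by rw [Nat.card_zpowers, hx', pow_one]) :
      IsPGroup p (Subgroup.zpowers (x : G))).exists_le_sylow
    obtain ⟨Q, hQ⟩ := (IsPGroup.of_card (n := 1) (by rw [Nat.card_zpowers, hy', pow_one]) :
      IsPGroup p (Subgroup.zpowers (y : G))).exists_le_sylow
    obtain ⟨g, hg⟩ := MulAction.exists_smul_eq G Q P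
    have hy2 : g * (y : G) * g⁻¹ ∈ (P : Subgroup G) := by
      rw [← hg, Sylow.coe_subgroup_smul, Subgroup.mem_pointwise_smul_iff_inv_smul_mem, ← map_inv]
      show g⁻¹ * (g * (y : G) * g⁻¹) * g⁻¹⁻¹ ∈ _
      rw [inv_inv, show g⁻¹ * (g * (y : G) * g⁻¹) * g = y by group]
      exact hQ (Subgroup.mem_zpowers _)
    have hyD : g * (y : G) * g⁻¹ ∈ D := hnorm.conj_mem _ y.2 g
    set u : (P : Subgroup G) := ⟨(x : G), hP (Subgroup.mem_zpowers _)⟩
    set w : (P : Subgroup G) := ⟨g * (y : G) * g⁻¹, hy2⟩
    have hu : orderOf u = p := by rw [Subgroup.orderOf_mk, hx']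
    have hw : orderOf w = p := by
      rw [Subgroup.orderOf_mk]
      exact (orderOf_injective (MulAut.conj g).toMonoidHom (MulAut.conj g).injective (y : G)).trans hy'
    have := hcyc p P
    have := Fintype.ofFinite (P : Subgroup G)
    have hsub : ∀ v : (P : Subgroup G), orderOf v = p → ((Subgroup.zpowers v : Subgroup (P : Subgroup G)) : Set (P : Subgroup G)).toFinset =
        Finset.univ.filter (fun z => z ^ p = 1) := fun v hv => by
      refine Finset.eq_of_subset_of_card_le (fun z hz => ?_) ?_
      · rw [Set.mem_toFinset] at hz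
        obtain ⟨j, rfl⟩ := hz
        simp only [Finset.mem_filter, Finset.mem_univ, true_and]
        rw [← zpow_natCast, ← zpow_mul, ← orderOf_dvd_iff_zpow_eq_one, hv]
        exact dvd_mul_left _ _
      · refine (IsCyclic.card_pow_eq_one_le hp.pos).trans (le_of_eq ?_)
        rw [Set.toFinset_card, ← Nat.card_eq_fintype_card]
        exact ((Nat.card_zpowers v).trans hv).symm
    have heq : Subgroup.zpowers u = Subgroup.zpowers w :=
      SetLike.coe_injective (Set.toFinset_inj.mp ((hsub u hu).trans (hsub w hw).symm))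
    obtain ⟨k, hk⟩ : u ∈ Subgroup.zpowers w := heq ▸ Subgroup.mem_zpowers u
    have hxD : (x : G) ∈ D := by
      have h1 := congrArg Subtype.val hk
      simp only [Subgroup.coe_zpow, u, w] at h1
      rw [← h1]
      exact D.zpow_mem hyD k
    have h0 := hint x hxD x.2
    rw [h0, orderOf_one] at hx'
    exact hp.ne_one hx'.symm
  refine ⟨?_, hcycD, hnorm, ?_, ?_⟩
  · show (Nat.card C).Coprime (Nat.card G / Nat.card C)
    rw [← hcard, Nat.mul_div_cancel_left _ Nat.card_pos]
    exact hcp
  · ext x
    constructor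
    · exact fun hx => hint x hx.1 hx.2
    · rintro rfl
      exact ⟨one_mem D, fun a => smul_one a⟩
  · rw [← hCset, Subgroup.closure_eq, eq_top_iff]
    intro g _
    obtain ⟨c, hc, hcg⟩ := hfac g
    rw [← mul_inv_cancel_left c g, sup_comm]
    exact mul_mem (Subgroup.mem_sup_left hc) (Subgroup.mem_sup_right hcg)

end Cfsg.Agent.S4117
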