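import Cfsg.Statements.S4126
import Mathlib
import Cfsg.Agent.GStructB.PElements
import Cfsg.Agent.GStructB.FixTwo
import Cfsg.Agent.OddLocal.Coprime
import Cfsg.Agent.Lib.Transfer.Frobenius

set_option autoImplicit false
open Cfsg

namespace Cfsg.Agent.S4126

open scoped commutatorElement

/-- Small order: order dividing `p`, or `4` when `p = 2`. -/
abbrev Small (p : ℕ) {G : Type*} [Group G] (x : G) : Prop := x ^ p = 1 ∨ (p = 2 ∧ x ^ 4 = 1)

theorem centralizes {G : Type*} [Group G] [Finite G] (p : ℕ) [Fact p.Prime] {Q : Subgroup G}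
    (hQ : IsPGroup p Q) {y : G} (hy : y ∈ Subgroup.normalizer (Q : Set G))
    (hy' : (orderOf y).Coprime p) (hfix : ∀ x ∈ Q, Small p x → y * x = x * y) :
    y ∈ Subgroup.centralizer (Q : Set G) := by
  have hle : Subgroup.zpowers y ≤ Subgroup.normalizer (Q : Set G) := Subgroup.zpowers_le.mpr hy
  have hcop : (Nat.card (Subgroup.zpowers y)).Coprime p := by rwa [Nat.card_zpowers]
  have hA : ∀ x, y * x = x * y → ∀ a ∈ Subgroup.zpowers y, a * x = x * a := by
    rintro x hx _ ⟨j, rfl⟩
    exact ((show Commute y x from hx).zpow_left j).eq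
  refine (?_ : Subgroup.zpowers y ≤ _) (Subgroup.mem_zpowers y)
  rcases eq_or_ne p 2 with rfl | hp2
  · exact GStructB.FixTwo.le_centralizer_of_fix_order_four hQ hle hcop
      fun x hx h4 => hA x (hfix x hx (Or.inr ⟨rfl, h4⟩))
  · exact OddLocal.Coprime.le_centralizer_of_fix_order_p hp2 hQ hle hcop
      fun x hx h1 => hA x (hfix x hx (Or.inl h1))

/-- If the class of `x` has prime power size, a Sylow subgroup is transitive on it. -/
theorem exists_conj_mem_sylow {G : Type*} [Group G] [Finite G] (p : ℕ) [Fact p.Prime] {x : G} {a : ℕ}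
    (ha : (Subgroup.centralizer ({x} : Set G)).index = p ^ a) (P : Sylow p G) (g : G) :
    ∃ h ∈ (P : Subgroup G), g * x * g⁻¹ = h * x * h⁻¹ := by
  have hp := (Fact.out : p.Prime)
  set C := Subgroup.centralizer ({x} : Set G)
  obtain ⟨b, hb⟩ := IsPGroup.iff_card.mp (P.2.to_le (inf_le_right : C ⊓ (P : Subgroup G) ≤ _))
  have hbC : b ≤ (Nat.card C).factorization p :=
    (hp.pow_dvd_iff_le_factorization Nat.card_pos.ne').mp
      (hb ▸ Subgroup.card_dvd_of_le inf_le_left)
  have h1 := Subgroup.card_mul_index (C.subgroupOf (P : Subgroup G))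
  rw [← Subgroup.card_map_of_injective (P : Subgroup G).subtype_injective,
    Subgroup.subgroupOf_map_subtype, hb, P.card_eq_multiplicity, ← C.card_mul_index, ha,
    Nat.factorization_mul Nat.card_pos.ne' (pow_pos hp.pos a).ne', Finsupp.coe_add, Pi.add_apply,
    hp.factorization_pow, Finsupp.single_eq_same] at h1
  let f : (P : Subgroup G) ⧸ C.subgroupOf (P : Subgroup G) → G ⧸ C :=
    Quotient.map' Subtype.val fun u v huv => by
      rw [QuotientGroup.leftRel_apply] at huv ⊢
      exact huv
  have hf : Function.Injective f := by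
    intro u v
    refine Quotient.inductionOn₂' u v fun u v huv => ?_
    refine QuotientGroup.eq.mpr ?_
    exact (QuotientGroup.eq.mp huv : _ ∈ C)
  have hcard : Nat.card (G ⧸ C) ≤ Nat.card ((P : Subgroup G) ⧸ C.subgroupOf (P : Subgroup G)) := by
    rw [← Subgroup.index_eq_card, ← Subgroup.index_eq_card, ha]
    refine Nat.le_of_mul_le_mul_left ?_ (pow_pos hp.pos b)
    rw [h1, pow_add]
    exact Nat.mul_le_mul_right _ (Nat.pow_le_pow_right hp.pos hbC)
  obtain ⟨u, hu⟩ := ((Nat.bijective_iff_injective_and_card f).mpr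
    ⟨hf, le_antisymm (Nat.card_le_card_of_injective f hf) hcard⟩).2 (g : G ⧸ C)
  revert hu
  refine Quotient.inductionOn' u fun u hu => ?_
  have h2 : (u : G)⁻¹ * g ∈ C := QuotientGroup.eq.mp hu
  rw [Subgroup.mem_centralizer_singleton_iff] at h2
  exact ⟨u, u.2, by
    calc g * x * g⁻¹ = u * (((u : G)⁻¹ * g) * x * ((u : G)⁻¹ * g)⁻¹) * (u : G)⁻¹ := by group
      _ = _ := by rw [h2]; group⟩

theorem small_commute {G : Type*} [Group G] [Finite G] (p : ℕ) [Fact p.Prime]
    (h : ∀ x : G, (orderOf x = p ∨ (p = 2 ∧ orderOf x = 4)) →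
      ∃ a : ℕ, (Subgroup.centralizer ({x} : Set G)).index = p ^ a) :
    ∀ n, ∀ x : G, Small p x → Nat.card (Subgroup.normalClosure ({x} : Set G)) ≤ n →
      ∀ y : G, (orderOf y).Coprime p → y * x = x * y := by
  intro n
  induction n with
  | zero => intro x _ hn; exact absurd hn (by simp [Nat.card_pos.ne'])
  | succ n ih =>
    intro x hxs hn y hy
    by_cases hx1 : x = 1
    · simp [hx1]
    have hp := (Fact.out : p.Prime)
    have hord : orderOf x = p ∨ (p = 2 ∧ orderOf x = 4) := by
      rcases hxs with hx | ⟨rfl, hx⟩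
      · exact Or.inl (orderOf_eq_prime hx hx1)
      · by_cases h2 : x ^ 2 = 1
        · exact Or.inl (orderOf_eq_prime h2 hx1)
        · exact Or.inr ⟨rfl, orderOf_eq_prime_pow (p := 2) (n := 1) (by simpa using h2) (by simpa using hx)⟩
    obtain ⟨a, ha⟩ := h x hord
    obtain ⟨P, hxP⟩ : ∃ P : Sylow p G, x ∈ P := by
      rcases hord with h1 | ⟨rfl, h1⟩
      · exact GStructB.PElements.exists_mem_sylow (k := 1) (by rwa [pow_one])
      · exact GStructB.PElements.exists_mem_sylow (k := 2) (by simpa using h1)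
    set X := Subgroup.normalClosure ({x} : Set G)
    have hgen : Group.conjugatesOfSet ({x} : Set G) ⊆ {z | ∃ u ∈ (P : Subgroup G), z = u * x * u⁻¹} := by
      intro z hz
      obtain ⟨x', hx', hz'⟩ := Group.mem_conjugatesOfSet_iff.mp hz
      rw [Set.mem_singleton_iff] at hx'
      subst hx'
      obtain ⟨g, rfl⟩ := isConj_iff.mp hz'
      exact exists_conj_mem_sylow p ha P g
    have hXP : X ≤ (P : Subgroup G) := by
      refine (Subgroup.closure_le _).mpr fun z hz => ?_
      obtain ⟨u, hu, rfl⟩ := hgen hz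
      exact mul_mem (mul_mem hu hxP) (inv_mem hu)
    let D' : Subgroup (P : Subgroup G) := ⁅X.subgroupOf (P : Subgroup G), ⊤⁆
    let D := D'.map (P : Subgroup G).subtype
    have hDconj : ∀ u ∈ (P : Subgroup G), ∀ d ∈ D, u * d * u⁻¹ ∈ D := by
      rintro u hu _ ⟨d, hd, rfl⟩
      exact ⟨⟨u, hu⟩ * d * ⟨u, hu⟩⁻¹, (inferInstance : D'.Normal).conj_mem d hd _, rfl⟩
    have hxu : ∀ u ∈ (P : Subgroup G), ⁅u, x⁆ ∈ D := fun u hu => by
      refine ⟨⁅(⟨u, hu⟩ : (P : Subgroup G)), ⟨x, hxP⟩⁆, ?_, rfl⟩
      show _ ∈ D'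
      rw [show D' = ⁅(⊤ : Subgroup (P : Subgroup G)), X.subgroupOf (P : Subgroup G)⁆ from
        Subgroup.commutator_comm _ _]
      exact Subgroup.commutator_mem_commutator (Subgroup.mem_top _)
        (Subgroup.mem_subgroupOf.mpr (Subgroup.subset_normalClosure (Set.mem_singleton x)))
    have hD : ⁅X, (⊤ : Subgroup G)⁆ ≤ D := by
      rw [Subgroup.commutator_le]
      suffices hh : ∀ z ∈ X, ∀ g : G, ⁅z, g⁆ ∈ D from fun z hz g _ => hh z hz g
      intro z hz
      induction hz using Subgroup.closure_induction with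
      | mem z hz =>
        intro g
        obtain ⟨u, hu, rfl⟩ := hgen hz
        obtain ⟨v, hv, hgv⟩ := exists_conj_mem_sylow p ha P (g * u)
        have e : ⁅u * x * u⁻¹, g⁆ = ⁅u, x⁆ * ⁅v, x⁆⁻¹ := by
          simp only [commutatorElement_def]
          calc _ = (u * x * u⁻¹) * ((g * u) * x * (g * u)⁻¹)⁻¹ := by group
            _ = _ := by rw [hgv]; group
        rw [e]
        exact mul_mem (hxu u hu) (inv_mem (hxu v hv))
      | one => intro g; simp
      | mul a b ha' hb iha ihb =>
        intro g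
        rw [show ⁅a * b, g⁆ = a * ⁅b, g⁆ * a⁻¹ * ⁅a, g⁆ by simp only [commutatorElement_def]; group]
        exact mul_mem (hDconj a (hXP ha') _ (ihb g)) (iha g)
      | inv a ha' iha =>
        intro g
        rw [show ⁅a⁻¹, g⁆ = a⁻¹ * ⁅a, g⁆⁻¹ * (a⁻¹)⁻¹ by simp only [commutatorElement_def]; group]
        exact hDconj _ (inv_mem (hXP ha')) _ (inv_mem (iha g))
    set E := ⁅X, (⊤ : Subgroup G)⁆ with hEdef
    have hEX : E ≤ X := Subgroup.commutator_le_left X ⊤
    have hlt : E < X := by
      refine lt_of_le_of_ne hEX fun hEq => hx1 ?_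
      have hXD : X.subgroupOf (P : Subgroup G) ≤ D' := fun z hz => by
        obtain ⟨w, hw, hwz⟩ := hD (hEq.symm ▸ (Subgroup.mem_subgroupOf.mp hz) : (z : G) ∈ E)
        rwa [← Subtype.ext hwz]
      have := P.2.isNilpotent
      obtain ⟨k, hk⟩ := Subgroup.nilpotent_iff_lowerCentralSeries.mp this
      have hall : ∀ j, X.subgroupOf (P : Subgroup G) ≤
          (⊤ : Subgroup (P : Subgroup G)).lowerCentralSeries j := by
        intro j
        induction j with
        | zero => simp
        | succ j ihj =>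
          rw [Subgroup.lowerCentralSeries_succ]
          exact hXD.trans (Subgroup.commutator_mono ihj le_rfl)
      have hb := le_bot_iff.mp (hk ▸ hall k)
      have : (⟨x, hxP⟩ : (P : Subgroup G)) ∈ X.subgroupOf (P : Subgroup G) :=
        Subgroup.mem_subgroupOf.mpr (Subgroup.subset_normalClosure (Set.mem_singleton x))
      rw [hb, Subgroup.mem_bot] at this
      exact congrArg Subtype.val this
    have hEn : E.Normal := inferInstance
    have hEc : Nat.card E ≤ n := by
      have : Nat.card E < Nat.card X := by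
        refine lt_of_le_of_ne (Subgroup.card_le_of_le hEX) fun he => hlt.ne ?_
        exact Subgroup.eq_of_le_of_card_ge hEX he.ge
      omega
    have hEfix : y ∈ Subgroup.centralizer (E : Set G) := by
      refine centralizes p (P.2.to_le (hEX.trans hXP)) ?_ hy fun z hz hzs => ?_
      · rw [Subgroup.normalizer_eq_top]; exact Subgroup.mem_top y
      · exact ih z hzs ((Subgroup.card_le_of_le
          (Subgroup.normalClosure_le_normal (Set.singleton_subset_iff.mpr hz))).trans hEc) y hy
    -- `y` moves `x` by an element it fixes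
    set c := ⁅x⁻¹, y⁆ with hc
    have hcE : c ∈ E := Subgroup.commutator_mem_commutator
      (inv_mem (Subgroup.subset_normalClosure (Set.mem_singleton x))) (Subgroup.mem_top y)
    have hyc : y * c = c * y := (Subgroup.mem_centralizer_iff.mp hEfix c hcE).symm
    have hxy : y * x * y⁻¹ = x * c := by rw [hc, commutatorElement_def]; group
    have hpow : ∀ k : ℕ, y ^ k * x * (y ^ k)⁻¹ = x * c ^ k := by
      intro k
      induction k with
      | zero => simp
      | succ k ihk =>
        calc y ^ (k + 1) * x * (y ^ (k + 1))⁻¹ = y * (y ^ k * x * (y ^ k)⁻¹) * y⁻¹ := by group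
          _ = (y * x * y⁻¹) * (y * c ^ k * y⁻¹) := by rw [ihk]; group
          _ = _ := by
            rw [hxy, ((show Commute y c from hyc).pow_right k).eq, mul_inv_cancel_right, pow_succ',
              mul_assoc]
    have h5 := hpow (orderOf y)
    rw [pow_orderOf_eq_one, one_mul, inv_one, mul_one] at h5
    obtain ⟨j, hj⟩ := GStructB.PElements.exists_orderOf_eq P.2 (hXP (hEX hcE))
    have hc1 : c = 1 := orderOf_eq_one_iff.mp (Nat.eq_one_of_dvd_coprimes (hy.pow_right j)
      (orderOf_dvd_of_pow_eq_one (mul_eq_left.mp h5.symm)) (dvd_of_eq hj))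
    rw [hc1, mul_one] at hxy
    exact mul_inv_eq_iff_eq_mul.mp hxy

/-- Let G be a finite group and p a prime. Suppose every element of order p, and when p = 2 also every element of order 4, has a conjugacy class of p-power size. Then G has a normal p-complement. -/
theorem result {G : Type*} [Group G] [Finite G] (p : ℕ) [Fact p.Prime]
    (h : ∀ x : G, (orderOf x = p ∨ (p = 2 ∧ orderOf x = 4)) → ∃ a : ℕ, (Subgroup.centralizer ({x} : Set G)).index = p ^ a) :
    Cfsg.HasNormalPComplement p G := by
  refine Transfer.Frobenius.hasNormalPComplement_of_condition ?_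
  intro Q hQ y hy hy'
  refine centralizes p hQ hy hy' fun x hx hxs => ?_
  exact small_commute p h (Nat.card G) x hxs (Subgroup.card_le_card_group _) y hy'


end Cfsg.Agent.S4126
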