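import Cfsg.Statements.S4127
import Mathlib
import Cfsg.Agent.S4035
import Cfsg.Agent.GStructB.PElements
import Cfsg.Agent.Lib.Transfer.NormalPComplement

set_option autoImplicit false
open Cfsg

namespace Cfsg.Agent.S4127

/-- If the class of `x` has prime power size, a Sylow subgroup is transitive on it. -/
theorem exists_conj_mem_sylow {G : Type*} [Group G] [Finite G] (p : ℕ) [Fact p.Prime] {x : G} {a : ℕ}
    (ha : (Subgroup.centralizer ({x} : Set G)).index = p ^ a) (P : Sylow p G) (g : G) :
    ∃ h ∈ (P : Subgroup G), g * x * g⁻¹ = h * x * h⁻¹ := by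
  have hp := (Fact.out : p.Prime)
  set C := Subgroup.centralizer ({x} : Set G)
  obtain ⟨b, hb⟩ := IsPGroup.iff_card.mp (P.2.to_le (inf_le_right : C ⊓ (P : Subgroup G) ≤ _))
  have hbC : b ≤ (Nat.card C).factorization p :=
    (hp.pow_dvd_iff_le_factorization Nat.card_pos.ne').mp
      (hb ▸ Subgroup.card_dvd_of_le inf_le_left)
  have h1 := Subgroup.card_mul_index (C.subgroupOf (P : Subgroup G))
  rw [← Subgroup.card_map_of_injective (P : Subgroup G).subtype_injective,
    Subgroup.subgroupOf_map_subtype, hb, P.card_eq_multiplicity, ← C.card_mul_index, ha,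
    Nat.factorization_mul Nat.card_pos.ne' (pow_pos hp.pos a).ne', Finsupp.coe_add, Pi.add_apply,
    hp.factorization_pow, Finsupp.single_eq_same] at h1
  let f : (P : Subgroup G) ⧸ C.subgroupOf (P : Subgroup G) → G ⧸ C :=
    Quotient.map' Subtype.val fun u v huv => by
      rw [QuotientGroup.leftRel_apply] at huv ⊢
      exact huv
  have hf : Function.Injective f := by
    intro u v
    refine Quotient.inductionOn₂' u v fun u v huv => ?_
    refine QuotientGroup.eq.mpr ?_
    exact (QuotientGroup.eq.mp huv : _ ∈ C)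
  have hcard : Nat.card (G ⧸ C) ≤ Nat.card ((P : Subgroup G) ⧸ C.subgroupOf (P : Subgroup G)) := by
    rw [← Subgroup.index_eq_card, ← Subgroup.index_eq_card, ha]
    refine Nat.le_of_mul_le_mul_left ?_ (pow_pos hp.pos b)
    rw [h1, pow_add]
    exact Nat.mul_le_mul_right _ (Nat.pow_le_pow_right hp.pos hbC)
  obtain ⟨u, hu⟩ := ((Nat.bijective_iff_injective_and_card f).mpr
    ⟨hf, le_antisymm (Nat.card_le_card_of_injective f hf) hcard⟩).2 (g : G ⧸ C)
  revert hu
  refine Quotient.inductionOn' u fun u hu => ?_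
  have h2 : (u : G)⁻¹ * g ∈ C := QuotientGroup.eq.mp hu
  rw [Subgroup.mem_centralizer_singleton_iff] at h2
  exact ⟨u, u.2, by
    calc g * x * g⁻¹ = u * (((u : G)⁻¹ * g) * x * ((u : G)⁻¹ * g)⁻¹) * (u : G)⁻¹ := by group
      _ = _ := by rw [h2]; group⟩



/-- Let G be a finite group, p a prime and p^a the largest power of p dividing the size of any conjugacy class of G. If some element of p-power order has a conjugacy class of size exactly p^a, then G has a normal p-complement. -/
theorem result {G : Type*} [Group G] [Finite G] (p : ℕ) [Fact p.Prime]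
    (a : ℕ) (hmax : ∀ y : G, ¬ p ^ (a + 1) ∣ (Subgroup.centralizer ({y} : Set G)).index)
    (hx : ∃ x : G, (∃ k : ℕ, orderOf x = p ^ k) ∧ (Subgroup.centralizer ({x} : Set G)).index = p ^ a) :
    Cfsg.HasNormalPComplement p G := by
  classical
  have hp := (Fact.out : p.Prime)
  obtain ⟨x, ⟨k, hxk⟩, hxi⟩ := hx
  set C := Subgroup.centralizer ({x} : Set G) with hC
  have hreg : ∀ y : C, (orderOf y).Coprime p → ¬ p ∣ (ConjClasses.mk y).carrier.ncard := by
    intro y hy hd
    rw [← Subgroup.orderOf_coe] at hy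
    have hcent : Subgroup.centralizer ({x * (y : G)} : Set G) =
        C ⊓ Subgroup.centralizer ({(y : G)} : Set G) := by
      have hcomm : Commute x (y : G) := (Subgroup.mem_centralizer_singleton_iff.mp y.2).symm
      ext w
      simp only [Subgroup.mem_inf, hC, Subgroup.mem_centralizer_singleton_iff]
      constructor
      · intro hw
        have h1 : x ^ orderOf (y : G) ∈ Subgroup.centralizer ({w} : Set G) := by
          rw [Subgroup.mem_centralizer_singleton_iff, show x ^ orderOf (y : G) = (x * y) ^ orderOf (y : G) by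
            rw [hcomm.mul_pow, pow_orderOf_eq_one, mul_one]]
          exact ((show Commute (x * (y : G)) w from hw.symm).pow_left _).eq
        have h2 : x ∈ Subgroup.centralizer ({w} : Set G) :=
          GStructB.PElements.mem_of_pow_mem_coprime (a := orderOf (y : G)) (b := p ^ k)
            (hy.pow_right k) h1 (by rw [← hxk, pow_orderOf_eq_one]; exact one_mem _)
        rw [Subgroup.mem_centralizer_singleton_iff] at h2
        refine ⟨h2.symm, ?_⟩
        calc w * (y : G) = w * (x⁻¹ * (x * y)) := by group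
          _ = x⁻¹ * (x * y) * w := by
            rw [← mul_assoc, ((show Commute w x from h2.symm).inv_right).eq, mul_assoc, hw, mul_assoc]
            group
          _ = _ := by group
      · rintro ⟨h1, h2⟩
        exact ((show Commute w x from h1).mul_right h2).eq
    refine hmax (x * y) ?_
    rw [hcent, ← Subgroup.relIndex_mul_index (inf_le_left : C ⊓ _ ≤ C), Subgroup.inf_relIndex_left,
      hxi, pow_succ']
    refine mul_dvd_mul ?_ dvd_rfl
    have e : (Subgroup.centralizer ({(y : G)} : Set G)).subgroupOf C = Subgroup.centralizer ({y} : Set C) := by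
      ext w
      simp only [Subgroup.mem_subgroupOf, Subgroup.mem_centralizer_singleton_iff, Subtype.ext_iff,
        Subgroup.coe_mul]
    have e2 : (Subgroup.centralizer ({y} : Set C)).index = (ConjClasses.mk y).carrier.ncard := by
      rw [Subgroup.centralizer_eq_comap_stabilizer]
      refine (Subgroup.index_comap_of_surjective _ (MulEquiv.surjective _)).trans ?_
      rw [Subgroup.index, ← Nat.card_coe_set_eq,
        ← Nat.card_congr (MulAction.orbitEquivQuotientStabilizer (ConjAct C) y),
        ConjAct.orbit_eq_carrier_conjClasses]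
    rw [Subgroup.relIndex, e]
    exact hd.trans (dvd_of_eq e2.symm)
  obtain ⟨PC⟩ : Nonempty (Sylow p C) := inferInstance
  obtain ⟨hPCn, H', hH'n, hH'p, hinf, hsup⟩ := S4035.result hreg PC
  -- `H` is the set of elements of order prime to `p` in the centraliser
  set H := H'.map C.subtype with hH
  have hHC : H ≤ C := Subgroup.map_subtype_le _
  have hHcard : Nat.card H = Nat.card H' := Subgroup.card_subtype _ _
  have hindex : ∃ j, H'.index = p ^ j := by
    obtain ⟨j, hj⟩ := IsPGroup.iff_card.mp PC.2
    refine ⟨j, ?_⟩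
    rw [← hj]
    refine (Subgroup.IsComplement'.index_eq_card ?_).trans rfl
    exact (Subgroup.isComplement'_of_disjoint_and_mul_eq_univ (disjoint_iff.mpr hinf)
      (by rw [← Subgroup.normal_mul, hsup]; rfl))
  obtain ⟨j, hj⟩ := hindex
  have hmemH : ∀ w ∈ C, (orderOf w).Coprime p → w ∈ H := by
    intro w hw hwo
    refine ⟨⟨w, hw⟩, ?_, rfl⟩
    apply (QuotientGroup.eq_one_iff _).mp
    rw [← orderOf_eq_one_iff]
    refine Nat.eq_one_of_dvd_coprimes (hwo.pow_right j)
      ((orderOf_map_dvd (QuotientGroup.mk' H') _).trans (dvd_of_eq (Subgroup.orderOf_mk w hw))) ?_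
    rw [← hj]
    exact orderOf_dvd_natCard _
  have hHo : ∀ w ∈ H, (orderOf w).Coprime p := fun w hw =>
    ((hp.coprime_iff_not_dvd.mpr (hHcard ▸ hH'p)).symm).coprime_dvd_left (H.orderOf_dvd_natCard hw)
  -- `H` centralises `O_p(G)`, which contains `x`
  obtain ⟨P, hxP⟩ := GStructB.PElements.exists_mem_sylow (p := p) hxk
  set R := Subgroup.normalClosure ({x} : Set G) with hR
  have hRP : R ≤ (P : Subgroup G) := by
    refine (Subgroup.closure_le _).mpr fun z hz => ?_
    obtain ⟨x', hx', hz'⟩ := Group.mem_conjugatesOfSet_iff.mp hz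
    rw [Set.mem_singleton_iff] at hx'
    subst hx'
    obtain ⟨g, rfl⟩ := isConj_iff.mp hz'
    obtain ⟨u, hu, hgu⟩ := exists_conj_mem_sylow p hxi P g
    rw [hgu]
    exact mul_mem (mul_mem hu hxP) (inv_mem hu)
  have hxR : x ∈ R := Subgroup.subset_normalClosure (Set.mem_singleton x)
  have hHR : ∀ y ∈ H, ∀ r ∈ R, y * r = r * y := by
    have := (P.2.to_le hRP).isNilpotent
    set E := (Subgroup.centralizer (H : Set G)).subgroupOf R with hE
    suffices E = ⊤ by
      intro y hy r hr
      have h1 : (⟨r, hr⟩ : R) ∈ E := this ▸ Subgroup.mem_top _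
      exact Subgroup.mem_centralizer_iff.mp (Subgroup.mem_subgroupOf.mp h1) y hy
    by_contra hne
    obtain ⟨r, hrN, hrE⟩ := SetLike.exists_of_lt
      (Group.normalizerCondition_of_isNilpotent E (lt_top_iff_ne_top.mpr hne))
    refine hrE (Subgroup.mem_subgroupOf.mpr (Subgroup.mem_centralizer_iff.mpr fun y hy => ?_))
    have hfix : ∀ e : R, e ∈ E → y * (e : G) * y⁻¹ = e := fun e he => by
      rw [Subgroup.mem_centralizer_iff.mp (Subgroup.mem_subgroupOf.mp he) y hy, mul_inv_cancel_right]
    set c : G := (r : G)⁻¹ * (y * r * y⁻¹) with hc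
    have hcR : c ∈ R := mul_mem (inv_mem r.2)
      (Subgroup.normalClosure_normal.conj_mem _ r.2 y)
    have hcE : ∀ e : R, e ∈ E → (e : G) * c = c * e := by
      intro e he
      have h1 := hfix _ ((Subgroup.mem_normalizer_iff.mp hrN e).mp he)
      simp only [Subgroup.coe_mul, Subgroup.coe_inv] at h1
      have h2 : y * r * y⁻¹ * e * (y * r * y⁻¹)⁻¹ = r * e * (r : G)⁻¹ := by
        calc y * r * y⁻¹ * e * (y * r * y⁻¹)⁻¹
            = y * ((r : G) * (y⁻¹ * e * y) * (r : G)⁻¹) * y⁻¹ := by group
          _ = y * ((r : G) * e * (r : G)⁻¹) * y⁻¹ := by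
            have : y⁻¹ * (e : G) * y = e := by
              conv_lhs => rw [← hfix e he]
              group
            rw [this]
          _ = _ := h1
      calc (e : G) * c = (r : G)⁻¹ * ((r : G) * e * (r : G)⁻¹) * (y * r * y⁻¹) := by rw [hc]; group
        _ = c * e := by rw [← h2, hc]; group
    have hcC : c ∈ C := by
      rw [hC, Subgroup.mem_centralizer_singleton_iff]
      refine (hcE ⟨x, hxR⟩ (Subgroup.mem_subgroupOf.mpr (Subgroup.mem_centralizer_iff.mpr
        fun z hz => Subgroup.mem_centralizer_singleton_iff.mp (hHC hz)))).symm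
    -- so `c` centralises `H`
    have hyc : y * c = c * y := by
      obtain ⟨i, hi⟩ := GStructB.PElements.exists_orderOf_eq (P.2.to_le hRP) hcR
      have hcPC : (⟨c, hcC⟩ : C) ∈ (PC : Subgroup C) := by
        apply (QuotientGroup.eq_one_iff _).mp
        rw [← orderOf_eq_one_iff]
        have h1 := orderOf_map_dvd (QuotientGroup.mk' (PC : Subgroup C)) ⟨c, hcC⟩
        rw [Subgroup.orderOf_mk, hi] at h1
        exact Nat.eq_one_of_dvd_coprimes ((hp.coprime_iff_not_dvd.mpr PC.not_dvd_index).pow_left i)
          h1 (by rw [Subgroup.index_eq_card]; exact orderOf_dvd_natCard _)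
      obtain ⟨y', hy', rfl⟩ := hy
      exact congrArg Subtype.val (Subgroup.commute_of_normal_of_disjoint _ _ hH'n hPCn
        (disjoint_iff.mpr (by rw [inf_comm, hinf])) y' _ hy' hcPC).eq
    have hpow : ∀ m : ℕ, y ^ m * r * (y ^ m)⁻¹ = r * c ^ m := by
      intro m
      induction m with
      | zero => simp
      | succ m ihm =>
        calc y ^ (m + 1) * r * (y ^ (m + 1))⁻¹ = y * (y ^ m * r * (y ^ m)⁻¹) * y⁻¹ := by group
          _ = (y * r * y⁻¹) * (y * c ^ m * y⁻¹) := by rw [ihm]; group
          _ = _ := by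
            rw [((show Commute y c from hyc).pow_right m).eq, mul_inv_cancel_right,
              show y * r * y⁻¹ = r * c by rw [hc]; group, pow_succ', mul_assoc]
    have h5 := hpow (orderOf y)
    rw [pow_orderOf_eq_one, one_mul, inv_one, mul_one] at h5
    obtain ⟨i, hi⟩ := GStructB.PElements.exists_orderOf_eq (P.2.to_le hRP) hcR
    have hc1 : c = 1 := orderOf_eq_one_iff.mp (Nat.eq_one_of_dvd_coprimes ((hHo y hy).pow_right i)
      (orderOf_dvd_of_pow_eq_one (mul_eq_left.mp h5.symm)) (dvd_of_eq hi))
    rw [hc, inv_mul_eq_one] at hc1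
    exact (mul_inv_eq_iff_eq_mul.mp hc1.symm)
  have hHn : H.Normal := by
    refine ⟨fun w hw g => hmemH _ ?_ ?_⟩
    · rw [hC, Subgroup.mem_centralizer_singleton_iff]
      have h1 := hHR w hw (g⁻¹ * x * g) (by simpa using Subgroup.normalClosure_normal.conj_mem x hxR g⁻¹)
      calc g * w * g⁻¹ * x = g * (w * (g⁻¹ * x * g)) * g⁻¹ := by group
        _ = g * ((g⁻¹ * x * g) * w) * g⁻¹ := by rw [h1]
        _ = _ := by group
    · rw [← MulAut.conj_apply g w, MulEquiv.orderOf_eq]
      exact hHo w hw
  rw [Transfer.NormalPComplement.hasNormalPComplement_iff_exists]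
  refine ⟨H, hHn, by rw [hHcard]; exact (hp.coprime_iff_not_dvd.mpr hH'p).symm, j + a, ?_⟩
  rw [hH, Subgroup.index_map_subtype, hj, hxi, pow_add]

end Cfsg.Agent.S4127
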