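import Cfsg.Statements.S4130
import Mathlib
import Cfsg.Agent.GenA.SquareFree.Structure
import Cfsg.Agent.Lib.Cores.Fitting
import Cfsg.Agent.SolvStruct.Basic
-- import your own Cfsg.Agent.* helpers here

set_option autoImplicit false
open Cfsg

namespace Cfsg.Agent.S4130

open Subgroup in
theorem isCyclic_of_squarefree {H : Type*} [Group H] [Finite H] [Group.IsNilpotent H]
    (h : Squarefree (Nat.card H)) : IsCyclic H := by
  haveI := IsZGroup.of_squarefree h
  infer_instance

open Subgroup in
open scoped commutatorElement in
theorem nilpotent_of_centralizing {G : Type*} [Group G] (C : Subgroup G)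
    (hC : C ≤ centralizer ((commutator G : Subgroup G) : Set G)) : Group.IsNilpotent C := by
  refine Group.of_quotient_center_nilpotent ?_
  letI : CommGroup (C ⧸ center C) := { (inferInstance : Group (C ⧸ center C)) with
    mul_comm := by
      intro x y
      obtain ⟨a, rfl⟩ := QuotientGroup.mk'_surjective (center C) x
      obtain ⟨b, rfl⟩ := QuotientGroup.mk'_surjective (center C) y
      rw [← commutatorElement_eq_one_iff_mul_comm, ← map_commutatorElement,
        QuotientGroup.mk'_apply, QuotientGroup.eq_one_iff, mem_center_iff]
      intro c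
      apply Subtype.ext
      have h1 : ⁅(a : G), (b : G)⁆ ∈ commutator G :=
        commutator_mem_commutator (mem_top _) (mem_top _)
      exact (mem_centralizer_iff.1 (hC c.2) _ h1).symm }
  exact CommGroup.isNilpotent

/-- Let G be a finite group all of whose conjugacy class sizes are square-free. Then G is supersolvable, G/F(G) and the derived subgroup G′ are cyclic of square-free order (F(G) the Fitting subgroup, which is normal), F(G) has nilpotency class at most 2, and G is metabelian. -/
theorem result {G : Type*} [Group G] [Finite G]
    (h : ∀ x : G, Squarefree (Subgroup.centralizer ({x} : Set G)).index) :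
    Cfsg.IsSupersolvable G ∧ (Cfsg.fittingSubgroup G).Normal ∧
    (∀ _h : (Cfsg.fittingSubgroup G).Normal, IsCyclic (G ⧸ Cfsg.fittingSubgroup G) ∧ Squarefree (Cfsg.fittingSubgroup G).index) ∧
    IsCyclic (commutator G) ∧ Squarefree (Nat.card (commutator G)) ∧
    Subgroup.upperCentralSeries ↥(Cfsg.fittingSubgroup G) 2 = ⊤ ∧ commutator ↥(commutator G) = ⊥ := by
  have hc2 := Cfsg.Agent.GenA.SquareFree.commutator_squarefree G h
  have hss := Cfsg.Agent.GenA.SquareFree.supersolvable G h
  haveI := Cfsg.Agent.Hall.Supersolvable.isNilpotent_commutator hss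
  haveI hcyc : IsCyclic (commutator G) := isCyclic_of_squarefree hc2
  set C := Subgroup.centralizer ((commutator G : Subgroup G) : Set G) with hC
  have hCF : C ≤ Cfsg.fittingSubgroup G :=
    Cfsg.Agent.Cores.le_fittingSubgroup (nilpotent_of_centralizing C le_rfl)
  obtain ⟨⟨y, hy⟩, hgen⟩ := IsCyclic.exists_generator (α := ↥(commutator G))
  have hCy : C = Subgroup.centralizer ({y} : Set G) := by
    refine le_antisymm (Subgroup.centralizer_le (Set.singleton_subset_iff.2 hy)) fun x hx => ?_
    refine Subgroup.mem_centralizer_iff.2 fun w hw => ?_
    obtain ⟨i, hi⟩ := hgen ⟨w, hw⟩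
    have hwi : y ^ i = w := congrArg Subtype.val hi
    rw [← hwi]
    exact (Commute.zpow_left (Subgroup.mem_centralizer_iff.1 hx y rfl : Commute y x) i).eq
  have hCsq : Squarefree C.index := hCy ▸ h y
  have hFsq : Squarefree (Cfsg.fittingSubgroup G).index :=
    hCsq.squarefree_of_dvd (Subgroup.index_dvd_of_le hCF)
  refine ⟨hss, inferInstance, fun _ => ⟨?_, hFsq⟩, hcyc, hc2, ?_, ?_⟩
  · have hle : commutator G ≤ Cfsg.fittingSubgroup G :=
      (Cfsg.Agent.Cores.le_fittingSubgroup inferInstance)
    haveI : Group.IsNilpotent (G ⧸ Cfsg.fittingSubgroup G) := by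
      letI : CommGroup (G ⧸ Cfsg.fittingSubgroup G) :=
        { (inferInstance : Group (G ⧸ Cfsg.fittingSubgroup G)) with
          mul_comm := by
            intro a b
            obtain ⟨a, rfl⟩ := QuotientGroup.mk'_surjective _ a
            obtain ⟨b, rfl⟩ := QuotientGroup.mk'_surjective _ b
            rw [← commutatorElement_eq_one_iff_mul_comm, ← map_commutatorElement,
              QuotientGroup.mk'_apply, QuotientGroup.eq_one_iff]
            exact hle (Subgroup.commutator_mem_commutator (Subgroup.mem_top _)
              (Subgroup.mem_top _)) }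
      exact CommGroup.isNilpotent
    exact isCyclic_of_squarefree hFsq
  · haveI hFn : Group.IsNilpotent (Cfsg.fittingSubgroup G) :=
      Cfsg.Agent.Cores.fittingSubgroup_isNilpotent
    set F := Cfsg.fittingSubgroup G with hF
    have hcz : commutator F ≤ Subgroup.center F := by
      let f : F →* G := F.subtype
      have hmap : ∀ w ∈ commutator F, (w : G) ∈ commutator G := fun w hw => by
        have h1 : (commutator F).map f ≤ commutator G := by
          rw [commutator_def, commutator_def, Subgroup.map_commutator]
          exact Subgroup.commutator_mono le_top le_top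
        exact h1 ⟨w, hw, rfl⟩
      haveI : IsCyclic (commutator F) := by
        haveI : IsCyclic ↥(commutator G ⊓ F) := Subgroup.isCyclic_of_le inf_le_left
        let g : commutator F →* ↥(commutator G ⊓ F) :=
          { toFun := fun w => ⟨((w : F) : G), hmap _ w.2, (w : F).2⟩
            map_one' := rfl
            map_mul' := fun _ _ => rfl }
        exact isCyclic_of_injective g fun a b hab =>
          Subtype.ext (Subtype.ext (by simpa [g] using congrArg Subtype.val hab))
      have hsqF : Squarefree (Nat.card (commutator F)) := by
        refine hc2.squarefree_of_dvd ?_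
        have h1 : (commutator F).map f ≤ commutator G := by
          rintro _ ⟨w, hw, rfl⟩
          exact hmap w hw
        rw [← Subgroup.card_map_of_injective F.subtype_injective]
        exact Subgroup.card_dvd_of_le h1
      -- every subgroup of prime order of `F'` is central
      have hE : commutator F = Subgroup.center F ⊓ commutator F := by
        by_contra hne
        have hlt : (Subgroup.center F ⊓ commutator F).relIndex (commutator F) ≠ 1 := fun e =>
          hne (le_antisymm (Subgroup.relIndex_eq_one.1 e) inf_le_right)
        obtain ⟨r, hr, hrd⟩ := Nat.exists_prime_and_dvd hlt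
        obtain ⟨P, hPn, hPle, hPc⟩ :=
          Cfsg.Agent.Hall.Supersolvable.exists_prime_normal_le (N := commutator F) hr
            (hrd.trans (Subgroup.index_dvd_card _))
        haveI := hPn
        have hP1 : P ≠ ⊥ := fun e => hr.ne_one (by rw [← hPc, e, Subgroup.card_bot])
        have h1 := Cfsg.Agent.Cores.inf_center_ne_bot hP1
        have h2 : Nat.card ↥(P ⊓ Subgroup.center F) ∣ r :=
          hPc ▸ Subgroup.card_dvd_of_le inf_le_left
        have h3 : Nat.card ↥(P ⊓ Subgroup.center F) = r :=
          (hr.eq_one_or_self_of_dvd _ h2).resolve_left fun e => h1 (Subgroup.eq_bot_of_card_eq _ e)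
        have h4 : r ∣ Nat.card ↥(Subgroup.center F ⊓ commutator F) :=
          h3 ▸ Subgroup.card_dvd_of_le (le_inf inf_le_right (inf_le_left.trans hPle))
        refine hr.not_isUnit (hsqF r ?_)
        rw [← Subgroup.relIndex_bot_left (commutator F),
          ← Subgroup.relIndex_mul_relIndex ⊥ (Subgroup.center F ⊓ commutator F) (commutator F)
            bot_le inf_le_right, Subgroup.relIndex_bot_left]
        exact mul_dvd_mul h4 hrd
      rw [hE]
      exact inf_le_left
    rw [eq_top_iff]
    intro x _
    rw [Subgroup.mem_upperCentralSeries_succ_iff]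
    intro y
    rw [Subgroup.upperCentralSeries_one]
    exact hcz (Subgroup.commutator_mem_commutator (Subgroup.mem_top x) (Subgroup.mem_top y))
  · rw [commutator_def (G := ↥(commutator G)), Subgroup.commutator_eq_bot_iff_le_centralizer]
    intro a _ b _
    exact mul_comm' _ _

end Cfsg.Agent.S4130
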