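import Cfsg.Statements.S4133
import Cfsg.Agent.ASolv.MaxTwoPart
import Cfsg.Agent.Lib.Perm.NonsolvableRegular

set_option autoImplicit false
open Cfsg

namespace Cfsg.Agent.S4133


open Cfsg.Agent.ASolv Cfsg.Agent.ASolv.OddComplement Cfsg.Agent.ASolv.MaxTwoPart

/-- A nonsolvable finite group has a perfect subgroup with a nonabelian simple image. -/
theorem exists_perfect_simple_image {C : Type*} [Group C] [Finite C] (h : ¬ Group.IsSolvable C) :
    ∃ (J : Subgroup C) (N : Subgroup J) (_ : N.Normal), ⁅J, J⁆ = J ∧ IsSimpleGroup (J ⧸ N) ∧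
      ¬ Group.IsSolvable (J ⧸ N) := by
  obtain ⟨L, -, hLnt, hLp⟩ := Perm.NearField.exists_perfect_normal h
  obtain ⟨N, -, hNmax⟩ := (Set.toFinite {N : Subgroup L | N.Normal ∧ N ≠ ⊤}).exists_le_maximal
    (show (⊥ : Subgroup L) ∈ {N : Subgroup L | N.Normal ∧ N ≠ ⊤} from ⟨inferInstance, bot_ne_top⟩)
  obtain ⟨hNn, hNt⟩ := hNmax.prop
  haveI := hNn
  have hLL : ⁅L, L⁆ = L := by
    rw [← Subgroup.map_subtype_commutator, hLp, ← MonoidHom.range_eq_map, Subgroup.range_subtype]
  haveI : Nontrivial (L ⧸ N) := QuotientGroup.nontrivial_iff.mpr hNt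
  have hsimple : IsSimpleGroup (L ⧸ N) := ⟨fun B hB => by
    by_contra hc
    push Not at hc
    have h1 : N ≤ B.comap (QuotientGroup.mk' N) :=
      (QuotientGroup.ker_mk' N).ge.trans (MonoidHom.ker_le_comap _ _)
    have h2 : B.comap (QuotientGroup.mk' N) ≠ ⊤ := fun e => hc.2 (by
      rw [← Subgroup.map_comap_eq_self_of_surjective (QuotientGroup.mk'_surjective N) B, e,
        Subgroup.map_top_of_surjective _ (QuotientGroup.mk'_surjective N)])
    have h3 := hNmax.le_of_ge ⟨Subgroup.Normal.comap hB _, h2⟩ h1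
    refine hc.1 ?_
    rw [← Subgroup.map_comap_eq_self_of_surjective (QuotientGroup.mk'_surjective N) B,
      le_antisymm h3 h1, QuotientGroup.map_mk'_self]⟩
  refine ⟨L, N, hNn, hLL, hsimple, fun hs => ?_⟩
  have h1 : (⊤ : Subgroup (L ⧸ N)) ≠ ⊥ := top_ne_bot
  have h2 : ⁅(⊤ : Subgroup (L ⧸ N)), (⊤ : Subgroup (L ⧸ N))⁆ = ⊤ := by
    have e := Subgroup.map_top_of_surjective (QuotientGroup.mk' N) (QuotientGroup.mk'_surjective N)
    have h3 := Subgroup.map_commutator (⊤ : Subgroup L) (⊤ : Subgroup L) (QuotientGroup.mk' N)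
    rw [← commutator_def, hLp, e] at h3
    exact h3.symm
  haveI : Group.IsSolvable (⊤ : Subgroup (L ⧸ N)) :=
    solvable_of_surjective (f := (Subgroup.topEquiv : (⊤ : Subgroup (L ⧸ N)) ≃* _).symm.toMonoidHom)
      Subgroup.topEquiv.symm.surjective
  exact (Coprime.commutator_lt_of_isSolvable ‹_› h1).ne h2

/-- A nonabelian simple group has a real element of odd prime order. -/
theorem exists_real_prime {T : Type*} [Group T] [Finite T] [IsSimpleGroup T]
    (h : ¬ Group.IsSolvable T) :
    ∃ (r : ℕ) (y s : T), r.Prime ∧ r ≠ 2 ∧ orderOf y = r ∧ s * y * s⁻¹ = y⁻¹ := by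
  haveI : Fact (Nat.Prime 2) := ⟨Nat.prime_two⟩
  obtain ⟨t, ht⟩ := exists_involution_of_even fun hodd => h (Cfsg.Agent.S0205.result hodd)
  obtain ⟨y, hy1, hyo, hty⟩ := Involutions.BaerSuzuki.exists_inverted_odd t ht fun N hN hN2 htN => by
    rcases IsSimpleGroup.eq_bot_or_eq_top_of_normal N hN with rfl | rfl
    · exact Involutions.Basic.ne_one ht (Subgroup.mem_bot.1 htN)
    · exact h (Coprime.isSolvable_of_isPGroup (hN2.of_equiv Subgroup.topEquiv))
  have hne : orderOf y ≠ 1 := fun e => hy1 (orderOf_eq_one_iff.1 e)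
  obtain ⟨r, hr, hrd⟩ := Nat.exists_prime_and_dvd hne
  refine ⟨r, y ^ (orderOf y / r), t, hr, ?_, ?_, ?_⟩
  · rintro rfl
    exact Nat.not_even_iff_odd.2 hyo (even_iff_two_dvd.2 hrd)
  · exact orderOf_pow_orderOf_div (orderOf_pos y).ne' hrd
  · rw [← conj_pow, hty, inv_pow]

/-- If two commuting elements have coprime orders, the centraliser of the product is the intersection. -/
theorem centralizer_mul {G : Type*} [Group G] [Finite G] {a b : G} (hab : Commute a b)
    (hcop : (orderOf a).Coprime (orderOf b)) :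
    Subgroup.centralizer ({a * b} : Set G) =
      Subgroup.centralizer ({a} : Set G) ⊓ Subgroup.centralizer ({b} : Set G) := by
  refine le_antisymm (fun c hc => ?_) fun c hc => ?_
  · have hc' : Commute c (a * b) := Subgroup.mem_centralizer_singleton_iff.1 hc
    have h1 : Commute c (a ^ orderOf b) := by
      have := hc'.pow_right (orderOf b)
      rwa [hab.mul_pow, pow_orderOf_eq_one, mul_one] at this
    obtain ⟨m, hm⟩ := exists_pow_eq_self_of_coprime hcop.symm
    have ha : Commute c a := by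
      have := h1.pow_right m
      rwa [hm] at this
    have hb : Commute c b := by
      have := ha.inv_right.mul_right hc'
      rwa [inv_mul_cancel_left] at this
    exact ⟨Subgroup.mem_centralizer_singleton_iff.2 ha.eq,
      Subgroup.mem_centralizer_singleton_iff.2 hb.eq⟩
  · exact Subgroup.mem_centralizer_singleton_iff.2
      ((show Commute c a from Subgroup.mem_centralizer_singleton_iff.1 hc.1).mul_right
        (show Commute c b from Subgroup.mem_centralizer_singleton_iff.1 hc.2)).eq

/-- Let G be a finite group all of whose Sylow subgroups are abelian, and let 2^a be the largest power of 2 dividing the size of any conjugacy class of G. If some element has a conjugacy class of size exactly 2^a, then G is solvable. -/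
theorem result {G : Type*} [Group G] [Finite G]
    (hA : ∀ (p : ℕ) [Fact p.Prime] (P : Sylow p G), IsMulCommutative (P : Subgroup G))
    (a : ℕ) (hmax : ∀ y : G, ¬ 2 ^ (a + 1) ∣ (Subgroup.centralizer ({y} : Set G)).index) (hx : ∃ x : G, (Subgroup.centralizer ({x} : Set G)).index = 2 ^ a) :
    Group.IsSolvable G := by
  haveI : Fact (Nat.Prime 2) := ⟨Nat.prime_two⟩
  obtain ⟨x, hxa⟩ := hx
  have hab : ∀ q : ℕ, [Fact q.Prime] → PAbelian q G := fun q _ => pAbelian_of_sylow (hA q)
  set C := Subgroup.centralizer ({x} : Set G) with hC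
  by_cases hCs : Group.IsSolvable C
  · obtain ⟨K, hK⟩ := Solvable.HallOrder.exists_complementSystem (G := C) 2 Nat.prime_two
    have hodd : Odd (Nat.card K) := by
      rw [← Nat.not_even_iff_odd, even_iff_two_dvd]
      intro hd
      have h1 := K.card_mul_index
      rw [hK] at h1
      have h2 := Nat.Prime.dvd_iff_one_le_factorization Nat.prime_two Nat.card_pos.ne' |>.1 hd
      have h3 := congrArg (fun n : ℕ => n.factorization 2) h1
      simp only [Nat.factorization_mul Nat.card_pos.ne' (pow_ne_zero _ two_ne_zero), Finsupp.add_apply,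
        Nat.prime_two.factorization_pow, Finsupp.single_eq_same] at h3
      omega
    refine isSolvable_of_odd_two_power_index (hab 2) (K.map C.subtype)
      (by rwa [Subgroup.card_map_of_injective C.subtype_injective])
      ⟨(Nat.card C).factorization 2 + a, ?_⟩
    rw [Subgroup.index_map_subtype, hK, hxa, pow_add]
  exfalso
  obtain ⟨J, N, hN, hJJ, hsimp, hns⟩ := exists_perfect_simple_image hCs
  obtain ⟨r, y, s, hr, hr2, hy, hs⟩ := exists_real_prime hns
  haveI := Fact.mk hr
  obtain ⟨k, m, A, B, hm, hkm, hxd⟩ := Fusion.Elementwise.exists_bezout (p := r) x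
  set x₁ := (x ^ r ^ k) ^ A with hx₁
  set x₂ := (x ^ m) ^ B with hx₂
  have hx₂r : x₂ ^ r ^ k = 1 := by
    rw [hx₂, ← zpow_natCast _ (r ^ k), ← zpow_mul, mul_comm, zpow_mul, zpow_natCast, ← pow_mul,
      mul_comm, ← hkm, pow_orderOf_eq_one, one_zpow]
  have hx₁m : orderOf x₁ ∣ m := by
    refine orderOf_dvd_of_pow_eq_one ?_
    rw [hx₁, ← zpow_natCast _ m, ← zpow_mul, mul_comm, zpow_mul, zpow_natCast, ← pow_mul, ← hkm,
      pow_orderOf_eq_one, one_zpow]
  have hcop : ∀ {w : G} {i : ℕ}, w ^ r ^ i = 1 → (orderOf x₁).Coprime (orderOf w) := fun hw =>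
    Nat.Coprime.coprime_dvd_right (orderOf_dvd_of_pow_eq_one hw)
      (Nat.Coprime.coprime_dvd_left hx₁m ((hr.coprime_iff_not_dvd.2 hm).symm.pow_right _))
  have h12 : Commute x₁ x₂ := ((Commute.refl x).pow_pow _ _).zpow_zpow _ _
  have hCe : C = Subgroup.centralizer ({x₁} : Set G) ⊓ Subgroup.centralizer ({x₂} : Set G) := by
    rw [hC, ← centralizer_mul h12 (hcop hx₂r), ← hxd]
  set G₁ := Subgroup.centralizer ({x₁} : Set G) with hG₁
  set xx : G₁ := ⟨x₂, Subgroup.mem_centralizer_singleton_iff.2 h12.eq.symm⟩ with hxx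
  have hmap : ∀ w : G₁, (Subgroup.centralizer ({w} : Set G₁)).map G₁.subtype =
      G₁ ⊓ Subgroup.centralizer ({(w : G)} : Set G) := by
    intro w
    ext g
    constructor
    · rintro ⟨c, hc, rfl⟩
      exact ⟨c.2, Subgroup.mem_centralizer_singleton_iff.2
        (congrArg Subtype.val (Subgroup.mem_centralizer_singleton_iff.1 hc) :)⟩
    · rintro ⟨hg, hg'⟩
      exact ⟨⟨g, hg⟩, Subgroup.mem_centralizer_singleton_iff.2
        (Subtype.ext (Subgroup.mem_centralizer_singleton_iff.1 hg')), rfl⟩
  have hCG : C ≤ G₁ := hCe ▸ inf_le_left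
  obtain ⟨c, -, hc⟩ : ∃ c ≤ a, (Subgroup.centralizer ({xx} : Set G₁)).index = 2 ^ c := by
    have h1 := Subgroup.index_map_subtype (Subgroup.centralizer ({xx} : Set G₁))
    rw [hmap, show G₁ ⊓ Subgroup.centralizer ({(xx : G)} : Set G) = C from hCe.symm, hxa] at h1
    exact (Nat.dvd_prime_pow Nat.prime_two).1 (Dvd.intro _ h1.symm)
  let ι : C →* G₁ := Subgroup.inclusion hCG
  set J' := J.map ι with hJ'
  have hιi : Function.Injective ι := Subgroup.inclusion_injective hCG
  let e : J ≃* J' := J.equivMapOfInjective ι hιi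
  haveI := hsimp
  obtain ⟨z, hxz, ⟨i, hzi⟩, hlt⟩ := core_step (G := G₁) (fun q _ => (hab q).subgroup G₁) hr2
    (b := k) (x := xx) (Subtype.ext (by simpa using hx₂r)) hc J'
    (by
      rintro _ ⟨j, -, rfl⟩
      refine Subgroup.mem_centralizer_singleton_iff.2 (Subtype.ext ?_)
      exact Subgroup.mem_centralizer_singleton_iff.1 (hCe ▸ j.2 :
        (j : G) ∈ G₁ ⊓ Subgroup.centralizer ({x₂} : Set G)).2)
    (by rw [hJ', ← Subgroup.map_commutator, hJJ])
    (f := (QuotientGroup.mk' N).comp e.symm.toMonoidHom)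
    ((QuotientGroup.mk'_surjective N).comp e.symm.surjective) hy hs
  set w : G := x₂ * (z : G) with hw
  have hwr : w ^ r ^ (k + i) = 1 := by
    have hzi' : (z : G) ^ r ^ i = 1 := by simpa using congrArg Subtype.val hzi
    have hc' : Commute x₂ (z : G) := congrArg Subtype.val hxz.eq
    rw [hw, hc'.mul_pow, pow_add, pow_mul, hx₂r, one_pow, mul_comm (r ^ k), pow_mul, hzi',
      one_pow, one_mul]
  have h1w : Commute x₁ w :=
    h12.mul_right (show Commute x₁ (z : G) from
      (Subgroup.mem_centralizer_singleton_iff.1 z.2).symm)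
  have hCy := centralizer_mul h1w (hcop hwr)
  have hlt' : v2 (Subgroup.centralizer ({x₁ * w} : Set G)) < v2 C := by
    have h1 : ∀ H : Subgroup G₁, v2 (H.map G₁.subtype) = v2 H := fun H => by
      simp only [v2, Subgroup.card_map_of_injective G₁.subtype_injective]
    rw [hCy, show Subgroup.centralizer ({w} : Set G) =
        Subgroup.centralizer ({((xx * z : G₁) : G)} : Set G) from rfl, ← hmap, h1, hCe,
      show Subgroup.centralizer ({x₂} : Set G) = Subgroup.centralizer ({(xx : G)} : Set G) from rfl,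
      ← hmap, h1]
    exact hlt
  refine hmax (x₁ * w) ?_
  set D := Subgroup.centralizer ({x₁ * w} : Set G) with hD
  have hiD : D.index ≠ 0 := Subgroup.index_ne_zero_of_finite
  rw [Nat.Prime.pow_dvd_iff_le_factorization Nat.prime_two hiD]
  have hsum : ∀ H : Subgroup G,
      (Nat.card G).factorization 2 = v2 H + H.index.factorization 2 := fun H => by
    rw [← H.card_mul_index, Nat.factorization_mul Nat.card_pos.ne' Subgroup.index_ne_zero_of_finite,
      Finsupp.add_apply]
    rfl
  have h1 := hsum D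
  have h2 := hsum C
  rw [hxa, Nat.prime_two.factorization_pow, Finsupp.single_eq_same] at h2
  omega

end Cfsg.Agent.S4133
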