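import Cfsg.Statements.S4139
-- import your own Cfsg.Agent.* helpers here

set_option autoImplicit false
open Cfsg

namespace Cfsg.Agent.S4139

variable {G H : Type*} [Group G] [Group H]

/-- class size as a centraliser index -/
theorem card_carrier_eq (x : G) :
    Nat.card (ConjClasses.mk x).carrier = (Subgroup.centralizer ({x} : Set G)).index := by
  rw [← ConjAct.orbit_eq_carrier_conjClasses,
    Nat.card_congr (MulAction.orbitEquivQuotientStabilizer (ConjAct G) x),
    ← Subgroup.index_eq_card]
  rw [Subgroup.centralizer_eq_comap_stabilizer]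
  exact (Subgroup.index_comap_of_surjective (H := MulAction.stabilizer (ConjAct G) x)
    (f := ConjAct.toConjAct.toMonoidHom) ConjAct.toConjAct.surjective).symm

theorem card_mul_relIndex_of_le {K L : Subgroup G} (h : K ≤ L) :
    Nat.card K * K.relIndex L = Nat.card L := by
  rw [← Nat.card_congr (Subgroup.subgroupOfEquivOfLe h).toEquiv]
  exact Subgroup.card_mul_index _

theorem card_sup_mul_card_inf_normal (R Z : Subgroup G) [Z.Normal] :
    Nat.card ↥(R ⊔ Z) * Nat.card ↥(R ⊓ Z) = Nat.card R * Nat.card Z := by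
  have h1 := card_mul_relIndex_of_le (K := Z) (L := Z ⊔ R) le_sup_left
  rw [Subgroup.relIndex_sup_left, sup_comm] at h1
  have h2 := card_mul_relIndex_of_le (K := R ⊓ Z) (L := R) inf_le_left
  rw [Subgroup.inf_relIndex_left] at h2
  rw [← h1, ← h2]; ring

theorem exists_mul_of_coprime_index [Finite G] (P C : Subgroup G)
    (h : Nat.Coprime P.index C.index) (g : G) : ∃ y ∈ P, ∃ k ∈ C, y * k = g := by
  have h1 : C.index ∣ C.relIndex P * P.index := by
    have := Subgroup.index_dvd_of_le (inf_le_right : P ⊓ C ≤ C)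
    rwa [← Subgroup.relIndex_mul_index (inf_le_left : P ⊓ C ≤ P), Subgroup.inf_relIndex_left] at this
  have h2 : C.index ≤ C.relIndex P :=
    Nat.le_of_dvd (Nat.pos_of_ne_zero Subgroup.index_ne_zero_of_finite) (h.symm.dvd_of_dvd_mul_right h1)
  let o : G ⧸ C := ((1 : G) : G ⧸ C)
  have hst : MulAction.stabilizer P o = C.subgroupOf P := by
    ext y
    rw [MulAction.mem_stabilizer_iff, Subgroup.mem_subgroupOf]
    show ((y.1 * 1 : G) : G ⧸ C) = ((1 : G) : G ⧸ C) ↔ _
    rw [QuotientGroup.eq]; simp
  have horb : Nat.card (MulAction.orbit P o) = C.relIndex P := by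
    rw [Nat.card_congr (MulAction.orbitEquivQuotientStabilizer P o), hst]
    rfl
  have huniv : MulAction.orbit P o = Set.univ :=
    Set.eq_univ_of_forall fun x => by
      by_contra hx
      have : Nat.card (MulAction.orbit P o) < Nat.card (G ⧸ C) :=
        Finite.card_subtype_lt hx
      rw [horb] at this
      change C.relIndex P < C.index at this
      omega
  obtain ⟨y, hy⟩ := huniv ▸ Set.mem_univ (g : G ⧸ C)
  refine ⟨y.1, y.2, y.1⁻¹ * g, ?_, by group⟩
  change ((y.1 * 1 : G) : G ⧸ C) = (g : G ⧸ C) at hy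
  rw [QuotientGroup.eq] at hy
  simpa using hy

/-- if class counts agree, there is a bijection preserving centraliser indices -/
theorem exists_index_equiv [Finite G] [Finite H]
    (h : ∀ k : ℕ, Nat.card {C : ConjClasses G // Nat.card C.carrier = k} =
      Nat.card {C : ConjClasses H // Nat.card C.carrier = k}) :
    ∃ e : G ≃ H, ∀ x, (Subgroup.centralizer ({e x} : Set H)).index =
      (Subgroup.centralizer ({x} : Set G)).index := by
  classical
  let f : G → ℕ := fun x => (Subgroup.centralizer ({x} : Set G)).index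
  let g : H → ℕ := fun x => (Subgroup.centralizer ({x} : Set H)).index
  have key : ∀ k, Nat.card {x : G // f x = k} = Nat.card {x : H // g x = k} := by
    intro k
    have hG : Nat.card {x : G // f x = k} =
        Nat.card {C : ConjClasses G // Nat.card C.carrier = k} * k := by
      let π : {x : G // f x = k} → {C : ConjClasses G // Nat.card C.carrier = k} :=
        fun x => ⟨ConjClasses.mk x.1, by rw [card_carrier_eq]; exact x.2⟩
      have e : ∀ C : {C : ConjClasses G // Nat.card C.carrier = k},
          {x : {x : G // f x = k} // π x = C} ≃ C.1.carrier := fun C =>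
        { toFun := fun x => ⟨x.1.1, ConjClasses.mem_carrier_iff_mk_eq.2 (congrArg Subtype.val x.2)⟩
          invFun := fun x => ⟨⟨x.1, by
            have hx := ConjClasses.mem_carrier_iff_mk_eq.1 x.2
            show f x.1 = k
            simp only [f]
            rw [← card_carrier_eq, hx]; exact C.2⟩,
            Subtype.ext (ConjClasses.mem_carrier_iff_mk_eq.1 x.2)⟩
          left_inv := fun x => rfl
          right_inv := fun x => rfl }
      have := Fintype.ofFinite {C : ConjClasses G // Nat.card C.carrier = k}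
      rw [← Nat.card_congr (Equiv.sigmaFiberEquiv π), Nat.card_sigma,
        Finset.sum_congr rfl (fun C _ => (Nat.card_congr (e C)).trans C.2)]
      rw [Finset.sum_const, Finset.card_univ, ← Nat.card_eq_fintype_card, smul_eq_mul]
    have hH : Nat.card {x : H // g x = k} =
        Nat.card {C : ConjClasses H // Nat.card C.carrier = k} * k := by
      let π : {x : H // g x = k} → {C : ConjClasses H // Nat.card C.carrier = k} :=
        fun x => ⟨ConjClasses.mk x.1, by rw [card_carrier_eq]; exact x.2⟩
      have e : ∀ C : {C : ConjClasses H // Nat.card C.carrier = k},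
          {x : {x : H // g x = k} // π x = C} ≃ C.1.carrier := fun C =>
        { toFun := fun x => ⟨x.1.1, ConjClasses.mem_carrier_iff_mk_eq.2 (congrArg Subtype.val x.2)⟩
          invFun := fun x => ⟨⟨x.1, by
            have hx := ConjClasses.mem_carrier_iff_mk_eq.1 x.2
            show g x.1 = k
            simp only [g]
            rw [← card_carrier_eq, hx]; exact C.2⟩,
            Subtype.ext (ConjClasses.mem_carrier_iff_mk_eq.1 x.2)⟩
          left_inv := fun x => rfl
          right_inv := fun x => rfl }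
      have := Fintype.ofFinite {C : ConjClasses H // Nat.card C.carrier = k}
      rw [← Nat.card_congr (Equiv.sigmaFiberEquiv π), Nat.card_sigma,
        Finset.sum_congr rfl (fun C _ => (Nat.card_congr (e C)).trans C.2)]
      rw [Finset.sum_const, Finset.card_univ, ← Nat.card_eq_fintype_card, smul_eq_mul]
    rw [hG, hH, h k]
  let E : ∀ k, {x : G // f x = k} ≃ {x : H // g x = k} := fun k =>
    (Finite.equivFin _).trans ((finCongr (key k)).trans (Finite.equivFin _).symm)
  refine ⟨Equiv.ofFiberEquiv E, fun x => ?_⟩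
  exact Equiv.ofFiberEquiv_map E x

/-- the elements whose class size is coprime to `q` -/
def coprimeIndexSet (q : ℕ) (G : Type*) [Group G] : Set G :=
  {x | ¬ q ∣ (Subgroup.centralizer ({x} : Set G)).index}

/-- the elements whose class size is a power of `p` -/
def primePowIndexSet (p : ℕ) (G : Type*) [Group G] : Set G :=
  {x | ∃ a, (Subgroup.centralizer ({x} : Set G)).index = p ^ a}

theorem center_le_centralizer_singleton (x : G) :
    Subgroup.center G ≤ Subgroup.centralizer ({x} : Set G) := fun z hz => by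
  rw [Subgroup.mem_centralizer_singleton_iff]
  exact ((Subgroup.mem_center_iff.1 hz) x).symm

theorem centralizer_mul_center (x z : G) (hz : z ∈ Subgroup.center G) :
    Subgroup.centralizer ({x * z} : Set G) = Subgroup.centralizer ({x} : Set G) := by
  ext g
  simp only [Subgroup.mem_centralizer_singleton_iff]
  have hg : g * z = z * g := Subgroup.mem_center_iff.1 hz g
  constructor
  · intro h
    have : g * x * z = x * g * z := by
      rw [mul_assoc g x z, h, mul_assoc, ← hg, ← mul_assoc]
    exact mul_right_cancel this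
  · intro h
    rw [← mul_assoc, h, mul_assoc, hg, ← mul_assoc]

/-- Count of `q`-coprime-index elements and the Sylow centres. -/
theorem center_sylow_le_center [Finite G] (q : ℕ) [hq : Fact q.Prime]
    (hcount : ∃ m, Nat.card ↥(coprimeIndexSet q G) = Nat.card (Subgroup.center G) * m ∧ ¬ q ∣ m)
    (Q : Sylow q G) (w : G) (hwQ : w ∈ (Q : Subgroup G))
    (hw : ∀ y ∈ (Q : Subgroup G), y * w = w * y) : w ∈ Subgroup.center G := by
  classical
  obtain ⟨m, hm, hqm⟩ := hcount
  set Z := Subgroup.center G with hZ
  set C := Subgroup.centralizer ((Q : Subgroup G) : Set G) with hC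
  have hCX : ∀ x ∈ C, x ∈ coprimeIndexSet q G := by
    intro x hx hd
    have hle : (Q : Subgroup G) ≤ Subgroup.centralizer ({x} : Set G) := fun y hy => by
      rw [Subgroup.mem_centralizer_singleton_iff]
      exact (Subgroup.mem_centralizer_iff.1 hx y hy)
    exact Q.not_dvd_index (hd.trans (Subgroup.index_dvd_of_le hle))
  -- the image of the set in the central quotient
  let π := QuotientGroup.mk' Z
  let S : Set (G ⧸ Z) := π '' coprimeIndexSet q G
  have hpre : π ⁻¹' S = coprimeIndexSet q G := by
    refine Set.Subset.antisymm ?_ (Set.subset_preimage_image _ _)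
    rintro x ⟨y, hy, hxy⟩
    have hz : y⁻¹ * x ∈ Z := QuotientGroup.eq.1 hxy
    have : y * (y⁻¹ * x) = x := by group
    show ¬ _
    rw [← this, centralizer_mul_center _ _ hz]
    exact hy
  have hcardpre : ∀ T : Set (G ⧸ Z), Nat.card ↥(π ⁻¹' T) = Nat.card Z * Nat.card T := by
    intro T
    exact (Nat.card_congr (QuotientGroup.preimageMkEquivSubgroupProdSet Z T)).trans (Nat.card_prod _ _)
  have hS : Nat.card S = m := by
    have := hcardpre S
    rw [hpre, hm] at this
    exact (Nat.eq_of_mul_eq_mul_left Nat.card_pos this).symm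
  -- `Q` acts on `S` by conjugation
  have hconjX : ∀ g x : G, x ∈ coprimeIndexSet q G → g * x * g⁻¹ ∈ coprimeIndexSet q G := by
    intro g x hx
    have : Nat.card (ConjClasses.mk (g * x * g⁻¹)).carrier = Nat.card (ConjClasses.mk x).carrier := by
      rw [ConjClasses.mk_eq_mk_iff_isConj.2 (isConj_iff.2 ⟨g⁻¹, by group⟩ : IsConj (g * x * g⁻¹) x)]
    rw [card_carrier_eq, card_carrier_eq] at this
    show ¬ _
    rw [this]
    exact hx
  let act : MulAction ↥(Q : Subgroup G) S :=
    { smul := fun g s => ⟨π g.1 * s.1 * (π g.1)⁻¹, by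
        obtain ⟨x, hx, hxs⟩ := s.2
        exact ⟨g.1 * x * g.1⁻¹, hconjX _ _ hx, by rw [← hxs]; simp⟩⟩
      one_smul := fun s => Subtype.ext (show π ((1 : ↥(Q : Subgroup G)) : G) * s.1 * _ = s.1 by simp)
      mul_smul := fun g h s => Subtype.ext (by
        show π ((g * h : ↥(Q : Subgroup G)) : G) * s.1 * _ = π g.1 * (π h.1 * s.1 * (π h.1)⁻¹) * _
        simp [mul_assoc]) }
  have hmod := Q.2.card_modEq_card_fixedPoints (α := S)
  -- fixed points come from the centraliser of `Q`
  have hfix : Nat.card (MulAction.fixedPoints ↥(Q : Subgroup G) S) = Nat.card (C.map π) := by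
    refine Nat.card_congr
      { toFun := fun s => ⟨s.1.1, ?_⟩
        invFun := fun c => ⟨⟨c.1, ?_⟩, ?_⟩
        left_inv := fun _ => rfl
        right_inv := fun _ => rfl }
    · obtain ⟨x, hx, hxs⟩ := s.1.2
      refine ⟨x, ?_, hxs⟩
      -- `x` commutes with `Q`
      set D : Subgroup G := (Subgroup.centralizer ({π x} : Set (G ⧸ Z))).comap π with hD
      have hQD : (Q : Subgroup G) ≤ D := by
        intro g hg
        rw [hD, Subgroup.mem_comap, Subgroup.mem_centralizer_singleton_iff]
        have := congrArg Subtype.val (s.2 ⟨g, hg⟩)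
        change π g * s.1.1 * (π g)⁻¹ = s.1.1 at this
        rw [← hxs] at this
        exact mul_inv_eq_iff_eq_mul.1 this
      have hcomm : ∀ g : D, x⁻¹ * g.1 * x * g.1⁻¹ ∈ Z := by
        intro g
        have hg : π g.1 ∈ Subgroup.centralizer ({π x} : Set (G ⧸ Z)) := g.2
        rw [Subgroup.mem_centralizer_singleton_iff] at hg
        apply (QuotientGroup.eq_one_iff _).1
        show π (x⁻¹ * g.1 * x * g.1⁻¹) = 1
        simp only [map_mul, map_inv]
        rw [mul_assoc (π x)⁻¹, hg]; group
      let φ : D →* G :=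
        { toFun := fun g => x⁻¹ * g.1 * x * g.1⁻¹
          map_one' := by simp
          map_mul' := fun g h => by
            have hc : ∀ y, y * (x⁻¹ * h.1 * x * h.1⁻¹) = (x⁻¹ * h.1 * x * h.1⁻¹) * y :=
              fun y => Subgroup.mem_center_iff.1 (hcomm h) y
            have e : x⁻¹ * (g * h : D).1 * x * ((g * h : D).1)⁻¹ =
                x⁻¹ * g.1 * x * (x⁻¹ * h.1 * x * h.1⁻¹) * g.1⁻¹ := by
              simp [mul_assoc]
            rw [e, mul_assoc (x⁻¹ * g.1 * x), ← hc g.1⁻¹]
            group }
      have hker : φ.ker = (Subgroup.centralizer ({x} : Set G)).subgroupOf D := by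
        ext g
        rw [MonoidHom.mem_ker, Subgroup.mem_subgroupOf, Subgroup.mem_centralizer_singleton_iff]
        show x⁻¹ * g.1 * x * g.1⁻¹ = 1 ↔ _
        rw [mul_inv_eq_one, mul_assoc, inv_mul_eq_iff_eq_mul]
      have hrange : ¬ q ∣ Nat.card φ.range := by
        rw [← Subgroup.index_ker, hker]
        show ¬ q ∣ (Subgroup.centralizer ({x} : Set G)).relIndex D
        intro hd
        have hle : Subgroup.centralizer ({x} : Set G) ≤ D := fun g hg => by
          rw [Subgroup.mem_centralizer_singleton_iff] at hg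
          rw [hD, Subgroup.mem_comap, Subgroup.mem_centralizer_singleton_iff]
          simp only [← map_mul, hg]
        exact hx (hd.trans ((Subgroup.relIndex_dvd_index_of_le hle)))
      refine Subgroup.mem_centralizer_iff.2 fun g hg => ?_
      have h1 : IsPGroup q ↥(((Q : Subgroup G).subgroupOf D).map φ) :=
        (Q.2.of_equiv (Subgroup.subgroupOfEquivOfLe hQD).symm).map φ
      have h2 : ((Q : Subgroup G).subgroupOf D).map φ = ⊥ := by
        apply Subgroup.eq_bot_of_card_eq
        obtain ⟨k, hk⟩ := h1.exists_card_eq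
        rcases Nat.eq_zero_or_pos k with rfl | hk0
        · simpa using hk
        · exfalso
          exact hrange ((dvd_pow_self q hk0.ne').trans
            (hk ▸ Subgroup.card_dvd_of_le (Subgroup.map_le_range φ _)))
      have h3 : φ ⟨g, hQD hg⟩ ∈ ((Q : Subgroup G).subgroupOf D).map φ :=
        Subgroup.mem_map_of_mem φ (Subgroup.mem_subgroupOf.2 hg)
      rw [h2, Subgroup.mem_bot] at h3
      change x⁻¹ * g * x * g⁻¹ = 1 at h3
      rw [mul_inv_eq_one, mul_assoc, inv_mul_eq_iff_eq_mul] at h3
      exact h3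
    · obtain ⟨x, hx, hxc⟩ := c.2
      exact ⟨x, hCX x hx, hxc⟩
    · intro g
      refine Subtype.ext ?_
      obtain ⟨x, hx, hxc⟩ := c.2
      show π g.1 * c.1 * (π g.1)⁻¹ = c.1
      rw [← hxc, mul_inv_eq_iff_eq_mul, ← map_mul, ← map_mul]
      exact congrArg π (Subgroup.mem_centralizer_iff.1 hx g.1 g.2)
  rw [hS, hfix] at hmod
  have hqC : ¬ q ∣ Nat.card (C.map π) := fun hd =>
    hqm (Nat.modEq_zero_iff_dvd.1 (hmod.trans (Nat.modEq_zero_iff_dvd.2 hd)))
  -- `w` maps to a `q`-element of that group
  have hwC : w ∈ C := Subgroup.mem_centralizer_iff.2 hw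
  obtain ⟨k, hk⟩ := Q.2 ⟨w, hwQ⟩
  have hk' : (π w) ^ q ^ k = 1 := by
    rw [← map_pow]
    have := congrArg Subtype.val hk
    simp only [SubmonoidClass.coe_pow, OneMemClass.coe_one] at this
    rw [this, map_one]
  have hcard : (π w) ^ Nat.card (C.map π) = 1 := by
    have h := pow_card_eq_one' (x := (⟨π w, Subgroup.mem_map_of_mem π hwC⟩ : C.map π))
    simpa using congrArg Subtype.val h
  have hone : π w = 1 := by
    have hg := pow_gcd_eq_one.2 ⟨hk', hcard⟩
    have : Nat.gcd (q ^ k) (Nat.card (C.map π)) = 1 :=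
      ((hq.out.coprime_iff_not_dvd.2 hqC).pow_left k)
    rwa [this, pow_one] at hg
  exact (QuotientGroup.eq_one_iff w).1 hone

/-- centres of Sylow subgroups central + enough elements of prime power index -/
theorem sylow_normal_of_count [Finite G] (p : ℕ) [hp : Fact p.Prime]
    (hcen : ∀ q : ℕ, ∀ [Fact q.Prime], ∀ (Q : Sylow q G) (w : G), w ∈ (Q : Subgroup G) →
      (∀ y ∈ (Q : Subgroup G), y * w = w * y) → w ∈ Subgroup.center G)
    (hcount : (Nat.card (Subgroup.center G)) * p ^ (Nat.card G).factorization p ≤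
      Nat.card ↥(primePowIndexSet p G) * p ^ (Nat.card (Subgroup.center G)).factorization p)
    (P : Sylow p G) : (P : Subgroup G).Normal := by
  classical
  set Z := Subgroup.center G with hZ
  set R := (P : Subgroup G).normalCore with hR
  have hsub : primePowIndexSet p G ⊆ ↑(R ⊔ Z) := by
    rintro x ⟨a, ha⟩
    -- powers of `x` of order prime to `p` are central
    have hprime : ∀ q : ℕ, q.Prime → q ≠ p → q ∣ orderOf (QuotientGroup.mk' Z x) → False := by
      intro q hq hqp hdvd
      have : Fact q.Prime := ⟨hq⟩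
      obtain ⟨b, r, hr, hbr⟩ := Nat.exists_eq_pow_mul_and_not_dvd (orderOf_pos x).ne' q hq.ne_one
      set w := x ^ r with hw
      have hCle : Subgroup.centralizer ({x} : Set G) ≤ Subgroup.centralizer ({w} : Set G) := by
        intro g hg
        rw [Subgroup.mem_centralizer_singleton_iff] at hg ⊢
        exact ((Commute.pow_right (show Commute g x from hg) r)).eq
      obtain ⟨Q₀⟩ : Nonempty (Sylow q ↥(Subgroup.centralizer ({w} : Set G))) := inferInstance
      have hqidx : ¬ q ∣ (Subgroup.centralizer ({w} : Set G)).index := fun hd =>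
        hqp ((Nat.prime_dvd_prime_iff_eq hq hp.out).1
          (hq.dvd_of_dvd_pow (ha ▸ hd.trans (Subgroup.index_dvd_of_le hCle))))
      have hwo : IsPGroup q ↥(Subgroup.zpowers w) := by
        refine IsPGroup.of_card (n := b) ?_
        rw [Nat.card_zpowers, hw, orderOf_pow_of_dvd]
        · rw [hbr]
          exact Nat.mul_div_cancel _ (Nat.pos_of_ne_zero fun h0 => hr (h0 ▸ dvd_zero q))
        · exact fun h0 => hr (h0 ▸ dvd_zero q)
        · exact hbr ▸ dvd_mul_left r _
      set QG := (Q₀ : Subgroup _).map (Subgroup.centralizer ({w} : Set G)).subtype with hQG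
      have hQidx : ¬ q ∣ QG.index := by
        rw [hQG, Subgroup.index_map_subtype]
        exact hq.not_dvd_mul Q₀.not_dvd_index hqidx
      have hQp : IsPGroup q ↥QG := Q₀.2.map _
      let Q : Sylow q G := hQp.toSylow hQidx
      have hcomm : ∀ y ∈ QG, y * w = w * y := by
        rintro _ ⟨y, -, rfl⟩
        exact Subgroup.mem_centralizer_singleton_iff.1 y.2
      have hwQ : w ∈ QG := by
        have hle : Subgroup.zpowers w ≤ Subgroup.normalizer (QG : Set G) := by
          rw [Subgroup.zpowers_le]
          exact Subgroup.mem_normalizer_iff.2 fun y => by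
            constructor
            · intro hy
              rwa [← hcomm y hy, mul_inv_cancel_right]
            · intro hy
              have := hcomm _ hy
              rw [inv_mul_cancel_right] at this
              have e : w * y * w⁻¹ = y := by
                have h2 : w * y = w * (w * y * w⁻¹) := this
                exact (mul_left_cancel h2).symm
              rwa [e] at hy
        have hQ2 : IsPGroup q ↥(QG ⊔ Subgroup.zpowers w) :=
          hQp.to_sup_of_normal_left' hwo hle
        have h3 : QG ⊔ Subgroup.zpowers w = QG := Q.3 hQ2 le_sup_left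
        exact h3 ▸ (le_sup_right : Subgroup.zpowers w ≤ QG ⊔ _) (Subgroup.mem_zpowers w)
      have hwZ : w ∈ Z := hcen q Q w hwQ hcomm
      have h1 : orderOf (QuotientGroup.mk' Z x) ∣ r := by
        apply orderOf_dvd_of_pow_eq_one
        rw [← map_pow]
        exact (QuotientGroup.eq_one_iff _).2 hwZ
      exact hr (hdvd.trans h1)
    -- hence `x = u z`
    obtain ⟨c, m', hm', hcm⟩ := Nat.exists_eq_pow_mul_and_not_dvd (orderOf_pos x).ne' p hp.out.ne_one
    have hdiv : orderOf (QuotientGroup.mk' Z x) ∣ p ^ c := by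
      have h1 : orderOf (QuotientGroup.mk' Z x) ∣ p ^ c * m' :=
        hcm ▸ orderOf_map_dvd (QuotientGroup.mk' Z) x
      refine Nat.Coprime.dvd_of_dvd_mul_right ?_ h1
      refine Nat.coprime_of_dvd fun q hq hd hdm => ?_
      exact hprime q hq (fun e => hm' (e ▸ hdm)) hd
    have hxpow : x ^ p ^ c ∈ Z := by
      refine (QuotientGroup.eq_one_iff _).1 ?_
      show QuotientGroup.mk' Z (x ^ p ^ c) = 1
      rw [map_pow]
      exact orderOf_dvd_iff_pow_eq_one.1 hdiv
    obtain ⟨s, t, hst⟩ : ∃ s t : ℤ, (p : ℤ) ^ c * s + (m' : ℤ) * t = 1 := by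
      have hcop : Nat.Coprime (p ^ c) m' := (hp.out.coprime_iff_not_dvd.2 hm').pow_left c
      refine ⟨Nat.gcdA (p ^ c) m', Nat.gcdB (p ^ c) m', ?_⟩
      have := Nat.gcd_eq_gcd_ab (p ^ c) m'
      rw [hcop] at this
      push_cast at this
      linarith
    set u := (x ^ m') ^ t with hu
    set z := (x ^ (p ^ c)) ^ s with hz
    have hxuz : x = z * u := by
      rw [hz, hu, ← zpow_natCast, ← zpow_mul, ← zpow_natCast x m', ← zpow_mul, ← zpow_add]
      push_cast
      rw [hst, zpow_one]
    have hzZ : z ∈ Z := Z.zpow_mem hxpow s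
    suffices huR : u ∈ R by
      rw [hxuz]
      exact (R ⊔ Z).mul_mem (Subgroup.mem_sup_right hzZ) (Subgroup.mem_sup_left huR)
    have hupow : u ^ p ^ c = 1 := by
      have : x ^ (p ^ c * m') = 1 := hcm ▸ pow_orderOf_eq_one x
      rw [hu, ← zpow_natCast, ← zpow_mul, mul_comm, zpow_mul, zpow_natCast, ← pow_mul, mul_comm,
        this, one_zpow]
    have huP : IsPGroup p ↥(Subgroup.zpowers u) := by
      obtain ⟨i, -, hi⟩ := (Nat.dvd_prime_pow hp.out).1 (orderOf_dvd_of_pow_eq_one hupow)
      exact IsPGroup.of_card (n := i) (by rw [Nat.card_zpowers, hi])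
    obtain ⟨P₀, hP₀⟩ := huP.exists_le_sylow
    have hu0 : u ∈ (P₀ : Subgroup G) := hP₀ (Subgroup.mem_zpowers u)
    have hCle : Subgroup.centralizer ({x} : Set G) ≤ Subgroup.centralizer ({u} : Set G) := by
      intro g hg
      rw [Subgroup.mem_centralizer_singleton_iff] at hg ⊢
      exact ((Commute.pow_right (show Commute g x from hg) m').zpow_right t).eq
    obtain ⟨i, -, hi⟩ := (Nat.dvd_prime_pow hp.out).1 (ha ▸ Subgroup.index_dvd_of_le hCle)
    have hcop : Nat.Coprime (P₀ : Subgroup G).index (Subgroup.centralizer ({u} : Set G)).index := by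
      rw [hi]
      exact ((hp.out.coprime_iff_not_dvd.2 P₀.not_dvd_index).pow_left i).symm
    have hall : ∀ g : G, g * u * g⁻¹ ∈ (P₀ : Subgroup G) := by
      intro g
      obtain ⟨y, hy, k, hk, hyk⟩ := exists_mul_of_coprime_index _ _ hcop g
      rw [← hyk]
      have : k * u = u * k := Subgroup.mem_centralizer_singleton_iff.1 hk
      have e : y * k * u * (y * k)⁻¹ = y * u * y⁻¹ := by
        rw [mul_assoc y k u, this]; group
      rw [e]
      exact (P₀ : Subgroup G).mul_mem ((P₀ : Subgroup G).mul_mem hy hu0) ((P₀ : Subgroup G).inv_mem hy)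
    obtain ⟨g₀, hg₀⟩ := MulAction.exists_smul_eq G P₀ P
    intro g
    have h1 := hall (g₀⁻¹ * g)
    rw [← hg₀, Sylow.coe_subgroup_smul, Subgroup.mem_pointwise_smul_iff_inv_smul_mem]
    simpa [MulAut.smul_def, mul_assoc] using h1
  have hRp : IsPGroup p ↥R := P.2.to_le (P : Subgroup G).normalCore_le
  have hle1 : Nat.card ↥(primePowIndexSet p G) ≤ Nat.card ↥(R ⊔ Z) :=
    Nat.card_mono (Set.toFinite _) hsub
  obtain ⟨r, hr⟩ := hRp.exists_card_eq
  -- the `p`-part of the centre lies in `R`
  have hZp : Nat.card ↥(R ⊔ Z) * p ^ (Nat.card Z).factorization p ≤ Nat.card R * Nat.card Z := by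
    obtain ⟨Z₁⟩ : Nonempty (Sylow p Z) := inferInstance
    set Zp := (Z₁ : Subgroup Z).map Z.subtype with hZp
    have hZpn : Zp.Normal := ⟨fun y hy g => by
      have hyZ : y ∈ Z := Subgroup.map_subtype_le _ hy
      rwa [Subgroup.mem_center_iff.1 hyZ g, mul_inv_cancel_right]⟩
    have hZpR : Zp ≤ R ⊓ Z := by
      refine le_inf ?_ (Subgroup.map_subtype_le _)
      rw [hR, Subgroup.normal_le_normalCore]
      obtain ⟨P₁, hP₁⟩ := (Z₁.2.map Z.subtype).exists_le_sylow
      obtain ⟨g₀, hg₀⟩ := MulAction.exists_smul_eq G P₁ P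
      intro y hy
      rw [← hg₀, Sylow.coe_subgroup_smul, Subgroup.mem_pointwise_smul_iff_inv_smul_mem]
      apply hP₁
      show _ ∈ Zp
      have := hZpn.conj_mem y hy g₀⁻¹
      simpa [MulAut.smul_def] using this
    have h1 : p ^ (Nat.card Z).factorization p ≤ Nat.card ↥(R ⊓ Z) := by
      rw [← Z₁.card_eq_multiplicity, Nat.card_congr (Subgroup.equivMapOfInjective (Z₁ : Subgroup Z) Z.subtype Z.subtype_injective).toEquiv]
      exact Nat.le_of_dvd Nat.card_pos (Subgroup.card_dvd_of_le hZpR)
    calc Nat.card ↥(R ⊔ Z) * p ^ (Nat.card Z).factorization p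
        ≤ Nat.card ↥(R ⊔ Z) * Nat.card ↥(R ⊓ Z) := Nat.mul_le_mul_left _ h1
      _ = Nat.card R * Nat.card Z := by
          have : Z.Normal := inferInstance
          exact card_sup_mul_card_inf_normal _ _
  have hR2 : p ^ (Nat.card G).factorization p ≤ Nat.card R := by
    have h2 := hcount.trans ((Nat.mul_le_mul_right _ hle1).trans hZp)
    rw [mul_comm (Nat.card Z)] at h2
    exact Nat.le_of_mul_le_mul_right h2 Nat.card_pos
  rw [← P.card_eq_multiplicity] at hR2
  have : R = (P : Subgroup G) :=
    Subgroup.eq_of_le_of_card_ge (P : Subgroup G).normalCore_le hR2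
  exact this ▸ (P : Subgroup G).normalCore_normal

theorem nilpotent_coprime_count [Finite G] (hG : Group.IsNilpotent G) (q : ℕ) [hq : Fact q.Prime] :
    ∃ m, Nat.card ↥(coprimeIndexSet q G) = Nat.card (Subgroup.center G) * m ∧ ¬ q ∣ m := by
  classical
  obtain ⟨Q⟩ : Nonempty (Sylow q G) := inferInstance
  have hn : ∀ (r : ℕ) (_ : Fact r.Prime) (R : Sylow r G), (R : Subgroup G).Normal :=
    ((Group.isNilpotent_of_finite_tfae (G := G)).out 0 3 rfl rfl).1 hG
  have hQn := hn q hq Q
  set C := Subgroup.centralizer ((Q : Subgroup G) : Set G) with hC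
  have hX : coprimeIndexSet q G = ↑C := by
    ext x
    constructor
    · intro hx
      obtain ⟨Q₁⟩ : Nonempty (Sylow q ↥(Subgroup.centralizer ({x} : Set G))) := inferInstance
      have hQp := Q₁.2.map (Subgroup.centralizer ({x} : Set G)).subtype
      have hidx : ¬ q ∣ ((Q₁ : Subgroup _).map (Subgroup.centralizer ({x} : Set G)).subtype).index := by
        rw [Subgroup.index_map_subtype]
        exact hq.out.not_dvd_mul Q₁.not_dvd_index hx
      haveI := Sylow.unique_of_normal Q hQn
      have he : hQp.toSylow hidx = Q := Subsingleton.elim _ _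
      refine Subgroup.mem_centralizer_iff.2 fun y hy => ?_
      rw [← he] at hy
      obtain ⟨y', -, rfl⟩ := hy
      exact Subgroup.mem_centralizer_singleton_iff.1 y'.2
    · intro hx hd
      have hle : (Q : Subgroup G) ≤ Subgroup.centralizer ({x} : Set G) := fun y hy => by
        rw [Subgroup.mem_centralizer_singleton_iff]
        exact (Subgroup.mem_centralizer_iff.1 hx y hy)
      exact Q.not_dvd_index (hd.trans (Subgroup.index_dvd_of_le hle))
  have hZC : Subgroup.center G ≤ C := Subgroup.center_le_centralizer _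
  refine ⟨(Subgroup.center G).relIndex C, ?_, ?_⟩
  · rw [hX]
    exact (card_mul_relIndex_of_le hZC).symm
  · intro hd
    obtain ⟨y, hy⟩ := exists_prime_orderOf_dvd_card' (G := ↥C ⧸ (Subgroup.center G).subgroupOf C) q hd
    obtain ⟨y₀, rfl⟩ := QuotientGroup.mk_surjective y
    obtain ⟨b, r, hr, hbr⟩ := Nat.exists_eq_pow_mul_and_not_dvd (orderOf_pos y₀.1).ne' q hq.out.ne_one
    have hwq : (y₀.1 ^ r) ^ q ^ b = 1 := by
      rw [← pow_mul, mul_comm, ← hbr, pow_orderOf_eq_one]
    have hwQ : y₀.1 ^ r ∈ (Q : Subgroup G) := by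
      obtain ⟨i, -, hi⟩ := (Nat.dvd_prime_pow hq.out).1 (orderOf_dvd_of_pow_eq_one hwq)
      obtain ⟨Q', hQ'⟩ := (IsPGroup.of_card (n := i)
        (by rw [Nat.card_zpowers, hi]) : IsPGroup q ↥(Subgroup.zpowers (y₀.1 ^ r))).exists_le_sylow
      haveI := Sylow.unique_of_normal Q hQn
      rw [← Subsingleton.elim Q' Q]
      exact hQ' (Subgroup.mem_zpowers _)
    have hwC : y₀.1 ^ r ∈ C := C.pow_mem y₀.2 r
    -- central: commutes with every Sylow subgroup
    have hwZ : y₀.1 ^ r ∈ Subgroup.center G := by
      refine Subgroup.mem_center_iff.2 fun g => ?_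
      suffices ⊤ ≤ Subgroup.centralizer ({y₀.1 ^ r} : Set G) from
        Subgroup.mem_centralizer_singleton_iff.1 (this (Subgroup.mem_top g))
      refine le_of_eq (Subgroup.index_eq_one.1 ?_).symm
      by_contra hne
      obtain ⟨r', hr', hdvd⟩ := Nat.exists_prime_and_dvd hne
      haveI : Fact r'.Prime := ⟨hr'⟩
      obtain ⟨R⟩ : Nonempty (Sylow r' G) := inferInstance
      have hle : (R : Subgroup G) ≤ Subgroup.centralizer ({y₀.1 ^ r} : Set G) := by
        intro g hg
        rw [Subgroup.mem_centralizer_singleton_iff]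
        by_cases hrq : r' = q
        · subst hrq
          haveI := Sylow.unique_of_normal Q hQn
          rw [Subsingleton.elim R Q] at hg
          exact Subgroup.mem_centralizer_iff.1 hwC g hg
        · exact (Subgroup.commute_of_normal_of_disjoint _ _ (hn r' inferInstance R) hQn
            (IsPGroup.disjoint_of_ne r' q hrq _ _ R.2 Q.2) g _ hg hwQ)
      exact R.not_dvd_index (hdvd.trans (Subgroup.index_dvd_of_le hle))
    have h1 : orderOf ((y₀ : ↥C ⧸ (Subgroup.center G).subgroupOf C)) ∣ r := by
      apply orderOf_dvd_of_pow_eq_one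
      rw [← QuotientGroup.mk_pow]
      exact (QuotientGroup.eq_one_iff _).2 (Subgroup.mem_subgroupOf.2 (by simpa using hwZ))
    rw [hy] at h1
    exact hr h1

theorem nilpotent_primePow_count [Finite G] (hG : Group.IsNilpotent G) (p : ℕ) [hp : Fact p.Prime] :
    (Nat.card (Subgroup.center G)) * p ^ (Nat.card G).factorization p ≤
      Nat.card ↥(primePowIndexSet p G) * p ^ (Nat.card (Subgroup.center G)).factorization p := by
  classical
  obtain ⟨P⟩ : Nonempty (Sylow p G) := inferInstance
  have hn : ∀ (r : ℕ) (_ : Fact r.Prime) (R : Sylow r G), (R : Subgroup G).Normal :=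
    ((Group.isNilpotent_of_finite_tfae (G := G)).out 0 3 rfl rfl).1 hG
  set Z := Subgroup.center G with hZ
  have hsub : (↑((P : Subgroup G) ⊔ Z) : Set G) ⊆ primePowIndexSet p G := by
    intro x hx
    suffices ∀ r : ℕ, r.Prime → r ∣ (Subgroup.centralizer ({x} : Set G)).index → r = p from
      ⟨_, Nat.eq_prime_pow_of_unique_prime_dvd Subgroup.index_ne_zero_of_finite
        (fun {d} hd hdd => this d hd hdd)⟩
    intro r hr hdvd
    by_contra hrp
    haveI : Fact r.Prime := ⟨hr⟩
    obtain ⟨R⟩ : Nonempty (Sylow r G) := inferInstance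
    have hle : (R : Subgroup G) ≤ Subgroup.centralizer ({x} : Set G) := by
      intro g hg
      rw [Subgroup.mem_centralizer_singleton_iff]
      have hle2 : (P : Subgroup G) ⊔ Z ≤ Subgroup.centralizer ({g} : Set G) := by
        refine sup_le (fun y hy => ?_) (center_le_centralizer_singleton g)
        rw [Subgroup.mem_centralizer_singleton_iff]
        exact (Subgroup.commute_of_normal_of_disjoint _ _ (hn p hp P) (hn r inferInstance R)
            (IsPGroup.disjoint_of_ne p r (fun e => hrp e.symm) _ _ P.2 R.2) y g hy hg)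
      exact (Subgroup.mem_centralizer_singleton_iff.1 (hle2 hx)).symm
    exact R.not_dvd_index (hdvd.trans (Subgroup.index_dvd_of_le hle))
  have h2 : Nat.card ↥((P : Subgroup G) ⊔ Z) ≤ Nat.card ↥(primePowIndexSet p G) :=
    Nat.card_mono (Set.toFinite _) hsub
  refine le_trans ?_ (Nat.mul_le_mul_right _ h2)
  have h3 : Nat.card ↥((P : Subgroup G) ⊓ Z) ≤ p ^ (Nat.card Z).factorization p := by
    obtain ⟨i, hi⟩ := (P.2.to_inf_left (K := Z)).exists_card_eq
    rw [hi]
    refine Nat.pow_le_pow_right hp.out.pos ?_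
    exact (Nat.Prime.pow_dvd_iff_le_factorization hp.out Nat.card_pos.ne').1
      (hi ▸ Subgroup.card_dvd_of_le inf_le_right)
  calc Nat.card Z * p ^ (Nat.card G).factorization p
      = Nat.card (P : Subgroup G) * Nat.card Z := by rw [P.card_eq_multiplicity, mul_comm]
    _ = Nat.card ↥((P : Subgroup G) ⊔ Z) * Nat.card ↥((P : Subgroup G) ⊓ Z) :=
        (card_sup_mul_card_inf_normal _ _).symm
    _ ≤ _ := Nat.mul_le_mul_left _ h3


/-- Let G and H be finite groups such that for every natural number k, G and H have the same number of conjugacy classes of size k. If H is nilpotent then G is nilpotent. -/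
theorem result {G H : Type*} [Group G] [Finite G] [Group H] [Finite H]
    (hH : Group.IsNilpotent H)
    (h : ∀ k : ℕ, Nat.card {C : ConjClasses G // Nat.card C.carrier = k} = Nat.card {C : ConjClasses H // Nat.card C.carrier = k}) :
    Group.IsNilpotent G := by
  classical
  obtain ⟨e, he⟩ := exists_index_equiv h
  have hGH : Nat.card G = Nat.card H := Nat.card_congr e
  have hset : ∀ P : ℕ → Prop, Nat.card {x : G // P (Subgroup.centralizer ({x} : Set G)).index} =
      Nat.card {y : H // P (Subgroup.centralizer ({y} : Set H)).index} := fun P =>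
    Nat.card_congr (e.subtypeEquiv fun x => by rw [he])
  have hZ : Nat.card (Subgroup.center G) = Nat.card (Subgroup.center H) := by
    refine Nat.card_congr (e.subtypeEquiv fun x => ?_)
    rw [Subgroup.mem_center_iff, Subgroup.mem_center_iff]
    have hx := he x
    constructor <;> intro hc
    · have : (Subgroup.centralizer ({x} : Set G)).index = 1 := by
        rw [Subgroup.index_eq_one, eq_top_iff]
        exact fun g _ => Subgroup.mem_centralizer_singleton_iff.2 (hc g)
      rw [← hx, Subgroup.index_eq_one] at this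
      exact fun g => Subgroup.mem_centralizer_singleton_iff.1 (this ▸ Subgroup.mem_top g)
    · have : (Subgroup.centralizer ({e x} : Set H)).index = 1 := by
        rw [Subgroup.index_eq_one, eq_top_iff]
        exact fun g _ => Subgroup.mem_centralizer_singleton_iff.2 (hc g)
      rw [hx, Subgroup.index_eq_one] at this
      exact fun g => Subgroup.mem_centralizer_singleton_iff.1 (this ▸ Subgroup.mem_top g)
  refine ((Group.isNilpotent_of_finite_tfae (G := G)).out 0 3 rfl rfl).2 fun p hp P => ?_
  refine sylow_normal_of_count p (fun q _ Q w => ?_) ?_ P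
  · refine center_sylow_le_center q ?_ Q w
    obtain ⟨m, hm, hq⟩ := nilpotent_coprime_count hH q
    exact ⟨m, by rw [hZ, ← hm]; exact hset (fun k => ¬ q ∣ k), hq⟩
  · rw [hZ, hGH]
    refine (nilpotent_primePow_count hH p).trans_eq ?_
    congr 1
    exact (hset (fun k => ∃ a, k = p ^ a)).symm

end Cfsg.Agent.S4139
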