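import Cfsg.Statements.S4142
import Mathlib

set_option autoImplicit false
open Cfsg

namespace Cfsg.Agent.S4142

/-- Let G be a finite group and N a normal subgroup. Then the conjugacy class of every element g outside N is a union of cosets of N (gn is conjugate to g for all n ∈ N) if and only if for every g outside N the centralizer of g in G has the same order as the centralizer of gN in G/N. -/
theorem result {G : Type*} [Group G] [Finite G] (N : Subgroup G) [N.Normal] :
    (∀ g : G, g ∉ N → ∀ n ∈ N, ∃ x : G, x * g * x⁻¹ = g * n) ↔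
      ∀ g : G, g ∉ N → Nat.card (Subgroup.centralizer ({g} : Set G)) =
        Nat.card (Subgroup.centralizer ({(QuotientGroup.mk g : G ⧸ N)} : Set (G ⧸ N))) := by
  classical
  set π := QuotientGroup.mk' N
  have hcard : ∀ {X : Type _} [Group X] [Finite X] (z : X),
      Nat.card {w : X // IsConj z w} * Nat.card (Subgroup.centralizer ({z} : Set X)) = Nat.card X := by
    intro X _ _ z
    have h1 : (Subgroup.centralizer ({z} : Set X)).index =
        (MulAction.stabilizer (ConjAct X) z).index := by
      rw [Subgroup.centralizer_eq_comap_stabilizer]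
      exact Subgroup.index_comap_of_surjective _ (MulEquiv.surjective _)
    have h2 : Nat.card {w : X // IsConj z w} = (Subgroup.centralizer ({z} : Set X)).index := by
      rw [h1, Subgroup.index, ← Nat.card_congr (MulAction.orbitEquivQuotientStabilizer (ConjAct X) z)]
      exact Nat.card_congr (Equiv.subtypeEquivRight fun w => by
        rw [ConjAct.mem_orbit_conjAct, isConj_comm])
    rw [h2, mul_comm, Subgroup.card_mul_index]
  -- the preimage of the class of the image
  have hpre : ∀ g : G, Nat.card {w : G // IsConj (π g) (π w)} =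
      Nat.card N * Nat.card {q : G ⧸ N // IsConj (π g) q} := by
    intro g
    have := QuotientGroup.card_preimage_mk N {q : G ⧸ N | IsConj (π g) q}
    exact this
  have hsub : ∀ g w : G, IsConj g w → IsConj (π g) (π w) := fun g w h =>
    π.map_isConj h
  constructor
  · intro h g hg
    have hiff : Nat.card {w : G // IsConj (π g) (π w)} = Nat.card {w : G // IsConj g w} := by
      refine Nat.card_congr (Equiv.subtypeEquivRight fun w => ⟨fun hw => ?_, hsub g w⟩)
      obtain ⟨q, hq⟩ := isConj_iff.mp hw
      obtain ⟨c, rfl⟩ := QuotientGroup.mk'_surjective N q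
      rw [← map_inv, ← map_mul, ← map_mul, QuotientGroup.mk'_eq_mk'] at hq
      obtain ⟨n, hn, rfl⟩ := hq
      obtain ⟨x, hx⟩ := h (c * g * c⁻¹) (fun h' => hg (by
        have := ‹N.Normal›.conj_mem _ h' c⁻¹
        convert this using 1
        group)) n hn
      exact (isConj_iff.mpr ⟨c, rfl⟩).trans (isConj_iff.mpr ⟨x, hx⟩)
    rw [hpre] at hiff
    have h1 := hcard g
    have h2 := hcard (π g)
    rw [← hiff, N.card_eq_card_quotient_mul_card_subgroup, ← h2] at h1
    have hpos : 0 < Nat.card N * Nat.card {q : G ⧸ N // IsConj (π g) q} := by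
      have : Nonempty {q : G ⧸ N // IsConj (π g) q} := ⟨⟨_, IsConj.refl _⟩⟩
      exact Nat.mul_pos Nat.card_pos Nat.card_pos
    refine Nat.eq_of_mul_eq_mul_left hpos (h1.trans ?_)
    change _ = _ * Nat.card (Subgroup.centralizer ({π g} : Set (G ⧸ N)))
    ring
  · intro h g hg n hn
    have h1 := hcard g
    have h2 := hcard (π g)
    rw [h g hg, N.card_eq_card_quotient_mul_card_subgroup, ← h2, mul_right_comm] at h1
    have heq : Nat.card {w : G // IsConj g w} = Nat.card {w : G // IsConj (π g) (π w)} := by
      rw [hpre]
      exact (Nat.eq_of_mul_eq_mul_right Nat.card_pos h1).trans (mul_comm _ _)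
    let f : {w : G // IsConj g w} → {w : G // IsConj (π g) (π w)} := fun w => ⟨w.1, hsub g w.1 w.2⟩
    have hf : Function.Injective f := fun a b h => Subtype.ext (congrArg Subtype.val h :)
    obtain ⟨w, hw⟩ := (hf.bijective_of_nat_card_le heq.ge).2 ⟨g * n, by
      rw [map_mul, show π n = 1 from (QuotientGroup.eq_one_iff n).mpr hn, mul_one]⟩
    obtain ⟨x, hx⟩ := isConj_iff.mp w.2
    exact ⟨x, hx.trans (congrArg Subtype.val hw)⟩

end Cfsg.Agent.S4142
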