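import Cfsg.Statements.S4145
import Mathlib
import Cfsg.Agent.GStructB.PElements
import Cfsg.Agent.GStructB.PSolvableExt
import Cfsg.Agent.Lib.Transfer.SmallSylow
import Cfsg.Agent.Lib.Transfer.Fusion
import Cfsg.Agent.Lib.Cores.Basic

set_option autoImplicit false
open Cfsg

namespace Cfsg.Agent.S4145

/-- If `B` is normal then `[B : A ⊓ B]` divides `[G : A]`. -/
theorem relIndex_dvd_index' {G : Type*} [Group G] [Finite G] (A B : Subgroup G) [B.Normal] :
    A.relIndex B ∣ A.index := by
  have h1 : A.relIndex (A ⊔ B) * Nat.card A = Nat.card ↥(A ⊔ B) := by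
    rw [← Subgroup.relIndex_bot_left, mul_comm, Subgroup.relIndex_mul_relIndex ⊥ A _ bot_le le_sup_left,
      Subgroup.relIndex_bot_left]
  have h2 : A.relIndex B * Nat.card ↥(A ⊓ B) = Nat.card B := by
    rw [← Subgroup.relIndex_bot_left, ← Subgroup.inf_relIndex_right, mul_comm,
      Subgroup.relIndex_mul_relIndex ⊥ (A ⊓ B) B bot_le inf_le_right, Subgroup.relIndex_bot_left]
  have h3 := Cores.card_sup_mul_card_inf A B
  have h4 : A.relIndex (A ⊔ B) = A.relIndex B := by
    refine Nat.eq_of_mul_eq_mul_right (Nat.mul_pos (Nat.card_pos (α := A)) (Nat.card_pos (α := ↥(A ⊓ B)))) ?_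
    rw [← mul_assoc, h1, h3, ← h2]
    ring
  rw [← h4]
  exact Subgroup.relIndex_dvd_index_of_le le_sup_left

/-- An extension of a group with a normal `p`-complement by a `p`-solvable group is `p`-solvable. -/
theorem quotient_good {G : Type*} [Group G] [Finite G] (p : ℕ) [Fact p.Prime] (C : Subgroup G) [C.Normal]
    (hC : Cfsg.HasNormalPComplement p C) (h : Cfsg.IsPSolvable p (G ⧸ C)) : Cfsg.IsPSolvable p G := by
  obtain ⟨k, hk⟩ := Transfer.NormalPComplement.hasNormalPComplement_iff_pPrimeCore.mp hC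
  set A := Cfsg.pPrimeCore p G with hA
  refine GStructB.PSolvableExt.of_normal_good A (Or.inr PLocal.Cores.coprime_card_pPrimeCore) ?_
  set B := C.map (QuotientGroup.mk' A) with hB
  have hBn : B.Normal := (inferInstance : C.Normal).map _ (QuotientGroup.mk'_surjective A)
  have hBp : IsPGroup p B := by
    rintro ⟨_, c, hc, rfl⟩
    refine ⟨k, Subtype.ext ?_⟩
    rw [Subgroup.coe_pow, Subgroup.coe_one, ← map_pow]
    refine (QuotientGroup.eq_one_iff _).mpr (PLocal.Cores.map_subtype_pPrimeCore_le C ⟨⟨c, hc⟩ ^ p ^ k, ?_, rfl⟩)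
    rw [← hk]
    exact Subgroup.pow_index_mem (Cfsg.pPrimeCore p C) (⟨c, hc⟩ : C)
  refine GStructB.PSolvableExt.of_normal_good B (Or.inl (IsPGroup.iff_card.mp hBp)) ?_
  refine PLocal.PSolvable.of_surjective h (f := QuotientGroup.lift C
    ((QuotientGroup.mk' B).comp (QuotientGroup.mk' A)) fun x hx =>
      (QuotientGroup.eq_one_iff _).mpr ⟨x, hx, rfl⟩) ?_
  refine QuotientGroup.lift_surjective_of_surjective C _ ?_ _
  exact (QuotientGroup.mk'_surjective B).comp (QuotientGroup.mk'_surjective A)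


/-- Let G be a finite group with a cyclic Sylow p-subgroup and H a normal subgroup such that p divides both the order of H and the index of H. Then H has a normal p-complement and G is p-solvable. -/
theorem result {G : Type*} [Group G] [Finite G] (p : ℕ) [Fact p.Prime]
    (P : Sylow p G) (hP : IsCyclic (P : Subgroup G)) (H : Subgroup G) [H.Normal] (h1 : p ∣ Nat.card H) (h2 : p ∣ H.index) :
    Cfsg.HasNormalPComplement p H ∧ Cfsg.IsPSolvable p G := by
  classical
  have hp := (Fact.out : p.Prime)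
  obtain ⟨⟨g, hgP⟩, hg⟩ := hP.exists_generator
  have hgen : ∀ z ∈ (P : Subgroup G), ∃ m : ℕ, g ^ m = z := by
    intro z hz
    obtain ⟨m, hm⟩ := (mem_powers_iff_mem_zpowers.mpr (hg ⟨z, hz⟩) :
      (⟨z, hz⟩ : (P : Subgroup G)) ∈ Submonoid.powers (⟨g, hgP⟩ : (P : Subgroup G)))
    exact ⟨m, congrArg Subtype.val hm⟩
  have hab : ∀ u ∈ (P : Subgroup G), ∀ v ∈ (P : Subgroup G), u * v = v * u := by
    intro u hu v hv
    obtain ⟨i, rfl⟩ := hgen u hu
    obtain ⟨j, rfl⟩ := hgen v hv
    exact ((Commute.refl g).pow_pow i j).eq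
  set P0 := H ⊓ (P : Subgroup G) with hP0
  -- `P ∩ H` is proper and nontrivial
  have hgH : g ∉ H := by
    intro hgH
    refine P.not_dvd_index (h2.trans (Subgroup.index_dvd_of_le fun z hz => ?_))
    obtain ⟨m, rfl⟩ := hgen z hz
    exact pow_mem hgH m
  obtain ⟨T⟩ : Nonempty (Sylow p H) := inferInstance
  obtain ⟨R, hR⟩ := (T.2.map H.subtype).exists_le_sylow
  obtain ⟨c, hc⟩ := MulAction.exists_smul_eq G R P
  have hP0ne : P0 ≠ ⊥ := by
    intro hbot
    obtain ⟨t, ht, ht1⟩ := (Subgroup.bot_or_exists_ne_one (T : Subgroup H)).resolve_left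
      (T.ne_bot_of_dvd_card h1)
    have h3 : c * (t : G) * c⁻¹ ∈ P0 := by
      refine ⟨(inferInstance : H.Normal).conj_mem _ t.2 c, ?_⟩
      rw [← hc]
      exact Transfer.Fusion.mem_smul_sylow_iff.mpr (by
        rw [show c⁻¹ * (c * (t : G) * c⁻¹) * c = t by group]
        exact hR ⟨t, ht, rfl⟩)
    rw [hbot, Subgroup.mem_bot, conj_eq_one_iff] at h3
    exact ht1 (Subtype.ext h3)
  obtain ⟨z0, hz0, hz01⟩ := (Subgroup.bot_or_exists_ne_one P0).resolve_left hP0ne
  obtain ⟨a, ha⟩ := GStructB.PElements.exists_orderOf_eq P.2 hgP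
  have ha0 : a ≠ 0 := by
    rintro rfl
    rw [pow_zero, orderOf_eq_one_iff] at ha
    exact hgH (ha ▸ one_mem H)
  -- a normalising element inducing the identity on `P/P0` or fixing a nontrivial element
  have hact : ∀ y : G, y ∈ Subgroup.normalizer ((P : Subgroup G) : Set G) →
      (y * g * y⁻¹ * g⁻¹ ∈ H ∨ y * z0 = z0 * y) → ∃ m : ℕ, y ^ p ^ m * g = g * y ^ p ^ m := by
    intro y hy hcond
    obtain ⟨k, hk⟩ := hgen _ ((Subgroup.mem_normalizer_iff.mp hy g).mp hgP)
    refine GStructB.PElements.exists_pow_commute (dvd_of_eq ha) hk.symm ?_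
    rcases hcond with hH | hz
    · by_contra hne
      apply hgH
      have h3 : ¬ p ∣ k + (p ^ a - 1) := by
        intro hd
        apply hne
        have h4 : p ∣ k + (p ^ a - 1) + 1 - 1 := by simpa using hd
        have h5 : 1 ≡ k + p ^ a [MOD p] := by
          refine (Nat.modEq_iff_dvd' (by have := pow_pos hp.pos a; omega)).mpr ?_
          convert hd using 1
          have := pow_pos hp.pos a
          omega
        have h6 : k + p ^ a ≡ k + 0 [MOD p] :=
          Nat.ModEq.add_left k (Nat.modEq_zero_iff_dvd.mpr (dvd_pow_self p ha0))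
        exact (h5.trans h6).symm
      refine GStructB.PElements.mem_of_pow_mem_coprime (a := k + (p ^ a - 1)) (b := p ^ a)
        (((hp.coprime_iff_not_dvd.mpr h3).symm).pow_right a) ?_ ?_
      · have h7 : g ^ (p ^ a - 1) = g⁻¹ := by
          rw [eq_inv_iff_mul_eq_one, ← pow_succ,
            show p ^ a - 1 + 1 = p ^ a by have := pow_pos hp.pos a; omega, ← ha, pow_orderOf_eq_one]
        rw [pow_add, h7, hk]
        exact hH
      · rw [← ha, pow_orderOf_eq_one]; exact one_mem H
    · obtain ⟨j, hj⟩ := hgen z0 hz0.2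
      have h3 : z0 ^ k = z0 ^ 1 := by
        rw [pow_one, ← hj, ← pow_mul, mul_comm, pow_mul, hk, conj_pow, hj, hz, mul_inv_cancel_right]
      obtain ⟨b, hb⟩ := GStructB.PElements.exists_orderOf_eq P.2 hz0.2
      have hb0 : b ≠ 0 := by
        rintro rfl
        rw [pow_zero, orderOf_eq_one_iff] at hb
        exact hz01 hb
      exact (pow_eq_pow_iff_modEq.mp h3).of_dvd (hb ▸ dvd_pow_self p hb0)
  have hcentP : ∀ y : G, y * g = g * y → ∀ z ∈ (P : Subgroup G), z * y = y * z := by
    intro y hy z hz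
    obtain ⟨m, rfl⟩ := hgen z hz
    exact ((show Commute y g from hy).pow_right m).symm.eq
  -- `H` has a normal `p`-complement
  have hHc : Cfsg.HasNormalPComplement p H := by
    have hP0p : IsPGroup p ↥(P0.subgroupOf H) :=
      (P.2.to_le (inf_le_right : P0 ≤ _)).comap_of_injective H.subtype H.subtype_injective
    have hidx : ¬ p ∣ (P0.subgroupOf H).index := by
      rw [← Subgroup.relIndex, hP0, Subgroup.inf_relIndex_left]
      intro hd
      exact P.not_dvd_index (hd.trans (relIndex_dvd_index' _ H))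
    set P0' := hP0p.toSylow hidx with hP0'
    have : IsMulCommutative (P0' : Subgroup H) :=
      ⟨⟨fun u v => Subtype.ext (Subtype.ext (hab _ (Subgroup.mem_subgroupOf.mp u.2).2 _
        (Subgroup.mem_subgroupOf.mp v.2).2))⟩⟩
    refine Transfer.NormalPComplement.hasNormalPComplement_of_normalizer_le_centralizer P0'
      (Transfer.SmallSylow.normalizer_le_centralizer_of_forall P0' fun y hy hyo => ?_)
    rw [← Subgroup.orderOf_coe] at hyo
    have hyP0 : ∀ z ∈ P0, (y : G) * z * (y : G)⁻¹ ∈ P0 := fun z hz =>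
      Subgroup.mem_subgroupOf.mp ((Subgroup.mem_normalizer_iff.mp hy ⟨z, hz.1⟩).mp
        (Subgroup.mem_subgroupOf.mpr hz))
    have hyP0' : ∀ z ∈ P0, (y : G)⁻¹ * z * (y : G) ∈ P0 := fun z hz => by
      have h3 := (Subgroup.mem_normalizer_iff.mp (inv_mem hy) ⟨z, hz.1⟩).mp
        (Subgroup.mem_subgroupOf.mpr hz)
      simpa using Subgroup.mem_subgroupOf.mp h3
    set K := Subgroup.centralizer (P0 : Set G) ⊓ (H ⊔ (P : Subgroup G))
    have hPK : (P : Subgroup G) ≤ K := le_inf
      (fun u hu => Subgroup.mem_centralizer_iff.mpr fun z hz => hab z hz.2 u hu) le_sup_right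
    have hyPK : (((y : G) • P : Sylow p G) : Subgroup G) ≤ K := by
      intro u hu
      have hu' := Transfer.Fusion.mem_smul_sylow_iff.mp hu
      refine ⟨Subgroup.mem_centralizer_iff.mpr fun z hz => ?_, ?_⟩
      · have h3 := hab _ (hyP0' z hz).2 _ hu'
        calc z * u = (y : G) * (((y : G)⁻¹ * z * y) * ((y : G)⁻¹ * u * y)) * (y : G)⁻¹ := by group
          _ = u * z := by rw [h3]; group
      · have hyM : (y : G) ∈ H ⊔ (P : Subgroup G) := Subgroup.mem_sup_left y.2
        have h3 := mul_mem (mul_mem hyM (Subgroup.mem_sup_right (S := H) hu')) (inv_mem hyM)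
        simpa [mul_assoc] using h3
    obtain ⟨k, hk, hkP⟩ := Transfer.Fusion.exists_conj_eq_of_le hPK hyPK
    have hn : k⁻¹ * y ∈ H ⊔ (P : Subgroup G) :=
      mul_mem (inv_mem hk.2) (Subgroup.mem_sup_left y.2)
    obtain ⟨h', hh', u, hu, hhu⟩ := Subgroup.mem_sup_of_normal_left.mp hn
    have hnN : k⁻¹ * y ∈ Subgroup.normalizer ((P : Subgroup G) : Set G) := by
      rw [← Transfer.Fusion.map_conj_eq_self_iff, Transfer.Fusion.map_conj_mul,
        ← Transfer.Fusion.coe_smul_eq_map P (y : G), ← hkP, Transfer.Fusion.map_conj_inv_cancel]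
    have hh'eq : h' = k⁻¹ * y * u⁻¹ := by rw [← hhu]; group
    have hh'N : h' ∈ Subgroup.normalizer ((P : Subgroup G) : Set G) := by
      rw [hh'eq]; exact mul_mem hnN (inv_mem (Subgroup.le_normalizer hu))
    obtain ⟨m, hm⟩ := hact h' hh'N (Or.inl (by
      rw [show h' * g * h'⁻¹ * g⁻¹ = h' * (g * h'⁻¹ * g⁻¹) by group]
      exact mul_mem hh' ((inferInstance : H.Normal).conj_mem _ (inv_mem hh') g)))
    have hsame : ∀ z ∈ P0, h' * z * h'⁻¹ = (y : G) * z * (y : G)⁻¹ := by
      intro z hz
      have h4 := Subgroup.mem_centralizer_iff.mp (inv_mem hk.1) _ (hyP0 z hz)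
      calc h' * z * h'⁻¹ = k⁻¹ * y * (u⁻¹ * (z * u)) * (y : G)⁻¹ * k := by rw [hh'eq]; group
        _ = k⁻¹ * ((y : G) * z * (y : G)⁻¹) * k := by rw [hab z hz.2 u hu]; group
        _ = _ := by rw [← h4]; group
    have hsame' : ∀ j : ℕ, ∀ z ∈ P0, (h' ^ j) * z * (h' ^ j)⁻¹ = (y : G) ^ j * z * ((y : G) ^ j)⁻¹ ∧
        (y : G) ^ j * z * ((y : G) ^ j)⁻¹ ∈ P0 := by
      intro j
      induction j with
      | zero => intro z hz; simpa using hz
      | succ j ih =>
        intro z hz
        obtain ⟨e1, e2⟩ := ih z hz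
        have e3 := hsame _ e2
        have a1 : ∀ w : G, w ^ (j + 1) * z * (w ^ (j + 1))⁻¹ = w * (w ^ j * z * (w ^ j)⁻¹) * w⁻¹ :=
          fun w => by rw [pow_succ']; group
        rw [a1 h', a1 (y : G), e1, e3]
        exact ⟨rfl, hyP0 _ e2⟩
    intro z hz
    have hzP0 : (z : G) ∈ P0 := Subgroup.mem_subgroupOf.mp hz
    have h5 := (hsame' (p ^ m) _ hzP0).1
    rw [← hcentP _ hm _ hzP0.2, mul_inv_cancel_right] at h5
    have h6 : (y : G) ^ p ^ m ∈ Subgroup.centralizer ({(z : G)} : Set G) :=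
      Subgroup.mem_centralizer_singleton_iff.mpr (mul_inv_eq_iff_eq_mul.mp h5.symm)
    have h7 := Transfer.NormalPComplement.mem_of_pow_mem (n := p ^ m) (hyo.pow_right m) h6
    exact Subtype.ext (Subgroup.mem_centralizer_singleton_iff.mp h7).symm
  refine ⟨hHc, ?_⟩
  -- the centraliser of `P ∩ H`
  set C := Subgroup.centralizer (P0 : Set G) with hCdef
  set N := Subgroup.normalizer (P0 : Set G) with hNdef
  have hPC : (P : Subgroup G) ≤ C := fun u hu =>
    Subgroup.mem_centralizer_iff.mpr fun z hz => hab z hz.2 u hu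
  have hCc : Cfsg.HasNormalPComplement p C := by
    have : IsMulCommutative ((P.subtype hPC : Sylow p C) : Subgroup C) :=
      ⟨⟨fun u v => Subtype.ext (Subtype.ext (hab _ u.2 _ v.2))⟩⟩
    refine Transfer.NormalPComplement.hasNormalPComplement_of_normalizer_le_centralizer (P.subtype hPC)
      (Transfer.SmallSylow.normalizer_le_centralizer_of_forall _ fun y hy hyo => ?_)
    rw [← Subgroup.orderOf_coe] at hyo
    have hyN : (y : G) ∈ Subgroup.normalizer ((P : Subgroup G) : Set G) := by
      rw [Subgroup.mem_normalizer_iff]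
      intro w
      constructor
      · exact fun hw => (Subgroup.mem_normalizer_iff.mp hy ⟨w, hPC hw⟩).mp hw
      · intro hw
        have hwC : w ∈ C := by
          have h3 := mul_mem (mul_mem (inv_mem y.2) (hPC hw)) y.2
          simpa [mul_assoc] using h3
        exact (Subgroup.mem_normalizer_iff.mp hy ⟨w, hwC⟩).mpr hw
    obtain ⟨m, hm⟩ := hact y hyN (Or.inr (Subgroup.mem_centralizer_iff.mp y.2 z0 hz0).symm)
    have h6 : (y : G) ∈ Subgroup.centralizer ({g} : Set G) :=
      Transfer.NormalPComplement.mem_of_pow_mem (n := p ^ m) (hyo.pow_right m)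
        (Subgroup.mem_centralizer_singleton_iff.mpr hm)
    intro z hz
    exact Subtype.ext (hcentP _ (Subgroup.mem_centralizer_singleton_iff.mp h6) _ hz)
  have hfr : N ⊔ H = ⊤ := by
    have hP0p : IsPGroup p ↥(P0.subgroupOf H) :=
      (P.2.to_le (inf_le_right : P0 ≤ _)).comap_of_injective H.subtype H.subtype_injective
    have hidx : ¬ p ∣ (P0.subgroupOf H).index := by
      rw [← Subgroup.relIndex, hP0, Subgroup.inf_relIndex_left]
      intro hd
      exact P.not_dvd_index (hd.trans (relIndex_dvd_index' _ H))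
    have h3 := Sylow.normalizer_sup_eq_top (hP0p.toSylow hidx)
    rwa [IsPGroup.toSylow_coe, Subgroup.subgroupOf_map_subtype,
      inf_of_le_left (inf_le_left : P0 ≤ H)] at h3
  have hCN : C ≤ N := Subgroup.centralizer_le_normalizer (P0 : Set G)
  have hNsol : Cfsg.IsPSolvable p N := by
    obtain ⟨D, hDn, hDp, kD, hkD⟩ :=
      Transfer.NormalPComplement.hasNormalPComplement_iff_exists.mp
        (hCc : Cfsg.HasNormalPComplement p C)
    have hC'n : (C.subgroupOf N).Normal := by
      refine ⟨fun c hc n => Subgroup.mem_subgroupOf.mpr (Subgroup.mem_centralizer_iff.mpr fun z hz => ?_)⟩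
      have h3 : (n : G)⁻¹ * z * n ∈ P0 := by
        simpa using (Subgroup.mem_normalizer_iff.mp (inv_mem n.2) z).mp hz
      have h4 := Subgroup.mem_centralizer_iff.mp (Subgroup.mem_subgroupOf.mp hc) _ h3
      simp only [Subgroup.coe_mul, Subgroup.coe_inv]
      calc z * ((n : G) * c * (n : G)⁻¹) = n * (((n : G)⁻¹ * z * n) * c) * (n : G)⁻¹ := by group
        _ = _ := by rw [h4]; group
    exact quotient_good p (C.subgroupOf N)
      ((Transfer.NormalPComplement.hasNormalPComplement_congr (Subgroup.subgroupOfEquivOfLe hCN).symm).mp hCc)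
      (by
        refine GStructB.PSolvableExt.of_card_good (Or.inr ?_)
        rw [← Subgroup.index_eq_card, ← Subgroup.relIndex]
        refine (hp.coprime_iff_not_dvd.mpr fun hd => ?_).symm
        exact P.not_dvd_index (hd.trans ((Subgroup.relIndex_dvd_index_of_le hCN).trans
          (Subgroup.index_dvd_of_le hPC))))
  have hGH : Cfsg.IsPSolvable p (G ⧸ H) := by
    refine PLocal.PSolvable.of_surjective hNsol (f := (QuotientGroup.mk' H).comp N.subtype) ?_
    rw [← MonoidHom.range_eq_top, MonoidHom.range_comp, Subgroup.range_subtype,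
      ← Subgroup.map_top_of_surjective _ (QuotientGroup.mk'_surjective H), ← hfr, Subgroup.map_sup,
      (Subgroup.map_eq_bot_iff H).mpr (by rw [QuotientGroup.ker_mk']), sup_bot_eq]
  exact quotient_good p H hHc hGH

end Cfsg.Agent.S4145
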