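import Cfsg.Statements.S4150
import Cfsg.Agent.Lib.PrimeCycles.Primes
import Cfsg.Agent.Lib.PrimeCycles.Generation

set_option autoImplicit false
open Cfsg

namespace Cfsg.Agent.S4150

/-- Let m ≥ 5. Then there are primes p < q with m/2 ≤ p and q ≤ m such that any two elements x, y of the alternating group of degree m with x of order p and y of order q generate a subgroup isomorphic to an alternating group of some degree d ≥ 5. -/
theorem result (m : ℕ) (hm : 5 ≤ m) :
    ∃ p q : ℕ, p.Prime ∧ q.Prime ∧ m ≤ 2 * p ∧ p < q ∧ q ≤ m ∧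
      ∀ x y : alternatingGroup (Fin m), orderOf x = p → orderOf y = q →
        ∃ d : ℕ, 5 ≤ d ∧ Nonempty (Subgroup.closure ({x, y} : Set (alternatingGroup (Fin m))) ≃* alternatingGroup (Fin d)) := by
  obtain ⟨p, q, hp, hq, hpq, hqm, hm2, hch⟩ : ∃ p q : ℕ, p.Prime ∧ q.Prime ∧ p < q ∧ q ≤ m ∧
      m ≤ 2 * p ∧ ∀ d ≤ m, (p = 3 ∧ q = 5) ∨ (p = 5 ∧ q = 7) ∨ (p = 11 ∧ q = 13 ∧ d ≤ 16) ∨
        (p + 3 ≤ q ∧ (d < 2 * p ∨ q + 3 ≤ 2 * p)) := by
    rcases Nat.lt_or_ge m 7 with h1 | h1
    · exact ⟨3, 5, by norm_num, by norm_num, by norm_num, by omega, by omega, fun _ _ => by omega⟩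
    rcases Nat.lt_or_ge m 11 with h2 | h2
    · exact ⟨5, 7, by norm_num, by norm_num, by norm_num, by omega, by omega, fun _ _ => by omega⟩
    rcases Nat.lt_or_ge m 15 with h3 | h3
    · exact ⟨7, 11, by norm_num, by norm_num, by norm_num, by omega, by omega, fun _ _ => by omega⟩
    rcases Nat.lt_or_ge m 17 with h4 | h4
    · exact ⟨11, 13, by norm_num, by norm_num, by norm_num, by omega, by omega,
        fun _ _ => by omega⟩
    obtain ⟨a, b, c, ha, hb, hc, hab, hbc, hma, hcm⟩ :=
      Cfsg.Agent.PrimeCycles.Primes.exists_triple h4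
    have hb2 : b % 2 = 1 := (Nat.Prime.eq_two_or_odd hb).resolve_left (by omega)
    have ha2 : a % 2 = 1 := (Nat.Prime.eq_two_or_odd ha).resolve_left (by omega)
    have hc2 : c % 2 = 1 := (Nat.Prime.eq_two_or_odd hc).resolve_left (by omega)
    exact ⟨a, c, ha, hc, by omega, hcm, by omega, fun _ _ => by omega⟩
  refine ⟨p, q, hp, hq, hm2, hpq, hqm, fun X Y hX hY => ?_⟩
  classical
  let x : Equiv.Perm (Fin m) := X.1
  let y : Equiv.Perm (Fin m) := Y.1
  let U : Finset (Fin m) := x.support ∪ y.support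
  have hU : ∀ g : Equiv.Perm (Fin m), g.support ⊆ U → ∀ a, a ∈ U ↔ g a ∈ U := by
    intro g hg a
    by_cases ha : g a = a
    · rw [ha]
    · exact iff_of_true (hg (Equiv.Perm.mem_support.2 ha))
        (hg (Equiv.Perm.apply_mem_support.2 (Equiv.Perm.mem_support.2 ha)))
  have hxU : x.support ⊆ U := Finset.subset_union_left
  have hyU : y.support ⊆ U := Finset.subset_union_right
  let x' : Equiv.Perm {a // a ∈ U} := x.subtypePerm fun a => (hU x hxU a).symm
  let y' : Equiv.Perm {a // a ∈ U} := y.subtypePerm fun a => (hU y hyU a).symm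
  have hox : Equiv.Perm.ofSubtype x' = x :=
    Equiv.Perm.ofSubtype_subtypePerm _ fun a ha => hxU (Equiv.Perm.mem_support.2 ha)
  have hoy : Equiv.Perm.ofSubtype y' = y :=
    Equiv.Perm.ofSubtype_subtypePerm _ fun a ha => hyU (Equiv.Perm.mem_support.2 ha)
  have hinj : Function.Injective (Equiv.Perm.ofSubtype (p := fun a => a ∈ U)) :=
    Equiv.Perm.ofSubtype_injective
  have hd : Fintype.card {a // a ∈ U} ≤ m := by
    rw [Fintype.card_coe]
    exact (Finset.card_le_univ U).trans (Fintype.card_fin m).le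
  obtain ⟨d, hd5, ⟨e⟩⟩ := Cfsg.Agent.PrimeCycles.Generation.generation (x := x') (y := y') hp hq
    (by rw [← Equiv.Perm.sign_ofSubtype, hox]; exact X.2)
    (by rw [← Equiv.Perm.sign_ofSubtype, hoy]; exact Y.2)
    (by rw [← orderOf_injective _ hinj, hox, ← hX]; exact Subgroup.orderOf_coe X)
    (by rw [← orderOf_injective _ hinj, hoy, ← hY]; exact Subgroup.orderOf_coe Y)
    hpq
    (by
      rintro ⟨a, ha⟩
      rcases Finset.mem_union.1 ha with h | h
      · exact Or.inl fun he => Equiv.Perm.mem_support.1 h (congrArg Subtype.val he)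
      · exact Or.inr fun he => Equiv.Perm.mem_support.1 h (congrArg Subtype.val he))
    (by omega) (hch _ hd)
  refine ⟨d, hd5, ⟨MulEquiv.trans ?_ e⟩⟩
  refine MulEquiv.trans (Subgroup.equivMapOfInjective _ _
    (alternatingGroup (Fin m)).subtype_injective) (MulEquiv.trans (MulEquiv.subgroupCongr ?_)
    (Subgroup.equivMapOfInjective _ _ hinj).symm)
  rw [MonoidHom.map_closure, MonoidHom.map_closure, Set.image_pair, Set.image_pair, hox, hoy]
  rfl

end Cfsg.Agent.S4150
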