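import Cfsg.Statements.S4151
import Mathlib
import Cfsg.Agent.GStructB.TIComplement
import Cfsg.Agent.Lib.Coprime.Sylow
import Cfsg.Agent.Lib.Coprime.Commutator
import Cfsg.Agent.Lib.Cores.Basic

set_option autoImplicit false
open Cfsg

namespace Cfsg.Agent.S4151

open Cfsg.Agent
open scoped IsMulCommutative commutatorElement

universe u

/-- In a Z-group `D = ⁅D, Q⁆` acted on coprimely, a Sylow subgroup fixed by `Q` is trivial. -/
theorem fixed_sylow_eq_bot {G : Type u} [Group G] [Finite G] {D Q : Subgroup G}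
    (hQD : Q ≤ Subgroup.normalizer (D : Set G)) [IsZGroup D] (hcomm : ⁅D, Q⁆ = D)
    (hcop : (Nat.card Q).Coprime (Nat.card D)) {p : ℕ} [Fact p.Prime] (P : Sylow p D)
    (hfix : ∀ x ∈ (P : Subgroup D), ∀ q ∈ Q, q * (x : G) * q⁻¹ = x) : (P : Subgroup D) = ⊥ := by
  classical
  haveI : Fintype Q := Fintype.ofFinite Q
  let ρ : Q →* MulAut D := (Subgroup.normalizerMonoidHom D).comp (Subgroup.inclusion hQD)
  have hρ : ∀ (q : Q) (d : D), ((ρ q d : D) : G) = q * d * (q : G)⁻¹ := fun _ _ => rfl
  have hgen : ∀ H : Subgroup D, (∀ (d : D) (q : Q), d * (ρ q d)⁻¹ ∈ H) → H = ⊤ := by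
    intro H hH
    have hle : ⁅D, Q⁆ ≤ H.map D.subtype := by
      rw [Subgroup.commutator_le]
      intro d hd q hq
      refine ⟨_, hH ⟨d, hd⟩ ⟨q, hq⟩, ?_⟩
      show d * (q * d * q⁻¹)⁻¹ = ⁅d, q⁆
      rw [commutatorElement_def]; group
    rw [hcomm] at hle
    rw [eq_top_iff]
    intro d _
    obtain ⟨y, hy, hyd⟩ := hle d.2
    rwa [← Subtype.ext hyd]
  -- the Sylow subgroup lies in the derived subgroup
  have hP1 : ∀ x ∈ (P : Subgroup D), x ∈ commutator D := by
    intro x hx
    let θ : D →* Abelianization D :=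
      { toFun := fun d => ∏ q : Q, Abelianization.of (ρ q d)
        map_one' := by simp
        map_mul' := fun a b => by simp only [map_mul]; exact Finset.prod_mul_distrib }
    have hθ : θ.ker = ⊤ := hgen _ fun d q => by
      rw [MonoidHom.mem_ker, map_mul, map_inv, mul_inv_eq_one]
      show ∏ a : Q, Abelianization.of (ρ a d) = ∏ a : Q, Abelianization.of (ρ a (ρ q d))
      refine (Fintype.prod_equiv (Equiv.mulRight q) _ _ fun a => ?_).symm
      show Abelianization.of (ρ a (ρ q d)) = Abelianization.of (ρ (a * q) d)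
      rw [map_mul]; rfl
    have h1 : θ x = 1 := by rw [← MonoidHom.mem_ker, hθ]; exact Subgroup.mem_top x
    have h2 : θ x = Abelianization.of x ^ Nat.card Q := by
      show ∏ a : Q, Abelianization.of (ρ a x) = _
      rw [Finset.prod_congr rfl (fun (a : Q) _ => show Abelianization.of (ρ a x) = Abelianization.of x by
        rw [show ρ a x = x from Subtype.ext (hfix x hx a a.2)]),
        Finset.prod_const, Finset.card_univ, Nat.card_eq_fintype_card]
    have h3 : x ^ Nat.card Q ∈ commutator D := by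
      rw [← Abelianization.ker_of, MonoidHom.mem_ker, map_pow, ← h2, h1]
    obtain ⟨m, hm⟩ := exists_pow_eq_self_of_coprime
      (show (Nat.card Q).Coprime (orderOf x) from hcop.coprime_dvd_right (orderOf_dvd_natCard x))
    rw [← hm]; exact pow_mem h3 m
  -- hence it is normal
  haveI : IsCyclic (commutator D) := IsZGroup.isCyclic_commutator D
  have hP2 : ∀ x ∈ (P : Subgroup D), ∀ d : D, d * x * d⁻¹ ∈ (P : Subgroup D) := by
    intro x hx d
    have hy : d * x * d⁻¹ ∈ commutator D := Subgroup.Normal.conj_mem inferInstance x (hP1 x hx) d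
    have hord : IsPGroup p (Subgroup.zpowers (d * x * d⁻¹)) := by
      obtain ⟨k, hk⟩ := IsPGroup.iff_orderOf.mp P.2 ⟨x, hx⟩
      rw [Subgroup.orderOf_mk] at hk
      exact IsPGroup.of_card (n := k) (by
        rw [Nat.card_zpowers, show d * x * d⁻¹ = MulAut.conj d x from rfl, MulEquiv.orderOf_eq, hk])
    have hnorm : Subgroup.zpowers (d * x * d⁻¹) ≤ Subgroup.normalizer ((P : Subgroup D) : Set D) := by
      letI := IsCyclic.commGroup (α := commutator D)
      refine le_trans ?_ (Subgroup.centralizer_le_normalizer _)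
      rw [Subgroup.zpowers_le, Subgroup.mem_centralizer_iff]
      intro z hz
      exact congrArg Subtype.val (mul_comm (⟨z, hP1 z hz⟩ : commutator D) ⟨_, hy⟩)
    have := P.is_maximal' (hord.to_sup_of_normal_right' P.2 hnorm) le_sup_right
    exact this ▸ Subgroup.mem_sup_left (Subgroup.mem_zpowers _)
  haveI hPn : (P : Subgroup D).Normal := ⟨hP2⟩
  -- and central
  haveI : IsMulCommutative (P : Subgroup D) := ⟨⟨fun a b => by
    letI := IsCyclic.commGroup (α := commutator D)
    have := congrArg Subtype.val (mul_comm (⟨(a : D), hP1 a a.2⟩ : commutator D) ⟨(b : D), hP1 b b.2⟩)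
    exact Subtype.ext this⟩⟩
  haveI : IsCyclic (P : Subgroup D) := inferInstance
  have hP3 : ∀ d : D, ∀ x ∈ (P : Subgroup D), d * x = x * d := by
    let ψ : D →* MulAut (P : Subgroup D) := MulAut.conjNormal
    have hψρ : ∀ (d : D) (q : Q), ψ (ρ q d) = ψ d := by
      intro d q
      refine MulEquiv.ext fun x => Subtype.ext (Subtype.ext ?_)
      have hf : (q : G) * ((ψ d x : D) : G) * (q : G)⁻¹ = ((ψ d x : D) : G) := hfix _ (ψ d x).2 q q.2
      have hx : (q : G) * ((x : D) : G) * (q : G)⁻¹ = ((x : D) : G) := hfix _ x.2 q q.2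
      simp only [ψ, MulAut.conjNormal_apply, Subgroup.coe_mul, Subgroup.coe_inv] at hf ⊢
      rw [hρ]
      calc (q : G) * d * (q : G)⁻¹ * ((x : D) : G) * ((q : G) * d * (q : G)⁻¹)⁻¹
          = (q : G) * d * (q : G)⁻¹ * ((q : G) * ((x : D) : G) * (q : G)⁻¹) *
              ((q : G) * d * (q : G)⁻¹)⁻¹ := by rw [hx]
        _ = (q : G) * ((d : G) * ((x : D) : G) * (d : G)⁻¹) * (q : G)⁻¹ := by group
        _ = _ := hf
    have hk : ψ.ker = ⊤ := hgen _ fun d q => by
      rw [MonoidHom.mem_ker, map_mul, map_inv, hψρ, mul_inv_cancel]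
    intro d x hx
    have h := DFunLike.congr_fun (MonoidHom.mem_ker.mp (hk ▸ Subgroup.mem_top d : d ∈ ψ.ker)) ⟨x, hx⟩
    have h' := congrArg Subtype.val h
    simp only [ψ, MulAut.conjNormal_apply, MulAut.one_apply] at h'
    exact mul_inv_eq_iff_eq_mul.mp h'
  -- transfer
  have hle : Subgroup.normalizer ((P : Subgroup D) : Set D) ≤ Subgroup.centralizer ((P : Subgroup D) : Set D) :=
    fun d _ => Subgroup.mem_centralizer_iff.mpr fun x hx => (hP3 d x hx).symm
  have hdis := MonoidHom.ker_transferSylow_disjoint P hle (P : Subgroup D) P.2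
  rw [eq_bot_iff]
  intro x hx
  exact hdis.le_bot ⟨Abelianization.commutator_subset_ker _ (hP1 x hx), hx⟩

/-- The fixed points and the commutator have coprime orders. -/
theorem coprime_fixed_commutator {G : Type u} [Group G] [Finite G] {H Q : Subgroup G}
    (hQH : Q ≤ Subgroup.normalizer (H : Set G)) (hcop : (Nat.card Q).Coprime (Nat.card H))
    [IsZGroup H] :
    (Nat.card ↥(H ⊓ Subgroup.centralizer (Q : Set G))).Coprime (Nat.card ↥⁅H, Q⁆) := by
  set A := H ⊓ Subgroup.centralizer (Q : Set G) with hA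
  set D := ⁅H, Q⁆ with hD
  have hsolv : Group.IsSolvable Q ∨ Group.IsSolvable H := Or.inr inferInstance
  have hDH : D ≤ H := Coprime.commutator_le_of_le_normalizer hQH
  refine Nat.coprime_of_dvd fun p hp hpA hpD => ?_
  haveI := Fact.mk hp
  obtain ⟨⟨a, haA⟩, ha⟩ := exists_prime_orderOf_dvd_card' (G := A) p hpA
  rw [Subgroup.orderOf_mk] at ha
  have hzH : Subgroup.zpowers a ≤ H := Subgroup.zpowers_le.mpr haA.1
  have hQz : Q ≤ Subgroup.normalizer (Subgroup.zpowers a : Set G) := by
    refine le_trans ?_ (Subgroup.centralizer_le_normalizer _)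
    rw [Subgroup.le_centralizer_iff, Subgroup.zpowers_le]
    exact haA.2
  obtain ⟨P, haP, hQP⟩ := Coprime.exists_invariant_sylow_ge (p := p) hQH hcop hsolv hzH
    (IsPGroup.of_card (n := 1) (by rw [Nat.card_zpowers, ha, pow_one])) hQz
  set P' := (P : Subgroup H).map H.subtype with hP'
  haveI : IsCyclic P' :=
    ((P : Subgroup H).equivMapOfInjective H.subtype H.subtype_injective).isCyclic.mp inferInstance
  haveI : IsMulCommutative P' := inferInstance
  have hQC : Q ≤ Subgroup.centralizer (P' : Set G) := by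
    refine Coprime.le_centralizer_of_prime_order_abelian hQP
      (hcop.coprime_dvd_right (Subgroup.card_dvd_of_le (Subgroup.map_subtype_le _))) ?_
    intro v hv hprime q hq
    obtain ⟨k, hk⟩ := IsPGroup.iff_orderOf.mp (P.2.map H.subtype) ⟨v, hv⟩
    rw [Subgroup.orderOf_mk] at hk
    have hvp : orderOf v = p := by
      rw [hk] at hprime
      rw [hk, Nat.Prime.eq_one_of_pow hprime, pow_one]
    have hva : v ∈ Subgroup.zpowers a := by
      have h1 : Subgroup.zpowers (⟨a, haP (Subgroup.mem_zpowers a)⟩ : P') =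
          (powMonoidHom p : P' →* P').ker := by
        refine Subgroup.eq_of_le_of_card_ge (Subgroup.zpowers_le.mpr ?_) ?_
        · rw [MonoidHom.mem_ker, powMonoidHom_apply, ← ha]
          exact Subtype.ext (pow_orderOf_eq_one a)
        · rw [IsCyclic.card_powMonoidHom_ker, Nat.card_zpowers, Subgroup.orderOf_mk, ha]
          exact Nat.le_of_dvd hp.pos (Nat.gcd_dvd_right _ _)
      obtain ⟨j, hj⟩ : (⟨v, hv⟩ : P') ∈ Subgroup.zpowers (⟨a, haP (Subgroup.mem_zpowers a)⟩ : P') := by
        rw [h1, MonoidHom.mem_ker, powMonoidHom_apply, ← hvp]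
        exact Subtype.ext (pow_orderOf_eq_one v)
      exact ⟨j, congrArg Subtype.val hj⟩
    obtain ⟨j, rfl⟩ := hva
    exact ((Commute.zpow_right (Subgroup.mem_centralizer_iff.mp haA.2 q hq) j)).eq
  haveI : IsZGroup D := IsZGroup.of_injective (Subgroup.inclusion_injective hDH)
  haveI : (D.subgroupOf H).Normal :=
    Subgroup.normal_subgroupOf_of_le_normalizer (Subgroup.normalizer_commutator_ge_left H Q)
  obtain ⟨S⟩ : Nonempty (Sylow p D) := inferInstance
  -- a Sylow subgroup of `D` inside `P'`
  let T : Subgroup D := P'.subgroupOf D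
  have hTp : IsPGroup p T := by
    rw [IsPGroup.iff_orderOf]
    intro x
    obtain ⟨k, hk⟩ := IsPGroup.iff_orderOf.mp (P.2.map H.subtype)
      ⟨((x : D) : G), Subgroup.mem_subgroupOf.mp x.2⟩
    exact ⟨k, by rw [← Subgroup.orderOf_coe, ← Subgroup.orderOf_coe, ← hk, Subgroup.orderOf_mk]⟩
  have hTidx : ¬ p ∣ T.index := by
    intro hd
    have h1 : T.index = P'.relIndex D := rfl
    have h2 : (P : Subgroup H).relIndex (D.subgroupOf H) = P'.relIndex D := by
      rw [← Subgroup.relIndex_map_map_of_injective (P : Subgroup H) (D.subgroupOf H)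
        (f := H.subtype) H.subtype_injective, Subgroup.map_subgroupOf_eq_of_le hDH]
    exact P.not_dvd_index (hd.trans (h1 ▸ h2 ▸ Cores.relIndex_dvd_index_right_normal _ _))
  have hb := fixed_sylow_eq_bot (Subgroup.normalizer_commutator_ge_right H Q)
    (Coprime.commutator_commutator_eq hQH hcop hsolv)
    (hcop.coprime_dvd_right (Subgroup.card_dvd_of_le hDH)) (hTp.toSylow hTidx) (fun x hx q hq => by
      have := Subgroup.mem_centralizer_iff.mp (hQC hq) _ (show (x : G) ∈ P' from hx)
      rw [← this, mul_inv_cancel_right])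
  apply hTidx
  rw [show T = (hTp.toSylow hTidx : Subgroup D) from rfl, hb, Subgroup.index_bot]
  exact hpD

theorem isZGroup_of_ti {G : Type u} [Group G] [Finite G] {H : Subgroup G}
    (hTI : Cfsg.IsTISubset (H : Set G)) (hnn : ¬ H.Normal) (O : Subgroup G) [O.Normal]
    (hOcop : (Nat.card O).Coprime (Nat.card H))
    (htop : O ⊔ Subgroup.normalizer (H : Set G) = ⊤)
    (h2 : ∀ P : Sylow 2 H, IsMulCommutative (P : Subgroup H)) : IsZGroup H := by
  obtain ⟨F, i1, i2, C, hC, ⟨e⟩⟩ := GStructB.TIComplement.exists_frobenius_core hTI hnn O hOcop htop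
  obtain ⟨hp, -⟩ := GStructB.TIComplement.complement_structure hC
  refine ⟨fun p hpp P => ?_⟩
  haveI := Fact.mk hpp
  let eP := (P : Subgroup H).equivMapOfInjective e.toMonoidHom e.injective
  rcases hp p hpp _ (P.2.map e.toMonoidHom) with h | ⟨n, ⟨f⟩⟩
  · exact eP.isCyclic.mpr h
  · let g := eP.trans f
    haveI : NeZero (2 ^ n) := ⟨by positivity⟩
    rcases n with - | n
    · refine g.isCyclic.mpr (isCyclic_of_orderOf_eq_card (QuaternionGroup.xa 0) ?_)
      rw [QuaternionGroup.orderOf_xa, Nat.card_eq_fintype_card, QuaternionGroup.card]; rfl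
    · exfalso
      have hp2 : p = 2 := by
        obtain ⟨k, hk⟩ := IsPGroup.iff_card.mp P.2
        have h4 : 2 ∣ p ^ k := by
          rw [← hk, Nat.card_congr g.toEquiv, Nat.card_eq_fintype_card, QuaternionGroup.card]
          exact ⟨2 * 2 ^ (n + 1), by ring⟩
        exact ((Nat.prime_dvd_prime_iff_eq Nat.prime_two hpp).mp (Nat.prime_two.dvd_of_dvd_pow h4)).symm
      subst hp2
      have hc := (h2 P).is_comm.comm (g.symm (QuaternionGroup.a 1)) (g.symm (QuaternionGroup.xa 0))
      rw [← map_mul, ← map_mul] at hc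
      have hc' := g.symm.injective hc
      rw [QuaternionGroup.a_mul_xa, QuaternionGroup.xa_mul_a] at hc'
      injection hc' with hc''
      have h2' : ((2 : ℕ) : ZMod (2 * 2 ^ (n + 1))) = 0 := by
        rw [zero_sub, zero_add] at hc''
        push_cast
        rw [show (2 : ZMod (2 * 2 ^ (n + 1))) = 1 + 1 by norm_num]
        nth_rewrite 1 [← hc'']
        exact neg_add_cancel 1
      rw [ZMod.natCast_eq_zero_iff] at h2'
      have := Nat.le_of_dvd two_pos h2'
      have : 2 ≤ 2 ^ (n + 1) := Nat.le_self_pow (by omega) 2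
      omega

/-- Let G be a finite group and H a non-normal subgroup meeting each of its conjugates by elements outside N_G(H) trivially, with the order of H coprime to its index in N_G(H), such that G is π-separable for π the set of primes dividing the order of H (G has a chain of normal subgroups from 1 to G each of whose factors has order divisible only by primes dividing the order of H or coprime to it). Suppose a Sylow 2-subgroup of H is abelian and Q is a complement of H in N_G(H). Then C_H(Q), the subgroup of elements of H commuting with Q, has order coprime to its index in G and has a normal complement in G. -/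
theorem result {G : Type*} [Group G] [Finite G] (H : Subgroup G)
    (hTI : Cfsg.IsTISubset (H : Set G)) (hnn : ¬ H.Normal)
    (hHall : (Nat.card H).Coprime (H.subgroupOf (Subgroup.normalizer (H : Set G))).index)
    (hsep : ∃ (n : ℕ) (M : Fin (n + 1) → Subgroup G), M 0 = ⊥ ∧ M (Fin.last n) = ⊤ ∧ Monotone M ∧ (∀ i, (M i).Normal) ∧
      ∀ i : Fin n, (∀ q : ℕ, q.Prime → q ∣ (M i.castSucc).relIndex (M i.succ) → q ∣ Nat.card H) ∨
        ((M i.castSucc).relIndex (M i.succ)).Coprime (Nat.card H))
    (h2 : ∀ P : Sylow 2 H, IsMulCommutative (P : Subgroup H))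
    (Q : Subgroup G) (hQ : Q ≤ Subgroup.normalizer (H : Set G)) (hQH : Q ⊓ H = ⊥) (hQH' : Q ⊔ H = Subgroup.normalizer (H : Set G)) :
    (Nat.card ↥(H ⊓ Subgroup.centralizer (Q : Set G))).Coprime (H ⊓ Subgroup.centralizer (Q : Set G)).index ∧
    ∃ N : Subgroup G, N.Normal ∧ N.IsComplement' (H ⊓ Subgroup.centralizer (Q : Set G)) := by
  obtain ⟨n, M, hM0, hMtop, -, hMn, hfac⟩ := hsep
  have hH1 : H ≠ ⊥ := fun h => hnn (h ▸ inferInstance)
  set O := sSup {K : Subgroup G | K.Normal ∧ (Nat.card K).Coprime (Nat.card H)} with hO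
  obtain ⟨hOn, hOcop, -⟩ := GStructB.TIComplement.coprimeCore_spec _ hO
  haveI := hOn
  obtain ⟨htop, -⟩ := GStructB.TIComplement.core_sup_normalizer hTI hH1 hHall M hM0 hMtop hMn hfac O hO
  haveI hZ := isZGroup_of_ti hTI hnn O hOcop htop h2
  set N := Subgroup.normalizer (H : Set G) with hN
  have hcopQ : (Nat.card Q).Coprime (Nat.card H) := by
    have hc : (H.subgroupOf N).IsComplement' (Q.subgroupOf N) := by
      haveI : (H.subgroupOf N).Normal := Subgroup.normal_in_normalizer
      refine Subgroup.isComplement'_of_disjoint_and_mul_eq_univ ?_ ?_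
      · rw [disjoint_iff, Subgroup.eq_bot_iff_forall]
        rintro x ⟨h1, h2⟩
        have h12 : (x : G) ∈ Q ⊓ H := ⟨h2, h1⟩
        rw [hQH, Subgroup.mem_bot] at h12
        exact Subtype.ext h12
      · rw [← Subgroup.normal_mul, ← Subgroup.subgroupOf_sup Subgroup.le_normalizer hQ, sup_comm,
          hQH', Subgroup.subgroupOf_self, Subgroup.coe_top]
    rw [← Nat.card_congr (Subgroup.subgroupOfEquivOfLe hQ).toEquiv, ← hc.symm.index_eq_card]
    exact hHall.symm
  set A := H ⊓ Subgroup.centralizer (Q : Set G) with hA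
  set D := ⁅H, Q⁆ with hD
  have hDH : D ≤ H := Coprime.commutator_le_of_le_normalizer hQ
  have hDA : (Nat.card A).Coprime (Nat.card D) := coprime_fixed_commutator hQ hcopQ
  have hH : D ⊔ A = H := Coprime.commutator_sup_inf_centralizer hQ hcopQ (Or.inr inferInstance)
  set K := D ⊔ Q with hK
  have hQD : Q ≤ Subgroup.normalizer (D : Set G) := Subgroup.normalizer_commutator_ge_right H Q
  have hHD : H ≤ Subgroup.normalizer (D : Set G) := Subgroup.normalizer_commutator_ge_left H Q
  have hHK : H ≤ Subgroup.normalizer (K : Set G) := by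
    rw [Subgroup.le_normalizer_iff]
    intro h hh k hk
    have h1 : K ≤ K.comap (MulAut.conj h).toMonoidHom := by
      refine sup_le (fun d hd => Subgroup.mem_sup_left ((Subgroup.le_normalizer_iff.mp hHD) h hh d hd))
        (fun q hq => ?_)
      show h * q * h⁻¹ ∈ K
      have : h * q * h⁻¹ = ⁅h, q⁆ * q := by rw [commutatorElement_def]; group
      rw [this]
      exact mul_mem (Subgroup.mem_sup_left (Subgroup.commutator_mem_commutator hh hq))
        (Subgroup.mem_sup_right hq)
    exact h1 hk
  have hNK : N ≤ Subgroup.normalizer (K : Set G) := by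
    rw [← hQH']
    exact sup_le (le_sup_right.trans Subgroup.le_normalizer) hHK
  have hn : (K ⊔ O).Normal := Subgroup.normalizer_eq_top_iff.mp (top_le_iff.mp (htop ▸ sup_le
    (le_sup_right.trans Subgroup.le_normalizer)
    ((le_inf hNK Subgroup.le_normalizer_of_normal).trans
      (Subgroup.normalizer_inf_normalizer_le_normalizer_sup K O))))
  have hAH : Nat.card A ∣ Nat.card H := Subgroup.card_dvd_of_le inf_le_left
  have hKcard : Nat.card K ∣ Nat.card D * Nat.card Q := by
    have hDQ : (Nat.card D).Coprime (Nat.card Q) :=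
      (hcopQ.symm).coprime_dvd_left (Subgroup.card_dvd_of_le hDH)
    rw [hK, Coprime.card_sup_of_coprime hQD hDQ]
  have hMcop : (Nat.card A).Coprime (Nat.card (K ⊔ O : Subgroup G)) := by
    refine Nat.Coprime.coprime_dvd_right ((Cores.card_sup_dvd_mul K O).trans
      (mul_dvd_mul hKcard dvd_rfl)) ?_
    exact ((hDA.mul_right (hcopQ.symm.coprime_dvd_left hAH)).mul_right
      (hOcop.symm.coprime_dvd_left hAH))
  have hc : (K ⊔ O).IsComplement' A := by
    haveI := hn
    refine Subgroup.isComplement'_of_disjoint_and_mul_eq_univ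
      (Coprime.disjoint_of_coprime hMcop.symm) ?_
    rw [← Subgroup.normal_mul]
    suffices h : K ⊔ O ⊔ A = ⊤ by rw [h, Subgroup.coe_top]
    rw [eq_top_iff, ← htop]
    refine sup_le (le_sup_right.trans le_sup_left) ?_
    rw [← hQH', ← hH]
    refine sup_le ((le_sup_right.trans le_sup_left).trans le_sup_left)
      (sup_le ((le_sup_left.trans le_sup_left).trans le_sup_left) le_sup_right)
  refine ⟨?_, K ⊔ O, hn, hc⟩
  rw [hc.index_eq_card]
  exact hMcop

end Cfsg.Agent.S4151
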