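import Cfsg.Statements.S4152
import Mathlib
import Cfsg.Agent.GStructB.PiCosetClasses

set_option autoImplicit false
open Cfsg

namespace Cfsg.Agent.S4152

/-- Let G be a finite group, N a normal subgroup and π a set of primes. Then the number of conjugacy classes of π-elements of G (elements whose order is divisible only by primes in π) is at most the number of conjugacy classes of π-elements of N (under conjugation by N) times the number of conjugacy classes of π-elements of G/N. -/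
theorem result {G : Type*} [Group G] [Finite G] (N : Subgroup G) [N.Normal] (π : Set ℕ) :
    Nat.card {C : ConjClasses G // ∀ q : ℕ, q.Prime → (∃ g : G, ConjClasses.mk g = C ∧ q ∣ orderOf g) → q ∈ π} ≤ Nat.card {C : ConjClasses N // ∀ q : ℕ, q.Prime → (∃ g : N, ConjClasses.mk g = C ∧ q ∣ orderOf g) → q ∈ π} * Nat.card {C : ConjClasses (G ⧸ N) // ∀ q : ℕ, q.Prime → (∃ g : (G ⧸ N), ConjClasses.mk g = C ∧ q ∣ orderOf g) → q ∈ π} := by
  classical
  have := Fintype.ofFinite G
  obtain ⟨e, d, hed, hed0, hiff⟩ := GStructB.PiCosetClasses.exists_exponents (Nat.card G) Nat.card_pos.ne' π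
  have hpi : ∀ {H : Type _} [Group H] (g : H), orderOf g ∣ Nat.card G →
      (g ^ e = g ↔ ∀ q : ℕ, q.Prime → q ∣ orderOf g → q ∈ π) := by
    intro H _ g hg
    rw [← hiff _ hg]
    conv_lhs => rw [← pow_one g, ← pow_mul, one_mul]
    exact pow_eq_pow_iff_modEq
  have h1 : ∀ g : G, g ^ e * g ^ d = g := fun g => by
    conv_rhs => rw [← pow_one g]
    rw [← pow_add, pow_eq_pow_iff_modEq]
    exact hed.of_dvd (orderOf_dvd_natCard g)
  have h2 : ∀ g : G, (g ^ e) ^ d = 1 := fun g => by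
    rw [← pow_mul, ← orderOf_dvd_iff_pow_eq_one, ← Nat.modEq_zero_iff_dvd]
    exact hed0.of_dvd (orderOf_dvd_natCard g)
  have hN : ∀ n : N, orderOf n ∣ Nat.card G := fun n => by
    rw [← Subgroup.orderOf_coe]; exact orderOf_dvd_natCard _
  have hQ : ∀ g : G ⧸ N, orderOf g ∣ Nat.card G := fun g =>
    (orderOf_dvd_natCard g).trans (Subgroup.card_quotient_dvd_card N)
  -- orbits in `N` inject into classes of `N`
  have hbase : Nat.card (MulAction.orbitRel.Quotient (GStructB.PiCosetClasses.conjN N)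
      (GStructB.PiCosetClasses.cosetSet N e 1)) ≤
      Nat.card {C : ConjClasses N // ∀ q : ℕ, q.Prime → (∃ g : N, ConjClasses.mk g = C ∧ q ∣ orderOf g) → q ∈ π} := by
    have hmem : ∀ y ∈ GStructB.PiCosetClasses.cosetSet N e 1, y ∈ N := fun y hy => by
      simpa using hy.2
    refine Nat.card_le_card_of_injective (fun o => ⟨ConjClasses.mk ⟨o.out.1, hmem _ o.out.2⟩, ?_⟩) ?_
    · rintro q hq ⟨g, hg, hqg⟩
      obtain ⟨c, hc⟩ := isConj_iff.mp (ConjClasses.mk_eq_mk_iff_isConj.mp hg)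
      refine (hpi g (hN g)).mp ?_ q hq hqg
      have ho : g = c⁻¹ * ⟨o.out.1, hmem _ o.out.2⟩ * c := by rw [← hc]; group
      rw [ho]
      refine Subtype.ext ?_
      simp only [Subgroup.coe_pow, Subgroup.coe_mul, Subgroup.coe_inv]
      conv_lhs => rw [show ((c : G)⁻¹ * o.out.1 * (c : G)) = (c : G)⁻¹ * o.out.1 * ((c : G)⁻¹)⁻¹ by group,
        conj_pow, o.out.2.1, inv_inv]
    · intro o o' h
      obtain ⟨c, hc⟩ := isConj_iff.mp (ConjClasses.mk_eq_mk_iff_isConj.mp (congrArg Subtype.val h))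
      rw [← Quotient.out_eq o, ← Quotient.out_eq o']
      refine (Quotient.sound ?_).symm
      refine ⟨⟨ConjAct.toConjAct (c : G), (GStructB.PiCosetClasses.mem_conjN N).mpr c.2⟩, Subtype.ext ?_⟩
      show ConjAct.toConjAct (c : G) • o.out.1 = o'.out.1
      rw [ConjAct.toConjAct_smul]
      exact congrArg Subtype.val hc
  let A := {C : ConjClasses G // ∀ q : ℕ, q.Prime → (∃ g : G, ConjClasses.mk g = C ∧ q ∣ orderOf g) → q ∈ π}
  let B := {C : ConjClasses (G ⧸ N) // ∀ q : ℕ, q.Prime → (∃ g : (G ⧸ N), ConjClasses.mk g = C ∧ q ∣ orderOf g) → q ∈ π}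
  have hA : ∀ (C : A) (g : G), ConjClasses.mk g = C.1 → g ^ e = g := fun C g hg =>
    (hpi g (orderOf_dvd_natCard g)).mpr fun q hq hqg => C.2 q hq ⟨g, hg, hqg⟩
  have hmap : ∀ C : A, ∀ q : ℕ, q.Prime → (∃ g : (G ⧸ N), ConjClasses.mk g =
      ConjClasses.map (QuotientGroup.mk' N) C.1 ∧ q ∣ orderOf g) → q ∈ π := by
    rintro C q hq ⟨g, hg, hqg⟩
    obtain ⟨a, ha⟩ := ConjClasses.exists_rep C.1
    rw [← ha] at hg
    obtain ⟨c, hc⟩ := isConj_iff.mp (ConjClasses.mk_eq_mk_iff_isConj.mp hg)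
    refine (hpi g (hQ g)).mp ?_ q hq hqg
    have ho : g = c⁻¹ * QuotientGroup.mk' N a * c⁻¹⁻¹ := by rw [← hc]; group
    rw [ho, conj_pow, ← map_pow, hA C a ha]
  let φ : A → B := fun C => ⟨ConjClasses.map (QuotientGroup.mk' N) C.1, hmap C⟩
  change Nat.card A ≤ _ * Nat.card B
  rw [← Nat.card_congr (Equiv.sigmaFiberEquiv φ)]
  have := Fintype.ofFinite B
  rw [Nat.card_sigma]
  refine (Finset.sum_le_card_nsmul _ _ _ fun β _ => ?_).trans
    (le_of_eq (by rw [smul_eq_mul, Finset.card_univ, ← Nat.card_eq_fintype_card, mul_comm]))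
  rcases isEmpty_or_nonempty {C : A // φ C = β} with hE | ⟨⟨C₀, hC₀⟩⟩
  · rw [Nat.card_of_isEmpty]; exact Nat.zero_le _
  obtain ⟨x, hx⟩ := ConjClasses.exists_rep C₀.1
  refine le_trans ?_ ((GStructB.PiCosetClasses.card_orbits_le N h1 h2 (hA C₀ x hx)).trans hbase)
  have hclass : ∀ C : {C : A // φ C = β}, ∃ y : GStructB.PiCosetClasses.cosetSet N e x, ConjClasses.mk y.1 = C.1.1 := by
    rintro ⟨C, hC⟩
    obtain ⟨a, ha⟩ := ConjClasses.exists_rep C.1
    have h3 : ConjClasses.mk (QuotientGroup.mk' N a) = ConjClasses.mk (QuotientGroup.mk' N x) := by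
      have := congrArg Subtype.val (hC.trans hC₀.symm)
      simp only [φ] at this
      rw [← ha, ← hx] at this
      exact this
    obtain ⟨c, hc⟩ := isConj_iff.mp (ConjClasses.mk_eq_mk_iff_isConj.mp h3)
    induction c using QuotientGroup.induction_on with
    | _ c =>
    refine ⟨⟨c * a * c⁻¹, by rw [conj_pow, hA C a ha], ?_⟩, ?_⟩
    · rw [← QuotientGroup.eq_one_iff, QuotientGroup.mk_mul, QuotientGroup.mk_inv]
      rw [inv_mul_eq_one]
      exact hc.symm
    · rw [← ha]
      exact (ConjClasses.mk_eq_mk_iff_isConj.mpr (isConj_iff.mpr ⟨c, rfl⟩)).symm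
  choose y hy using hclass
  refine Nat.card_le_card_of_injective (fun C => (Quotient.mk'' (y C) :
    MulAction.orbitRel.Quotient (GStructB.PiCosetClasses.conjN N) (GStructB.PiCosetClasses.cosetSet N e x))) ?_
  intro C C' h
  obtain ⟨a, ha⟩ := Quotient.exact h
  refine Subtype.ext (Subtype.ext ?_)
  rw [← hy C, ← hy C', ConjClasses.mk_eq_mk_iff_isConj, ← show a • (y C') = y C from ha]
  exact (isConj_iff.mpr ⟨ConjAct.ofConjAct a.1, rfl⟩).symm

end Cfsg.Agent.S4152
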