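import Cfsg.Statements.S4153
import Mathlib
import Cfsg.Agent.GStructB.PElements

set_option autoImplicit false
open Cfsg

namespace Cfsg.Agent.S4153

/-- Let G be a finite group, p a prime, N a normal subgroup, P a Sylow p-subgroup of G and P̄ a Sylow p-subgroup of G/N. Count the elements of p-power order, the identity included. Then (number of such elements of G/N)/#P̄ ≤ (number of such elements of G)/#P, stated as a cross-multiplied inequality, with equality when N is central. -/
theorem result {G : Type*} [Group G] [Finite G] (p : ℕ) [Fact p.Prime] (N : Subgroup G) [N.Normal]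
    (P : Sylow p G) (Pbar : Sylow p (G ⧸ N)) :
    Nat.card {g : (G ⧸ N) // ∃ k : ℕ, orderOf g = p ^ k} * Nat.card (P : Subgroup G) ≤ Nat.card {g : G // ∃ k : ℕ, orderOf g = p ^ k} * Nat.card (Pbar : Subgroup (G ⧸ N)) ∧
    (N ≤ Subgroup.center G → Nat.card {g : (G ⧸ N) // ∃ k : ℕ, orderOf g = p ^ k} * Nat.card (P : Subgroup G) = Nat.card {g : G // ∃ k : ℕ, orderOf g = p ^ k} * Nat.card (Pbar : Subgroup (G ⧸ N))) := by
  classical
  have hp := (Fact.out : p.Prime)
  have := Fintype.ofFinite G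
  set π := QuotientGroup.mk' N
  have hsurj : Function.Surjective π := QuotientGroup.mk'_surjective N
  -- order of the Sylow subgroup
  have hQ : Nat.card (P : Subgroup G) =
      Nat.card ↥((P : Subgroup G) ⊓ N) * Nat.card (Pbar : Subgroup (G ⧸ N)) := by
    have h1 : Nat.card (Pbar : Subgroup (G ⧸ N)) = Nat.card ↥((P : Subgroup G).map π) := by
      rw [Pbar.card_eq_multiplicity, ← (P.mapSurjective hsurj).card_eq_multiplicity]
      rfl
    rw [h1, ← Subgroup.relIndex_ker, QuotientGroup.ker_mk', ← Subgroup.inf_relIndex_left,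
      ← Subgroup.relIndex_bot_left, ← Subgroup.relIndex_bot_left,
      Subgroup.relIndex_mul_relIndex _ _ _ bot_le inf_le_left]
  have hmap : ∀ g : G, (∃ k, orderOf g = p ^ k) → ∃ k, orderOf (π g) = p ^ k := by
    rintro g ⟨k, hk⟩
    have h1 := orderOf_map_dvd π g
    rw [hk] at h1
    exact ((Nat.dvd_prime_pow hp).mp h1).imp fun i hi => hi.2
  let f : {g : G // ∃ k : ℕ, orderOf g = p ^ k} → {q : G ⧸ N // ∃ k : ℕ, orderOf q = p ^ k} :=
    fun g => ⟨π g.1, hmap g.1 g.2⟩
  -- the fibres
  have hfib : ∀ q, Nat.card ↥((P : Subgroup G) ⊓ N) ≤ Nat.card {g // f g = q} ∧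
      (N ≤ Subgroup.center G → Nat.card {g // f g = q} = Nat.card ↥((P : Subgroup G) ⊓ N)) := by
    rintro ⟨q, k, hk⟩
    obtain ⟨w, rfl⟩ := hsurj q
    obtain ⟨a, s, ha, hs, hsp⟩ := GStructB.PElements.exists_split p w
    obtain ⟨m, hm⟩ := exists_pow_eq_self_of_coprime (x := π w) (n := s)
      (by rw [hk]; exact ((hp.coprime_iff_not_dvd.mpr hs).pow_left k).symm)
    set x := (w ^ s) ^ m with hx
    have hxw : π x = π w := by rw [hx, map_pow, map_pow, hm]
    obtain ⟨b, hb⟩ : ∃ b, orderOf x = p ^ b := by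
      have h1 : orderOf x ∣ p ^ a := hsp ▸ orderOf_pow_dvd (x := w ^ s) m
      exact ((Nat.dvd_prime_pow hp).mp h1).imp fun i hi => hi.2
    obtain ⟨S, hS⟩ := GStructB.PElements.exists_mem_sylow hb
    have hcardS : Nat.card ↥((S : Subgroup G) ⊓ N) = Nat.card ↥((P : Subgroup G) ⊓ N) := by
      obtain ⟨c, rfl⟩ := MulAction.exists_smul_eq G P S
      have : ((c • P : Sylow p G) : Subgroup G) ⊓ N =
          ((P : Subgroup G) ⊓ N).map (MulAut.conj c).toMonoidHom := by
        rw [Subgroup.map_inf _ _ _ (MulAut.conj c).injective, Sylow.coe_subgroup_smul]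
        congr 1
        exact (Subgroup.mem_normalizer_iff_map_conj_eq.mp
          (by rw [Subgroup.normalizer_eq_top]; exact Subgroup.mem_top c)).symm
      rw [this, Subgroup.card_map_of_injective (MulAut.conj c).injective]
    have hin : ∀ u : ↥((S : Subgroup G) ⊓ N), (∃ e, orderOf (x * u) = p ^ e) ∧ π (x * u) = π w := by
      intro u
      refine ⟨GStructB.PElements.exists_orderOf_eq S.2 ((S : Subgroup G).mul_mem hS u.2.1), ?_⟩
      rw [map_mul, hxw, show π (u : G) = 1 from (QuotientGroup.eq_one_iff _).mpr u.2.2, mul_one]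
    let ι : ↥((S : Subgroup G) ⊓ N) → {g // f g = ⟨π w, k, hk⟩} := fun u =>
      ⟨⟨x * u, (hin u).1⟩, Subtype.ext (hin u).2⟩
    have hι : Function.Injective ι := fun u v h => by
      have : x * (u : G) = x * v := congrArg (fun g => g.1.1) h
      exact Subtype.ext (mul_left_cancel this)
    refine ⟨hcardS ▸ Nat.card_le_card_of_injective ι hι, fun hc => ?_⟩
    rw [← hcardS]
    refine (Nat.card_congr (Equiv.ofBijective ι ⟨hι, ?_⟩)).symm
    rintro ⟨⟨g, e, he⟩, hg⟩
    have hg' : π g = π x := (congrArg Subtype.val hg).trans hxw.symm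
    have hu : x⁻¹ * g ∈ N := QuotientGroup.eq.mp hg'.symm
    have hu' : IsPGroup p ↥(Subgroup.zpowers (x⁻¹ * g)) := by
      have h2 : Commute x⁻¹ g := by
        have h3 : Commute x (x⁻¹ * g) := Subgroup.mem_center_iff.mp (hc hu) x
        have : Commute x g := by simpa using (Commute.refl x).mul_right h3
        exact this.inv_left
      have h4 : orderOf (x⁻¹ * g) ∣ p ^ (b + e) := by
        refine h2.orderOf_mul_dvd_mul_orderOf.trans ?_
        rw [orderOf_inv, hb, he, pow_add]
      obtain ⟨i, -, hi⟩ := (Nat.dvd_prime_pow hp).mp h4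
      exact GStructB.PElements.isPGroup_zpowers hi
    have hmemS : x⁻¹ * g ∈ (S : Subgroup G) := by
      have h5 := S.3 (hu'.to_sup_of_normal_right' S.2 (Subgroup.zpowers_le.mpr (by
        rw [Subgroup.mem_normalizer_iff]
        intro z
        rw [← Subgroup.mem_center_iff.mp (hc hu) z, mul_inv_cancel_right]))) le_sup_right
      exact h5 ▸ Subgroup.mem_sup_left (Subgroup.mem_zpowers _)
    exact ⟨⟨_, hmemS, hu⟩, Subtype.ext (Subtype.ext (mul_inv_cancel_left x g))⟩
  have hsum : Nat.card {g : G // ∃ k : ℕ, orderOf g = p ^ k} =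
      ∑ q : {q : G ⧸ N // ∃ k : ℕ, orderOf q = p ^ k}, Nat.card {g // f g = q} := by
    rw [← Nat.card_sigma]
    exact Nat.card_congr (Equiv.sigmaFiberEquiv f).symm
  have hcnt : ∀ n : ℕ, Nat.card {q : G ⧸ N // ∃ k : ℕ, orderOf q = p ^ k} * n =
      ∑ _q : {q : G ⧸ N // ∃ k : ℕ, orderOf q = p ^ k}, n := by
    intro n
    rw [Finset.sum_const, Finset.card_univ, Nat.card_eq_fintype_card, smul_eq_mul]
  rw [hQ, hsum, ← mul_assoc, hcnt]
  refine ⟨Nat.mul_le_mul_right _ (Finset.sum_le_sum fun q _ => (hfib q).1), fun hc => ?_⟩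
  rw [Finset.sum_congr rfl fun q _ => (hfib q).2 hc]

end Cfsg.Agent.S4153
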