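import Cfsg.Statements.S4154

set_option autoImplicit false
open Cfsg

namespace Cfsg.Agent.S4154

/-- Let G be a finite group and α an automorphism of G such that every element of G is the product of an element fixed by α and an element of the form g⁻¹α(g). If N is a normal α-invariant subgroup, then the automorphism ᾱ induced on G/N has the same property, and every coset fixed by ᾱ contains an element fixed by α (so the fixed points of ᾱ are the images of the fixed points of α). -/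
theorem result {G : Type*} [Group G] [Finite G] (α : MulAut G)
    (hccp : ∀ x : G, ∃ c g : G, α c = c ∧ x = c * (g⁻¹ * α g))
    (N : Subgroup G) [N.Normal] (hN : ∀ n ∈ N, α n ∈ N) :
    (∀ x : G, ∃ c g : G, c⁻¹ * α c ∈ N ∧ x⁻¹ * (c * (g⁻¹ * α g)) ∈ N) ∧
    (∀ x : G, x⁻¹ * α x ∈ N → ∃ c : G, α c = c ∧ c⁻¹ * x ∈ N) := by
  refine ⟨fun x => ?_, fun x hx => ?_⟩
  · obtain ⟨c, g, hc, rfl⟩ := hccp x
    exact ⟨c, g, by rw [hc, inv_mul_cancel]; exact one_mem _,
      by rw [inv_mul_cancel]; exact one_mem _⟩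
  classical
  let C : Subgroup G := α.toMonoidHom.eqLocus (MonoidHom.id G)
  let π := QuotientGroup.mk' N
  have hπ : ∀ a b : G, π a = π b ↔ a⁻¹ * b ∈ N := fun a b => QuotientGroup.eq
  let D : Subgroup (G ⧸ N) := C.map π
  let F : Subgroup (G ⧸ N) :=
    { carrier := {q | ∃ y : G, π y = q ∧ y⁻¹ * α y ∈ N}
      one_mem' := ⟨1, map_one _, by simp⟩
      mul_mem' := by
        rintro _ _ ⟨y, rfl, hy⟩ ⟨z, rfl, hz⟩
        refine ⟨y * z, map_mul _ _ _, ?_⟩
        have h1 := ‹N.Normal›.conj_mem _ hy z⁻¹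
        rw [inv_inv] at h1
        have := mul_mem h1 hz
        rw [map_mul]
        convert this using 1
        group
      inv_mem' := by
        rintro _ ⟨y, rfl, hy⟩
        refine ⟨y⁻¹, map_inv _ _, ?_⟩
        have := ‹N.Normal›.conj_mem _ (inv_mem hy) y
        rw [map_inv]
        convert this using 1
        group }
  have hDF : D ≤ F := by
    rintro _ ⟨c, hc, rfl⟩
    refine ⟨c, rfl, ?_⟩
    have hc' : α c = c := hc
    simp [hc']
  have hcomm : ∀ g₁ g₂ : G, π g₁ * (π g₂)⁻¹ ∈ F →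
      π (g₁⁻¹ * α g₁) = π (g₂⁻¹ * α g₂) := by
    rintro g₁ g₂ ⟨y, hy, hyN⟩
    rw [eq_mul_inv_iff_mul_eq, ← map_mul, hπ] at hy
    obtain ⟨n, hn, rfl⟩ : ∃ n ∈ N, g₁ = y * g₂ * n := ⟨_, hy, by group⟩
    have e1 : π n = 1 := (QuotientGroup.eq_one_iff _).mpr hn
    have e2 : π (α n) = 1 := (QuotientGroup.eq_one_iff _).mpr (hN n hn)
    have e3 : (π y)⁻¹ * π (α y) = 1 := by
      rw [← map_inv, ← map_mul]; exact (QuotientGroup.eq_one_iff _).mpr hyN
    simp only [map_mul, map_inv, mul_inv_rev, e1, e2, inv_one, one_mul, mul_one]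
    rw [mul_assoc (π g₂)⁻¹, ← mul_assoc (π y)⁻¹, e3, one_mul]
  have hrep : ∀ g, π (Quotient.out (QuotientGroup.mk (π g)⁻¹ : (G ⧸ N) ⧸ F))⁻¹.out =
      (Quotient.out (QuotientGroup.mk (π g)⁻¹ : (G ⧸ N) ⧸ F))⁻¹ := fun g => Quotient.out_eq _
  let Ψ : D × ((G ⧸ N) ⧸ F) → G ⧸ N := fun z =>
    z.1.1 * π ((Quotient.out z.2)⁻¹.out⁻¹ * α (Quotient.out z.2)⁻¹.out)
  have hΨ : Function.Surjective Ψ := by
    intro q
    obtain ⟨y, rfl⟩ := QuotientGroup.mk'_surjective N q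
    obtain ⟨c, g, hc, rfl⟩ := hccp y
    refine ⟨(⟨π c, ⟨c, hc, rfl⟩⟩, QuotientGroup.mk (π g)⁻¹), ?_⟩
    simp only [Ψ, π, map_mul (QuotientGroup.mk' N) c]
    congr 1
    refine hcomm _ g ?_
    rw [hrep g]
    have h := QuotientGroup.out_eq' (QuotientGroup.mk (π g)⁻¹ : (G ⧸ N) ⧸ F)
    rw [QuotientGroup.eq] at h
    exact h
  have h1 := Nat.card_le_card_of_surjective Ψ hΨ
  rw [Nat.card_prod, Subgroup.card_eq_card_quotient_mul_card_subgroup F] at h1
  have h2 : Nat.card F ≤ Nat.card D :=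
    Nat.le_of_mul_le_mul_left (h1.trans (mul_comm _ _).le) Nat.card_pos
  have hx' : π x ∈ F := ⟨x, rfl, hx⟩
  rw [← Subgroup.eq_of_le_of_card_ge hDF h2] at hx'
  obtain ⟨c, hc, hcx⟩ := hx'
  exact ⟨c, hc, (hπ c x).mp hcx⟩

end Cfsg.Agent.S4154
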