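import Cfsg.Statements.S4155
import Mathlib
import Cfsg.Agent.GStructB.EqualOrderCoset
import Cfsg.Agent.Lib.Coprime.FixedPointFree

set_option autoImplicit false
open Cfsg

namespace Cfsg.Agent.S4155
open scoped commutatorElement

/-- Let G be a finite group and N a proper non-trivial normal nilpotent subgroup whose order is not a prime power, such that for every x outside N all elements of the coset xN have the same order as x. Then N is the Fitting subgroup of G, and for every prime q every Sylow q-subgroup of G/N is cyclic or generalized quaternion. -/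
theorem result {G : Type*} [Group G] [Finite G] (N : Subgroup G) [N.Normal] (hN1 : N ≠ ⊥) (hN2 : N ≠ ⊤)
    (heq : ∀ x : G, x ∉ N → ∀ n ∈ N, orderOf (x * n) = orderOf x)
    (hnil : Group.IsNilpotent N) (hnpp : ¬ IsPrimePow (Nat.card N)) :
    N = Cfsg.fittingSubgroup G ∧
    ∀ (q : ℕ) [Fact q.Prime] (Q : Sylow q (G ⧸ N)), IsCyclic (Q : Subgroup (G ⧸ N)) ∨ ∃ n : ℕ, Nonempty ((Q : Subgroup (G ⧸ N)) ≃* QuaternionGroup (2 ^ n)) := by
  classical
  have hF : Cfsg.fittingSubgroup G ≤ N := by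
    by_contra h
    obtain ⟨p, hp, hNp, -, -⟩ := GStructB.EqualOrderCoset.fitting_cases N heq h
    haveI := Fact.mk hp
    obtain ⟨k, hk⟩ := hNp.exists_card_eq
    refine hnpp ((isPrimePow_nat_iff _).mpr ⟨p, k, hp, Nat.pos_of_ne_zero fun h0 => hN1 ?_, hk.symm⟩)
    rw [h0, pow_zero] at hk
    exact Subgroup.card_eq_one.mp hk
  refine ⟨le_antisymm (Cores.le_fittingSubgroup hnil) hF, ?_⟩
  intro q _ Q
  have hq := (Fact.out : q.Prime)
  -- elements of prime power order of `N` lie in the cores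
  have hcore : ∀ (r : ℕ) [Fact r.Prime] (y : G), y ∈ N → (∃ k, orderOf y = r ^ k) → y ∈ Cfsg.pCore r G := by
    intro r _ y hy ⟨k, hk⟩
    obtain ⟨R, hR⟩ := (IsPGroup.of_card (n := k) (by rw [Nat.card_zpowers, Subgroup.orderOf_mk, hk]) :
      IsPGroup r (Subgroup.zpowers (⟨y, hy⟩ : N))).exists_le_sylow
    haveI : (R : Subgroup N).Characteristic := R.characteristic_of_normal inferInstance
    exact Cores.le_pCore (R.2.map N.subtype) ⟨_, hR (Subgroup.mem_zpowers _), rfl⟩
  obtain ⟨r, hr, hrd, hrq⟩ : ∃ r, r.Prime ∧ r ∣ Nat.card N ∧ r ≠ q := by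
    by_contra h
    push Not at h
    have h1 := Nat.eq_prime_pow_of_unique_prime_dvd (n := Nat.card N) Nat.card_pos.ne' fun {d} hd hdd => h d hd hdd
    refine hnpp ((isPrimePow_nat_iff _).mpr ⟨q, _, hq, Nat.pos_of_ne_zero fun h0 => hN1 ?_, h1.symm⟩)
    exact Subgroup.card_eq_one.mp (by rw [h1, h0, pow_zero])
  haveI := Fact.mk hr
  obtain ⟨m, hm⟩ := exists_prime_orderOf_dvd_card' r hrd
  set R := Cfsg.pCore r G ⊓ N with hR
  set D := Cfsg.pCore q G ⊓ N with hD
  have hmR : (m : G) ∈ R := ⟨hcore r m m.2 ⟨1, by rw [pow_one, Subgroup.orderOf_coe, hm]⟩, m.2⟩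
  obtain ⟨Q₀, hQ₀⟩ := Sylow.mapSurjective_surjective (QuotientGroup.mk'_surjective N) q Q
  rw [← hQ₀]
  set f := QuotientGroup.mk' D with hf
  have hkerD : ∀ x ∈ (Q₀ : Subgroup G), x ∈ N ↔ x ∈ D := by
    intro x hx
    refine ⟨fun h => ⟨hcore q x h ?_, h⟩, fun h => h.2⟩
    obtain ⟨k, hk⟩ := IsPGroup.iff_orderOf.mp Q₀.2 ⟨x, hx⟩
    exact ⟨k, by rwa [Subgroup.orderOf_mk] at hk⟩
  have e : (Q₀ : Subgroup G).map f ≃* (Q₀ : Subgroup G).map (QuotientGroup.mk' N) := by
    have hker : (f.subgroupMap (Q₀ : Subgroup G)).ker = ((QuotientGroup.mk' N).subgroupMap (Q₀ : Subgroup G)).ker := by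
      ext x
      simp only [MonoidHom.mem_ker, Subtype.ext_iff]
      show (QuotientGroup.mk' D (x : G) = 1) ↔ QuotientGroup.mk' N (x : G) = 1
      rw [QuotientGroup.mk'_apply, QuotientGroup.eq_one_iff, QuotientGroup.mk'_apply, QuotientGroup.eq_one_iff]
      exact (hkerD x x.2).symm
    exact (QuotientGroup.quotientKerEquivOfSurjective _ (MonoidHom.subgroupMap_surjective f _)).symm.trans
      ((QuotientGroup.quotientMulEquivOfEq hker).trans
        (QuotientGroup.quotientKerEquivOfSurjective _ (MonoidHom.subgroupMap_surjective _ _)))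
  have hRN : (R.map f).Normal := Subgroup.Normal.map inferInstance f (QuotientGroup.mk'_surjective D)
  have hRD : ∀ w : G, w ∈ R → w ∈ D → w = 1 := fun w h1 h2 =>
    Subgroup.mem_bot.mp ((IsPGroup.disjoint_of_ne r q hrq _ _ (Cores.pCore_isPGroup r)
      (Cores.pCore_isPGroup q)).le_bot ⟨h1.1, h2.1⟩)
  have hRne : R.map f ≠ ⊥ := fun h => by
    have h2 : f (m : G) = 1 := by
      rw [← Subgroup.mem_bot, ← h]; exact ⟨_, hmR, rfl⟩
    have h3 := hRD _ hmR ((QuotientGroup.eq_one_iff (m : G)).mp h2)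
    rw [← Subgroup.orderOf_coe, h3, orderOf_one] at hm
    exact hr.ne_one hm.symm
  rcases Coprime.fpf_isCyclic_or_quaternion (Q₀.2.map f) (K := R.map f)
    (by rw [Subgroup.normalizer_eq_top]; exact le_top)
    (fun a ha ha1 => by
      rw [Subgroup.eq_bot_iff_forall]
      rintro z ⟨hz, hzc⟩
      obtain ⟨n, hn, rfl⟩ := hz
      obtain ⟨x, hx, rfl⟩ := ha
      have hc : f ⁅x, n⁆ = 1 := by
        rw [map_commutatorElement]
        exact commutatorElement_eq_one_iff_mul_comm.mpr (Subgroup.mem_centralizer_singleton_iff.mp hzc).symm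
      have hxN : x ∉ N := fun h => ha1 ((QuotientGroup.eq_one_iff x).mpr ((hkerD x hx).mp h))
      have h1 : ⁅x, n⁆ = 1 := by
        refine hRD _ ?_ ((QuotientGroup.eq_one_iff _).mp hc)
        rw [commutatorElement_def]
        exact mul_mem ((inferInstance : R.Normal).conj_mem n hn x) (inv_mem hn)
      have hcomm : Commute x n := commutatorElement_eq_one_iff_mul_comm.mp h1
      obtain ⟨i, hi⟩ := IsPGroup.iff_orderOf.mp Q₀.2 ⟨x, hx⟩
      obtain ⟨j, hj⟩ := IsPGroup.iff_orderOf.mp (Cores.pCore_isPGroup (G := G) r) ⟨n, hn.1⟩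
      rw [Subgroup.orderOf_mk] at hi hj
      have h2 := heq x hxN n hn.2
      rw [hcomm.orderOf_mul_eq_mul_orderOf_of_coprime (by
        rw [hi, hj]; exact Nat.Coprime.pow _ _ ((Nat.coprime_primes hq hr).mpr (Ne.symm hrq)))] at h2
      have h3 : orderOf n = 1 := by
        have := orderOf_pos x
        nlinarith
      rw [orderOf_eq_one_iff.mp h3, map_one]) hRne with hc | ⟨-, k, ⟨g⟩⟩
  · left
    rw [Sylow.coe_mapSurjective]
    exact e.isCyclic.mp hc
  · right
    rw [Sylow.coe_mapSurjective]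
    exact ⟨k, ⟨e.symm.trans g⟩⟩

end Cfsg.Agent.S4155
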