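import Cfsg.Statements.S4156
import Mathlib

set_option autoImplicit false
open Cfsg

namespace Cfsg.Agent.S4156

/-- Let n ≥ 5 and F a finite field. Then the projective special linear group PSL_n(F) contains a subgroup isomorphic to the alternating group of degree n + 1. -/
theorem result (n : ℕ) (hn : 5 ≤ n) (F : Type*) [Field F] [Finite F] :
    ∃ f : alternatingGroup (Fin (n + 1)) →* Matrix.ProjectiveSpecialLinearGroup (Fin n) F, Function.Injective f := by
  classical
  let A := alternatingGroup (Fin (n + 1))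
  have : IsSimpleGroup A := alternatingGroup.isSimpleGroup (by rw [Nat.card_fin]; omega)
  let C : Fin (n + 1) → Fin n → F := fun k j =>
    (if k = j.castSucc then 1 else 0) - (if k = Fin.last n then 1 else 0)
  let M : Equiv.Perm (Fin (n + 1)) → Matrix (Fin n) (Fin n) F := fun σ =>
    Matrix.of fun i j => C (σ.symm i.castSucc) j
  have hsum : ∀ j, ∑ k, C k j = 0 := fun j => by
    simp [C, Finset.sum_sub_distrib]
  have hcc : ∀ i l : Fin n, C i.castSucc l = if i = l then 1 else 0 := fun i l => by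
    simp [C, Fin.castSucc_inj, Fin.castSucc_ne_last]
  have hC : ∀ σ k j, C (σ.symm k) j = ∑ i, C k i * M σ i j := by
    intro σ k j
    induction k using Fin.lastCases with
    | last =>
      have h1 : ∀ i : Fin n, C (Fin.last n) i = -1 := fun i => by
        simp [C, (Fin.castSucc_ne_last i).symm]
      have h2 : ∑ k, C (σ.symm k) j = 0 := by rw [Equiv.sum_comp σ.symm (fun k => C k j)]; exact hsum j
      rw [Fin.sum_univ_castSucc, add_comm] at h2
      simp only [h1, M, Matrix.of_apply, neg_one_mul, Finset.sum_neg_distrib]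
      exact eq_neg_of_add_eq_zero_left h2
    | cast i => simp [hcc, M]
  have hmul : ∀ σ τ, M (σ * τ) = M σ * M τ := by
    intro σ τ
    ext i j
    rw [Matrix.mul_apply]
    exact hC τ (σ.symm i.castSucc) j
  have hone : M 1 = 1 := by
    ext i j
    rw [Matrix.one_apply]
    exact hcc i j
  let μ : Equiv.Perm (Fin (n + 1)) →* Matrix (Fin n) (Fin n) F :=
    { toFun := M, map_one' := hone, map_mul' := hmul }
  let δ : A →* F := (Matrix.detMonoidHom.comp μ).comp A.subtype
  have hδ : ∀ a : A, δ a = 1 := by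
    have hk : δ.ker = ⊤ := by
      refine (Subgroup.Normal.eq_bot_or_eq_top inferInstance).resolve_left fun hb => ?_
      have hinj := (δ.ker_eq_bot_iff).mp hb
      have : ∀ a b : A, a * b = b * a := fun a b => hinj (by rw [map_mul, map_mul, mul_comm])
      obtain ⟨a, b, hab⟩ : ∃ a b : A, a * b ≠ b * a := by
        by_contra! hc
        have h5 : IsMulCommutative A := ⟨⟨fun a b => hc a b⟩⟩
        let a : A := ⟨Equiv.swap (0 : Fin (n + 1)) ⟨1, by omega⟩ * Equiv.swap ⟨1, by omega⟩ ⟨2, by omega⟩,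
          Equiv.Perm.mem_alternatingGroup.mpr (by simp [Equiv.Perm.sign_swap, Fin.ext_iff])⟩
        let b : A := ⟨Equiv.swap (0 : Fin (n + 1)) ⟨1, by omega⟩ * Equiv.swap ⟨1, by omega⟩ ⟨3, by omega⟩,
          Equiv.Perm.mem_alternatingGroup.mpr (by simp [Equiv.Perm.sign_swap, Fin.ext_iff])⟩
        have h6 := congrArg (fun e : A => (e : Equiv.Perm (Fin (n + 1))) 0) (hc a b)
        simp [a, b, Equiv.swap_apply_def, Fin.ext_iff] at h6
      exact hab (this a b)
    intro a
    exact MonoidHom.mem_ker.mp (hk ▸ Subgroup.mem_top a)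
  let h : A →* Matrix.SpecialLinearGroup (Fin n) F :=
    { toFun := fun a => ⟨M a, hδ a⟩
      map_one' := Subtype.ext hone
      map_mul' := fun a b => Subtype.ext (hmul a b) }
  refine ⟨(QuotientGroup.mk' _).comp h, ?_⟩
  rw [← MonoidHom.ker_eq_bot_iff]
  refine (Subgroup.Normal.eq_bot_or_eq_top inferInstance).resolve_right fun htop => ?_
  let a : A := ⟨Equiv.swap (0 : Fin (n + 1)) ⟨1, by omega⟩ * Equiv.swap ⟨1, by omega⟩ ⟨2, by omega⟩,
    Equiv.Perm.mem_alternatingGroup.mpr (by simp [Equiv.Perm.sign_swap, Fin.ext_iff])⟩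
  have ha : h a ∈ Subgroup.center _ := (QuotientGroup.eq_one_iff _).mp
    (show (QuotientGroup.mk' _).comp h a = 1 from MonoidHom.mem_ker.mp (htop ▸ Subgroup.mem_top a))
  obtain ⟨r, -, hr⟩ := Matrix.SpecialLinearGroup.mem_center_iff.mp ha
  have h1 : Matrix.scalar (Fin n) r ⟨0, by omega⟩ ⟨2, by omega⟩ = M a ⟨0, by omega⟩ ⟨2, by omega⟩ :=
    congrFun (congrFun hr ⟨0, by omega⟩) ⟨2, by omega⟩
  simp [M, C, a, Matrix.scalar_apply, Matrix.diagonal, Fin.ext_iff, Equiv.swap_apply_def, Equiv.Perm.mul_def] at h1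
  simp [show (2 : ℕ) ≠ n by omega] at h1

end Cfsg.Agent.S4156
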