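import Cfsg.Statements.S4169
import Mathlib
import Cfsg.Agent.GStructB.MinClass
import Cfsg.Agent.Lib.PGroups.AbelianNormal

set_option autoImplicit false
open Cfsg

namespace Cfsg.Agent.S4169

/-- Let P be a finite p-group whose conjugacy classes have exactly two sizes (1 and one other value). Then P has nilpotency class at most 3. -/
theorem result {P : Type*} [Group P] [Finite P] {p : ℕ} [Fact p.Prime] (hP : IsPGroup p P)
    (m : ℕ) (hm : 1 < m) (h : ∀ x : P, (Subgroup.centralizer ({x} : Set P)).index = 1 ∨ (Subgroup.centralizer ({x} : Set P)).index = m) :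
    upperCentralSeries P 3 = ⊤ := by
  classical
  obtain ⟨A, -, ⟨hAn, hAc⟩, hmax⟩ := exists_maximal_ge_of_wellFoundedGT
    (fun B : Subgroup P => B.Normal ∧ IsMulCommutative B) ⊥ ⟨inferInstance, inferInstance⟩
  have hCA := PGroups.AbelianNormal.centralizer_eq_self hP A
    (fun B h1 h2 h3 => le_antisymm (hmax ⟨h1, h2⟩ h3) h3)
  have h3 := GStructB.MinClass.upperCentralSeries_three A hAc hCA m
    (fun y hy => by
      rcases h y with h' | h'
      · omega
      · omega) ⊤ (fun x _ => Subgroup.subset_closure (h x))
  have := hP.isNilpotent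
  have : Group.IsNilpotent ↥(⊤ : Subgroup P) := (hP.to_subgroup ⊤).isNilpotent
  rw [Subgroup.upperCentralSeries_eq_top_iff_nilpotencyClass_le] at h3
  show Subgroup.upperCentralSeries P 3 = ⊤
  rw [Subgroup.upperCentralSeries_eq_top_iff_nilpotencyClass_le]
  exact (Group.nilpotencyClass_le_of_surjective (Subgroup.topEquiv (G := P)).toMonoidHom
    Subgroup.topEquiv.surjective).trans h3

end Cfsg.Agent.S4169
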