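import Cfsg.Statements.S4170
import Mathlib
-- import your own Cfsg.Agent.* helpers here

set_option autoImplicit false
open scoped Pointwise
open Cfsg

namespace Cfsg.Agent.S4170

/-- Let p be an odd prime and G a nontrivial group of permutations of a finite set Ω that is generated by its elements of p-power order. Then Ω has two disjoint nonempty subsets Δ₁ and Δ₂ such that the index in G of the subgroup of elements mapping Δ₁ onto Δ₁ and Δ₂ onto Δ₂ (and hence also the complement of their union onto itself) is divisible by p. -/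
theorem result {Ω : Type*} [Fintype Ω] (p : ℕ) [Fact p.Prime] (hp : p ≠ 2) (G : Subgroup (Equiv.Perm Ω)) (hG : G ≠ ⊥) (hgen : Subgroup.closure {g : G | ∃ k : ℕ, orderOf g = p ^ k} = ⊤) :
    ∃ Δ₁ Δ₂ : Set Ω, Δ₁.Nonempty ∧ Δ₂.Nonempty ∧ Disjoint Δ₁ Δ₂ ∧ p ∣ (MulAction.stabilizer G Δ₁ ⊓ MulAction.stabilizer G Δ₂).index := by
  classical
  obtain ⟨g, ⟨k, hk⟩, hg1⟩ : ∃ g : G, (∃ k : ℕ, orderOf g = p ^ k) ∧ g ≠ 1 := by
    by_contra hne
    push Not at hne
    have hb : Subgroup.closure {g : G | ∃ k : ℕ, orderOf g = p ^ k} = ⊥ :=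
      Subgroup.closure_eq_bot_iff.2 fun g hg => hne g hg
    rw [hgen] at hb
    apply hG
    rw [Subgroup.eq_bot_iff_forall]
    intro g hg
    have h1 : (⟨g, hg⟩ : G) ∈ (⊥ : Subgroup G) := hb ▸ Subgroup.mem_top _
    simpa using congrArg Subtype.val (Subgroup.mem_bot.1 h1)
  have hpG : p ∣ Nat.card G := by
    have hk0 : k ≠ 0 := fun h0 => hg1 (orderOf_eq_one_iff.1 (by rw [hk, h0, pow_zero]))
    exact ((dvd_pow_self p hk0).trans (hk ▸ dvd_rfl)).trans (orderOf_dvd_natCard g)
  obtain ⟨x, hx⟩ := exists_prime_orderOf_dvd_card' (G := G) p hpG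
  obtain ⟨a, ha⟩ : ∃ a, (x : Equiv.Perm Ω) a ≠ a := by
    by_contra hne
    push Not at hne
    have hx1 : x = 1 := Subtype.ext (Equiv.ext hne)
    rw [hx1, orderOf_one] at hx
    exact (Fact.out : p.Prime).one_lt.ne hx
  let C : Set Ω := MulAction.orbit (Subgroup.zpowers x) a
  have haC : a ∈ C := MulAction.mem_orbit_self a
  have hxa : x • a ∈ C := ⟨⟨x, Subgroup.mem_zpowers x⟩, rfl⟩
  have hxa' : x • a ≠ a := ha
  have hC : Nat.card C = p := by
    have h1 : Nat.card C ∣ p := by
      have h2 := Nat.card_congr (MulAction.orbitProdStabilizerEquivGroup (Subgroup.zpowers x) a)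
      rw [Nat.card_prod, Nat.card_zpowers, hx] at h2
      exact Dvd.intro _ h2
    rcases (Nat.dvd_prime Fact.out).1 h1 with h | h
    · exfalso
      have := (Nat.card_eq_one_iff_unique.1 h).1
      exact hxa' (congrArg Subtype.val (Subsingleton.elim (⟨x • a, hxa⟩ : C) ⟨a, haC⟩))
    · exact h
  refine ⟨C \ {a}, {a}, ⟨x • a, hxa, hxa'⟩, Set.singleton_nonempty a, Set.disjoint_sdiff_left, ?_⟩
  by_contra hS
  set S := MulAction.stabilizer G (C \ {a}) ⊓ MulAction.stabilizer G ({a} : Set Ω) with hSdef
  let K : Subgroup G := fixingSubgroup G C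
  -- first: p divides the index of the pointwise stabiliser of C
  have hxT : x ∈ MulAction.stabilizer G C := by
    rw [MulAction.mem_stabilizer_iff]
    exact MulAction.smul_orbit (⟨x, Subgroup.mem_zpowers x⟩ : Subgroup.zpowers x) a
  have hKT : K ≤ MulAction.stabilizer G C := by
    intro t ht
    have ht' : ∀ y ∈ C, t • y = y := (mem_fixingSubgroup_iff G).1 ht
    show t • C = C
    ext y
    constructor
    · rintro ⟨z, hz, rfl⟩
      show t • z ∈ C
      rw [ht' z hz]
      exact hz
    · exact fun hy => ⟨y, hy, ht' y hy⟩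
  have hpK : p ∣ K.index := by
    rw [← Subgroup.relIndex_mul_index hKT]
    refine Dvd.dvd.mul_right ?_ _
    let φ := MulAction.toPermHom (MulAction.stabilizer G C) C
    have hker : φ.ker = K.subgroupOf (MulAction.stabilizer G C) := by
      ext t
      simp only [φ, MonoidHom.mem_ker, Subgroup.mem_subgroupOf, K, mem_fixingSubgroup_iff]
      constructor
      · intro ht y hy
        exact congrArg Subtype.val (Equiv.congr_fun ht ⟨y, hy⟩)
      · intro ht
        ext ⟨y, hy⟩
        exact ht y hy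
    have h1 : p ∣ Nat.card φ.range := by
      have hne : φ ⟨x, hxT⟩ ≠ 1 := fun h1 =>
        hxa' (congrArg Subtype.val (Equiv.congr_fun h1 ⟨a, haC⟩))
      have h2 : orderOf (φ ⟨x, hxT⟩) ∣ p :=
        (orderOf_map_dvd φ _).trans (by rw [← Subgroup.orderOf_coe]; exact hx ▸ dvd_rfl)
      rcases (Nat.dvd_prime Fact.out).1 h2 with h | h
      · exact absurd (orderOf_eq_one_iff.1 h) hne
      · rw [← h]
        exact Subgroup.orderOf_dvd_natCard φ.range ⟨_, rfl⟩
    rwa [Subgroup.relIndex, ← hker, Subgroup.index_ker]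
  -- second: it does not
  have hfixa : ∀ t ∈ S, t • a = a := by
    intro t ht
    have h1 : t • ({a} : Set Ω) = {a} := ht.2
    rwa [Set.smul_set_singleton, Set.singleton_eq_singleton_iff] at h1
  have hKS : K ≤ S := by
    intro t ht
    have ht' : ∀ y ∈ C, t • y = y := (mem_fixingSubgroup_iff G).1 ht
    constructor
    · show t • (C \ {a}) = C \ {a}
      ext y
      constructor
      · rintro ⟨z, hz, rfl⟩
        show t • z ∈ C \ {a}
        rw [ht' z hz.1]
        exact hz
      · exact fun hy => ⟨y, hy, ht' y hy.1⟩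
    · show t • ({a} : Set Ω) = {a}
      rw [Set.smul_set_singleton, ht' a haC]
  rw [← Subgroup.relIndex_mul_index hKS] at hpK
  rcases ((Fact.out : p.Prime).dvd_mul).1 hpK with h | h
  · let ψ : S →* Equiv.Perm (C \ {a} : Set Ω) :=
      (MulAction.toPermHom (MulAction.stabilizer G (C \ {a})) (C \ {a} : Set Ω)).comp
        (Subgroup.inclusion inf_le_left)
    have hker : ψ.ker = K.subgroupOf S := by
      ext t
      simp only [ψ, MonoidHom.mem_ker, Subgroup.mem_subgroupOf, K, mem_fixingSubgroup_iff]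
      constructor
      · intro ht y hy
        by_cases hya : y = a
        · rw [hya]; exact hfixa t t.2
        · exact congrArg Subtype.val (Equiv.congr_fun ht ⟨y, hy, hya⟩)
      · intro ht
        ext ⟨y, hy⟩
        exact ht y hy.1
    rw [Subgroup.relIndex, ← hker, Subgroup.index_ker] at h
    have h2 : p ∣ Nat.card (Equiv.Perm (C \ {a} : Set Ω)) :=
      h.trans (Subgroup.card_subgroup_dvd_card _)
    have hcard : Nat.card (C \ {a} : Set Ω) < p := by
      rw [Nat.card_coe_set_eq, Set.ncard_sdiff_singleton_of_mem haC, ← Nat.card_coe_set_eq, hC]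
      exact Nat.sub_lt (Fact.out : p.Prime).pos one_pos
    rw [Nat.card_perm] at h2
    exact absurd (((Fact.out : p.Prime).dvd_factorial).1 h2) (not_le.2 hcard)
  · exact hS h

end Cfsg.Agent.S4170
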