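import Cfsg.Statements.S4176
import Mathlib

set_option autoImplicit false
open Cfsg

namespace Cfsg.Agent.S4176

/-- Two subgroups of coprime index factorise the group. -/
theorem exists_mul_of_coprime_index {G : Type*} [Group G] [Finite G] (A B : Subgroup G)
    (h : A.index.Coprime B.index) (g : G) : ∃ a ∈ A, ∃ b ∈ B, g = a * b := by
  let f : G ⧸ (A ⊓ B) → (G ⧸ A) × (G ⧸ B) := fun q => (q.map' id fun _ _ hq => by
      rw [QuotientGroup.leftRel_apply] at hq ⊢; exact hq.1,
    q.map' id fun _ _ hq => by rw [QuotientGroup.leftRel_apply] at hq ⊢; exact hq.2)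
  have hf : Function.Injective f := by
    intro u v
    induction u using QuotientGroup.induction_on with | _ u => ?_
    induction v using QuotientGroup.induction_on with | _ v => ?_
    intro huv
    exact QuotientGroup.eq.mpr ⟨QuotientGroup.eq.mp (congrArg Prod.fst huv),
      QuotientGroup.eq.mp (congrArg Prod.snd huv)⟩
  have hcard : Nat.card ((G ⧸ A) × (G ⧸ B)) ≤ Nat.card (G ⧸ (A ⊓ B)) := by
    rw [Nat.card_prod, ← Subgroup.index_eq_card, ← Subgroup.index_eq_card, ← Subgroup.index_eq_card]
    exact Nat.le_of_dvd (Nat.pos_of_ne_zero Subgroup.index_ne_zero_of_finite)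
      (h.mul_dvd_of_dvd_of_dvd (Subgroup.index_dvd_of_le inf_le_left)
        (Subgroup.index_dvd_of_le inf_le_right))
  obtain ⟨q, hq⟩ := (hf.bijective_of_nat_card_le hcard).2 (((1 : G) : G ⧸ A), ((g : G) : G ⧸ B))
  induction q using QuotientGroup.induction_on with | _ z => ?_
  have h1 := QuotientGroup.eq.mp (congrArg Prod.fst hq).symm
  have h2 := QuotientGroup.eq.mp (congrArg Prod.snd hq)
  exact ⟨z, by simpa using h1, z⁻¹ * g, h2, by group⟩

/-- `[L : L ∩ A]` divides `[G : A]` for `L` normal. -/
theorem Subgroup.relIndex_dvd_index_of_normal' {G : Type*} [Group G] [Finite G] (A L : Subgroup G)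
    [L.Normal] : A.relIndex L ∣ A.index := by
  have h4 : A.relIndex (A ⊔ L) = A.relIndex L := by
    have h1 := Subgroup.relIndex_mul_relIndex ⊥ A (A ⊔ L) bot_le le_sup_left
    have h2 := Subgroup.relIndex_mul_relIndex ⊥ (A ⊓ L) L bot_le inf_le_right
    have h3 := Subgroup.relIndex_mul_relIndex ⊥ L (A ⊔ L) bot_le le_sup_right
    have h5 := Subgroup.relIndex_mul_relIndex ⊥ (A ⊓ L) A bot_le inf_le_left
    rw [Subgroup.inf_relIndex_right] at h2
    rw [Subgroup.inf_relIndex_left] at h5
    rw [Subgroup.relIndex_sup_right] at h3
    simp only [Subgroup.relIndex_bot_left] at h1 h2 h3 h5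
    refine Nat.eq_of_mul_eq_mul_left (Nat.card_pos (α := A)) ?_
    rw [h1, ← h3, ← h2, ← h5]
    ring
  rw [← h4]
  exact Subgroup.relIndex_dvd_index_of_le le_sup_left


/-- Let k be a field of prime characteristic p, H a finite p-soluble group and ρ a k-linear representation of H on V. Let a be a vector that is fixed by some Sylow p-subgroup of H and whose H-orbit spans V. Then the space of H-fixed vectors has dimension at most 1, and every vector b whose H-orbit has size coprime to the size of the orbit of a is fixed by H. -/
theorem result {k V H : Type*} [Field k] (p : ℕ) [Fact p.Prime] [CharP k p] [AddCommGroup V] [Module k V]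
    [Group H] [Finite H] (hsol : Cfsg.IsPSolvable p H) (ρ : Representation k H V) (a : V)
    (hfix : ∃ P : Sylow p H, ∀ x : H, x ∈ (P : Subgroup H) → ρ x a = a)
    (hspan : Submodule.span k {u : V | ∃ h : H, ρ h a = u} = ⊤) :
    Module.finrank k ρ.invariants ≤ 1 ∧
    ∀ b : V, (Nat.card {u : V | ∃ h : H, ρ h a = u}).Coprime (Nat.card {u : V | ∃ h : H, ρ h b = u}) → ∀ h : H, ρ h b = b := by
  classical
  have hp := (Fact.out : p.Prime)
  let _ : MulAction H V :=
    { smul := fun h v => ρ h v
      one_smul := fun v => show ρ 1 v = v by rw [map_one]; rfl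
      mul_smul := fun g h v => show ρ (g * h) v = ρ g (ρ h v) by rw [map_mul]; rfl }
  have hidx : ∀ v : V, (MulAction.stabilizer H v).index = Nat.card {u : V | ∃ h : H, ρ h v = u} :=
    fun v => (MulAction.index_stabilizer H v).trans (Nat.card_coe_set_eq _).symm
  -- the stabiliser of a conjugate of `a` has index prime to `p`
  have hpa : ∀ h : H, ¬ p ∣ (MulAction.stabilizer H (ρ h a)).index := by
    intro h
    obtain ⟨P, hP⟩ := hfix
    rw [show (MulAction.stabilizer H (ρ h a)).index = (MulAction.stabilizer H a).index by
      rw [MulAction.index_stabilizer, MulAction.index_stabilizer]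
      exact congrArg Set.ncard (MulAction.orbit_eq_iff.mpr ⟨h, rfl⟩)]
    exact fun hd => P.not_dvd_index (hd.trans (Subgroup.index_dvd_of_le fun x hx => hP x hx))
  obtain ⟨n, S, h0, hlast, hmono, hn, hi⟩ := hsol
  let W : Subgroup H → Submodule k V := fun K =>
    { carrier := {v | ∀ x ∈ K, ρ x v = v}
      add_mem' := fun hv hw x hx => by rw [map_add, hv x hx, hw x hx]
      zero_mem' := fun x _ => map_zero _
      smul_mem' := fun c v hv x hx => by rw [map_smul, hv x hx] }
  have main : ∀ i, ∃ a' ∈ W (S i), (∀ h, ρ h a = a → ρ h a' = a') ∧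
      W (S i) ≤ Submodule.span k {u : V | ∃ h : H, ρ h a' = u} ∧
      ∀ b : V, (Nat.card {u : V | ∃ h : H, ρ h a = u}).Coprime
        (Nat.card {u : V | ∃ h : H, ρ h b = u}) → b ∈ W (S i) := by
    intro i
    induction i using Fin.induction with
    | zero =>
      have hz : ∀ v : V, v ∈ W (S 0) := fun v x hx => by
        rw [h0, Subgroup.mem_bot] at hx
        rw [hx, map_one]; rfl
      exact ⟨a, hz a, fun _ h => h, hspan ▸ le_top, fun b _ => hz b⟩
    | succ i ih =>
      obtain ⟨a', ha'W, hst, hsp, hb⟩ := ih
      set K := S i.castSucc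
      set L := S i.succ
      have hKL : K ≤ L := hmono (Fin.castSucc_le_succ i)
      have := hn i.castSucc
      have := hn i.succ
      have hWn : ∀ (h : H) (v : V), v ∈ W K → ρ h v ∈ W K := by
        intro h v hv x hx
        have h1 := hv (h⁻¹ * x * h) (by simpa using (hn i.castSucc).conj_mem x hx h⁻¹)
        calc ρ x (ρ h v) = ρ (h * (h⁻¹ * x * h)) v := by
              rw [← Module.End.mul_apply, ← map_mul]; congr 1; congr 1; group
          _ = ρ h v := by rw [map_mul, Module.End.mul_apply, h1]
      have hst' : ∀ h : H, MulAction.stabilizer H (ρ h a) ≤ MulAction.stabilizer H (ρ h a') := by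
        intro h x hx
        have h1 : ρ x (ρ h a) = ρ h a := hx
        have h2 : ρ (h⁻¹ * x * h) a = a := by
          rw [map_mul, map_mul, Module.End.mul_apply, Module.End.mul_apply, h1, ← Module.End.mul_apply,
            ← map_mul, inv_mul_cancel, map_one]; rfl
        show ρ x (ρ h a') = ρ h a'
        calc ρ x (ρ h a') = ρ (h * (h⁻¹ * x * h)) a' := by
              rw [← Module.End.mul_apply, ← map_mul]; congr 1; congr 1; group
          _ = ρ h a' := by rw [map_mul, Module.End.mul_apply, hst _ h2]
      have hgen : ∀ v ∈ W K, v ∈ Submodule.span k {u : V | ∃ h : H, ρ h a' = u} := hsp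
      rcases hi i with ⟨m, hm⟩ | hm
      · -- a `p`-factor fixes everything
        have hWL : W K ≤ W L := by
          refine le_trans hsp (Submodule.span_le.mpr ?_)
          rintro _ ⟨h, rfl⟩
          set T := MulAction.stabilizer H (ρ h a')
          have hKT : K ≤ T := fun x hx => hWn h a' ha'W x hx
          have h1 : T.relIndex L ∣ p ^ m := hm ▸ Subgroup.relIndex_dvd_of_le_left L hKT
          have h2 : T.relIndex L ∣ (MulAction.stabilizer H (ρ h a)).relIndex L :=
            Subgroup.relIndex_dvd_of_le_left L (hst' h)
          have h3 : ¬ p ∣ T.relIndex L := fun hd => by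
            refine hpa h (hd.trans (h2.trans ?_))
            exact Subgroup.relIndex_dvd_index_of_normal' (MulAction.stabilizer H (ρ h a)) L
          obtain ⟨j, -, hj⟩ := (Nat.dvd_prime_pow hp).mp h1
          have : T.relIndex L = 1 := by
            rcases j with _ | j
            · simpa using hj
            · exact absurd (hj ▸ dvd_pow_self p (by omega)) h3
          intro x hx
          exact Subgroup.relIndex_eq_one.mp this hx
        have hLK : W L ≤ W K := fun v hv x hx => hv x (hKL hx)
        exact ⟨a', hWL ha'W, hst, hLK.trans hsp, fun b hc => hWL (hb b hc)⟩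
      · -- a `p'`-factor: average
        set K' := K.subgroupOf L
        have hKn : K'.Normal := inferInstance
        let _ : Fintype (L ⧸ K') := Fintype.ofFinite _
        set c : k := ((Fintype.card (L ⧸ K') : ℕ) : k)
        have hc0 : c ≠ 0 := by
          intro h
          rw [CharP.cast_eq_zero_iff k p, ← Nat.card_eq_fintype_card, ← Subgroup.index_eq_card] at h
          exact hp.ne_one (Nat.eq_one_of_dvd_coprimes hm h dvd_rfl)
        let E : V →ₗ[k] V := c⁻¹ • ∑ q : L ⧸ K', ρ ((q.out : L) : H)
        have hF : ∀ v ∈ W K, ∀ l l' : L, (l : L ⧸ K') = (l' : L ⧸ K') → ρ (l : H) v = ρ (l' : H) v := by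
          intro v hv l l' hl
          have h1 := hv _ (Subgroup.mem_subgroupOf.mp (QuotientGroup.eq.mp hl))
          simp only [Subgroup.coe_mul, Subgroup.coe_inv] at h1
          calc ρ (l : H) v = ρ (l : H) (ρ ((l : H)⁻¹ * (l' : H)) v) := by rw [h1]
            _ = _ := by rw [← Module.End.mul_apply, ← map_mul, mul_inv_cancel_left]
        have hEapp : ∀ v, E v = c⁻¹ • ∑ q : L ⧸ K', ρ ((q.out : L) : H) v := fun v => by
          simp [E, LinearMap.sum_apply]
        have hEL : ∀ v ∈ W K, E v ∈ W L := by
          intro v hv x hx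
          rw [hEapp, map_smul, map_sum]
          congr 1
          refine Fintype.sum_equiv (Equiv.mulLeft ((⟨x, hx⟩ : L) : L ⧸ K')) _ _ fun q => ?_
          rw [← Module.End.mul_apply, ← map_mul]
          exact hF v hv (⟨x, hx⟩ * q.out) _ (by
            rw [QuotientGroup.out_eq', QuotientGroup.mk_mul, QuotientGroup.out_eq']
            try rfl)
        have hEK : ∀ v ∈ W L, E v = v := by
          intro v hv
          rw [hEapp, Finset.sum_congr rfl (fun q _ => hv _ q.out.2), Finset.sum_const, Finset.card_univ,
            ← Nat.cast_smul_eq_nsmul k, smul_smul, inv_mul_cancel₀ hc0, one_smul]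
        have hEh : ∀ (h : H), ∀ v ∈ W K, ρ h (E v) = E (ρ h v) := by
          intro h v hv
          rw [hEapp, hEapp, map_smul, map_sum]
          congr 1
          let σ : MulAut L := MulAut.conjNormal h
          have hσ : K'.map σ.toMonoidHom = K' := by
            ext y
            constructor
            · rintro ⟨z, hz, rfl⟩
              show (σ z : H) ∈ K
              rw [MulAut.conjNormal_apply]
              exact (hn i.castSucc).conj_mem _ hz h
            · intro hy
              refine ⟨σ.symm y, ?_, by simp⟩
              show (σ.symm y : H) ∈ K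
              rw [MulAut.conjNormal_symm_apply]
              simpa using (hn i.castSucc).conj_mem _ hy h⁻¹
          refine Fintype.sum_equiv (QuotientGroup.congr K' K' σ hσ).toEquiv _ _ fun q => ?_
          rw [← Module.End.mul_apply, ← map_mul,
            show h * (q.out : H) = ((σ q.out : L) : H) * h by rw [MulAut.conjNormal_apply]; group,
            map_mul, Module.End.mul_apply]
          refine hF _ (hWn h v hv) _ _ ?_
          rw [QuotientGroup.out_eq']
          conv_rhs => rw [← QuotientGroup.out_eq' q]
          rfl
        refine ⟨E a', hEL a' ha'W, fun h hh => by rw [hEh h a' ha'W, hst h hh], ?_, ?_⟩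
        · intro v hv
          rw [← hEK v hv]
          have h1 : v ∈ Submodule.span k {u : V | ∃ h : H, ρ h a' = u} := hgen v fun x hx => hv x (hKL hx)
          refine (Submodule.span_le.mpr ?_ : Submodule.span k {u : V | ∃ h : H, ρ h a' = u} ≤
            (Submodule.span k {u : V | ∃ h : H, ρ h (E a') = u}).comap E) h1
          rintro _ ⟨h, rfl⟩
          exact Submodule.subset_span ⟨h, hEh h a' ha'W⟩
        intro b hc
        have hbK := hb b hc
        suffices b = E b by rw [this]; exact hEL b hbK
        by_contra hne
        obtain ⟨f0, hf0⟩ := Module.Projective.exists_dual_ne_zero k (sub_ne_zero.mpr hne)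
        set M := MulAction.stabilizer L b with hM
        have hKM : K' ≤ M := fun x hx => hbK (x : H) hx
        -- average the functional over the stabiliser of `b`
        set M' := K'.subgroupOf M
        let _ : Fintype (M ⧸ M') := Fintype.ofFinite _
        let f : Module.Dual k V := ∑ q : M ⧸ M', f0.comp (ρ (((q.out : M) : L) : H))
        have hfM : ∀ (y : L), y ∈ M → ∀ v ∈ W K, f (ρ (y : H) v) = f v := by
          intro y hy v hv
          simp only [f, LinearMap.sum_apply, LinearMap.comp_apply]
          refine Fintype.sum_equiv (Equiv.mulRight ((⟨y, hy⟩ : M) : M ⧸ M')) _ _ fun q => ?_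
          congr 1
          rw [← Module.End.mul_apply, ← map_mul]
          refine hF v hv ((q.out : L) * y) _ (QuotientGroup.eq.mpr ?_)
          have h1 := QuotientGroup.eq.mp (show ((q.out * ⟨y, hy⟩ : M) : M ⧸ M') =
            ((q * ((⟨y, hy⟩ : M) : M ⧸ M')).out : M ⧸ M') by
              rw [QuotientGroup.out_eq', QuotientGroup.mk_mul, QuotientGroup.out_eq'])
          exact h1
        have hfl : ∀ v ∈ W K, ∀ l : L, f (ρ (l : H) v) = f v := by
          intro v hv l
          have key : ∀ h : H, f (ρ (l : H) (ρ h a')) = f (ρ h a') := by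
            intro h
            set A := (MulAction.stabilizer H (ρ h a)).subgroupOf L with hA
            have hAi : A.index ∣ Nat.card {u : V | ∃ g : H, ρ g a = u} := by
              refine (Subgroup.relIndex_dvd_index_of_normal' (MulAction.stabilizer H (ρ h a)) L).trans ?_
              rw [hidx]
              exact dvd_of_eq (congrArg (fun s : Set V => Nat.card s)
                (MulAction.orbit_eq_iff.mpr ⟨h, rfl⟩ : MulAction.orbit H (ρ h a) = MulAction.orbit H a))
            have hMi : M.index ∣ Nat.card {u : V | ∃ g : H, ρ g b = u} := by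
              refine dvd_trans ?_ (dvd_of_eq (hidx b))
              exact Subgroup.relIndex_dvd_index_of_normal' (MulAction.stabilizer H b) L
            obtain ⟨y, hy, x, hx, rfl⟩ := exists_mul_of_coprime_index M A
              ((hc.coprime_dvd_left hAi).coprime_dvd_right hMi).symm l
            rw [Subgroup.coe_mul, map_mul, Module.End.mul_apply,
              show ρ (x : H) (ρ h a') = ρ h a' from hst' h hx]
            exact hfM y hy _ (hWn h a' ha'W)
          refine Submodule.span_induction (p := fun v _ => f (ρ (l : H) v) = f v) ?_ ?_ ?_ ?_ (hgen v hv)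
          · rintro _ ⟨h, rfl⟩; exact key h
          · simp
          · intro u w _ _ hu hw; rw [map_add, map_add, hu, hw, map_add]
          · intro r u _ hu; rw [map_smul, map_smul, hu, map_smul]
        have hd : b - E b ∈ W K := sub_mem hbK fun x hx => hEL b hbK x (hKL hx)
        have hfd : f (E (b - E b)) = f (b - E b) := by
          rw [hEapp, map_smul, map_sum, Finset.sum_congr rfl (fun q _ => hfl _ hd q.out),
            Finset.sum_const, Finset.card_univ, ← Nat.cast_smul_eq_nsmul k, smul_smul,
            inv_mul_cancel₀ hc0, one_smul]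
        rw [map_sub E, hEK _ (hEL b hbK), sub_self, map_zero] at hfd
        apply hf0
        have hfix : ∀ q : M ⧸ M', ρ (((q.out : M) : L) : H) (b - E b) = b - E b := fun q => by
          rw [map_sub, hEL b hbK _ (q.out : L).2]
          exact congrArg (· - E b) (show ρ (((q.out : M) : L) : H) b = b from q.out.2)
        have h5 : f (b - E b) = (Fintype.card (M ⧸ M') : k) • f0 (b - E b) := by
          simp only [f, LinearMap.sum_apply, LinearMap.comp_apply]
          rw [Finset.sum_congr rfl (fun q _ => congrArg f0 (hfix q)), Finset.sum_const, Finset.card_univ,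
            Nat.cast_smul_eq_nsmul]
        rw [← hfd, eq_comm, smul_eq_zero] at h5
        refine h5.resolve_left fun h => ?_
        rw [CharP.cast_eq_zero_iff k p, ← Nat.card_eq_fintype_card, ← Subgroup.index_eq_card] at h
        refine hp.ne_one (Nat.eq_one_of_dvd_coprimes hm ?_ dvd_rfl)
        exact h.trans ⟨M.index, (Subgroup.relIndex_mul_index hKM).symm⟩
  obtain ⟨a', ha', -, hsp, hb⟩ := main (Fin.last n)
  rw [hlast] at ha' hsp hb
  refine ⟨?_, fun b hc h => hb b hc h (Subgroup.mem_top h)⟩
  refine finrank_le_one (⟨a', fun h => ha' h (Subgroup.mem_top h)⟩ : ρ.invariants) fun w => ?_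
  have h1 : (w : V) ∈ Submodule.span k {u : V | ∃ h : H, ρ h a' = u} :=
    hsp fun x _ => w.2 x
  have h2 : Submodule.span k {u : V | ∃ h : H, ρ h a' = u} ≤ Submodule.span k {a'} :=
    Submodule.span_mono (by rintro _ ⟨h, rfl⟩; exact ha' h (Subgroup.mem_top h))
  obtain ⟨r, hr⟩ := Submodule.mem_span_singleton.mp (h2 h1)
  exact ⟨r, Subtype.ext hr⟩

end Cfsg.Agent.S4176
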