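import Cfsg.Statements.S4177

set_option autoImplicit false
open Cfsg

namespace Cfsg.Agent.S4177

/-- Let k be a field whose characteristic does not divide the order of the finite group H (for instance a field of characteristic zero), and ρ a k-linear representation of H on V. Let a be a vector whose H-orbit spans V. Then the space of H-fixed vectors has dimension at most 1, and every vector b whose H-orbit has size coprime to the size of the orbit of a is fixed by H. -/
theorem result {k V H : Type*} [Field k] [AddCommGroup V] [Module k V] [Group H] [Finite H]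
    (hchar : ¬ ringChar k ∣ Nat.card H) (ρ : Representation k H V) (a : V)
    (hspan : Submodule.span k {u : V | ∃ h : H, ρ h a = u} = ⊤) :
    Module.finrank k ρ.invariants ≤ 1 ∧
    ∀ b : V, (Nat.card {u : V | ∃ h : H, ρ h a = u}).Coprime (Nat.card {u : V | ∃ h : H, ρ h b = u}) → ∀ h : H, ρ h b = b := by
  classical
  haveI := Fintype.ofFinite H
  have hk : ∀ B : Subgroup H, (Fintype.card B : k) ≠ 0 := fun B h => hchar (by
    rw [← Nat.card_eq_fintype_card] at h
    exact ((ringChar.spec k _).mp h).trans B.card_subgroup_dvd_card)
  have hkH : (Fintype.card H : k) ≠ 0 := fun h => hchar (by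
    rw [← Nat.card_eq_fintype_card] at h
    exact (ringChar.spec k _).mp h)
  set s : V := ∑ h : H, ρ h a with hs
  have hsinv : ∀ g : H, ρ g s = s := fun g => by
    rw [hs, map_sum]
    exact Fintype.sum_bijective (g * ·) (Group.mulLeft_bijective g) _ _
      fun h => by rw [map_mul]; rfl
  have key : ∀ B : Subgroup H, (∀ h : H, ∃ y : B, ρ h a = ρ y a) →
      ∀ w : V, (∀ y ∈ B, ρ y w = w) → w ∈ Submodule.span k {s} := by
    intro B hB w hw
    set L : V →ₗ[k] V := ∑ y : B, ρ y with hL
    have hLa : ∀ h : H, L (ρ h a) = L a := fun h => by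
      obtain ⟨y, hy⟩ := hB h
      rw [hy, hL, LinearMap.sum_apply, LinearMap.sum_apply]
      refine Fintype.sum_bijective (· * y) (Group.mulRight_bijective y) _ _ fun z => ?_
      rw [Subgroup.coe_mul, map_mul]; rfl
    have hLw : ∀ v : V, L v ∈ Submodule.span k {L a} := fun v => by
      have hle : Submodule.span k {u : V | ∃ h : H, ρ h a = u} ≤
          (Submodule.span k {L a}).comap L := by
        rw [Submodule.span_le]
        rintro _ ⟨h, rfl⟩
        exact Submodule.mem_comap.mpr (hLa h ▸ Submodule.mem_span_singleton_self _)
      exact hle (hspan ▸ Submodule.mem_top)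
    have hfix : ∀ v : V, (∀ y ∈ B, ρ y v = v) → L v = (Fintype.card B : k) • v := fun v hv => by
      rw [hL, LinearMap.sum_apply, Finset.sum_congr rfl (fun (y : B) _ => hv y y.2), Finset.sum_const,
        Finset.card_univ, Nat.cast_smul_eq_nsmul]
    have hLs : L a ∈ Submodule.span k {s} := by
      have h1 : L s = (Fintype.card H : k) • L a := by
        rw [hs, map_sum, Finset.sum_congr rfl (fun h _ => hLa h), Finset.sum_const, Finset.card_univ,
          Nat.cast_smul_eq_nsmul]
      rw [hfix s fun y _ => hsinv y] at h1
      rw [show L a = ((Fintype.card H : k)⁻¹ * (Fintype.card B : k)) • s by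
        rw [mul_smul, h1, inv_smul_smul₀ hkH]]
      exact Submodule.smul_mem _ _ (Submodule.mem_span_singleton_self s)
    rw [← inv_smul_smul₀ (hk B) w, ← hfix w hw]
    exact Submodule.smul_mem _ _ ((Submodule.span_singleton_le_iff_mem _ _).mpr hLs (hLw w))
  refine ⟨?_, fun b hb h => ?_⟩
  · have hle : ρ.invariants ≤ Submodule.span k {s} := fun w hw =>
      key ⊤ (fun h => ⟨⟨h, Subgroup.mem_top h⟩, rfl⟩) w fun y _ => hw y
    refine (Submodule.finrank_mono hle).trans ?_
    refine (finrank_span_le_card ({s} : Set V)).trans (le_of_eq (by simp))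
  · letI : MulAction H V :=
      { smul := fun g v => ρ g v
        one_smul := fun v => by
          show ρ 1 v = v
          rw [map_one]; rfl
        mul_smul := fun g g' v => by
          show ρ (g * g') v = ρ g (ρ g' v)
          rw [map_mul]; rfl }
    set A := MulAction.stabilizer H a with hA
    set B := MulAction.stabilizer H b with hB
    have horb : ∀ c : V, Nat.card {u : V | ∃ g : H, ρ g c = u} = (MulAction.stabilizer H c).index := fun c => by
      rw [MulAction.index_stabilizer]
      rfl
    rw [horb a, horb b, ← hA, ← hB] at hb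
    have hrel : A.relIndex B = A.index := by
      refine le_antisymm ?_ (Nat.le_of_dvd (Nat.pos_of_ne_zero Subgroup.FiniteIndex.index_ne_zero) ?_)
      · rw [← Subgroup.relIndex_top_right]
        exact Subgroup.relIndex_le_of_le_right le_top (by rw [Subgroup.relIndex_top_right]; exact Subgroup.FiniteIndex.index_ne_zero)
      · refine hb.dvd_of_dvd_mul_right ?_
        rw [← Subgroup.inf_relIndex_right A B, Subgroup.relIndex_mul_index inf_le_right]
        exact Subgroup.index_dvd_of_le inf_le_left
    have htrans : MulAction.orbit B a = MulAction.orbit H a := by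
      haveI : Finite (MulAction.orbit H a) := Set.Finite.to_subtype (Set.finite_range _)
      refine Set.eq_of_subset_of_ncard_le ?_ ?_ (Set.toFinite _)
      · rintro _ ⟨y, rfl⟩
        exact ⟨(y : H), rfl⟩
      · rw [← MulAction.index_stabilizer, ← MulAction.index_stabilizer, ← hA]
        exact le_of_eq hrel.symm
    have hbs := key B (fun g => by
      have hg : g • a ∈ MulAction.orbit B a := htrans ▸ ⟨g, rfl⟩
      obtain ⟨y, hy⟩ := hg
      exact ⟨y, hy.symm⟩) b (fun y hy => hy)
    obtain ⟨c, rfl⟩ := Submodule.mem_span_singleton.mp hbs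
    rw [map_smul, hsinv]

end Cfsg.Agent.S4177
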