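import Cfsg.Statements.S4178
import Mathlib

set_option autoImplicit false
open Cfsg

namespace Cfsg.Agent.S4178

/-- Let F be a finite field with q elements, V a non-zero finite-dimensional F-space of dimension d, H a group of invertible linear maps of V, and R the subgroup of H generated by the elements of H that fix some non-zero vector (have eigenvalue 1). Then the index of R in H is at most q^d − 1; and if H leaves invariant some proper non-zero subspace, the index is at most q^(d/2) − 1. -/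
theorem result {F V : Type*} [Field F] [Fintype F] [AddCommGroup V] [Module F V] [FiniteDimensional F V] [Nontrivial V]
    (H : Subgroup (V ≃ₗ[F] V)) :
    (Subgroup.closure {h : ↥H | ∃ v : V, v ≠ 0 ∧ (h : V ≃ₗ[F] V) v = v}).index ≤ Fintype.card F ^ Module.finrank F V - 1 ∧
    ((∃ W : Submodule F V, W ≠ ⊥ ∧ W ≠ ⊤ ∧ ∀ h ∈ H, ∀ w ∈ W, h w ∈ W) →
      ((Subgroup.closure {h : ↥H | ∃ v : V, v ≠ 0 ∧ (h : V ≃ₗ[F] V) v = v}).index : ℝ) ≤ Real.sqrt ((Fintype.card F : ℝ) ^ Module.finrank F V) - 1) := by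
  classical
  set R := Subgroup.closure {h : ↥H | ∃ v : V, v ≠ 0 ∧ (h : V ≃ₗ[F] V) v = v} with hR
  have : Finite V := Module.finite_of_finite F
  have hinj : ∀ {X : Type _} [Finite X] (f : ↥H → X),
      (∀ g g' : ↥H, f g = f g' → g⁻¹ * g' ∈ R) → R.index ≤ Nat.card X := by
    intro X _ f hf
    refine Nat.card_le_card_of_injective (fun q : ↥H ⧸ R => f q.out) fun q q' h => ?_
    rw [← QuotientGroup.out_eq' q, ← QuotientGroup.out_eq' q']
    exact QuotientGroup.eq.mpr (hf _ _ h)
  have hbound : ∀ (W : Submodule F V) (v : V), v ≠ 0 → v ∈ W → (∀ h ∈ H, ∀ w ∈ W, h w ∈ W) →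
      R.index ≤ Fintype.card F ^ Module.finrank F W - 1 := by
    intro W v hv hvW hW
    have hc : Nat.card ({0}ᶜ : Set W) = Fintype.card F ^ Module.finrank F W - 1 := by
      rw [Nat.card_coe_set_eq, Set.ncard_compl, Set.ncard_singleton, Module.natCard_eq_pow_finrank (K := F),
        Nat.card_eq_fintype_card]
    rw [← hc]
    refine hinj (fun g => (⟨⟨(g : V ≃ₗ[F] V) v, hW _ g.2 v hvW⟩, fun h0 => hv ?_⟩ : ({0}ᶜ : Set W))) ?_
    · have h1 : (g : V ≃ₗ[F] V) v = 0 := congrArg Subtype.val h0
      exact (LinearEquiv.map_eq_zero_iff _).mp h1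
    · intro g g' hgg
      have h1 : (g : V ≃ₗ[F] V) v = (g' : V ≃ₗ[F] V) v :=
        congrArg (fun z : ({0}ᶜ : Set W) => (z.1 : V)) hgg
      refine Subgroup.subset_closure ⟨v, hv, ?_⟩
      show (g : V ≃ₗ[F] V).symm ((g' : V ≃ₗ[F] V) v) = v
      rw [← h1, LinearEquiv.symm_apply_apply]
  constructor
  · obtain ⟨v, hv⟩ := exists_ne (0 : V)
    have := hbound ⊤ v hv trivial (fun _ _ _ _ => trivial)
    rwa [finrank_top] at this
  rintro ⟨W, hW0, hWt, hW⟩
  have key : ∃ k, 2 * k ≤ Module.finrank F V ∧ R.index ≤ Fintype.card F ^ k - 1 := by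
    by_cases hk : 2 * Module.finrank F W ≤ Module.finrank F V
    · obtain ⟨v, hvW, hv⟩ := Submodule.exists_mem_ne_zero_of_ne_bot hW0
      exact ⟨_, hk, hbound W v hv hvW hW⟩
    · refine ⟨Module.finrank F (V ⧸ W), ?_, ?_⟩
      · have := W.finrank_quotient_add_finrank
        omega
      have : Finite (V ⧸ W) := Module.finite_of_finite F
      have hc : Nat.card ({0}ᶜ : Set (V ⧸ W)) = Fintype.card F ^ Module.finrank F (V ⧸ W) - 1 := by
        rw [Nat.card_coe_set_eq, Set.ncard_compl, Set.ncard_singleton, Module.natCard_eq_pow_finrank (K := F),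
          Nat.card_eq_fintype_card]
      obtain ⟨v, -, hv⟩ := SetLike.exists_of_lt (lt_top_iff_ne_top.mpr hWt)
      rw [← hc]
      refine hinj (fun g => (⟨Submodule.Quotient.mk ((g : V ≃ₗ[F] V) v), fun h0 => hv ?_⟩ :
        ({0}ᶜ : Set (V ⧸ W)))) ?_
      · have h1 : (g : V ≃ₗ[F] V) v ∈ W := (Submodule.Quotient.mk_eq_zero W).mp h0
        have h2 := hW _ (g⁻¹).2 _ h1
        rwa [show ((g⁻¹ : ↥H) : V ≃ₗ[F] V) ((g : V ≃ₗ[F] V) v) = v from
          (g : V ≃ₗ[F] V).symm_apply_apply v] at h2
      · intro g g' hgg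
        have h1 : (g' : V ≃ₗ[F] V) v - (g : V ≃ₗ[F] V) v ∈ W :=
          (Submodule.Quotient.eq W).mp (congrArg Subtype.val hgg).symm
        set e : V ≃ₗ[F] V := ((g⁻¹ * g' : ↥H) : V ≃ₗ[F] V) with he
        have hev : e v - v ∈ W := by
          have h2 := hW _ (g⁻¹).2 _ h1
          rw [map_sub, show ((g⁻¹ : ↥H) : V ≃ₗ[F] V) ((g : V ≃ₗ[F] V) v) = v from
            (g : V ≃ₗ[F] V).symm_apply_apply v] at h2
          exact h2
        refine Subgroup.subset_closure ?_
        by_contra hno
        have hfix : ∀ u : V, e u = u → u = 0 := fun u hu => by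
          by_contra hu0
          exact hno ⟨u, hu0, hu⟩
        let φ : W →ₗ[F] W :=
          { toFun := fun w => ⟨e w - w, sub_mem (hW _ (g⁻¹ * g').2 _ w.2) w.2⟩
            map_add' := fun a b => Subtype.ext (by
              show e ((a : V) + b) - ((a : V) + b) = (e (a : V) - a) + (e (b : V) - b)
              rw [map_add]; abel)
            map_smul' := fun c a => Subtype.ext (by
              show e (c • (a : V)) - c • (a : V) = c • (e (a : V) - a)
              rw [map_smul, smul_sub]) }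
        have hφ : Function.Injective φ := by
          rw [injective_iff_map_eq_zero]
          intro a ha
          exact Subtype.ext (hfix a (sub_eq_zero.mp (congrArg Subtype.val ha)))
        obtain ⟨w, hw⟩ := (LinearMap.injective_iff_surjective.mp hφ) ⟨e v - v, hev⟩
        have h3 : e (w : V) - w = e v - v := congrArg Subtype.val hw
        have h4 := hfix (v - w) (by
          rw [map_sub, sub_eq_sub_iff_sub_eq_sub]
          exact h3.symm)
        exact hv (by rw [sub_eq_zero.mp h4]; exact w.2)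
  obtain ⟨k, hk, hR'⟩ := key
  rw [le_sub_iff_add_le, Real.le_sqrt (by positivity) (by positivity)]
  have h1 : 1 ≤ Fintype.card F ^ k := Nat.one_le_pow _ _ Fintype.card_pos
  have h2 : (R.index + 1) ^ 2 ≤ Fintype.card F ^ Module.finrank F V :=
    calc (R.index + 1) ^ 2 ≤ (Fintype.card F ^ k) ^ 2 := Nat.pow_le_pow_left (by omega) 2
      _ ≤ _ := by rw [← pow_mul]; exact Nat.pow_le_pow_right Fintype.card_pos (by omega)
  exact_mod_cast h2

end Cfsg.Agent.S4178
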