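import Cfsg.Statements.S4186

set_option autoImplicit false
open Cfsg

namespace Cfsg.Agent.S4186

/-- Let T and X be subgroups of a group with T a finite 2-group normalizing X but not centralizing it. Then some element of T inverts some non-identity element of X under conjugation. -/
theorem result {G : Type*} [Group G] (T X : Subgroup G) [Finite ↥T] (hT : IsPGroup 2 ↥T) (hTN : T ≤ Subgroup.normalizer (X : Set G)) (hTC : ¬ T ≤ Subgroup.centralizer (X : Set G)) : ∃ t ∈ T, ∃ x ∈ X, x ≠ 1 ∧ t * x * t⁻¹ = x⁻¹ := by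
  classical
  obtain ⟨t₀, ht₀, ht₀'⟩ := SetLike.not_le_iff_exists.mp hTC
  obtain ⟨k, hk⟩ := IsPGroup.iff_orderOf.mp hT ⟨t₀, ht₀⟩
  rw [Subgroup.orderOf_mk] at hk
  have hex : ∃ i, t₀ ^ 2 ^ i ∈ Subgroup.centralizer (X : Set G) :=
    ⟨k, by rw [← hk, pow_orderOf_eq_one]; exact one_mem _⟩
  obtain ⟨i, hi⟩ : ∃ i, Nat.find hex = i + 1 := ⟨Nat.find hex - 1, by
    rcases Nat.eq_zero_or_pos (Nat.find hex) with h | h
    · have := Nat.find_spec hex
      rw [h, pow_zero, pow_one] at this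
      exact absurd this ht₀'
    · omega⟩
  set t := t₀ ^ 2 ^ i with ht
  have htT : t ∈ T := pow_mem ht₀ _
  have ht2 : t * t ∈ Subgroup.centralizer (X : Set G) := by
    have := Nat.find_spec hex
    rw [hi, pow_succ, pow_mul, ← ht, pow_two] at this
    exact this
  have htn : t ∉ Subgroup.centralizer (X : Set G) := Nat.find_min hex (by omega)
  rw [Subgroup.mem_centralizer_iff] at htn
  push Not at htn
  obtain ⟨x₀, hx₀, hne⟩ := htn
  have hconj : t * x₀ * t⁻¹ ∈ X := (Subgroup.mem_normalizer_iff.mp (hTN htT) x₀).mp hx₀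
  refine ⟨t, htT, t * x₀ * t⁻¹ * x₀⁻¹, mul_mem hconj (inv_mem hx₀), ?_, ?_⟩
  · rw [Ne, mul_inv_eq_one, mul_inv_eq_iff_eq_mul]
    exact fun h => hne h.symm
  · have hc := Subgroup.mem_centralizer_iff.mp ht2 x₀ hx₀
    have h2 : t * (t * x₀ * t⁻¹) * t⁻¹ = x₀ := by
      calc t * (t * x₀ * t⁻¹) * t⁻¹ = t * t * x₀ * (t * t)⁻¹ := by group
        _ = x₀ := by rw [← hc, mul_inv_cancel_right]
    calc t * (t * x₀ * t⁻¹ * x₀⁻¹) * t⁻¹
        = t * (t * x₀ * t⁻¹) * t⁻¹ * (t * x₀ * t⁻¹)⁻¹ := by group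
      _ = _ := by rw [h2]; group

end Cfsg.Agent.S4186
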