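import Cfsg.Statements.S4188
import Cfsg.Agent.GenA.TwoLinear
import Cfsg.Agent.GroupStructure3.FrattiniAut

set_option autoImplicit false
open Cfsg

namespace Cfsg.Agent.S4188

open Cfsg.Agent.GenA.TwoLinear
open scoped Pointwise

theorem index_frattini_le {P : Type*} [Group P] [Finite P] (hP : IsPGroup 2 P) {d : ℕ}
    (h : Gens P d) : (frattini P).index ≤ 2 ^ d := by
  classical
  haveI : Fact (Nat.Prime 2) := ⟨Nat.prime_two⟩
  obtain ⟨S, hS, hS'⟩ := h
  let Q := P ⧸ frattini P
  let π := QuotientGroup.mk' (frattini P)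
  have hsq : ∀ x : Q, x ^ 2 = 1 := by
    intro x
    obtain ⟨x, rfl⟩ := QuotientGroup.mk'_surjective _ x
    rw [← map_pow]
    exact (QuotientGroup.eq_one_iff _).2 (GroupStructure3.FrattiniAut.pow_mem_frattini hP x)
  have hcomm : ∀ x y : Q, x * y = y * x := by
    have hinv : ∀ x : Q, x⁻¹ = x := fun x => inv_eq_of_mul_eq_one_right (by rw [← pow_two, hsq])
    intro x y
    calc x * y = (x * y)⁻¹ := (hinv _).symm
      _ = y⁻¹ * x⁻¹ := mul_inv_rev _ _
      _ = y * x := by rw [hinv, hinv]
  have key : ∀ T : Finset P, Nat.card (Subgroup.closure (π '' (T : Set P))) ≤ 2 ^ T.card := by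
    intro T
    induction T using Finset.induction_on with
    | empty => simp
    | @insert a T ha ih =>
      rw [Finset.coe_insert, Set.image_insert_eq, Set.insert_eq, Subgroup.closure_union,
        ← Subgroup.zpowers_eq_closure, Finset.card_insert_of_notMem ha, pow_succ']
      have hn : (Subgroup.closure (π '' (T : Set P))).Normal :=
        ⟨fun x hx g => by rw [hcomm g, mul_inv_cancel_right]; exact hx⟩
      calc Nat.card ↥(Subgroup.zpowers (π a) ⊔ Subgroup.closure (π '' (T : Set P)))
          = Nat.card ((Subgroup.zpowers (π a) : Set Q) * (Subgroup.closure (π '' (T : Set P)) : Set Q) : Set Q) := by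
            rw [← Subgroup.mul_normal]; rfl
        _ ≤ Nat.card (Subgroup.zpowers (π a)) * Nat.card (Subgroup.closure (π '' (T : Set P))) :=
            Set.natCard_mul_le
        _ ≤ 2 * 2 ^ T.card := Nat.mul_le_mul
            ((Nat.card_zpowers _).trans_le (orderOf_le_of_pow_eq_one two_pos (hsq _))) ih
  have h1 := key S
  rw [← MonoidHom.map_closure, hS', Subgroup.map_top_of_surjective π (QuotientGroup.mk'_surjective _),
    Subgroup.card_top, ← Subgroup.index_eq_card] at h1
  exact h1.trans (Nat.pow_le_pow_right two_pos hS)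

theorem five_bound {p : ℕ} (hp : 5 ≤ p) : ∀ n, 1 ≤ n → 2 ^ (2 * n - 1) ≤ p ^ n - 1 := by
  intro n hn
  have h : 2 ^ (2 * n - 1) + 1 ≤ 5 ^ n := by
    induction n, hn using Nat.le_induction with
    | base => norm_num
    | succ n hn ih =>
      have : 2 ^ (2 * (n + 1) - 1) = 4 * 2 ^ (2 * n - 1) := by
        rw [show 2 * (n + 1) - 1 = (2 * n - 1) + 2 by omega, pow_add]; ring
      rw [this, pow_succ]
      omega
  have := Nat.pow_le_pow_left hp n
  omega

theorem three_bound : ∀ n, 1 ≤ n → 2 ^ ((3 * n - 1) / 2) + 1 ≤ 3 ^ n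
  | 0, h => absurd h (by norm_num)
  | 1, _ => by norm_num
  | 2, _ => by norm_num
  | n + 3, _ => by
    have ih := three_bound (n + 1) (by omega)
    rw [show (3 * (n + 3) - 1) / 2 = (3 * (n + 1) - 1) / 2 + 3 by omega, pow_add,
      show n + 3 = (n + 1) + 2 by omega, pow_add 3 (n + 1)]
    omega

/-- Let G be a finite group that is the semidirect product of a normal abelian subgroup N of odd order by a 2-subgroup P, and suppose N is the unique minimal normal subgroup of G. Then the index of the Frattini subgroup of P in P is at most #N − 1. -/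
theorem result {G : Type*} [Group G] [Finite G] (N P : Subgroup G) (hN : N.Normal) (hNab : IsMulCommutative ↥N) (hNodd : Odd (Nat.card ↥N)) (hP : IsPGroup 2 ↥P) (hdisj : N ⊓ P = ⊥) (hprod : N ⊔ P = ⊤) (hmin : N ≠ ⊥ ∧ ∀ M : Subgroup G, M.Normal → M ≠ ⊥ → N ≤ M) : (frattini ↥P).index ≤ Nat.card ↥N - 1 := by
  classical
  haveI := hN
  letI : CommGroup N := { (inferInstance : Group N) with mul_comm := mul_comm' }
  obtain ⟨p, hp, hpN⟩ := Nat.exists_prime_and_dvd
    (show Nat.card N ≠ 1 from fun h => hmin.1 (Subgroup.card_eq_one.1 h))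
  haveI := Fact.mk hp
  have hodd : p ≠ 2 := fun h => (Nat.not_even_iff_odd.2 hNodd) (even_iff_two_dvd.2 (h ▸ hpN))
  have hexp : ∀ x : N, x ^ p = 1 := by
    obtain ⟨a, ha⟩ := exists_prime_orderOf_dvd_card' (G := N) p hpN
    let M : Subgroup G := ((powMonoidHom p : N →* N).ker).map N.subtype
    have hMn : M.Normal := by
      refine ⟨?_⟩
      rintro _ ⟨x, hx, rfl⟩ g
      refine ⟨⟨g * x * g⁻¹, hN.conj_mem x x.2 g⟩, Subtype.ext ?_, rfl⟩
      have hx' : (x : G) ^ p = 1 := by exact_mod_cast congrArg Subtype.val hx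
      show (g * x * g⁻¹) ^ p = 1
      rw [conj_pow, hx', mul_one, mul_inv_cancel]
    have hMne : M ≠ ⊥ := by
      intro h
      have h1 : (a : G) ∈ M := ⟨a, by show a ^ p = 1; rw [← ha]; exact pow_orderOf_eq_one a, rfl⟩
      rw [h, Subgroup.mem_bot] at h1
      rw [show a = 1 from Subtype.ext h1, orderOf_one] at ha
      exact hp.one_lt.ne ha
    intro x
    obtain ⟨y, hy, hxy⟩ := hmin.2 M hMn hMne x.2
    rw [← Subtype.ext hxy]
    exact hy
  letI : Module (ZMod p) (Additive N) := AddCommGroup.zmodModule (n := p) (G := Additive N)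
    (fun x => congrArg Additive.ofMul (hexp x.toMul))
  let f : P → Module.End (ZMod p) (Additive N) := fun g =>
    AddMonoidHom.toZModLinearMap p
      (MonoidHom.toAdditive ((MulAut.conjNormal (H := N) (g : G)).toMonoidHom) : Additive N →+ Additive N)
  have hf : ∀ (g : P) (v : Additive N),
      f g v = Additive.ofMul (MulAut.conjNormal (H := N) (g : G) v.toMul) := fun _ _ => rfl
  let ρ : Representation (ZMod p) P (Additive N) :=
    { toFun := f
      map_one' := LinearMap.ext fun v => by
        rw [hf, OneMemClass.coe_one, map_one]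
        rfl
      map_mul' := fun a b => LinearMap.ext fun v => by
        rw [Module.End.mul_apply, hf, hf, hf, Subgroup.coe_mul, map_mul]
        rfl }
  have hρ : Function.Injective ρ := by
    let C : Subgroup G := P ⊓ Subgroup.centralizer (N : Set G)
    have hC : C = ⊥ := by
      by_contra hne
      have hCn : C.Normal := by
        refine ⟨fun c hc g => ?_⟩
        obtain ⟨n, hn, q, hq, rfl⟩ := Subgroup.mem_sup_of_normal_left.1 (hprod ▸ Subgroup.mem_top g : g ∈ N ⊔ P)
        have hcen : q * c * q⁻¹ ∈ Subgroup.centralizer (N : Set G) :=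
          (inferInstance : (Subgroup.centralizer (N : Set G)).Normal).conj_mem c hc.2 q
        have hfix : n * (q * c * q⁻¹) * n⁻¹ = q * c * q⁻¹ := by
          rw [Subgroup.mem_centralizer_iff.1 hcen n hn, mul_inv_cancel_right]
        rw [show n * q * c * (n * q)⁻¹ = n * (q * c * q⁻¹) * n⁻¹ by group, hfix]
        exact ⟨P.mul_mem (P.mul_mem hq hc.1) (P.inv_mem hq), hcen⟩
      have h1 : N ≤ N ⊓ P := le_inf le_rfl ((hmin.2 C hCn hne).trans inf_le_left)
      exact hmin.1 (le_bot_iff.1 (hdisj ▸ h1))
    intro a b hab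
    have h1 : ((a⁻¹ * b : P) : G) ∈ C := by
      refine ⟨(a⁻¹ * b).2, Subgroup.mem_centralizer_iff.2 fun x hx => ?_⟩
      have h2 : MulAut.conjNormal (H := N) (a : G) ⟨x, hx⟩ = MulAut.conjNormal (H := N) (b : G) ⟨x, hx⟩ :=
        congrArg Additive.toMul (LinearMap.congr_fun hab (Additive.ofMul ⟨x, hx⟩))
      have h3 : (a : G) * x * (a : G)⁻¹ = b * x * (b : G)⁻¹ := by
        simpa using congrArg Subtype.val h2
      push_cast
      calc x * ((a : G)⁻¹ * b) = (a : G)⁻¹ * ((a : G) * x * (a : G)⁻¹) * b := by group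
        _ = (a : G)⁻¹ * b * x := by rw [h3]; group
    rw [hC, Subgroup.mem_bot] at h1
    exact inv_mul_eq_one.1 (Subtype.ext h1)
  have hcard : Nat.card N = p ^ Module.finrank (ZMod p) (Additive N) := by
    rw [← Nat.card_congr (Additive.toMul (α := N)), Module.natCard_eq_pow_finrank (K := ZMod p), Nat.card_zmod]
  have hn : 1 ≤ Module.finrank (ZMod p) (Additive N) := by
    by_contra h
    rw [not_le, Nat.lt_one_iff] at h
    rw [h, pow_zero] at hcard
    exact hmin.1 (Subgroup.card_eq_one.1 hcard)
  rcases eq_or_ne p 3 with rfl | hp3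
  · have hb : Bound 3 fun n => (3 * n - 1) / 2 := ⟨by norm_num, fun n hn => by omega,
      fun a b ha hb => by omega, fun m hm => by
        rcases Nat.even_or_odd m with ⟨k, rfl⟩ | h
        · left; omega
        · exact Or.inr ⟨rfl, Or.inr h⟩⟩
    have := (index_frattini_le hP (gens_linear (by norm_num) hb _ (Additive N) rfl P hP ρ hρ)).trans
      (Nat.le_sub_one_of_lt (Nat.lt_of_succ_le (three_bound _ hn)))
    rwa [hcard]
  · have hp5 : 5 ≤ p := by
      have := hp.two_le
      by_contra h
      interval_cases p <;> norm_num at *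
    have hb : Bound p fun n => 2 * n - 1 := ⟨by norm_num, fun n hn => by omega,
      fun a b ha hb => by omega, fun m hm => Or.inl (by omega)⟩
    have := (index_frattini_le hP (gens_linear hodd hb _ (Additive N) rfl P hP ρ hρ)).trans
      (five_bound hp5 _ hn)
    rwa [hcard]

end Cfsg.Agent.S4188
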