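import Cfsg.Statements.S4192
import Cfsg.Agent.Lib.RealClassDisc.Structure

set_option autoImplicit false
open Cfsg

namespace Cfsg.Agent.S4192

/-- Let G be a finite group; call an element real when it is conjugate to its inverse, and say that the real-class-size graph of a group is disconnected when the primes dividing its real class sizes split into two non-empty disjoint parts with no real class size divisible by a prime from each part. If the real-class-size graph of G is disconnected, then some real class size of G is even, and either the Sylow 2-subgroups of G are normal, or the subgroup K generated by the 2-elements of G (the smallest normal subgroup of odd index) again has a disconnected real-class-size graph and every real class size of K is odd or a power of 2. -/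
theorem result {G : Type*} [Group G] [Finite G] (h : (∃ π₁ π₂ : Set ℕ, π₁.Nonempty ∧ π₂.Nonempty ∧ Disjoint π₁ π₂ ∧ (∀ q ∈ π₁ ∪ π₂, q.Prime ∧ ∃ n ∈ {n : ℕ | ∃ x : G, IsConj x x⁻¹ ∧ (Subgroup.centralizer ({x} : Set G)).index = n}, q ∣ n) ∧ (∀ q : ℕ, q.Prime → (∃ n ∈ {n : ℕ | ∃ x : G, IsConj x x⁻¹ ∧ (Subgroup.centralizer ({x} : Set G)).index = n}, q ∣ n) → q ∈ π₁ ∨ q ∈ π₂) ∧ ∀ a ∈ π₁, ∀ b ∈ π₂, ∀ n ∈ {n : ℕ | ∃ x : G, IsConj x x⁻¹ ∧ (Subgroup.centralizer ({x} : Set G)).index = n}, ¬ (a ∣ n ∧ b ∣ n))) : (∃ n ∈ {n : ℕ | ∃ x : G, IsConj x x⁻¹ ∧ (Subgroup.centralizer ({x} : Set G)).index = n}, 2 ∣ n) ∧ ((∀ P : Sylow 2 G, (P : Subgroup G).Normal) ∨ ((∃ π₁ π₂ : Set ℕ, π₁.Nonempty ∧ π₂.Nonempty ∧ Disjoint π₁ π₂ ∧ (∀ q ∈ π₁ ∪ π₂, q.Prime ∧ ∃ n ∈ {n : ℕ | ∃ x : ↥(Subgroup.closure {g : G | ∃ k : ℕ, orderOf g = 2 ^ k}), IsConj x x⁻¹ ∧ (Subgroup.centralizer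 ({x} : Set ↥(Subgroup.closure {g : G | ∃ k : ℕ, orderOf g = 2 ^ k}))).index = n}, q ∣ n) ∧ (∀ q : ℕ, q.Prime → (∃ n ∈ {n : ℕ | ∃ x : ↥(Subgroup.closure {g : G | ∃ k : ℕ, orderOf g = 2 ^ k}), IsConj x x⁻¹ ∧ (Subgroup.centralizer ({x} : Set ↥(Subgroup.closure {g : G | ∃ k : ℕ, orderOf g = 2 ^ k}))).index = n}, q ∣ n) → q ∈ π₁ ∨ q ∈ π₂) ∧ ∀ a ∈ π₁, ∀ b ∈ π₂, ∀ n ∈ {n : ℕ | ∃ x : ↥(Subgroup.closure {g : G | ∃ k : ℕ, orderOf g = 2 ^ k}), IsConj x x⁻¹ ∧ (Subgroup.centralizer ({x} : Set ↥(Subgroup.closure {g : G | ∃ k : ℕ, orderOf g = 2 ^ k}))).index = n}, ¬ (a ∣ n ∧ b ∣ n)) ∧ ∀ n ∈ {n : ℕ | ∃ x : ↥(Subgroup.closure {g : G | ∃ k : ℕ, orderOf g = 2 ^ k}), IsConj x x⁻¹ ∧ (Subgroup.centralizer ({x} : Set ↥(Subgroup.closure {g : G | ∃ k : ℕ, orderOf g = 2 ^ k}))).index = n}, Odd n ∨ ∃ j : ℕ, n = 2 ^ j)) := by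
  obtain ⟨π₁, π₂, ⟨q₁, hq₁⟩, ⟨q₂, hq₂⟩, hdisj, hsub, hcover, hnoedge⟩ := h
  have hcov : ∀ p : ℕ, p.Prime → ∀ x : G, IsConj x x⁻¹ →
      p ∣ (Subgroup.centralizer ({x} : Set G)).index → p ∈ π₁ ∨ p ∈ π₂ :=
    fun p hp y hy hd => hcover p hp ⟨_, ⟨y, hy, rfl⟩, hd⟩
  have hno : ∀ a ∈ π₁, ∀ b ∈ π₂, ∀ x : G, IsConj x x⁻¹ →
      a ∣ (Subgroup.centralizer ({x} : Set G)).index →
        ¬ b ∣ (Subgroup.centralizer ({x} : Set G)).index :=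
    fun a ha b hb y hy hay hby => hnoedge a ha b hb _ ⟨y, hy, rfl⟩ ⟨hay, hby⟩
  obtain ⟨hp₁, _, ⟨x₁, hx₁, rfl⟩, hd₁⟩ := hsub q₁ (Or.inl hq₁)
  obtain ⟨hp₂, _, ⟨x₂, hx₂, rfl⟩, hd₂⟩ := hsub q₂ (Or.inr hq₂)
  obtain ⟨x, hx, hx2⟩ :=
    RealClassDisc.exists_even_real π₁ π₂ hcov hno hq₁ hx₁ hd₁ hq₂ hx₂ hd₂ hp₁ hp₂
  refine ⟨⟨_, ⟨x, hx, rfl⟩, hx2⟩, ?_⟩
  by_cases hN : ∀ P : Sylow 2 G, (P : Subgroup G).Normal
  · exact Or.inl hN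
  refine Or.inr ?_
  rcases hcov 2 Nat.prime_two x hx hx2 with h2 | h2
  · exact RealClassDisc.structure_main π₁ π₂ hcov hno h2 hq₂ hx₂ hd₂ hp₂ hN
  · exact RealClassDisc.structure_main π₂ π₁ (fun p hp y hy hd => (hcov p hp y hy hd).symm)
      (fun a ha b hb y hy hay hby => hno b hb a ha y hy hby hay) h2 hq₁ hx₁ hd₁ hp₁ hN

end Cfsg.Agent.S4192
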