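import Cfsg.Statements.S4195

set_option autoImplicit false
open Cfsg

namespace Cfsg.Agent.S4195

open Subgroup

theorem sq_eq_one_of_real {G : Type*} [Group G] [Finite G] (x : G) (P : Sylow 2 G)
    (hP : (P : Subgroup G) ≤ centralizer ({x} : Set G)) (hreal : IsConj x x⁻¹) : x ^ 2 = 1 := by
  by_contra hx2
  obtain ⟨g, hg⟩ := isConj_iff.1 hreal
  set C := centralizer ({x} : Set G)
  have hgC : g ∉ C := fun h => hx2 (by
    have h' := mem_centralizer_singleton_iff.1 h
    rw [h', mul_inv_cancel_right] at hg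
    rw [pow_two]
    nth_rw 2 [hg]
    rw [mul_inv_cancel])
  have hgN : g ∈ normalizer (C : Set G) := mem_normalizer_fintype fun y hy => by
    show g * y * g⁻¹ ∈ C
    have hy' := mem_centralizer_singleton_iff.1 hy
    have h1 : (g * y * g⁻¹) * x⁻¹ = x⁻¹ * (g * y * g⁻¹) := by
      rw [← hg]
      calc g * y * g⁻¹ * (g * x * g⁻¹) = g * (y * x) * g⁻¹ := by group
        _ = g * (x * y) * g⁻¹ := by rw [hy']
        _ = g * x * g⁻¹ * (g * y * g⁻¹) := by group
    exact mem_centralizer_singleton_iff.2 (inv_inv x ▸ (Commute.inv_right h1).eq)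
  have hg2 : g * g ∈ C := by
    refine mem_centralizer_singleton_iff.2 ?_
    have h1 : g * x * g⁻¹ = x⁻¹ := hg
    have h2 : g * (g * x * g⁻¹) * g⁻¹ = x := by
      rw [h1]
      have : g * x⁻¹ * g⁻¹ = (g * x * g⁻¹)⁻¹ := by group
      rw [this, h1, inv_inv]
    calc g * g * x = g * (g * x * g⁻¹) * g⁻¹ * (g * g) := by group
      _ = x * (g * g) := by rw [h2]
  haveI : (C.subgroupOf (normalizer (C : Set G))).Normal := normal_in_normalizer
  have h2 : orderOf (QuotientGroup.mk' (C.subgroupOf (normalizer (C : Set G))) ⟨g, hgN⟩) = 2 := by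
    haveI : Fact (Nat.Prime 2) := ⟨Nat.prime_two⟩
    refine orderOf_eq_prime ?_ ?_
    · rw [pow_two, ← map_mul]
      exact (QuotientGroup.eq_one_iff _).2 hg2
    · intro h
      exact hgC ((QuotientGroup.eq_one_iff (⟨g, hgN⟩ : normalizer (C : Set G))).1 h)
  have hdvd : 2 ∣ C.index := by
    rw [← h2, ← relIndex_mul_index (le_normalizer : C ≤ normalizer (C : Set G))]
    exact (_root_.orderOf_dvd_natCard _).mul_right _
  exact P.not_dvd_index (hdvd.trans (index_dvd_of_le hP))


/-- Let x be a non-identity element of a finite group G whose centralizer contains a Sylow 2-subgroup of G. If x is conjugate to its inverse, then x has order 2. -/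
theorem result {G : Type*} [Group G] [Finite G] (x : G) (hx : x ≠ 1) (P : Sylow 2 G) (hP : (P : Subgroup G) ≤ Subgroup.centralizer ({x} : Set G)) (hreal : IsConj x x⁻¹) : orderOf x = 2 := by
  haveI : Fact (Nat.Prime 2) := ⟨Nat.prime_two⟩
  exact orderOf_eq_prime (sq_eq_one_of_real x P hP hreal) hx

end Cfsg.Agent.S4195
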