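import Cfsg.Statements.S4196
import Cfsg.Agent.S4195
import Cfsg.Agent.Lib.Transfer.Fusion

set_option autoImplicit false
open Cfsg

namespace Cfsg.Agent.S4196

/-- A finite group G has elementary abelian Sylow 2-subgroups (commutative with every element squaring to the identity) if and only if every 2-element of G has a Sylow 2-subgroup in its centralizer and is conjugate to its inverse. -/
theorem result {G : Type*} [Group G] [Finite G] (P : Sylow 2 G) :
    (IsMulCommutative (P : Subgroup G) ∧ ∀ x ∈ (P : Subgroup G), x ^ 2 = 1) ↔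
      ∀ x : G, (∃ k : ℕ, orderOf x = 2 ^ k) → (∃ Q : Sylow 2 G, (Q : Subgroup G) ≤ Subgroup.centralizer ({x} : Set G)) ∧ IsConj x x⁻¹ := by
  constructor
  · rintro ⟨hc, h2⟩ x ⟨k, hk⟩
    have hxp : IsPGroup 2 (Subgroup.zpowers x) :=
      IsPGroup.of_card (n := k) (by rw [Nat.card_zpowers, hk])
    obtain ⟨Q, hQ⟩ := hxp.exists_le_sylow
    have hxQ := hQ (Subgroup.mem_zpowers x)
    obtain ⟨g, rfl⟩ := MulAction.exists_smul_eq G P Q
    have hx' := Transfer.Fusion.mem_smul_sylow_iff.1 hxQ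
    refine ⟨⟨g • P, fun y hy => Subgroup.mem_centralizer_singleton_iff.2 ?_⟩, ?_⟩
    · have hy' := Transfer.Fusion.mem_smul_sylow_iff.1 hy
      have h := congrArg Subtype.val (hc.is_comm.comm ⟨_, hy'⟩ ⟨_, hx'⟩)
      calc y * x = g * ((g⁻¹ * y * g) * (g⁻¹ * x * g)) * g⁻¹ := by group
        _ = g * ((g⁻¹ * x * g) * (g⁻¹ * y * g)) * g⁻¹ := congrArg (fun t => g * t * g⁻¹) h
        _ = x * y := by group
    · have h := h2 _ hx'
      rw [pow_two] at h
      have hxx : x * x = 1 := by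
        calc x * x = g * ((g⁻¹ * x * g) * (g⁻¹ * x * g)) * g⁻¹ := by group
          _ = 1 := by rw [h]; group
      rw [← eq_inv_of_mul_eq_one_left hxx]
  · intro h
    have h2 : ∀ x ∈ (P : Subgroup G), x ^ 2 = 1 := by
      intro x hx
      obtain ⟨k, hk⟩ := IsPGroup.iff_orderOf.1 P.2 ⟨x, hx⟩
      obtain ⟨⟨Q, hQ⟩, hreal⟩ := h x ⟨k, by rwa [Subgroup.orderOf_mk] at hk⟩
      exact S4195.sq_eq_one_of_real x Q hQ hreal
    refine ⟨⟨⟨fun a b => Subtype.ext ?_⟩⟩, h2⟩
    have ha : (a : G)⁻¹ = a := inv_eq_of_mul_eq_one_right (by rw [← pow_two]; exact h2 _ a.2)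
    have hb : (b : G)⁻¹ = b := inv_eq_of_mul_eq_one_right (by rw [← pow_two]; exact h2 _ b.2)
    have hab : ((a * b : (P : Subgroup G)) : G)⁻¹ = (a * b : (P : Subgroup G)) :=
      inv_eq_of_mul_eq_one_right (by rw [← pow_two]; exact h2 _ (a * b).2)
    rw [Subgroup.coe_mul, mul_inv_rev, ha, hb] at hab
    exact hab.symm

end Cfsg.Agent.S4196
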