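import Cfsg.Statements.S4198
import Mathlib

set_option autoImplicit false
open Cfsg

namespace Cfsg.Agent.S4198

open Equiv.Perm

theorem card_partition_five : Nat.card (Nat.Partition 5) ≤ 8 := by
  classical
  let U : Finset (Fin 6 × Fin 3 × Fin 2 × Fin 2 × Fin 2) := Finset.univ.filter fun c =>
    (c.1 : ℕ) + 2 * c.2.1 + 3 * c.2.2.1 + 4 * c.2.2.2.1 + 5 * c.2.2.2.2 = 5
  have hU : U.card ≤ 8 := by decide +kernel
  have hsum : ∀ q : Nat.Partition 5, q.parts.count 1 + 2 * q.parts.count 2 + 3 * q.parts.count 3 +
      4 * q.parts.count 4 + 5 * q.parts.count 5 = 5 := by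
    intro q
    have hsub : q.parts.toFinset ⊆ ({1, 2, 3, 4, 5} : Finset ℕ) := by
      intro x hx
      rw [Multiset.mem_toFinset] at hx
      have h1 := q.parts_pos hx
      have h2 := Multiset.le_sum_of_mem hx
      rw [q.parts_sum] at h2
      simp only [Finset.mem_insert, Finset.mem_singleton]
      omega
    have h := Finset.sum_multiset_count_of_subset q.parts _ hsub
    simp [q.parts_sum] at h
    omega
  let f : Nat.Partition 5 → U := fun q =>
    ⟨(⟨q.parts.count 1, by have := hsum q; omega⟩, ⟨q.parts.count 2, by have := hsum q; omega⟩,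
      ⟨q.parts.count 3, by have := hsum q; omega⟩, ⟨q.parts.count 4, by have := hsum q; omega⟩,
      ⟨q.parts.count 5, by have := hsum q; omega⟩),
      Finset.mem_filter.2 ⟨Finset.mem_univ _, hsum q⟩⟩
  have hf : Function.Injective f := by
    intro a b h
    simp only [f, Subtype.mk.injEq, Prod.mk.injEq, Fin.mk.injEq] at h
    refine Nat.Partition.ext (Multiset.ext.2 fun i => ?_)
    have hout : ∀ (q : Nat.Partition 5), i = 0 ∨ 6 ≤ i → q.parts.count i = 0 := fun q hi =>
      Multiset.count_eq_zero.2 fun hm => by
        have h1 := q.parts_pos hm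
        have h2 := Multiset.le_sum_of_mem hm
        rw [q.parts_sum] at h2
        omega
    by_cases hi : i = 0 ∨ 6 ≤ i
    · rw [hout a hi, hout b hi]
    · obtain rfl | rfl | rfl | rfl | rfl : i = 1 ∨ i = 2 ∨ i = 3 ∨ i = 4 ∨ i = 5 := by omega
      exacts [h.1, h.2.1, h.2.2.1, h.2.2.2.1, h.2.2.2.2]
  refine (Nat.card_le_card_of_injective f hf).trans ?_
  rw [Nat.card_eq_fintype_card, Fintype.card_coe]
  exact hU

theorem card_partition_succ (k : ℕ) (hk : 1 ≤ k) :
    Nat.card (Nat.Partition (k + 1)) ≤ 2 * Nat.card (Nat.Partition k) := by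
  classical
  have hmin : ∀ q : Nat.Partition (k + 1), ∃ a ∈ q.parts, ∀ b ∈ q.parts, a ≤ b := by
    intro q
    have hne : q.parts.toFinset.Nonempty := by
      rw [Finset.nonempty_iff_ne_empty]
      intro h
      have := q.parts_sum
      rw [Multiset.toFinset_eq_empty.1 h, Multiset.sum_zero] at this
      omega
    exact ⟨_, Multiset.mem_toFinset.1 (Finset.min'_mem _ hne), fun b hb =>
      Finset.min'_le _ _ (Multiset.mem_toFinset.2 hb)⟩
  choose a ha hmina using hmin
  have hs : ∀ q : Nat.Partition (k + 1), a q + (q.parts.erase (a q)).sum = k + 1 := fun q => by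
    rw [← Multiset.sum_cons, Multiset.cons_erase (ha q), q.parts_sum]
  let f : Nat.Partition (k + 1) → Nat.Partition k ⊕ Nat.Partition k := fun q =>
    if h1 : 1 ∈ q.parts then Sum.inl
      { parts := q.parts.erase 1
        parts_pos := fun hi => q.parts_pos (Multiset.mem_of_mem_erase hi)
        parts_sum := by
          have := congrArg Multiset.sum (Multiset.cons_erase h1)
          rw [Multiset.sum_cons, q.parts_sum] at this
          omega }
    else Sum.inr
      { parts := (a q - 1) ::ₘ q.parts.erase (a q)
        parts_pos := fun {i} hi => by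
          rcases Multiset.mem_cons.1 hi with rfl | hi
          · have h2 := q.parts_pos (ha q)
            have h3 : a q ≠ 1 := fun e => h1 (by have h4 := ha q; simpa only [e] using h4)
            omega
          · exact q.parts_pos (Multiset.mem_of_mem_erase hi)
        parts_sum := by
          rw [Multiset.sum_cons]
          have := hs q
          have h2 := q.parts_pos (ha q)
          omega }
  have hf : Function.Injective f := by
    intro u v h
    simp only [f] at h
    split at h <;> split at h
    case isTrue.isTrue hu hv =>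
      simp only [Sum.inl.injEq, Nat.Partition.ext_iff] at h
      exact Nat.Partition.ext (by rw [← Multiset.cons_erase hu, ← Multiset.cons_erase hv, h])
    case isFalse.isFalse hu hv =>
      simp only [Sum.inr.injEq, Nat.Partition.ext_iff] at h
      have hau := q_pos u (ha u)
      have hav := q_pos v (ha v)
      have e1 : a u - 1 = a v - 1 := by
        have m1 : a u - 1 ∈ (a v - 1) ::ₘ v.parts.erase (a v) := h ▸ Multiset.mem_cons_self _ _
        have m2 : a v - 1 ∈ (a u - 1) ::ₘ u.parts.erase (a u) := h.symm ▸ Multiset.mem_cons_self _ _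
        rcases Multiset.mem_cons.1 m1 with e | e
        · exact e
        rcases Multiset.mem_cons.1 m2 with e' | e'
        · exact e'.symm
        have := hmina v _ (Multiset.mem_of_mem_erase e)
        have := hmina u _ (Multiset.mem_of_mem_erase e')
        omega
      have e2 : a u = a v := by omega
      rw [e1] at h
      have e3 := Multiset.cons_inj_right _ |>.1 h
      exact Nat.Partition.ext (by
        rw [← Multiset.cons_erase (ha u), ← Multiset.cons_erase (ha v), e3, e2])
    all_goals simp at h
  refine (Nat.card_le_card_of_injective f hf).trans ?_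
  rw [Nat.card_sum]
  omega
where
  q_pos {m : ℕ} (q : Nat.Partition m) {i : ℕ} (h : i ∈ q.parts) : 0 < i := q.parts_pos h

theorem card_partition_le : ∀ n, 5 ≤ n → Nat.card (Nat.Partition n) ≤ 2 ^ (n - 2) := by
  intro n hn
  induction n, hn using Nat.le_induction with
  | base => exact card_partition_five
  | succ k hk ih =>
    refine (card_partition_succ k (by omega)).trans ?_
    rw [show k + 1 - 2 = (k - 2) + 1 by omega, pow_succ']
    omega


/-- For n ≥ 5 the alternating group of degree n has strictly fewer conjugacy classes than the symmetric group of degree n, and the symmetric group of degree n (whose classes correspond to the partitions of n) has at most 2^(n−2) conjugacy classes. -/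
theorem result (n : ℕ) (hn : 5 ≤ n) : Nat.card (ConjClasses (alternatingGroup (Fin n))) < Nat.card (ConjClasses (Equiv.Perm (Fin n))) ∧ Nat.card (ConjClasses (Equiv.Perm (Fin n))) ≤ 2 ^ (n - 2) := by
  classical
  haveI := Fintype.ofFinite (ConjClasses (Equiv.Perm (Fin n)))
  constructor
  · -- classes of the alternating group
    let f : ConjClasses (alternatingGroup (Fin n)) → ConjClasses (Equiv.Perm (Fin n)) :=
      ConjClasses.map (alternatingGroup (Fin n)).subtype
    let pref : ConjClasses (Equiv.Perm (Fin n)) → ConjClasses (alternatingGroup (Fin n)) := fun C =>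
      if h : ∃ c, f c = C then h.choose else ConjClasses.mk 1
    -- conjugating an even permutation
    have hlift : ∀ x y : alternatingGroup (Fin n), ∀ z : Equiv.Perm (Fin n),
        z * (x : Equiv.Perm (Fin n)) * z⁻¹ = y → z ∈ alternatingGroup (Fin n) →
        ConjClasses.mk x = ConjClasses.mk y := fun x y z hz hzA =>
      ConjClasses.mk_eq_mk_iff_isConj.2 (isConj_iff.2 ⟨⟨z, hzA⟩, Subtype.ext hz⟩)
    have hodd : ∀ z w : Equiv.Perm (Fin n), z ∉ alternatingGroup (Fin n) →
        w ∉ alternatingGroup (Fin n) → z * w ∈ alternatingGroup (Fin n) := by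
      intro z w hz hw
      rw [mem_alternatingGroup] at hz hw ⊢
      rw [map_mul, (Int.units_eq_one_or _).resolve_left hz, (Int.units_eq_one_or _).resolve_left hw,
        neg_mul_neg, one_mul]
    have hkey : ∀ c, c ≠ pref (f c) → ∃ x : alternatingGroup (Fin n), f c = ConjClasses.mk (x : Equiv.Perm (Fin n)) ∧
        Subgroup.centralizer {(x : Equiv.Perm (Fin n))} ≤ alternatingGroup (Fin n) ∧
        ∀ c', f c' = f c → c' ≠ pref (f c) → c' = c := by
      intro c hc
      have hex : ∃ d, f d = f c := ⟨c, rfl⟩
      have hp : pref (f c) = hex.choose := dif_pos hex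
      have hpf : f (pref (f c)) = f c := by rw [hp]; exact hex.choose_spec
      obtain ⟨x, rfl⟩ := ConjClasses.mk_surjective c
      obtain ⟨y, hy⟩ := ConjClasses.mk_surjective (pref (f (ConjClasses.mk x)))
      rw [← hy] at hpf hc
      obtain ⟨z, hz⟩ := isConj_iff.1 (ConjClasses.mk_eq_mk_iff_isConj.1 hpf)
      simp only [Subgroup.coe_subtype] at hz
      have hzA : z ∉ alternatingGroup (Fin n) := fun h => hc (hlift y x z hz h).symm
      refine ⟨x, rfl, fun w hw => ?_, fun c' hc' hne => ?_⟩
      · by_contra hwA
        refine hc (hlift y x (w * z) ?_ (hodd w z hwA hzA)).symm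
        rw [Subgroup.mem_centralizer_singleton_iff] at hw
        calc w * z * (y : Equiv.Perm (Fin n)) * (w * z)⁻¹ = w * (z * y * z⁻¹) * w⁻¹ := by group
          _ = _ := by rw [hz, hw, mul_inv_cancel_right]
      · obtain ⟨x', rfl⟩ := ConjClasses.mk_surjective c'
        obtain ⟨z', hz'⟩ := isConj_iff.1 (ConjClasses.mk_eq_mk_iff_isConj.1 (hpf.trans hc'.symm))
        simp only [Subgroup.coe_subtype] at hz'
        have hz'A : z' ∉ alternatingGroup (Fin n) := fun h => hne (by
          rw [← hy]; exact (hlift y x' z' hz' h).symm)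
        refine (hlift x x' (z' * z⁻¹) ?_ (hodd _ _ hz'A fun h => hzA (inv_mem_iff.1 h))).symm
        rw [← hz, ← hz']
        group
    -- the odd class attached to a split class
    have hsplit : ∀ x : alternatingGroup (Fin n),
        Subgroup.centralizer {(x : Equiv.Perm (Fin n))} ≤ alternatingGroup (Fin n) →
        ∃ (a : ℕ) (τ : Equiv.Perm (Fin n)), 3 ≤ a ∧ a ∈ (x : Equiv.Perm (Fin n)).cycleType ∧
          τ.cycleType = (a - 1) ::ₘ (x : Equiv.Perm (Fin n)).cycleType.erase a ∧
          τ ∉ alternatingGroup (Fin n) ∧ Even (a - 1) ∧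
          (∀ b ∈ (x : Equiv.Perm (Fin n)).cycleType, Odd b) ∧
          n ≤ (x : Equiv.Perm (Fin n)).cycleType.sum + 1 := by
      intro x hx
      obtain ⟨hO, hS, -⟩ := centralizer_le_alternating_iff.1 hx
      rw [Fintype.card_fin] at hS
      obtain ⟨a, ha⟩ : ∃ a, a ∈ (x : Equiv.Perm (Fin n)).cycleType :=
        Multiset.exists_mem_of_ne_zero fun h => by rw [h] at hS; simp at hS; omega
      have ha2 := two_le_of_mem_cycleType ha
      obtain ⟨b, hb⟩ := hO a ha
      have hsum : a + ((x : Equiv.Perm (Fin n)).cycleType.erase a).sum =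
          (x : Equiv.Perm (Fin n)).cycleType.sum := by
        rw [← Multiset.sum_cons, Multiset.cons_erase ha]
      have hle : (x : Equiv.Perm (Fin n)).cycleType.sum ≤ n := by
        have := Finset.card_le_univ (x : Equiv.Perm (Fin n)).support
        rw [Fintype.card_fin] at this
        rwa [sum_cycleType]
      obtain ⟨τ, hτ⟩ := (exists_with_cycleType_iff (Fin n)
        (m := (a - 1) ::ₘ (x : Equiv.Perm (Fin n)).cycleType.erase a)).2 ⟨by
          rw [Fintype.card_fin, Multiset.sum_cons]; omega, fun i hi => by
          rcases Multiset.mem_cons.1 hi with rfl | hi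
          · omega
          · exact two_le_of_mem_cycleType (Multiset.mem_of_mem_erase hi)⟩
      refine ⟨a, τ, by omega, ha, hτ, fun hτA => ?_, ⟨b, by omega⟩, hO, hS⟩
      rw [mem_alternatingGroup, sign_of_cycleType, hτ, Multiset.sum_cons, Multiset.card_cons] at hτA
      have hxA := x.2
      rw [mem_alternatingGroup, sign_of_cycleType, ← hsum, ← Multiset.card_erase_add_one ha] at hxA
      rw [show a + ((x : Equiv.Perm (Fin n)).cycleType.erase a).sum +
        (Multiset.card ((x : Equiv.Perm (Fin n)).cycleType.erase a) + 1) =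
        (a - 1 + ((x : Equiv.Perm (Fin n)).cycleType.erase a).sum +
        (Multiset.card ((x : Equiv.Perm (Fin n)).cycleType.erase a) + 1)) + 1 by omega,
        pow_succ, hτA, one_mul] at hxA
      exact absurd hxA (by decide)
    choose x hx1 hx2 hx3 using hkey
    choose a τ h3 hmem hτ hτA heven hodds hbig using hsplit
    let F : ConjClasses (alternatingGroup (Fin n)) → ConjClasses (Equiv.Perm (Fin n)) := fun c =>
      if hc : c = pref (f c) then f c else ConjClasses.mk (τ (x c hc) (hx2 c hc))
    have heq : ∀ C (y : alternatingGroup (Fin n)), C = ConjClasses.mk (y : Equiv.Perm (Fin n)) →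
        ∀ z : Equiv.Perm (Fin n), z ∉ alternatingGroup (Fin n) → C ≠ ConjClasses.mk z := by
      rintro C y rfl z hz e
      obtain ⟨w, hw⟩ := isConj_iff.1 (ConjClasses.mk_eq_mk_iff_isConj.1 e)
      exact hz (hw ▸ alternatingGroup.normal.conj_mem _ y.2 w)
    have hFinj : Function.Injective F := by
      intro c c' h
      simp only [F] at h
      split at h <;> split at h
      case isTrue.isTrue hc hc' => rw [hc, hc', h]
      case isTrue.isFalse hc hc' =>
        obtain ⟨y, rfl⟩ := ConjClasses.mk_surjective c
        exact absurd h (heq _ y rfl _ (hτA _ _))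
      case isFalse.isTrue hc hc' =>
        obtain ⟨y, rfl⟩ := ConjClasses.mk_surjective c'
        exact absurd h.symm (heq _ y rfl _ (hτA _ _))
      case isFalse.isFalse hc hc' =>
        have hct := congrArg id (isConj_iff_cycleType_eq.1 (ConjClasses.mk_eq_mk_iff_isConj.1 h))
        simp only [id, hτ] at hct
        set m := ((x c hc : alternatingGroup (Fin n)) : Equiv.Perm (Fin n)).cycleType
        set m' := ((x c' hc' : alternatingGroup (Fin n)) : Equiv.Perm (Fin n)).cycleType
        set u := a (x c hc) (hx2 c hc)
        set v := a (x c' hc') (hx2 c' hc')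
        have hu : u - 1 ∈ (v - 1) ::ₘ m'.erase v := hct ▸ Multiset.mem_cons_self _ _
        have e1 : u - 1 = v - 1 := by
          rcases Multiset.mem_cons.1 hu with e | e
          · exact e
          · exact absurd (heven (x c hc) (hx2 c hc))
              (Nat.not_even_iff_odd.2 (hodds (x c' hc') (hx2 c' hc') _ (Multiset.mem_of_mem_erase e)))
        rw [e1] at hct
        have e2 := (Multiset.cons_inj_right _).1 hct
        have e3 : u = v := by
          have := h3 (x c hc) (hx2 c hc)
          have := h3 (x c' hc') (hx2 c' hc')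
          omega
        have e4 : m = m' := by
          refine (Multiset.cons_erase (hmem (x c hc) (hx2 c hc))).symm.trans
            (Eq.trans ?_ (Multiset.cons_erase (hmem (x c' hc') (hx2 c' hc'))))
          change u ::ₘ m.erase u = v ::ₘ m'.erase v
          rw [e2, e3]
        have e5 : f c = f c' := by
          rw [hx1 c hc, hx1 c' hc', ConjClasses.mk_eq_mk_iff_isConj, isConj_iff_cycleType_eq]
          exact e4
        exact (hx3 c hc c' e5.symm (by rw [e5]; exact hc')).symm
    rw [Nat.card_eq_fintype_card, Nat.card_eq_fintype_card]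
    refine Fintype.card_lt_of_injective_of_notMem F hFinj
      (b := ConjClasses.mk (Equiv.swap (⟨0, by omega⟩ : Fin n) ⟨1, by omega⟩)) ?_
    rintro ⟨c, hc⟩
    simp only [F] at hc
    have hsw : (Equiv.swap (⟨0, by omega⟩ : Fin n) ⟨1, by omega⟩).IsSwap := ⟨_, _, by simp, rfl⟩
    split at hc
    · obtain ⟨y, rfl⟩ := ConjClasses.mk_surjective c
      refine heq _ y rfl _ ?_ hc
      rw [mem_alternatingGroup, hsw.sign_eq]
      decide
    · next hc0 =>
      have hct := isConj_iff_cycleType_eq.1 (ConjClasses.mk_eq_mk_iff_isConj.1 hc)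
      rw [hτ, hsw.isCycle.cycleType, show (Equiv.swap (⟨0, by omega⟩ : Fin n) ⟨1, by omega⟩).support.card = 2
        from card_support_eq_two.2 hsw] at hct
      have h1 := congrArg Multiset.sum hct
      rw [Multiset.sum_cons, Multiset.sum_singleton] at h1
      have h2 := congrArg Multiset.sum (Multiset.cons_erase (hmem (x c hc0) (hx2 c hc0)))
      rw [Multiset.sum_cons] at h2
      have h4 := hbig (x c hc0) (hx2 c hc0)
      have h5 := h3 (x c hc0) (hx2 c hc0)
      omega
  · have h : Nat.card (ConjClasses (Equiv.Perm (Fin n))) ≤ Nat.card (Nat.Partition n) := by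
      let g : ConjClasses (Equiv.Perm (Fin n)) → Nat.Partition (Fintype.card (Fin n)) :=
        Quotient.lift (fun σ => σ.partition) fun σ τ h => partition_eq_of_isConj.1 h
      refine le_trans (Nat.card_le_card_of_injective g fun c d e => ?_) (le_of_eq (by rw [Fintype.card_fin]))
      obtain ⟨σ, rfl⟩ := ConjClasses.mk_surjective c
      obtain ⟨τ, rfl⟩ := ConjClasses.mk_surjective d
      exact ConjClasses.mk_eq_mk_iff_isConj.2 (partition_eq_of_isConj.2 e)
    exact h.trans (card_partition_le n hn)

end Cfsg.Agent.S4198
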