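import Cfsg.Statements.S4212
import Cfsg.Agent.GroupStructure3.FrobeniusGeneral

set_option autoImplicit false
open Cfsg

namespace Cfsg.Agent.S4212

/-- Let `G` be a finite group of order `g`, `c` an element whose conjugacy class has `h` elements, and `n` a natural number. Then the number of elements `x` of `G` with `x^n` conjugate to `c` is a multiple of `gcd(hn, g)`. -/
theorem result {G : Type*} [Group G] [Finite G] (c : G) (n : ℕ) : Nat.gcd (Nat.card {y : G // IsConj c y} * n) (Nat.card G) ∣ Nat.card {x : G // IsConj c (x ^ n)} := by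
  classical
  haveI := Fintype.ofFinite G
  let f : G → ℕ := fun y => if IsConj c y then Nat.card {x : G // x ^ n = y} else 0
  have hcnt : Nat.card {x : G // IsConj c (x ^ n)} = ∑ y, f y := by
    rw [Nat.card_eq_fintype_card, Fintype.card_subtype,
      Finset.card_eq_sum_card_fiberwise (f := fun x => x ^ n) (t := Finset.univ)
        (fun _ _ => Finset.mem_univ _)]
    refine Finset.sum_congr rfl fun y _ => ?_
    simp only [f, Finset.filter_filter]
    split_ifs with h
    · rw [Nat.card_eq_fintype_card, Fintype.card_subtype]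
      exact congrArg Finset.card (Finset.filter_congr fun x _ =>
        ⟨fun hx => hx.2, fun hx => ⟨hx.symm ▸ h, hx⟩⟩)
    · rw [Finset.card_eq_zero, Finset.filter_eq_empty_iff]
      rintro x - ⟨hx, rfl⟩
      exact h hx
  rw [hcnt]
  refine GroupStructure3.FrobeniusGeneral.dvd_sum_classFunction f ?_ _ ?_
  · intro g y
    have hiff : IsConj c (g * y * g⁻¹) ↔ IsConj c y :=
      ⟨fun h => h.trans (isConj_iff.mpr ⟨g⁻¹, by group⟩), fun h => h.trans (isConj_iff.mpr ⟨g, rfl⟩)⟩
    simp only [f, hiff]
    split_ifs with h
    · refine (Nat.card_congr ((MulAut.conj g).toEquiv.subtypeEquiv fun x => ?_)).symm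
      simp
    · rfl
  intro y
  simp only [f]
  split_ifs with h
  swap
  · rw [mul_zero]; exact dvd_zero _
  have hh : Nat.card {v : G // IsConj c v} = (Subgroup.centralizer ({y} : Set G)).index := by
    rw [← GroupStructure3.FrobeniusGeneral.card_isConj y]
    exact Nat.card_congr (Equiv.subtypeEquivRight fun v =>
      ⟨fun hv => h.symm.trans hv, fun hv => h.trans hv⟩)
  set C := Subgroup.centralizer ({y} : Set G) with hC
  rw [hh, ← C.index_mul_card, Nat.gcd_mul_left]
  refine mul_dvd_mul_left _ ?_
  have hyC : y ∈ C := Subgroup.mem_centralizer_singleton_iff.mpr rfl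
  have hyc : (⟨y, hyC⟩ : C) ∈ Subgroup.center C :=
    Subgroup.mem_center_iff.mpr fun g =>
      Subtype.ext (Subgroup.mem_centralizer_singleton_iff.mp g.2)
  refine (GroupStructure3.FrobeniusGeneral.gcd_dvd_card_pow_eq hyc n).trans (dvd_of_eq ?_)
  exact Nat.card_congr
    { toFun := fun x => ⟨x.1.1, by simpa using congrArg Subtype.val x.2⟩
      invFun := fun x => ⟨⟨x.1, by
        rw [hC, Subgroup.mem_centralizer_singleton_iff]
        have := ((Commute.refl x.1).pow_right n).eq
        rwa [x.2] at this⟩, Subtype.ext (by simp [x.2])⟩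
      left_inv := fun x => rfl
      right_inv := fun x => rfl }

end Cfsg.Agent.S4212
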