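import Cfsg.Statements.S4213
import Cfsg.Agent.GStructB.FrobeniusCount
import Mathlib

set_option autoImplicit false
open Cfsg

namespace Cfsg.Agent.S4213

universe u

open Cfsg.Agent.GStructB.FrobeniusCount

theorem solvable_count {N : ℕ} : ∀ {G : Type u} [Group G] [Finite G] [Group.IsSolvable G],
    Nat.card G = N → ∀ n : ℕ, n ∣ Nat.card G → Nat.card {x : G // x ^ n = 1} = n →
    ∃ H : Subgroup G, H.Normal ∧ (H : Set G) = {x : G | x ^ n = 1} := by
  induction N using Nat.strong_induction_on with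
  | _ N ih =>
  intro G _ _ _ hN n hn hcount
  classical
  rcases subsingleton_or_nontrivial G with hs | hnt
  · exact ⟨⊤, inferInstance, Set.ext fun x => ⟨fun _ => Subsingleton.elim _ _, fun _ => Subgroup.mem_top x⟩⟩
  -- an elementary abelian normal subgroup
  have hex : ∃ k, derivedSeries G k = ⊥ := Group.IsSolvable.solvable
  have hk0 : Nat.find hex ≠ 0 := fun e => by
    have h0 := Nat.find_spec hex
    rw [e, derivedSeries_zero] at h0
    exact top_ne_bot h0
  obtain ⟨k, hk⟩ := Nat.exists_eq_succ_of_ne_zero hk0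
  set A := derivedSeries G k with hA
  have hA0 : A ≠ ⊥ := Nat.find_min hex (by omega)
  have hAc : ∀ x ∈ A, ∀ y ∈ A, x * y = y * x := fun x hx y hy => by
    have h0 := Nat.find_spec hex
    rw [hk, derivedSeries_succ, Subgroup.commutator_eq_bot_iff_le_centralizer] at h0
    exact Subgroup.mem_centralizer_iff.1 (h0 hy) x hx
  have hAn : A.Normal := derivedSeries_normal G k
  obtain ⟨p, hp, hpA⟩ := Nat.exists_prime_and_dvd (mt Subgroup.card_eq_one.1 hA0)
  haveI := Fact.mk hp
  let V : Subgroup G :=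
    { carrier := {x | x ∈ A ∧ x ^ p = 1}
      one_mem' := ⟨one_mem _, one_pow _⟩
      mul_mem' := fun {x y} hx hy => ⟨mul_mem hx.1 hy.1, by
        rw [(show Commute x y from hAc x hx.1 y hy.1).mul_pow, hx.2, hy.2, one_mul]⟩
      inv_mem' := fun {x} hx => ⟨inv_mem hx.1, by rw [inv_pow, hx.2, inv_one]⟩ }
  haveI hVn : V.Normal := ⟨fun x hx g => ⟨hAn.conj_mem x hx.1 g, by rw [conj_pow, hx.2, mul_one, mul_inv_cancel]⟩⟩
  have hVp : IsPGroup p V := fun x => ⟨1, Subtype.ext (by rw [Subgroup.coe_pow, pow_one]; exact x.2.2)⟩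
  obtain ⟨b, hb⟩ := hVp.exists_card_eq
  have hb0 : b ≠ 0 := by
    intro e
    obtain ⟨x, hx⟩ := exists_prime_orderOf_dvd_card' (G := A) p hpA
    have hxV : (x : G) ∈ V := ⟨x.2, by rw [← hx, ← Subgroup.orderOf_coe, pow_orderOf_eq_one]⟩
    rw [e, pow_zero, Subgroup.card_eq_one] at hb
    rw [hb, Subgroup.mem_bot] at hxV
    rw [← Subgroup.orderOf_coe, hxV, orderOf_one] at hx
    exact hp.one_lt.ne hx
  set π := QuotientGroup.mk' V with hπ
  have hVm : ∀ x, π x = 1 ↔ x ∈ V := fun x => QuotientGroup.eq_one_iff x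
  have hlt : Nat.card (G ⧸ V) < N := by
    rw [← hN, ← V.index_eq_card, ← V.index_mul_card, hb]
    exact lt_mul_right (Nat.pos_of_ne_zero Subgroup.index_ne_zero_of_finite) (Nat.one_lt_pow hb0 hp.one_lt)
  haveI : Group.IsSolvable (G ⧸ V) := solvable_of_surjective (QuotientGroup.mk'_surjective V)
  have hcardG : Nat.card G = p ^ b * Nat.card (G ⧸ V) := by
    rw [← V.card_mul_index, hb, V.index_eq_card]
  have hpre : ∀ m, Nat.card {x : G // π x ^ m = 1} = Nat.card {z : G ⧸ V // z ^ m = 1} * p ^ b := by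
    intro m
    rw [← hb, mul_comm, ← Nat.card_prod]
    exact Nat.card_congr (QuotientGroup.preimageMkEquivSubgroupProdSet V {z | z ^ m = 1})
  have hpos : ∀ m, 0 < Nat.card {z : G ⧸ V // z ^ m = 1} := fun m =>
    haveI : Nonempty {z : G ⧸ V // z ^ m = 1} := ⟨⟨1, one_pow m⟩⟩
    Nat.card_pos
  by_cases hpn : p ∣ n
  · obtain ⟨e, he, hg⟩ := (Nat.dvd_prime_pow hp).1 (Nat.gcd_dvd_right n (p ^ b))
    have he0 : e ≠ 0 := by
      rintro rfl
      have h1 := Nat.dvd_gcd hpn (dvd_pow_self p hb0)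
      rw [hg, pow_zero] at h1
      exact hp.not_dvd_one h1
    obtain ⟨m, hm⟩ := Nat.gcd_dvd_left n (p ^ b)
    rw [hg] at hm
    have hmd : m ∣ Nat.card (G ⧸ V) := by
      obtain ⟨t, ht⟩ := Nat.gcd_dvd_right n (p ^ b)
      rw [hg] at ht
      have hcop : Nat.Coprime m t := by
        have := Nat.coprime_div_gcd_div_gcd (m := n) (n := p ^ b) (Nat.gcd_pos_of_pos_right _ (pow_pos hp.pos b))
        rwa [hg, hm, Nat.mul_div_cancel_left _ (pow_pos hp.pos e), ht, Nat.mul_div_cancel_left _ (pow_pos hp.pos e)] at this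
      rw [hcardG, hm, ht, mul_assoc] at hn
      exact hcop.dvd_of_dvd_mul_left (Nat.dvd_of_mul_dvd_mul_left (pow_pos hp.pos e) hn)
    have himp : ∀ x : G, π x ^ m = 1 → x ^ n = 1 := by
      intro x hx
      rw [← map_pow, hVm] at hx
      obtain ⟨e', rfl⟩ := Nat.exists_eq_succ_of_ne_zero he0
      rw [hm, mul_comm, pow_mul, pow_succ', pow_mul, hx.2, one_pow]
    have hle : Nat.card {x : G // π x ^ m = 1} ≤ Nat.card {x : G // x ^ n = 1} :=
      Nat.card_le_card_of_injective (fun x => ⟨x.1, himp x.1 x.2⟩)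
        fun u v h => Subtype.ext (congrArg Subtype.val h :)
    obtain ⟨s, hs⟩ := dvd_numPowOne hmd
    rw [numPowOne] at hs
    have hkey := hle
    rw [hpre, hs, hcount, hm] at hkey
    have hm0 : 0 < m := Nat.pos_of_dvd_of_pos hmd Nat.card_pos
    have hs1 : s = 1 ∧ e = b := by
      have h1 : 0 < s := by
        have := hpos m; rw [hs] at this; exact Nat.pos_of_mul_pos_left this
      have h2 : p ^ e ≤ p ^ b := Nat.pow_le_pow_right hp.pos he
      have h3 : s * p ^ b ≤ p ^ e := Nat.le_of_mul_le_mul_left (by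
        calc m * (s * p ^ b) = m * s * p ^ b := (mul_assoc _ _ _).symm
          _ ≤ p ^ e * m := hkey
          _ = m * p ^ e := mul_comm _ _) hm0
      refine ⟨?_, Nat.pow_right_injective hp.two_le ?_⟩
      · by_contra h4
        have : 2 * p ^ b ≤ s * p ^ b := Nat.mul_le_mul_right _ (by omega)
        have := pow_pos hp.pos b
        omega
      · show p ^ e = p ^ b
        have : p ^ b ≤ s * p ^ b := Nat.le_mul_of_pos_left _ h1
        omega
    rw [hs1.1, mul_one] at hs
    obtain ⟨H, hHn, hHe⟩ := ih _ hlt rfl m hmd hs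
    refine ⟨H.comap π, hHn.comap π, ?_⟩
    have hmem : ∀ x, x ∈ H.comap π ↔ π x ^ m = 1 := fun x => Set.ext_iff.1 hHe (π x)
    refine Set.eq_of_subset_of_ncard_le (fun x hx => himp x ((hmem x).1 hx)) (le_of_eq ?_)
      (Set.toFinite _)
    rw [← Nat.card_coe_set_eq, ← Nat.card_coe_set_eq]
    refine hcount.trans ?_
    calc n = Nat.card {x : G // π x ^ m = 1} := by rw [hpre, hs, hm, hs1.2, mul_comm]
      _ = _ := Nat.card_congr (Equiv.subtypeEquivRight fun x => (hmem x).symm)
  · have hco : Nat.Coprime n p := ((Nat.Prime.coprime_iff_not_dvd hp).2 hpn).symm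
    have hnd : n ∣ Nat.card (G ⧸ V) := by
      rw [hcardG] at hn
      exact (hco.pow_right b).dvd_of_dvd_mul_left hn
    have hsurj : Function.Surjective (fun x : {x : G // x ^ n = 1} =>
        (⟨π x.1, by rw [← map_pow, x.2, map_one]⟩ : {z : G ⧸ V // z ^ n = 1})) := by
      rintro ⟨z, hz⟩
      obtain ⟨x, rfl⟩ := QuotientGroup.mk'_surjective V z
      obtain ⟨u, hu⟩ := exists_pow_eq_self_of_coprime (n := p) (x := π x)
        (hco.symm.coprime_dvd_right (orderOf_dvd_of_pow_eq_one hz))
      refine ⟨⟨(x ^ p) ^ u, ?_⟩, Subtype.ext ?_⟩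
      · rw [← map_pow, hVm] at hz
        rw [← pow_mul, ← pow_mul, show p * (u * n) = n * p * u by ring, pow_mul, pow_mul, hz.2, one_pow]
      · show π ((x ^ p) ^ u) = π x
        rw [map_pow, map_pow, hu]
    obtain ⟨s, hs⟩ := dvd_numPowOne hnd
    rw [numPowOne] at hs
    have hle := Nat.card_le_card_of_surjective _ hsurj
    rw [hs, hcount] at hle
    have hn0 : 0 < n := Nat.pos_of_dvd_of_pos hn Nat.card_pos
    have hs1 : s = 1 := by
      have h0 := hpos n
      rw [hs] at h0
      have h1 : 0 < s := Nat.pos_of_mul_pos_left h0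
      by_contra h2
      have : n * 2 ≤ n * s := Nat.mul_le_mul_left _ (by omega)
      omega
    rw [hs1, mul_one] at hs
    obtain ⟨H, hHn, hHe⟩ := ih _ hlt rfl n hnd hs
    set H' := H.comap π
    have hcH : Nat.card H' = n * p ^ b := by
      rw [← hs, ← hpre]
      exact Nat.card_congr (Equiv.subtypeEquivRight fun x => Set.ext_iff.1 hHe (π x))
    have hVH : V ≤ H' := fun x hx => by
      show π x ∈ H
      rw [(hVm x).2 hx]; exact one_mem H
    have hcV : Nat.card (V.subgroupOf H') = p ^ b :=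
      (Nat.card_congr (Subgroup.subgroupOfEquivOfLe hVH).toEquiv).trans hb
    have hiV : (V.subgroupOf H').index = n := by
      have h := (V.subgroupOf H').card_mul_index
      rw [hcV, hcH, mul_comm n] at h
      exact Nat.eq_of_mul_eq_mul_left (pow_pos hp.pos b) h
    obtain ⟨K, hK⟩ := Subgroup.exists_right_complement'_of_coprime (N := V.subgroupOf H') (by
      rw [hcV, hiV]; exact (hco.pow_right b).symm)
    have hcK : Nat.card K = n := by
      have h := hK.card_mul_card
      rw [hcV, hcH, mul_comm n] at h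
      exact Nat.eq_of_mul_eq_mul_left (pow_pos hp.pos b) h
    have hset : ((K.map H'.subtype : Subgroup G) : Set G) = {x : G | x ^ n = 1} := by
      refine Set.eq_of_subset_of_ncard_le ?_ (le_of_eq ?_) (Set.toFinite _)
      · rintro _ ⟨x, hx, rfl⟩
        show (H'.subtype x) ^ n = 1
        rw [← map_pow, orderOf_dvd_iff_pow_eq_one.1 (hcK ▸ Subgroup.orderOf_dvd_natCard K hx), map_one]
      · rw [← Nat.card_coe_set_eq, ← Nat.card_coe_set_eq]
        exact hcount.trans (hcK.symm.trans (Subgroup.card_map_of_injective H'.subtype_injective).symm)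
    refine ⟨K.map H'.subtype, ⟨fun x hx g => ?_⟩, hset⟩
    rw [← SetLike.mem_coe, hset] at hx ⊢
    show (g * x * g⁻¹) ^ n = 1
    rw [conj_pow, show x ^ n = 1 from hx, mul_one, mul_inv_cancel]


/-- If `G` is a finite solvable group and `n` divides the order of `G` and exactly `n` elements `x` of `G` satisfy `x^n = 1`, then these elements form a normal subgroup. -/
theorem result {G : Type*} [Group G] [Finite G] [Group.IsSolvable G] (n : ℕ) (hn : n ∣ Nat.card G) (hcount : Nat.card {x : G // x ^ n = 1} = n) : ∃ H : Subgroup G, H.Normal ∧ (H : Set G) = {x : G | x ^ n = 1} := by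
  exact solvable_count rfl n hn hcount

end Cfsg.Agent.S4213
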