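import Cfsg.Statements.S4215
import Cfsg.Agent.Lib.Transfer.HallEngel
import Cfsg.Agent.Lib.PLocal.ResidualControl

set_option autoImplicit false
open Cfsg

namespace Cfsg.Agent.S4215

open Subgroup Cfsg.Agent.Transfer.NormalPComplement in
theorem residual_eq {G : Type*} [Group G] [Finite G] {p : ℕ} [Fact p.Prime] (P : Sylow p G) {N : Subgroup G}
    (hPN : (P : Subgroup G) ≤ N) (h : (P : Subgroup G) ⊓ commutator G ≤ ⁅N, N⁆) :
    (pResidual p N).map N.subtype = pResidual p G ⊓ N := by
  refine le_antisymm (le_inf (map_subtype_pResidual_le N) (map_subtype_le _)) ?_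
  rintro x ⟨hxM, hxN⟩
  obtain ⟨m, hm, y, hy, e⟩ := mem_sup_of_normal_left.mp
    ((pResidual_sup_sylow (P.subtype hPN)).ge (mem_top (⟨x, hxN⟩ : N)))
  have hyM : (y : G) ∈ pResidual p G := by
    have hmG : (m : G) ∈ pResidual p G := map_subtype_pResidual_le N ⟨m, hm, rfl⟩
    have e' : x = (m : G) * y := congrArg Subtype.val e.symm
    have := mul_mem (inv_mem hmG) hxM
    rwa [e', inv_mul_cancel_left] at this
  obtain ⟨r, hr, er⟩ := Cfsg.Agent.PLocal.ResidualControl.residual_inf_eq P hPN h ⟨hyM, hy⟩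
  refine ⟨⟨x, hxN⟩, ?_, rfl⟩
  rw [← e]
  exact mul_mem hm (by rwa [show y = r from Subtype.ext er.symm])

/-- Let `P` be a Sylow `p`-subgroup of the finite group `G`, `Q` a subgroup of `P` weakly closed in `P` with respect to `G`, and `H` the normalizer of `Q`. Suppose that for all `u ∈ P` and `z ∈ Q` the iterated commutator `[u, z, …, z]` with `p - 1` entries `z` is trivial, where `[x, z] = x⁻¹z⁻¹xz` and `[x, z, z] = [[x, z], z]`. Then `O^p(H) = O^p(G) ∩ H`, where `O^p` denotes the subgroup generated by the elements of order prime to `p`; so the largest `p`-factor groups of `G` and of `H` are isomorphic. -/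
theorem result {G : Type*} [Group G] [Finite G] {p : ℕ} [Fact p.Prime] (P : Sylow p G) (Q : Subgroup G) (hQ : Cfsg.IsWeaklyClosed Q (P : Subgroup G)) (h : ∀ u ∈ (P : Subgroup G), ∀ z ∈ Q, (fun y : G => y⁻¹ * z⁻¹ * y * z)^[p - 1] u = 1) : Cfsg.pResidualOf p (Subgroup.normalizer (Q : Set G)) = Cfsg.pResidual p G ⊓ Subgroup.normalizer (Q : Set G) := by
  obtain ⟨hP, hfoc⟩ := Transfer.HallEngel.focal_le P Q hQ h
  exact residual_eq P hP hfoc

end Cfsg.Agent.S4215
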