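import Cfsg.Statements.S4218
import Cfsg.Agent.GroupStructure3.FrattiniAut
import Cfsg.Agent.Lib.PLocal.PSolvable
import Cfsg.Agent.Lib.Coprime.PGroup

set_option autoImplicit false
open Cfsg

namespace Cfsg.Agent.S4218

open Cfsg.Agent.PLocal


/-- Let `G` be a finite `p`-solvable group, `N₀ = O_{p'}(G)`, `P₁ = O_{p',p}(G)`, and let `F ≤ P₁` be the preimage of the Frattini subgroup of `P₁/N₀`. Then an element `g` of `G` induces the identity on `P₁/F` by conjugation (that is, `g x g⁻¹ x⁻¹ ∈ F` for all `x ∈ P₁`) if and only if `g ∈ P₁`: the group `G/P₁` acts faithfully on `P₁/F`. -/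
theorem result {G : Type*} [Group G] [Finite G] {p : ℕ} [Fact p.Prime] (hG : Cfsg.IsPSolvable p G) (g : G) : (∀ x ∈ Cfsg.pPrimePCore p G, g * x * g⁻¹ * x⁻¹ ∈ ((frattini (↥(Cfsg.pPrimePCore p G) ⧸ (Cfsg.pPrimeCore p G).subgroupOf (Cfsg.pPrimePCore p G))).comap (QuotientGroup.mk' ((Cfsg.pPrimeCore p G).subgroupOf (Cfsg.pPrimePCore p G)))).map (Cfsg.pPrimePCore p G).subtype) ↔ g ∈ Cfsg.pPrimePCore p G := by
  classical
  set N₀ := Cfsg.pPrimeCore p G with hN₀
  set P₁ := Cfsg.pPrimePCore p G with hP₁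
  set N' := N₀.subgroupOf P₁ with hN'
  set π := QuotientGroup.mk' N₀ with hπ
  haveI hP₁n : P₁.Normal := inferInstance
  have hN₀n : N₀.Normal := inferInstance
  have hP₁π : ∀ x, x ∈ P₁ ↔ π x ∈ Cfsg.pCore p (G ⧸ N₀) := fun x => Iff.rfl
  have hQp : IsPGroup p (P₁ ⧸ N') := by
    refine IsPGroup.iff_orderOf.2 fun q => ?_
    induction q using QuotientGroup.induction_on with | _ x => ?_
    obtain ⟨k, hk⟩ := (Cores.isPGroup_pCore (p := p) (G := G ⧸ N₀)) ⟨π x, (hP₁π _).1 x.2⟩
    have h2 : ((x : P₁ ⧸ N')) ^ p ^ k = 1 := by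
      rw [← QuotientGroup.mk_pow, QuotientGroup.eq_one_iff, hN', Subgroup.mem_subgroupOf,
        Subgroup.coe_pow, ← QuotientGroup.eq_one_iff]
      exact congrArg Subtype.val hk
    obtain ⟨j, -, hj⟩ := (Nat.dvd_prime_pow Fact.out).1 (orderOf_dvd_of_pow_eq_one h2)
    exact ⟨j, hj⟩
  haveI := hQp.isNilpotent
  have hF : ∀ (x : G) (hx : x ∈ P₁), x ∈ ((frattini (P₁ ⧸ N')).comap (QuotientGroup.mk' N')).map P₁.subtype ↔
      QuotientGroup.mk' N' ⟨x, hx⟩ ∈ frattini (P₁ ⧸ N') := fun x hx => by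
    constructor
    · rintro ⟨y, hy, rfl⟩
      exact hy
    · exact fun h => ⟨⟨x, hx⟩, h, rfl⟩
  constructor
  · -- the action on `P₁ ⧸ N₀`
    intro hg
    have hinv : ∀ h : G, N'.map (MulAut.conjNormal h : MulAut P₁).toMonoidHom = N' := by
      intro h
      ext ⟨x, hx⟩
      constructor
      · rintro ⟨y, hy, hyx⟩
        rw [← hyx]
        show ((MulAut.conjNormal h y : P₁) : G) ∈ N₀
        rw [MulAut.conjNormal_apply]
        exact hN₀n.conj_mem _ hy h
      · intro hx'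
        refine ⟨⟨h⁻¹ * x * h, by simpa using hP₁n.conj_mem x hx h⁻¹⟩,
          show h⁻¹ * x * h ∈ N₀ by simpa using hN₀n.conj_mem x hx' h⁻¹, Subtype.ext ?_⟩
        show ((MulAut.conjNormal h _ : P₁) : G) = x
        rw [MulAut.conjNormal_apply]
        group
    let ρ : G →* MulAut (P₁ ⧸ N') :=
      { toFun := fun h => QuotientGroup.congr N' N' (MulAut.conjNormal h) (hinv h)
        map_one' := MulEquiv.ext fun q => by
          induction q using QuotientGroup.induction_on with | _ x => ?_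
          show (((MulAut.conjNormal (1 : G)) x : P₁) : P₁ ⧸ N') = x
          rw [map_one]; rfl
        map_mul' := fun a b => MulEquiv.ext fun q => by
          induction q using QuotientGroup.induction_on with | _ x => ?_
          show (((MulAut.conjNormal (a * b)) x : P₁) : P₁ ⧸ N') = (((MulAut.conjNormal a) ((MulAut.conjNormal b) x) : P₁) : P₁ ⧸ N')
          rw [map_mul]; rfl }
    let S : Subgroup (MulAut (P₁ ⧸ N')) :=
      { carrier := {α | ∀ x, α x * x⁻¹ ∈ frattini (P₁ ⧸ N')}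
        one_mem' := fun x => by simp
        mul_mem' := fun {α β} ha hb x => by
          have := mul_mem (ha (β x)) (hb x)
          simpa [MulAut.mul_apply, mul_assoc] using this
        inv_mem' := fun {α} ha x => by
          have e : x * (α⁻¹ x)⁻¹ ∈ frattini (P₁ ⧸ N') := by
            have h0 := ha (α⁻¹ x)
            rwa [MulAut.apply_inv_self] at h0
          have := inv_mem e
          rwa [mul_inv_rev, inv_inv] at this }
    haveI hSn : S.Normal := ⟨fun α ha β x => by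
      have h1 : β (α (β⁻¹ x) * (β⁻¹ x)⁻¹) ∈ frattini (P₁ ⧸ N') :=
        (Subgroup.characteristic_iff_map_le.1 frattini_characteristic β) ⟨_, ha _, rfl⟩
      simpa [MulAut.mul_apply, map_mul, map_inv, MulAut.apply_inv_self] using h1⟩
    obtain ⟨n, hn⟩ := hQp.exists_card_eq
    obtain ⟨r, -, hr⟩ : ∃ r ≤ n, (frattini (P₁ ⧸ N')).index = p ^ r :=
      (Nat.dvd_prime_pow Fact.out).1 (hn ▸ Subgroup.index_dvd_card _)
    obtain ⟨s, -, hs⟩ := (Nat.dvd_prime_pow Fact.out).1
      (GroupStructure3.FrattiniAut.card_stab_dvd hn hr S (fun α h => h))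
    have hSp : IsPGroup p S := IsPGroup.of_card hs
    have hgK : g ∈ S.comap ρ := by
      intro q
      induction q using QuotientGroup.induction_on with | _ x => ?_
      have h1 := (hF _ (mul_mem (hP₁n.conj_mem x x.2 g) (inv_mem x.2))).1 (hg x x.2)
      convert h1 using 1
      show (((MulAut.conjNormal g) x : P₁) : P₁ ⧸ N') * ((x : P₁ ⧸ N'))⁻¹ = _
      rw [← QuotientGroup.mk_inv, ← QuotientGroup.mk_mul]
      exact congrArg _ (Subtype.ext (by
        rw [Subgroup.coe_mul, MulAut.conjNormal_apply, Subgroup.coe_inv]))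
    suffices hle : S.comap ρ ≤ P₁ from hle hgK
    haveI : (S.comap ρ).Normal := hSn.comap ρ
    refine Cores.le_pPrimePCore ?_
    rintro ⟨_, k, hk, rfl⟩
    obtain ⟨m, hm⟩ := hSp ⟨ρ k, hk⟩
    have hm' : ρ (k ^ p ^ m) = 1 := by rw [map_pow]; exact congrArg Subtype.val hm
    have hcen : π (k ^ p ^ m) ∈ Subgroup.centralizer (Cfsg.pCore p (G ⧸ N₀) : Set (G ⧸ N₀)) := by
      rw [Subgroup.mem_centralizer_iff]
      intro z hz
      obtain ⟨x, rfl⟩ := QuotientGroup.mk'_surjective N₀ z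
      have h1 : (((MulAut.conjNormal (k ^ p ^ m)) ⟨x, hz⟩ : P₁) : P₁ ⧸ N') = ((⟨x, hz⟩ : P₁) : P₁ ⧸ N') :=
        DFunLike.congr_fun hm' ((⟨x, hz⟩ : P₁) : P₁ ⧸ N')
      rw [QuotientGroup.eq, hN', Subgroup.mem_subgroupOf, Subgroup.coe_mul, Subgroup.coe_inv,
        MulAut.conjNormal_apply, ← QuotientGroup.eq_one_iff] at h1
      have h2 : (π (k ^ p ^ m) * π x * (π (k ^ p ^ m))⁻¹)⁻¹ * π x = 1 := by
        simpa [hπ, map_mul, map_inv] using h1
      rw [inv_mul_eq_one, mul_inv_eq_iff_eq_mul] at h2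
      exact h2.symm
    have hP : π (k ^ p ^ m) ∈ Cfsg.pCore p (G ⧸ N₀) :=
      PSolvable.centralizer_pCore_le Cores.pPrimeCore_quotient_pPrimeCore
        (PSolvable.subgroup (PSolvable.quotient hG N₀) _) hcen
    obtain ⟨j, hj⟩ := (Cores.isPGroup_pCore (p := p) (G := G ⧸ N₀)) ⟨_, hP⟩
    refine ⟨m + j, Subtype.ext ?_⟩
    have := congrArg Subtype.val hj
    simpa [hπ, map_pow, ← pow_mul, ← pow_add] using this
  · intro hg x hx
    rw [hF _ (mul_mem (mul_mem (mul_mem hg hx) (inv_mem hg)) (inv_mem hx))]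
    refine Cfsg.Agent.Coprime.commutator_le_frattini _ ?_
    have h1 := Subgroup.commutator_mem_commutator
      (Subgroup.mem_top (QuotientGroup.mk' N' ⟨g, hg⟩)) (Subgroup.mem_top (QuotientGroup.mk' N' ⟨x, hx⟩))
    rw [← commutator_def, commutatorElement_def] at h1
    simp only [← map_inv, ← map_mul] at h1
    exact h1

end Cfsg.Agent.S4218
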