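import Cfsg.Statements.S4219

set_option autoImplicit false
open Cfsg

namespace Cfsg.Agent.S4219

open Subgroup MulAction
open scoped Pointwise

/-- Let a finite group `G` act `t`-fold transitively on a finite set, let `H` be the stabilizer of `t` distinct points and `P` a Sylow `p`-subgroup of `H`. Then the normalizer of `P` in `G` is `t`-fold transitive on the fixed points of `P`: any `t` distinct fixed points of `P` can be carried to any other `t` distinct fixed points of `P` by an element normalizing `P`. -/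
theorem result {G : Type*} [Group G] [Finite G] {α : Type*} [Fintype α] [MulAction G α] {t : ℕ} (hG : MulAction.IsMultiplyPretransitive G α t) (x : Fin t ↪ α) {p : ℕ} [Fact p.Prime] (P : Sylow p (MulAction.stabilizer G x)) (a b : Fin t ↪ α) (ha : ∀ i, a i ∈ MulAction.fixedPoints ((P : Subgroup (MulAction.stabilizer G x)).map (MulAction.stabilizer G x).subtype) α) (hb : ∀ i, b i ∈ MulAction.fixedPoints ((P : Subgroup (MulAction.stabilizer G x)).map (MulAction.stabilizer G x).subtype) α) : ∃ g ∈ Subgroup.normalizer ((((P : Subgroup (MulAction.stabilizer G x)).map (MulAction.stabilizer G x).subtype) : Subgroup G) : Set G), g • a = b := by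
  classical
  set P' := ((P : Subgroup (stabilizer G x)).map (stabilizer G x).subtype) with hP'
  haveI : IsPretransitive G (Fin t ↪ α) := hG
  have hcard : ∀ c : Fin t ↪ α, Nat.card (stabilizer G c) = Nat.card (stabilizer G x) := by
    intro c
    obtain ⟨g, rfl⟩ := exists_smul_eq G x c
    rw [stabilizer_smul_eq_stabilizer_map_conj]
    exact card_map_of_injective (MulEquiv.injective _)
  have hle : ∀ c : Fin t ↪ α, (∀ i, c i ∈ fixedPoints P' α) → P' ≤ stabilizer G c := by
    intro c hc y hy
    ext i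
    exact hc i ⟨y, hy⟩
  obtain ⟨g₀, hg₀⟩ := exists_smul_eq G a b
  let Q' : Subgroup G := P'.map (MulAut.conj g₀).toMonoidHom
  have hQle : Q' ≤ stabilizer G b := by
    rintro _ ⟨y, hy, rfl⟩
    have h1 : y • a = a := hle a ha hy
    show (g₀ * y * g₀⁻¹) • b = b
    rw [← hg₀, mul_smul, mul_smul, inv_smul_smul, h1]
  have hcP : Nat.card P' = p ^ (Nat.card (stabilizer G b)).factorization p := by
    rw [hP', card_map_of_injective (subtype_injective _), hcard b, P.card_eq_multiplicity]
  have hcQ : Nat.card Q' = Nat.card P' := card_map_of_injective (MulEquiv.injective _)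
  let S : Sylow p (stabilizer G b) := Sylow.ofCard (P'.subgroupOf _)
    (by rw [Nat.card_congr (subgroupOfEquivOfLe (hle b hb)).toEquiv, hcP])
  let T : Sylow p (stabilizer G b) := Sylow.ofCard (Q'.subgroupOf _)
    (by rw [Nat.card_congr (subgroupOfEquivOfLe hQle).toEquiv, hcQ, hcP])
  obtain ⟨s, hs⟩ := exists_smul_eq (stabilizer G b) T S
  refine ⟨s.1 * g₀, ?_, ?_⟩
  swap
  · rw [mul_smul, hg₀]
    exact s.2
  have hmem : ∀ y ∈ P', (s.1 * g₀) * y * (s.1 * g₀)⁻¹ ∈ P' := by
    intro y hy
    have hq : g₀ * y * g₀⁻¹ ∈ Q' := ⟨y, hy, rfl⟩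
    have hT : (⟨g₀ * y * g₀⁻¹, hQle hq⟩ : stabilizer G b) ∈ (T : Subgroup (stabilizer G b)) := hq
    have h2 := smul_mem_pointwise_smul _ (MulAut.conj s) _ hT
    rw [← Sylow.coe_subgroup_smul, hs] at h2
    have h3 : ((MulAut.conj s • (⟨g₀ * y * g₀⁻¹, hQle hq⟩ : stabilizer G b)) : stabilizer G b).1
        ∈ P' := h2
    simpa [MulAut.smul_def, mul_assoc] using h3
  have heq : P'.map (MulAut.conj (s.1 * g₀)).toMonoidHom = P' := by
    refine Subgroup.eq_of_le_of_card_ge ?_ (card_map_of_injective (MulEquiv.injective _)).ge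
    rintro _ ⟨y, hy, rfl⟩
    exact hmem y hy
  rw [Subgroup.mem_normalizer_iff]
  intro y
  refine ⟨hmem y, fun hy => ?_⟩
  rw [← heq] at hy
  obtain ⟨z, hz, hzy⟩ := hy
  have := (MulEquiv.injective (MulAut.conj (s.1 * g₀))) hzy
  exact this ▸ hz

end Cfsg.Agent.S4219
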