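import Cfsg.Statements.S4221
import Cfsg.Agent.Lib.Jordan4.Main

set_option autoImplicit false
open Cfsg

namespace Cfsg.Agent.S4221

/-- Let `G` be a `4`-fold transitive permutation group on a finite set of `n` points in which the pointwise stabilizer of some four distinct points has odd order. Then `n = 4` or `n = 5` with `G` the full symmetric group, or `n = 6` or `n = 7` with `G` the alternating group, or `n = 11` and `G` has order `7920`. -/
theorem result {α : Type*} [Fintype α] [DecidableEq α] (G : Subgroup (Equiv.Perm α)) (hG : MulAction.IsMultiplyPretransitive G α 4) (x : Fin 4 ↪ α) (hodd : Odd (Nat.card (MulAction.stabilizer G x))) : ((Fintype.card α = 4 ∨ Fintype.card α = 5) ∧ G = ⊤) ∨ ((Fintype.card α = 6 ∨ Fintype.card α = 7) ∧ G = alternatingGroup α) ∨ (Fintype.card α = 11 ∧ Nat.card G = 7920) := by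
  classical
  have hF : Jordan4.Four G := by
    have trans : ∀ y z : Fin 4 ↪ α, ∃ g ∈ G, ∀ i, g (y i) = z i := fun y z => by
      obtain ⟨g, hg⟩ := MulAction.exists_smul_eq G y z
      exact ⟨g, g.2, fun i => congrArg (fun e : Fin 4 ↪ α => e i) hg⟩
    refine ⟨trans, fun y => ?_⟩
    obtain ⟨g, hg, hgy⟩ := trans x y
    rw [← Jordan4.map_conj_ptStab hg hgy, Jordan4.card_map_conj]
    convert hodd using 1
    refine Nat.card_congr ⟨fun h => ⟨⟨h.1, h.2.1⟩, ?_⟩, fun h => ⟨h.1.1, h.1.2, ?_⟩,
      fun h => rfl, fun h => rfl⟩
    · exact DFunLike.ext _ _ h.2.2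
    · exact fun i => congrArg (fun e : Fin 4 ↪ α => e i) h.2
  have hn4 : 4 ≤ Fintype.card α := by simpa using Fintype.card_le_of_embedding x
  -- orbit counting
  have hG' : Nat.card G =
      (Fintype.card α).descFactorial 4 * Nat.card (Jordan4.ptStab G x) := by
    have h := Jordan4.card_eq_orbit_mul G (Jordan4.ptStab G x) (⇑x)
      (Finset.univ.image fun e : Fin 4 ↪ α => ⇑e)
      (fun g _ => Finset.mem_image.2 ⟨x.trans g.toEmbedding, Finset.mem_univ _, rfl⟩)
      (fun s hs => by
        obtain ⟨e, -, rfl⟩ := Finset.mem_image.1 hs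
        obtain ⟨g, hg, hgx⟩ := hF.trans x e
        exact ⟨g, hg, funext hgx⟩)
      (fun g hg => hg.1) (fun g hg => ⟨fun h => h.2, fun h => ⟨hg, h⟩⟩)
    rwa [Finset.card_image_of_injective _ DFunLike.coe_injective, Finset.card_univ,
      Fintype.card_embedding_eq, Fintype.card_fin] at h
  have hdvd : Nat.card G ∣ (Fintype.card α).factorial := by
    have h := Subgroup.card_subgroup_dvd_card G
    rwa [Nat.card_perm, Nat.card_eq_fintype_card (α := α)] at h
  obtain ⟨k, hk⟩ := hF.odd x
  have hidx := G.card_mul_index
  rw [Nat.card_perm, Nat.card_eq_fintype_card (α := α)] at hidx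
  have hall : ∀ m, Fintype.card α = m → m.factorial ≤ Nat.card G → G = ⊤ := fun m hm h =>
    Subgroup.eq_top_of_le_card _ (by rw [Nat.card_perm, Nat.card_eq_fintype_card, hm]; exact h)
  rcases (show Fintype.card α = 4 ∨ Fintype.card α = 5 ∨ Fintype.card α = 6 ∨ Fintype.card α = 7 ∨
    8 ≤ Fintype.card α by omega) with h | h | h | h | h
  · refine .inl ⟨.inl h, hall 4 h ?_⟩
    rw [hG', h, hk]
    norm_num [Nat.descFactorial, Nat.factorial]
  · refine .inl ⟨.inr h, hall 5 h ?_⟩
    rw [hG', h, hk]
    norm_num [Nat.descFactorial, Nat.factorial]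

  · refine .inr (.inl ⟨.inl h, Equiv.Perm.eq_alternatingGroup_of_index_eq_two ?_⟩)
    rw [hG', h, hk] at hidx hdvd
    norm_num [Nat.descFactorial, Nat.factorial] at hidx hdvd
    have hk0 : k = 0 := by
      have := Nat.le_of_dvd (by norm_num) hdvd
      omega
    subst hk0
    omega
  · rw [hG', h, hk] at hidx hdvd
    norm_num [Nat.descFactorial, Nat.factorial] at hidx hdvd
    have hk0 : k = 0 ∨ k = 1 := by
      have := Nat.le_of_dvd (by norm_num) hdvd
      rcases (show k = 0 ∨ k = 1 ∨ k = 2 by omega) with rfl | rfl | rfl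
      · exact .inl rfl
      · exact .inr rfl
      · norm_num at hdvd
    rcases hk0 with rfl | rfl
    · -- `A₇` has no subgroup of index at most six
      exfalso
      have hi : G.index = 6 := by omega
      have hcA : Nat.card (alternatingGroup α) = 2520 := by
        have : Nontrivial α := Fintype.one_lt_card_iff_nontrivial.1 (by omega)
        rw [nat_card_alternatingGroup, Nat.card_eq_fintype_card, h]
        rfl
      have : IsSimpleGroup (alternatingGroup α) :=
        alternatingGroup.isSimpleGroup (by rw [Nat.card_eq_fintype_card]; omega)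
      set K := G.subgroupOf (alternatingGroup α) with hK
      have hKle : K.index ≤ 6 := by
        have h' : G.relIndex (alternatingGroup α) ≤ G.relIndex ⊤ :=
          Subgroup.relIndex_le_of_le_right le_top (by rw [Subgroup.relIndex_top_right, hi]; omega)
        rwa [Subgroup.relIndex_top_right, hi] at h'
      have hKne : K ≠ ⊤ := by
        rw [hK, ne_eq, Subgroup.subgroupOf_eq_top]
        intro hle
        have h' := Subgroup.card_dvd_of_le hle
        rw [hcA, hG', h, hk] at h'
        norm_num [Nat.descFactorial] at h'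
      rcases Subgroup.Normal.eq_bot_or_eq_top (inferInstance : K.normalCore.Normal) with hc | hc
      · have hinj : Function.Injective
            (MulAction.toPermHom (alternatingGroup α) (alternatingGroup α ⧸ K)) := by
          rw [← MonoidHom.ker_eq_bot_iff, ← K.normalCore_eq_ker, hc]
        have h' := Nat.card_le_card_of_injective _ hinj
        rw [hcA, Nat.card_perm, ← Subgroup.index_eq_card] at h'
        have := Nat.factorial_le hKle
        norm_num [Nat.factorial] at this
        omega
      · exact hKne (top_unique (hc ▸ K.normalCore_le))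
    · refine .inr (.inl ⟨.inr h, Equiv.Perm.eq_alternatingGroup_of_index_eq_two ?_⟩)
      omega
  · refine .inr (.inr ?_)
    have hnA : ¬ alternatingGroup α ≤ G := by
      intro hA
      let u : Equiv.Perm α := Equiv.swap (x 0) (x 1) * Equiv.swap (x 2) (x 3)
      have hne : ∀ i j : Fin 4, i ≠ j → x i ≠ x j := fun i j => x.injective.ne
      have hd : (Equiv.swap (x 0) (x 1)).Disjoint (Equiv.swap (x 2) (x 3)) := fun p => by
        by_cases hp : p = x 0 ∨ p = x 1
        · rcases hp with rfl | rfl
          · exact .inr (Equiv.swap_apply_of_ne_of_ne (hne 0 2 (by decide)) (hne 0 3 (by decide)))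
          · exact .inr (Equiv.swap_apply_of_ne_of_ne (hne 1 2 (by decide)) (hne 1 3 (by decide)))
        · rw [not_or] at hp
          exact .inl (Equiv.swap_apply_of_ne_of_ne hp.1 hp.2)
      have hu : u * u = 1 := by
        show _ * _ = _
        rw [hd.commute.symm.mul_mul_mul_comm, Equiv.swap_mul_self, Equiv.swap_mul_self, one_mul]
      have hu1 : u ≠ 1 := by
        intro e
        have e0 : u (x 0) = x 0 := by rw [e]; rfl
        simp only [u, Equiv.Perm.mul_apply] at e0
        rw [Equiv.swap_apply_of_ne_of_ne (hne 0 2 (by decide)) (hne 0 3 (by decide)),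
          Equiv.swap_apply_left] at e0
        exact hne 1 0 (by decide) e0
      have huG : u ∈ G := hA (by
        rw [Equiv.Perm.mem_alternatingGroup, map_mul,
          Equiv.Perm.sign_swap (hne 0 1 (by decide)), Equiv.Perm.sign_swap (hne 2 3 (by decide))]
        rfl)
      have hsub : (Finset.univ.map x)ᶜ ⊆ Finset.univ.filter fun p => u p = p := by
        intro p hp
        simp only [Finset.mem_compl, Finset.mem_map, Finset.mem_univ, true_and, not_exists] at hp
        refine Finset.mem_filter.2 ⟨Finset.mem_univ _, ?_⟩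
        show Equiv.swap (x 0) (x 1) (Equiv.swap (x 2) (x 3) p) = p
        rw [Equiv.swap_apply_of_ne_of_ne (Ne.symm (hp 2)) (Ne.symm (hp 3)),
          Equiv.swap_apply_of_ne_of_ne (Ne.symm (hp 0)) (Ne.symm (hp 1))]
      have h1 := Finset.card_le_card hsub
      have h2 := Jordan4.card_fixed_le hF huG hu hu1
      rw [Finset.card_compl, Finset.card_map, Finset.card_univ, Fintype.card_fin] at h1
      omega
    have hprim : MulAction.IsPreprimitive G α := by
      refine MulAction.isPreprimitive_of_is_two_pretransitive ?_
      exact MulAction.isMultiplyPretransitive_of_le (n := 4) (by norm_num)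
        (by rw [Nat.card_eq_fintype_card]; exact hn4)
    obtain ⟨h11, hH⟩ := Jordan4.eleven hF h x fun g hg hg3 =>
      hnA (Equiv.Perm.alternatingGroup_le_of_isPreprimitive_of_isThreeCycle_mem hprim hg3 hg)
    refine ⟨h11, ?_⟩
    rw [hG', h11, hH]
    norm_num [Nat.descFactorial]

end Cfsg.Agent.S4221
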