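import Cfsg.Statements.S4223

set_option autoImplicit false
open Cfsg

namespace Cfsg.Agent.S4223

universe u v

/-- A normal endomorphism of a directly indecomposable finite group is injective or has no
non-trivial fixed point. -/
theorem fitting {H : Type*} [Group H] [Finite H]
    (hH : ∀ X Y : Subgroup H, X.Normal → Y.Normal → X ⊓ Y = ⊥ → X ⊔ Y = ⊤ → X = ⊥ ∨ Y = ⊥)
    (f : H →* H) (hf : ∀ c a : H, f (c * a * c⁻¹) = c * f a * c⁻¹) :
    Function.Injective f ∨ ∀ x, f x = x → x = 1 := by
  let F : Monoid.End H := f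
  haveI : Finite (Monoid.End H) :=
    Finite.of_injective (fun g : Monoid.End H => (g : H → H)) DFunLike.coe_injective
  obtain ⟨i, j, hne, hij⟩ := Finite.exists_ne_map_eq_of_infinite (fun k : ℕ => F ^ k)
  obtain ⟨i, d, hd, hid⟩ : ∃ i d, 0 < d ∧ F ^ (i + d) = F ^ i := by
    rcases Nat.lt_or_gt_of_ne hne with h | h
    · exact ⟨i, j - i, by omega, by rw [Nat.add_sub_cancel' h.le]; exact hij.symm⟩
    · exact ⟨j, i - j, by omega, by rw [Nat.add_sub_cancel' h.le]; exact hij⟩
  have hper : ∀ k, i ≤ k → ∀ t, F ^ (k + t * d) = F ^ k := by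
    intro k hk t
    induction t with
    | zero => simp
    | succ t ih =>
      obtain ⟨e, rfl⟩ := Nat.exists_eq_add_of_le hk
      rw [show i + e + (t + 1) * d = (i + d) + (e + t * d) by ring, pow_add, hid, ← pow_add,
        ← add_assoc, ih]
  set N := d * (i + 1) with hN
  have hN0 : 0 < N := Nat.mul_pos hd (Nat.succ_pos i)
  have hidem : F ^ N * F ^ N = F ^ N := by
    rw [← pow_add]
    conv_lhs => rw [show N + N = N + (i + 1) * d by rw [hN]; ring]
    exact hper N (by
      calc i ≤ i + 1 := Nat.le_succ i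
        _ = 1 * (i + 1) := (one_mul _).symm
        _ ≤ d * (i + 1) := Nat.mul_le_mul_right _ hd) _
  let g : H →* H := (F ^ N : Monoid.End H)
  have hg : ∀ k : ℕ, ∀ c a : H, (F ^ k) (c * a * c⁻¹) = c * (F ^ k) a * c⁻¹ := by
    intro k
    induction k with
    | zero => intro c a; rfl
    | succ k ih =>
      intro c a
      rw [pow_succ']
      change f ((F ^ k) (c * a * c⁻¹)) = c * f ((F ^ k) a) * c⁻¹
      rw [ih, hf]
  have hgg : ∀ x, g (g x) = g x := fun x => DFunLike.congr_fun hidem x
  have hrange : g.range.Normal := ⟨by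
    rintro _ ⟨a, rfl⟩ c
    exact ⟨c * a * c⁻¹, hg N c a⟩⟩
  have hinf : g.ker ⊓ g.range = ⊥ := by
    rw [eq_bot_iff]
    rintro x ⟨hx, a, rfl⟩
    rw [Subgroup.mem_bot, ← hgg a]
    exact hx
  have hsup : g.ker ⊔ g.range = ⊤ := by
    rw [eq_top_iff]
    intro x _
    have h1 : x * (g x)⁻¹ ∈ g.ker := by
      rw [MonoidHom.mem_ker, map_mul, map_inv, hgg, mul_inv_cancel]
    have h2 := Subgroup.mul_mem_sup h1 (show g x ∈ g.range from ⟨x, rfl⟩)
    rwa [inv_mul_cancel_right] at h2
  rcases hH _ _ (MonoidHom.normal_ker g) hrange hinf hsup with h | h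
  · left
    intro a b hab
    apply (MonoidHom.ker_eq_bot_iff g).mp h
    obtain ⟨k, hk⟩ : ∃ k, N = k + 1 := ⟨N - 1, by omega⟩
    change (F ^ N) a = (F ^ N) b
    rw [hk, pow_succ]
    exact congrArg (F ^ k) hab
  · right
    intro x hx
    have hfix : ∀ k : ℕ, (F ^ k) x = x := by
      intro k
      induction k with
      | zero => rfl
      | succ k ih =>
        rw [pow_succ]
        change (F ^ k) (f x) = x
        rw [hx, ih]
    have : g x ∈ g.range := ⟨x, rfl⟩
    rw [h, Subgroup.mem_bot] at this
    exact (hfix N).symm.trans this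

theorem main (m : ℕ) : ∀ {n : ℕ} {A : Fin m → Type u} {B : Fin n → Type v} [∀ i, Group (A i)]
    [∀ j, Group (B j)] [∀ i, Finite (A i)] [∀ j, Finite (B j)]
    (_ : ∀ i, Nontrivial (A i) ∧ ∀ H K : Subgroup (A i), H.Normal → K.Normal → H ⊓ K = ⊥ →
      H ⊔ K = ⊤ → H = ⊥ ∨ K = ⊥)
    (_ : ∀ j, Nontrivial (B j) ∧ ∀ H K : Subgroup (B j), H.Normal → K.Normal → H ⊓ K = ⊥ →
      H ⊔ K = ⊤ → H = ⊥ ∨ K = ⊥)
    (_ : ((i : Fin m) → A i) ≃* ((j : Fin n) → B j)),
    ∃ σ : Fin m ≃ Fin n, ∀ i, Nonempty (A i ≃* B (σ i)) := by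
  induction m with
  | zero =>
    intro n A B _ _ _ _ hA hB e
    rcases n with _ | n
    · exact ⟨Equiv.refl _, fun i => i.elim0⟩
    · exfalso
      haveI := fun j => (hB j).1
      haveI : Subsingleton ((j : Fin (n + 1)) → B j) := e.symm.toEquiv.subsingleton
      exact not_subsingleton ((j : Fin (n + 1)) → B j) inferInstance
  | succ m ih =>
    intro n A B _ _ _ _ hA hB e
    classical
    let r : Finset (Fin n) → (((j : Fin n) → B j) →* ((j : Fin n) → B j)) := fun S =>
      { toFun := fun x j => if j ∈ S then x j else 1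
        map_one' := by funext j; simp
        map_mul' := fun x y => by funext j; by_cases h : j ∈ S <;> simp [h] }
    let f : Finset (Fin n) → (A 0 →* A 0) := fun S =>
      (Pi.evalMonoidHom A 0).comp (e.symm.toMonoidHom.comp
        ((r S).comp (e.toMonoidHom.comp (MonoidHom.mulSingle A 0))))
    have hf : ∀ S, ∀ c a : A 0, f S (c * a * c⁻¹) = c * f S a * c⁻¹ := by
      intro S c a
      change e.symm (r S (e (Pi.mulSingle 0 (c * a * c⁻¹)))) 0 =
        c * e.symm (r S (e (Pi.mulSingle 0 a))) 0 * c⁻¹
      have h1 : r S (e (Pi.mulSingle 0 (c * a * c⁻¹))) =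
          e (Pi.mulSingle 0 c) * r S (e (Pi.mulSingle 0 a)) * (e (Pi.mulSingle 0 c))⁻¹ := by
        rw [Pi.mulSingle_mul, Pi.mulSingle_mul, Pi.mulSingle_inv, map_mul, map_mul, map_inv]
        funext j
        by_cases h : j ∈ S <;> simp [r, h]
      rw [h1, map_mul, map_mul, map_inv]
      simp
    have huniv : ∀ a, f Finset.univ a = a := by
      intro a
      change e.symm (r Finset.univ (e (Pi.mulSingle 0 a))) 0 = a
      have : r Finset.univ (e (Pi.mulSingle 0 a)) = e (Pi.mulSingle 0 a) := by
        funext j; simp [r]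
      rw [this, MulEquiv.symm_apply_apply, Pi.mulSingle_eq_same]
    have hex : ∀ S, Function.Injective (f S) → ∃ j, Function.Injective (f {j}) := by
      intro S
      induction S using Finset.induction_on with
      | empty =>
        intro h
        exfalso
        obtain ⟨a, ha⟩ := @exists_ne _ (hA 0).1 (1 : A 0)
        refine ha (h ?_)
        have h0 : ∀ x, r ∅ x = 1 := fun x => by funext j; simp [r]
        change e.symm (r ∅ (e (Pi.mulSingle 0 a))) 0 = e.symm (r ∅ (e (Pi.mulSingle 0 1))) 0
        rw [h0, h0]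
      | @insert j S hjS ih' =>
        intro h
        have hmul : ∀ a, f (insert j S) a = f {j} a * f S a := by
          intro a
          change e.symm (r _ (e (Pi.mulSingle 0 a))) 0 =
            e.symm (r _ (e (Pi.mulSingle 0 a))) 0 * e.symm (r _ (e (Pi.mulSingle 0 a))) 0
          rw [← Pi.mul_apply, ← map_mul]
          refine congrArg (fun z => e.symm z 0) (funext fun k => ?_)
          by_cases hk : k = j
          · subst hk; simp [r, hjS]
          · simp [r, hk]
        have hbij := Finite.injective_iff_bijective.mp h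
        let u := MulEquiv.ofBijective (f (insert j S)) hbij
        let f' : A 0 →* A 0 := (f {j}).comp u.symm.toMonoidHom
        have hu : ∀ c a : A 0, u.symm (c * a * c⁻¹) = c * u.symm a * c⁻¹ := fun c a => by
          apply u.injective
          rw [MulEquiv.apply_symm_apply]
          change _ = f (insert j S) (c * u.symm a * c⁻¹)
          rw [hf]
          change _ = c * u (u.symm a) * c⁻¹
          rw [MulEquiv.apply_symm_apply]
        rcases fitting (hA 0).2 f' (fun c a => by
          change f {j} (u.symm (c * a * c⁻¹)) = c * f {j} (u.symm a) * c⁻¹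
          rw [hu, hf]) with hi | hn
        · refine ⟨j, fun a b hab => u.injective (hi ?_)⟩
          change f {j} (u.symm (u a)) = f {j} (u.symm (u b))
          rwa [MulEquiv.symm_apply_apply, MulEquiv.symm_apply_apply]
        · refine ih' ((injective_iff_map_eq_one _).mpr fun a ha => ?_)
          have h1 : f' (u a) = u a := by
            change f {j} (u.symm (u a)) = f (insert j S) a
            rw [MulEquiv.symm_apply_apply, hmul, ha, mul_one]
          exact u.map_eq_one_iff.mp (hn _ h1)
    obtain ⟨j, hj⟩ := hex Finset.univ fun a b hab => by rwa [huniv, huniv] at hab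
    let β : A 0 →* B j :=
      (Pi.evalMonoidHom B j).comp (e.toMonoidHom.comp (MonoidHom.mulSingle A 0))
    let ψ : B j →* A 0 :=
      (Pi.evalMonoidHom A 0).comp (e.symm.toMonoidHom.comp (MonoidHom.mulSingle B j))
    have hψβ : ∀ a, ψ (β a) = f {j} a := by
      intro a
      change e.symm (Pi.mulSingle j (e (Pi.mulSingle 0 a) j)) 0 =
        e.symm (r {j} (e (Pi.mulSingle 0 a))) 0
      refine congrArg (fun z => e.symm z 0) (funext fun k => ?_)
      by_cases hk : k = j
      · subst hk; simp [r]
      · simp [r, hk]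
    have hbij := Finite.injective_iff_bijective.mp hj
    have hβn : β.range.Normal := ⟨by
      rintro _ ⟨a, rfl⟩ b
      let z := e.symm (Pi.mulSingle j b)
      refine ⟨z 0 * a * (z 0)⁻¹, ?_⟩
      have h1 : Pi.mulSingle 0 (z 0 * a * (z 0)⁻¹) = z * Pi.mulSingle 0 a * z⁻¹ := by
        funext k
        by_cases hk : k = 0
        · subst hk; simp
        · simp [hk]
      change e (Pi.mulSingle 0 (z 0 * a * (z 0)⁻¹)) j = b * e (Pi.mulSingle 0 a) j * b⁻¹
      rw [h1, map_mul, map_mul, map_inv, MulEquiv.apply_symm_apply]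
      simp⟩
    have hinf : β.range ⊓ ψ.ker = ⊥ := by
      rw [eq_bot_iff]
      rintro _ ⟨⟨a, rfl⟩, ha⟩
      change ψ (β a) = 1 at ha
      rw [hψβ, ← map_one (f {j})] at ha
      rw [Subgroup.mem_bot, hbij.1 ha, map_one]
    have hsup : β.range ⊔ ψ.ker = ⊤ := by
      rw [eq_top_iff]
      intro b _
      obtain ⟨a, ha⟩ := hbij.2 (ψ b)
      have h1 : (β a)⁻¹ * b ∈ ψ.ker := by
        rw [MonoidHom.mem_ker, map_mul, map_inv, hψβ, ha, inv_mul_cancel]
      have h2 := Subgroup.mul_mem_sup (show β a ∈ β.range from ⟨a, rfl⟩) h1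
      rwa [mul_inv_cancel_left] at h2
    have hker : ψ.ker = ⊥ := by
      refine ((hB j).2 _ _ hβn (MonoidHom.normal_ker ψ) hinf hsup).resolve_left fun h => ?_
      obtain ⟨a, ha⟩ := @exists_ne _ (hA 0).1 (1 : A 0)
      refine ha (hbij.1 ?_)
      rw [← hψβ, ← hψβ]
      congr 1
      rw [map_one, ← Subgroup.mem_bot, ← h]
      exact ⟨a, rfl⟩
    have hψ : Function.Bijective ψ := ⟨(MonoidHom.ker_eq_bot_iff ψ).mp hker, fun a => by
      obtain ⟨a', ha'⟩ := hbij.2 a
      exact ⟨β a', (hψβ a').trans ha'⟩⟩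
    obtain ⟨n, rfl⟩ : ∃ n', n = n' + 1 := ⟨n - 1, by have := j.isLt; omega⟩
    let Φ : ((i : Fin m) → A i.succ) →* ((k : Fin n) → B (j.succAbove k)) :=
      { toFun := fun x k => e (Fin.cons 1 x) (j.succAbove k)
        map_one' := by
          funext k
          have : (Fin.cons 1 1 : (i : Fin (m + 1)) → A i) = 1 := by
            funext i; refine Fin.cases ?_ ?_ i <;> simp
          simp [this]
        map_mul' := fun x y => by
          funext k
          have : (Fin.cons 1 (x * y) : (i : Fin (m + 1)) → A i) = Fin.cons 1 x * Fin.cons 1 y := by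
            funext i; refine Fin.cases ?_ ?_ i <;> simp
          simp [this] }
    have hΦi : Function.Injective Φ := by
      rw [injective_iff_map_eq_one]
      intro x hx
      set y := e (Fin.cons 1 x) with hy
      have hy1 : y = Pi.mulSingle j (y j) := by
        funext k
        rcases Fin.eq_self_or_eq_succAbove j k with rfl | ⟨k', rfl⟩
        · simp
        · rw [Pi.mulSingle_eq_of_ne (Fin.succAbove_ne j k')]
          exact congrFun hx k'
      have h2 : ψ (y j) = 1 := by
        change e.symm (Pi.mulSingle j (y j)) 0 = 1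
        rw [← hy1, hy, MulEquiv.symm_apply_apply, Fin.cons_zero]
      have h3 : y = 1 := by
        rw [hy1, hψ.1 (h2.trans ψ.map_one.symm), Pi.mulSingle_one]
      have h4 := e.map_eq_one_iff.mp h3
      funext i
      simpa using congrFun h4 i.succ
    have hcard : Nat.card ((i : Fin m) → A i.succ) =
        Nat.card ((k : Fin n) → B (j.succAbove k)) := by
      have h1 := Nat.card_congr e.toEquiv
      rw [Nat.card_pi, Nat.card_pi, Fin.prod_univ_succ, Fin.prod_univ_succAbove _ j,
        Nat.card_eq_of_bijective ψ hψ] at h1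
      rw [Nat.card_pi, Nat.card_pi]
      exact Nat.eq_of_mul_eq_mul_left Nat.card_pos h1
    obtain ⟨σ, hσ⟩ := ih (A := fun i : Fin m => A i.succ) (B := fun k => B (j.succAbove k))
      (fun i => hA i.succ) (fun k => hB (j.succAbove k))
      (MulEquiv.ofBijective Φ ((Nat.bijective_iff_injective_and_card _).mpr ⟨hΦi, hcard⟩))
    refine ⟨(finSuccEquiv' 0).trans ((σ.optionCongr).trans (finSuccEquiv' j).symm), fun i => ?_⟩
    refine Fin.cases ?_ ?_ i
    · simpa using ⟨(MulEquiv.ofBijective ψ hψ).symm⟩
    · intro k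
      have h1 : finSuccEquiv' (0 : Fin (m + 1)) k.succ = some k := by
        rw [show k.succ = (0 : Fin (m + 1)).succAbove k from
          (congrFun Fin.succAbove_zero k).symm]
        exact finSuccEquiv'_succAbove _ _
      have h2 : (((finSuccEquiv' 0).trans (σ.optionCongr.trans (finSuccEquiv' j).symm)) k.succ) =
          j.succAbove (σ k) := by
        rw [Equiv.trans_apply, Equiv.trans_apply, h1]
        exact finSuccEquiv'_symm_some _ _
      rw [h2]
      exact hσ k


/-- If a finite group is isomorphic both to a direct product of `m` directly indecomposable nontrivial groups and to a direct product of `n` such groups (a group is directly indecomposable when it is not the internal direct product of two nontrivial normal subgroups), then `m = n` and the factors are isomorphic in pairs after a suitable matching. -/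
theorem result {m n : ℕ} {A : Fin m → Type*} {B : Fin n → Type*} [∀ i, Group (A i)] [∀ j, Group (B j)] [∀ i, Finite (A i)] [∀ j, Finite (B j)] (hA : ∀ i, Nontrivial (A i) ∧ ∀ H K : Subgroup (A i), H.Normal → K.Normal → H ⊓ K = ⊥ → H ⊔ K = ⊤ → H = ⊥ ∨ K = ⊥) (hB : ∀ j, Nontrivial (B j) ∧ ∀ H K : Subgroup (B j), H.Normal → K.Normal → H ⊓ K = ⊥ → H ⊔ K = ⊤ → H = ⊥ ∨ K = ⊥) (e : ((i : Fin m) → A i) ≃* ((j : Fin n) → B j)) : ∃ σ : Fin m ≃ Fin n, ∀ i, Nonempty (A i ≃* B (σ i)) := by
  exact main m hA hB e

end Cfsg.Agent.S4223
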