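import Cfsg.Statements.S4227
import Cfsg.Agent.GroupStructure3.FrattiniAut
import Cfsg.Agent.Lib.PLocal.PSolvable
import Cfsg.Agent.Lib.PLocal.SolvableSeparable
import Cfsg.Agent.Lib.Coprime.PGroup
import Cfsg.Agent.Lib.Characters.Burnside
import Cfsg.Agent.OddLocal.PLength

set_option autoImplicit false
open Cfsg

namespace Cfsg.Agent.S4227

open Cfsg.Agent.PLocal

variable {G : Type*} [Group G] [Finite G]

theorem pow_of_pGroup {G : Type*} [Group G] {p k : ℕ} (hk : Nat.gcd 6 (p ^ k) ∣ p) {x : G}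
    (h6 : x ^ 6 = 1) (hx : x ^ p ^ k = 1) : x ^ p = 1 := by
  rw [← orderOf_dvd_iff_pow_eq_one] at h6 hx ⊢
  exact (Nat.dvd_gcd h6 hx).trans hk

theorem gcd_six {p : ℕ} (hp : p = 2 ∨ p = 3) (k : ℕ) : Nat.gcd 6 (p ^ k) ∣ p := by
  have hpp : p.Prime := by rcases hp with rfl | rfl <;> norm_num
  obtain ⟨j, -, hj⟩ := (Nat.dvd_prime_pow hpp).1 (Nat.gcd_dvd_right 6 (p ^ k))
  rw [hj]
  have h6 : p ^ j ∣ 6 := hj ▸ Nat.gcd_dvd_left 6 (p ^ k)
  have : j ≤ 1 := by
    by_contra hj1
    have h2 : p ^ 2 ∣ 6 := (pow_dvd_pow p (by omega)).trans h6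
    rcases hp with rfl | rfl <;> norm_num at h2
  exact (pow_dvd_pow p this).trans (pow_one p).dvd

theorem comm_cancel {V : Type*} [CommGroup V] (v a b c : V) :
    (v * a⁻¹) * (a * v⁻¹) * (b * c⁻¹) * (c * b⁻¹) = 1 := by
  refine Additive.ofMul.injective ?_
  simp only [ofMul_mul, ofMul_inv, ofMul_one]
  abel

theorem key_rearrange {V : Type*} [CommGroup V] (f g : V →* V) (z a b c : V) :
    z ^ 4 * f (z * a * b * c) * g (z * a * b * c) =
      (z * f z * g z) * (z * f a * g b) * (z * f b * g c) * (z * f c * g a) := by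
  refine Additive.ofMul.injective ?_
  simp only [map_mul, ofMul_mul, ofMul_pow]
  abel

/-- The vanishing of all norms of a copy of `A₄` in exponent three kills the four-group. -/
theorem fix_of_norm {V H : Type*} [CommGroup V] [Group H] (ψ : H →* MulAut V)
    (hV3 : ∀ z : V, z ^ 3 = 1) (hnorm : ∀ y : H, y ^ 3 = 1 → ∀ z, z * ψ y z * ψ (y * y) z = 1)
    {x u1 u2 u3 : H} (hx : x ^ 3 = 1) (h11 : u1 * u1 = 1) (h22 : u2 * u2 = 1) (h33 : u3 * u3 = 1)
    (hx1 : x * u1 * x⁻¹ = u2) (hx2 : x * u2 * x⁻¹ = u3) (hx3 : x * u3 * x⁻¹ = u1)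
    (h21 : u2 * u1 = u3) (h31 : u3 * u1 = u2) (h32 : u3 * u2 = u1)
    (hc21 : u2 * u1 = u1 * u2) (hc31 : u3 * u1 = u1 * u3) (v : V) : ψ u1 v = v := by
  set z := v * (ψ u1 v)⁻¹ with hz
  have happ : ∀ a b : H, ∀ w, ψ a (ψ b w) = ψ (a * b) w := fun a b w => by rw [map_mul]; rfl
  have hS : z * ψ u1 z * ψ u2 z * ψ u3 z = 1 := by
    have e1 : ψ u1 z = ψ u1 v * v⁻¹ := by
      rw [hz, map_mul, map_inv, happ, h11, map_one, MulAut.one_apply]
    have e2 : ψ u2 z = ψ u2 v * (ψ u3 v)⁻¹ := by rw [hz, map_mul, map_inv, happ, h21]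
    have e3 : ψ u3 z = ψ u3 v * (ψ u2 v)⁻¹ := by rw [hz, map_mul, map_inv, happ, h31]
    rw [e1, e2, e3, hz]
    exact comm_cancel _ _ _ _
  have hc1 : x⁻¹ * u1 * x = u3 := by rw [← hx3]; group
  have hc2 : x⁻¹ * u2 * x = u1 := by rw [← hx1]; group
  have hc3 : x⁻¹ * u3 * x = u2 := by rw [← hx2]; group
  have hexp : ∀ y, (x * y) ^ 3 = (x * y * x⁻¹) * (x * (x * y * x⁻¹) * x⁻¹) *
      (x * (x * (x * y * x⁻¹) * x⁻¹) * x⁻¹) * x ^ 3 := fun y => by
    simp only [pow_succ, pow_zero, one_mul]; group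
  have t1 : (x * u1) ^ 3 = 1 := by
    rw [hexp, hx, mul_one, hx1, hx2, hx3, mul_assoc, h31, h22]
  have t2 : (x * u2) ^ 3 = 1 := by
    rw [hexp, hx, mul_one, hx2, hx3, hx1, hc31, mul_assoc, h32, h11]
  have t3 : (x * u3) ^ 3 = 1 := by
    rw [hexp, hx, mul_one, hx3, hx1, hx2, ← hc21, h21, h33]
  have hxy : ∀ y, (x * y) * (x * y) = (x * x) * (x⁻¹ * y * x * y) := fun y => by group
  have e0 := hnorm x hx z
  have e1 := hnorm (x * u1) t1 z
  have e2 := hnorm (x * u2) t2 z
  have e3 := hnorm (x * u3) t3 z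
  rw [hxy, hc1, h31, ← happ, ← happ] at e1
  rw [hxy, hc2, ← hc21, h21, ← happ, ← happ] at e2
  rw [hxy, hc3, show u2 * u3 = u1 by rw [← h21, ← mul_assoc, h22, one_mul], ← happ, ← happ] at e3
  have key := key_rearrange (ψ x).toMonoidHom (ψ (x * x)).toMonoidHom z (ψ u1 z) (ψ u2 z) (ψ u3 z)
  simp only [MulEquiv.coe_toMonoidHom] at key
  rw [hS, map_one, map_one, mul_one, mul_one, e0, e1, e2, e3, one_mul, one_mul, one_mul, pow_succ,
    hV3, one_mul, hz, mul_inv_eq_one] at key
  exact key.symm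

theorem two_length (h : ∀ x : G, x ^ 6 = 1) (hs : Group.IsSolvable G) : Cfsg.PLengthLE 2 1 G := by
  classical
  haveI : Fact (Nat.Prime 2) := ⟨Nat.prime_two⟩
  rw [OddLocal.pLengthLE_one_iff]
  set π := QuotientGroup.mk' (Cfsg.pPrimeCore 2 G)
  obtain ⟨S⟩ := (inferInstance : Nonempty (Sylow 2 G))
  let S' := S.mapSurjective (QuotientGroup.mk'_surjective (Cfsg.pPrimeCore 2 G))
  have hS' : (S' : Subgroup (G ⧸ Cfsg.pPrimeCore 2 G)) = (S : Subgroup G).map π := rfl
  have hsq : ∀ x ∈ (S : Subgroup G), x * x = 1 := by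
    intro x hx
    obtain ⟨k, hk⟩ := S.2 ⟨x, hx⟩
    rw [← sq]
    exact pow_of_pGroup (gcd_six (Or.inl rfl) k) (h x) (congrArg Subtype.val hk :)
  have hab : ∀ a ∈ (S : Subgroup G), ∀ b ∈ (S : Subgroup G), a * b = b * a := fun a ha b hb => by
    calc a * b = a * (a * b * (a * b)) * b := by rw [hsq _ (mul_mem ha hb), mul_one]
      _ = (a * a) * (b * a) * (b * b) := by group
      _ = b * a := by rw [hsq a ha, hsq b hb, one_mul, mul_one]
  have hle : (S : Subgroup G) ≤ Cfsg.pPrimePCore 2 G := by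
    intro x hx
    refine PSolvable.centralizer_pCore_le Cores.pPrimeCore_quotient_pPrimeCore
      (PSolvable.subgroup (PSolvable.quotient (SolvableSeparable.isPSolvable_of_isSolvable 2 G) _) _) ?_
    rw [Subgroup.mem_centralizer_iff]
    intro z hz
    obtain ⟨y, hy, rfl⟩ := hS' ▸ Cores.pCore_le_sylow S' hz
    show π y * π x = π x * π y
    rw [← map_mul, ← map_mul, hab y hy x hx]
  exact ((Nat.Prime.coprime_iff_not_dvd Nat.prime_two).2 fun hd =>
    S.not_dvd_index (hd.trans (Subgroup.index_dvd_of_le hle))).symm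

theorem three_length (h : ∀ x : G, x ^ 6 = 1) (hs : Group.IsSolvable G) : Cfsg.PLengthLE 3 1 G := by
  classical
  haveI : Fact (Nat.Prime 3) := ⟨Nat.prime_three⟩
  haveI : Fact (Nat.Prime 2) := ⟨Nat.prime_two⟩
  rw [OddLocal.pLengthLE_one_iff]
  refine ((Nat.Prime.coprime_iff_not_dvd Nat.prime_three).2 fun hdvd => ?_).symm
  set Gb := G ⧸ Cfsg.pPrimeCore 3 G
  set π := QuotientGroup.mk' (Cfsg.pPrimeCore 3 G) with hπ
  have hb6 : ∀ x : Gb, x ^ 6 = 1 := fun x => by
    obtain ⟨g, rfl⟩ := QuotientGroup.mk'_surjective (Cfsg.pPrimeCore 3 G) x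
    rw [← map_pow, h, map_one]
  set P : Subgroup Gb := Cfsg.pCore 3 Gb with hP
  haveI hPn : P.Normal := inferInstance
  have hPp : IsPGroup 3 P := Cores.isPGroup_pCore
  have hO : Cfsg.pPrimeCore 3 Gb = ⊥ := Cores.pPrimeCore_quotient_pPrimeCore
  have hsolb : Cfsg.IsPSolvable 3 Gb := PSolvable.quotient (SolvableSeparable.isPSolvable_of_isSolvable 3 G) _
  set H := Gb ⧸ P
  set q := QuotientGroup.mk' P with hq
  have hH6 : ∀ x : H, x ^ 6 = 1 := fun x => by
    obtain ⟨g, rfl⟩ := QuotientGroup.mk'_surjective P x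
    rw [← map_pow, hb6, map_one]
  -- an element of order three outside `P`
  obtain ⟨x, hx⟩ : ∃ x : H, orderOf x = 3 := by
    refine exists_prime_orderOf_dvd_card' (G := H) 3 ?_
    rw [← P.index_eq_card]
    rwa [Cfsg.pPrimePCore, Subgroup.index_comap_of_surjective _ (QuotientGroup.mk'_surjective _)] at hdvd
  have hx3 : x ^ 3 = 1 := orderOf_dvd_iff_pow_eq_one.1 (dvd_of_eq hx)
  -- the 2-core
  have hO2 : Cfsg.pPrimeCore 2 H = ⊥ := by
    refine le_bot_iff.1 ?_
    have hN : IsPGroup 3 (Cfsg.pPrimeCore 2 H) := by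
      intro a
      refine ⟨1, Subtype.ext ?_⟩
      have h2 := Cores.coprime_card_pPrimeCore (p := 2) (G := H)
      have h3 : orderOf (a : H) ∣ 3 := by
        refine (Nat.Coprime.dvd_of_dvd_mul_left ?_ (orderOf_dvd_of_pow_eq_one (hH6 (a : H)) : orderOf (a : H) ∣ 2 * 3))
        exact h2.coprime_dvd_left (Subgroup.orderOf_dvd_natCard _ a.2)
      rw [Subgroup.coe_pow, pow_one]
      exact orderOf_dvd_iff_pow_eq_one.1 h3
    exact (Cores.le_pCore hN).trans (Cores.pCore_quotient_pCore (p := 3) (G := Gb)).le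
  set W := Cfsg.pCore 2 H with hW
  have hW2 : ∀ u ∈ W, u * u = 1 := by
    intro u hu
    obtain ⟨k, hk⟩ := Cores.isPGroup_pCore (p := 2) (G := H) ⟨u, hu⟩
    rw [← sq]
    exact pow_of_pGroup (gcd_six (Or.inl rfl) k) (hH6 u) (congrArg Subtype.val hk :)
  have hWc : ∀ a ∈ W, ∀ b ∈ W, a * b = b * a := fun a ha b hb => by
    calc a * b = a * (a * b * (a * b)) * b := by rw [hW2 _ (mul_mem ha hb), mul_one]
      _ = (a * a) * (b * a) * (b * b) := by group
      _ = b * a := by rw [hW2 a ha, hW2 b hb, one_mul, mul_one]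
  obtain ⟨w0, hw0, hne⟩ : ∃ w0 ∈ W, x * w0 ≠ w0 * x := by
    by_contra hc
    push Not at hc
    have hxc : x ∈ Subgroup.centralizer (W : Set H) :=
      Subgroup.mem_centralizer_iff.2 fun z hz => (hc z hz).symm
    have hxW := PSolvable.centralizer_pCore_le hO2 (PSolvable.subgroup
      (PSolvable.quotient (PSolvable.quotient (SolvableSeparable.isPSolvable_of_isSolvable 2 G) _) _) _) hxc
    have := hW2 x hxW
    rw [← sq, ← orderOf_dvd_iff_pow_eq_one, hx] at this
    norm_num at this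
  have hWn : W.Normal := inferInstance
  set b := x * w0 * x⁻¹ with hb
  set c := x * b * x⁻¹ with hc
  have hbW : b ∈ W := hWn.conj_mem _ hw0 x
  have hcW : c ∈ W := hWn.conj_mem _ hbW x
  have hca : x * c * x⁻¹ = w0 := by
    calc x * c * x⁻¹ = x ^ 3 * w0 * (x ^ 3)⁻¹ := by rw [hc, hb]; simp only [pow_succ, pow_zero, one_mul]; group
      _ = w0 := by rw [hx3, one_mul, inv_one, mul_one]
  set u1 := w0 * b with hu1
  set u2 := b * c with hu2
  set u3 := c * w0 with hu3
  have hu1W : u1 ∈ W := mul_mem hw0 hbW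
  have hu2W : u2 ∈ W := mul_mem hbW hcW
  have hu3W : u3 ∈ W := mul_mem hcW hw0
  have hu1ne : u1 ≠ 1 := fun e => hne (by
    have hbe : b = w0 := by
      rw [hu1, mul_eq_one_iff_inv_eq] at e
      rw [← e, inv_eq_of_mul_eq_one_right (hW2 _ hw0)]
    rw [hb, mul_inv_eq_iff_eq_mul] at hbe
    exact hbe)
  have hx1 : x * u1 * x⁻¹ = u2 := by rw [hu1, ← conj_mul, ← hb, ← hc, hu2]
  have hx2 : x * u2 * x⁻¹ = u3 := by rw [hu2, ← conj_mul, ← hc, hca, hu3]
  have hx3' : x * u3 * x⁻¹ = u1 := by rw [hu3, ← conj_mul, hca, ← hb, hu1]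
  have h21 : u2 * u1 = u3 := by
    rw [hu1, hu2, hu3, hWc w0 hw0 b hbW, mul_assoc, ← mul_assoc c b, hWc c hcW b hbW, ← mul_assoc,
      ← mul_assoc, hW2 b hbW, one_mul]
  have hmul3 : u3 * u1 = u2 := by rw [← h21, mul_assoc, hW2 _ hu1W, mul_one]
  have h32 : u3 * u2 = u1 := by
    rw [← h21, hWc _ hu2W _ hu1W, mul_assoc, hW2 _ hu2W, mul_one]
  -- the action on the Frattini quotient of `P`
  haveI := hPp.isNilpotent
  set Φ := frattini P with hΦ
  let ρ : Gb →* MulAut (P ⧸ Φ) :=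
    { toFun := fun g => QuotientGroup.congr Φ Φ (MulAut.conjNormal g)
        (Subgroup.characteristic_iff_map_eq.1 frattini_characteristic _)
      map_one' := MulEquiv.ext fun z => by
        induction z using QuotientGroup.induction_on with | _ v => ?_
        show (((MulAut.conjNormal (1 : Gb)) v : P) : P ⧸ Φ) = v
        rw [map_one]; rfl
      map_mul' := fun a b => MulEquiv.ext fun z => by
        induction z using QuotientGroup.induction_on with | _ v => ?_
        show (((MulAut.conjNormal (a * b)) v : P) : P ⧸ Φ) = (((MulAut.conjNormal a) ((MulAut.conjNormal b) v) : P) : P ⧸ Φ)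
        rw [map_mul]; rfl }
  have hVc : ∀ z w : P ⧸ Φ, z * w = w * z := by
    intro z w
    induction z using QuotientGroup.induction_on with | _ a => ?_
    induction w using QuotientGroup.induction_on with | _ b => ?_
    rw [← QuotientGroup.mk_mul, ← QuotientGroup.mk_mul, QuotientGroup.eq]
    refine Cfsg.Agent.Coprime.commutator_le_frattini P ?_
    have h1 := Subgroup.commutator_mem_commutator (Subgroup.mem_top b⁻¹) (Subgroup.mem_top a⁻¹)
    rw [← commutator_def, commutatorElement_def] at h1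
    simpa [mul_assoc] using h1
  letI : CommGroup (P ⧸ Φ) := { (inferInstance : Group (P ⧸ Φ)) with mul_comm := hVc }
  have hV3 : ∀ z : P ⧸ Φ, z ^ 3 = 1 := by
    intro z
    induction z using QuotientGroup.induction_on with | _ a => ?_
    rw [← QuotientGroup.mk_pow, QuotientGroup.eq_one_iff]
    exact GroupStructure3.FrattiniAut.pow_mem_frattini hPp a
  have hker : P ≤ ρ.ker := by
    intro g hg
    rw [MonoidHom.mem_ker]
    refine MulEquiv.ext fun z => ?_
    induction z using QuotientGroup.induction_on with | _ v => ?_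
    show (((MulAut.conjNormal g) v : P) : P ⧸ Φ) = v
    have h1 : (MulAut.conjNormal g) v = (⟨g, hg⟩ : P) * v * (⟨g, hg⟩ : P)⁻¹ :=
      Subtype.ext (by rw [MulAut.conjNormal_apply]; rfl)
    rw [h1, QuotientGroup.mk_mul, QuotientGroup.mk_mul, QuotientGroup.mk_inv, mul_comm, inv_mul_cancel_left]
  let ψ : H →* MulAut (P ⧸ Φ) := QuotientGroup.lift P ρ hker
  -- norms vanish
  have hnorm : ∀ y : H, y ^ 3 = 1 → ∀ z, z * ψ y z * ψ (y * y) z = 1 := by
    intro y hy z
    obtain ⟨g0, rfl⟩ := QuotientGroup.mk'_surjective P y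
    set g := g0 ^ 4 with hg
    have hyg : QuotientGroup.mk' P g0 = QuotientGroup.mk' P g := by
      rw [hg, map_pow, pow_succ, hy, one_mul]
    rw [hyg, ← map_mul]
    induction z using QuotientGroup.induction_on with | _ v => ?_
    have hg3 : g ^ 3 = 1 := by rw [hg, ← pow_mul, show 4 * 3 = 6 * 2 by norm_num, pow_mul, hb6, one_pow]
    set r : P := v * MulAut.conjNormal g v * MulAut.conjNormal (g * g) v with hr
    have hr1 : ((v : Gb) * g) ^ 3 = (r : Gb) := by
      rw [hr, Subgroup.coe_mul, Subgroup.coe_mul, MulAut.conjNormal_apply, MulAut.conjNormal_apply]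
      calc ((v : Gb) * g) ^ 3 = (v : Gb) * (g * v * g⁻¹) * ((g * g) * v * (g * g)⁻¹) * g ^ 3 := by
            simp only [pow_succ, pow_zero, one_mul]; group
        _ = _ := by rw [hg3, mul_one]
    have hr2 : r * r = 1 := Subtype.ext (by
      rw [Subgroup.coe_mul, ← hr1, ← pow_add]
      exact hb6 _)
    have hr0 : r = 1 := by
      obtain ⟨k, hk⟩ := hPp r
      refine orderOf_eq_one_iff.1 (Nat.eq_one_of_dvd_coprimes (Nat.Coprime.pow_right k (by norm_num : Nat.Coprime 2 3))
        (orderOf_dvd_of_pow_eq_one ((sq r).trans hr2)) (orderOf_dvd_of_pow_eq_one hk))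
    show ((v : P ⧸ Φ)) * ((MulAut.conjNormal g v : P) : P ⧸ Φ) * ((MulAut.conjNormal (g * g) v : P) : P ⧸ Φ) = 1
    rw [← QuotientGroup.mk_mul, ← QuotientGroup.mk_mul, ← hr, hr0, QuotientGroup.mk_one]
  have hψ1 : ψ u1 = 1 := MulEquiv.ext fun v =>
    fix_of_norm ψ hV3 hnorm hx3 (hW2 _ hu1W) (hW2 _ hu2W) (hW2 _ hu3W) hx1 hx2 hx3' h21 hmul3 h32
      (hWc _ hu2W _ hu1W) (hWc _ hu3W _ hu1W) v
  -- lift `u1` to an involution and use coprime action
  obtain ⟨g0, hg0⟩ := QuotientGroup.mk'_surjective P u1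
  set w := g0 ^ 3 with hw
  have hwu : QuotientGroup.mk' P w = u1 := by
    rw [hw, map_pow, hg0, pow_succ, sq, hW2 _ hu1W, one_mul]
  have hρw : ρ w = 1 := by
    have : ψ (QuotientGroup.mk' P w) = 1 := by rw [hwu, hψ1]
    exact this
  obtain ⟨n, hn⟩ := hPp.exists_card_eq
  obtain ⟨r, -, hr⟩ := (Nat.dvd_prime_pow Nat.prime_three).1 (hn ▸ Φ.index_dvd_card)
  let S : Subgroup (MulAut P) :=
    { carrier := {α | ∀ v, α v * v⁻¹ ∈ Φ}
      one_mem' := fun v => by simp
      mul_mem' := fun {α β} ha hb v => by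
        have := mul_mem (ha (β v)) (hb v)
        simpa [MulAut.mul_apply, mul_assoc] using this
      inv_mem' := fun {α} ha v => by
        have e : v * (α⁻¹ v)⁻¹ ∈ Φ := by
          have h0 := ha (α⁻¹ v)
          rwa [MulAut.apply_inv_self] at h0
        have := inv_mem e
        rwa [mul_inv_rev, inv_inv] at this }
  obtain ⟨s, -, hs⟩ := (Nat.dvd_prime_pow Nat.prime_three).1
    (GroupStructure3.FrattiniAut.card_stab_dvd hn hr S fun α hα => hα)
  have hwS : (MulAut.conjNormal w : MulAut P) ∈ S := by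
    intro v
    have h1 : (((MulAut.conjNormal w) v : P) : P ⧸ Φ) = v := DFunLike.congr_fun hρw (v : P ⧸ Φ)
    rw [← QuotientGroup.eq_one_iff, QuotientGroup.mk_mul, h1, QuotientGroup.mk_inv, mul_inv_cancel]
  have hcw : (MulAut.conjNormal w : MulAut P) = 1 := by
    refine orderOf_eq_one_iff.1 (Nat.eq_one_of_dvd_coprimes (Nat.Coprime.pow_right s (by norm_num : Nat.Coprime 2 3))
      (orderOf_dvd_of_pow_eq_one ?_) (hs ▸ Subgroup.orderOf_dvd_natCard S hwS))
    rw [← map_pow, hw, ← pow_mul, hb6, map_one]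
  have hwC : w ∈ Subgroup.centralizer (P : Set Gb) := by
    rw [Subgroup.mem_centralizer_iff]
    intro v hv
    have h1 := congrArg Subtype.val (DFunLike.congr_fun hcw (⟨v, hv⟩ : P))
    rw [MulAut.conjNormal_apply, MulAut.one_apply, mul_inv_eq_iff_eq_mul] at h1
    exact h1.symm
  have hwP := PSolvable.centralizer_pCore_le hO (PSolvable.subgroup hsolb _) hwC
  exact hu1ne (by rw [← hwu]; exact (QuotientGroup.eq_one_iff w).2 hwP)


/-- A finite group in which every element has order dividing `6` has `2`-length at most `1` and `3`-length at most `1`. -/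
theorem result {G : Type*} [Group G] [Finite G] (h : ∀ x : G, x ^ 6 = 1) : Cfsg.PLengthLE 2 1 G ∧ Cfsg.PLengthLE 3 1 G := by
  have hs : Group.IsSolvable G := by
    refine Cfsg.Agent.Characters.burnside_pa_qb (p := 2) (q := 3)
      (a := (Nat.card G).factorization 2) (b := (Nat.card G).factorization 3) Nat.prime_two Nat.prime_three ?_
    refine Nat.eq_of_factorization_eq Nat.card_pos.ne' (by positivity) fun r => ?_
    rw [Nat.factorization_mul (by positivity) (by positivity), Nat.prime_two.factorization_pow,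
      Nat.prime_three.factorization_pow, Finsupp.add_apply]
    by_cases hr : r = 2
    · subst hr; simp
    by_cases hr' : r = 3
    · subst hr'; simp
    rw [Finsupp.single_eq_of_ne (by omega), Finsupp.single_eq_of_ne (by omega), add_zero]
    by_contra hne
    have hmem : r ∈ (Nat.card G).primeFactors := by
      rw [← Nat.support_factorization]; exact Finsupp.mem_support_iff.2 hne
    haveI := Fact.mk (Nat.prime_of_mem_primeFactors hmem)
    obtain ⟨g, hg⟩ := exists_prime_orderOf_dvd_card' (G := G) r (Nat.dvd_of_mem_primeFactors hmem)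
    have h6 : r ∣ 6 := hg ▸ orderOf_dvd_of_pow_eq_one (h g)
    have : r ≤ 6 := Nat.le_of_dvd (by norm_num) h6
    have hp := Nat.prime_of_mem_primeFactors hmem
    interval_cases r <;> first | omega | (norm_num at h6; done) | (norm_num at hp; done)
  exact ⟨two_length h hs, three_length h hs⟩

end Cfsg.Agent.S4227
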