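import Cfsg.Statements.S4230

set_option autoImplicit false
open Cfsg

namespace Cfsg.Agent.S4230

/-- Let p be an odd prime, q a natural number not divisible by p, and e the multiplicative order of q modulo p. For a natural number f, p divides the value at q of the f-th cyclotomic polynomial if and only if f = e·p^j for some j ≥ 0. -/
theorem result (p q f : ℕ) (hp : p.Prime) (hp2 : p ≠ 2) (hpq : ¬ p ∣ q) :
    ((p : ℤ) ∣ (Polynomial.cyclotomic f ℤ).eval (q : ℤ)) ↔ ∃ j : ℕ, f = orderOf (q : ZMod p) * p ^ j := by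
  haveI := Fact.mk hp
  set d := orderOf (q : ZMod p) with hd
  have hq0 : (q : ZMod p) ≠ 0 := fun h => hpq ((ZMod.natCast_eq_zero_iff q p).1 h)
  have hdp : d ∣ p - 1 := ZMod.orderOf_dvd_card_sub_one hq0
  have hd0 : d ≠ 0 := by
    intro h
    rw [h, zero_dvd_iff] at hdp
    have := hp.two_le
    omega
  have hnd : ¬ p ∣ d := fun h => by
    have h1 := Nat.le_of_dvd (by have := hp.two_le; omega) (h.trans hdp)
    have := hp.two_le
    omega
  have hev : ((p : ℤ) ∣ (Polynomial.cyclotomic f ℤ).eval (q : ℤ)) ↔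
      (Polynomial.cyclotomic f (ZMod p)).IsRoot (q : ZMod p) := by
    have h1 : ((((Polynomial.cyclotomic f ℤ).eval (q : ℤ)) : ℤ) : ZMod p) =
        (Polynomial.cyclotomic f (ZMod p)).eval (q : ZMod p) := by
      rw [← Polynomial.map_cyclotomic f (Int.castRingHom (ZMod p)),
        ← map_natCast (Int.castRingHom (ZMod p)) q, Polynomial.eval_map, Polynomial.eval₂_hom]
      rfl
    rw [← ZMod.intCast_zmod_eq_zero_iff_dvd, h1]
    rfl
  rw [hev]
  rcases eq_or_ne f 0 with rfl | hf
  · refine ⟨fun h => ?_, ?_⟩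
    · simp [Polynomial.IsRoot, Polynomial.cyclotomic_zero] at h
    · rintro ⟨j, hj⟩
      exact absurd hj.symm (Nat.mul_ne_zero hd0 (pow_ne_zero _ hp.ne_zero))
  obtain ⟨j, m, hm, rfl⟩ := Nat.exists_eq_pow_mul_and_not_dvd hf p hp.ne_one
  haveI : NeZero ((m : ℕ) : ZMod p) := ⟨fun h => hm ((ZMod.natCast_eq_zero_iff m p).1 h)⟩
  have hroot : (Polynomial.cyclotomic (p ^ j * m) (ZMod p)).IsRoot (q : ZMod p) ↔ d = m := by
    have h2 : (Polynomial.cyclotomic m (ZMod p)).IsRoot (q : ZMod p) ↔ d = m := by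
      rw [Polynomial.isRoot_cyclotomic_iff, IsPrimitiveRoot.iff_orderOf]
    rcases eq_or_ne j 0 with rfl | hj
    · rwa [pow_zero, one_mul]
    · rw [Polynomial.cyclotomic_mul_prime_pow_eq (ZMod p) hm (Nat.pos_of_ne_zero hj),
        Polynomial.IsRoot, Polynomial.eval_pow, pow_eq_zero_iff, ← Polynomial.IsRoot.def]
      · exact h2
      · have := Nat.pow_lt_pow_right hp.one_lt (show j - 1 < j by omega)
        omega
  rw [hroot]
  constructor
  · rintro h
    exact ⟨j, by rw [h, mul_comm]⟩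
  · rintro ⟨i, hi⟩
    have h1 := congrArg (fun t => t / p ^ t.factorization p) hi
    have hmd : ∀ k a : ℕ, ¬ p ∣ a → a ≠ 0 → (a * p ^ k) / p ^ (a * p ^ k).factorization p = a := by
      intro k a ha ha0
      rw [Nat.factorization_mul ha0 (pow_ne_zero _ hp.ne_zero), Finsupp.add_apply,
        Nat.factorization_eq_zero_of_not_dvd ha, hp.factorization_pow, Finsupp.single_eq_same,
        zero_add, Nat.mul_div_cancel _ (pow_pos hp.pos _)]
    have hm0 : m ≠ 0 := fun h => hm (h ▸ dvd_zero p)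
    rw [mul_comm (p ^ j) m, hmd j m hm hm0, hmd i d hnd hd0] at h1
    exact h1.symm

end Cfsg.Agent.S4230
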