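import Cfsg.Statements.S4234
import Cfsg.Agent.GroupStructure3.PSLThirteen

set_option autoImplicit false
open Cfsg Cfsg.Agent Cfsg.Agent.GroupStructure3

namespace Cfsg.Agent.S4234

theorem normalizer_prod {K S : Type*} [Group K] [CommGroup S] [Finite K] [Finite S]
    (hKS : (Nat.card K).Coprime (Nat.card S)) (H : Subgroup (K × S)) :
    Subgroup.normalizer (H : Set (K × S)) =
      (Subgroup.normalizer ((H.map (MonoidHom.fst K S) : Subgroup K) : Set K)).comap
        (MonoidHom.fst K S) := by
  have hsplit : ∀ k s, (k, s) ∈ H → (k, (1 : S)) ∈ H ∧ ((1 : K), s) ∈ H := by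
    intro k s h
    constructor
    · obtain ⟨i, hi⟩ := exists_pow_eq_self_of_coprime
        (hKS.symm.coprime_dvd_right (orderOf_dvd_natCard k))
      have h1 := H.pow_mem (H.pow_mem h (Nat.card S)) i
      rwa [Prod.pow_mk, Prod.pow_mk, hi, pow_card_eq_one', one_pow] at h1
    · obtain ⟨i, hi⟩ := exists_pow_eq_self_of_coprime
        (hKS.coprime_dvd_right (orderOf_dvd_natCard s))
      have h1 := H.pow_mem (H.pow_mem h (Nat.card K)) i
      rwa [Prod.pow_mk, Prod.pow_mk, hi, pow_card_eq_one', one_pow] at h1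
  have key : ∀ k s, (k, s) ∈ H ↔ k ∈ H.map (MonoidHom.fst K S) ∧ ((1 : K), s) ∈ H := by
    intro k s
    constructor
    · exact fun h => ⟨⟨(k, s), h, rfl⟩, (hsplit k s h).2⟩
    · rintro ⟨⟨⟨k', s'⟩, h, rfl⟩, hs⟩
      simpa using H.mul_mem (hsplit _ _ h).1 hs
  ext ⟨g, t⟩
  rw [Subgroup.mem_comap, Subgroup.mem_normalizer_iff, Subgroup.mem_normalizer_iff]
  have hconj : ∀ (k : K) (s : S), (g, t) * (k, s) * (g, t)⁻¹ = (g * k * g⁻¹, s) := fun k s => by
    simp [mul_comm t s]
  constructor
  · intro h k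
    have h1 := h (k, 1)
    rw [hconj] at h1
    have h2 := (key k 1).symm.trans (h1.trans (key (g * k * g⁻¹) 1))
    simp only [MonoidHom.coe_fst]
    exact ⟨fun hk => (h2.mp ⟨hk, H.one_mem⟩).1, fun hk => (h2.mpr ⟨hk, H.one_mem⟩).1⟩
  · rintro h ⟨k, s⟩
    rw [hconj]
    exact (key k s).trans ((and_congr_left' (h k)).trans (key (g * k * g⁻¹) s).symm)

theorem coatom_psl {H : Subgroup PSLThirteen.PG} (hH : ¬ H.Normal) :
    IsCoatom (Subgroup.normalizer (H : Set PSLThirteen.PG)) :=
  PSLThirteen.isCoatom_normalizer (fun e => hH (e ▸ inferInstance)) (fun e => hH (e ▸ inferInstance))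

theorem coatom_comap {A B : Type*} [Group A] [Group B] (f : A →* B) (hf : Function.Surjective f)
    {N : Subgroup B} (hN : IsCoatom N) : IsCoatom (N.comap f) := by
  refine ⟨fun e => hN.1 ?_, fun M hM => ?_⟩
  · rw [← Subgroup.map_comap_eq_self_of_surjective hf N, e, Subgroup.map_top_of_surjective f hf]
  · have h1 : f.ker ≤ M := (Subgroup.ker_le_comap f N).trans hM.le
    have h2 : N < M.map f := by
      refine lt_of_le_of_ne ?_ fun e => hM.ne ?_
      · rw [← Subgroup.map_comap_eq_self_of_surjective hf N]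
        exact Subgroup.map_mono hM.le
      · rw [e, Subgroup.comap_map_eq_self h1]
    rw [← Subgroup.comap_map_eq_self h1, hN.2 _ h2, Subgroup.comap_top]

open scoped MatrixGroups in
theorem coatom_sl {H : Subgroup SL(2, ZMod 13)} (hH : ¬ H.Normal) :
    IsCoatom (Subgroup.normalizer (H : Set SL(2, ZMod 13))) := by
  classical
  set π := QuotientGroup.mk' (Subgroup.center SL(2, ZMod 13))
  have hs := QuotientGroup.mk'_surjective (Subgroup.center SL(2, ZMod 13))
  haveI : Finite SL(2, ZMod 13) := inferInstance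
  have hcard : Nat.card (Subgroup.center SL(2, ZMod 13)) = 2 := by
    have h := Subgroup.card_eq_card_quotient_mul_card_subgroup (Subgroup.center SL(2, ZMod 13))
    rw [Classical.GL2.natCard_SL_two, ZMod.card,
      show Nat.card (SL(2, ZMod 13) ⧸ Subgroup.center SL(2, ZMod 13)) = 1092 from PSLThirteen.card_pg] at h
    omega
  have hN : Subgroup.normalizer (H : Set SL(2, ZMod 13)) =
      Subgroup.normalizer (((H.map π).comap π : Subgroup _) : Set SL(2, ZMod 13)) := by
    rw [Subgroup.comap_map_eq, QuotientGroup.ker_mk']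
    by_cases hle : Subgroup.center SL(2, ZMod 13) ≤ H
    · rw [sup_of_le_left hle]
    have hodd : ¬ 2 ∣ Nat.card H := by
      intro h2
      haveI : Fact (Nat.Prime 2) := ⟨Nat.prime_two⟩
      obtain ⟨x, hx⟩ := exists_prime_orderOf_dvd_card' (G := H) 2 h2
      obtain ⟨z, hz⟩ := exists_prime_orderOf_dvd_card' (G := Subgroup.center SL(2, ZMod 13)) 2
        hcard.symm.dvd
      rw [← Subgroup.orderOf_coe] at hx hz
      have h2' : (2 : ZMod 13) ≠ 0 := by decide
      have hm1 : ∀ w : SL(2, ZMod 13), orderOf w = 2 →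
          (w : Matrix (Fin 2) (Fin 2) (ZMod 13)) = -1 := fun w hw =>
        Classical.SylowSL2.eq_neg_one_of_sq h2' w
          (fun e => by rw [e, orderOf_one] at hw; exact absurd hw (by decide))
          (by rw [← pow_two]; exact orderOf_dvd_iff_pow_eq_one.mp hw.dvd)
      have hxz : (x : SL(2, ZMod 13)) = (z : SL(2, ZMod 13)) :=
        Subtype.ext ((hm1 _ hx).trans (hm1 _ hz).symm)
      have hzz : Subgroup.zpowers (z : SL(2, ZMod 13)) = Subgroup.center SL(2, ZMod 13) :=
        Subgroup.eq_of_le_of_card_ge (Subgroup.zpowers_le.mpr z.2) (le_of_eq (by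
          rw [Nat.card_zpowers]; exact hcard.trans hz.symm))
      exact hle (hzz ▸ Subgroup.zpowers_le.mpr (hxz ▸ x.2))
    refine le_antisymm (fun g hg => ?_) (fun g hg => ?_)
    · have h1 := Subgroup.mem_normalizer_iff_map_conj_eq.mp hg
      refine Subgroup.mem_normalizer_iff_map_conj_eq.mpr ?_
      rw [Subgroup.map_sup, h1]
      congr 1
      refine Subgroup.eq_of_le_of_card_ge ?_ (le_of_eq
        (Subgroup.card_map_of_injective (MulEquiv.injective _)).symm)
      rintro _ ⟨y, hy, rfl⟩
      exact (inferInstance : (Subgroup.center SL(2, ZMod 13)).Normal).conj_mem y hy g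
    · refine Subgroup.mem_normalizer_iff_map_conj_eq.mpr
        (Subgroup.eq_of_le_of_card_ge ?_ (le_of_eq
          (Subgroup.card_map_of_injective (MulEquiv.injective _)).symm))
      rintro _ ⟨h, hh, rfl⟩
      have hgh : g * h * g⁻¹ ∈ H ⊔ Subgroup.center SL(2, ZMod 13) :=
        (Subgroup.mem_normalizer_iff.mp hg h).mp (Subgroup.mem_sup_left hh)
      show g * h * g⁻¹ ∈ H
      obtain ⟨a, ha, z, hz, haz⟩ := Subgroup.mem_sup_of_normal_right.mp hgh
      have hz2 : z ^ 2 = 1 := orderOf_dvd_iff_pow_eq_one.mp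
        ((Subgroup.orderOf_dvd_natCard _ hz).trans hcard.dvd)
      have hpow : (g * h * g⁻¹) ^ Nat.card H = 1 := by
        rw [conj_pow, orderOf_dvd_iff_pow_eq_one.mp (Subgroup.orderOf_dvd_natCard H hh), mul_one,
          mul_inv_cancel]
      obtain ⟨j, hj⟩ : Odd (Nat.card H) := Nat.odd_iff.mpr (by omega)
      have hcomm : Commute a z := Subgroup.mem_center_iff.mp hz a
      rw [← haz, hcomm.mul_pow, orderOf_dvd_iff_pow_eq_one.mp (Subgroup.orderOf_dvd_natCard H ha),
        one_mul, hj, pow_succ, pow_mul, hz2, one_pow, one_mul] at hpow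
      rw [← haz, hpow, mul_one]
      exact ha
  have hnn : ¬ (H.map π).Normal := by
    intro hn
    refine hH (Subgroup.normalizer_eq_top_iff.mp ?_)
    rw [hN, Subgroup.normalizer_eq_top_iff]
    exact hn.comap π
  rw [hN, ← Subgroup.comap_normalizer_eq_of_surjective _ hs]
  exact coatom_comap π hs (coatom_psl hnn)

theorem coatom_of_equiv {A B : Type*} [Group A] [Group B] (e : A ≃* B)
    (h : ∀ H : Subgroup B, ¬ H.Normal → IsCoatom (Subgroup.normalizer (H : Set B)))
    (H : Subgroup A) (hH : ¬ H.Normal) : IsCoatom (Subgroup.normalizer (H : Set A)) := by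
  have he : (H.map e.toMonoidHom).comap e.toMonoidHom = H :=
    Subgroup.comap_map_eq_self_of_injective e.injective H
  have h1 : ¬ (H.map e.toMonoidHom).Normal := fun hn => hH (he ▸ hn.comap e.toMonoidHom)
  have := coatom_comap e.toMonoidHom e.surjective (h _ h1)
  rwa [Subgroup.comap_normalizer_eq_of_surjective (f := e.toMonoidHom) _ e.surjective, he] at this


/-- Let K be isomorphic to PSL(2, 13) or to SL(2, 13) and let S be a finite abelian group of order coprime to the order of K. Then in the direct product K × S every subgroup that is not normal has a normalizer that is a maximal subgroup. -/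
theorem result {K S : Type*} [Group K] [CommGroup S] [Finite K] [Finite S]
    (hK : Nonempty (K ≃* Matrix.ProjectiveSpecialLinearGroup (Fin 2) (ZMod 13)) ∨
      Nonempty (K ≃* Matrix.SpecialLinearGroup (Fin 2) (ZMod 13)))
    (hKS : (Nat.card K).Coprime (Nat.card S)) (H : Subgroup (K × S)) (hH : ¬ H.Normal) :
    IsCoatom (Subgroup.normalizer (H : Set (K × S))) := by
  rw [normalizer_prod hKS H]
  refine coatom_comap _ Prod.fst_surjective ?_
  have hn : ¬ (H.map (MonoidHom.fst K S)).Normal := by
    intro hn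
    refine hH (Subgroup.normalizer_eq_top_iff.mp ?_)
    rw [normalizer_prod hKS H, Subgroup.normalizer_eq_top_iff.mpr hn, Subgroup.comap_top]
  rcases hK with ⟨⟨e⟩⟩ | ⟨⟨e⟩⟩
  · exact coatom_of_equiv e (fun _ hh => coatom_psl hh) _ hn
  · exact coatom_of_equiv e (fun _ hh => coatom_sl hh) _ hn

end Cfsg.Agent.S4234
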