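import Cfsg.Statements.S4237
import Cfsg.Agent.GroupStructure3.SubgroupCountSq

set_option autoImplicit false
open Cfsg

namespace Cfsg.Agent.S4237

/-- Let G be a finite group, p a prime and a a natural number such that p^(a+1) divides the order of G. Then the number of subgroups of G of order p^a is congruent to 1 or to 1 + p modulo p². -/
theorem result {G : Type*} [Group G] [Finite G] (p a : ℕ) (hp : p.Prime) (hdvd : p ^ (a + 1) ∣ Nat.card G) :
    Nat.card {H : Subgroup G // Nat.card H = p ^ a} ≡ 1 [MOD p ^ 2] ∨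
      Nat.card {H : Subgroup G // Nat.card H = p ^ a} ≡ 1 + p [MOD p ^ 2] := by
  haveI := Fact.mk hp
  obtain ⟨P⟩ := (inferInstance : Nonempty (Sylow p G))
  have h1 := GroupStructure3.SubgroupCountSq.cnt_modEq_sylow hdvd P
  set c := GroupStructure3.Kulakoff.cnt (P : Subgroup G) (p ^ a)
  obtain ⟨v, hv⟩ := P.2.exists_card_eq
  have hav : a + 1 ≤ v :=
    (Nat.pow_dvd_pow_iff_le_right hp.one_lt).mp (hv ▸ P.pow_dvd_card_of_pow_dvd_card hdvd)
  have hpa : p ^ a ∣ Nat.card (P : Subgroup G) := hv ▸ pow_dvd_pow p (by omega)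
  suffices h : c ≡ 1 [MOD p ^ 2] ∨ c ≡ 1 + p [MOD p ^ 2] from h.imp h1.trans h1.trans
  by_cases hcyc : IsCyclic (P : Subgroup G)
  · left
    have : c = 1 := GStructB.SubgroupCount.card_subgroups_cyclic hpa
    rw [this]
  rcases Nat.eq_zero_or_pos a with rfl | ha
  · left
    have : c = 1 := by
      change Nat.card _ = 1
      rw [Nat.card_eq_one_iff_unique, pow_zero]
      exact ⟨⟨fun H K => Subtype.ext ((Subgroup.eq_bot_of_card_eq _ H.2).trans
        (Subgroup.eq_bot_of_card_eq _ K.2).symm)⟩, ⟨⊥, Subgroup.card_bot⟩⟩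
    rw [this]
  by_cases hp2 : p = 2
  · have hc : c ≡ 1 [MOD p] := GStructB.SubgroupCount.card_subgroups_modEq_one hp hpa
    subst hp2
    simp only [Nat.ModEq] at hc ⊢
    omega
  right
  rw [← ZMod.natCast_eq_natCast_iff]
  push_cast
  exact GroupStructure3.Kulakoff.kulakoff hp2 v hv hcyc a ha (by omega)

end Cfsg.Agent.S4237
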