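import Cfsg.Statements.S4238
import Cfsg.Agent.GroupStructure3.SectionCriterion

set_option autoImplicit false
open Cfsg

namespace Cfsg.Agent.S4238

/-- Let G be a finite group and p a prime. Then G has a normal p-complement if and only if every section K = H/N of G (N a normal subgroup of a subgroup H) whose largest normal subgroup of order prime to p is trivial contains an element whose order equals the exponent of K. -/
theorem result {G : Type*} [Group G] [Finite G] (p : ℕ) [Fact p.Prime] :
    Cfsg.HasNormalPComplement p G ↔
      ∀ (H : Subgroup G) (N : Subgroup H) [N.Normal], Cfsg.pPrimeCore p (H ⧸ N) = ⊥ →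
        ∃ k : H ⧸ N, orderOf k = Monoid.exponent (H ⧸ N) := by
  constructor
  · intro h H N _ hK
    have h1 : Cfsg.HasNormalPComplement p (H ⧸ N) :=
      Transfer.NormalPComplement.HasNormalPComplement.quotient
        (Transfer.NormalPComplement.HasNormalPComplement.subgroup h H) N
    have h2 := Transfer.NormalPComplement.hasNormalPComplement_iff_isPGroup_quotient.mp h1
    have h3 : IsPGroup p (H ⧸ N) :=
      (h2.of_equiv (QuotientGroup.quotientMulEquivOfEq hK)).of_equiv QuotientGroup.quotientBot
    obtain ⟨k, hk⟩ := Finite.exists_max fun k : H ⧸ N => orderOf k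
    refine ⟨k, Nat.dvd_antisymm (Monoid.order_dvd_exponent k)
      (Monoid.exponent_dvd_of_forall_pow_eq_one fun y => ?_)⟩
    rw [← orderOf_dvd_iff_pow_eq_one]
    obtain ⟨i, hi⟩ := IsPGroup.iff_orderOf.mp h3 y
    obtain ⟨j, hj⟩ := IsPGroup.iff_orderOf.mp h3 k
    have := hk y
    rw [hi, hj] at this ⊢
    exact pow_dvd_pow _ ((Nat.pow_le_pow_iff_right (Fact.out : p.Prime).one_lt).mp this)
  · intro h
    rw [Transfer.Frobenius.hasNormalPComplement_iff_condition]
    by_contra hc
    obtain ⟨H, N, hN, h1, h2⟩ := GroupStructure3.SectionCriterion.exists_bad_section hc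
    obtain ⟨k, hk⟩ := h H N h1
    exact h2 k hk

end Cfsg.Agent.S4238
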