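import Cfsg.Statements.S4242
import Cfsg.Agent.Lib.Transfer.Frobenius
import Cfsg.Agent.SolvStruct.Schmidt
import Cfsg.Agent.Lib.Cores.Fitting
import Cfsg.Agent.Lib.Coprime.Sylow

set_option autoImplicit false
open Cfsg

namespace Cfsg.Agent.S4242

variable {G : Type*} [Group G] [Finite G]

/-- In a nilpotent subgroup a `p`-element commutes with an element of order prime to `p`. -/
theorem commute_coprime {T : Subgroup G} [Group.IsNilpotent T] {p : ℕ} [Fact p.Prime] {A : Subgroup G}
    (hA : IsPGroup p A) {x y : G} (hxT : x ∈ T) (hyT : y ∈ T) (hx : x ∈ A)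
    (hy : ¬ p ∣ orderOf y) : x * y = y * x := by
  set L := Subgroup.zpowers y with hL
  set C := (Subgroup.centralizer ({x} : Set G)).subgroupOf L with hC
  have htop : C = ⊤ := by
    refine Cfsg.Agent.Cores.eq_top_of_sylow_le fun q hq hqd => ?_
    haveI := Fact.mk hq
    obtain ⟨S⟩ := (inferInstance : Nonempty (Sylow q L))
    refine ⟨S, fun z hz => ?_⟩
    rw [hC, Subgroup.mem_subgroupOf, Subgroup.mem_centralizer_singleton_iff]
    have hpq : p ≠ q := by
      rintro rfl
      rw [hL, Nat.card_zpowers] at hqd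
      exact hy hqd
    have hz' : (z : G) ∈ (S : Subgroup L).map L.subtype := ⟨z, hz, rfl⟩
    exact (Cfsg.Agent.SolvStruct.Schmidt.commute_of_nilpotent hpq hA (S.2.map L.subtype) hxT
      ((Subgroup.zpowers_le.2 hyT : L ≤ T) z.2) hx hz').symm
  have h := htop.ge (Subgroup.mem_top (⟨y, Subgroup.mem_zpowers y⟩ : L))
  rw [hC, Subgroup.mem_subgroupOf, Subgroup.mem_centralizer_singleton_iff] at h
  exact h.symm

theorem nilpotent_of_comm {H : Type*} [Group H] (h : ∀ a b : H, a * b = b * a) :
    Group.IsNilpotent H := by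
  letI : CommGroup H := { (inferInstance : Group H) with mul_comm := h }
  infer_instance

theorem nilpotent_of_le {A B : Subgroup G} (hAB : A ≤ B) (h : Group.IsNilpotent B) :
    Group.IsNilpotent A := by
  haveI := h
  exact nilpotent_of_mulEquiv (Subgroup.subgroupOfEquivOfLe hAB)


/-- Let G be a finite group and p a prime dividing its order. Every maximal subgroup of G of order divisible by p is nilpotent if and only if G is nilpotent, or G is a minimal non-nilpotent group, or G is the internal direct product of a normal subgroup of order p and a normal minimal non-nilpotent subgroup of order prime to p. -/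
theorem result {G : Type*} [Group G] [Finite G] (p : ℕ) (hp : p.Prime) (hpG : p ∣ Nat.card G) :
    (∀ M : Subgroup G, IsCoatom M → p ∣ Nat.card M → Group.IsNilpotent M) ↔
      (Group.IsNilpotent G ∨ Cfsg.IsMinimalNonNilpotent G ∨
        ∃ Z K : Subgroup G, Z.Normal ∧ K.Normal ∧ Z ⊓ K = ⊥ ∧ Z ⊔ K = ⊤ ∧ Nat.card Z = p ∧
          Cfsg.IsMinimalNonNilpotent K ∧ ¬ p ∣ Nat.card K) := by
  classical
  haveI := Fact.mk hp
  constructor
  · intro hmax
    by_contra hcon
    push Not at hcon
    obtain ⟨hnn, hnmnn, hnprod⟩ := hcon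
    have hlocal : ∀ L : Subgroup G, L ≠ ⊤ → p ∣ Nat.card L → Group.IsNilpotent L := by
      intro L hL hd
      obtain ⟨M, hM, hLM⟩ := (eq_top_or_exists_le_coatom L).resolve_left hL
      exact nilpotent_of_le hLM (hmax M hM (hd.trans (Subgroup.card_dvd_of_le hLM)))
    obtain ⟨M0, hM0, hM0p, hM0n⟩ : ∃ M0 : Subgroup G, IsCoatom M0 ∧ ¬ p ∣ Nat.card M0 ∧ ¬ Group.IsNilpotent M0 := by
      by_contra hc
      push Not at hc
      refine hnmnn ⟨hnn, fun H hH => ?_⟩
      obtain ⟨M, hM, hHM⟩ := (eq_top_or_exists_le_coatom H).resolve_left hH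
      by_cases hd : p ∣ Nat.card M
      · exact nilpotent_of_le hHM (hmax M hM hd)
      · exact nilpotent_of_le hHM (hc M hM hd)
    have hcyc : ∀ y ∈ M0, Subgroup.zpowers y < M0 := fun y hy =>
      lt_of_le_of_ne ((Subgroup.zpowers_le).2 hy) fun e => hM0n (e ▸ nilpotent_of_comm fun a b => by
        obtain ⟨n, hn⟩ := Subgroup.mem_zpowers_iff.1 a.2
        obtain ⟨m, hm⟩ := Subgroup.mem_zpowers_iff.1 b.2
        exact Subtype.ext (by rw [Subgroup.coe_mul, Subgroup.coe_mul, ← hn, ← hm, ← zpow_add, ← zpow_add, add_comm]))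
    by_cases hnorm : ∃ Q : Subgroup G, IsPGroup p Q ∧ Q ≠ ⊥ ∧ Q.Normal
    · -- a normal `p`-subgroup
      obtain ⟨R, hR, hR0, hRn⟩ := hnorm
      haveI := hRn
      obtain ⟨r, hr⟩ := hR.exists_card_eq
      have hRM : ¬ R ≤ M0 := fun hle => by
        rcases Nat.eq_zero_or_pos r with rfl | hr0
        · rw [pow_zero, Subgroup.card_eq_one] at hr; exact hR0 hr
        · exact hM0p ((hr ▸ dvd_pow_self p hr0.ne').trans (Subgroup.card_dvd_of_le hle))
      have hsup : R ⊔ M0 = ⊤ := hM0.2 _ (lt_of_le_of_ne le_sup_right fun e => hRM (e ▸ le_sup_left))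
      have hdisj : R ⊓ M0 = ⊥ := by
        refine Subgroup.inf_eq_bot_of_coprime ?_
        rw [hr]
        exact Nat.Coprime.pow_left _ (hp.coprime_iff_not_dvd.2 hM0p)
      have hRcard : p ∣ Nat.card R := by
        rcases Nat.eq_zero_or_pos r with rfl | hr0
        · rw [pow_zero, Subgroup.card_eq_one] at hr; exact absurd hr hR0
        · rw [hr]; exact dvd_pow_self p hr0.ne'
      have hsub : ∀ L : Subgroup G, L < M0 → Group.IsNilpotent ↥(R ⊔ L) := by
        intro L hL
        refine hlocal _ (fun e => ?_) (hRcard.trans (Subgroup.card_dvd_of_le le_sup_left))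
        refine hL.2 fun m hm => ?_
        have hm' : m ∈ R ⊔ L := e ▸ Subgroup.mem_top m
        obtain ⟨a, ha, l, hl, rfl⟩ := Subgroup.mem_sup_of_normal_left.1 hm'
        have ha1 : a ∈ R ⊓ M0 := ⟨ha, by simpa using mul_mem hm (inv_mem (hL.1 hl))⟩
        rw [hdisj, Subgroup.mem_bot] at ha1
        rw [ha1, one_mul]
        exact hl
      have hcen : ∀ x ∈ R, ∀ y ∈ M0, x * y = y * x := by
        intro x hx y hy
        haveI := hsub _ (hcyc y hy)
        exact commute_coprime hR (Subgroup.mem_sup_left hx)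
          (Subgroup.mem_sup_right (Subgroup.mem_zpowers y) : y ∈ R ⊔ Subgroup.zpowers y) hx
          fun hd => hM0p (hd.trans (Subgroup.orderOf_dvd_natCard M0 hy))
      have hM0normal : M0.Normal := ⟨fun m hm g => by
        have hg : g ∈ R ⊔ M0 := hsup ▸ Subgroup.mem_top g
        obtain ⟨a, ha, b, hb, rfl⟩ := Subgroup.mem_sup_of_normal_left.1 hg
        have hbm := mul_mem (mul_mem hb hm) (inv_mem hb)
        have : a * b * m * (a * b)⁻¹ = b * m * b⁻¹ := by
          calc a * b * m * (a * b)⁻¹ = a * (b * m * b⁻¹) * a⁻¹ := by group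
            _ = _ := by rw [hcen a ha _ hbm, mul_inv_cancel_right]
        rw [this]; exact hbm⟩
      obtain ⟨⟨z, hz⟩, hzo⟩ := exists_prime_orderOf_dvd_card' (G := R) p hRcard
      rw [Subgroup.orderOf_mk] at hzo
      have hZM : Subgroup.zpowers z ⊔ M0 = ⊤ := by
        refine hM0.2 _ (lt_of_le_of_ne le_sup_right fun e => ?_)
        have hzM : z ∈ M0 := by rw [e]; exact Subgroup.mem_sup_left (Subgroup.mem_zpowers z)
        exact hM0p (hzo ▸ Subgroup.orderOf_dvd_natCard M0 hzM)
      have hRz : R = Subgroup.zpowers z := by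
        refine le_antisymm (fun x hx => ?_) ((Subgroup.zpowers_le).2 hz)
        have hx' : x ∈ Subgroup.zpowers z ⊔ M0 := hZM ▸ Subgroup.mem_top x
        haveI := hM0normal
        obtain ⟨w, hw, m, hm, rfl⟩ := Subgroup.mem_sup_of_normal_right.1 hx'
        have hm1 : m ∈ R ⊓ M0 := ⟨by simpa using mul_mem (inv_mem ((Subgroup.zpowers_le.2 hz) hw)) hx, hm⟩
        rw [hdisj, Subgroup.mem_bot] at hm1
        rw [hm1, mul_one]
        exact hw
      refine hnprod R M0 hRn hM0normal hdisj hsup (by rw [hRz, Nat.card_zpowers, hzo]) ?_ |>.elim ?_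
      · refine ⟨hM0n, fun H hH => ?_⟩
        have hlt : H.map M0.subtype < M0 := lt_of_le_of_ne (Subgroup.map_subtype_le H) fun e => hH (by
          refine Subgroup.map_injective M0.subtype_injective ?_
          rw [e, ← MonoidHom.range_eq_map, Subgroup.range_subtype])
        haveI := nilpotent_of_le (le_sup_right (a := R)) (hsub _ hlt)
        exact nilpotent_of_mulEquiv (Subgroup.equivMapOfInjective H M0.subtype M0.subtype_injective).symm
      · exact fun a ha => hM0p ⟨a, ha⟩
    · -- all local subgroups are nilpotent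
      push Not at hnorm
      obtain ⟨P, K, hKn, hKP⟩ := Transfer.Frobenius.hasNormalPComplement_of_condition (G := G) (p := p) (by
        intro Q hQ g hg ho
        rw [Subgroup.mem_centralizer_iff]
        intro x hx
        by_cases hQ0 : Q = ⊥
        · rw [SetLike.mem_coe, hQ0, Subgroup.mem_bot] at hx
          rw [hx, one_mul, mul_one]
        have hN : Subgroup.normalizer (Q : Set G) ≠ ⊤ := fun e =>
          hnorm Q hQ hQ0 (Subgroup.normalizer_eq_top_iff.1 e)
        obtain ⟨k, hk⟩ := hQ.exists_card_eq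
        have hk0 : k ≠ 0 := fun e => hQ0 (by rw [← Subgroup.card_eq_one, hk, e, pow_zero])
        haveI := hlocal _ hN ((hk ▸ dvd_pow_self p hk0).trans (Subgroup.card_dvd_of_le Subgroup.le_normalizer))
        exact commute_coprime hQ (Subgroup.le_normalizer hx) hg hx
          ((hp.coprime_iff_not_dvd).1 ho.symm))
      haveI := hKn
      have hpK : ¬ p ∣ Nat.card K := by
        rw [← hKP.index_eq_card]
        exact P.not_dvd_index
      have hP0 : (P : Subgroup G) ≠ ⊥ := fun e =>
        P.not_dvd_index (by rw [e, Subgroup.index_bot]; exact hpG)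
      have hM0K : M0 ≤ K := by
        intro m hm
        obtain ⟨k, hk, u, hu, rfl⟩ := Subgroup.mem_sup_of_normal_left.1
          (hKP.sup_eq_top ▸ Subgroup.mem_top m : m ∈ K ⊔ (P : Subgroup G))
        obtain ⟨e, he⟩ := IsPGroup.iff_orderOf.1 P.2 ⟨u, hu⟩
        rw [Subgroup.orderOf_mk] at he
        -- the image of `m` modulo `K` is a `p`-element of order dividing `|M0|`
        have h1 : (QuotientGroup.mk' K) (k * u) = QuotientGroup.mk' K u := by
          rw [map_mul, show QuotientGroup.mk' K k = 1 from (QuotientGroup.eq_one_iff k).2 hk, one_mul]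
        have h2 : orderOf (QuotientGroup.mk' K u) ∣ p ^ e := he ▸ orderOf_map_dvd _ u
        have h3 : orderOf (QuotientGroup.mk' K u) ∣ Nat.card M0 :=
          (h1 ▸ orderOf_map_dvd (QuotientGroup.mk' K) (k * u)).trans (Subgroup.orderOf_dvd_natCard M0 hm)
        have h4 := Nat.eq_one_of_dvd_coprimes ((hp.coprime_iff_not_dvd.2 hM0p).pow_left e) h2 h3
        rw [orderOf_eq_one_iff, QuotientGroup.mk'_apply, QuotientGroup.eq_one_iff] at h4
        exact mul_mem hk h4
      have hKM : M0 = K := by
        by_contra hne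
        have hK := hM0.2 K (lt_of_le_of_ne hM0K hne)
        rw [hK, Subgroup.card_top] at hpK
        exact hpK hpG
      have hcop : (Nat.card (P : Subgroup G)).Coprime (Nat.card K) := by
        rw [← hKP.index_eq_card]
        exact P.card_coprime_index
      haveI : Group.IsNilpotent (P : Subgroup G) := P.2.isNilpotent
      let C : Subgroup G := K ⊓ Subgroup.centralizer ((P : Subgroup G) : Set G)
      have hCK : C.subgroupOf K = ⊤ := by
        refine Cfsg.Agent.Cores.eq_top_of_sylow_le fun q hq hqd => ?_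
        haveI := Fact.mk hq
        obtain ⟨S, hS⟩ := Cfsg.Agent.Coprime.exists_invariant_sylow q
          (Subgroup.le_normalizer_of_normal : (P : Subgroup G) ≤ Subgroup.normalizer (K : Set G)) hcop
          (Or.inl inferInstance)
        refine ⟨S, fun s hs => ?_⟩
        set S' := (S : Subgroup K).map K.subtype with hS'
        have hS'p : IsPGroup q S' := S.2.map _
        have hT : S' ⊔ (P : Subgroup G) ≠ ⊤ := by
          intro e
          have hSK : S' = K := by
            refine le_antisymm (Subgroup.map_subtype_le _) fun k hk => ?_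
            obtain ⟨a, ha, u, hu, rfl⟩ := (Cfsg.Agent.Coprime.mem_sup_of_le_normalizer hS).mp
              (e ▸ Subgroup.mem_top k : k ∈ S' ⊔ (P : Subgroup G))
            have hu' : u ∈ K := by
              simpa using mul_mem (inv_mem (Subgroup.map_subtype_le _ ha)) hk
            rw [Subgroup.disjoint_def.1 hKP.disjoint hu' hu, mul_one]
            exact ha
          exact hM0n (by rw [hKM, ← hSK]; exact hS'p.isNilpotent)
        haveI := hlocal _ hT ((P.dvd_card_of_dvd_card hpG).trans (Subgroup.card_dvd_of_le le_sup_right))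
        refine Subgroup.mem_inf.2 ⟨s.2, Subgroup.mem_centralizer_iff.2 fun u hu => ?_⟩
        have hs' : (s : G) ∈ S' := ⟨s, hs, rfl⟩
        exact commute_coprime P.2 (Subgroup.mem_sup_right hu) (Subgroup.mem_sup_left hs') hu
          fun hd => hpK (hd.trans (Subgroup.orderOf_dvd_natCard K s.2))
      refine hnorm (P : Subgroup G) P.2 hP0 ⟨fun x hx g => ?_⟩
      obtain ⟨k, hk, u, hu, rfl⟩ := Subgroup.mem_sup_of_normal_left.1
        (hKP.sup_eq_top ▸ Subgroup.mem_top g : g ∈ K ⊔ (P : Subgroup G))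
      have hkC := Subgroup.mem_subgroupOf.1 (hCK.ge (Subgroup.mem_top (⟨k, hk⟩ : K)))
      have hy := mul_mem (mul_mem hu hx) (inv_mem hu)
      have := Subgroup.mem_centralizer_iff.1 hkC.2 _ hy
      rw [show k * u * x * (k * u)⁻¹ = k * (u * x * u⁻¹) * k⁻¹ by group, ← this, mul_inv_cancel_right]
      exact hy
  · rintro (hn | hmnn | ⟨Z, K, hZn, hKn, hZK, hsup, hZ, hK, hpK⟩) M hM hpM
    · haveI := hn; infer_instance
    · exact hmnn.2 M hM.1
    haveI := hZn; haveI := hKn
    obtain ⟨⟨z, hz⟩, hzo⟩ := exists_prime_orderOf_dvd_card' (G := M) p hpM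
    rw [Subgroup.orderOf_mk] at hzo
    have hzZ : z ∈ Z := by
      obtain ⟨a, ha, b, hb, rfl⟩ := Subgroup.mem_sup_of_normal_left.1 (hsup ▸ Subgroup.mem_top z : z ∈ Z ⊔ K)
      have hab : Commute a b := Subgroup.commute_of_normal_of_disjoint Z K hZn hKn (disjoint_iff.2 hZK) a b ha hb
      have h1 : b ^ p = 1 := by
        have h2 : a ^ p * b ^ p = 1 := by rw [← hab.mul_pow, ← hzo, pow_orderOf_eq_one]
        rwa [show a ^ p = 1 from orderOf_dvd_iff_pow_eq_one.1 (hZ ▸ Subgroup.orderOf_dvd_natCard Z ha), one_mul] at h2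
      have h3 := Nat.eq_one_of_dvd_coprimes (hp.coprime_iff_not_dvd.2 hpK)
        (orderOf_dvd_of_pow_eq_one h1) (Subgroup.orderOf_dvd_natCard K hb)
      rw [orderOf_eq_one_iff.1 h3, mul_one]
      exact ha
    have hZM : Z ≤ M := by
      have : Subgroup.zpowers z = Z := Subgroup.eq_of_le_of_card_ge (Subgroup.zpowers_le.2 hzZ)
        (by rw [hZ, Nat.card_zpowers, hzo])
      rw [← this]; exact Subgroup.zpowers_le.2 hz
    have hMK : M.subgroupOf K ≠ ⊤ := fun e => hM.1 (top_le_iff.1 (hsup ▸ sup_le hZM (Subgroup.subgroupOf_eq_top.1 e)))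
    haveI := hK.2 _ hMK
    haveI hZc : IsMulCommutative Z := by
      haveI := Fact.mk hp
      haveI : IsCyclic Z := isCyclic_of_prime_card hZ
      exact ⟨⟨fun a b => by
        obtain ⟨g, hg⟩ := IsCyclic.exists_generator (α := Z)
        obtain ⟨n, rfl⟩ := Subgroup.mem_zpowers_iff.1 (hg a)
        obtain ⟨m, rfl⟩ := Subgroup.mem_zpowers_iff.1 (hg b)
        exact (Commute.zpow_zpow (Commute.refl g) n m).eq⟩⟩
    have hcomm : ∀ a ∈ Z, ∀ b ∈ K, Commute a b := fun a ha b hb =>
      Subgroup.commute_of_normal_of_disjoint Z K hZn hKn (disjoint_iff.2 hZK) a b ha hb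
    let f : Z × (M.subgroupOf K) →* M :=
      { toFun := fun x => ⟨(x.1 : G) * (x.2.1 : G), mul_mem (hZM x.1.2) x.2.2⟩
        map_one' := Subtype.ext (one_mul _)
        map_mul' := fun x y => Subtype.ext (by
          show ((x.1 : G) * y.1) * ((x.2.1 : G) * y.2.1) = (x.1 : G) * x.2.1 * ((y.1 : G) * y.2.1)
          exact ((hcomm _ y.1.2 _ x.2.1.2).mul_mul_mul_comm _ _)) }
    haveI : Group.IsNilpotent Z := nilpotent_of_comm hZc.is_comm.comm
    refine nilpotent_of_surjective f fun m => ?_
    obtain ⟨a, ha, b, hb, hab⟩ := Subgroup.mem_sup_of_normal_left.1 (hsup ▸ Subgroup.mem_top (m : G) : (m : G) ∈ Z ⊔ K)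
    have hbM : b ∈ M := by
      have := mul_mem (inv_mem (hZM ha)) m.2
      rwa [← hab, inv_mul_cancel_left] at this
    exact ⟨(⟨a, ha⟩, ⟨⟨b, hb⟩, hbM⟩), Subtype.ext hab⟩

end Cfsg.Agent.S4242
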