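import Cfsg.Statements.S4245
import Cfsg.Agent.Lib.Characters.Burnside
import Cfsg.Agent.Lib.Transfer.SmallSylow

set_option autoImplicit false
open Cfsg

namespace Cfsg.Agent.S4245


/-- `X` is an extension of a cyclic group by a cyclic `2`-group. -/
def Good (X : Type*) [Group X] : Prop :=
  ∃ (B : Subgroup X) (_ : B.Normal), IsCyclic B ∧ IsCyclic (X ⧸ B) ∧ ∃ r : ℕ, Nat.card (X ⧸ B) = 2 ^ r

theorem good_of_surjective {X Y : Type*} [Group X] [Group Y] [Finite X] (f : X →* Y)
    (hf : Function.Surjective f) (h : Good X) : Good Y := by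
  obtain ⟨B, hBn, hB, hXB, r, hr⟩ := h
  haveI := hB
  haveI := hXB
  haveI hn : (B.map f).Normal := hBn.map f hf
  have hB' : IsCyclic ↥(B.map f) :=
    isCyclic_of_surjective (f.subgroupMap B) (f.subgroupMap_surjective B)
  let g : X ⧸ B →* Y ⧸ B.map f := QuotientGroup.map B (B.map f) f (Subgroup.le_comap_map f B)
  have hg : Function.Surjective g := by
    refine fun y => QuotientGroup.induction_on y fun x => ?_
    obtain ⟨x', rfl⟩ := hf x
    exact ⟨(x' : X ⧸ B), rfl⟩
  refine ⟨B.map f, hn, hB', isCyclic_of_surjective g hg, ?_⟩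
  have hd : Nat.card (Y ⧸ B.map f) ∣ 2 ^ r := hr ▸ Subgroup.card_dvd_of_surjective g hg
  obtain ⟨k, -, hk⟩ := (Nat.dvd_prime_pow Nat.prime_two).1 hd
  exact ⟨k, hk⟩

theorem good_of_injective {X Y : Type*} [Group X] [Group Y] [Finite X] (f : Y →* X)
    (hf : Function.Injective f) (h : Good X) : Good Y := by
  obtain ⟨B, hBn, hB, hXB, r, hr⟩ := h
  haveI := hB
  haveI := hXB
  haveI hn : (B.comap f).Normal := hBn.comap f
  have hB' : IsCyclic ↥(B.comap f) :=
    isCyclic_of_injective (f.subgroupComap B) fun a b h => Subtype.ext (hf (congrArg Subtype.val h))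
  let g : Y ⧸ B.comap f →* X ⧸ B := QuotientGroup.map (B.comap f) B f le_rfl
  have hg : Function.Injective g := by
    refine (injective_iff_map_eq_one g).2 fun y => QuotientGroup.induction_on y fun x hx => ?_
    exact (QuotientGroup.eq_one_iff x).2 ((QuotientGroup.eq_one_iff (f x)).1 hx)
  refine ⟨B.comap f, hn, hB', isCyclic_of_injective g hg, ?_⟩
  have hd : Nat.card (Y ⧸ B.comap f) ∣ 2 ^ r := hr ▸ Subgroup.card_dvd_of_injective g hg
  obtain ⟨k, -, hk⟩ := (Nat.dvd_prime_pow Nat.prime_two).1 hd
  exact ⟨k, hk⟩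

theorem isSolvable_of_good {X : Type*} [Group X] (h : Good X) : Group.IsSolvable X := by
  obtain ⟨B, hBn, hB, hXB, r, hr⟩ := h
  haveI : Group.IsSolvable B :=
    letI : CommGroup B := IsCyclic.commGroup
    Group.isSolvable_of_comm fun a b => mul_comm a b
  haveI : Group.IsSolvable (X ⧸ B) :=
    letI : CommGroup (X ⧸ B) := IsCyclic.commGroup
    Group.isSolvable_of_comm fun a b => mul_comm a b
  exact Group.isSolvable_of_ker_le_range B.subtype (QuotientGroup.mk' B)
    (by rw [QuotientGroup.ker_mk', Subgroup.range_subtype])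

theorem relIndex_dvd_of_normal {G : Type*} [Group G] [Finite G] (A N : Subgroup G) [N.Normal] :
    A.relIndex N ∣ A.index := by
  have h1 := Subgroup.relIndex_mul_relIndex (A ⊓ N) A (A ⊔ N) inf_le_left le_sup_left
  have h2 := Subgroup.relIndex_mul_relIndex (A ⊓ N) N (A ⊔ N) inf_le_right le_sup_right
  rw [Subgroup.inf_relIndex_left] at h1
  rw [Subgroup.inf_relIndex_right, Subgroup.relIndex_sup_right, ← h1, mul_comm (A.relIndex N)] at h2
  rw [mul_left_cancel₀ (Nat.pos_of_dvd_of_pos (Subgroup.relIndex_dvd_card N A) Nat.card_pos).ne' h2]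
  exact Subgroup.relIndex_dvd_index_of_le le_sup_left

/-- The simple case. -/
theorem isSolvable_simple {G : Type*} [Group G] [Finite G] [IsSimpleGroup G] (A : Subgroup G)
    {p s : ℕ} (hp : p.Prime) (hA : A.index = p ^ s) (hgood : Good A) : Group.IsSolvable G := by
  by_contra hns
  have hnc : ¬ ∀ a b : G, a * b = b * a := fun h => hns (Group.isSolvable_of_comm h)
  have key : ∀ {ℓ m : ℕ}, ℓ.Prime → ∀ x : G, x ≠ 1 →
      (Subgroup.centralizer ({x} : Set G)).index ∣ ℓ ^ m → False := by
    intro ℓ m hℓ x hx hd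
    obtain ⟨k, -, hk⟩ := (Nat.dvd_prime_pow hℓ).1 hd
    have hprime := Cfsg.Agent.Characters.simple_prime_power_class hℓ hx hk
    haveI : Fact (Nat.card G).Prime := ⟨hprime⟩
    haveI : IsCyclic G := isCyclic_of_prime_card rfl
    letI : CommGroup G := IsCyclic.commGroup
    exact hnc fun a b => mul_comm a b
  obtain ⟨B, hBn, hB, hXB, r, hr⟩ := hgood
  have hcardA : Nat.card A = 2 ^ r * Nat.card B := by
    rw [Subgroup.card_eq_card_quotient_mul_card_subgroup B, hr]
  -- central elements of `A`
  have hcent : ∀ z : A, z ≠ 1 → (∀ a : A, a * z = z * a) → False := by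
    intro z hz h
    refine key hp (z : G) (fun e => hz (Subtype.ext e)) (m := s) (hA ▸ Subgroup.index_dvd_of_le ?_)
    intro a ha
    rw [Subgroup.mem_centralizer_singleton_iff]
    exact congrArg Subtype.val (h ⟨a, ha⟩)
  by_cases hB1 : Nat.card B = 1
  · rcases eq_or_ne r 0 with rfl | hr0
    · rw [pow_zero, one_mul, hB1] at hcardA
      refine hns ?_
      have hcG : Nat.card G = p ^ s := by rw [← A.card_mul_index, hcardA, one_mul, hA]
      exact Cfsg.Agent.Characters.burnside_pa_qb hp hp (a := s) (b := 0) (by rw [hcG, pow_zero, mul_one])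
    · obtain ⟨z, hz⟩ := IsCyclic.exists_generator (α := A ⧸ B)
      obtain ⟨x, rfl⟩ := QuotientGroup.mk_surjective z
      have hinj : Function.Injective (QuotientGroup.mk' B) := by
        rw [← MonoidHom.ker_eq_bot_iff, QuotientGroup.ker_mk']
        exact Subgroup.card_eq_one.1 hB1
      refine hcent x ?_ fun a => hinj ?_
      · rintro rfl
        have : Nat.card (A ⧸ B) = 1 := Nat.card_eq_one_iff_unique.2
          ⟨⟨fun u v => by
            obtain ⟨i, hi⟩ := hz u
            obtain ⟨j, hj⟩ := hz v
            rw [← hi, ← hj]; simp⟩, ⟨1⟩⟩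
        rw [hr] at this
        exact hr0 ((Nat.pow_eq_one.1 this).resolve_left (by norm_num))
      · letI : CommGroup (A ⧸ B) := IsCyclic.commGroup
        rw [map_mul, map_mul, mul_comm]
  haveI := hB
  by_cases hB2 : 2 ∣ Nat.card B
  · -- the involution of `B` is central
    haveI : Fact (Nat.Prime 2) := ⟨Nat.prime_two⟩
    obtain ⟨z, hz⟩ := exists_prime_orderOf_dvd_card' (G := B) 2 hB2
    refine hcent (z : A) (fun e => ?_) fun a => ?_
    · have : z = 1 := Subtype.ext e
      rw [this, orderOf_one] at hz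
      norm_num at hz
    let w : B := ⟨a * z * a⁻¹, hBn.conj_mem _ z.2 a⟩
    have hw : orderOf w = 2 := by
      rw [← Subgroup.orderOf_coe w, show ((w : A)) = MulAut.conj a (z : A) from rfl, MulEquiv.orderOf_eq,
        Subgroup.orderOf_coe, hz]
    classical
    haveI : Fintype B := Fintype.ofFinite B
    have hone : (Finset.univ.filter fun u : B => orderOf u = 2).card = 1 := by
      rw [IsCyclic.card_orderOf_eq_totient (by rw [← Nat.card_eq_fintype_card]; exact hB2)]
      rfl
    have h2 : w = z := Finset.card_le_one.1 hone.le w (Finset.mem_filter.2 ⟨Finset.mem_univ _, hw⟩) z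
      (Finset.mem_filter.2 ⟨Finset.mem_univ _, hz⟩)
    have h3 : a * (z : A) * a⁻¹ = z := congrArg Subtype.val h2
    exact mul_inv_eq_iff_eq_mul.1 h3
  rcases eq_or_ne r 0 with rfl | hr0
  · obtain ⟨z, hz1⟩ : ∃ z : B, z ≠ 1 := by
      by_contra! h
      exact hB1 (Nat.card_eq_one_iff_unique.2 ⟨⟨fun u v => (h u).trans (h v).symm⟩, ⟨1⟩⟩)
    have htop : B = ⊤ := Subgroup.index_eq_one.1 (by rw [Subgroup.index_eq_card, hr, pow_zero])
    refine hcent z (fun e => hz1 (Subtype.ext e)) fun a => ?_
    letI : CommGroup B := IsCyclic.commGroup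
    exact congrArg Subtype.val (mul_comm (⟨a, htop ▸ Subgroup.mem_top a⟩ : B) z)
  by_cases hp2 : p = 2
  · -- everything outside `B` is a power of two
    subst hp2
    obtain ⟨b, hb⟩ : ∃ b : B, b ≠ 1 := by
      by_contra! h
      exact hB1 (Nat.card_eq_one_iff_unique.2 ⟨⟨fun u v => (h u).trans (h v).symm⟩, ⟨1⟩⟩)
    refine key Nat.prime_two ((b : A) : G) (fun e => hb (Subtype.ext (Subtype.ext e))) (m := r + s) ?_
    have hle : B.map A.subtype ≤ Subgroup.centralizer ({((b : A) : G)} : Set G) := by
      rintro _ ⟨y, hy, rfl⟩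
      rw [Subgroup.mem_centralizer_singleton_iff]
      letI : CommGroup B := IsCyclic.commGroup
      exact congrArg (fun u : B => ((u : A) : G)) (mul_comm (⟨y, hy⟩ : B) b)
    refine (Subgroup.index_dvd_of_le hle).trans (dvd_of_eq ?_)
    rw [Subgroup.index_map_subtype, hA, Subgroup.index_eq_card, hr, pow_add]
  · -- the Sylow `2`-subgroup is cyclic
    haveI : Fact (Nat.Prime 2) := ⟨Nat.prime_two⟩
    haveI := hXB
    have hcard2 : ∀ P : Sylow 2 A, Nat.card (P : Subgroup A) = 2 ^ r := by
      intro P
      rw [P.card_eq_multiplicity, hcardA, Nat.factorization_mul (pow_ne_zero _ two_ne_zero) Nat.card_pos.ne',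
        Finsupp.add_apply, Nat.Prime.factorization_pow Nat.prime_two, Finsupp.single_eq_same,
        Nat.factorization_eq_zero_of_not_dvd hB2, add_zero]
    obtain ⟨P⟩ := (inferInstance : Nonempty (Sylow 2 A))
    have hPc : IsCyclic (P : Subgroup A) := by
      refine isCyclic_of_injective ((QuotientGroup.mk' B).comp (P : Subgroup A).subtype)
        ((injective_iff_map_eq_one _).2 fun x hx => ?_)
      have hxB : (x : A) ∈ B := (QuotientGroup.eq_one_iff _).1 hx
      have h1 : orderOf (x : A) ∣ 2 ^ r := by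
        rw [Subgroup.orderOf_coe, ← hcard2 P]
        exact orderOf_dvd_natCard x
      have h2 : orderOf (x : A) ∣ Nat.card B := B.orderOf_dvd_natCard hxB
      have hco : (2 ^ r).Coprime (Nat.card B) :=
        Nat.Coprime.pow_left _ (Nat.prime_two.coprime_iff_not_dvd.2 hB2)
      exact Subtype.ext (orderOf_eq_one_iff.1 (Nat.eq_one_of_dvd_coprimes hco h1 h2))
    let PG : Sylow 2 G := Sylow.ofCard ((P : Subgroup A).map A.subtype) (by
      rw [Nat.card_congr ((P : Subgroup A).equivMapOfInjective A.subtype A.subtype_injective).toEquiv.symm,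
        hcard2 P, ← A.card_mul_index, hA, hcardA,
        Nat.factorization_mul (mul_ne_zero (pow_ne_zero _ two_ne_zero) Nat.card_pos.ne')
          (pow_ne_zero _ hp.ne_zero),
        Nat.factorization_mul (pow_ne_zero _ two_ne_zero) Nat.card_pos.ne']
      simp [Nat.Prime.factorization_pow Nat.prime_two, Nat.Prime.factorization_pow hp,
        Nat.factorization_eq_zero_of_not_dvd hB2, Finsupp.single_apply, hp2])
    haveI := hPc
    have hPGc : IsCyclic PG := by
      have e := (P : Subgroup A).equivMapOfInjective A.subtype A.subtype_injective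
      exact isCyclic_of_surjective e.toMonoidHom e.surjective
    have h2G : 2 ∣ Nat.card G :=
      ((dvd_pow_self 2 hr0).trans (hcardA ▸ dvd_mul_right _ _)).trans A.card_subgroup_dvd_card
    have hmin : (Nat.card G).minFac = 2 := (Nat.minFac_eq_two_iff _).2 h2G
    have hcompl := IsCyclic.isComplement' hmin hPGc
    rcases (inferInstance : (MonoidHom.transferSylow PG (hPGc.normalizer_le_centralizer hmin)).ker.Normal).eq_bot_or_eq_top
      with h | h
    · have := hcompl.card_mul
      rw [h, Subgroup.card_bot, one_mul] at this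
      refine hns ?_
      obtain ⟨k, hk⟩ := PG.2.exists_card_eq
      exact Cfsg.Agent.Characters.burnside_pa_qb Nat.prime_two Nat.prime_two (a := k) (b := 0)
        (by rw [← this, pow_zero, mul_one]; exact hk)
    · have := hcompl.card_mul
      rw [h, Subgroup.card_top] at this
      have hP1 : Nat.card PG = 1 := by
        have hpos : 0 < Nat.card G := Nat.card_pos
        exact Nat.eq_of_mul_eq_mul_left hpos (by rw [this, mul_one])
      have h3 : Nat.card PG = 2 ^ r := by
        show Nat.card ((P : Subgroup A).map A.subtype) = _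
        rw [Nat.card_congr ((P : Subgroup A).equivMapOfInjective A.subtype A.subtype_injective).toEquiv.symm,
          hcard2 P]
      rw [hP1] at h3
      exact hr0 ((Nat.pow_eq_one.1 h3.symm).resolve_left (by norm_num))

theorem isSolvable_main (n : ℕ) : ∀ {G : Type*} [Group G] [Finite G], Nat.card G = n →
    ∀ (A : Subgroup G) {p s : ℕ}, p.Prime → A.index = p ^ s → Good A → Group.IsSolvable G := by
  induction n using Nat.strong_induction_on with
  | _ n ih =>
    intro G _ _ hn A p s hp hA hgood
    rcases subsingleton_or_nontrivial G with hs' | hs'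
    · infer_instance
    by_cases hsimp : IsSimpleGroup G
    · exact isSolvable_simple A hp hA hgood
    obtain ⟨N, hNn, hN0, hN1⟩ : ∃ N : Subgroup G, N.Normal ∧ N ≠ ⊥ ∧ N ≠ ⊤ := by
      by_contra! h
      exact hsimp ⟨fun N hN => or_iff_not_imp_left.2 (h N hN)⟩
    haveI := hNn
    have hNlt : Nat.card N < n := by
      rw [← hn]
      exact lt_of_le_of_ne (Nat.le_of_dvd Nat.card_pos N.card_subgroup_dvd_card)
        fun e => hN1 (Subgroup.eq_top_of_card_eq N e)
    have hQlt : Nat.card (G ⧸ N) < n := by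
      rw [← hn, Subgroup.card_eq_card_quotient_mul_card_subgroup N]
      exact lt_mul_of_one_lt_right Nat.card_pos ((Subgroup.one_lt_card_iff_ne_bot N).2 hN0)
    obtain ⟨k, -, hk⟩ := (Nat.dvd_prime_pow hp).1 (hA ▸ relIndex_dvd_of_normal A N)
    haveI : Group.IsSolvable N := ih _ hNlt rfl (A.subgroupOf N) hp (s := k) hk
      (good_of_injective
        ({ toFun := fun x => ⟨((x : N) : G), x.2⟩, map_one' := rfl, map_mul' := fun _ _ => rfl } :
          A.subgroupOf N →* A)
        (fun x y h => Subtype.ext (Subtype.ext (congrArg (fun u : A => (u : G)) h))) hgood)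
    obtain ⟨k', -, hk'⟩ := (Nat.dvd_prime_pow hp).1
      (hA ▸ Subgroup.index_map_dvd A (QuotientGroup.mk'_surjective N))
    haveI : Group.IsSolvable (G ⧸ N) := ih _ hQlt rfl (A.map (QuotientGroup.mk' N)) hp (s := k') hk'
      (good_of_surjective ((QuotientGroup.mk' N).subgroupMap A)
        ((QuotientGroup.mk' N).subgroupMap_surjective A) hgood)
    exact Group.isSolvable_of_ker_le_range N.subtype (QuotientGroup.mk' N)
      (by rw [QuotientGroup.ker_mk', Subgroup.range_subtype])

/-- Let G be a finite group with a subgroup A of prime-power index. Suppose A has a normal cyclic subgroup B such that A/B is cyclic of order a power of 2. Then G is solvable. -/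
theorem result {G : Type*} [Group G] [Finite G] (A : Subgroup G) (p s : ℕ) (hp : p.Prime) (hA : A.index = p ^ s)
    (B : Subgroup A) [B.Normal] (hB : IsCyclic B) (hAB : IsCyclic (A ⧸ B)) (r : ℕ) (hr : Nat.card (A ⧸ B) = 2 ^ r) :
    Group.IsSolvable G := by
  exact isSolvable_main (Nat.card G) rfl A hp hA ⟨B, ‹_›, hB, hAB, r, hr⟩

end Cfsg.Agent.S4245
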