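import Cfsg.Statements.S4250
import Cfsg.Agent.Techniques.Alperin.Tame

set_option autoImplicit false
open Cfsg

namespace Cfsg.Agent.S4250

open Cfsg.Agent.Techniques.Alperin
open scoped commutatorElement

/-- Let P be a Sylow p-subgroup of a finite group G. Call an intersection H = P ∩ Q with a Sylow p-subgroup Q tame when N_P(H) and N_Q(H) are Sylow p-subgroups of N_G(H). Then P ∩ G′ is generated by [P, N_G(P)] together with the commutator subgroups [P ∩ Q, ⟨x⟩] for all tame intersections P ∩ Q and all p-elements x of N_G(P ∩ Q). -/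
theorem result {G : Type*} [Group G] [Finite G] (p : ℕ) [Fact p.Prime] (P : Sylow p G) :
    (P : Subgroup G) ⊓ commutator G =
      ⁅(P : Subgroup G), Subgroup.normalizer ((P : Subgroup G) : Set G)⁆ ⊔
        ⨆ (Q : Sylow p G) (_ : (¬ p ∣ ((P : Subgroup G) ⊓ Subgroup.normalizer (((P : Subgroup G) ⊓ (Q : Subgroup G) : Subgroup G) : Set G)).relIndex (Subgroup.normalizer (((P : Subgroup G) ⊓ (Q : Subgroup G) : Subgroup G) : Set G)) ∧ ¬ p ∣ ((Q : Subgroup G) ⊓ Subgroup.normalizer (((P : Subgroup G) ⊓ (Q : Subgroup G) : Subgroup G) : Set G)).relIndex (Subgroup.normalizer (((P : Subgroup G) ⊓ (Q : Subgroup G) : Subgroup G) : Set G))))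
          (x : G) (_ : x ∈ Subgroup.normalizer (((P : Subgroup G) ⊓ (Q : Subgroup G) : Subgroup G) : Set G) ∧ ∃ k : ℕ, orderOf x = p ^ k),
          ⁅(P : Subgroup G) ⊓ (Q : Subgroup G), Subgroup.zpowers x⁆ := by
  set R := ⁅(P : Subgroup G), Subgroup.normalizer ((P : Subgroup G) : Set G)⁆ ⊔
    ⨆ (Q : Sylow p G) (_ : Tame.IsTame P Q) (x : G)
      (_ : x ∈ Subgroup.normalizer (((P : Subgroup G) ⊓ (Q : Subgroup G) : Subgroup G) : Set G) ∧
        ∃ k : ℕ, orderOf x = p ^ k),
      ⁅(P : Subgroup G) ⊓ (Q : Subgroup G), Subgroup.zpowers x⁆ with hR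
  show (P : Subgroup G) ⊓ commutator G = R
  have key : ∀ {A : Set G} {g : G}, Chain.Chain (P : Subgroup G) (Tame.TameOk P) A g →
      ∀ a ∈ A, a⁻¹ * (g⁻¹ * a * g) ∈ R := by
    intro A g hch
    induction hch with
    | one _ => intro a _; simp
    | @step A D x g hD hx hOk hA _ ih =>
      intro a ha
      have h1 : a⁻¹ * (x⁻¹ * a * x) ∈ R := by
        obtain ⟨Q, hQ, hT, hor⟩ := hOk
        have e : a⁻¹ * (x⁻¹ * a * x) = ⁅a⁻¹, x⁻¹⁆ := by
          rw [commutatorElement_def]; group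
        rw [e]
        rcases hor with h | hk
        · have hDP : D = (P : Subgroup G) := by rw [hQ, h, inf_idem]
          exact Subgroup.mem_sup_left (Subgroup.commutator_mem_commutator (inv_mem (hD (hA ha)))
            (inv_mem (hDP ▸ hx)))
        · refine Subgroup.mem_sup_right (Subgroup.mem_iSup_of_mem Q (Subgroup.mem_iSup_of_mem hT
            (Subgroup.mem_iSup_of_mem x (Subgroup.mem_iSup_of_mem ⟨hQ ▸ hx, hk⟩ ?_))))
          exact Subgroup.commutator_mem_commutator (hQ ▸ inv_mem (hA ha))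
            (inv_mem (Subgroup.mem_zpowers x))
      have := R.mul_mem h1 (ih _ ⟨a, ha, rfl⟩)
      rwa [show a⁻¹ * (x⁻¹ * a * x) * ((x⁻¹ * a * x)⁻¹ * (g⁻¹ * (x⁻¹ * a * x) * g)) =
        a⁻¹ * ((x * g)⁻¹ * a * (x * g)) by group] at this
  refine le_antisymm ?_ ?_
  · rw [inf_comm]
    refine Transfer.Fusion.focal_le_of_fusion P fun x hx g hg => ⟨g, rfl, ?_⟩
    have h := key (Tame.tame_chain P {x⁻¹} g⁻¹
      (by simpa using hx) (by
        rintro _ ⟨a, rfl, rfl⟩
        show g⁻¹⁻¹ * x⁻¹ * g⁻¹ ∈ (P : Subgroup G)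
        have := (P : Subgroup G).inv_mem hg
        simpa [mul_assoc] using this)) x⁻¹ rfl
    simpa [commutatorElement_def, mul_assoc] using h
  · refine le_inf (sup_le ?_ ?_) (sup_le ?_ ?_)
    · rw [Subgroup.commutator_le]
      intro a ha n hn
      rw [commutatorElement_def, show a * n * a⁻¹ * n⁻¹ = a * (n * a⁻¹ * n⁻¹) by group]
      exact (P : Subgroup G).mul_mem ha ((Subgroup.mem_normalizer_iff.mp hn _).mp (inv_mem ha))
    · refine iSup₂_le fun Q _ => iSup₂_le fun x hx => ?_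
      refine le_trans ?_ (inf_le_left : (P : Subgroup G) ⊓ (Q : Subgroup G) ≤ (P : Subgroup G))
      rw [Subgroup.commutator_le]
      intro a ha n hn
      rw [commutatorElement_def, show a * n * a⁻¹ * n⁻¹ = a * (n * a⁻¹ * n⁻¹) by group]
      exact Subgroup.mul_mem _ ha ((Subgroup.mem_normalizer_iff.mp
        (Subgroup.zpowers_le.mpr hx.1 hn) _).mp (inv_mem ha))
    · rw [commutator_def]; exact Subgroup.commutator_mono le_top le_top
    · exact iSup₂_le fun Q _ => iSup₂_le fun x _ => by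
        rw [commutator_def]; exact Subgroup.commutator_mono le_top le_top

end Cfsg.Agent.S4250
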