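import Cfsg.Statements.S4251
import Cfsg.Agent.Techniques.Alperin.Tame
import Cfsg.Agent.Lib.Transfer.NilpotentHall

set_option autoImplicit false
open Cfsg

namespace Cfsg.Agent.S4251

open Cfsg.Agent.Techniques.Alperin
open scoped commutatorElement

/-- Let P be a Sylow p-subgroup of a finite group G. Call an intersection H = P ∩ Q with a Sylow p-subgroup Q tame when N_P(H) and N_Q(H) are Sylow p-subgroups of N_G(H). If N_G(H)/C_G(H) is a p-group for every nontrivial tame intersection H = P ∩ Q, then G has a normal p-complement. -/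
theorem result {G : Type*} [Group G] [Finite G] (p : ℕ) [Fact p.Prime] (P : Sylow p G)
    (h : ∀ Q : Sylow p G, (P : Subgroup G) ⊓ (Q : Subgroup G) ≠ ⊥ → (¬ p ∣ ((P : Subgroup G) ⊓ Subgroup.normalizer (((P : Subgroup G) ⊓ (Q : Subgroup G) : Subgroup G) : Set G)).relIndex (Subgroup.normalizer (((P : Subgroup G) ⊓ (Q : Subgroup G) : Subgroup G) : Set G)) ∧ ¬ p ∣ ((Q : Subgroup G) ⊓ Subgroup.normalizer (((P : Subgroup G) ⊓ (Q : Subgroup G) : Subgroup G) : Set G)).relIndex (Subgroup.normalizer (((P : Subgroup G) ⊓ (Q : Subgroup G) : Subgroup G) : Set G))) →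
      IsPGroup p (Subgroup.normalizer (((P : Subgroup G) ⊓ (Q : Subgroup G) : Subgroup G) : Set G) ⧸
        (Subgroup.centralizer (((P : Subgroup G) ⊓ (Q : Subgroup G) : Subgroup G) : Set G)).subgroupOf
          (Subgroup.normalizer (((P : Subgroup G) ⊓ (Q : Subgroup G) : Subgroup G) : Set G)))) :
    Cfsg.HasNormalPComplement p G := by
  rw [Transfer.Frobenius.hasNormalPComplement_iff_condition]
  refine Transfer.NilpotentHall.condition_of_fusion P fun x hx g hg => ?_
  have key : ∀ {A : Set G} {g : G}, Chain.Chain (P : Subgroup G) (Tame.TameOk P) A g →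
      ∃ u ∈ (P : Subgroup G), ∀ a ∈ A, u⁻¹ * a * u = g⁻¹ * a * g := by
    intro A g hch
    induction hch with
    | one _ => exact ⟨1, one_mem _, fun a _ => rfl⟩
    | @step A D y g hD hy hOk hA _ ih =>
      obtain ⟨u₁, hu₁, hu₁e⟩ : ∃ u ∈ (P : Subgroup G), ∀ a ∈ A, u⁻¹ * a * u = y⁻¹ * a * y := by
        obtain ⟨Q, hQ, hT, -⟩ := hOk
        subst hQ
        set D := (P : Subgroup G) ⊓ (Q : Subgroup G) with hDdef
        by_cases hD1 : D = ⊥
        · refine ⟨1, one_mem _, fun a ha => ?_⟩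
          have : a = 1 := Subgroup.mem_bot.mp (hD1 ▸ hA ha)
          simp [this]
        set N := Subgroup.normalizer (D : Set G) with hN
        set C := (Subgroup.centralizer (D : Set G)).subgroupOf N with hC
        obtain ⟨k, hk⟩ : ∃ k, C.index = p ^ k := IsPGroup.iff_card.mp (h Q hD1 hT)
        have htop : ((P : Subgroup G) ⊓ N).subgroupOf N ⊔ C = ⊤ := by
          rw [← Subgroup.index_eq_one]
          obtain ⟨i, -, hi⟩ := (Nat.dvd_prime_pow Fact.out).mp (hk ▸ Subgroup.index_dvd_of_le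
            (le_sup_right : C ≤ ((P : Subgroup G) ⊓ N).subgroupOf N ⊔ C))
          rcases Nat.eq_zero_or_pos i with rfl | hi0
          · rw [hi, pow_zero]
          · exact absurd ((dvd_pow_self p hi0.ne').trans (hi ▸ Subgroup.index_dvd_of_le
              (le_sup_left : ((P : Subgroup G) ⊓ N).subgroupOf N ≤
                ((P : Subgroup G) ⊓ N).subgroupOf N ⊔ C))) hT.1
        have hmem : (⟨y, hy⟩ : ↥N) ∈ ((((P : Subgroup G) ⊓ N).subgroupOf N ⊔ C : Subgroup ↥N) : Set ↥N) := by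
          rw [htop]; exact Subgroup.mem_top _
        rw [Subgroup.mul_normal (H := ((P : Subgroup G) ⊓ N).subgroupOf N) (N := C)] at hmem
        obtain ⟨u, hu, c, hc, huc⟩ := Set.mem_mul.mp hmem
        have hu' := Subgroup.mem_subgroupOf.mp hu
        refine ⟨(u : G), hu'.1, fun a ha => ?_⟩
        have hy' : y = (u : G) * (c : G) := (congrArg Subtype.val huc).symm
        have hau : (u : G)⁻¹ * a * u ∈ D :=
          (Subgroup.mem_normalizer_iff''.mp hu'.2 a).mp (hA ha)
        have hcc := Subgroup.mem_centralizer_iff.mp (Subgroup.mem_subgroupOf.mp hc) _ hau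
        rw [hy', show ((u : G) * c)⁻¹ * a * ((u : G) * c) = (c : G)⁻¹ * (((u : G)⁻¹ * a * u) * c) by group,
          hcc, inv_mul_cancel_left]
      obtain ⟨u₂, hu₂, hu₂e⟩ := ih
      refine ⟨u₁ * u₂, mul_mem hu₁ hu₂, fun a ha => ?_⟩
      calc (u₁ * u₂)⁻¹ * a * (u₁ * u₂) = u₂⁻¹ * (u₁⁻¹ * a * u₁) * u₂ := by group
        _ = u₂⁻¹ * (y⁻¹ * a * y) * u₂ := by rw [hu₁e a ha]
        _ = g⁻¹ * (y⁻¹ * a * y) * g := hu₂e _ ⟨a, ha, rfl⟩
        _ = _ := by group
  obtain ⟨u, hu, he⟩ := key (Tame.tame_chain P {x} g⁻¹ (by simpa using hx) (by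
    rintro _ ⟨a, rfl, rfl⟩; simpa using hg))
  exact ⟨u⁻¹, inv_mem hu, by simpa using he x rfl⟩

end Cfsg.Agent.S4251
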