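import Cfsg.Statements.S4253

set_option autoImplicit false
open Cfsg
open scoped Pointwise

namespace Cfsg.Agent.S4253

/-- Let H be a Frobenius complement in a finite group G (a nontrivial proper subgroup meeting each conjugate gHg⁻¹ with g outside H trivially). Then in the action of G on the left cosets of H by left multiplication, no non-identity element of G fixes two distinct cosets. -/
theorem result {G : Type*} [Group G] [Finite G] (H : Subgroup G) (hH : Cfsg.IsFrobeniusComplement H)
    (g : G) (hg : g ≠ 1) (a b : G ⧸ H) (ha : g • a = a) (hb : g • b = b) : a = b := by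
  induction a using QuotientGroup.induction_on with
  | H x =>
    induction b using QuotientGroup.induction_on with
    | H y =>
      rw [MulAction.Quotient.smul_mk, QuotientGroup.eq] at ha hb
      rw [QuotientGroup.eq]
      by_contra hxy
      have h := hH.2.2 (x⁻¹ * y) hxy
      have h1 : x⁻¹ * g * x ∈ H := by
        have he : x⁻¹ * g * x = ((g • x)⁻¹ * x)⁻¹ := by
          rw [smul_eq_mul]; group
        rw [he]; exact H.inv_mem ha
      have h2 : x⁻¹ * g * x ∈ MulAut.conj (x⁻¹ * y) • H := by
        rw [Subgroup.mem_pointwise_smul_iff_inv_smul_mem, MulAut.smul_def, MulAut.conj_inv_apply]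
        have he : (x⁻¹ * y)⁻¹ * (x⁻¹ * g * x) * (x⁻¹ * y) = ((g • y)⁻¹ * y)⁻¹ := by
          rw [smul_eq_mul]; group
        rw [he]; exact H.inv_mem hb
      have h3 : x⁻¹ * g * x ∈ (⊥ : Subgroup G) := h ▸ ⟨h1, h2⟩
      rw [Subgroup.mem_bot] at h3
      exact hg (by
        calc g = x * (x⁻¹ * g * x) * x⁻¹ := by group
          _ = 1 := by rw [h3]; group)

end Cfsg.Agent.S4253
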