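import Cfsg.Statements.S4255
import Cfsg.Agent.GroupStructure3.ClassGraph.Disconnected

set_option autoImplicit false
open Cfsg

namespace Cfsg.Agent.S4255

/-- Let G be a finite group. Call a prime a vertex if it divides some conjugacy class size of G, and two distinct vertices adjacent if their product divides some class size. Suppose this graph is disconnected: the vertices split into two nonempty parts with no vertex of one part adjacent to a vertex of the other. Then G/Z(G) is a Frobenius group with abelian Frobenius complement and with a Frobenius kernel all of whose elements commute. -/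
theorem result {G : Type*} [Group G] [Finite G] (S : Set ℕ) (hS : ∃ p ∈ S, (p.Prime ∧ ∃ g : G, p ∣ (Subgroup.centralizer ({g} : Set G)).index)) (hS' : ∃ q ∉ S, (q.Prime ∧ ∃ g : G, q ∣ (Subgroup.centralizer ({g} : Set G)).index))
    (hdisc : ∀ p q : ℕ, (p.Prime ∧ ∃ g : G, p ∣ (Subgroup.centralizer ({g} : Set G)).index) → (q.Prime ∧ ∃ g : G, q ∣ (Subgroup.centralizer ({g} : Set G)).index) → p ∈ S → q ∉ S → ¬ (∃ g : G, p * q ∣ (Subgroup.centralizer ({g} : Set G)).index)) :
    ∃ H : Subgroup (G ⧸ Subgroup.center G), Cfsg.IsFrobeniusComplement H ∧ IsMulCommutative H ∧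
      ∀ x ∈ Cfsg.frobeniusKernel H, ∀ y ∈ Cfsg.frobeniusKernel H, x * y = y * x := by
  obtain ⟨p, hpS, hp, hp'⟩ := hS
  obtain ⟨q, hqS, hq, hq'⟩ := hS'
  refine Cfsg.Agent.GroupStructure3.ClassGraph.exists_frobenius S hpS hqS hp hq hp' hq' fun g r r' hr hr' h h' => ?_
  by_cases hne : r = r'
  · rw [hne]
  constructor
  · intro h1
    by_contra h2
    exact hdisc r r' ⟨hr, g, h⟩ ⟨hr', g, h'⟩ h1 h2 ⟨g, ((Nat.coprime_primes hr hr').mpr hne).mul_dvd_of_dvd_of_dvd h h'⟩
  · intro h1
    by_contra h2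
    exact hdisc r' r ⟨hr', g, h'⟩ ⟨hr, g, h⟩ h1 h2 ⟨g, ((Nat.coprime_primes hr' hr).mpr (Ne.symm hne)).mul_dvd_of_dvd_of_dvd h' h⟩

end Cfsg.Agent.S4255
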