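import Cfsg.Statements.S4257
import Cfsg.Agent.GroupStructure3.ClassGraph.Isolated

set_option autoImplicit false
open Cfsg

namespace Cfsg.Agent.S4257

open Cfsg.Agent.GroupStructure3.ClassGraph

/-- Equal, or dividing a common class size. -/
def Rel (G : Type*) [Group G] (a b : ℕ) : Prop := a = b ∨ ∃ g : G, a * b ∣ (Subgroup.centralizer ({g} : Set G)).index

theorem rel_of_dvd {G : Type*} [Group G] {a b : ℕ} (ha : a.Prime) (hb : b.Prime) {g : G} (h1 : a ∣ cs g) (h2 : b ∣ cs g) :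
    Rel G a b := by
  by_cases h : a = b
  · exact Or.inl h
  · exact Or.inr ⟨g, ((Nat.coprime_primes ha hb).mpr h).mul_dvd_of_dvd_of_dvd h1 h2⟩

theorem rel_symm {G : Type*} [Group G] {a b : ℕ} (h : Rel G a b) : Rel G b a :=
  h.elim (fun h => Or.inl h.symm) fun ⟨g, hg⟩ => Or.inr ⟨g, by rwa [mul_comm]⟩

/-- Let G be a finite group. Call a prime a vertex if it divides some conjugacy class size of G, and two distinct vertices adjacent if their product divides some class size. If this graph is connected, then its diameter is at most 3: any two distinct vertices p and q are adjacent, or joined through one or two intermediate vertices. -/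
theorem result {G : Type*} [Group G] [Finite G]
    (hconn : ∀ S : Set ℕ, (∃ p ∈ S, (p.Prime ∧ ∃ g : G, p ∣ (Subgroup.centralizer ({g} : Set G)).index)) → (∃ q ∉ S, (q.Prime ∧ ∃ g : G, q ∣ (Subgroup.centralizer ({g} : Set G)).index)) →
      ∃ p q : ℕ, (p.Prime ∧ ∃ g : G, p ∣ (Subgroup.centralizer ({g} : Set G)).index) ∧ (q.Prime ∧ ∃ g : G, q ∣ (Subgroup.centralizer ({g} : Set G)).index) ∧ p ∈ S ∧ q ∉ S ∧ (∃ g : G, p * q ∣ (Subgroup.centralizer ({g} : Set G)).index))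
    (p q : ℕ) (hp : (p.Prime ∧ ∃ g : G, p ∣ (Subgroup.centralizer ({g} : Set G)).index)) (hq : (q.Prime ∧ ∃ g : G, q ∣ (Subgroup.centralizer ({g} : Set G)).index)) (hpq : p ≠ q) :
    (∃ g : G, p * q ∣ (Subgroup.centralizer ({g} : Set G)).index) ∨ (∃ r : ℕ, (r.Prime ∧ ∃ g : G, r ∣ (Subgroup.centralizer ({g} : Set G)).index) ∧ r ≠ p ∧ r ≠ q ∧ (∃ g : G, p * r ∣ (Subgroup.centralizer ({g} : Set G)).index) ∧ (∃ g : G, r * q ∣ (Subgroup.centralizer ({g} : Set G)).index)) ∨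
      (∃ r s : ℕ, (r.Prime ∧ ∃ g : G, r ∣ (Subgroup.centralizer ({g} : Set G)).index) ∧ (s.Prime ∧ ∃ g : G, s ∣ (Subgroup.centralizer ({g} : Set G)).index) ∧ r ≠ p ∧ s ≠ q ∧ r ≠ s ∧ r ≠ q ∧ s ≠ p ∧
        (∃ g : G, p * r ∣ (Subgroup.centralizer ({g} : Set G)).index) ∧ (∃ g : G, r * s ∣ (Subgroup.centralizer ({g} : Set G)).index) ∧ (∃ g : G, s * q ∣ (Subgroup.centralizer ({g} : Set G)).index)) := by
  obtain ⟨x₀, hmax⟩ := exists_max_cs G
  have hnc : x₀ ∉ Subgroup.center G := hp.2.elim fun g hg => max_not_central hmax hp.1 hg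
  let P2 : ℕ → Prop := fun r => r.Prime ∧ ∀ g : G, r ∣ cs g → Cop x₀ g
  have hI : ∀ r, P2 r → Iso x₀ r := fun r h => ⟨hmax, hnc, h.1, h.2⟩
  have hA : ∀ r, r.Prime → (∃ g : G, r ∣ cs g) → ¬ P2 r →
      ∃ a, a.Prime ∧ a ∣ cs x₀ ∧ Rel G r a := by
    intro r hr hv h
    obtain ⟨g, hg, hnc'⟩ : ∃ g : G, r ∣ cs g ∧ ¬ Cop x₀ g := by
      by_contra hno; push Not at hno; exact h ⟨hr, hno⟩
    obtain ⟨a, ha, h1, h2⟩ := Nat.Prime.not_coprime_iff_dvd.mp hnc'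
    exact ⟨a, ha, h1, rel_of_dvd hr ha hg h2⟩
  have hone : ∀ r s : ℕ, r.Prime → s.Prime → (∃ g : G, r ∣ cs g) → (∃ g : G, s ∣ cs g) → P2 r →
      ∃ a b, (a.Prime ∧ ∃ g : G, a ∣ cs g) ∧ (b.Prime ∧ ∃ g : G, b ∣ cs g) ∧ Rel G r a ∧ Rel G a b ∧ Rel G b s := by
    intro r s hr hs hvr hvs hr2
    have I := hI r hr2
    by_cases hs2 : P2 s
    · obtain ⟨g, hg⟩ := hvs
      obtain ⟨g', -, h1, h2⟩ := I.exists_dvd_dvd hvr (mem_kerK (hs2.2 g hg)) hg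
      exact ⟨s, s, ⟨hs, g, hg⟩, ⟨hs, g, hg⟩, rel_of_dvd hr hs h1 h2, Or.inl rfl, Or.inl rfl⟩
    obtain ⟨p', m, hp', hm, hp'2, hm2, g, hg⟩ := hconn {x | P2 x} ⟨r, hr2, hr, hvr⟩ ⟨s, hs2, hs, hvs⟩
    have hgK : g ∈ kerK x₀ := mem_kerK (hp'2.2 g (dvd_trans (dvd_mul_right p' m) hg))
    obtain ⟨g', -, h1, h2⟩ := I.exists_dvd_dvd hvr hgK (dvd_trans (dvd_mul_left m p') hg)
    haveI := Fact.mk hr
    obtain ⟨T⟩ : Nonempty (Sylow r G) := inferInstance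
    obtain ⟨τ, hτ, hτz⟩ := I.exists_noncentral T hvr
    obtain ⟨a, ha, had⟩ := Nat.exists_prime_and_dvd (I.index_ne_one T hτ hτz)
    have hax := I.dvd_index T hτ hτz ha had
    have hout : ∀ u : ℕ, u.Prime → ¬ u ∣ cs x₀ → (∃ g : G, u ∣ cs g) → ¬ P2 u → Rel G a u := by
      intro u hu hux hvu hu2
      obtain ⟨h, hh, hnc'⟩ : ∃ h : G, u ∣ cs h ∧ ¬ Cop x₀ h := by
        by_contra hno; push Not at hno; exact hu2 ⟨hu, hno⟩
      obtain ⟨z, hz1, hz2⟩ := I.exists_dvd_index T hτ hτz (fun hk => hnc' (I.cop_of_mem hvr hk)) hh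
      exact rel_of_dvd ha hu (had.trans hz2) hz1
    refine ⟨m, a, hm, ⟨ha, x₀, hax⟩, rel_of_dvd hr hm.1 h1 h2, rel_symm (hout m hm.1 ?_ hm.2 hm2), ?_⟩
    · exact fun hmx => hm.1.ne_one (Nat.eq_one_of_dvd_coprimes (hp'2.2 g (dvd_trans (dvd_mul_right p' m) hg)) hmx
        (dvd_trans (dvd_mul_left m p') hg))
    · by_cases hsx : s ∣ cs x₀
      · exact rel_of_dvd ha hs hax hsx
      · exact hout s hs hsx hvs hs2
  have hpath : ∃ a b, (a.Prime ∧ ∃ g : G, a ∣ cs g) ∧ (b.Prime ∧ ∃ g : G, b ∣ cs g) ∧ Rel G p a ∧ Rel G a b ∧ Rel G b q := by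
    by_cases h1 : P2 p
    · exact hone p q hp.1 hq.1 hp.2 hq.2 h1
    by_cases h2 : P2 q
    · obtain ⟨a, b, ha, hb, e1, e2, e3⟩ := hone q p hq.1 hp.1 hq.2 hp.2 h2
      exact ⟨b, a, hb, ha, rel_symm e3, rel_symm e2, rel_symm e1⟩
    obtain ⟨a, ha, hax, e1⟩ := hA p hp.1 hp.2 h1
    obtain ⟨b, hb, hbx, e3⟩ := hA q hq.1 hq.2 h2
    exact ⟨a, b, ⟨ha, x₀, hax⟩, ⟨hb, x₀, hbx⟩, e1, rel_of_dvd ha hb hax hbx, rel_symm e3⟩
  obtain ⟨a, b, ha, hb, e1, e2, e3⟩ := hpath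
  have hadj : ∀ {x y : ℕ}, Rel G x y → x ≠ y → ∃ g : G, x * y ∣ (Subgroup.centralizer ({g} : Set G)).index :=
    fun h hne => h.resolve_left hne
  by_cases hap : a = p
  · subst hap
    by_cases hb1 : b = q
    · subst hb1; exact Or.inl (hadj e2 hpq)
    by_cases hb2 : b = a
    · subst hb2; exact Or.inl (hadj e3 hpq)
    exact Or.inr (Or.inl ⟨b, hb, hb2, hb1, hadj e2 (Ne.symm hb2), hadj e3 hb1⟩)
  by_cases haq : a = q
  · subst haq; exact Or.inl (hadj e1 hpq)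
  by_cases hbp : b = p
  · subst hbp; exact Or.inl (hadj e3 hpq)
  by_cases hbq : b = q
  · subst hbq; exact Or.inr (Or.inl ⟨a, ha, hap, haq, hadj e1 (Ne.symm hap), hadj e2 haq⟩)
  by_cases hab : a = b
  · subst hab; exact Or.inr (Or.inl ⟨a, ha, hap, haq, hadj e1 (Ne.symm hap), hadj e3 haq⟩)
  exact Or.inr (Or.inr ⟨a, b, ha, hb, hap, hbq, hab, haq, hbp, hadj e1 (Ne.symm hap), hadj e2 hab, hadj e3 hbq⟩)

end Cfsg.Agent.S4257
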