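import Cfsg.Statements.S4261
import Cfsg.Agent.Lib.Counting.SylowCount
import Cfsg.Agent.Lib.Transfer.NormalPComplement
import Cfsg.Agent.Lib.Cores.Residual
import Cfsg.Agent.GroupStructure3.NormalNilp

set_option autoImplicit false
open Cfsg

namespace Cfsg.Agent.S4261

open Subgroup in
theorem exists_prime_pow_index {G : Type*} [Group G] [Finite G] (hG : Group.IsSolvable G)
    (M : Subgroup G) (hM : IsCoatom M) : ∃ q k : ℕ, q.Prime ∧ M.index = q ^ k := by
  haveI : Nontrivial (G ⧸ M.normalCore) := by
    by_contra h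
    rw [not_nontrivial_iff_subsingleton] at h
    refine hM.1 (eq_top_iff.2 fun x _ => M.normalCore_le ?_)
    exact (QuotientGroup.eq_one_iff x).1 (Subsingleton.elim _ _)
  haveI := hG
  obtain ⟨q, N, hq, hN, hNne, hNq⟩ :=
    Counting.SylowCount.exists_normal_pGroup_of_isSolvable
      (G := G ⧸ M.normalCore) inferInstance
  haveI := hN
  haveI := Fact.mk hq
  set L := N.comap (QuotientGroup.mk' M.normalCore) with hL
  have hCL : M.normalCore ≤ L := fun x hx => by
    rw [hL, mem_comap, QuotientGroup.mk'_apply, (QuotientGroup.eq_one_iff x).2 hx]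
    exact one_mem _
  have hLM : ¬ L ≤ M := by
    intro h
    refine hNne (eq_bot_iff.2 fun x hx => ?_)
    obtain ⟨g, rfl⟩ := QuotientGroup.mk'_surjective _ x
    exact mem_bot.2 ((QuotientGroup.eq_one_iff g).2
      ((normal_le_normalCore (H := M) (N := L)).2 h hx))
  have hsup : M ⊔ L = ⊤ := hM.2 _ (lt_of_le_of_ne le_sup_left fun h => hLM (h ▸ le_sup_right))
  have h1 : M.index ∣ M.normalCore.relIndex L := by
    have : M.index = M.relIndex L := by
      rw [← GroupStructure3.NormalNilp.relIndex_sup_of_normal_right, hsup, relIndex_top_right]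
    rw [this]
    exact relIndex_dvd_of_le_left L M.normalCore_le
  have h2 : M.normalCore.relIndex L = Nat.card N := by
    conv_lhs => rw [← QuotientGroup.ker_mk' M.normalCore]
    rw [relIndex_ker, hL, map_comap_eq_self_of_surjective (QuotientGroup.mk'_surjective _)]
  obtain ⟨a, ha⟩ := hNq.exists_card_eq
  obtain ⟨k, -, hk⟩ := (Nat.dvd_prime_pow hq).1 (ha ▸ h2 ▸ h1)
  exact ⟨q, k, hq, hk⟩


/-- Let M be a maximal subgroup of a finite solvable group G such that x^[G : M] lies in M for every x in G. Then M is normal in G. -/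
theorem result {G : Type*} [Group G] [Finite G] (hG : Group.IsSolvable G) (M : Subgroup G) (hM : IsCoatom M)
    (hexp : ∀ x : G, x ^ M.index ∈ M) : M.Normal := by
  obtain ⟨q, k, hq, hk⟩ := exists_prime_pow_index hG M hM
  haveI := Fact.mk hq
  have hK : Cfsg.pResidual q G ≤ M := by
    refine (Subgroup.closure_le _).2 fun g hg => ?_
    have hc : (orderOf g).Coprime M.index := hk ▸ Nat.Coprime.pow_right _ hg
    obtain ⟨m, hm⟩ := exists_pow_eq_self_of_coprime hc.symm
    rw [← hm]
    exact M.pow_mem (hexp g) m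
  haveI : Group.IsNilpotent (G ⧸ Cfsg.pResidual q G) :=
    (Transfer.NormalPComplement.isPGroup_quotient_pResidual (G := G) (p := q)).isNilpotent
  have hco : IsCoatom (M.map (QuotientGroup.mk' (Cfsg.pResidual q G))) := by
    refine ⟨fun h => hM.1 ?_, fun B hB => ?_⟩
    · have := congrArg (Subgroup.comap (QuotientGroup.mk' (Cfsg.pResidual q G))) h
      rwa [Subgroup.comap_map_eq, QuotientGroup.ker_mk', sup_eq_left.2 hK,
        Subgroup.comap_top] at this
    · have h1 : M < B.comap (QuotientGroup.mk' (Cfsg.pResidual q G)) := by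
        refine lt_of_le_of_ne (Subgroup.map_le_iff_le_comap.1 hB.le) fun h => hB.ne ?_
        rw [h, Subgroup.map_comap_eq_self_of_surjective (QuotientGroup.mk'_surjective _)]
      rw [← Subgroup.map_comap_eq_self_of_surjective (QuotientGroup.mk'_surjective _) B,
        hM.2 _ h1, Subgroup.map_top_of_surjective _ (QuotientGroup.mk'_surjective _)]
  haveI := Subgroup.NormalizerCondition.normal_of_coatom _
    Group.normalizerCondition_of_isNilpotent hco
  have hM' : M = (M.map (QuotientGroup.mk' (Cfsg.pResidual q G))).comap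
      (QuotientGroup.mk' (Cfsg.pResidual q G)) := by
    rw [Subgroup.comap_map_eq, QuotientGroup.ker_mk', sup_eq_left.2 hK]
  rw [hM']
  infer_instance

end Cfsg.Agent.S4261
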