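import Cfsg.Statements.S4262
import Cfsg.Agent.Solvable.Thompson
import Cfsg.Agent.Lib.Counting.SylowCount

set_option autoImplicit false
open Cfsg

namespace Cfsg.Agent.S4262

open Subgroup Cfsg.Agent.PLocal.ThompsonComplement Cfsg.Agent.Transfer.NormalPComplement
open Cfsg.Agent.Solvable.Thompson (hasNormalPComplement_of_nilpotent)

/-- The centraliser of a non-central element of prime power order is nilpotent. -/
theorem isNilpotent_centralizer {G : Type*} [Group G] [Finite G]
    (h : ∀ g : G, g ∉ center G → IsCoatom (centralizer ({g} : Set G)))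
    {p : ℕ} [Fact p.Prime] {x : G} {a : ℕ} (hxo : x ^ p ^ a = 1) (hx : x ∉ center G) :
    Group.IsNilpotent (centralizer ({x} : Set G)) := by
  set M := centralizer ({x} : Set G) with hM
  have hcent : ∀ y : M, (orderOf (y : G)).Coprime p → y ∈ center M := by
    intro y hy
    have hc : Commute (y : G) x := mem_centralizer_singleton_iff.1 y.2
    -- `x` and `y` are powers of `x * y`
    set n := orderOf (y : G) with hn
    have hxy : (x * (y : G)) ^ n = x ^ n := by rw [hc.symm.mul_pow, pow_orderOf_eq_one, mul_one]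
    obtain ⟨m, hm⟩ := exists_pow_eq_self_of_coprime (x := x) (n := n)
      (Nat.Coprime.coprime_dvd_right (orderOf_dvd_of_pow_eq_one hxo) (hy.pow_right a))
    have hxpow : x = ((x * (y : G)) ^ n) ^ m := by rw [hxy, hm]
    have hxyc : x * (y : G) ∉ center G := fun hc' => hx (hxpow ▸ pow_mem (pow_mem hc' n) m)
    have hle : centralizer ({x * (y : G)} : Set G) ≤ M := by
      intro g hg
      rw [hM, mem_centralizer_singleton_iff, hxpow]
      have hgc : Commute g (x * (y : G)) := mem_centralizer_singleton_iff.1 hg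
      exact (hgc.pow_right n).pow_right m
    have heq : centralizer ({x * (y : G)} : Set G) = M :=
      ((h _ hxyc).le_iff.1 hle).resolve_left (h _ hx).1 |>.symm
    rw [mem_center_iff]
    intro g
    refine Subtype.ext ?_
    have h1 : Commute (g : G) (x * (y : G)) := mem_centralizer_singleton_iff.1 (show (g : G) ∈ centralizer ({x * (y : G)} : Set G) by rw [heq]; exact g.2)
    have h2 : Commute (g : G) x := mem_centralizer_singleton_iff.1 g.2
    have h3 := h2.inv_right.mul_right h1
    rw [inv_mul_cancel_left] at h3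
    exact h3.eq
  have hpg : IsPGroup p (M ⧸ center M) := by
    intro c
    obtain ⟨g, rfl⟩ := QuotientGroup.mk_surjective c
    obtain ⟨k, hk⟩ := exists_pow_coprime (p := p) (orderOf_pos g).ne'
    refine ⟨k, ?_⟩
    rw [← QuotientGroup.mk_pow, QuotientGroup.eq_one_iff]
    exact hcent _ (by rw [Subgroup.orderOf_coe]; exact hk)
  haveI := hpg.isNilpotent
  exact of_quotient_center_nilpotent inferInstance

/-- A nilpotent maximal subgroup containing a Sylow normaliser. -/
theorem exists_complement {G : Type*} [Group G] [Finite G] (hrad : ∀ U : Subgroup G, U.Normal →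
    Group.IsSolvable U → U = ⊥) {q : ℕ} [hq : Fact q.Prime] (hq2 : q ≠ 2) {M : Subgroup G}
    (hM : IsCoatom M) (hnil : Group.IsNilpotent M) (hd : q ∣ Nat.card M) :
    HasNormalPComplement q G := by
  obtain ⟨Q₀⟩ : Nonempty (Sylow q M) := Sylow.nonempty
  haveI := hnil
  haveI hQn : (Q₀ : Subgroup M).Normal :=
    Sylow.normal_of_normalizerCondition Group.normalizerCondition_of_isNilpotent Q₀
  set Q := (Q₀ : Subgroup M).map M.subtype with hQ
  have hQM : Q ≤ M := map_subtype_le _
  have hQp : IsPGroup q Q := Q₀.2.map _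
  have hMQ : M ≤ normalizer (Q : Set G) := by
    rw [← normal_subgroupOf_iff_le_normalizer hQM, hQ, subgroupOf, comap_map_eq_self_of_injective
      M.subtype_injective]
    exact hQn
  have hne : ∀ T : Subgroup G, T ≠ ⊥ → Group.IsSolvable T → normalizer (T : Set G) ≠ ⊤ :=
    fun T hT hTs h => hT (hrad T (normalizer_eq_top_iff.1 h) hTs)
  have hQne : Q ≠ ⊥ := by
    rw [hQ, Ne, map_eq_bot_iff_of_injective _ M.subtype_injective]
    exact Q₀.ne_bot_of_dvd_card hd
  haveI := hQp.isNilpotent
  have hNQ : normalizer (Q : Set G) = M :=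
    ((hM.le_iff.1 hMQ).resolve_left (hne Q hQne inferInstance))
  obtain ⟨P, hP⟩ := hQp.exists_le_sylow
  have hPQ : (P : Subgroup G) = Q := by
    refine le_antisymm ?_ hP
    haveI := P.2.isNilpotent
    by_contra hlt
    have hlt' : Q.subgroupOf (P : Subgroup G) < ⊤ := lt_top_iff_ne_top.2 fun e =>
      hlt (subgroupOf_eq_top.1 e)
    have h2 := Group.normalizerCondition_of_isNilpotent _ hlt'
    obtain ⟨g, hg, hgQ⟩ := SetLike.exists_of_lt h2
    have hgN : (g : G) ∈ normalizer (Q : Set G) := by
      rw [← subgroupOf_normalizer_eq hP] at hg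
      exact hg
    rw [hNQ] at hgN
    refine hgQ ?_
    rw [mem_subgroupOf, hQ]
    haveI : Subsingleton (Sylow q M) := Finite.card_le_one_iff_subsingleton.1
      (Counting.SylowCount.card_sylow_eq_one_of_normal Q₀ hQn).le
    have hgp : IsPGroup q (zpowers (⟨g, hgN⟩ : M)) := by
      obtain ⟨k, hk⟩ := IsPGroup.iff_orderOf.1 P.2 g
      exact IsPGroup.of_card (n := k) (by
        rw [Nat.card_zpowers, Subgroup.orderOf_mk, Subgroup.orderOf_coe, hk])
    obtain ⟨T, hT⟩ := hgp.exists_le_sylow
    rw [Subsingleton.elim T Q₀] at hT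
    exact ⟨⟨g, hgN⟩, hT (mem_zpowers _), rfl⟩
  have hsolv : ∀ T : Subgroup G, T ≤ Q → Group.IsSolvable T := fun T hT => by
    haveI := (hQp.to_le hT).isNilpotent
    infer_instance
  have hcompl : ∀ K : Subgroup G, K ≤ M → HasNormalPComplement q K := fun K hK =>
    HasNormalPComplement.of_le hK (hasNormalPComplement_of_nilpotent)
  refine hasNormalPComplement_of_thompson hq2 P ?_ ?_ <;> rw [hPQ]
  · refine hcompl _ ((hM.le_iff.1 ((hMQ).trans (normalizer_le_J Q))).resolve_left
      (hne _ (J_ne_bot hQp hQne) (hsolv _ (J_le Q)))).le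
  · refine hcompl _ (le_trans (centralizer_le_normalizer _) ((hM.le_iff.1
      ((hMQ).trans (normalizer_le_Z Q))).resolve_left
      (hne _ (Z_ne_bot hQp hQne) (hsolv _ inf_le_left))).le)


/-- Let G be a finite group in which the centralizer of every non-central element is a maximal subgroup of G. Then G is solvable. -/
theorem result {G : Type*} [Group G] [Finite G]
    (h : ∀ g : G, g ∉ Subgroup.center G → IsCoatom (Subgroup.centralizer ({g} : Set G))) :
    Group.IsSolvable G := by
  classical
  by_contra hns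
  set Z := Subgroup.center G
  set π := QuotientGroup.mk' Z with hπ
  have hπs : Function.Surjective π := QuotientGroup.mk'_surjective _
  have hker : π.ker = Z := QuotientGroup.ker_mk' _
  -- every solvable normal subgroup is central
  have hrad : ∀ U : Subgroup G, U.Normal → Group.IsSolvable U → U ≤ Z := by
    intro U hU hUs u hu
    by_contra huZ
    rw [mem_center_iff] at huZ
    push Not at huZ
    obtain ⟨g, hg⟩ := huZ
    -- a prime power element not commuting with `u`
    obtain ⟨p, hp, k, y, hyp, hyu⟩ : ∃ p, p.Prime ∧ ∃ (k : ℕ) (y : G), y ^ p ^ k = 1 ∧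
        y * u ≠ u * y := by
      by_contra hc
      push Not at hc
      have hS : ∀ (p : ℕ) [Fact p.Prime] (S : Sylow p G),
          (S : Subgroup G) ≤ centralizer {u} := fun p hpf S y hy => by
        obtain ⟨k, hk⟩ := S.2 ⟨y, hy⟩
        exact mem_centralizer_singleton_iff.2 (hc p hpf.out k y (by simpa using congrArg Subtype.val hk))
      refine hg (mem_centralizer_singleton_iff.1 ?_)
      rw [Cfsg.Agent.Cores.eq_top_of_sylow_le (K := centralizer {u}) fun r hr _ => by
        haveI := Fact.mk hr
        exact ⟨default, hS r default⟩]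
      exact mem_top g
    haveI := Fact.mk hp
    have hyZ : y ∉ center G := fun hy => hyu ((mem_center_iff.1 hy u).symm)
    set M := centralizer ({y} : Set G) with hM
    haveI hMnil := isNilpotent_centralizer h hyp hyZ
    haveI := hU
    have htop : U ⊔ M = ⊤ := (h y hyZ).2 _ (lt_of_le_of_ne le_sup_right fun e =>
      hyu ((mem_centralizer_singleton_iff.1 (show u ∈ M from e.ge (mem_sup_left hu))).symm))
    apply hns
    haveI := hUs
    haveI : Group.IsSolvable (G ⧸ U) :=
      Group.isSolvable_of_surjective (f := (QuotientGroup.mk' U).comp M.subtype) fun c => by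
        obtain ⟨g, rfl⟩ := QuotientGroup.mk_surjective c
        obtain ⟨a, ha, m, hm, rfl⟩ := mem_sup_of_normal_left.1
          (htop ▸ mem_top g : g ∈ U ⊔ M)
        exact ⟨⟨m, hm⟩, by simp [(QuotientGroup.eq_one_iff a).2 ha]⟩
    exact Group.isSolvable_of_ker_le_range U.subtype (QuotientGroup.mk' U)
      (by rw [QuotientGroup.ker_mk', range_subtype])
  -- the same in the quotient
  have hradQ : ∀ U : Subgroup (G ⧸ Z), U.Normal → Group.IsSolvable U → U = ⊥ := by
    intro U hU hUs
    haveI := hU
    haveI := hUs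
    haveI : Group.IsSolvable (U.comap π) := by
      haveI : Group.IsSolvable (π.subgroupComap U).ker := by
        refine Group.isSolvable_of_comm fun a b => ?_
        have ha : ((a : U.comap π) : G) ∈ Z :=
          hker.le (MonoidHom.mem_ker.2 (congrArg Subtype.val a.2))
        exact Subtype.ext (Subtype.ext ((mem_center_iff.1 ha b).symm))
      exact Group.isSolvable_of_ker_le_range (π.subgroupComap U).ker.subtype (π.subgroupComap U)
        (by rw [range_subtype])
    have hle := hrad (U.comap π) inferInstance inferInstance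
    rw [← map_comap_eq_self_of_surjective hπs U, eq_bot_iff, map_le_iff_le_comap,
      MonoidHom.comap_bot, hker]
    exact hle
  -- a normal complement for every odd prime
  have hcompl : ∀ q, q.Prime → q ≠ 2 → q ∣ Nat.card (G ⧸ Z) → HasNormalPComplement q (G ⧸ Z) := by
    intro q hq hq2 hd
    haveI := Fact.mk hq
    obtain ⟨S⟩ : Nonempty (Sylow q G) := Sylow.nonempty
    obtain ⟨y, hyS, hyZ⟩ : ∃ y ∈ (S : Subgroup G), y ∉ Z := by
      by_contra hc
      push Not at hc
      exact S.not_dvd_index (hd.trans (dvd_trans (dvd_of_eq (index_eq_card Z).symm)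
        (index_dvd_of_le hc)))
    obtain ⟨k, hk⟩ := S.2 ⟨y, hyS⟩
    set M := centralizer ({y} : Set G) with hM
    haveI := isNilpotent_centralizer h (p := q) (a := k)
      (by simpa using congrArg Subtype.val hk) hyZ
    have hZM : Z ≤ M := center_le_centralizer _
    have hcoat : IsCoatom (M.map π) := by
      refine ⟨fun e => (h y hyZ).1 ?_, fun T hT => ?_⟩
      · have := congrArg (Subgroup.comap π) e
        rwa [comap_map_eq, hker, sup_eq_left.2 hZM, comap_top] at this
      · have h1 : M < T.comap π := by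
          refine lt_of_le_of_ne (map_le_iff_le_comap.1 hT.le) fun e => hT.ne ?_
          rw [e, map_comap_eq_self_of_surjective hπs]
        rw [← map_comap_eq_self_of_surjective hπs T, (h y hyZ).2 _ h1,
          map_top_of_surjective _ hπs]
    refine exists_complement hradQ hq2 hcoat
      (nilpotent_of_surjective (π.subgroupMap M)
        (π.subgroupMap_surjective M)) ?_
    have hyne : π y ≠ 1 := fun e => hyZ (hker ▸ e)
    have hyM : π y ∈ M.map π := mem_map_of_mem π (mem_centralizer_singleton_iff.2 rfl)
    have ho : orderOf (π y) ∣ q ^ k := orderOf_dvd_of_pow_eq_one (by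
      rw [← map_pow, show y ^ q ^ k = 1 by simpa using congrArg Subtype.val hk, map_one])
    obtain ⟨j, -, hj⟩ := (Nat.dvd_prime_pow hq).1 ho
    rcases j with _ | j
    · exact absurd (orderOf_eq_one_iff.1 (by simpa using hj)) hyne
    · exact (hj ▸ dvd_pow_self q j.succ_ne_zero).trans ((M.map π).orderOf_dvd_natCard hyM)
  -- hence `G / Z` is solvable
  set T := (Nat.card (G ⧸ Z)).primeFactors.filter (fun q => q ≠ 2) with hT
  let ψ : G ⧸ Z →* ((q : T) → (G ⧸ Z) ⧸ pResidual (q : ℕ) (G ⧸ Z)) :=
    MonoidHom.pi fun q => QuotientGroup.mk' _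
  have hq : ∀ q : T, Fact (q : ℕ).Prime := fun q =>
    ⟨Nat.prime_of_mem_primeFactors (Finset.mem_filter.1 q.2).1⟩
  have hnil : ∀ q : T, Group.IsNilpotent ((G ⧸ Z) ⧸ pResidual (q : ℕ) (G ⧸ Z)) := fun q =>
    haveI := hq q
    (isPGroup_quotient_pResidual (p := (q : ℕ)) (G := G ⧸ Z)).isNilpotent
  haveI : Group.IsNilpotent ((q : T) → (G ⧸ Z) ⧸ pResidual (q : ℕ) (G ⧸ Z)) := Group.isNilpotent_pi
  have hker2 : IsPGroup 2 ψ.ker := by
    refine IsPGroup.of_card (n := (Nat.card ψ.ker).primeFactorsList.length) ?_
    refine Nat.eq_prime_pow_of_unique_prime_dvd Nat.card_pos.ne' fun {d} hd hdd => ?_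
    by_contra hd2
    have hdc : d ∣ Nat.card (G ⧸ Z) := hdd.trans (card_subgroup_dvd_card _)
    haveI := Fact.mk hd
    have hdT : d ∈ T := Finset.mem_filter.2 ⟨Nat.mem_primeFactors.2 ⟨hd, hdc, Nat.card_pos.ne'⟩, hd2⟩
    have hle : ψ.ker ≤ pResidual d (G ⧸ Z) := fun x hx =>
      (QuotientGroup.eq_one_iff x).1 (congrFun hx ⟨d, hdT⟩)
    have hcop := hasNormalPComplement_iff_pResidual.1 (hcompl d hd hd2 hdc)
    exact hd.ne_one (Nat.eq_one_of_dvd_coprimes hcop (hdd.trans (card_dvd_of_le hle)) dvd_rfl)
  haveI := hker2.isNilpotent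
  have hbot := hradQ ψ.ker inferInstance inferInstance
  haveI : Group.IsSolvable (G ⧸ Z) := Group.isSolvable_of_isSolvable_injective
    ((MonoidHom.ker_eq_bot_iff ψ).1 hbot)
  haveI : Group.IsSolvable Z := Group.isSolvable_of_comm fun a b => Subtype.ext (mem_center_iff.1 b.2 a)
  exact hns (Group.isSolvable_of_ker_le_range Z.subtype π (by rw [hker, range_subtype]))

end Cfsg.Agent.S4262
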