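import Cfsg.Statements.S4263
import Cfsg.Agent.GroupStructure3.NormalNilp

set_option autoImplicit false
open Cfsg

namespace Cfsg.Agent.S4263

open GroupStructure3.NormalNilp in
theorem fwd {G : Type*} [Group G] [Finite G] (x : G) (hx : x ∈ Cfsg.fittingSubgroup G)
    (H : Subgroup G) : x ^ H.index ∈ H := by
  haveI : Group.IsNilpotent ↥(Cfsg.fittingSubgroup G) := isNilpotent_sSup_normal
  haveI : (Cfsg.fittingSubgroup G).Normal := Subgroup.sSup_normal _ (fun _ h => h.1)
  have h := pow_index_mem_of_isNilpotent (⟨x, hx⟩ : ↥(Cfsg.fittingSubgroup G))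
    (H.subgroupOf (Cfsg.fittingSubgroup G))
  rw [Subgroup.mem_subgroupOf] at h
  obtain ⟨k, hk⟩ := relIndex_dvd_index_of_normal_right H (Cfsg.fittingSubgroup G)
  rw [hk, pow_mul]
  exact H.pow_mem h k

theorem bwd {G : Type*} [Group G] [Finite G] (x : G) (h : ∀ H : Subgroup G, x ^ H.index ∈ H) :
    x ∈ Cfsg.fittingSubgroup G := by
  -- every primary part of `x` lies in all Sylow subgroups
  have key : ∀ p : ℕ, p.Prime → ∀ y ∈ Subgroup.zpowers x, (∃ k, orderOf y = p ^ k) →
      y ∈ Cfsg.fittingSubgroup G := by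
    intro p hp y hy ⟨k, hk⟩
    haveI : Fact p.Prime := ⟨hp⟩
    have hall : ∀ P : Sylow p G, y ∈ (P : Subgroup G) := by
      intro P
      have hidx : y ^ (P : Subgroup G).index ∈ (P : Subgroup G) := by
        obtain ⟨m, rfl⟩ := hy
        show (x ^ m) ^ (P : Subgroup G).index ∈ _
        rw [← zpow_natCast, ← zpow_mul, mul_comm, zpow_mul, zpow_natCast]
        exact Subgroup.zpow_mem _ (h _) m
      have hc : (orderOf y).Coprime (P : Subgroup G).index := by
        rw [hk]
        exact Nat.Coprime.pow_left _ (hp.coprime_iff_not_dvd.2 P.not_dvd_index)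
      obtain ⟨m, hm⟩ := exists_pow_eq_self_of_coprime hc.symm
      rw [← hm]
      exact Subgroup.pow_mem _ hidx m
    let N : Subgroup G := ⨅ P : Sylow p G, (P : Subgroup G)
    have hN : N.Normal := by
      refine ⟨fun n hn g => ?_⟩
      simp only [N, Subgroup.mem_iInf] at hn ⊢
      intro P
      have := hn (g⁻¹ • P)
      rw [Sylow.coe_subgroup_smul, Subgroup.mem_pointwise_smul_iff_inv_smul_mem] at this
      simpa [MulAut.conj_apply] using this
    have hNnil : Group.IsNilpotent N :=
      (Sylow.isPGroup' (default : Sylow p G)).to_le (iInf_le _ _) |>.isNilpotent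
    have hle : N ≤ Cfsg.fittingSubgroup G := le_sSup ⟨hN, hNnil⟩
    exact hle (Subgroup.mem_iInf.2 hall)
  -- strong induction on the order
  suffices H : ∀ n, ∀ y ∈ Subgroup.zpowers x, orderOf y = n → y ∈ Cfsg.fittingSubgroup G from
    H _ x (Subgroup.mem_zpowers x) rfl
  intro n
  induction n using Nat.recOnPrimeCoprime with
  | zero => intro y _ hy; exact absurd hy (orderOf_pos y).ne'
  | prime_pow p k hp => intro y hy hk; exact key p hp y hy ⟨k, hk⟩
  | coprime a b ha hb hab iha ihb =>
    intro y hy hy'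
    have hb1 : orderOf (y ^ b) = a := by
      rw [orderOf_pow_of_dvd (by omega) (hy' ▸ Dvd.intro_left a rfl), hy',
        Nat.mul_div_cancel _ (by omega)]
    have ha1 : orderOf (y ^ a) = b := by
      rw [orderOf_pow_of_dvd (by omega) (hy' ▸ Dvd.intro b rfl), hy',
        Nat.mul_div_cancel_left _ (by omega)]
    have h1 := iha _ (Subgroup.pow_mem _ hy b) hb1
    have h2 := ihb _ (Subgroup.pow_mem _ hy a) ha1
    have hyy : y = (y ^ b) ^ (Nat.gcdB a b) * (y ^ a) ^ (Nat.gcdA a b) := by
      rw [← zpow_natCast y b, ← zpow_natCast y a, ← zpow_mul, ← zpow_mul, ← zpow_add, add_comm,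
        ← Nat.gcd_eq_gcd_ab, hab, Nat.cast_one, zpow_one]
    rw [hyy]
    exact Subgroup.mul_mem _ (Subgroup.zpow_mem _ h1 _) (Subgroup.zpow_mem _ h2 _)


/-- Let G be a finite group. An element x lies in the Fitting subgroup F(G) if and only if, for every subgroup H of G, the power x^[G : H] lies in H. -/
theorem result {G : Type*} [Group G] [Finite G] (x : G) :
    x ∈ Cfsg.fittingSubgroup G ↔ ∀ H : Subgroup G, x ^ H.index ∈ H := by
  exact ⟨fwd x, bwd x⟩

end Cfsg.Agent.S4263
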