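import Cfsg.Statements.S4264
import Cfsg.Agent.Lib.Counting.PermClasses

set_option autoImplicit false
open Cfsg

namespace Cfsg.Agent.S4264

/-- Let G be a subgroup of the symmetric group of degree d ≥ 1. Then G has at most 5^{d−1} conjugacy classes. -/
theorem result (d : ℕ) (hd : 1 ≤ d) (G : Subgroup (Equiv.Perm (Fin d))) : Nat.card (ConjClasses ↥G) ≤ 5 ^ (d - 1) := by
  haveI : Nonempty (Fin d) := ⟨⟨0, hd⟩⟩
  refine (Counting.PermClasses.card_conjClasses_le_two_pow G).trans ?_
  have h1 : 1 ≤ Counting.PermClasses.orb G := by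
    obtain ⟨x⟩ := (inferInstance : Nonempty (Fin d))
    haveI : Nonempty (MulAction.orbitRel.Quotient G (Fin d)) := ⟨Quotient.mk'' x⟩
    exact Nat.card_pos
  rw [Nat.card_fin]
  exact (Nat.pow_le_pow_right (by norm_num) (by omega)).trans (Nat.pow_le_pow_left (by norm_num) _)

end Cfsg.Agent.S4264
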