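import Cfsg.Statements.S4265
import Cfsg.Agent.LinClasses.Main

set_option autoImplicit false
open Cfsg

namespace Cfsg.Agent.S4265

/-- Let G be a finite solvable subgroup of GL_r(ℂ), r ≥ 1, with Fitting subgroup F(G) normal in G. Then for every subgroup H of G the quotient H/(H ∩ F(G)) has at most 3^{r−1} conjugacy classes. -/
theorem result (r : ℕ) (hr : 1 ≤ r) (G : Subgroup (GL (Fin r) ℂ)) [Finite ↥G] (hsolv : Group.IsSolvable ↥G) [hF : (Cfsg.fittingSubgroup ↥G).Normal] (H : Subgroup ↥G) : Nat.card (ConjClasses (↥H ⧸ (Cfsg.fittingSubgroup ↥G).subgroupOf H)) ≤ 3 ^ (r - 1) := by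
  haveI := hsolv
  let ρ : Representation ℂ ↥G (Fin r → ℂ) :=
    (Matrix.toLinAlgEquiv' : Matrix (Fin r) (Fin r) ℂ ≃ₐ[ℂ] Module.End ℂ (Fin r → ℂ)).toMonoidHom.comp
      ((Units.coeHom _).comp G.subtype)
  have hinj : Function.Injective ρ := fun a b h =>
    Subtype.ext (Units.ext ((Matrix.toLinAlgEquiv' : Matrix (Fin r) (Fin r) ℂ ≃ₐ[ℂ] _).injective h))
  have hb := LinClasses.mainAt r hr ↥G (Fin r → ℂ) ρ hsolv hinj (Module.finrank_fin_fun ℂ)
  let φ := (QuotientGroup.mk' (Cfsg.fittingSubgroup ↥G)).comp H.subtype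
  have hker : φ.ker = (Cfsg.fittingSubgroup ↥G).subgroupOf H := by
    ext x
    simp [φ, Subgroup.mem_subgroupOf]
  let e : φ.range ≃* ↥H ⧸ (Cfsg.fittingSubgroup ↥G).subgroupOf H :=
    (QuotientGroup.quotientKerEquivRange φ).symm.trans (QuotientGroup.quotientMulEquivOfEq hker)
  exact (ClassNumber.card_conjClasses_le_of_surjective e.toMonoidHom e.surjective).trans
    (hb φ.range)

end Cfsg.Agent.S4265
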