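import Cfsg.Statements.S4269
import Cfsg.Agent.Lib.Coprime.Basic
import Mathlib

set_option autoImplicit false
open Cfsg

namespace Cfsg.Agent.S4269

theorem mem_normalizer_of_map_conj {G : Type*} [Group G] {W : Subgroup G} {g : G}
    (h : W.map (MulAut.conj g).toMonoidHom = W) : g ∈ Subgroup.normalizer (W : Set G) := by
  rw [Subgroup.mem_normalizer_iff]
  intro w
  constructor
  · intro hw
    rw [← h]
    exact ⟨w, hw, rfl⟩
  · intro hw
    obtain ⟨w', hw', e⟩ := h.symm ▸ hw
    have e' : w' = w := (MulAut.conj g).injective e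
    rwa [← e']

theorem map_conj_eq {G : Type*} [Group G] {W : Subgroup G} {g : G}
    (h : ∀ w ∈ W, g * w * g⁻¹ ∈ W) (h' : ∀ w ∈ W, g⁻¹ * w * g ∈ W) :
    W.map (MulAut.conj g).toMonoidHom = W := by
  refine le_antisymm ?_ fun w hw => ⟨g⁻¹ * w * g, h' w hw, ?_⟩
  · rintro _ ⟨w, hw, rfl⟩
    exact h w hw
  · show g * (g⁻¹ * w * g) * g⁻¹ = w
    group


/-- Let G be a finite group, V an abelian normal subgroup and H a subgroup with HV = G. Then H is pronormal in G (H and gHg⁻¹ are conjugate inside the subgroup they generate, for every g) if and only if every H-invariant subgroup U of V satisfies U = N_U(H)·[H, U], that is, U is the join of U ∩ N_G(H) and the commutator subgroup [H, U]. -/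
theorem result {G : Type*} [Group G] [Finite G]
    (V : Subgroup G) [V.Normal] (hV : IsMulCommutative ↥V) (H : Subgroup G) (hHV : H ⊔ V = ⊤) :
    Cfsg.IsPronormal H ↔
      ∀ U : Subgroup G, U ≤ V → (∀ h ∈ H, U.map (MulAut.conj h).toMonoidHom = U) →
        U = (U ⊓ Subgroup.normalizer (H : Set G)) ⊔ ⁅H, U⁆ := by
  have hc : ∀ a ∈ V, ∀ b ∈ V, a * b = b * a := fun a ha b hb =>
    congrArg Subtype.val (hV.is_comm.comm (⟨a, ha⟩ : V) ⟨b, hb⟩)
  have hHconj : ∀ h ∈ H, H.map (MulAut.conj h).toMonoidHom = H := fun h hh =>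
    map_conj_eq (fun w hw => mul_mem (mul_mem hh hw) (inv_mem hh))
      (fun w hw => mul_mem (mul_mem (inv_mem hh) hw) hh)
  constructor
  · intro hpro U hUV hU
    set W := ⁅H, U⁆ with hW
    have hWU : W ≤ U := by
      rw [hW, Subgroup.commutator_le]
      intro a ha u hu
      rw [commutatorElement_def]
      refine mul_mem ?_ (inv_mem hu)
      rw [← hU a ha]
      exact ⟨u, hu, rfl⟩
    refine le_antisymm (fun u hu => ?_) (sup_le inf_le_left hWU)
    obtain ⟨x, hx, hxe⟩ := hpro u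
    have hJ : H ⊔ H.map (MulAut.conj u).toMonoidHom ≤ W ⊔ H := by
      refine sup_le le_sup_right ?_
      rintro _ ⟨a, ha, rfl⟩
      have h0 := Subgroup.commutator_mem_commutator ha hu
      rw [← hW] at h0
      have h1 := Subgroup.mul_mem_sup (inv_mem h0) ha
      simpa [commutatorElement_def, mul_assoc] using h1
    have hHW : H ≤ Subgroup.normalizer (W : Set G) := fun a ha =>
      mem_normalizer_of_map_conj (by rw [hW, Subgroup.map_commutator, hHconj a ha, hU a ha])
    obtain ⟨w, hw, a, ha, rfl⟩ := (Cfsg.Agent.Coprime.mem_sup_of_le_normalizer hHW).mp (hJ hx)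
    have hn : w⁻¹ * u ∈ Subgroup.normalizer (H : Set G) := by
      refine mem_normalizer_of_map_conj (map_conj_eq (fun z hz => ?_) (fun z hz => ?_))
      · obtain ⟨z', hz', e⟩ := (SetLike.ext_iff.1 hxe (u * z * u⁻¹)).1 ⟨z, hz, rfl⟩
        have e' : w * a * z' * (w * a)⁻¹ = u * z * u⁻¹ := e
        have h2 : w⁻¹ * u * z * (w⁻¹ * u)⁻¹ = a * z' * a⁻¹ := by
          calc _ = w⁻¹ * (u * z * u⁻¹) * w := by group
            _ = _ := by rw [← e']; group
        rw [h2]
        exact mul_mem (mul_mem ha hz') (inv_mem ha)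
      · obtain ⟨z', hz', e⟩ := (SetLike.ext_iff.1 hxe (w * a * (a⁻¹ * z * a) * (w * a)⁻¹)).2
          ⟨a⁻¹ * z * a, mul_mem (mul_mem (inv_mem ha) hz) ha, rfl⟩
        have e' : u * z' * u⁻¹ = w * a * (a⁻¹ * z * a) * (w * a)⁻¹ := e
        have h2 : (w⁻¹ * u)⁻¹ * z * (w⁻¹ * u) = z' := by
          calc _ = u⁻¹ * (w * a * (a⁻¹ * z * a) * (w * a)⁻¹) * u := by group
            _ = z' := by rw [← e']; group
        rw [h2]
        exact hz'
    have hwU : w ∈ U := hWU hw
    have hmem : w⁻¹ * u ∈ U ⊓ Subgroup.normalizer (H : Set G) :=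
      Subgroup.mem_inf.2 ⟨mul_mem (inv_mem hwU) hu, hn⟩
    rw [show u = (w⁻¹ * u) * w by rw [hc _ (hUV (mul_mem (inv_mem hwU) hu)) _ (hUV hwU), mul_inv_cancel_left]]
    exact Subgroup.mul_mem_sup hmem hw
  · intro hcond g
    have hg : g ∈ V ⊔ H := by rw [sup_comm, hHV]; exact Subgroup.mem_top g
    obtain ⟨v, hv, a, ha, rfl⟩ := Subgroup.mem_sup_of_normal_left.1 hg
    have hvH : H.map (MulAut.conj (v * a)).toMonoidHom = H.map (MulAut.conj v).toMonoidHom := by
      conv_rhs => rw [← hHconj a ha, Subgroup.map_map]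
      congr 1
      ext z
      simp [mul_assoc]
    rw [hvH]
    set J := H ⊔ H.map (MulAut.conj v).toMonoidHom
    let S : Subgroup G :=
      { carrier := {u | u ∈ V ∧ ∀ h ∈ H, h * u * h⁻¹ * u⁻¹ ∈ J}
        one_mem' := ⟨one_mem V, fun h _ => by simp⟩
        mul_mem' := fun {x y} hx hy => ⟨mul_mem hx.1 hy.1, fun h hh => by
          have hyv : h * y * h⁻¹ * y⁻¹ ∈ V :=
            mul_mem (‹V.Normal›.conj_mem y hy.1 h) (inv_mem hy.1)
          have e : h * (x * y) * h⁻¹ * (x * y)⁻¹ =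
              (h * x * h⁻¹) * (h * y * h⁻¹ * y⁻¹) * x⁻¹ := by group
          rw [e, mul_assoc, hc _ hyv _ (inv_mem hx.1), ← mul_assoc]
          exact mul_mem (hx.2 h hh) (hy.2 h hh)⟩
        inv_mem' := fun {x} hx => ⟨inv_mem hx.1, fun h hh => by
          have hxv : h * x⁻¹ * h⁻¹ ∈ V := ‹V.Normal›.conj_mem _ (inv_mem hx.1) h
          rw [inv_inv, hc _ hxv _ hx.1]
          have := inv_mem (hx.2 h hh)
          simpa [mul_inv_rev, mul_assoc] using this⟩ }
    have hSinv : ∀ a ∈ H, ∀ u ∈ S, a * u * a⁻¹ ∈ S := fun a ha u hu =>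
      ⟨‹V.Normal›.conj_mem _ hu.1 a, fun h hh => by
        have h1 := mul_mem (mul_mem (Subgroup.mem_sup_left ha : a ∈ J)
          (hu.2 (a⁻¹ * h * a) (mul_mem (mul_mem (inv_mem ha) hh) ha)))
          (inv_mem (Subgroup.mem_sup_left ha : a ∈ J))
        convert h1 using 1
        group⟩
    have hSeq := hcond S (fun u hu => hu.1) fun a ha =>
      map_conj_eq (hSinv a ha) fun u hu => by simpa using hSinv a⁻¹ (inv_mem ha) u hu
    have hvS : v ∈ S := ⟨hv, fun h hh => by
      have := mul_mem (Subgroup.mem_sup_left hh : h ∈ J)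
        (Subgroup.mem_sup_right (show v * h⁻¹ * v⁻¹ ∈ H.map (MulAut.conj v).toMonoidHom from
          ⟨h⁻¹, inv_mem hh, rfl⟩) : v * h⁻¹ * v⁻¹ ∈ J)
      simpa [J, mul_assoc] using this⟩
    have hWS : ⁅H, S⁆ ≤ S := by
      rw [Subgroup.commutator_le]
      intro a ha u hu
      rw [commutatorElement_def]
      exact mul_mem (hSinv a ha u hu) (inv_mem hu)
    have hWJ : ⁅H, S⁆ ≤ J := by
      rw [Subgroup.commutator_le]
      intro a ha u hu
      rw [commutatorElement_def]
      exact hu.2 a ha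
    have hSV : ∀ z ∈ S, z ∈ V := fun z hz => hz.1
    have hcomm' : S ⊓ Subgroup.normalizer (H : Set G) ≤ Subgroup.normalizer ((⁅H, S⁆ : Subgroup G) : Set G) := by
      intro n hn
      refine mem_normalizer_of_map_conj (map_conj_eq (fun w hw => ?_) (fun w hw => ?_))
      · rw [hc _ (hSV _ hn.1) _ (hSV _ (hWS hw)), mul_inv_cancel_right]; exact hw
      · rw [mul_assoc, hc _ (hSV _ (hWS hw)) _ (hSV _ hn.1), inv_mul_cancel_left]; exact hw
    rw [hSeq, sup_comm] at hvS
    obtain ⟨w, hw, n, hn, rfl⟩ := (Cfsg.Agent.Coprime.mem_sup_of_le_normalizer hcomm').mp hvS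
    refine ⟨w, hWJ hw, ?_⟩
    have hnH : H.map (MulAut.conj n).toMonoidHom = H := by
      have hn' := (Subgroup.mem_inf.1 hn).2
      exact map_conj_eq (fun z hz => (Subgroup.mem_normalizer_iff.1 hn' z).1 hz)
        fun z hz => (Subgroup.mem_normalizer_iff''.1 hn' z).1 hz
    conv_rhs => rw [← hnH, Subgroup.map_map]
    congr 1
    ext z
    simp [mul_assoc]

end Cfsg.Agent.S4269
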