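import Cfsg.Statements.S4275

set_option autoImplicit false
open Cfsg

namespace Cfsg.Agent.S4275

open MulAction

/-- Let G be a transitive group of permutations of a finite set Ω, let o ∈ Ω, and let α be an automorphism of G. Then α is induced by conjugation by a permutation of Ω normalizing G if and only if the image under α of the stabilizer of o fixes some point of Ω. -/
theorem result {Ω : Type*} [Fintype Ω] (G : Subgroup (Equiv.Perm Ω)) (htr : MulAction.IsPretransitive G Ω) (o : Ω) (α : G ≃* G) : (∃ σ : Equiv.Perm Ω, σ ∈ Subgroup.normalizer (G : Set (Equiv.Perm Ω)) ∧ ∀ g : G, ((α g : G) : Equiv.Perm Ω) = σ * (g : Equiv.Perm Ω) * σ⁻¹) ↔ ∃ ω : Ω, ∀ g ∈ (MulAction.stabilizer G o).map α.toMonoidHom, g • ω = ω := by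
  classical
  constructor
  · rintro ⟨σ, -, hσ⟩
    refine ⟨σ o, ?_⟩
    rintro _ ⟨g, hg, rfl⟩
    show ((α g : G) : Equiv.Perm Ω) (σ o) = σ o
    rw [hσ g]
    simp only [Equiv.Perm.mul_apply, Equiv.Perm.inv_def, Equiv.symm_apply_apply]
    exact congrArg σ (mem_stabilizer_iff.1 hg)
  · rintro ⟨ω, hω⟩
    choose k hk using fun v : Ω => exists_smul_eq G o v
    have hwd : ∀ g h : G, g • o = h • o → α g • ω = α h • ω := by
      intro g h e
      have h1 : g⁻¹ * h ∈ stabilizer G o := by
        rw [mem_stabilizer_iff, mul_smul, ← e, inv_smul_smul]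
      have h2 := hω _ (Subgroup.mem_map_of_mem α.toMonoidHom h1)
      rw [MulEquiv.coe_toMonoidHom, map_mul, map_inv, mul_smul, inv_smul_eq_iff] at h2
      exact h2.symm
    let f : Ω → Ω := fun v => α (k v) • ω
    have hf : ∀ g : G, f (g • o) = α g • ω := fun g => hwd _ _ (hk _)
    have hsurj : Function.Surjective f := by
      intro v
      obtain ⟨g, hg⟩ := exists_smul_eq G ω v
      exact ⟨α.symm g • o, by rw [hf, α.apply_symm_apply, hg]⟩
    let σ : Equiv.Perm Ω := Equiv.ofBijective f (Finite.surjective_iff_bijective.1 hsurj)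
    have hconj : ∀ g : G, ((α g : G) : Equiv.Perm Ω) = σ * (g : Equiv.Perm Ω) * σ⁻¹ := by
      intro g
      rw [eq_mul_inv_iff_mul_eq]
      ext v
      rw [← hk v]
      show α g • f (k v • o) = f (g • (k v • o))
      rw [hf, ← mul_smul, ← mul_smul, hf, map_mul]
    refine ⟨σ, ?_, hconj⟩
    rw [Subgroup.mem_normalizer_iff]
    intro n
    refine ⟨fun hn => ?_, fun hn => ?_⟩
    · have := hconj ⟨n, hn⟩
      rw [← this]
      exact (α ⟨n, hn⟩).2
    · have := hconj (α.symm ⟨_, hn⟩)
      rw [α.apply_symm_apply] at this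
      have h2 : n = ((α.symm ⟨_, hn⟩ : G) : Equiv.Perm Ω) :=
        mul_left_cancel (mul_right_cancel this)
      rw [h2]
      exact (α.symm _).2

end Cfsg.Agent.S4275
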