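import Cfsg.Statements.S4279
import Cfsg.Agent.GroupStructure3.G2Inv.Involutions

set_option autoImplicit false
open Cfsg

namespace Cfsg.Agent.S4279

open Cfsg.Agent.GroupStructure3.G2Inv in
theorem core {F : Type*} [Field F] [Fintype F] (hF : Odd (Fintype.card F))
    (t : ↥(Cfsg.Lie.chevG2.group F)) (g : ↥(Cfsg.Lie.chevG2.group F))
    (hg : (g : A F) * t₀ * (g : A F)⁻¹ = (t : A F)) :
    Nat.card (Subgroup.centralizer ({t} : Set ↥(Cfsg.Lie.chevG2.group F))) = Fintype.card F ^ 2 * (Fintype.card F ^ 2 - 1) ^ 2 ∧ ∃ L₁ L₂ : Subgroup ↥(Cfsg.Lie.chevG2.group F), Nonempty (L₁ ≃* Matrix.SpecialLinearGroup (Fin 2) F) ∧ Nonempty (L₂ ≃* Matrix.SpecialLinearGroup (Fin 2) F) ∧ (∀ x ∈ L₁, ∀ y ∈ L₂, x * y = y * x) ∧ L₁ ⊓ L₂ = Subgroup.zpowers t ∧ L₁ ⊔ L₂ ≤ Subgroup.centralizer ({t} : Set ↥(Cfsg.Lie.chevG2.group F)) ∧ (L₁ ⊔ L₂).relIndex (Subgroup.centralizer ({t} : Set ↥(Cfsg.Lie.chevG2.group F))) = 2 := by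
  have h2 := two_ne F hF
  let c := (MulAut.conj g).toMonoidHom
  have hc : Function.Injective c := (MulAut.conj g).injective
  let θ := c.comp ((φ (F := F)).codRestrict (Cfsg.Lie.chevG2.group F) φ_mem_group)
  let θ₁ := θ.comp (MonoidHom.inl _ _)
  let θ₂ := θ.comp (MonoidHom.inr _ _)
  have hθ : ∀ p, ((θ p : ↥(Cfsg.Lie.chevG2.group F)) : A F) = g * φ p * (g : A F)⁻¹ := fun _ => rfl
  have h1 : ∀ a, θ₁ a = θ (a, 1) := fun _ => rfl
  have h2' : ∀ a, θ₂ a = θ (1, a) := fun _ => rfl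
  have hi₁ : Function.Injective θ₁ := by
    intro a b e
    have e' := congrArg Subtype.val e
    rw [h1, h1, hθ, hθ, mul_left_inj, mul_right_inj, φ_apply, φ_apply] at e'
    exact φ₁_injective (mul_right_cancel e')
  have hi₂ : Function.Injective θ₂ := by
    intro a b e
    have e' := congrArg Subtype.val e
    rw [h2', h2', hθ, hθ, mul_left_inj, mul_right_inj, φ_apply, φ_apply] at e'
    exact φ₂_injective (mul_left_cancel e')
  have ht₁ : θ₁ (-1) = t := Subtype.ext (by rw [h1, hθ, φ_apply, map_one, mul_one]; exact hg)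
  have ht₂ : θ₂ (-1) = t := Subtype.ext (by
    rw [h2', hθ, φ_apply, map_one, one_mul, φ₂_neg_one]; exact hg)
  have hC : Subgroup.centralizer ({t} : Set ↥(Cfsg.Lie.chevG2.group F)) =
      ((MM F).subgroupOf (Cfsg.Lie.chevG2.group F)).map c := by
    ext x
    have key : g⁻¹ * x * g ∈ (MM F).subgroupOf (Cfsg.Lie.chevG2.group F) ↔
        x ∈ Subgroup.centralizer ({t} : Set ↥(Cfsg.Lie.chevG2.group F)) := by
      rw [Subgroup.mem_subgroupOf, mem_MM_iff_commute h2, Subgroup.mem_centralizer_singleton_iff,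
        Subtype.ext_iff]
      simp only [Subgroup.coe_mul, Subgroup.coe_inv, ← hg, Commute, SemiconjBy]
      refine ⟨fun h => ?_, fun h => ⟨(g⁻¹ * x * g).2, ?_⟩⟩
      · have h := h.2
        generalize (g : A F) = γ at h ⊢
        generalize (x : A F) = ξ at h ⊢
        calc ξ * (γ * t₀ * γ⁻¹) = γ * ((γ⁻¹ * ξ * γ) * t₀) * γ⁻¹ := by group
          _ = _ := by rw [h]; group
      · generalize (g : A F) = γ at h ⊢
        generalize (x : A F) = ξ at h ⊢
        calc γ⁻¹ * ξ * γ * t₀ = γ⁻¹ * (ξ * (γ * t₀ * γ⁻¹)) * γ := by group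
          _ = _ := by rw [h]; group
    rw [← key, Subgroup.mem_map]
    constructor
    · exact fun h => ⟨_, h, by show g * (g⁻¹ * x * g) * g⁻¹ = x; group⟩
    · rintro ⟨y, hy, rfl⟩
      show g⁻¹ * (g * y * g⁻¹) * g ∈ _
      rwa [show g⁻¹ * (g * y * g⁻¹) * g = y by group]
  have hsup : θ₁.range ⊔ θ₂.range =
      ((φ (F := F)).range.subgroupOf (Cfsg.Lie.chevG2.group F)).map c := by
    refine le_antisymm (sup_le ?_ ?_) ?_
    · rintro _ ⟨a, rfl⟩
      exact ⟨_, Subgroup.mem_subgroupOf.2 ⟨(a, 1), rfl⟩, rfl⟩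
    · rintro _ ⟨a, rfl⟩
      exact ⟨_, Subgroup.mem_subgroupOf.2 ⟨(1, a), rfl⟩, rfl⟩
    · rintro _ ⟨y, hy, rfl⟩
      obtain ⟨⟨a, b⟩, hab⟩ := Subgroup.mem_subgroupOf.1 hy
      have : c y = θ₁ a * θ₂ b := by
        rw [h1, h2', ← map_mul, Prod.mk_mul_mk, mul_one, one_mul]
        exact congrArg c (Subtype.ext hab.symm)
      rw [this]
      exact mul_mem (Subgroup.mem_sup_left ⟨a, rfl⟩) (Subgroup.mem_sup_right ⟨b, rfl⟩)
  refine ⟨?_, θ₁.range, θ₂.range, ⟨(MonoidHom.ofInjective hi₁).symm⟩,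
    ⟨(MonoidHom.ofInjective hi₂).symm⟩, ?_, ?_, ?_, ?_⟩
  · rw [hC, ← Nat.card_congr (Subgroup.equivMapOfInjective _ c hc).toEquiv,
      Nat.card_congr (Subgroup.subgroupOfEquivOfLe MM_le_group).toEquiv, card_MM h2]
    ring
  · rintro _ ⟨a, rfl⟩ _ ⟨b, rfl⟩
    rw [h1, h2', ← map_mul, ← map_mul, Prod.mk_mul_mk, Prod.mk_mul_mk]
    simp
  · refine le_antisymm ?_ ?_
    · rintro x ⟨⟨a, rfl⟩, b, hb⟩
      have e : θ (a, b⁻¹) = 1 := by
        rw [show (a, b⁻¹) = (a, (1 : Matrix.SpecialLinearGroup (Fin 2) F)) * ((1 : Matrix.SpecialLinearGroup (Fin 2) F), b⁻¹) by simp,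
          map_mul, ← h1, ← h2', ← hb, map_inv, mul_inv_cancel]
      have e' := congrArg Subtype.val e
      rw [hθ] at e'
      have e'' : φ (a, b⁻¹) = 1 := by
        calc φ (a, b⁻¹) = (g : A F)⁻¹ * (g * φ (a, b⁻¹) * (g : A F)⁻¹) * g := by group
          _ = 1 := by rw [e']; simp
      rcases φ_eq_one e'' with ⟨rfl, -⟩ | ⟨rfl, -⟩
      · rw [map_one]; exact one_mem _
      · rw [ht₁]; exact Subgroup.mem_zpowers t
    · rw [Subgroup.zpowers_le]
      exact ⟨⟨-1, ht₁⟩, ⟨-1, ht₂⟩⟩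
  · rw [hsup, hC]
    exact Subgroup.map_mono fun x hx => Subgroup.mem_sup_left (Subgroup.mem_subgroupOf.1 hx)
  · rw [hsup, hC, Subgroup.relIndex_map_map_of_injective _ _ hc,
      ← Subgroup.relIndex_map_map_of_injective _ _ (Cfsg.Lie.chevG2.group F).subtype_injective,
      Subgroup.map_subgroupOf_eq_of_le (le_trans le_sup_left MM_le_group),
      Subgroup.map_subgroupOf_eq_of_le MM_le_group, relIndex_range h2]

/-- In the Chevalley group G of type G₂ over a finite field F of odd order q, the centralizer of an involution t has order q²(q² − 1)² and contains two elementwise commuting subgroups, each isomorphic to SL(2, F), which meet exactly in the subgroup generated by t and whose join has index 2 in the centralizer. -/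
theorem result {F : Type*} [Field F] [Fintype F] (hF : Odd (Fintype.card F)) (t : ↥(Cfsg.Lie.chevG2.group F)) (ht : orderOf t = 2) : Nat.card (Subgroup.centralizer ({t} : Set ↥(Cfsg.Lie.chevG2.group F))) = Fintype.card F ^ 2 * (Fintype.card F ^ 2 - 1) ^ 2 ∧ ∃ L₁ L₂ : Subgroup ↥(Cfsg.Lie.chevG2.group F), Nonempty (L₁ ≃* Matrix.SpecialLinearGroup (Fin 2) F) ∧ Nonempty (L₂ ≃* Matrix.SpecialLinearGroup (Fin 2) F) ∧ (∀ x ∈ L₁, ∀ y ∈ L₂, x * y = y * x) ∧ L₁ ⊓ L₂ = Subgroup.zpowers t ∧ L₁ ⊔ L₂ ≤ Subgroup.centralizer ({t} : Set ↥(Cfsg.Lie.chevG2.group F)) ∧ (L₁ ⊔ L₂).relIndex (Subgroup.centralizer ({t} : Set ↥(Cfsg.Lie.chevG2.group F))) = 2 := by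
  obtain ⟨g, hg, e⟩ := (Cfsg.Agent.GroupStructure3.G2Inv.involution_conj hF t ht).symm
  exact core hF t ⟨g, hg⟩ e

end Cfsg.Agent.S4279
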