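import Cfsg.Statements.S4282
import Cfsg.Agent.Lib.PLocal.TheoremB.Critical

set_option autoImplicit false
open Cfsg

namespace Cfsg.Agent.S4282

/-- A critical case behind the Hall–Higman theorem. Let p ≠ q be primes and G a finite group generated by a normal q-subgroup Q and a cyclic p-subgroup generated by x, such that the centralizer of every non-identity element of that cyclic subgroup is its product with the centre of G. Let K be an algebraically closed field of characteristic p and ρ a faithful representation of G on a nonzero finite-dimensional K-space whose restriction to Q is irreducible. If s is the least exponent with (ρ(x) − 1)^s = 0, then |⟨x⟩| − 1 ≤ s ≤ |⟨x⟩|; and if s = |⟨x⟩| − 1 then |⟨x⟩| − 1 is a power of q and Q is non-abelian. -/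
theorem result {G : Type*} [Group G] [Finite G] (p q : ℕ) [Fact p.Prime] [Fact q.Prime] (hpq : p ≠ q) (Q : Subgroup G) [Q.Normal] (hQ : IsPGroup q Q) (x : G) (hx : IsPGroup p (Subgroup.zpowers x)) (hgen : Q ⊔ Subgroup.zpowers x = ⊤) (hC : ∀ y ∈ Subgroup.zpowers x, y ≠ 1 → Subgroup.centralizer ({y} : Set G) = Subgroup.zpowers x ⊔ Subgroup.center G) {K : Type*} [Field K] [IsAlgClosed K] [CharP K p] {V : Type*} [AddCommGroup V] [Module K V] [FiniteDimensional K V] [Nontrivial V] (ρ : Representation K G V) (hfaith : Function.Injective ρ) (hirr : ∀ W : Submodule K V, (∀ g ∈ Q, Submodule.map (ρ g) W ≤ W) → W = ⊥ ∨ W = ⊤) (s : ℕ) (hs : (ρ x - 1) ^ s = 0) (hmin : ∀ k < s, (ρ x - 1) ^ k ≠ 0) : Nat.card (Subgroup.zpowers x) - 1 ≤ s ∧ s ≤ Nat.card (Subgroup.zpowers x) ∧ (s = Nat.card (Subgroup.zpowers x) - 1 → (∃ b : ℕ, Nat.card (Subgroup.zpowers x) - 1 = q ^ b) ∧ ¬ IsMulCommutative Q) := by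
  open Cfsg.Agent.PLocal.TheoremB in
  obtain ⟨n, hn⟩ := hx.exists_card_eq
  have hord : orderOf x = p ^ n := by rw [← Nat.card_zpowers, hn]
  rw [hn]
  have hqirr : QIrred (K := K) (V := V) ρ Q := fun W hW => hirr W fun g hg => by
    rintro _ ⟨w, hw, rfl⟩
    exact hW g hg w hw
  rcases Nat.eq_zero_or_pos n with rfl | hn1
  · have h1 : x = 1 := by rwa [pow_zero, orderOf_eq_one_iff] at hord
    have hs0 : s ≠ 0 := by
      rintro rfl
      rw [pow_zero] at hs
      exact one_ne_zero hs
    have hs1 : s ≤ 1 := by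
      by_contra h
      refine hmin 1 (by omega) ?_
      rw [pow_one, h1, map_one, sub_self]
    rw [pow_zero]
    exact ⟨by omega, hs1, fun h => by omega⟩
  refine Critical.critical (ρ := ρ) hQ hpq hqirr hord (fun g hg => ?_) hfaith ?_ hn1 s hs hmin
  · exact (inferInstance : Q.Normal).conj_mem g hg x
  intro i hi0 hi g hg hgS hfix
  have hne : x ^ i ≠ 1 := fun h => by
    have := Nat.le_of_dvd (Nat.pos_of_ne_zero hi0) (orderOf_dvd_of_pow_eq_one h)
    omega
  have hmem : g ∈ Subgroup.zpowers x ⊔ Subgroup.center G := by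
    rw [← hC _ (pow_mem (Subgroup.mem_zpowers x) i) hne, Subgroup.mem_centralizer_singleton_iff]
    exact (mul_inv_eq_iff_eq_mul.mp hfix).symm
  obtain ⟨a, ha, z, hz, rfl⟩ := Subgroup.mem_sup_of_normal_right.mp hmem
  set π := QuotientGroup.mk' (Subgroup.center G) with hπ
  have heq : π (a * z) = π a := by
    rw [map_mul, show π z = 1 from (QuotientGroup.eq_one_iff z).mpr hz, mul_one]
  obtain ⟨u, hu⟩ := hQ ⟨a * z, hg⟩
  obtain ⟨v, hv⟩ := hx ⟨a, ha⟩
  have h1 : π a ^ q ^ u = 1 := by
    rw [← heq, ← map_pow, show (a * z) ^ q ^ u = 1 from congrArg Subtype.val hu, map_one]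
  have h2 : π a ^ p ^ v = 1 := by rw [← map_pow, show a ^ p ^ v = 1 from congrArg Subtype.val hv, map_one]
  have h3 : π a = 1 := by
    have h := pow_gcd_eq_one.mpr ⟨h1, h2⟩
    rwa [show Nat.gcd (q ^ u) (p ^ v) = 1 from
      Nat.Coprime.pow _ _ ((Nat.coprime_primes Fact.out Fact.out).mpr hpq.symm), pow_one] at h
  have hzc : a * z ∈ Subgroup.center G := mul_mem ((QuotientGroup.eq_one_iff a).mp h3) hz
  exact hgS (schur hqirr _ fun k _ => Commute.map (show Commute (a * z) k from (Subgroup.mem_center_iff.mp hzc k).symm) ρ)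

end Cfsg.Agent.S4282
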