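import Cfsg.Statements.S4283
import Cfsg.Agent.Lib.Characters.Frobenius

set_option autoImplicit false
open Cfsg

namespace Cfsg.Agent.S4283

open Cfsg.Agent.Characters
open scoped Pointwise

theorem coprime_card_index {Q : Type*} [Group Q] [Finite Q] (H : Subgroup Q)
    (hH : Cfsg.IsFrobeniusComplement H) : (Nat.card H).Coprime H.index := by
  rw [Nat.coprime_iff_gcd_eq_one]
  by_contra h
  obtain ⟨p, hp, hpdvd⟩ := Nat.exists_prime_and_dvd h
  haveI := Fact.mk hp
  obtain ⟨⟨x, hx⟩, hxo⟩ := exists_prime_orderOf_dvd_card' p (hpdvd.trans (Nat.gcd_dvd_left _ _))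
  rw [Subgroup.orderOf_mk] at hxo
  have hP : IsPGroup p (Subgroup.zpowers x) := by
    refine IsPGroup.of_card (n := 1) ?_
    rw [Nat.card_zpowers, hxo, pow_one]
  have hfix : MulAction.fixedPoints (Subgroup.zpowers x) (Q ⧸ H) = {((1 : Q) : Q ⧸ H)} := by
    ext c
    refine ⟨fun hc => ?_, fun hc => ?_⟩
    · obtain ⟨g, rfl⟩ := QuotientGroup.mk_surjective c
      have h1 : ((x * g : Q) : Q ⧸ H) = g := hc ⟨x, Subgroup.mem_zpowers x⟩
      have h2 : g⁻¹ * x * g ∈ H := by
        rw [mul_assoc]
        exact QuotientGroup.eq.1 h1.symm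
      have hg : g ∈ H := mem_of_frobenius_meet hH hx h2 fun e => by
        rw [e, orderOf_one] at hxo
        exact hp.one_lt.ne hxo
      exact QuotientGroup.eq.2 (by simpa using hg)
    · rw [Set.mem_singleton_iff] at hc
      subst hc
      rintro ⟨y, hy⟩
      obtain ⟨n, rfl⟩ := Subgroup.mem_zpowers_iff.1 hy
      show ((x ^ n * 1 : Q) : Q ⧸ H) = _
      exact QuotientGroup.eq.2 (by simpa using H.zpow_mem hx (-n))
  have hmod := hP.card_modEq_card_fixedPoints (Q ⧸ H)
  rw [hfix, Nat.card_coe_set_eq, Set.ncard_singleton, ← Subgroup.index] at hmod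
  have h0 := (Nat.modEq_zero_iff_dvd.2 (hpdvd.trans (Nat.gcd_dvd_right _ _)))
  exact hp.one_lt.ne' (Nat.dvd_one.1 (Nat.modEq_zero_iff_dvd.1 (hmod.symm.trans h0)))


/-- Let G be a finite group with centre Z and let K, H be abelian subgroups of G containing Z such that G/Z is a Frobenius group with complement H/Z and kernel K/Z. Then the conjugacy class sizes of G are exactly 1, [G : K] and [G : H], and these two indices are coprime. (This is the converse half of the characterization of finite groups whose conjugacy class sizes are exactly 1, m and n with m and n coprime.) -/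
theorem result {G : Type*} [Group G] [Finite G] (K H : Subgroup G) (hZK : Subgroup.center G ≤ K) (hZH : Subgroup.center G ≤ H) (hK : IsMulCommutative K) (hH : IsMulCommutative H) (hFrob : Cfsg.IsFrobeniusComplement (H.map (QuotientGroup.mk' (Subgroup.center G)))) (hker : Cfsg.frobeniusKernel (H.map (QuotientGroup.mk' (Subgroup.center G))) = (K.map (QuotientGroup.mk' (Subgroup.center G)) : Set (G ⧸ Subgroup.center G))) : Set.range (fun x : G => (Subgroup.centralizer ({x} : Set G)).index) = ({1, K.index, H.index} : Set ℕ) ∧ K.index.Coprime H.index := by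
  classical
  set π := QuotientGroup.mk' (Subgroup.center G) with hπdef
  set Hb := H.map π with hHb
  have hπ : Function.Surjective π := QuotientGroup.mk'_surjective _
  have hkerπ : π.ker = Subgroup.center G := QuotientGroup.ker_mk' _
  have hmemH : ∀ x, π x ∈ Hb → x ∈ H := by
    intro x hx
    obtain ⟨h, hh, he⟩ := Subgroup.mem_map.1 hx
    have : h⁻¹ * x ∈ H := hZH (by rw [← hkerπ, MonoidHom.mem_ker, map_mul, map_inv, he, inv_mul_cancel])
    simpa using H.mul_mem hh this
  have hmemK : ∀ x, π x ∈ K.map π → x ∈ K := by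
    intro x hx
    obtain ⟨h, hh, he⟩ := Subgroup.mem_map.1 hx
    have : h⁻¹ * x ∈ K := hZK (by rw [← hkerπ, MonoidHom.mem_ker, map_mul, map_inv, he, inv_mul_cancel])
    simpa using K.mul_mem hh this
  have hzero : ∀ x, x ∉ Subgroup.center G → π x ≠ 1 := fun x hx e =>
    hx (by rw [← hkerπ]; exact e)
  have hKk : ∀ q, q ∈ Cfsg.frobeniusKernel Hb ↔ q ∈ K.map π := fun q => by
    rw [hker]; rfl
  have hcardK : Nat.card (K.map π) = Hb.index := by
    rw [← card_frobeniusKernel hFrob, hker]; rfl
  have hmapH : Hb.index = H.index := Subgroup.index_map_eq H hπ (hkerπ.le.trans hZH)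
  have hmapK : (K.map π).index = K.index := Subgroup.index_map_eq K hπ (hkerπ.le.trans hZK)
  have hKidx : K.index = Nat.card Hb := by
    have h1 := Subgroup.card_mul_index (K.map π)
    have h2 := Subgroup.card_mul_index Hb
    rw [hcardK, hmapK] at h1
    have h3 : 0 < Hb.index := Nat.pos_of_ne_zero Subgroup.index_ne_zero_of_finite
    exact mul_left_cancel₀ h3.ne' (by rw [h1, ← h2, mul_comm])
  -- centralisers of elements of `K`
  have hCK : ∀ x ∈ K, x ∉ Subgroup.center G → Subgroup.centralizer {x} = K := by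
    intro x hx hxZ
    refine le_antisymm (fun y hy => ?_) fun y hy => ?_
    · apply hmemK
      rw [← hKk, mem_frobeniusKernel_iff]
      by_contra hc
      push Not at hc
      obtain ⟨hy1, g, hg⟩ := hc
      have hcomm : π x * π y = π y * π x := by
        rw [← map_mul, ← map_mul, Subgroup.mem_centralizer_singleton_iff.1 hy]
      have hg' : (g⁻¹ * π x * g)⁻¹ * (g⁻¹ * π y * g) * (g⁻¹ * π x * g) ∈ Hb := by
        have : (g⁻¹ * π x * g)⁻¹ * (g⁻¹ * π y * g) * (g⁻¹ * π x * g) = g⁻¹ * π y * g := by
          calc (g⁻¹ * π x * g)⁻¹ * (g⁻¹ * π y * g) * (g⁻¹ * π x * g)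
              = g⁻¹ * (π x)⁻¹ * (π y * π x) * g := by group
            _ = g⁻¹ * π y * g := by rw [← hcomm]; group
        rw [this]; exact hg
      have hne : g⁻¹ * π y * g ≠ 1 := by
        intro e
        apply hy1
        calc π y = g * (g⁻¹ * π y * g) * g⁻¹ := by group
          _ = 1 := by rw [e]; group
      have h4 := mem_of_frobenius_meet hFrob hg hg' hne
      rcases (mem_frobeniusKernel_iff (π x)).1 ((hKk _).2 (Subgroup.mem_map_of_mem π hx)) with e | e
      · exact hzero x hxZ e
      · exact e g h4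
    · rw [Subgroup.mem_centralizer_singleton_iff]
      exact congrArg Subtype.val (hK.is_comm.comm ⟨x, hx⟩ ⟨y, hy⟩) |>.symm
  -- centralisers of the other elements
  have hCH : ∀ x, x ∉ K → (Subgroup.centralizer {x}).index = H.index := by
    intro x hx
    have hnk : π x ∉ Cfsg.frobeniusKernel Hb := fun h => hx (hmemK x ((hKk _).1 h))
    rw [mem_frobeniusKernel_iff] at hnk
    push Not at hnk
    obtain ⟨hx1, g, hg⟩ := hnk
    obtain ⟨g, rfl⟩ := hπ g
    have hxH : g⁻¹ * x * g ∈ H := hmemH _ (by rw [map_mul, map_mul, map_inv]; exact hg)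
    have hC : Subgroup.centralizer {x} = H.map (MulAut.conj g).toMonoidHom := by
      refine le_antisymm (fun y hy => ?_) ?_
      · refine ⟨g⁻¹ * y * g, ?_, by simp [mul_assoc]⟩
        apply hmemH
        have hcomm : π x * π y = π y * π x := by
          rw [← map_mul, ← map_mul, Subgroup.mem_centralizer_singleton_iff.1 hy]
        refine mem_of_frobenius_meet hFrob hg ?_ ?_
        · have : (π (g⁻¹ * y * g))⁻¹ * ((π g)⁻¹ * π x * π g) * π (g⁻¹ * y * g) =
              (π g)⁻¹ * π x * π g := by
            simp only [map_mul, map_inv]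
            calc ((π g)⁻¹ * π y * π g)⁻¹ * ((π g)⁻¹ * π x * π g) * ((π g)⁻¹ * π y * π g)
                = (π g)⁻¹ * (π y)⁻¹ * (π x * π y) * π g := by group
              _ = (π g)⁻¹ * π x * π g := by rw [hcomm]; group
          rw [this]; exact hg
        · intro e
          apply hx1
          calc π x = π g * ((π g)⁻¹ * π x * π g) * (π g)⁻¹ := by group
            _ = 1 := by rw [e]; group
      · rintro _ ⟨h, hh, rfl⟩
        rw [Subgroup.mem_centralizer_singleton_iff]
        have hc : (g⁻¹ * x * g) * h = h * (g⁻¹ * x * g) :=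
          congrArg Subtype.val (hH.is_comm.comm ⟨_, hxH⟩ ⟨h, hh⟩)
        show g * h * g⁻¹ * x = x * (g * h * g⁻¹)
        calc g * h * g⁻¹ * x = g * (h * (g⁻¹ * x * g)) * g⁻¹ := by group
          _ = x * (g * h * g⁻¹) := by rw [← hc]; group
    rw [hC]
    exact Subgroup.index_map_equiv H (MulAut.conj g)
  refine ⟨?_, ?_⟩
  · ext n
    simp only [Set.mem_range, Set.mem_insert_iff, Set.mem_singleton_iff]
    constructor
    · rintro ⟨x, rfl⟩
      by_cases hxZ : x ∈ Subgroup.center G
      · left
        rw [Subgroup.index_eq_one, Subgroup.centralizer_eq_top_iff_subset]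
        exact Set.singleton_subset_iff.2 hxZ
      by_cases hxK : x ∈ K
      · right; left; rw [hCK x hxK hxZ]
      · right; right; exact hCH x hxK
    · rintro (rfl | rfl | rfl)
      · refine ⟨1, ?_⟩
        rw [Subgroup.index_eq_one, Subgroup.centralizer_eq_top_iff_subset]
        exact Set.singleton_subset_iff.2 (Subgroup.one_mem _)
      · have hne : ¬ K ≤ Subgroup.center G := by
          intro hle
          have : K.map π = ⊥ := by rw [eq_bot_iff, Subgroup.map_le_iff_le_comap, MonoidHom.comap_bot, hkerπ]; exact hle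
          rw [this, Subgroup.card_bot] at hcardK
          exact hFrob.2.1 (Subgroup.index_eq_one.1 hcardK.symm)
        obtain ⟨x, hxK, hxZ⟩ := SetLike.not_le_iff_exists.1 hne
        exact ⟨x, by rw [hCK x hxK hxZ]⟩
      · obtain ⟨⟨q, hq⟩, hq1'⟩ := Subgroup.ne_bot_iff_exists_ne_one.1 hFrob.1
        · have hq1 : q ≠ 1 := fun e => hq1' (Subtype.ext e)
          obtain ⟨x, rfl⟩ := hπ q
          refine ⟨x, hCH x fun hxK => ?_⟩
          rcases (mem_frobeniusKernel_iff (π x)).1 ((hKk _).2 (Subgroup.mem_map_of_mem π hxK)) with e | e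
          · exact hq1 e
          · exact e 1 (by simpa using hq)
  · rw [← hmapH, hKidx]
    exact coprime_card_index Hb hFrob

end Cfsg.Agent.S4283
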