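import Cfsg.Statements.S4292
import Cfsg.Agent.GroupStructure3.FrobLift

set_option autoImplicit false
open Cfsg

namespace Cfsg.Agent.S4292

open GroupStructure3.FrobRep

theorem isVec_comp {H K : Type*} [Group H] [Group K] {u : H → ℤ} (hu : IsVec u) (φ : K →* H)
    (hφ : Function.Injective φ) (h0 : H) : IsVec fun k => u (φ k * h0) := by
  intro g hg h
  have h1 := hu (φ g) (by rwa [orderOf_injective φ hφ]) (φ h * h0)
  rw [orderOf_injective φ hφ] at h1
  simpa [map_mul, map_pow, mul_assoc] using h1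

/-- No elementary abelian subgroup of rank two. -/
theorem eq_zero_of_commuting {H : Type*} [Group H] {u : H → ℤ} (hu : IsVec u) {a b : H} {p : ℕ}
    (hp : p.Prime) (hab : Commute a b) (ha : orderOf a = p) (hb : orderOf b = p)
    (hind : ∀ k : ℕ, orderOf (a * b ^ k) = p) (h : H) : u h = 0 := by
  have hA : ∑ k ∈ Finset.range p, ∑ i ∈ Finset.range p, u (a ^ i * b ^ (k * i) * h) = 0 := by
    refine Finset.sum_eq_zero fun k _ => ?_
    have h1 := hu (a * b ^ k) (by rw [hind]; exact hp) h
    rw [hind] at h1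
    simpa only [(hab.pow_right k).mul_pow, ← pow_mul] using h1
  rw [Finset.sum_comm, Finset.sum_eq_single 0] at hA
  · simp [hp.ne_zero] at hA
    exact hA
  · intro i hi hi0
    have hcop : (orderOf b).Coprime i := by
      rw [hb, hp.coprime_iff_not_dvd]
      exact fun hd => absurd (Nat.le_of_dvd (Nat.pos_of_ne_zero hi0) hd) (by
        rw [Finset.mem_range] at hi; omega)
    have h1 := hu (b ^ i) (by rw [hcop.orderOf_pow, hb]; exact hp) (a ^ i * h)
    rw [hcop.orderOf_pow, hb] at h1
    refine (Finset.sum_congr rfl fun k _ => congrArg u ?_).trans h1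
    rw [← pow_mul, mul_comm i k, ← mul_assoc, ((hab.pow_pow i (k * i)).symm).eq]
  · intro h0
    exact absurd (Finset.mem_range.2 hp.pos) h0


/-- Let A and B be nontrivial finite groups. Then the direct product A × B occurs as a Frobenius complement if and only if A and B both occur as Frobenius complements and the orders of A and B are coprime. -/
theorem result {A B : Type*} [Group A] [Finite A] [Nontrivial A] [Group B] [Finite B] [Nontrivial B] :
    (∃ (L : Type) (_ : Group L) (_ : Finite L) (H : Subgroup L), Cfsg.IsFrobeniusComplement H ∧ Nonempty ((A × B) ≃* H)) ↔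
    ((∃ (L : Type) (_ : Group L) (_ : Finite L) (H : Subgroup L), Cfsg.IsFrobeniusComplement H ∧ Nonempty (A ≃* H)) ∧
     (∃ (L : Type) (_ : Group L) (_ : Finite L) (H : Subgroup L), Cfsg.IsFrobeniusComplement H ∧ Nonempty (B ≃* H)) ∧
     (Nat.card A).Coprime (Nat.card B)) := by
  classical
  constructor
  · rintro ⟨L, i, j, C, hC, ⟨e⟩⟩
    obtain ⟨u, hu, hu0⟩ := exists_vec_of_complement hC e
    obtain ⟨h0, hh0⟩ := Function.ne_iff.1 hu0
    refine ⟨exists_complement_of_vec_int (isVec_comp hu (MonoidHom.inl A B)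
        (fun x y h => by simpa using h) h0) (Function.ne_iff.2 ⟨1, by simpa [Prod.mk_one_one] using hh0⟩),
      exists_complement_of_vec_int (isVec_comp hu (MonoidHom.inr A B)
        (fun x y h => by simpa using h) h0) (Function.ne_iff.2 ⟨1, by simpa [Prod.mk_one_one] using hh0⟩), ?_⟩
    refine Nat.coprime_of_dvd fun p hp hpA hpB => hh0 ?_
    haveI := Fact.mk hp
    obtain ⟨a, ha⟩ := exists_prime_orderOf_dvd_card' (G := A) p hpA
    obtain ⟨b, hb⟩ := exists_prime_orderOf_dvd_card' (G := B) p hpB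
    refine eq_zero_of_commuting hu hp (a := (a, 1)) (b := (1, b)) ?_ ?_ ?_ (fun k => ?_) h0
    · exact Prod.ext (by simp) (by simp)
    · simp [Prod.orderOf, ha]
    · simp [Prod.orderOf, hb]
    · refine orderOf_eq_prime ?_ fun h => ?_
      · ext
        · simp [← ha, pow_orderOf_eq_one]
        · simp only [Prod.snd_mul, Prod.pow_snd, one_mul, Prod.snd_one]
          rw [← pow_mul, mul_comm, pow_mul, ← hb, pow_orderOf_eq_one, one_pow]
      · have := congrArg Prod.fst h
        simp only [Prod.fst_mul, Prod.pow_fst, one_pow, mul_one, Prod.fst_one] at this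
        rw [this, orderOf_one] at ha
        exact hp.one_lt.ne ha
  · rintro ⟨⟨L, i, j, C, hC, ⟨e⟩⟩, ⟨L', i', j', C', hC', ⟨e'⟩⟩, hcop⟩
    obtain ⟨u, hu, hu0⟩ := exists_vec_of_complement hC e
    obtain ⟨v, hv, hv0⟩ := exists_vec_of_complement hC' e'
    obtain ⟨a0, ha0⟩ := Function.ne_iff.1 hu0
    obtain ⟨b0, hb0⟩ := Function.ne_iff.1 hv0
    refine exists_complement_of_vec_int (f := fun x : A × B => u x.1 * v x.2) ?_
      (Function.ne_iff.2 ⟨(a0, b0), mul_ne_zero ha0 hb0⟩)
    rintro ⟨g1, g2⟩ hg ⟨h1, h2⟩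
    have hd1 : orderOf g1 ∣ orderOf (g1, g2) := by rw [Prod.orderOf]; exact Nat.dvd_lcm_left _ _
    have hd2 : orderOf g2 ∣ orderOf (g1, g2) := by rw [Prod.orderOf]; exact Nat.dvd_lcm_right _ _
    rcases eq_or_ne g1 1 with h | h
    · subst h
      have ho : orderOf ((1 : A), g2) = orderOf g2 := by simp [Prod.orderOf]
      rw [ho] at hg ⊢
      simp only [Prod.pow_def, one_pow, Prod.mk_mul_mk, one_mul, ← Finset.mul_sum, hv g2 hg h2,
        mul_zero]
    · rcases eq_or_ne g2 1 with h' | h'
      · subst h'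
        have ho : orderOf (g1, (1 : B)) = orderOf g1 := by simp [Prod.orderOf]
        rw [ho] at hg ⊢
        simp only [Prod.pow_def, one_pow, Prod.mk_mul_mk, one_mul, ← Finset.sum_mul, hu g1 hg h1,
          zero_mul]
      · exfalso
        have e1 := ((Nat.dvd_prime hg).1 hd1).resolve_left (mt orderOf_eq_one_iff.1 h)
        have e2 := ((Nat.dvd_prime hg).1 hd2).resolve_left (mt orderOf_eq_one_iff.1 h')
        exact hg.not_dvd_one (hcop ▸ Nat.dvd_gcd (e1 ▸ orderOf_dvd_natCard g1) (e2 ▸ orderOf_dvd_natCard g2))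

end Cfsg.Agent.S4292
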