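import Cfsg.Statements.S4294
import Cfsg.Agent.S3359
import Cfsg.Agent.SolvStruct.Amitsur.Reduce
import Cfsg.Agent.SolvStruct.Amitsur.NoCentral
import Cfsg.Agent.SolvStruct.Amitsur.NoExtension

set_option autoImplicit false
open Cfsg

namespace Cfsg.Agent.S4294

/-- A finite non-solvable subgroup of the multiplicative group of a division ring is isomorphic to the binary icosahedral group SL(2,5). -/
theorem result {D : Type*} [DivisionRing D] (H : Subgroup Dˣ) [Finite H] (hH : ¬ Group.IsSolvable H) :
    Nonempty (H ≃* Matrix.SpecialLinearGroup (Fin 2) (ZMod 5)) := by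
  open Cfsg.Agent.SolvStruct.Amitsur in
  have key : CharZero D → Nonempty (H ≃* Matrix.SpecialLinearGroup (Fin 2) (ZMod 5)) := by
    intro _
    haveI : Nontrivial H := by
      by_contra h
      rw [not_nontrivial_iff_subsingleton] at h
      exact hH (isSolvable_of_comm fun a b => Subsingleton.elim _ _)
    obtain ⟨G₀, hnorm, hidx, S, M, hsup, hinf, hcomm, ⟨eS⟩, -, hcop⟩ :=
      Cfsg.Agent.S3359.result hH (frobenius_complement_of_charZero H this)
    let ι : SL25 →* D :=
      (Units.coeHom D).comp (H.subtype.comp (S.subtype.comp eS.symm.toMonoidHom))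
    have hιdef : ∀ x, ι x = (((eS.symm x : H) : Dˣ) : D) := fun x => rfl
    have hι : Function.Injective ι := fun a b h =>
      eS.symm.injective (Subtype.ext (Subtype.ext (Units.ext h)))
    have hM : M = ⊥ := by
      by_contra hM
      have hM1 : Nat.card M ≠ 1 := fun h => hM (Subgroup.card_eq_one.mp h)
      obtain ⟨r, hr, hrM⟩ := Nat.exists_prime_and_dvd hM1
      haveI := Fact.mk hr
      obtain ⟨m, hm⟩ := exists_prime_orderOf_dvd_card' r hrM
      have h10 : r.Coprime 10 :=
        (hcop.coprime_dvd_left hrM).coprime_dvd_right (by norm_num)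
      have hzc : ∀ x, Commute (((m : H) : Dˣ) : D) (ι x) := fun x => by
        have h := hcomm _ (eS.symm x).2 _ m.2
        rw [hιdef]
        exact (congrArg (fun a : H => ((a : Dˣ) : D)) h).symm
      have hj2 : ι j5 * ι j5 = -1 := by rw [← map_mul, j5_mul_self, map_z5 ι hι]
      have hi2 : ι i5 * ι i5 = -1 := by rw [← map_mul, i5_mul_self, map_z5 ι hι]
      have hji : ι j5 * ι i5 = -(ι i5 * ι j5) := by
        rw [← map_mul, ← map_mul, j5_mul_i5, i5_mul_j5, map_mul, map_z5 ι hι, neg_one_mul]
      refine no_central_prime hi2 hj2 hji (qs_sq ι hι) (qs_comm_i ι hι) (qs_comm_j ι hι)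
        (qs_comm_of_forall ι hzc).symm (hzc i5) (hzc j5) r hr h10 ?_ ?_
      · have h := congrArg (fun a : M => (((a : H) : Dˣ) : D)) (hm ▸ pow_orderOf_eq_one m)
        simpa using h
      · intro h
        have : m = 1 := Subtype.ext (Subtype.ext (Units.ext h))
        rw [this, orderOf_one] at hm
        exact hr.ne_one hm.symm
    subst hM
    rw [sup_bot_eq] at hsup
    subst hsup
    have htop : S = ⊤ := by
      rcases hidx with h | h
      · exact Subgroup.index_eq_one.mp h
      · exfalso
        obtain ⟨g, hg⟩ : ∃ g : H, g ∉ S := by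
          by_contra! hc
          rw [Subgroup.index_eq_one.mpr (eq_top_iff.mpr fun x _ => hc x)] at h
          omega
        refine not_outer hι (g := ((g : Dˣ) : D)) ⟨Units.ne_zero _, fun x => ?_, ?_, fun y hy => ?_⟩
        · refine ⟨eS ⟨g * (eS.symm x : H) * g⁻¹, hnorm.conj_mem _ (eS.symm x).2 g⟩, ?_⟩
          rw [hιdef, hιdef, eS.symm_apply_apply]
          simp [← Units.val_mul, mul_assoc]
        · refine ⟨eS ⟨g * g, ?_⟩, ?_⟩
          · rw [← sq]; exact h ▸ S.pow_index_mem g
          · rw [hιdef, eS.symm_apply_apply]; simp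
        · rw [hιdef] at hy
          apply hg
          rw [show g = (eS.symm y : H) from Subtype.ext (Units.ext hy)]
          exact (eS.symm y).2
    exact ⟨(Subgroup.topEquiv.symm.trans (MulEquiv.subgroupCongr htop.symm)).trans eS⟩
  obtain ⟨ℓ, hchar⟩ := CharP.exists D
  rcases CharP.char_is_prime_or_zero D ℓ with hℓ | rfl
  · haveI := Fact.mk hℓ
    exact absurd (isSolvable_of_comm (Cfsg.Agent.SolvStruct.Amitsur.comm_of_charP ℓ H)) hH
  · exact key (CharP.charP_to_charZero D)

end Cfsg.Agent.S4294
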