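import Cfsg.Statements.S4295
import Cfsg.Agent.GroupStructure3.SquareOrder
import Cfsg.Agent.GroupStructure3.FrobRep

set_option autoImplicit false
open Cfsg

namespace Cfsg.Agent.S4295

/-- Quaternion coefficients of the elements of `Q₈`. -/
def coef : QuaternionGroup 2 → ℤ × ℤ × ℤ × ℤ
  | .a i => if i = 0 then (1, 0, 0, 0) else if i = 1 then (0, 1, 0, 0)
      else if i = 2 then (-1, 0, 0, 0) else (0, -1, 0, 0)
  | .xa i => if i = 0 then (0, 0, 1, 0) else if i = 1 then (0, 0, 0, -1)
      else if i = 2 then (0, 0, -1, 0) else (0, 0, 0, 1)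

/-- Hamilton's product. -/
def qmul (e f : ℤ × ℤ × ℤ × ℤ) : ℤ × ℤ × ℤ × ℤ :=
  (e.1 * f.1 - e.2.1 * f.2.1 - e.2.2.1 * f.2.2.1 - e.2.2.2 * f.2.2.2,
   e.1 * f.2.1 + e.2.1 * f.1 + e.2.2.1 * f.2.2.2 - e.2.2.2 * f.2.2.1,
   e.1 * f.2.2.1 - e.2.1 * f.2.2.2 + e.2.2.1 * f.1 + e.2.2.2 * f.2.1,
   e.1 * f.2.2.2 + e.2.1 * f.2.2.1 - e.2.2.1 * f.2.1 + e.2.2.2 * f.1)

theorem coef_mul : ∀ g k : QuaternionGroup 2, coef (g * k) = qmul (coef g) (coef k) := by
  decide

theorem coef_cases : ∀ g : QuaternionGroup 2, g ≠ 1 →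
    coef g = (-1, 0, 0, 0) ∨ coef (g * g) = (-1, 0, 0, 0) := by decide

/-- The linear map of a quaternion on a plane, `x² + y² = -1`. -/
def app {R : Type*} [CommRing R] (x y : R) (e : ℤ × ℤ × ℤ × ℤ) (v : R × R) : R × R :=
  ((e.1 : R) * v.1 + (e.2.1 : R) * (-v.2) + (e.2.2.1 : R) * (x * v.1 + y * v.2) +
      (e.2.2.2 : R) * (-(y * v.1 - x * v.2)),
   (e.1 : R) * v.2 + (e.2.1 : R) * v.1 + (e.2.2.1 : R) * (y * v.1 - x * v.2) +
      (e.2.2.2 : R) * (x * v.1 + y * v.2))

theorem app_qmul {R : Type*} [CommRing R] {x y : R} (h : x ^ 2 + y ^ 2 = -1)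
    (e f : ℤ × ℤ × ℤ × ℤ) (v : R × R) : app x y (qmul e f) v = app x y e (app x y f v) := by
  obtain ⟨a, b, c, d⟩ := e
  obtain ⟨a', b', c', d'⟩ := f
  obtain ⟨u, w⟩ := v
  simp only [app, qmul, Prod.mk.injEq]
  push_cast
  constructor
  · linear_combination (-((c : R) * c' * u + d * d' * u + c * d' * w - d * c' * w)) * h
  · linear_combination (-((c : R) * c' * w + d * d' * w - c * d' * u + d * c' * u)) * h


/-- For a natural number m the following are equivalent: (a) some finite group has a Frobenius complement isomorphic to the quaternion group of order 8 whose Frobenius kernel (the identity together with the elements lying in no conjugate of the complement) has exactly m elements; (b) m is an odd perfect square greater than 1. -/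
theorem result (m : ℕ) :
    (∃ (L : Type) (_ : Group L) (_ : Finite L) (H : Subgroup L), Cfsg.IsFrobeniusComplement H ∧
        Nonempty (H ≃* QuaternionGroup 2) ∧ Nat.card (Cfsg.frobeniusKernel H) = m) ↔
    (Odd m ∧ IsSquare m ∧ 1 < m) := by
  classical
  constructor
  · rintro ⟨L, i, j, H, hF, ⟨e⟩, hm⟩
    haveI : Fact (Nat.Prime 2) := ⟨Nat.prime_two⟩
    have hQ : IsPGroup 2 H := (IsPGroup.of_card (n := 3) (by
      rw [Nat.card_eq_fintype_card, QuaternionGroup.card]; rfl) : IsPGroup 2 (QuaternionGroup 2)).of_equiv e.symm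
    obtain ⟨P, hP⟩ := (hQ.to_subgroup ⊤).exists_le_sylow
    have hnc : ¬ IsCyclic P := by
      intro hcyc
      rw [top_le_iff] at hP
      rw [show (P : Subgroup H) = ⊤ from hP] at hcyc
      haveI := hcyc
      haveI : IsCyclic (QuaternionGroup 2) := isCyclic_of_surjective
        (Subgroup.topEquiv.trans e) (Subgroup.topEquiv.trans e).surjective
      have := IsCyclic.commGroup (α := QuaternionGroup 2) |>.mul_comm
      have hc : ∀ a b : QuaternionGroup 2, a * b = b * a := fun a b => by
        obtain ⟨g, hg⟩ := IsCyclic.exists_generator (α := QuaternionGroup 2)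
        obtain ⟨n, rfl⟩ := Subgroup.mem_zpowers_iff.1 (hg a)
        obtain ⟨m, rfl⟩ := Subgroup.mem_zpowers_iff.1 (hg b)
        exact (Commute.zpow_zpow (Commute.refl g) n m).eq
      exact absurd (hc (.a 1) (.xa 0)) (by decide)
    obtain ⟨h1, h2, h3⟩ := GroupStructure3.SquareOrder.kernel_card hF P hnc
    exact ⟨hm ▸ h1, hm ▸ h2, hm ▸ h3⟩
  · rintro ⟨hodd, ⟨r, rfl⟩, hr⟩
    have hr0 : r ≠ 0 := by rintro rfl; simp at hr
    set l := r.primeFactorsList with hl
    have hprime : ∀ i : Fin l.length, (l.get i).Prime := fun i =>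
      Nat.prime_of_mem_primeFactorsList (List.get_mem _ _)
    haveI : ∀ i : Fin l.length, Fact (l.get i).Prime := fun i => ⟨hprime i⟩
    have hodd' : ∀ i : Fin l.length, l.get i ≠ 2 := fun i h2 => by
      have h1 : 2 ∣ r := h2 ▸ Nat.dvd_of_mem_primeFactorsList (List.get_mem _ _)
      exact Nat.not_even_iff_odd.2 hodd ((even_iff_two_dvd.2 h1).mul_right r)
    choose x y hxy using fun i => ZMod.sq_add_sq (l.get i) (-1)
    letI : ∀ i, DistribMulAction (QuaternionGroup 2) (ZMod (l.get i) × ZMod (l.get i)) := fun i =>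
      { smul := fun g v => app (x i) (y i) (coef g) v
        one_smul := fun v => by
          show app (x i) (y i) (coef (.a 0)) v = v
          simp [coef, app]
        mul_smul := fun g k v => by
          show app (x i) (y i) (coef (g * k)) v = app (x i) (y i) (coef g) (app (x i) (y i) (coef k) v)
          rw [coef_mul, app_qmul (hxy i)]
        smul_zero := fun g => by
          show app (x i) (y i) (coef g) 0 = 0
          simp [app]
        smul_add := fun g v w => by
          show app (x i) (y i) (coef g) (v + w) = app (x i) (y i) (coef g) v + app (x i) (y i) (coef g) w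
          ext <;> simp [app] <;> ring }
    have hlen : 0 < l.length := by
      rw [List.length_pos_iff_ne_nil, hl, ne_eq, Nat.primeFactorsList_eq_nil]
      rintro (h | h)
      · exact hr0 h
      · rw [h] at hr; omega
    haveI : Nontrivial ((i : Fin l.length) → ZMod (l.get i) × ZMod (l.get i)) := by
      haveI : Fact (1 < l.get ⟨0, hlen⟩) := ⟨(hprime _).one_lt⟩
      exact Pi.nontrivial_at ⟨0, hlen⟩
    obtain ⟨L, iG, iF, C, hC, ⟨e⟩, hcard⟩ := GroupStructure3.FrobRep.compWith_of_action
      (H := QuaternionGroup 2) (V := (i : Fin l.length) → ZMod (l.get i) × ZMod (l.get i))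
      (fun g hg v hv => funext fun i => by
        have h1 : g • v i = v i := congrFun hv i
        have hneg : app (x i) (y i) (-1, 0, 0, 0) (v i) = v i := by
          rcases coef_cases g hg with hc | hc
          · rw [← hc]; exact h1
          · rw [← hc]
            show (g * g) • v i = v i
            rw [mul_smul, h1, h1]
        have h2 : ((2 : ℕ) : ZMod (l.get i)) ≠ 0 := by
          rw [ne_eq, ZMod.natCast_eq_zero_iff]
          exact fun hd => hodd' i ((Nat.prime_dvd_prime_iff_eq (hprime i) Nat.prime_two).1 hd)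
        simp only [app, Int.cast_neg, Int.cast_one, Int.cast_zero, zero_mul, add_zero, neg_mul,
          one_mul, Prod.ext_iff] at hneg
        rw [Pi.zero_apply, Prod.ext_iff]
        constructor
        · refine (mul_eq_zero.1 (show ((2 : ℕ) : ZMod (l.get i)) * (v i).1 = 0 from ?_)).resolve_left h2
          push_cast
          linear_combination (-1 : ZMod (l.get i)) * hneg.1
        · refine (mul_eq_zero.1 (show ((2 : ℕ) : ZMod (l.get i)) * (v i).2 = 0 from ?_)).resolve_left h2
          push_cast
          linear_combination (-1 : ZMod (l.get i)) * hneg.2)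
    refine ⟨L, iG, iF, C, hC, ⟨e.symm⟩, hcard.trans ?_⟩
    rw [Nat.card_pi]
    simp only [Nat.card_prod, Nat.card_zmod, Finset.prod_mul_distrib]
    have hp : ∏ i : Fin l.length, l.get i = r := by
      simp only [List.get_eq_getElem]
      rw [Fin.prod_univ_getElem, hl, Nat.prod_primeFactorsList hr0]
    rw [hp]

end Cfsg.Agent.S4295
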