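import Cfsg.Statements.S4297
import Cfsg.Agent.GroupStructure3.FrobRep
import Mathlib

set_option autoImplicit false
open Cfsg

namespace Cfsg.Agent.S4297

/-- `ζ ^ i` for a residue `i`, as a homomorphism. -/
noncomputable def zz (n : ℕ) [NeZero n] (i : ZMod (2 * n)) : ℂ :=
  (AddChar.zmodChar (2 * n) ((Complex.isPrimitiveRoot_exp (2 * n) (NeZero.ne _)).pow_eq_one)) i

theorem zz_add (n : ℕ) [NeZero n] (i j : ZMod (2 * n)) : zz n (i + j) = zz n i * zz n j :=
  AddChar.map_add_eq_mul _ _ _

theorem zz_zero (n : ℕ) [NeZero n] : zz n 0 = 1 := AddChar.map_zero_eq_one _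

theorem zz_eq_one (n : ℕ) [NeZero n] {i : ZMod (2 * n)} (h : zz n i = 1) : i = 0 := by
  rw [zz, AddChar.zmodChar_apply] at h
  have := (Complex.isPrimitiveRoot_exp (2 * n) (NeZero.ne _)).dvd_of_pow_eq_one _ h
  have h2 := ZMod.val_lt i
  exact (ZMod.val_eq_zero i).1 (Nat.eq_zero_of_dvd_of_lt this h2)

theorem zz_n (n : ℕ) [NeZero n] : zz n (n : ZMod (2 * n)) = -1 := by
  have hζ := Complex.isPrimitiveRoot_exp (2 * n) (NeZero.ne _)
  rw [zz, AddChar.zmodChar_apply', ]
  exact (hζ.pow (Nat.pos_of_ne_zero (NeZero.ne _)) (mul_comm 2 n)).eq_neg_one_of_two_right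

/-- The action of the dicyclic group on pairs of complex numbers. -/
noncomputable def act (n : ℕ) [NeZero n] : QuaternionGroup n → ℂ × ℂ → ℂ × ℂ
  | .a i, v => (zz n i * v.1, zz n (-i) * v.2)
  | .xa i, v => (-(zz n (-i) * v.2), zz n i * v.1)

theorem act_mul (n : ℕ) [NeZero n] (g h : QuaternionGroup n) (v : ℂ × ℂ) :
    act n (g * h) v = act n g (act n h v) := by
  rcases g with i | i <;> rcases h with j | j
  · rw [QuaternionGroup.a_mul_a]
    simp only [act, zz_add, neg_add, mul_assoc]
  · rw [QuaternionGroup.a_mul_xa]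
    simp only [act, neg_sub]
    ext
    · rw [show i - j = i + -j by abel, zz_add]; ring
    · rw [show j - i = -i + j by abel, zz_add]; ring
  · rw [QuaternionGroup.xa_mul_a]
    simp only [act]
    ext
    · rw [show -(i + j) = -i + -j by abel, zz_add]; ring
    · rw [zz_add]; ring
  · rw [QuaternionGroup.xa_mul_xa]
    simp only [act]
    ext
    · rw [show (n : ZMod (2 * n)) + j - i = n + (-i + j) by abel, zz_add, zz_add, zz_n]; ring
    · have h2 : (2 : ZMod (2 * n)) * n = 0 := by exact_mod_cast ZMod.natCast_self (2 * n)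
      rw [show -((n : ZMod (2 * n)) + j - i) = n + (i + -j) by linear_combination (-1 : ZMod (2 * n)) * h2,
        zz_add, zz_add, zz_n]
      ring

theorem act_fpf (n : ℕ) [NeZero n] (g : QuaternionGroup n) (hg : g ≠ 1) (v : ℂ × ℂ)
    (hv : act n g v = v) : v = 0 := by
  obtain ⟨u, w⟩ := v
  rcases g with i | i
  · simp only [act, Prod.mk.injEq] at hv
    have hi : i ≠ 0 := fun e => hg (by rw [e]; rfl)
    have h1 : zz n i - 1 ≠ 0 := fun e => hi (zz_eq_one n (sub_eq_zero.1 e))
    have h2 : zz n (-i) - 1 ≠ 0 := fun e => hi (neg_eq_zero.1 (zz_eq_one n (sub_eq_zero.1 e)))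
    have h3 : (zz n i - 1) * u = 0 := by linear_combination hv.1
    have h4 : (zz n (-i) - 1) * w = 0 := by linear_combination hv.2
    rw [(mul_eq_zero.1 h3).resolve_left h1, (mul_eq_zero.1 h4).resolve_left h2]
    rfl
  · simp only [act, Prod.mk.injEq] at hv
    have h5 : zz n (-i) * zz n i = 1 := by rw [← zz_add, neg_add_cancel, zz_zero]
    have h6 : u = 0 := by
      have : (2 : ℂ) * u = 0 := by
        linear_combination (-1 : ℂ) * hv.1 + zz n (-i) * hv.2 - u * h5
      simpa using this
    subst h6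
    have h7 : w = 0 := by simpa using hv.2.symm
    rw [h7]
    rfl


/-- For every n ≥ 2 the dicyclic group of order 4n (generated by an element a of order 2n and an element x with x² = aⁿ and x a x⁻¹ = a⁻¹) occurs as a Frobenius complement of some finite Frobenius group. -/
theorem result (n : ℕ) (hn : 2 ≤ n) :
    ∃ (L : Type) (_ : Group L) (_ : Finite L) (H : Subgroup L), Cfsg.IsFrobeniusComplement H ∧ Nonempty (H ≃* QuaternionGroup n) := by
  haveI : NeZero n := ⟨by omega⟩
  letI : DistribMulAction (QuaternionGroup n) (ℂ × ℂ) :=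
    { smul := act n
      one_smul := fun v => by
        show act n (QuaternionGroup.a 0) v = v
        simp [act, zz_zero]
      mul_smul := act_mul n
      smul_zero := fun g => by
        show act n g 0 = 0
        rcases g with i | i <;> simp [act]
      smul_add := fun g v w => by
        show act n g (v + w) = act n g v + act n g w
        rcases g with i | i <;> ext <;> simp [act] <;> ring }
  haveI : IsAddTorsionFree (ℂ × ℂ) := inferInstance
  obtain ⟨f, hf, hf0⟩ := GroupStructure3.FrobRep.exists_vec_int (H := QuaternionGroup n)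
    (W := ℂ × ℂ) (act_fpf n) (v := (1, 0)) (by simp)
  obtain ⟨L, i, j, C, hC, ⟨e⟩⟩ := GroupStructure3.FrobRep.exists_complement_of_vec_int hf hf0
  exact ⟨L, i, j, C, hC, ⟨e.symm⟩⟩

end Cfsg.Agent.S4297
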