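import Cfsg.Statements.S4298
import Cfsg.Agent.GroupStructure3.FrobRep

set_option autoImplicit false
open Cfsg

namespace Cfsg.Agent.S4298

/-- Images in `SL(2,5)` of the elements of `SL(2,3)`, indexed by their entries. -/
def tbl : List (ℕ × ℕ × ℕ × ℕ) :=
  [(1, 0, 0, 1),
    (1, 0, 0, 1),
    (1, 0, 0, 1),
    (1, 0, 0, 1),
    (1, 0, 0, 1),
    (1, 0, 0, 1),
    (1, 0, 0, 1),
    (1, 0, 0, 1),
    (1, 0, 0, 1),
    (1, 0, 0, 1),
    (1, 0, 0, 1),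
    (1, 0, 0, 1),
    (1, 0, 0, 1),
    (1, 0, 0, 1),
    (1, 0, 0, 1),
    (0, 4, 1, 0),
    (2, 4, 3, 4),
    (3, 2, 1, 1),
    (1, 0, 0, 1),
    (1, 0, 0, 1),
    (1, 0, 0, 1),
    (0, 1, 4, 0),
    (2, 3, 4, 4),
    (3, 1, 2, 1),
    (1, 0, 0, 1),
    (1, 0, 0, 1),
    (1, 0, 0, 1),
    (1, 0, 0, 1),
    (1, 0, 0, 1),
    (1, 0, 0, 1),
    (1, 0, 0, 1),
    (1, 2, 1, 3),
    (1, 0, 0, 1),
    (1, 0, 0, 1),
    (3, 3, 4, 1),
    (1, 0, 0, 1),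
    (1, 0, 0, 1),
    (1, 1, 2, 3),
    (1, 0, 0, 1),
    (1, 0, 0, 1),
    (1, 0, 0, 1),
    (0, 2, 2, 0),
    (4, 2, 1, 2),
    (1, 0, 0, 1),
    (1, 0, 0, 1),
    (1, 0, 0, 1),
    (3, 4, 3, 1),
    (1, 0, 0, 1),
    (4, 1, 2, 2),
    (1, 0, 0, 1),
    (1, 0, 0, 1),
    (1, 0, 0, 1),
    (1, 0, 0, 1),
    (3, 0, 0, 2),
    (1, 0, 0, 1),
    (1, 0, 0, 1),
    (4, 0, 0, 4),
    (1, 0, 0, 1),
    (1, 0, 0, 1),
    (2, 2, 1, 4),
    (1, 0, 0, 1),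
    (1, 0, 0, 1),
    (4, 3, 4, 2),
    (1, 0, 0, 1),
    (1, 0, 0, 1),
    (2, 1, 2, 4),
    (1, 0, 0, 1),
    (2, 0, 0, 3),
    (1, 0, 0, 1),
    (1, 4, 3, 3),
    (1, 0, 0, 1),
    (1, 0, 0, 1),
    (1, 0, 0, 1),
    (1, 0, 0, 1),
    (4, 4, 3, 2),
    (1, 3, 4, 3),
    (1, 0, 0, 1),
    (1, 0, 0, 1),
    (1, 0, 0, 1),
    (0, 3, 3, 0),
    (1, 0, 0, 1)]

/-- The map on entries. -/
def img (a b c d : ZMod 3) : ℕ × ℕ × ℕ × ℕ :=
  tbl.getD (27 * a.val + 9 * b.val + 3 * c.val + d.val) (1, 0, 0, 1)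

/-- The image matrix. -/
def mat (a b c d : ZMod 3) : ZMod 5 × ZMod 5 × ZMod 5 × ZMod 5 :=
  ((img a b c d).1, (img a b c d).2.1, (img a b c d).2.2.1, (img a b c d).2.2.2)

/-- Apply to a vector. -/
def app (m : ZMod 5 × ZMod 5 × ZMod 5 × ZMod 5) (v : ZMod 5 × ZMod 5) : ZMod 5 × ZMod 5 :=
  (m.1 * v.1 + m.2.1 * v.2, m.2.2.1 * v.1 + m.2.2.2 * v.2)

theorem app_add (m : ZMod 5 × ZMod 5 × ZMod 5 × ZMod 5) (v w : ZMod 5 × ZMod 5) :
    app m (v + w) = app m v + app m w := by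
  ext <;> simp [app] <;> ring

theorem app_app (m n : ZMod 5 × ZMod 5 × ZMod 5 × ZMod 5) (v : ZMod 5 × ZMod 5) :
    app m (app n v) = app (m.1 * n.1 + m.2.1 * n.2.2.1, m.1 * n.2.1 + m.2.1 * n.2.2.2,
      m.2.2.1 * n.1 + m.2.2.2 * n.2.2.1, m.2.2.1 * n.2.1 + m.2.2.2 * n.2.2.2) v := by
  ext <;> simp [app] <;> ring

set_option maxHeartbeats 0 in
theorem mat_mul : ∀ a b c d : ZMod 3, a * d - b * c = 1 → ∀ e f g h : ZMod 3, e * h - f * g = 1 →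
    mat (a * e + b * g) (a * f + b * h) (c * e + d * g) (c * f + d * h) =
      ((mat a b c d).1 * (mat e f g h).1 + (mat a b c d).2.1 * (mat e f g h).2.2.1,
       (mat a b c d).1 * (mat e f g h).2.1 + (mat a b c d).2.1 * (mat e f g h).2.2.2,
       (mat a b c d).2.2.1 * (mat e f g h).1 + (mat a b c d).2.2.2 * (mat e f g h).2.2.1,
       (mat a b c d).2.2.1 * (mat e f g h).2.1 + (mat a b c d).2.2.2 * (mat e f g h).2.2.2) := by
  decide +kernel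

set_option maxHeartbeats 0 in
theorem mat_fpf : ∀ a b c d : ZMod 3, a * d - b * c = 1 → ¬ (a = 1 ∧ b = 0 ∧ c = 0 ∧ d = 1) →
    ∀ x y : ZMod 5, app (mat a b c d) (x, y) = (x, y) → x = 0 ∧ y = 0 := by
  decide +kernel

theorem det_eq (A : Matrix.SpecialLinearGroup (Fin 2) (ZMod 3)) :
    A.1 0 0 * A.1 1 1 - A.1 0 1 * A.1 1 0 = 1 := by
  rw [← Matrix.det_fin_two]
  exact A.2

/-- The action of `SL(2,3)`. -/
def act (A : Matrix.SpecialLinearGroup (Fin 2) (ZMod 3)) : ZMod 5 × ZMod 5 → ZMod 5 × ZMod 5 :=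
  app (mat (A.1 0 0) (A.1 0 1) (A.1 1 0) (A.1 1 1))


/-- The group SL(2,3) of order 24 (the binary tetrahedral group) occurs as a Frobenius complement of some finite Frobenius group. -/
theorem result :
    ∃ (L : Type) (_ : Group L) (_ : Finite L) (H : Subgroup L), Cfsg.IsFrobeniusComplement H ∧ Nonempty (H ≃* Matrix.SpecialLinearGroup (Fin 2) (ZMod 3)) := by
  letI : DistribMulAction (Matrix.SpecialLinearGroup (Fin 2) (ZMod 3)) (ZMod 5 × ZMod 5) :=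
    { smul := act
      one_smul := fun v => by
        show app (mat _ _ _ _) v = v
        have h1 : mat 1 0 0 1 = (1, 0, 0, 1) := by decide +kernel
        simp [h1, app]
      mul_smul := fun A B v => by
        show act (A * B) v = act A (act B v)
        rw [act, act, act, app_app, ← mat_mul _ _ _ _ (det_eq A) _ _ _ _ (det_eq B)]
        simp [Matrix.mul_apply, Fin.sum_univ_two]
      smul_zero := fun A => by
        show app _ 0 = 0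
        simp [app]
      smul_add := fun A v w => app_add _ v w }
  haveI : Fact (1 < 5) := ⟨by norm_num⟩
  haveI : Nontrivial (Matrix.SpecialLinearGroup (Fin 2) (ZMod 3)) :=
    ⟨⟨1, ⟨!![1, 1; 0, 1], by simp [Matrix.det_fin_two]⟩, fun e => by
      simpa using congrFun (congrFun (congrArg Subtype.val e) 0) 1⟩⟩
  have hfix : ∀ A : Matrix.SpecialLinearGroup (Fin 2) (ZMod 3), A ≠ 1 →
      ∀ v : ZMod 5 × ZMod 5, A • v = v → v = 0 := by
    intro A hA v hv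
    obtain ⟨x, y⟩ := v
    obtain ⟨h1, h2⟩ := mat_fpf _ _ _ _ (det_eq A) (fun h => hA (by
      ext i j
      fin_cases i <;> fin_cases j <;> simp [h.1, h.2.1, h.2.2.1, h.2.2.2])) x y hv
    rw [h1, h2]; rfl
  obtain ⟨L, i, j, C, hC, ⟨e⟩⟩ :=
    (GroupStructure3.FrobRep.compWith_of_action hfix).exists_complement
  exact ⟨L, i, j, C, hC, ⟨e.symm⟩⟩

end Cfsg.Agent.S4298
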