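import Cfsg.Statements.S4300

set_option autoImplicit false
open Cfsg

namespace Cfsg.Agent.S4300

open MulAction

/-- Let G act faithfully and primitively on a set X, and suppose the stabilizer of some point is a simple group. Then either G is simple, or G has a normal subgroup, neither trivial nor the whole group, that acts regularly on X (transitively with trivial point stabilizers). -/
theorem result {G : Type*} [Group G] {X : Type*} [MulAction G X] [FaithfulSMul G X]
    (hprim : MulAction.IsPreprimitive G X) (x : X) (hsimple : IsSimpleGroup (MulAction.stabilizer G x)) :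
    IsSimpleGroup G ∨ ∃ N : Subgroup G, N.Normal ∧ N ≠ ⊥ ∧ N ≠ ⊤ ∧
      MulAction.IsPretransitive N X ∧ ∀ y : X, MulAction.stabilizer N y = ⊥ := by
  haveI := hsimple
  haveI : Nontrivial G := (Subgroup.subtype_injective (stabilizer G x)).nontrivial
  by_cases h : ∀ N : Subgroup G, N.Normal → N = ⊥ ∨ N = ⊤
  · exact Or.inl ⟨h⟩
  push Not at h
  obtain ⟨N, hN, hne, hnt⟩ := h
  haveI := hN
  haveI := hprim
  have hfix : fixedPoints N X ≠ Set.univ := by
    intro e
    apply hne
    rw [eq_bot_iff]
    intro n hn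
    refine Subgroup.mem_bot.2 (eq_of_smul_eq_smul fun a : X => ?_)
    have := (e ▸ Set.mem_univ a : a ∈ fixedPoints N X) ⟨n, hn⟩
    rw [one_smul]
    exact this
  haveI htr : IsPretransitive N X := IsQuasiPreprimitive.isPretransitive_of_normal hfix
  refine Or.inr ⟨N, hN, hne, hnt, htr, ?_⟩
  have hx : ∀ n ∈ N, n • x = x → n = 1 := by
    rcases (hN.subgroupOf (stabilizer G x)).eq_bot_or_eq_top with e | e
    · intro n hn hnx
      have : (⟨n, hnx⟩ : stabilizer G x) ∈ N.subgroupOf (stabilizer G x) := hn
      rw [e, Subgroup.mem_bot] at this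
      exact congrArg Subtype.val this
    · exfalso
      apply hnt
      rw [eq_top_iff]
      intro g _
      obtain ⟨n, hn⟩ := exists_smul_eq N x (g • x)
      have h1 : (n : G)⁻¹ * g ∈ stabilizer G x := by
        rw [mem_stabilizer_iff, mul_smul, ← hn, Subgroup.smul_def, inv_smul_smul]
      have h2 : (n : G)⁻¹ * g ∈ N := (Subgroup.subgroupOf_eq_top.1 e) h1
      simpa using N.mul_mem n.2 h2
  intro y
  rw [eq_bot_iff]
  intro n hn
  obtain ⟨m, hm⟩ := exists_smul_eq N x y
  have h1 : (m : G)⁻¹ * n * m = 1 := by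
    refine hx _ (N.mul_mem (N.mul_mem (N.inv_mem m.2) n.2) m.2) ?_
    have h3 : (n : G) • y = y := hn
    have h4 : (m : G) • x = y := hm
    rw [mul_smul, mul_smul, h4, h3, inv_smul_eq_iff, h4]
  refine Subgroup.mem_bot.2 (Subtype.ext ?_)
  calc (n : G) = m * ((m : G)⁻¹ * n * m) * (m : G)⁻¹ := by group
    _ = 1 := by rw [h1]; group

end Cfsg.Agent.S4300
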