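import Cfsg.Statements.S4301
import Mathlib

set_option autoImplicit false
open Cfsg

namespace Cfsg.Agent.S4301

theorem pair_trans {X : Type*} (G : Subgroup (Equiv.Perm (Option X)))
    (k : ℕ) (hk : 2 ≤ k) (hkX : Nonempty (Fin k ↪ X))
    (htrans : ∀ a b : Fin k ↪ X, ∃ f ∈ G, ∀ i, f (some (a i)) = some (b i))
    (u v u' v' : X) (huv : u ≠ v) (huv' : u' ≠ v') :
    ∃ f ∈ G, f (some u) = some u' ∧ f (some v) = some v' := by
  classical
  obtain ⟨e⟩ := hkX
  let i0 : Fin k := ⟨0, by omega⟩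
  let i1 : Fin k := ⟨1, by omega⟩
  have hi : i0 ≠ i1 := by simp [i0, i1]
  have hext : ∀ u v : X, u ≠ v → ∃ a : Fin k ↪ X, a i0 = u ∧ a i1 = v := by
    intro u v huv
    let s1 := Equiv.swap (e i0) u
    refine ⟨e.trans (s1.trans (Equiv.swap (s1 (e i1)) v)).toEmbedding, ?_, ?_⟩
    · have h1 : s1 (e i0) = u := Equiv.swap_apply_left _ _
      show Equiv.swap (s1 (e i1)) v (s1 (e i0)) = u
      refine (congrArg _ h1).trans (Equiv.swap_apply_of_ne_of_ne ?_ huv)
      rw [← h1]
      exact fun h => hi (e.injective (s1.injective h))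
    · exact Equiv.swap_apply_left _ _
  obtain ⟨a, ha0, ha1⟩ := hext u v huv
  obtain ⟨b, hb0, hb1⟩ := hext u' v' huv'
  obtain ⟨f, hf, hfab⟩ := htrans a b
  exact ⟨f, hf, by rw [← ha0, ← hb0]; exact hfab i0, by rw [← ha1, ← hb1]; exact hfab i1⟩


/-- One-point extension of a multiply transitive group. Let X be a set and G a group of permutations of Option X (the set X with one extra point ∗ = none) all of whose elements fix ∗, such that G is k-transitive on the points of X for some k ≥ 2, X having at least k points. Suppose a permutation h of Option X and an element g of G satisfy: h interchanges ∗ with a point x of X and fixes a point y of X; g interchanges x and y; (g h)³ and h² lie in G; and for every f in G fixing x, the product h f h lies in G and fixes x. Then an element of the group generated by G and h fixes ∗ exactly when it lies in G, and that group acts (k+1)-transitively on Option X. -/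
theorem result {X : Type*} (G : Subgroup (Equiv.Perm (Option X))) (hfix : ∀ f ∈ G, f none = none)
    (k : ℕ) (hk : 2 ≤ k) (hkX : Nonempty (Fin k ↪ X))
    (htrans : ∀ a b : Fin k ↪ X, ∃ f ∈ G, ∀ i, f (some (a i)) = some (b i))
    (h g : Equiv.Perm (Option X)) (hg : g ∈ G) (x y : X)
    (h1 : h none = some x) (h2 : h (some x) = none) (h3 : h (some y) = some y)
    (h4 : g (some x) = some y) (h5 : g (some y) = some x)
    (h6 : (g * h) ^ 3 ∈ G) (h7 : h ^ 2 ∈ G)
    (h8 : ∀ f ∈ G, f (some x) = some x → h * f * h ∈ G ∧ (h * f * h) (some x) = some x) :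
    (∀ f ∈ Subgroup.closure ((G : Set (Equiv.Perm (Option X))) ∪ {h}), f none = none ↔ f ∈ G) ∧
      MulAction.IsMultiplyPretransitive (Subgroup.closure ((G : Set (Equiv.Perm (Option X))) ∪ {h})) (Option X) (k + 1) := by
  classical
  set K := Subgroup.closure ((G : Set (Equiv.Perm (Option X))) ∪ {h}) with hK
  have hGK : G ≤ K := fun f hf => Subgroup.subset_closure (Or.inl hf)
  have hhK : h ∈ K := Subgroup.subset_closure (Or.inr rfl)
  have hxy : x ≠ y := fun e => by
    rw [← e, h2] at h3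
    exact Option.some_ne_none _ h3.symm
  have h2' : (h ^ 2) (some x) = some x := by
    rw [sq, Equiv.Perm.mul_apply, h2, h1]
  have hh2 : (h ^ 2)⁻¹ ∈ G := inv_mem h7
  -- the double coset
  let D : Set (Equiv.Perm (Option X)) := {f | ∃ a ∈ G, ∃ b ∈ G, f = a * h * b}
  have hGD : ∀ a ∈ G, ∀ u ∈ D, a * u ∈ D := by
    rintro a ha u ⟨a', ha', b', hb', rfl⟩
    exact ⟨a * a', mul_mem ha ha', b', hb', by group⟩
  have hDG : ∀ u ∈ D, ∀ b ∈ G, u * b ∈ D := by
    rintro u ⟨a', ha', b', hb', rfl⟩ b hb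
    exact ⟨a', ha', b' * b, mul_mem hb' hb, by group⟩
  have hghg : h * g * h ∈ D := by
    refine ⟨g⁻¹ * (g * h) ^ 3 * (h ^ 2)⁻¹, mul_mem (mul_mem (inv_mem hg) h6) hh2, g⁻¹, inv_mem hg, ?_⟩
    simp only [pow_succ, pow_zero, one_mul]
    group
  have hmid : ∀ f ∈ G, h * f * h ∈ G ∨ h * f * h ∈ D := by
    intro f hf
    obtain ⟨z, hz⟩ : ∃ z, f (some x) = some z := Option.ne_none_iff_exists'.1 fun e =>
      Option.some_ne_none _ (f.injective (e.trans (hfix f hf).symm))
    rcases eq_or_ne z x with rfl | hzx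
    · exact Or.inl (h8 f hf hz).1
    right
    obtain ⟨a, ha, hax, hay⟩ := pair_trans G k hk hkX htrans x y x z hxy (Ne.symm hzx)
    set b := g⁻¹ * a⁻¹ * f with hb
    have hbG : b ∈ G := mul_mem (mul_mem (inv_mem hg) (inv_mem ha)) hf
    have hbx : b (some x) = some x := by
      rw [hb, Equiv.Perm.mul_apply, Equiv.Perm.mul_apply, hz, ← hay]
      simp [Equiv.Perm.inv_def, Equiv.symm_apply_eq, h4]
    have hfe : f = a * g * b := by rw [hb]; group
    have key : h * f * h = (h * a * h) * (h ^ 2)⁻¹ * (h * g * h) * ((h ^ 2)⁻¹ * (h * b * h)) := by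
      rw [hfe, sq]; group
    rw [key]
    exact hDG _ (hGD _ (mul_mem (h8 a ha hax).1 hh2) _ hghg) _ (mul_mem hh2 (h8 b hbG hbx).1)
  let M : Subgroup (Equiv.Perm (Option X)) :=
    { carrier := (G : Set (Equiv.Perm (Option X))) ∪ D
      one_mem' := Or.inl G.one_mem
      mul_mem' := by
        rintro u v (hu | hu) (hv | hv)
        · exact Or.inl (mul_mem hu hv)
        · exact Or.inr (hGD u hu v hv)
        · exact Or.inr (hDG u hu v hv)
        · obtain ⟨a, ha, b, hb, rfl⟩ := hu
          obtain ⟨a', ha', b', hb', rfl⟩ := hv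
          rw [show a * h * b * (a' * h * b') = a * (h * (b * a') * h) * b' by group]
          rcases hmid (b * a') (mul_mem hb ha') with h' | h'
          · exact Or.inl (mul_mem (mul_mem ha h') hb')
          · exact Or.inr (hDG _ (hGD _ ha _ h') _ hb')
      inv_mem' := by
        rintro u (hu | hu)
        · exact Or.inl (inv_mem hu)
        · obtain ⟨a, ha, b, hb, rfl⟩ := hu
          exact Or.inr ⟨b⁻¹ * (h ^ 2)⁻¹, mul_mem (inv_mem hb) hh2, a⁻¹, inv_mem ha, by
            rw [sq]; group⟩ }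
  have hKM : K ≤ M := (Subgroup.closure_le M).2 (by
    rintro u (hu | hu)
    · exact Or.inl hu
    · rw [Set.mem_singleton_iff] at hu
      exact Or.inr ⟨1, one_mem _, 1, one_mem _, by rw [hu]; group⟩)
  refine ⟨fun f hf => ⟨fun hfn => ?_, fun hfG => hfix f hfG⟩, ?_⟩
  · rcases hKM hf with hf' | ⟨a, ha, b, hb, rfl⟩
    · exact hf'
    · rw [Equiv.Perm.mul_apply, hfix b hb, Equiv.Perm.mul_apply, h1] at hfn
      exact absurd (a.injective (hfn.trans (hfix a ha).symm)) (Option.some_ne_none _)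
  -- move the first point to `∗`
  have hmove : ∀ a : Fin (k + 1) ↪ Option X, ∃ σ ∈ K, σ (a 0) = none := by
    intro a
    cases hc : a 0 with
    | none => exact ⟨1, one_mem _, rfl⟩
    | some z =>
      rcases eq_or_ne z x with rfl | hz
      · exact ⟨h, hhK, h2⟩
      obtain ⟨f, hf, hfz, -⟩ := pair_trans G k hk hkX htrans z x x z hz (Ne.symm hz)
      exact ⟨h * f, mul_mem hhK (hGK hf), by rw [Equiv.Perm.mul_apply, hfz, h2]⟩
  refine ⟨fun a b => ?_⟩
  obtain ⟨σ, hσ, hσa⟩ := hmove a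
  obtain ⟨τ, hτ, hτb⟩ := hmove b
  have hrest : ∀ (c : Fin (k + 1) ↪ Option X) (ρ : Equiv.Perm (Option X)), ρ (c 0) = none →
      ∃ c' : Fin k ↪ X, ∀ i, ρ (c i.succ) = some (c' i) := by
    intro c ρ hρ
    have : ∀ i : Fin k, ∃ z, ρ (c i.succ) = some z := fun i => Option.ne_none_iff_exists'.1 fun e =>
      Fin.succ_ne_zero i (c.injective (ρ.injective (e.trans hρ.symm)))
    choose z hz using this
    exact ⟨⟨z, fun i j hij => Fin.succ_injective _ (c.injective (ρ.injective (by
      rw [hz, hz, hij])))⟩, hz⟩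
  obtain ⟨a', ha'⟩ := hrest a σ hσa
  obtain ⟨b', hb'⟩ := hrest b τ hτb
  obtain ⟨f, hf, hfab⟩ := htrans a' b'
  refine ⟨⟨τ⁻¹ * f * σ, mul_mem (mul_mem (inv_mem hτ) (hGK hf)) hσ⟩, DFunLike.ext _ _ fun i => ?_⟩
  show (τ⁻¹ * f * σ) (a i) = b i
  rw [Equiv.Perm.mul_apply, Equiv.Perm.mul_apply, Equiv.Perm.inv_def, Equiv.symm_apply_eq]
  refine Fin.cases ?_ (fun j => ?_) i
  · rw [hσa, hfix f hf, hτb]
  · rw [ha', hfab, hb']

end Cfsg.Agent.S4301
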