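import Cfsg.Statements.S4303
import Cfsg.Agent.Lib.Counting.SylowCount

set_option autoImplicit false
universe u
open Cfsg

namespace Cfsg.Agent.S4303

open Subgroup

theorem exists_list_of_modEq {p m : ℕ} (hp : p.Prime) (hm : m ≠ 0)
    (h : ∀ q : ℕ, q ^ m.factorization q ≡ 1 [MOD p]) :
    ∃ l : List ℕ, l.prod = m ∧ ∀ x ∈ l, IsPrimePow x ∧ x % p = 1 := by
  refine ⟨m.primeFactors.toList.map fun q => q ^ m.factorization q, ?_, ?_⟩
  · rw [Finset.prod_map_toList]
    exact Nat.factorization_prod_pow_eq_self hm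
  · intro x hx
    obtain ⟨q, hq, rfl⟩ := List.mem_map.1 hx
    rw [Finset.mem_toList, Nat.mem_primeFactors] at hq
    refine ⟨(isPrimePow_nat_iff _).2 ⟨q, _, hq.1,
      hq.1.factorization_pos_of_dvd hq.2.2 hq.2.1, rfl⟩, ?_⟩
    have := h q
    rwa [Nat.ModEq, Nat.one_mod_eq_one.2 hp.ne_one] at this

theorem third_factor {G : Type*} [Group G] [Finite G] {p : ℕ} [Fact p.Prime] (P : Sylow p G)
    (K : Subgroup G) [K.Normal] :
    ∃ l : List ℕ, l.prod = (normalizer ((P : Subgroup G) : Set G)).relIndex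
        (K ⊓ normalizer (((P : Subgroup G) ⊓ K : Subgroup G) : Set G)) ∧
      ∀ x ∈ l, IsPrimePow x ∧ x % p = 1 := by
  have hp : p.Prime := Fact.out
  set D := (P : Subgroup G) ⊓ K with hD
  set M := ((P : Subgroup G) ⊔ K) ⊓ normalizer (D : Set G) with hM
  haveI hDn : (D.subgroupOf M).Normal := by
    refine ⟨fun x hx y => ?_⟩
    rw [mem_subgroupOf] at hx ⊢
    exact (Subgroup.mem_normalizer_iff.1 y.2.2 _).1 hx
  rw [← Counting.SylowCount.card_sylow_third P K M hM]
  have hPM : (P : Subgroup G) ≤ M := by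
    refine le_inf le_sup_left fun x hx => mem_normalizer_fintype fun y hy => ⟨?_, ?_⟩
    · exact (P : Subgroup G).mul_mem ((P : Subgroup G).mul_mem hx hy.1)
        ((P : Subgroup G).inv_mem hx)
    · exact ‹K.Normal›.conj_mem y hy.2 x
  set f := QuotientGroup.mk' (D.subgroupOf M)
  have hf := QuotientGroup.mk'_surjective (D.subgroupOf M)
  set Q := (P.subtype hPM).mapSurjective hf with hQ
  haveI hKb : ((K.subgroupOf M).map f).Normal := Subgroup.Normal.map inferInstance f hf
  set Kb := (K.subgroupOf M).map f with hKbdef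
  have hbot : (Q : Subgroup (M ⧸ D.subgroupOf M)) ⊓ Kb = ⊥ := by
    rw [eq_bot_iff]
    intro z hz
    obtain ⟨⟨u, hu, hu'⟩, v, hv, hv'⟩ := hz
    have h1 := QuotientGroup.eq.1 (hu'.trans hv'.symm)
    rw [mem_subgroupOf] at h1
    have h2 : (v : G) ∈ (P : Subgroup G) := by
      have he : (v : G) = (u : G) * ((u⁻¹ * v : M) : G) := by simp
      rw [he]
      exact mul_mem hu h1.1
    rw [mem_bot, ← hv']
    exact (QuotientGroup.eq_one_iff v).2 ⟨h2, hv⟩
  have hcop : ¬ p ∣ Nat.card Kb := fun h => by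
    have h3 := Cores.sylow_subgroupOf_isSubnormal Q (Normal.isSubnormal hKb)
    rw [← inf_subgroupOf_right (Q : Subgroup (M ⧸ D.subgroupOf M)) Kb, hbot, bot_subgroupOf,
      index_bot] at h3
    exact h3 h
  have hone : Nat.card (Sylow p ((M ⧸ D.subgroupOf M) ⧸ Kb)) = 1 := by
    refine Counting.SylowCount.card_sylow_eq_one_of_normal
      (Q.mapSurjective (QuotientGroup.mk'_surjective Kb)) ?_
    suffices h : ((Q.mapSurjective (QuotientGroup.mk'_surjective Kb) : Sylow p _) :
        Subgroup ((M ⧸ D.subgroupOf M) ⧸ Kb)) = ⊤ by rw [h]; infer_instance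
    rw [eq_top_iff]
    intro z _
    obtain ⟨y, rfl⟩ := QuotientGroup.mk'_surjective Kb z
    obtain ⟨x, rfl⟩ := hf y
    obtain ⟨u, hu, v, hv, huv⟩ := mem_sup_of_normal_right.1 x.2.1
    refine ⟨f ⟨u, hPM hu⟩, ⟨⟨u, hPM hu⟩, hu, rfl⟩, QuotientGroup.eq.2 ?_⟩
    refine ⟨⟨u, hPM hu⟩⁻¹ * x, ?_, by rw [map_mul, map_inv]⟩
    rw [SetLike.mem_coe, mem_subgroupOf, Subgroup.coe_mul, Subgroup.coe_inv, ← huv,
      inv_mul_cancel_left]
    exact hv
  rw [Counting.SylowCount.card_sylow_eq_mul Q Kb, hone, one_mul, ← inf_relIndex_right,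
    Counting.SylowCount.normalizer_inf_eq_centralizer_inf
      (by rw [normalizer_eq_top]; exact le_top) hbot, inf_relIndex_right]
  exact exists_list_of_modEq hp (ne_zero_of_dvd_ne_zero Nat.card_pos.ne' (relIndex_dvd_card _ _))
    (fun q => Counting.SylowCount.qpart_relIndex_centralizer_modEq_one Q.2
      (by rw [normalizer_eq_top]; exact le_top) hcop q)

universe v

theorem aux (p : ℕ) [Fact p.Prime] : ∀ (k : ℕ) (H : Type v) [Group H] [Finite H],
    Nat.card H = k → ∃ l : List ℕ, l.prod = Nat.card (Sylow p H) ∧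
      ∀ m ∈ l, (IsPrimePow m ∧ m % p = 1) ∨
        ∃ (S : Type v) (_ : Group S) (_ : Finite S), IsSimpleGroup S ∧
          m = Nat.card (Sylow p S) := by
  intro k
  induction k using Nat.strong_induction_on with
  | _ k ih =>
    intro H _ _ hk
    rcases subsingleton_or_nontrivial H with hs | hs
    · refine ⟨[], ?_, by simp⟩
      rw [Counting.SylowCount.card_sylow_eq_one_of_isPGroup (p := p)
        (fun x => ⟨0, Subsingleton.elim _ _⟩)]
      rfl
    by_cases hsimp : IsSimpleGroup H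
    · refine ⟨[Nat.card (Sylow p H)], by simp, ?_⟩
      intro m hm
      rw [List.mem_singleton] at hm
      exact Or.inr ⟨H, ‹_›, ‹_›, hsimp, hm⟩
    obtain ⟨K, hK, hKbot, hKtop⟩ : ∃ K : Subgroup H, K.Normal ∧ K ≠ ⊥ ∧ K ≠ ⊤ := by
      by_contra h
      push Not at h
      exact hsimp ⟨fun K hK => or_iff_not_imp_left.2 (h K hK)⟩
    haveI := hK
    obtain ⟨P⟩ := (Sylow.nonempty : Nonempty (Sylow p H))
    have h1 : Nat.card (H ⧸ K) < k := by
      rw [← index_eq_card, ← hk, ← K.card_mul_index]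
      exact lt_mul_left (Nat.pos_of_ne_zero FiniteIndex.index_ne_zero)
        (K.one_lt_card_iff_ne_bot.2 hKbot)
    have h2 : Nat.card K < k := by
      rw [← hk]
      exact lt_of_le_of_ne (Nat.le_of_dvd Nat.card_pos (card_subgroup_dvd_card K))
        (fun h => hKtop (card_eq_iff_eq_top K |>.1 h))
    obtain ⟨l1, hl1, hl1'⟩ := ih _ h1 (H ⧸ K) rfl
    obtain ⟨l2, hl2, hl2'⟩ := ih _ h2 K rfl
    obtain ⟨l3, hl3, hl3'⟩ := third_factor P K
    refine ⟨l1 ++ l2 ++ l3, ?_, ?_⟩
    · rw [List.prod_append, List.prod_append, hl1, hl2, hl3,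
        Counting.SylowCount.card_sylow_eq_mul_mul P K]
    · intro m hm
      rcases List.mem_append.1 hm with hm | hm
      · rcases List.mem_append.1 hm with hm | hm
        exacts [hl1' m hm, hl2' m hm]
      · exact Or.inl (hl3' m hm)


/-- For a finite group `G` and a prime `p`, the number of Sylow `p`-subgroups of `G` is a product of natural numbers each of which is either a prime power congruent to 1 modulo `p` or the number of Sylow `p`-subgroups of some finite simple group. -/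
theorem result {G : Type u} [Group G] [Finite G]
    (p : ℕ) [Fact p.Prime] :
    ∃ l : List ℕ, l.prod = Nat.card (Sylow p G) ∧
      ∀ m ∈ l, (IsPrimePow m ∧ m % p = 1) ∨
        ∃ (S : Type u) (_ : Group S) (_ : Finite S), IsSimpleGroup S ∧ m = Nat.card (Sylow p S) := by
  exact aux p _ G rfl

end Cfsg.Agent.S4303
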