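import Cfsg.Statements.S4304
import Cfsg.Agent.GroupStructure3.SylowTwoP

set_option autoImplicit false
open Cfsg

namespace Cfsg.Agent.S4304

universe v

theorem aux (k : ℕ) (H : Type v) [Group H] [Finite H] (hk : Nat.card H = k) :
    Nat.card (Sylow 7 H) ≠ 15 := by
  haveI : Fact (Nat.Prime 7) := ⟨by norm_num⟩
  refine GroupStructure3.SylowTwoP.card_sylow_ne_of_simple (p := 7) (by norm_num) ?_ 3
    Nat.prime_three ?_ (by norm_num) ?_ k H hk
  · intro d hd hmod
    have : d ≤ 15 := Nat.le_of_dvd (by norm_num) hd
    interval_cases d <;> revert hd hmod <;> decide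
  · rw [show (15 : ℕ) = 3 * 5 by norm_num, Nat.factorization_mul (by norm_num) (by norm_num),
      Finsupp.add_apply, Nat.Prime.factorization_self Nat.prime_three,
      Nat.factorization_eq_zero_of_not_dvd (by norm_num)]
  · intro S _ _ _ hS
    refine GroupStructure3.SylowTwoP.not_simple (p := 7) hS (by norm_num) 5 (by norm_num)
      (by norm_num) (by norm_num) (by norm_num) ?_
    intro d hd ho
    have : d ≤ 4 := Nat.le_of_dvd (by norm_num) hd
    interval_cases d <;> revert hd ho <;> decide


/-- No finite group has exactly 15 Sylow 7-subgroups. -/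
theorem result {G : Type*} [Group G] [Finite G] : Nat.card (Sylow 7 G) ≠ 15 := by
  exact aux _ G rfl

end Cfsg.Agent.S4304
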