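import Cfsg.Statements.S4305
import Cfsg.Agent.GroupStructure3.PQ.SymThree

set_option autoImplicit false
open Cfsg

namespace Cfsg.Agent.S4305

/-- Let the symmetric group of degree 3 act by automorphisms on a finite solvable group `G` of order prime to 6, so that only the identity of `G` is fixed by all of it. Then the derived subgroup of `G` is nilpotent. -/
theorem result {G : Type*} [Group G] [Finite G] [Group.IsSolvable G]
    [MulDistribMulAction (Equiv.Perm (Fin 3)) G] (hcop : (Nat.card G).Coprime 6)
    (hfpf : ∀ g : G, (∀ a : Equiv.Perm (Fin 3), a • g = g) → g = 1) :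
    Group.IsNilpotent ↥(commutator G) := by
  have hA : Nat.card (Equiv.Perm (Fin 3)) = 3 * 2 := by
    rw [Nat.card_eq_fintype_card, Fintype.card_perm]; rfl
  have hAna : ¬ IsMulCommutative (Equiv.Perm (Fin 3)) := fun h =>
    absurd (h.is_comm.comm (Equiv.swap 0 1) (Equiv.swap 1 2)) (by decide)
  obtain ⟨F, H, C⟩ := Cfsg.Agent.GroupStructure3.PQ.exists_ctx (G := G) (A := Equiv.Perm (Fin 3)) Nat.prime_three Nat.prime_two
    (by norm_num) hA hAna hcop hfpf
  let e : G ≃* (SemidirectProduct.inl (φ := MulDistribMulAction.toMulAut (Equiv.Perm (Fin 3)) G)).range :=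
    MonoidHom.ofInjective SemidirectProduct.inl_injective
  refine Cfsg.Agent.Components.Fitting.isNilpotent_of_le ?_
  rw [← Subgroup.map_le_map_iff_of_injective (f := e.toMonoidHom) e.injective,
    Cfsg.Agent.Components.Fitting.fitting_map_equiv, _root_.commutator_def, Subgroup.map_commutator,
    show Subgroup.map e.toMonoidHom ⊤ = ⊤ from Subgroup.map_top_of_surjective e.toMonoidHom e.surjective, ← _root_.commutator_def]
  exact C.commutator_le_fitting

end Cfsg.Agent.S4305
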