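import Cfsg.Statements.S4316
import Cfsg.Agent.Lib.Components.DerivedBound.Main

set_option autoImplicit false
universe u
open Cfsg

namespace Cfsg.Agent.S4316

/-- There is a function `f` of two natural-number arguments with the following property. Let `q` be a prime and `A` an elementary abelian group of order `q³` acting by automorphisms on a finite group `G` of order prime to `q`, and suppose that for every non-identity `a ∈ A` the derived subgroup of the fixed-point subgroup `C_G(a)` has order at most `m`. Then the derived subgroup of `G` has order at most `f(q, m)`. -/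
theorem result :
    ∃ f : ℕ → ℕ → ℕ, ∀ (q m : ℕ) (A G : Type u) [Group A] [Finite A] [Group G] [Finite G] [MulDistribMulAction A G],
      q.Prime → Nat.card A = q ^ 3 → (∀ a b : A, a * b = b * a) → (∀ a : A, a ^ q = 1) → ¬ q ∣ Nat.card G →
      (∀ a : A, a ≠ 1 → Nat.card ↥(commutator ↥(FixedPoints.subgroup (Subgroup.zpowers a) G)) ≤ m) →
      Nat.card ↥(commutator G) ≤ f q m := by
  refine ⟨fun q m =>
      ((((m + 1) ^ (q ^ 3 * (m + 1))) ^ 2 ^ q ^ 3) ^ (((m + 1) ^ (q ^ 3 * (m + 1))) ^ 2 ^ q ^ 3 + 1)) ^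
        ((((m + 1) ^ (q ^ 3 * (m + 1))) ^ 2 ^ q ^ 3) ^ (((m + 1) ^ (q ^ 3 * (m + 1))) ^ 2 ^ q ^ 3 + 1) *
          (((((m + 1) ^ (q ^ 3 * (m + 1))) ^ 2 ^ q ^ 3) ^ (((m + 1) ^ (q ^ 3 * (m + 1))) ^ 2 ^ q ^ 3 + 1)) *
           ((((m + 1) ^ (q ^ 3 * (m + 1))) ^ 2 ^ q ^ 3) ^ (((m + 1) ^ (q ^ 3 * (m + 1))) ^ 2 ^ q ^ 3 + 1))) + 1)
        * (m + 1) ^ (q ^ 3 * (m + 1)), ?_⟩
  intro q m A G _ _ _ _ _ hq hA hcomm hexp hG hm
  have := Fact.mk hq
  let φ : A →* MulAut G := MulDistribMulAction.toMulAut A G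
  let i : G →* G ⋊[φ] A := SemidirectProduct.inl
  let j : A →* G ⋊[φ] A := SemidirectProduct.inr
  have hi : Function.Injective i := SemidirectProduct.inl_injective
  have hj : Function.Injective j := SemidirectProduct.inr_injective
  have : Finite (G ⋊[φ] A) := Finite.of_equiv (G × A) SemidirectProduct.equivProd.symm
  have hact : ∀ (a : A) (g : G), j a * i g * (j a)⁻¹ = i (a • g) := fun a g => by
    rw [← map_inv]
    exact (SemidirectProduct.inl_aut a g).symm
  have hEA : Cfsg.IsElementaryAbelian q (j.range) := by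
    refine ⟨⟨⟨?_⟩⟩, ?_⟩
    · rintro ⟨_, a, rfl⟩ ⟨_, b, rfl⟩
      exact Subtype.ext (show j a * j b = j b * j a by rw [← map_mul, ← map_mul, hcomm])
    · rintro _ ⟨a, rfl⟩
      rw [← map_pow, hexp, map_one]
  have hcA : Nat.card j.range = q ^ 3 := by
    rw [← hA]
    exact (Nat.card_congr (MonoidHom.ofInjective hj).toEquiv).symm
  have hcG : ¬ q ∣ Nat.card i.range := by
    rwa [← Nat.card_congr (MonoidHom.ofInjective hi).toEquiv]
  have hnorm : j.range ≤ Subgroup.normalizer (i.range : Set (G ⋊[φ] A)) := by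
    rw [Subgroup.le_normalizer_iff]
    rintro _ ⟨a, rfl⟩ _ ⟨g, rfl⟩
    exact ⟨a • g, (hact a g).symm⟩
  have key := Cfsg.Agent.Components.DerivedBound.card_commutator_le_of_fixed (m := m) hEA hcA hcG
    hnorm ?_
  · have he : ⁅i.range, i.range⁆ = (commutator G).map i := by
      rw [MonoidHom.range_eq_map, ← Subgroup.map_commutator]
      rfl
    rw [he, Subgroup.card_map_of_injective hi] at key
    exact key
  rintro _ ⟨a, rfl⟩ ha1
  have ha : a ≠ 1 := fun h => ha1 (by rw [h, map_one])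
  have hfix : i.range ⊓ Subgroup.centralizer ({j a} : Set (G ⋊[φ] A)) =
      (FixedPoints.subgroup (Subgroup.zpowers a) G).map i := by
    ext x
    rw [Subgroup.mem_inf, Subgroup.mem_centralizer_singleton_iff]
    constructor
    · rintro ⟨⟨g, rfl⟩, hg⟩
      refine ⟨g, ?_, rfl⟩
      have h1 : a • g = g := hi (by rw [← hact, ← hg, mul_inv_cancel_right])
      rintro ⟨b, hb⟩
      have : b ∈ MulAction.stabilizer A g :=
        (Subgroup.zpowers_le.mpr (show a ∈ MulAction.stabilizer A g from h1)) hb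
      exact this
    · rintro ⟨g, hg, rfl⟩
      refine ⟨⟨g, rfl⟩, ?_⟩
      have h1 : a • g = g := hg ⟨a, Subgroup.mem_zpowers a⟩
      have h2 := hact a g
      rw [h1] at h2
      exact (mul_inv_eq_iff_eq_mul.mp h2).symm
  rw [hfix, ← Subgroup.map_commutator, Subgroup.card_map_of_injective hi]
  refine le_trans (le_of_eq ?_) (hm a ha)
  rw [← Subgroup.map_subtype_commutator, Subgroup.card_subtype]

end Cfsg.Agent.S4316
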