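import Cfsg.Statements.S4321
import Mathlib
import Cfsg.Agent.GStructB.SingularClassGraph

set_option autoImplicit false
open Cfsg

namespace Cfsg.Agent.S4321

/-- Let `G` be a finite group and `p` a prime not dividing the order of the centre of `G`. Consider the primes dividing the size of some conjugacy class of a `p`-singular element (an element of order divisible by `p`), two of them adjacent when their product divides such a class size. Then any two distinct such primes are joined by a path with at most 3 edges (the graph is connected of diameter at most 3). -/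
theorem result {G : Type*} [Group G] [Finite G] (p : ℕ) [Fact p.Prime]
    (hZ : ¬ p ∣ Nat.card ↥(Subgroup.center G)) (r s : ℕ) (hr : (r.Prime ∧ ∃ x : G, p ∣ orderOf x ∧ r ∣ (Subgroup.centralizer ({x} : Set G)).index)) (hs : (s.Prime ∧ ∃ x : G, p ∣ orderOf x ∧ s ∣ (Subgroup.centralizer ({x} : Set G)).index)) (hrs : r ≠ s) :
    (∃ x : G, p ∣ orderOf x ∧ r * s ∣ (Subgroup.centralizer ({x} : Set G)).index) ∨ (∃ t : ℕ, (t.Prime ∧ ∃ x : G, p ∣ orderOf x ∧ t ∣ (Subgroup.centralizer ({x} : Set G)).index) ∧ t ≠ r ∧ t ≠ s ∧ (∃ x : G, p ∣ orderOf x ∧ r * t ∣ (Subgroup.centralizer ({x} : Set G)).index) ∧ (∃ x : G, p ∣ orderOf x ∧ t * s ∣ (Subgroup.centralizer ({x} : Set G)).index)) ∨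
      (∃ t u : ℕ, (t.Prime ∧ ∃ x : G, p ∣ orderOf x ∧ t ∣ (Subgroup.centralizer ({x} : Set G)).index) ∧ (u.Prime ∧ ∃ x : G, p ∣ orderOf x ∧ u ∣ (Subgroup.centralizer ({x} : Set G)).index) ∧ t ≠ r ∧ u ≠ s ∧ t ≠ u ∧ (∃ x : G, p ∣ orderOf x ∧ r * t ∣ (Subgroup.centralizer ({x} : Set G)).index) ∧ (∃ x : G, p ∣ orderOf x ∧ t * u ∣ (Subgroup.centralizer ({x} : Set G)).index) ∧ (∃ x : G, p ∣ orderOf x ∧ u * s ∣ (Subgroup.centralizer ({x} : Set G)).index)) := by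
  obtain ⟨hrp, x, hx, hrx⟩ := hr
  obtain ⟨hsp, y, hy, hsy⟩ := hs
  have hm : ∀ {a b : ℕ} {v : G}, a.Prime → b.Prime → a ≠ b →
      a ∣ (Subgroup.centralizer ({v} : Set G)).index → b ∣ (Subgroup.centralizer ({v} : Set G)).index →
      a * b ∣ (Subgroup.centralizer ({v} : Set G)).index := fun ha hb hab h1 h2 =>
    ((Nat.coprime_primes ha hb).mpr hab).mul_dvd_of_dvd_of_dvd h1 h2
  have h := Cfsg.Agent.GStructB.SingularClassGraph.not_sep hZ hx hy
  simp only [Cfsg.Agent.GStructB.SingularClassGraph.Sep, Cfsg.Agent.GStructB.SingularClassGraph.cs,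
    not_forall, exists_prop] at h
  obtain ⟨w, hw, t, u, ht, hu, htx, htw, huw, huy, -⟩ := h
  by_cases h1 : r ∣ (Subgroup.centralizer ({y} : Set G)).index
  · exact Or.inl ⟨y, hy, hm hrp hsp hrs h1 hsy⟩
  by_cases h2 : s ∣ (Subgroup.centralizer ({x} : Set G)).index
  · exact Or.inl ⟨x, hx, hm hrp hsp hrs hrx h2⟩
  have hts : t ≠ s := fun e => h2 (e ▸ htx)
  have hur : u ≠ r := fun e => h1 (e ▸ huy)
  by_cases htu : t = u
  · subst htu
    exact Or.inr (Or.inl ⟨t, ⟨ht, x, hx, htx⟩, hur, hts, ⟨x, hx, hm hrp ht (Ne.symm hur) hrx htx⟩,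
      ⟨y, hy, hm ht hsp hts huy hsy⟩⟩)
  by_cases htr : t = r
  · subst htr
    by_cases hus : u = s
    · subst hus
      exact Or.inl ⟨w, hw, hm hrp hsp hrs htw huw⟩
    · exact Or.inr (Or.inl ⟨u, ⟨hu, y, hy, huy⟩, hur, hus, ⟨w, hw, hm hrp hu htu htw huw⟩,
        ⟨y, hy, hm hu hsp hus huy hsy⟩⟩)
  by_cases hus : u = s
  · subst hus
    exact Or.inr (Or.inl ⟨t, ⟨ht, x, hx, htx⟩, htr, hts, ⟨x, hx, hm hrp ht (Ne.symm htr) hrx htx⟩,
      ⟨w, hw, hm ht hsp hts htw huw⟩⟩)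
  exact Or.inr (Or.inr ⟨t, u, ⟨ht, x, hx, htx⟩, ⟨hu, y, hy, huy⟩, htr, hus, htu,
    ⟨x, hx, hm hrp ht (Ne.symm htr) hrx htx⟩, ⟨w, hw, hm ht hu htu htw huw⟩,
    ⟨y, hy, hm hu hsp hus huy hsy⟩⟩)

end Cfsg.Agent.S4321
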