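import Cfsg.Statements.S4323
import Cfsg.Agent.Lib.AbelianFixed.Main

set_option autoImplicit false
open Cfsg

namespace Cfsg.Agent.S4323

/-- Let `q` be a prime and `A` a non-cyclic group of order `q²` acting by automorphisms on a finite group `G` of order prime to `q`, such that the fixed-point subgroup `C_G(a)` is abelian for every non-identity `a ∈ A`. Then `G` is solvable. -/
theorem result {A G : Type*} [Group A] [Finite A]
    [Group G] [Finite G] [MulDistribMulAction A G] (q : ℕ) (hq : q.Prime) (hA : Nat.card A = q ^ 2) (hnc : ¬ IsCyclic A)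
    (hcop : ¬ q ∣ Nat.card G) (h : ∀ a : A, a ≠ 1 → IsMulCommutative ↥(FixedPoints.subgroup (Subgroup.zpowers a) G)) :
    Group.IsSolvable G := by
  let φ : A →* MulAut G := MulDistribMulAction.toMulAut A G
  let i : G →* G ⋊[φ] A := SemidirectProduct.inl
  let j : A →* G ⋊[φ] A := SemidirectProduct.inr
  have hi : Function.Injective i := SemidirectProduct.inl_injective
  have hj : Function.Injective j := SemidirectProduct.inr_injective
  have : Finite (G ⋊[φ] A) := Finite.of_equiv (G × A) SemidirectProduct.equivProd.symm
  have hact : ∀ (a : A) (g : G), j a * i g * (j a)⁻¹ = i (a • g) := fun a g => by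
    rw [← map_inv]
    exact (SemidirectProduct.inl_aut a g).symm
  let eA : A ≃* j.range := MonoidHom.ofInjective hj
  let eG : G ≃* i.range := MonoidHom.ofInjective hi
  let S : Cfsg.Agent.AbelianFixed.Ctx (G ⋊[φ] A) :=
    { G := i.range
      A := j.range
      q := q
      hq := hq
      cardA := by rw [← Nat.card_congr eA.toEquiv, hA]
      ncyc := fun hc => hnc (isCyclic_of_surjective eA.symm.toMonoidHom eA.symm.surjective)
      hAG := by
        rw [Subgroup.le_normalizer_iff]
        rintro _ ⟨a, rfl⟩ _ ⟨g, rfl⟩
        exact ⟨a • g, (hact a g).symm⟩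
      hcop := by rwa [← Nat.card_congr eG.toEquiv]
      hab := by
        rintro _ ⟨a, rfl⟩ ha1
        have ha : a ≠ 1 := fun h1 => ha1 (by rw [h1, map_one])
        have hmem : ∀ x, x ∈ i.range ⊓ Subgroup.centralizer ({j a} : Set (G ⋊[φ] A)) →
            ∃ g ∈ FixedPoints.subgroup (Subgroup.zpowers a) G, i g = x := by
          intro x hx
          obtain ⟨⟨g, rfl⟩, hg⟩ := Subgroup.mem_inf.mp hx
          rw [Subgroup.mem_centralizer_singleton_iff] at hg
          refine ⟨g, ?_, rfl⟩
          have h1 : a • g = g := hi (by rw [← hact, ← hg, mul_inv_cancel_right])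
          rintro ⟨b, hb⟩
          have : b ∈ MulAction.stabilizer A g :=
            (Subgroup.zpowers_le.mpr (show a ∈ MulAction.stabilizer A g from h1)) hb
          exact this
        intro x hx
        rw [Subgroup.mem_centralizer_iff]
        intro y hy
        obtain ⟨g, hg, rfl⟩ := hmem x hx
        obtain ⟨k, hk, rfl⟩ := hmem y hy
        rw [← map_mul, ← map_mul]
        exact congrArg i (congrArg Subtype.val ((h a ha).is_comm.comm ⟨k, hk⟩ ⟨g, hg⟩)) }
  have hS : Group.IsSolvable S.G := Cfsg.Agent.AbelianFixed.isSolvable _ S le_rfl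
  exact Group.isSolvable_of_surjective (f := eG.symm.toMonoidHom) eG.symm.surjective

end Cfsg.Agent.S4323
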