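import Cfsg.Statements.S4325
import Cfsg.Agent.GroupStructure3.PermNormal
import Cfsg.Agent.Lib.Cores.Basic

set_option autoImplicit false
open Cfsg

namespace Cfsg.Agent.S4325

open Cfsg.Agent.GroupStructure3

/-- Let r be a prime and m a natural number with m + 1 < r, and let π be a set of primes containing every prime below r but not r itself. Then in the symmetric group of degree r any m transpositions generate a π-subgroup, while O_π of the symmetric group is trivial. (So no bound on the number of conjugates that works for all π exists in the π-radical analogue of the Baer–Suzuki Theorem.) -/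
theorem result (r m : ℕ) (hr : r.Prime)
    (hm : m + 1 < r) (π : Set ℕ) (hπ : ∀ q : ℕ, q.Prime → q < r → q ∈ π) (hrπ : r ∉ π)
    (t : Fin m → Equiv.Perm (Fin r)) (ht : ∀ i, (t i).IsSwap) :
    Cfsg.IsPiSubgroup π (Subgroup.closure (Set.range t)) ∧ Cfsg.piCore π (Equiv.Perm (Fin r)) = ⊥ := by
  haveI := Fact.mk hr
  refine ⟨fun q hq hdvd => ?_, ?_⟩
  · have h1 : q ∣ r.factorial := by
      have := hdvd.trans (Subgroup.card_subgroup_dvd_card _)
      rwa [Nat.card_perm, Nat.card_eq_fintype_card, Fintype.card_fin] at this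
    rcases lt_or_eq_of_le ((Nat.Prime.dvd_factorial hq).1 h1) with hlt | rfl
    · exact hπ q hq hlt
    exfalso
    obtain ⟨⟨x, hx⟩, hxo⟩ := exists_prime_orderOf_dvd_card' q hdvd
    rw [Subgroup.orderOf_mk] at hxo
    have hcyc : x.IsCycle := Equiv.Perm.isCycle_of_prime_order' (by rw [hxo]; exact hq)
      (by rw [Fintype.card_fin, hxo]; have := hq.pos; omega)
    have hsupp : x.support = Finset.univ := Finset.eq_univ_of_card _
      (by rw [← hcyc.orderOf, hxo, Fintype.card_fin])
    obtain ⟨f, hf, hc⟩ := PermNormal.exists_label (List.ofFn t) (by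
      intro s hs
      obtain ⟨i, rfl⟩ := List.mem_ofFn.1 hs
      exact ht i)
    have hle : Subgroup.closure (Set.range t) ≤ PermNormal.fiberSub f := by
      rw [Subgroup.closure_le]
      rintro _ ⟨i, rfl⟩
      exact fun a => hf _ (List.mem_ofFn.2 ⟨i, rfl⟩) a
    have h2 : ∀ a b, f a = f b := by
      intro a b
      obtain ⟨k, hk⟩ := hcyc.sameCycle (Equiv.Perm.mem_support.1 (hsupp ▸ Finset.mem_univ a))
        (Equiv.Perm.mem_support.1 (hsupp ▸ Finset.mem_univ b))
      rw [← hk]
      exact ((hle (Subgroup.zpow_mem _ hx k)) a).symm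
    have h3 : (Finset.univ.image f).card ≤ 1 := by
      rw [Finset.card_le_one]
      intro u hu v hv
      obtain ⟨a, -, rfl⟩ := Finset.mem_image.1 hu
      obtain ⟨b, -, rfl⟩ := Finset.mem_image.1 hv
      exact h2 a b
    rw [Fintype.card_fin, List.length_ofFn] at hc
    omega
  · refine PermNormal.eq_bot_of_coprime _ ?_
    rw [Nat.card_eq_fintype_card (α := Fin r), Fintype.card_fin, Nat.coprime_comm,
      hr.coprime_iff_not_dvd]
    exact fun h => hrπ (Cores.piCore_isPi π r hr h)

end Cfsg.Agent.S4325
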