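import Cfsg.Statements.S4326

set_option autoImplicit false
open Pointwise
open Cfsg

namespace Cfsg.Agent.S4326

open scoped Pointwise

/-- Let G be a finite group, p a prime, x an automorphism of G of p-power order and M the subgroup of fixed points of x. Suppose that p divides the index of M and that either M is self-normalizing or M has trivial center. Then some conjugate of M is mapped onto itself by x but is not fixed elementwise by x. -/
theorem result {G : Type*} [Group G] [Finite G]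
    (p : ℕ) [Fact p.Prime] (x : MulAut G) (hx : ∃ k : ℕ, orderOf x = p ^ k) (M : Subgroup G)
    (hM : ∀ g : G, g ∈ M ↔ x g = g) (hp : p ∣ M.index)
    (hself : Subgroup.normalizer (M : Set G) = M ∨ Subgroup.center M = ⊥) :
    ∃ g : G, (∀ y ∈ MulAut.conj g • M, x y ∈ MulAut.conj g • M) ∧ ∃ y ∈ MulAut.conj g • M, x y ≠ y := by
  classical
  cases nonempty_fintype G
  obtain ⟨k, hk⟩ := hx
  have hMx : ∀ a b : G, a⁻¹ * b ∈ M → (x a)⁻¹ * x b ∈ M := by
    intro a b h
    rw [← map_inv, ← map_mul, (hM _).1 h]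
    exact h
  let f : Function.End (G ⧸ M) := Quotient.map' x fun a b h => by
    rw [QuotientGroup.leftRel_apply] at h ⊢
    exact hMx a b h
  have hf : ∀ g : G, f (g : G ⧸ M) = ((x g : G) : G ⧸ M) := fun g => rfl
  have hpow : ∀ (j : ℕ) (g : G), (f ^ j) (g : G ⧸ M) = (((x ^ j) g : G) : G ⧸ M) := by
    intro j
    induction j with
    | zero => intro g; simp [Function.End.one_def]
    | succ j ih =>
      intro g
      rw [pow_succ, pow_succ, MulAut.mul_apply, ← ih (x g), ← hf g]
      rfl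
  have hone : f ^ p ^ k = 1 := by
    funext c
    induction c using QuotientGroup.induction_on with
    | H g => rw [hpow, ← hk, pow_orderOf_eq_one]; rfl
  have hcard := Equiv.Perm.card_fixedPoints_modEq hone
  rw [← Nat.card_eq_fintype_card, ← Subgroup.index] at hcard
  have hdvd : p ∣ Fintype.card f.fixedPoints :=
    Nat.modEq_zero_iff_dvd.1 (hcard.symm.trans (Nat.modEq_zero_iff_dvd.2 hp))
  have h1fix : ((1 : G) : G ⧸ M) ∈ f.fixedPoints := by
    show f _ = _
    rw [hf, map_one]
  have h2 : 1 < Fintype.card f.fixedPoints :=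
    lt_of_lt_of_le (Fact.out : p.Prime).one_lt
      (Nat.le_of_dvd (Fintype.card_pos_iff.2 ⟨⟨_, h1fix⟩⟩) hdvd)
  obtain ⟨⟨c, hc⟩, hcne⟩ := Fintype.exists_ne_of_one_lt_card h2 ⟨_, h1fix⟩
  obtain ⟨g, rfl⟩ := QuotientGroup.mk_surjective c
  have hg : g ∉ M := fun h => hcne (Subtype.ext (QuotientGroup.eq.2 (by simpa using M.inv_mem h)))
  have hm : g⁻¹ * x g ∈ M := QuotientGroup.eq.1 (show (g : G ⧸ M) = _ from hc.symm)
  have hxc : ∀ y ∈ M, x (g * y * g⁻¹) = g * ((g⁻¹ * x g) * y * (g⁻¹ * x g)⁻¹) * g⁻¹ := by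
    intro y hy
    rw [map_mul, map_mul, map_inv, (hM y).1 hy]
    group
  refine ⟨g, ?_, ?_⟩
  · rintro _ ⟨y, hy, rfl⟩
    refine ⟨(g⁻¹ * x g) * y * (g⁻¹ * x g)⁻¹, M.mul_mem (M.mul_mem hm hy) (M.inv_mem hm), ?_⟩
    simp only [MulDistribMulAction.toMonoidEnd_apply, MulDistribMulAction.toMonoidHom_apply,
      MulAut.smul_def, MulAut.conj_apply]
    exact (hxc y hy).symm
  by_contra hcon
  push Not at hcon
  have hfixed : ∀ y ∈ M, x (g * y * g⁻¹) = g * y * g⁻¹ := fun y hy =>
    hcon _ (Subgroup.smul_mem_pointwise_smul _ (MulAut.conj g) _ hy)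
  rcases hself with hself | hself
  · apply hg
    rw [← hself]
    have hle : M.map (MulAut.conj g).toMonoidHom ≤ M := by
      rintro _ ⟨y, hy, rfl⟩
      exact (hM _).2 (hfixed y hy)
    have heq := Subgroup.eq_of_le_of_card_ge hle
      (Subgroup.card_map_of_injective (MulEquiv.injective _)).ge
    rw [Subgroup.mem_normalizer_iff]
    intro y
    refine ⟨fun hy => hle ⟨y, hy, rfl⟩, fun hy => ?_⟩
    rw [← heq] at hy
    obtain ⟨z, hz, hzy⟩ := hy
    have := MulEquiv.injective (MulAut.conj g) hzy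
    exact this ▸ hz
  · apply hg
    have hz : (⟨g⁻¹ * x g, hm⟩ : M) ∈ Subgroup.center M := by
      rw [Subgroup.mem_center_iff]
      intro y
      have h := (hxc y.1 y.2).symm.trans (hfixed y.1 y.2)
      have h' := mul_left_cancel (mul_right_cancel h)
      rw [mul_inv_eq_iff_eq_mul] at h'
      exact Subtype.ext h'.symm
    rw [hself, Subgroup.mem_bot] at hz
    have h3 : g⁻¹ * x g = 1 := congrArg Subtype.val hz
    exact (hM g).2 (inv_mul_eq_one.1 h3).symm

end Cfsg.Agent.S4326
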