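import Cfsg.Statements.S4330
import Cfsg.Agent.LocalFlavell.BaerSuzukiEscape
import Cfsg.Agent.Lib.Cores.Subnormal
import Cfsg.Agent.Lib.Hall.MinimalNormal

set_option autoImplicit false
open Pointwise
open Cfsg

namespace Cfsg.Agent.S4330

open Subgroup

universe u

/-- Element form: `a` generates a `p`-group with some element of each class of its conjugates. -/
theorem core (p : ℕ) [Fact p.Prime] (hp : p ≠ 2) : ∀ (n : ℕ) {G : Type u} [Group G] [Finite G],
    Nat.card G = n → Group.IsSolvable G → ∀ a : G, IsPGroup p (zpowers a) →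
    (∀ c : G, ∃ g : G, IsConj c g ∧ IsPGroup p (zpowers a ⊔ zpowers (g * a * g⁻¹) : Subgroup G)) →
    a ∈ pCore p G := by
  intro n
  induction n using Nat.strong_induction_on with
  | _ n ih =>
  intro G _ _ hn hG a hap H
  have hquot : ∀ (N : Subgroup G) [N.Normal], N ≠ ⊥ → QuotientGroup.mk' N a ∈ pCore p (G ⧸ N) := by
    intro N _ hN
    refine ih _ ?_ rfl (Group.isSolvable_of_surjective (QuotientGroup.mk'_surjective N)) _ ?_ ?_
    · rw [← hn, card_eq_card_quotient_mul_card_subgroup N]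
      exact lt_mul_of_one_lt_right Nat.card_pos (N.one_lt_card_iff_ne_bot.mpr hN)
    · rw [← MonoidHom.map_zpowers]; exact hap.map _
    · intro c
      obtain ⟨c, rfl⟩ := QuotientGroup.mk'_surjective N c
      obtain ⟨g, hg, hgp⟩ := H c
      refine ⟨QuotientGroup.mk' N g, (QuotientGroup.mk' N).map_isConj hg, ?_⟩
      rw [← map_inv, ← map_mul, ← map_mul, ← MonoidHom.map_zpowers, ← MonoidHom.map_zpowers, ← Subgroup.map_sup]
      exact hgp.map _
  by_cases hO : pCore p G = ⊥
  swap
  · have h := hquot (pCore p G) hO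
    rw [Cores.pCore_quotient_self, mem_bot] at h
    exact (QuotientGroup.eq_one_iff a).mp h
  rw [hO, mem_bot]
  by_contra ha1
  -- an element of order `p`
  obtain ⟨b, hb, hbp, hb1⟩ : ∃ b ∈ zpowers a, b ^ p = 1 ∧ b ≠ 1 := by
    have : Nontrivial (zpowers a) :=
      (zpowers a).nontrivial_iff_ne_bot.mpr (by simpa using ha1)
    obtain ⟨k, hk⟩ := IsPGroup.iff_card.mp hap
    have hdvd : p ∣ Nat.card (zpowers a) := by
      rw [hk]
      refine dvd_pow_self p fun e => ?_
      rw [e, pow_zero] at hk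
      exact (Finite.one_lt_card (α := zpowers a)).ne' hk
    obtain ⟨x, hx⟩ := exists_prime_orderOf_dvd_card' p hdvd
    rw [← orderOf_coe] at hx
    exact ⟨x, x.2, orderOf_dvd_iff_pow_eq_one.mp hx.dvd, fun e => (Fact.out : p.Prime).one_lt.ne
      (by rw [← hx, e, orderOf_one])⟩
  have Hb : ∀ c : G, ∃ g : G, IsConj c g ∧ IsPGroup p (zpowers b ⊔ zpowers (g * b * g⁻¹) : Subgroup G) := by
    intro c
    obtain ⟨g, hg, hgp⟩ := H c
    refine ⟨g, hg, hgp.to_le (sup_le ((zpowers_le.mpr hb).trans le_sup_left) (zpowers_le.mpr ?_))⟩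
    obtain ⟨k, rfl⟩ := mem_zpowers_iff.mp hb
    rw [← conj_zpow]
    exact zpow_mem (mem_sup_right (mem_zpowers _)) k
  -- a minimal normal subgroup
  have : Nontrivial G := ⟨⟨b, 1, hb1⟩⟩
  obtain ⟨N, hNn, -, hN, hmin⟩ := Hall.exists_minimal_normal (⊤ : Subgroup G) top_ne_bot
  have : Group.IsSolvable N := Group.isSolvable_of_isSolvable_injective N.subtype_injective
  obtain ⟨q, hq, -, hNq, hNe⟩ := Hall.minimal_normal_isElementaryAbelian hN hmin
  have hcomm : ∀ x ∈ N, ∀ y ∈ N, x * y = y * x := fun x hx y hy =>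
    haveI := Hall.minimal_normal_isMulCommutative hmin
    congrArg Subtype.val (mul_comm' (⟨x, hx⟩ : N) ⟨y, hy⟩)
  have hqp : q ≠ p := by
    rintro rfl
    exact hN (le_bot_iff.mp (hO ▸ Cores.le_pCore hNq))
  have hNp : ¬ p ∣ Nat.card N := by
    intro hd
    have := Fact.mk hq
    obtain ⟨k, hk⟩ := IsPGroup.iff_card.mp hNq
    rw [hk] at hd
    exact hqp ((Nat.prime_dvd_prime_iff_eq Fact.out hq).mp ((Fact.out : p.Prime).dvd_of_dvd_pow hd)).symm
  -- the preimage of the `p`-core of the quotient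
  have hbq : QuotientGroup.mk' N b ∈ pCore p (G ⧸ N) := by
    obtain ⟨k, rfl⟩ := mem_zpowers_iff.mp hb
    rw [map_zpow]
    exact zpow_mem (hquot N hN) k
  set M := (pCore p (G ⧸ N)).comap (QuotientGroup.mk' N) with hM
  have hNM : N ≤ M := fun x hx => by
    rw [hM, mem_comap, QuotientGroup.mk'_apply, (QuotientGroup.eq_one_iff x).mpr hx]
    exact one_mem _
  obtain ⟨P, hP⟩ := (show IsPGroup p ((zpowers b).subgroupOf M) from
    (hap.to_le (zpowers_le.mpr hb)).comap_subtype).exists_le_sylow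
  set P0 := (P : Subgroup M).map M.subtype with hP0
  have hbP : b ∈ P0 := ⟨⟨b, hbq⟩, hP (mem_subgroupOf.mpr (mem_zpowers b)), rfl⟩
  have hP0p : IsPGroup p P0 := P.isPGroup'.map _
  have hMN : ∀ m ∈ M, ∃ x ∈ P0, ∃ y ∈ N, m = x * y := by
    intro m hm
    have hPn : (P : Subgroup M) ⊔ N.subgroupOf M = ⊤ := by
      have hsurj : Function.Surjective ((QuotientGroup.mk' N).subgroupComap (pCore p (G ⧸ N))) :=
        fun ⟨x, hx⟩ => by
          obtain ⟨y, rfl⟩ := QuotientGroup.mk'_surjective N x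
          exact ⟨⟨y, hx⟩, rfl⟩
      have hPtop := (P.mapSurjective hsurj).coe_mk
      have htop : (P : Subgroup M).map ((QuotientGroup.mk' N).subgroupComap (pCore p (G ⧸ N))) = ⊤ := by
        have h1 : IsPGroup p (⊤ : Subgroup (pCore p (G ⧸ N))) := (Cores.pCore_isPGroup p).to_subgroup _
        exact ((P.mapSurjective hsurj).3 h1 le_top).symm
      refine top_le_iff.mp fun x _ => ?_
      obtain ⟨y, hy, hyx⟩ := htop.ge (mem_top ((QuotientGroup.mk' N).subgroupComap _ x))
      have hxy : y⁻¹ * x ∈ N.subgroupOf M := mem_subgroupOf.mpr (by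
        rw [← QuotientGroup.eq_one_iff]
        have := congrArg Subtype.val hyx
        change QuotientGroup.mk' N y = QuotientGroup.mk' N x at this
        change QuotientGroup.mk' N (((y : M) : G)⁻¹ * x) = 1
        rw [map_mul, map_inv, this, inv_mul_cancel])
      simpa using mul_mem (mem_sup_left (T := N.subgroupOf M) hy) (mem_sup_right (S := (P : Subgroup M)) hxy)
    obtain ⟨x, hx, y, hy, hxy⟩ := Set.mem_mul.mp (show (⟨m, hm⟩ : M) ∈ (((P : Subgroup M) : Set M) * (N.subgroupOf M : Set M)) by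
      rw [← Subgroup.mul_normal, hPn]; trivial)
    exact ⟨x, ⟨x, hx, rfl⟩, y, hy, (congrArg Subtype.val hxy).symm⟩
  set L := normalizer (P0 : Set G) with hL
  have hGNL : ∀ x : G, ∃ y ∈ N, ∃ l ∈ L, x = y * l := by
    intro x
    have htop := Sylow.normalizer_sup_eq_top (N := M) P
    obtain ⟨l, hl, m, hm, rfl⟩ := Set.mem_mul.mp (show x ∈ ((L : Set G) * (M : Set G)) by
      rw [← Subgroup.mul_normal, htop]; trivial)
    obtain ⟨z, hz, y, hy, rfl⟩ := hMN m hm
    refine ⟨l * z * y * (l * z)⁻¹, hNn.conj_mem y hy _, l * z, mul_mem hl (le_normalizer hz), by group⟩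
  have hnorm : ∀ U : Subgroup G, N ≤ normalizer (U : Set G) → L ≤ normalizer (U : Set G) → U.Normal := by
    intro U h1 h2
    rw [← normalizer_eq_top_iff, eq_top_iff]
    intro x _
    obtain ⟨y, hy, l, hl, rfl⟩ := hGNL x
    exact mul_mem (h1 hy) (h2 hl)
  have A : LocalFlavell.BaerSuzuki.Act p N P0 L :=
    { comm := hcomm
      nV := fun l _ => by rw [normalizer_eq_top_iff.mpr hNn]; exact mem_top l
      nP := le_rfl
      PL := le_normalizer
      isP := hP0p
      cop := hNp
      ne := hN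
      irr := fun U hU hUn => hmin U (hnorm U (fun y hy => centralizer_le_normalizer _
        (mem_centralizer_iff.mpr fun u hu => hcomm u (hU hu) y hy)) hUn) hU }
  have hbN : b ∉ centralizer (N : Set G) := by
    intro h
    have hnb : (P0 ⊓ centralizer (N : Set G)).Normal := by
      refine hnorm _ (fun y hy => centralizer_le_normalizer _ (mem_centralizer_iff.mpr fun u hu =>
        (mem_centralizer_iff.mp (mem_inf.mp hu).2 y hy).symm)) ?_
      refine le_trans (le_inf le_rfl ?_) inf_normalizer_le_normalizer_inf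
      have : (centralizer (N : Set G)).Normal := inferInstance
      intro l _
      rw [normalizer_eq_top_iff.mpr this]; exact mem_top l
    exact hb1 (mem_bot.mp (hO ▸ Cores.le_pCore (hN := hnb) (hP0p.to_le inf_le_left) (mem_inf.mpr ⟨hbP, h⟩)))
  obtain ⟨v, hv, hesc⟩ := LocalFlavell.BaerSuzuki.escapes hp _ rfl A b hbP hbp hbN
  -- the representative of the class of `v` commutes with `b`
  obtain ⟨g, hg, hgp⟩ := Hb v
  obtain ⟨x, rfl⟩ := isConj_iff.mp hg
  set w := x * v * x⁻¹ with hw
  have hwN : w ∈ N := hNn.conj_mem v hv x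
  have h1 : w * b * w⁻¹ * b⁻¹ = 1 := by
    have hN1 : w * b * w⁻¹ * b⁻¹ ∈ N := by
      have := mul_mem hwN (hNn.conj_mem w⁻¹ (inv_mem hwN) b)
      simpa [mul_assoc] using this
    have hJ : w * b * w⁻¹ * b⁻¹ ∈ zpowers b ⊔ zpowers (w * b * w⁻¹) :=
      mul_mem (mem_sup_right (mem_zpowers _)) (inv_mem (mem_sup_left (mem_zpowers b)))
    obtain ⟨k, hk⟩ := IsPGroup.iff_card.mp hgp
    have hdis : Disjoint N (zpowers b ⊔ zpowers (w * b * w⁻¹)) := Coprime.disjoint_of_coprime (by
      rw [hk]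
      exact Nat.Coprime.pow_right k (Nat.Coprime.symm ((Fact.out : p.Prime).coprime_iff_not_dvd.mpr hNp)))
    exact disjoint_def.mp hdis hN1 hJ
  have hwb : Commute b w := (mul_inv_eq_iff_eq_mul.mp (mul_inv_eq_one.mp h1)).symm
  obtain ⟨y, hy, l, hl, rfl⟩ := hGNL x
  have hwl : w = l * v * l⁻¹ := by
    have e : w = y * (l * v * l⁻¹) * y⁻¹ := by rw [hw]; group
    rw [e, hcomm y hy _ (hNn.conj_mem v hv l), mul_inv_cancel_right]
  refine hesc l⁻¹ (inv_mem hl) ?_
  rw [hwl] at hwb
  calc l⁻¹ * b * l⁻¹⁻¹ * v = l⁻¹ * (b * (l * v * l⁻¹)) * l := by group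
    _ = l⁻¹ * (l * v * l⁻¹ * b) * l := by rw [hwb.eq]
    _ = _ := by group

/-- Let G be a finite solvable group, p an odd prime and A a p-subgroup of G such that every conjugacy class of G contains an element g for which A is subnormal in the subgroup generated by A and its conjugate by g. Then A is contained in O_p(G). (The hypothesis that p is odd is needed.) -/
theorem result {G : Type*} [Group G] [Finite G]
    (hG : Group.IsSolvable G) (p : ℕ) [Fact p.Prime] (hp : p ≠ 2) (A : Subgroup G) (hA : IsPGroup p A)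
    (h : ∀ c : G, ∃ g : G, IsConj c g ∧ (A.subgroupOf (A ⊔ MulAut.conj g • A)).IsSubnormal) :
    A ≤ Cfsg.pCore p G := by
  intro a ha
  refine core p hp _ rfl hG a (hA.to_le (zpowers_le.mpr ha)) fun c => ?_
  obtain ⟨g, hg, hsn⟩ := h c
  refine ⟨g, hg, ?_⟩
  set J := A ⊔ MulAut.conj g • A with hJ
  have hAO := Cores.le_pCore_of_isSubnormal hsn hA.comap_subtype
  have hJp : IsPGroup p J := by
    set O := pCore p J
    have hconj : IsPGroup p ((MulAut.conj g • A).subgroupOf J) :=
      (hA.map (MulAut.conj g).toMonoidHom).comap_subtype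
    have htop : (MulAut.conj g • A).subgroupOf J ⊔ O = ⊤ := by
      refine top_le_iff.mp (le_trans (le_of_eq ((subgroupOf_self J).symm.trans
        (subgroupOf_sup le_sup_left le_sup_right))) ?_)
      exact sup_le (hAO.trans le_sup_right) le_sup_left
    have h1 := hconj.to_sup_of_normal_right (Cores.pCore_isPGroup (G := J) p)
    rw [htop] at h1
    exact h1.of_equiv topEquiv
  refine hJp.to_le (sup_le ((zpowers_le.mpr ha).trans le_sup_left) (zpowers_le.mpr ?_))
  exact mem_sup_right (Coprime.conj_mem_conj_smul ha)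

end Cfsg.Agent.S4330
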