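import Cfsg.Agent.GenA.Subnormal
import Cfsg.Agent.Lib.Cores.Basic
import Cfsg.Statements.S4331

set_option autoImplicit false
open Cfsg

namespace Cfsg.Agent.S4331

/-- Affine maps of the plane over `ZMod 3`: linear part `a b c d`, translation `x y`. -/
structure El where
  a : ZMod 3
  b : ZMod 3
  c : ZMod 3
  d : ZMod 3
  x : ZMod 3
  y : ZMod 3
deriving DecidableEq

def El.equiv : El ≃ ZMod 3 × ZMod 3 × ZMod 3 × ZMod 3 × ZMod 3 × ZMod 3 where
  toFun g := (g.a, g.b, g.c, g.d, g.x, g.y)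
  invFun t := ⟨t.1, t.2.1, t.2.2.1, t.2.2.2.1, t.2.2.2.2.1, t.2.2.2.2.2⟩

instance : Fintype El := Fintype.ofEquiv _ El.equiv.symm

def wt (u v : ZMod 3) : Bool := decide (u = 0 ∨ v = 0)

/-- Linear part in the semidihedral group of order 16. -/
def Lin (a b c d : ZMod 3) : Prop := a * d - b * c ≠ 0 ∧ wt a c = wt b d

instance (a b c d : ZMod 3) : Decidable (Lin a b c d) := by unfold Lin; infer_instance

abbrev G := {g : El // Lin g.a g.b g.c g.d}

lemma lin_mul : ∀ a b c d a' b' c' d' : ZMod 3, Lin a b c d → Lin a' b' c' d' →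
    Lin (a * a' + b * c') (a * b' + b * d') (c * a' + d * c') (c * b' + d * d') := by decide

lemma lin_inv : ∀ a b c d : ZMod 3, Lin a b c d → Lin ((a * d - b * c) * d) (-(a * d - b * c) * b)
    (-(a * d - b * c) * c) ((a * d - b * c) * a) := by decide

lemma det_sq : ∀ a b c d : ZMod 3, Lin a b c d → (a * d - b * c) * (a * d - b * c) = 1 := by decide

instance : One G := ⟨⟨⟨1, 0, 0, 1, 0, 0⟩, by decide⟩⟩

instance : Mul G := ⟨fun g h => ⟨⟨g.1.a * h.1.a + g.1.b * h.1.c, g.1.a * h.1.b + g.1.b * h.1.d,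
  g.1.c * h.1.a + g.1.d * h.1.c, g.1.c * h.1.b + g.1.d * h.1.d,
  g.1.a * h.1.x + g.1.b * h.1.y + g.1.x, g.1.c * h.1.x + g.1.d * h.1.y + g.1.y⟩,
  lin_mul _ _ _ _ _ _ _ _ g.2 h.2⟩⟩

def det (g : G) : ZMod 3 := g.1.a * g.1.d - g.1.b * g.1.c

instance : Inv G := ⟨fun g => ⟨⟨det g * g.1.d, -det g * g.1.b, -det g * g.1.c, det g * g.1.a,
  -(det g * g.1.d * g.1.x + -det g * g.1.b * g.1.y),
  -(-det g * g.1.c * g.1.x + det g * g.1.a * g.1.y)⟩, lin_inv _ _ _ _ g.2⟩⟩

@[ext] lemma ext' {g h : G} (h1 : g.1.a = h.1.a) (h2 : g.1.b = h.1.b) (h3 : g.1.c = h.1.c)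
    (h4 : g.1.d = h.1.d) (h5 : g.1.x = h.1.x) (h6 : g.1.y = h.1.y) : g = h := by
  obtain ⟨⟨_, _, _, _, _, _⟩, _⟩ := g
  obtain ⟨⟨_, _, _, _, _, _⟩, _⟩ := h
  simp_all

lemma mul_a (g h : G) : (g * h).1.a = g.1.a * h.1.a + g.1.b * h.1.c := rfl
lemma mul_b (g h : G) : (g * h).1.b = g.1.a * h.1.b + g.1.b * h.1.d := rfl
lemma mul_c (g h : G) : (g * h).1.c = g.1.c * h.1.a + g.1.d * h.1.c := rfl
lemma mul_d (g h : G) : (g * h).1.d = g.1.c * h.1.b + g.1.d * h.1.d := rfl
lemma mul_x (g h : G) : (g * h).1.x = g.1.a * h.1.x + g.1.b * h.1.y + g.1.x := rfl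
lemma mul_y (g h : G) : (g * h).1.y = g.1.c * h.1.x + g.1.d * h.1.y + g.1.y := rfl
lemma one_a : (1 : G).1.a = 1 := rfl
lemma one_b : (1 : G).1.b = 0 := rfl
lemma one_c : (1 : G).1.c = 0 := rfl
lemma one_d : (1 : G).1.d = 1 := rfl
lemma one_x : (1 : G).1.x = 0 := rfl
lemma one_y : (1 : G).1.y = 0 := rfl
lemma inv_a (g : G) : (g⁻¹).1.a = det g * g.1.d := rfl
lemma inv_b (g : G) : (g⁻¹).1.b = -det g * g.1.b := rfl
lemma inv_c (g : G) : (g⁻¹).1.c = -det g * g.1.c := rfl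
lemma inv_d (g : G) : (g⁻¹).1.d = det g * g.1.a := rfl
lemma inv_x (g : G) : (g⁻¹).1.x = -(det g * g.1.d * g.1.x + -det g * g.1.b * g.1.y) := rfl
lemma inv_y (g : G) : (g⁻¹).1.y = -(-det g * g.1.c * g.1.x + det g * g.1.a * g.1.y) := rfl

instance instGroup : Group G := Group.ofLeftAxioms
  (fun g h k => by apply ext' <;> simp only [mul_a, mul_b, mul_c, mul_d, mul_x, mul_y] <;> ring)
  (fun g => by apply ext' <;> simp [mul_a, mul_b, mul_c, mul_d, mul_x, mul_y, one_a, one_b, one_c,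
    one_d, one_x, one_y])
  (fun g => by
    have h := det_sq _ _ _ _ g.2
    apply ext' <;> simp only [mul_a, mul_b, mul_c, mul_d, mul_x, mul_y, one_a, one_b, one_c,
      one_d, one_x, one_y, inv_a, inv_b, inv_c, inv_d, inv_x, inv_y, det] <;> grind)

def t : G := ⟨⟨1, 0, 0, -1, 0, 0⟩, by decide⟩

set_option maxRecDepth 4000 in
lemma good : ∀ g : G, ∃ c : G,
    (c * g * c⁻¹) * t = t * (c * g * c⁻¹) ∨ ((c * g * c⁻¹).1.x = 0 ∧ (c * g * c⁻¹).1.y = 0) := by
  decide +kernel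

/-- The semidihedral subgroup fixing the origin. -/
def linSub : Subgroup G where
  carrier := {g | g.1.x = 0 ∧ g.1.y = 0}
  one_mem' := ⟨rfl, rfl⟩
  mul_mem' := fun {g h} hg hh => by
    constructor <;> simp [mul_x, mul_y, hg.1, hg.2, hh.1, hh.2]
  inv_mem' := fun {g} hg => by
    constructor <;> simp [inv_x, inv_y, hg.1, hg.2]

instance (g : G) : Decidable (g ∈ linSub) :=
  inferInstanceAs (Decidable (g.1.x = 0 ∧ g.1.y = 0))

lemma linSub_isPGroup : IsPGroup 2 linSub := by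
  refine IsPGroup.of_card (n := 4) ?_
  rw [Nat.card_eq_fintype_card]
  decide +kernel

/-- The linear part. -/
def linPart : G →* G where
  toFun g := ⟨⟨g.1.a, g.1.b, g.1.c, g.1.d, 0, 0⟩, g.2⟩
  map_one' := rfl
  map_mul' g h := by apply ext' <;> simp [mul_a, mul_b, mul_c, mul_d, mul_x, mul_y]

lemma linPart_eq_one {g : G} (h : linPart g = 1) : g.1.a = 1 ∧ g.1.b = 0 ∧ g.1.c = 0 ∧ g.1.d = 1 := by
  rw [Subtype.ext_iff] at h
  exact ⟨congrArg El.a h, congrArg El.b h, congrArg El.c h, congrArg El.d h⟩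

instance : Finite G := Subtype.finite

lemma isSolvable : Group.IsSolvable G := by
  haveI : IsMulCommutative linPart.ker := ⟨⟨fun g h => by
    obtain ⟨g1, g2, g3, g4⟩ := linPart_eq_one g.2
    obtain ⟨h1, h2, h3, h4⟩ := linPart_eq_one h.2
    apply Subtype.ext
    apply ext' <;> simp [mul_a, mul_b, mul_c, mul_d, mul_x, mul_y, g1, g2, g3, g4, h1, h2, h3, h4, add_comm]⟩⟩
  haveI : Fact (Nat.Prime 2) := ⟨Nat.prime_two⟩
  haveI : Group.IsNilpotent linPart.range := IsPGroup.isNilpotent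
    (linSub_isPGroup.to_le (by rintro _ ⟨g, rfl⟩; exact ⟨rfl, rfl⟩))
  haveI : Group.IsSolvable linPart.range := IsNilpotent.to_isSolvable
  haveI : Group.IsSolvable linPart.ker := Group.isSolvable_of_comm fun a b => IsMulCommutative.is_comm.comm a b
  exact _root_.solvable_of_ker_le_range linPart.ker.subtype linPart.rangeRestrict
    (by rw [MonoidHom.ker_rangeRestrict, Subgroup.range_subtype])

/-- There is a finite solvable group G with a subgroup A of order 2 such that every conjugacy class of G contains an element g for which A is subnormal in the subgroup generated by A and g, and yet A is not contained in O_2(G). (So the corresponding criteria for odd primes fail at the prime 2, even for solvable groups.) -/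
theorem result :
    ∃ (G : Type) (_ : Group G) (_ : Finite G) (A : Subgroup G), Group.IsSolvable G ∧ Nat.card A = 2 ∧
      (∀ c : G, ∃ g : G, IsConj c g ∧ (A.subgroupOf (A ⊔ Subgroup.zpowers g)).IsSubnormal) ∧
      ¬ A ≤ Cfsg.pCore 2 G := by
  
  haveI : Fact (Nat.Prime 2) := ⟨Nat.prime_two⟩
  have ht : orderOf t = 2 := orderOf_eq_prime (by decide +kernel) (by decide +kernel)
  refine ⟨G, inferInstance, inferInstance, Subgroup.zpowers t, isSolvable,
    by rw [Nat.card_zpowers, ht], fun c => ?_, fun hle => ?_⟩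
  · obtain ⟨d, hd⟩ := good c
    refine ⟨d * c * d⁻¹, isConj_iff.2 ⟨d, rfl⟩, ?_⟩
    rcases hd with hd | hd
    · refine Subgroup.Normal.isSubnormal ((Subgroup.normal_subgroupOf_iff_le_normalizer le_sup_left).mpr
        (sup_le Subgroup.le_normalizer ?_))
      rw [Subgroup.zpowers_eq_closure (g := t), Subgroup.zpowers_le]
      refine Subgroup.centralizer_le_normalizer _ (Subgroup.mem_centralizer_iff.mpr fun y hy => ?_)
      rw [← Subgroup.zpowers_eq_closure] at hy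
      obtain ⟨i, rfl⟩ := Subgroup.mem_zpowers_iff.mp hy
      exact ((show Commute (d * c * d⁻¹) t from hd).zpow_right i).symm.eq
    · have hB : Subgroup.zpowers t ⊔ Subgroup.zpowers (d * c * d⁻¹) ≤ linSub :=
        sup_le ((Subgroup.zpowers_le).mpr ⟨rfl, rfl⟩) ((Subgroup.zpowers_le).mpr hd)
      haveI : Group.IsNilpotent ↥(Subgroup.zpowers t ⊔ Subgroup.zpowers (d * c * d⁻¹)) :=
        IsPGroup.isNilpotent (linSub_isPGroup.to_le hB)
      exact GenA.Subnormal.isSubnormal_of_isNilpotent _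
  · let u : G := ⟨⟨1, 0, 0, 1, 0, 1⟩, by decide⟩
    have h1 : t * (u * t⁻¹ * u⁻¹) ∈ Cfsg.pCore 2 G := by
      haveI : (Cfsg.pCore 2 G).Normal := Cfsg.Agent.Cores.pCore_normal 2
      exact mul_mem (hle (Subgroup.mem_zpowers t))
        (Subgroup.Normal.conj_mem inferInstance _ (inv_mem (hle (Subgroup.mem_zpowers t))) u)
    obtain ⟨k, hk⟩ := Cfsg.Agent.Cores.pCore_isPGroup 2 ⟨_, h1⟩
    have h3 : (t * (u * t⁻¹ * u⁻¹)) ^ 3 = 1 := by decide +kernel
    have h4 : orderOf (t * (u * t⁻¹ * u⁻¹)) = 3 := orderOf_eq_prime (hp := ⟨Nat.prime_three⟩) h3 (by decide +kernel)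
    have h5 := orderOf_dvd_of_pow_eq_one (congrArg Subtype.val hk)
    rw [show ((⟨_, h1⟩ : Cfsg.pCore 2 G) : G) = t * (u * t⁻¹ * u⁻¹) from rfl] at h5
    rw [h4] at h5
    exact absurd (Nat.prime_three.dvd_of_dvd_pow h5) (by norm_num)

end Cfsg.Agent.S4331
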