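import Cfsg.Statements.S4332
import Cfsg.Agent.GroupStructure3.PermNormal
import Cfsg.Agent.Lib.Cores.Basic

set_option autoImplicit false
open Pointwise
open Cfsg

namespace Cfsg.Agent.S4332

open Cfsg.Agent.GroupStructure3 Equiv

/-- One product of disjoint cycles for each cycle type in degree 8, each chosen so that its
conjugate of the 3-cycle (0 1 2) commutes with (0 1 2). -/
def reps : List (List (List (Fin 8))) :=
  [[], [[6,7]], [[5,6,7]], [[4,5,6,7]], [[4,5],[6,7]], [[3,4,5,6,7]], [[3,4],[5,6,7]],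
    [[0,3,1,4,2,5]], [[1,2],[4,5,6,7]], [[0,1,2],[5,6,7]], [[1,2],[4,5],[6,7]],
    [[0,3,1,4,2,5,6]], [[1,2],[3,4,5,6,7]], [[0,1,2],[4,5,6,7]], [[1,2],[3,4],[5,6,7]],
    [[0,3,1,4,2,5,6,7]], [[0,3],[1,4,2,5,6,7]], [[0,1,2],[3,4,5,6,7]], [[0,3,1,4],[2,5,6,7]],
    [[0,3],[1,4],[2,5,6,7]], [[0,1,2],[3,4],[5,6,7]], [[0,3],[1,4],[2,5],[6,7]]]

theorem reps_ok : ∀ l ∈ reps, l.flatten.Nodup ∧ ∀ x ∈ l, 2 ≤ x.length := by decide +kernel

theorem reps_comm : ∀ l ∈ reps,
    Commute ((l.map List.formPerm).prod * ([0,1,2] : List (Fin 8)).formPerm *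
      ((l.map List.formPerm).prod)⁻¹) ([0,1,2] : List (Fin 8)).formPerm := by
  unfold Commute SemiconjBy
  decide +kernel

/-- The 22 cycle types. -/
def types : List (Multiset ℕ) :=
  reps.map fun l => ((l.map List.length : List ℕ) : Multiset ℕ)

theorem types_nil : (0 : Multiset ℕ) ∈ types := by decide +kernel

theorem types_cons : ∀ m ∈ types, ∀ a ∈ List.range 9, 2 ≤ a → m.sum + a ≤ 8 → a ::ₘ m ∈ types := by
  decide +kernel

theorem mem_types (m : Multiset ℕ) (h2 : ∀ a ∈ m, 2 ≤ a) (hs : m.sum ≤ 8) : m ∈ types := by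
  induction m using Multiset.induction with
  | empty => exact types_nil
  | cons a m ih =>
    rw [Multiset.sum_cons] at hs
    exact types_cons m (ih (fun b hb => h2 b (Multiset.mem_cons_of_mem hb)) (by omega)) a
      (List.mem_range.2 (by omega)) (h2 a (Multiset.mem_cons_self a m)) (by omega)

/-- In the symmetric group of degree 8, let A be the subgroup generated by a 3-cycle. Then every conjugacy class contains an element g for which A is subnormal in the subgroup generated by A and its conjugate by g, although O_3 of the symmetric group of degree 8 is trivial. -/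
theorem result
    (σ : Equiv.Perm (Fin 8)) (hσ : σ.IsThreeCycle) :
    (∀ c : Equiv.Perm (Fin 8), ∃ g : Equiv.Perm (Fin 8), IsConj c g ∧
      ((Subgroup.zpowers σ).subgroupOf (Subgroup.zpowers σ ⊔ MulAut.conj g • Subgroup.zpowers σ)).IsSubnormal) ∧
    Cfsg.pCore 3 (Equiv.Perm (Fin 8)) = ⊥ := by
  refine ⟨fun c => ?_, ?_⟩
  · obtain ⟨l, hl, hlc⟩ := List.mem_map.1 (mem_types c.cycleType
      (fun a ha => Perm.two_le_of_mem_cycleType ha)
      (by simpa using Perm.sum_cycleType_le c))
    have hct : c.cycleType = ((l.map List.length : List ℕ) : Multiset ℕ) := hlc.symm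
    have hs₀ : ([0,1,2] : List (Fin 8)).formPerm.cycleType = {3} := by
      have h := (PermNormal.cycleType_prod_formPerm [([0,1,2] : List (Fin 8))] (by decide)
        (by decide)).1
      simpa using h
    obtain ⟨u, hu⟩ := isConj_iff.1 (Perm.isConj_iff_cycleType_eq.2 (hs₀.trans hσ.symm))
    obtain ⟨hnd, hlen⟩ := reps_ok l hl
    generalize hg : (l.map List.formPerm).prod = g
    have hgc : g.cycleType = c.cycleType := by
      rw [← hg, (PermNormal.cycleType_prod_formPerm l hnd hlen).1, hct]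
    refine ⟨u * g * u⁻¹, ?_, ?_⟩
    · rw [Perm.isConj_iff_cycleType_eq, Perm.cycleType_conj, hgc]
    have hcomm : Commute (u * g * u⁻¹ * σ * (u * g * u⁻¹)⁻¹) σ := by
      have h := (reps_comm l hl).map (MulAut.conj u).toMonoidHom
      rw [hg] at h
      rw [← hu]
      simp only [MulEquiv.toMonoidHom_eq_coe, MonoidHom.coe_coe, map_mul, map_inv,
        MulAut.conj_apply] at h
      convert h using 1
      all_goals group
    have hle : Subgroup.zpowers σ ⊔ MulAut.conj (u * g * u⁻¹) • Subgroup.zpowers σ ≤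
        Subgroup.centralizer {σ} := by
      refine sup_le (Subgroup.zpowers_le.2 (Subgroup.mem_centralizer_singleton_iff.2 rfl)) ?_
      intro x hx
      obtain ⟨y, hy, rfl⟩ := Subgroup.mem_smul_pointwise_iff_exists _ _ _ |>.1 hx
      obtain ⟨k, rfl⟩ := Subgroup.mem_zpowers_iff.1 hy
      rw [Subgroup.mem_centralizer_singleton_iff, MulAut.smul_def, map_zpow, MulAut.conj_apply]
      exact (hcomm.zpow_left k).eq
    refine Subgroup.Normal.isSubnormal ?_
    rw [Subgroup.normal_subgroupOf_iff le_sup_left]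
    intro n x hn hx
    obtain ⟨k, rfl⟩ := Subgroup.mem_zpowers_iff.1 hn
    have hxc : Commute σ x := (Subgroup.mem_centralizer_singleton_iff.1 (hle hx)).symm
    rw [← (hxc.zpow_left k).eq, mul_inv_cancel_right]
    exact Subgroup.zpow_mem_zpowers σ k
  · haveI : Fact (Nat.Prime 3) := ⟨Nat.prime_three⟩
    haveI := Cores.pCore_normal (G := Perm (Fin 8)) 3
    refine PermNormal.eq_bot_of_coprime _ ?_
    obtain ⟨k, hk⟩ := (Cores.pCore_isPGroup (G := Perm (Fin 8)) 3).exists_card_eq
    rw [hk, Nat.card_eq_fintype_card, Fintype.card_fin]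
    exact Nat.Coprime.pow_left _ (by norm_num)

end Cfsg.Agent.S4332
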