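import Cfsg.Statements.S4337
import Cfsg.Agent.GroupStructure3.PermNormal
import Cfsg.Agent.Lib.Characters.Burnside

set_option autoImplicit false
open Cfsg

namespace Cfsg.Agent.S4337

open Cfsg.Agent.GroupStructure3

theorem isSolvable_perm_small {β : Type} [Fintype β] [DecidableEq β] (h : Fintype.card β ≤ 4) :
    Group.IsSolvable (Equiv.Perm β) := by
  have hc : Nat.card (Equiv.Perm β) = (Fintype.card β).factorial := by
    rw [Nat.card_perm, Nat.card_eq_fintype_card]
  have h2 : ∃ a b : ℕ, (Fintype.card β).factorial = 2 ^ a * 3 ^ b := by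
    interval_cases (Fintype.card β)
    · exact ⟨0, 0, rfl⟩
    · exact ⟨0, 0, rfl⟩
    · exact ⟨1, 0, rfl⟩
    · exact ⟨1, 1, rfl⟩
    · exact ⟨3, 1, rfl⟩
  obtain ⟨a, b, hab⟩ := h2
  exact Cfsg.Agent.Characters.burnside_pa_qb Nat.prime_two Nat.prime_three (hc.trans hab)

theorem isSolvable_pi {ι : Type} [Fintype ι] {H : ι → Type} [∀ i, Group (H i)]
    [hH : ∀ i, Group.IsSolvable (H i)] : Group.IsSolvable ((i : ι) → H i) := by
  choose k hk using fun i => (hH i).solvable
  refine ⟨⟨Finset.univ.sup k, eq_bot_iff.2 fun x hx => Subgroup.mem_bot.2 (funext fun i => ?_)⟩⟩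
  have h1 := map_derivedSeries_le_derivedSeries (Pi.evalMonoidHom H i) (Finset.univ.sup k)
    (Subgroup.mem_map_of_mem _ hx)
  have h2 := derivedSeries_antitone (H i) (Finset.le_sup (f := k) (Finset.mem_univ i)) h1
  rw [hk i, Subgroup.mem_bot] at h2
  exact h2

/-- In a finite symmetric group, any three transpositions generate a solvable subgroup. -/
theorem result (n : ℕ) (a b c : Equiv.Perm (Fin n))
    (ha : a.IsSwap) (hb : b.IsSwap) (hc : c.IsSwap) :
    Group.IsSolvable (Subgroup.closure ({a, b, c} : Set (Equiv.Perm (Fin n)))) := by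
  obtain ⟨f, hf, hcard⟩ := PermNormal.exists_label [a, b, c] (by
    intro s hs
    simp only [List.mem_cons, List.not_mem_nil, or_false] at hs
    rcases hs with rfl | rfl | rfl <;> assumption)
  have hle : Subgroup.closure ({a, b, c} : Set (Equiv.Perm (Fin n))) ≤ PermNormal.fiberSub f := by
    rw [Subgroup.closure_le]
    rintro s hs
    simp only [Set.mem_insert_iff, Set.mem_singleton_iff] at hs
    exact fun x => hf s (by simp only [List.mem_cons]; tauto) x
  haveI hsol : ∀ v : Fin n, Group.IsSolvable (Equiv.Perm {x : Fin n // f x = v}) := fun v => by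
    refine isSolvable_perm_small ?_
    rw [Fintype.card_subtype]
    exact (PermNormal.card_fiber_le hcard v).trans (by simp)
  let φ : PermNormal.fiberSub f →* ((v : Fin n) → Equiv.Perm {x : Fin n // f x = v}) :=
    { toFun := fun s v => Equiv.Perm.subtypePerm s.1 fun x => by rw [s.2 x]
      map_one' := by
        funext v; ext x; simp
      map_mul' := fun s t => by
        funext v; ext x; rfl }
  have hφ : Function.Injective φ := by
    intro s t h
    ext x
    have := congrArg (fun g => ((g ⟨x, rfl⟩ : {y : Fin n // f y = f x}) : Fin n)) (congrFun h (f x))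
    simpa [φ] using congrArg Fin.val this
  haveI := isSolvable_pi (H := fun v : Fin n => Equiv.Perm {x : Fin n // f x = v})
  haveI : Group.IsSolvable (PermNormal.fiberSub f) := Group.isSolvable_of_isSolvable_injective hφ
  exact Group.isSolvable_of_isSolvable_injective (Subgroup.inclusion_injective hle)

end Cfsg.Agent.S4337
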