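import Cfsg.Statements.S4342
import Cfsg.Agent.Lib.Counting.SylowCount

set_option autoImplicit false
open Cfsg

namespace Cfsg.Agent.S4342

/-- Let H be a normal subgroup of a finite group G and p a prime not dividing the index of H. Then the number of Sylow p-subgroups of H/Z(H) equals the number of Sylow p-subgroups of G. -/
theorem result {G : Type*} [Group G] [Finite G]
    (p : ℕ) [Fact p.Prime] (H : Subgroup G) [H.Normal] (hp : ¬ p ∣ H.index) :
    Nat.card (Sylow p (H ⧸ Subgroup.center H)) = Nat.card (Sylow p G) := by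
  obtain ⟨P⟩ := (Sylow.nonempty : Nonempty (Sylow p G))
  have h1 := Counting.SylowCount.card_sylow_eq_mul_mul P H
  have h2 : Nat.card (Sylow p (G ⧸ H)) = 1 :=
    Counting.SylowCount.card_sylow_eq_one_of_not_dvd (by rwa [← Subgroup.index_eq_card])
  obtain ⟨T⟩ := (Sylow.nonempty : Nonempty (Sylow p H))
  have h3 := Counting.SylowCount.card_sylow_eq_mul T (Subgroup.center H)
  have h4 : (Subgroup.normalizer ((T : Subgroup H) : Set H)).relIndex (Subgroup.center H) = 1 :=
    Subgroup.relIndex_eq_one.2 (fun x hx => by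
      rw [Subgroup.mem_normalizer_iff]
      intro y
      rw [← Subgroup.mem_center_iff.1 hx y, mul_inv_cancel_right])
  rw [h4, mul_one] at h3
  have hPH : (P : Subgroup G) ≤ H := by
    rw [← Subgroup.relIndex_eq_one]
    obtain ⟨k, hk⟩ := P.2.exists_card_eq
    refine Nat.eq_one_of_dvd_coprimes ?_ (hk ▸ Subgroup.relIndex_dvd_card _ _)
      (Subgroup.relIndex_dvd_index_of_normal (H := H) (K := (P : Subgroup G)))
    exact Nat.Coprime.pow_left _ ((Fact.out : p.Prime).coprime_iff_not_dvd.2 hp)
  have h5 : (Subgroup.normalizer ((P : Subgroup G) : Set G)).relIndex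
      (H ⊓ Subgroup.normalizer (((P : Subgroup G) ⊓ H : Subgroup G) : Set G)) = 1 := by
    rw [inf_eq_left.2 hPH]
    exact Subgroup.relIndex_eq_one.2 inf_le_right
  rw [h2, h5, one_mul, mul_one, h3] at h1
  exact h1.symm

end Cfsg.Agent.S4342
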