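import Cfsg.Statements.S4343
import Cfsg.Agent.Lib.Counting.Brodkey
import Cfsg.Agent.GroupStructure3.SylowTwoP

set_option autoImplicit false
open Cfsg

namespace Cfsg.Agent.S4343

/-- Let S be a finite non-abelian simple group and p a prime dividing its order. If S has fewer than p² Sylow p-subgroups, then its Sylow p-subgroups have order p. -/
theorem result {S : Type*} [Group S] [Finite S]
    [IsSimpleGroup S] (hS : ¬ IsMulCommutative S) (p : ℕ) [Fact p.Prime] (hp : p ∣ Nat.card S)
    (hn : Nat.card (Sylow p S) < p ^ 2) (P : Sylow p S) : Nat.card P = p := by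
  have h1 : Nat.card (Sylow p S) ≠ 1 := by
    intro h
    rw [Counting.SylowCount.card_sylow_eq_index P, Subgroup.index_eq_one,
      Subgroup.normalizer_eq_top_iff] at h
    rcases h.eq_bot_or_eq_top with h' | h'
    · exact P.ne_bot_of_dvd_card hp h'
    · haveI : Nontrivial S := IsSimpleGroup.toNontrivial
      have hS' : IsPGroup p S := (h' ▸ P.2).of_equiv Subgroup.topEquiv
      haveI := hS'.center_nontrivial
      rcases (inferInstance : (Subgroup.center S).Normal).eq_bot_or_eq_top with hz | hz
      · exact absurd hz ((Subgroup.nontrivial_iff_ne_bot _).1 inferInstance)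
      · exact hS ⟨⟨fun a b => (Subgroup.mem_center_iff.1 (hz ▸ Subgroup.mem_top b) a)⟩⟩
  exact Counting.Brodkey.card_eq_prime_of_card_sylow_lt hn
    (GroupStructure3.SylowTwoP.forall_mem_eq_one h1) hp P

end Cfsg.Agent.S4343
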