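import Cfsg.Statements.S4344
import Cfsg.Agent.Lib.Counting.SylowCount

set_option autoImplicit false
open Cfsg

namespace Cfsg.Agent.S4344

/-- Let S be a finite non-abelian simple group, M a maximal subgroup of S and C a cyclic normal subgroup of M. If a Sylow p-subgroup P of S (for a prime p dividing the order of S) is contained in C, then the number of Sylow p-subgroups of S equals the index of M. -/
theorem result {S : Type*} [Group S] [Finite S]
    [IsSimpleGroup S] (hS : ¬ IsMulCommutative S) (p : ℕ) [Fact p.Prime] (hp : p ∣ Nat.card S)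
    (M : Subgroup S) (hM : IsCoatom M) (C : Subgroup S) (hCM : C ≤ M) (hCn : (C.subgroupOf M).Normal)
    (hC : IsCyclic C) (P : Sylow p S) (hP : (P : Subgroup S) ≤ C) :
    Nat.card (Sylow p S) = M.index := by
  rw [Counting.SylowCount.card_sylow_eq_index P]
  congr 1
  have hPM : (P : Subgroup S) ≤ M := hP.trans hCM
  have hMN : M ≤ Subgroup.normalizer ((P : Subgroup S) : Set S) := by
    intro m hm
    haveI := hC
    have hcm : IsMulCommutative C := inferInstance
    haveI : ((P : Subgroup S).subgroupOf C).Normal :=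
      ⟨fun x hx y => by rwa [hcm.is_comm.comm y x, mul_inv_cancel_right]⟩
    have hsub : ((m • P : Sylow p S) : Subgroup S) ≤ C := by
      intro x hx
      have h1 := hP (Transfer.Fusion.mem_smul_sylow_iff.1 hx)
      have h2 := hCn.conj_mem ⟨m⁻¹ * x * m, hCM h1⟩ h1 ⟨m, hm⟩
      have he : m * (m⁻¹ * x * m) * m⁻¹ = x := by group
      rw [← he]
      exact h2
    obtain ⟨k, hk, hkP⟩ := Transfer.Fusion.exists_conj_eq_of_le hP hsub
    apply Sylow.smul_eq_iff_mem_normalizer.1
    refine (Sylow.ext ?_).symm
    rw [← hkP]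
    ext x
    rw [Transfer.Fusion.mem_map_conj]
    have hc : ∀ a b : S, a ∈ C → b ∈ C → a * b = b * a := fun a b ha hb =>
      congrArg Subtype.val (hcm.is_comm.comm (⟨a, ha⟩ : C) ⟨b, hb⟩)
    constructor
    · intro hx
      have := hc k⁻¹ x (C.inv_mem hk) (hP hx)
      rwa [this, inv_mul_cancel_right]
    · intro hx
      have hxC : x ∈ C := by
        have he : x = k * (k⁻¹ * x * k) * k⁻¹ := by group
        rw [he]
        exact C.mul_mem (C.mul_mem hk (hP hx)) (C.inv_mem hk)
      have := hc k⁻¹ x (C.inv_mem hk) hxC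
      rwa [this, inv_mul_cancel_right] at hx
  rcases eq_or_lt_of_le hMN with h | h
  · exact h.symm
  · exfalso
    have hN : (P : Subgroup S).Normal := Subgroup.normalizer_eq_top_iff.1 (hM.2 _ h)
    rcases hN.eq_bot_or_eq_top with h' | h'
    · exact P.ne_bot_of_dvd_card hp h'
    · exact hM.1 (top_le_iff.1 (h' ▸ hPM))

end Cfsg.Agent.S4344
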