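import Cfsg.Statements.S4345
import Cfsg.Agent.Lib.Counting.SylowCount

set_option autoImplicit false
open Cfsg

namespace Cfsg.Agent.S4345

open Subgroup

universe v

theorem aux (p ℓ : ℕ) [Fact p.Prime] : ∀ (k : ℕ) (H : Type v) [Group H] [Finite H],
    Group.IsSolvable H → Nat.card H = k →
    ℓ ^ (Nat.card (Sylow p H)).factorization ℓ ≡ 1 [MOD p] := by
  intro k
  induction k using Nat.strong_induction_on with
  | _ k ih =>
    intro H _ _ hsol hk
    rcases subsingleton_or_nontrivial H with hs | hs
    · rw [Counting.SylowCount.card_sylow_eq_one_of_isPGroup (p := p)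
        (fun x => ⟨0, Subsingleton.elim _ _⟩), Nat.factorization_one, Finsupp.zero_apply, pow_zero]
    obtain ⟨q, K, hq, hK, hKne, hKq⟩ :=
      Counting.SylowCount.exists_normal_pGroup_of_isSolvable hsol
    haveI := hK
    have hlt : Nat.card (H ⧸ K) < k := by
      rw [← index_eq_card, ← hk, ← K.card_mul_index]
      exact lt_mul_left (Nat.pos_of_ne_zero FiniteIndex.index_ne_zero)
        (K.one_lt_card_iff_ne_bot.2 hKne)
    have h1 := ih _ hlt (H ⧸ K)
      (haveI := hsol; inferInstance) rfl
    obtain ⟨P⟩ := (Sylow.nonempty : Nonempty (Sylow p H))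
    rw [Counting.SylowCount.card_sylow_eq_mul P K, Nat.factorization_mul Nat.card_pos.ne'
      (ne_zero_of_dvd_ne_zero Nat.card_pos.ne' (relIndex_dvd_card _ _)), Finsupp.add_apply,
      pow_add]
    suffices h2 : ℓ ^ ((normalizer ((P : Subgroup H) : Set H)).relIndex K).factorization ℓ ≡ 1 [MOD p] by
      simpa using h1.mul h2
    by_cases hqp : q = p
    · subst hqp
      rw [relIndex_eq_one.2 ((hKq.le_sylow_of_normal P).trans le_normalizer),
        Nat.factorization_one, Finsupp.zero_apply, pow_zero]
    have hKp : ¬ p ∣ Nat.card K := by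
      haveI := Fact.mk hq
      obtain ⟨m, hm⟩ := hKq.exists_card_eq
      rw [hm]
      exact fun h => hqp (((Nat.prime_dvd_prime_iff_eq Fact.out hq).1
        ((Fact.out : p.Prime).dvd_of_dvd_pow h)).symm)
    have hd : (P : Subgroup H) ⊓ K = ⊥ := by
      refine disjoint_iff.1 (Coprime.disjoint_of_coprime ?_)
      obtain ⟨m, hm⟩ := P.2.exists_card_eq
      rw [hm]
      exact Nat.Coprime.pow_left _ ((Fact.out : p.Prime).coprime_iff_not_dvd.2 hKp)
    rw [← inf_relIndex_right, Counting.SylowCount.normalizer_inf_eq_centralizer_inf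
      (by rw [normalizer_eq_top]; exact le_top) hd, inf_relIndex_right]
    exact Counting.SylowCount.qpart_relIndex_centralizer_modEq_one P.2
      (by rw [normalizer_eq_top]; exact le_top) hKp ℓ


/-- Let G be a finite solvable group and p, ℓ primes. Then the largest power of ℓ dividing the number of Sylow p-subgroups of G is congruent to 1 modulo p. -/
theorem result {G : Type*} [Group G] [Finite G]
    (hG : Group.IsSolvable G) (p ℓ : ℕ) [Fact p.Prime] (hℓ : ℓ.Prime) :
    ℓ ^ (Nat.card (Sylow p G)).factorization ℓ ≡ 1 [MOD p] := by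
  exact aux p ℓ _ G hG rfl

end Cfsg.Agent.S4345
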