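import Cfsg.Statements.S4346
import Cfsg.Agent.GroupStructure3.TwentyTwo.Small

set_option autoImplicit false
open Cfsg

namespace Cfsg.Agent.S4346

open Cfsg.Agent.GroupStructure3

/-- No finite group has exactly 22 Sylow 3-subgroups. -/
theorem result {G : Type*} [Group G] [Finite G] : Nat.card (Sylow 3 G) ≠ 22 := by
  haveI : Fact (Nat.Prime 3) := ⟨Nat.prime_three⟩
  refine SylowTwoP.card_sylow_ne_of_simple (p := 3) (n := 22) (by norm_num) ?_ 2 Nat.prime_two ?_
    (by norm_num) (fun S _ _ _ h => TwentyTwo.not_twentyTwo h) _ G rfl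
  · intro d hd hmod
    have : ∀ m ∈ Nat.divisors 22, m % 3 = 1 → m = 1 ∨ m = 22 := by decide +kernel
    exact this d (Nat.mem_divisors.2 ⟨hd, by norm_num⟩) hmod
  · rw [show (22 : ℕ) = 2 ^ 1 * 11 by norm_num, Nat.factorization_mul (by norm_num) (by norm_num),
      Finsupp.add_apply, Nat.prime_two.factorization_pow,
      Nat.factorization_eq_zero_of_not_dvd (by norm_num : ¬ 2 ∣ 11)]
    simp

end Cfsg.Agent.S4346
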