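import Cfsg.Statements.S4347
import Cfsg.Agent.Lib.Transfer.Fusion

set_option autoImplicit false
open Cfsg

namespace Cfsg.Agent.S4347

/-- Let G be a finite group and p a prime. Say a Sylow p-subgroup Q is redundant when every element of p-power order lies in some Sylow p-subgroup other than Q. Then G has no redundant Sylow p-subgroup if and only if some element of p-power order lies in exactly one Sylow p-subgroup. -/
theorem result {G : Type*} [Group G] [Finite G]
    (p : ℕ) [Fact p.Prime] :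
    (¬ ∃ Q : Sylow p G, ∀ x : G, (∃ k : ℕ, orderOf x = p ^ k) → ∃ P : Sylow p G, P ≠ Q ∧ x ∈ P) ↔
      ∃ x : G, (∃ k : ℕ, orderOf x = p ^ k) ∧ ∃! P : Sylow p G, x ∈ P := by
  constructor
  · intro h
    push Not at h
    obtain ⟨P⟩ := (Sylow.nonempty : Nonempty (Sylow p G))
    obtain ⟨x, hx, hu⟩ := h P
    obtain ⟨k, hk⟩ := hx
    have hxp : IsPGroup p (Subgroup.zpowers x) :=
      IsPGroup.of_card (n := k) (by rw [Nat.card_zpowers, hk])
    obtain ⟨R, hR⟩ := hxp.exists_le_sylow
    refine ⟨x, ⟨k, hk⟩, R, hR (Subgroup.mem_zpowers x), fun S hS => ?_⟩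
    have h1 : R = P := by
      by_contra hne
      exact hu R hne (hR (Subgroup.mem_zpowers x))
    have h2 : S = P := by
      by_contra hne
      exact hu S hne hS
    rw [h1, h2]
  · rintro ⟨x, ⟨k, hk⟩, P, hP, huniq⟩ ⟨Q, hQ⟩
    obtain ⟨g, rfl⟩ := MulAction.exists_smul_eq G P Q
    obtain ⟨R, hne, hR⟩ := hQ (g * x * g⁻¹) ⟨k, by
      rw [← hk]
      exact (orderOf_injective (MulAut.conj g).toMonoidHom (MulAut.conj g).injective x)⟩
    refine hne ?_
    have h1 : g⁻¹ • R = P := huniq _ (Transfer.Fusion.mem_smul_sylow_iff.2 (by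
      rwa [inv_inv]))
    rw [← h1, smul_inv_smul]

end Cfsg.Agent.S4347
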