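import Cfsg.Statements.S4348
import Cfsg.Agent.Lib.Cores.Basic

set_option autoImplicit false
open Cfsg

namespace Cfsg.Agent.S4348

/-- Let G be a finite group, p a prime and P a Sylow p-subgroup of G, and let O_p(G) be the largest normal p-subgroup of G. If P/O_p(G) is cyclic, then some element of p-power order of G lies in exactly one Sylow p-subgroup. -/
theorem result {G : Type*} [Group G] [Finite G]
    (p : ℕ) [Fact p.Prime] (P : Sylow p G)
    [hn : ((Cfsg.pCore p G).subgroupOf (P : Subgroup G)).Normal]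
    (hc : IsCyclic ((P : Subgroup G) ⧸ (Cfsg.pCore p G).subgroupOf (P : Subgroup G))) :
    ∃ x : G, (∃ k : ℕ, orderOf x = p ^ k) ∧ ∃! Q : Sylow p G, x ∈ Q := by
  obtain ⟨g, hg⟩ := hc.exists_generator
  obtain ⟨x, rfl⟩ := QuotientGroup.mk'_surjective _ g
  obtain ⟨k, hk⟩ := IsPGroup.iff_orderOf.1 P.2 x
  refine ⟨x, ⟨k, by rw [Subgroup.orderOf_coe, hk]⟩, P, x.2, fun Q hQ => Sylow.ext ?_⟩
  refine P.3 Q.2 ?_
  intro y hy
  obtain ⟨n, hn'⟩ := Subgroup.mem_zpowers_iff.1 (hg (QuotientGroup.mk' _ ⟨y, hy⟩))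
  rw [← map_zpow] at hn'
  have h1 := QuotientGroup.eq.1 hn'
  rw [Subgroup.mem_subgroupOf] at h1
  have h2 : y = (x : G) ^ n * (((x : G) ^ n)⁻¹ * y) := by group
  rw [h2]
  refine Subgroup.mul_mem _ (Subgroup.zpow_mem _ hQ n) ?_
  apply Cores.pCore_le_sylow Q
  simpa using h1

end Cfsg.Agent.S4348
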