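import Cfsg.Statements.S4349
import Cfsg.Agent.SolvStruct.UniqueSylowPerm

set_option autoImplicit false
open Cfsg

namespace Cfsg.Agent.S4349

/-- Let n ≥ 2 and let x be an element of 2-power order of the symmetric group of degree n. Then x lies in exactly one Sylow 2-subgroup if and only if x has at most two fixed points and the nontrivial cycles of x have pairwise different lengths. -/
theorem result (n : ℕ) (hn : 2 ≤ n)
    (x : Equiv.Perm (Fin n)) (hx : ∃ k : ℕ, orderOf x = 2 ^ k) :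
    (∃! P : Sylow 2 (Equiv.Perm (Fin n)), x ∈ P) ↔ (n ≤ x.support.card + 2 ∧ x.cycleType.Nodup) := by
  obtain ⟨k, hk⟩ := hx
  have hF := Cfsg.Agent.SolvStruct.UniqueSylowPerm.cond_iff x
  rw [Fintype.card_fin] at hF
  rw [← hF]
  haveI : Fact (Nat.Prime 2) := ⟨Nat.prime_two⟩
  constructor
  · rintro ⟨P, -, hu⟩
    exact Cfsg.Agent.SolvStruct.UniqueSylowPerm.cond_of_unique x k hk fun P₁ P₂ h₁ h₂ => (hu P₁ h₁).trans (hu P₂ h₂).symm
  · intro hc
    obtain ⟨P, hP⟩ := (IsPGroup.of_card (n := k) (by rw [Nat.card_zpowers, hk]) :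
      IsPGroup 2 (Subgroup.zpowers x)).exists_le_sylow
    exact ⟨P, hP (Subgroup.mem_zpowers x), fun P' hP' =>
      Cfsg.Agent.SolvStruct.UniqueSylowPerm.unique_of_cond _ (Fin n) rfl x k hk hc P' P hP' (hP (Subgroup.mem_zpowers x))⟩

end Cfsg.Agent.S4349
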