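import Cfsg.Statements.S4354
import Mathlib

set_option autoImplicit false
open Cfsg

set_option linter.all false

namespace Cfsg.Agent.S4354

open Subgroup

variable {G : Type*} [Group G] [Finite G] {p : ℕ} [Fact p.Prime]

/-- An element with class size prime to `p` centralizes a Sylow `p`-subgroup. -/
theorem exists_sylow_centralized {x : G} (hx : ¬ p ∣ (centralizer ({x} : Set G)).index) :
    ∃ P : Sylow p G, (P : Subgroup G) ≤ centralizer ({x} : Set G) := by
  set C := centralizer ({x} : Set G)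
  let S : Sylow p C := default
  have hp : IsPGroup p ((S : Subgroup C).map C.subtype) := S.2.map _
  have hi : ¬ p ∣ ((S : Subgroup C).map C.subtype).index := by
    rw [index_map_subtype]
    exact fun h => ((Fact.out : p.Prime).dvd_mul.1 h).elim S.not_dvd_index hx
  exact ⟨hp.toSylow hi, map_subtype_le _⟩

theorem relIndex_dvd_index (C : Subgroup G) (N : Subgroup G) [N.Normal] :
    C.relIndex N ∣ C.index := by
  have e1 : C.relIndex N * N.index = (C ⊓ N).index := by
    rw [← inf_relIndex_right C N, relIndex_mul_index inf_le_right]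
  have e2 : N.relIndex C * C.index = (C ⊓ N).index := by
    rw [← inf_relIndex_right N C, relIndex_mul_index inf_le_right, inf_comm]
  obtain ⟨b, hb⟩ : N.relIndex C ∣ N.index := relIndex_dvd_index_of_normal _ _
  rw [← e2, hb, mul_left_comm] at e1
  exact ⟨b, (Nat.eq_of_mul_eq_mul_left (Nat.pos_of_ne_zero index_ne_zero_of_finite) e1).symm⟩

theorem not_dvd_relIndex (P : Sylow p G) (N : Subgroup G) [N.Normal] :
    ¬ p ∣ (P : Subgroup G).relIndex N :=
  fun h => P.not_dvd_index (h.trans (relIndex_dvd_index _ N))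

/-- The intersection of a Sylow subgroup with a normal subgroup, as a Sylow subgroup. -/
noncomputable def sylInf (P : Sylow p G) (N : Subgroup G) [N.Normal] : Sylow p N :=
  IsPGroup.toSylow (P := (P : Subgroup G).subgroupOf N)
    (P.2.comap_of_injective N.subtype N.subtype_injective) (not_dvd_relIndex P N)

theorem abelian_of_normal
    (hx : ∀ x : G, (∃ k : ℕ, orderOf x = p ^ k) → ¬ p ∣ (centralizer ({x} : Set G)).index)
    (N : Subgroup G) [N.Normal] (hN : ∀ S : Sylow p N, IsMulCommutative S)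
    (hQ : ∀ S : Sylow p (G ⧸ N), IsMulCommutative S) (P : Sylow p G) :
    IsMulCommutative P := by
  have hp : p.Prime := Fact.out
  have hpel : ∀ x ∈ (P : Subgroup G), ∃ k : ℕ, orderOf x = p ^ k := fun x hxP => by
    obtain ⟨k, hk⟩ := IsPGroup.iff_orderOf.1 P.2 ⟨x, hxP⟩
    exact ⟨k, by rw [← hk, Subgroup.orderOf_mk]⟩
  set Q := (P : Subgroup G) ⊓ N with hQdef
  have hQab : ∀ a ∈ Q, ∀ b ∈ Q, a * b = b * a := fun a ha b hb => by
    haveI := hN (sylInf P N)
    have := setLike_mul_comm (S := Subgroup N) (s := (sylInf P N : Subgroup N))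
      (a := ⟨a, ha.2⟩) (b := ⟨b, hb.2⟩) ha.1 hb.1
    exact congrArg Subtype.val this
  -- every element of `P` lies in `C(Q) N`
  have hcov : ∀ x ∈ (P : Subgroup G), x ∈ centralizer (Q : Set G) ⊔ N := by
    intro x hxP
    obtain ⟨P', hP'⟩ := exists_sylow_centralized (hx x (hpel x hxP))
    obtain ⟨n, hn⟩ := MulAction.exists_smul_eq N (sylInf P N) (sylInf P' N)
    have hc : (n : G)⁻¹ * x * n ∈ centralizer (Q : Set G) := by
      refine mem_centralizer_iff.2 fun q hq => ?_
      have hm : n * ⟨q, hq.2⟩ * n⁻¹ ∈ (sylInf P' N : Subgroup N) := by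
        rw [← hn, Sylow.coe_subgroup_smul]
        exact ⟨⟨q, hq.2⟩, hq.1, rfl⟩
      have hm' : (n : G) * q * (n : G)⁻¹ ∈ (P' : Subgroup G) := hm
      have h1 := mem_centralizer_singleton_iff.1 (hP' hm')
      calc q * ((n : G)⁻¹ * x * n) = (n : G)⁻¹ * ((n * q * (n : G)⁻¹) * x) * n := by group
        _ = (n : G)⁻¹ * (x * (n * q * (n : G)⁻¹)) * n := by rw [h1]
        _ = (n : G)⁻¹ * x * n * q := by group
    have := mul_mem (mul_mem (mem_sup_right n.2 : (n : G) ∈ centralizer (Q : Set G) ⊔ N)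
      (mem_sup_left hc)) (inv_mem (mem_sup_right n.2))
    simpa [mul_assoc] using this
  -- `Q` is central in `P`
  have hPN : (P : Subgroup G) ≤ normalizer (Q : Set G) := by
    refine le_normalizer_iff.2 fun g hg q hq =>
      ⟨(P : Subgroup G).mul_mem ((P : Subgroup G).mul_mem hg hq.1) ((P : Subgroup G).inv_mem hg), (inferInstance : N.Normal).conj_mem q hq.2 g⟩
  have hcent : (P : Subgroup G) ≤ centralizer (Q : Set G) := by
    intro x hxP
    have hmem : x ∈ (↑(centralizer (Q : Set G) ⊔ N) : Set G) := hcov x hxP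
    rw [Subgroup.mul_normal] at hmem
    obtain ⟨n, hn, c, hc, e⟩ : ∃ n ∈ N, ∃ c ∈ centralizer (Q : Set G), n * c = x := by
      obtain ⟨c, hc, n, hn, e⟩ := hmem
      refine ⟨c * n * c⁻¹, (inferInstance : N.Normal).conj_mem n hn c, c, hc, ?_⟩
      rw [inv_mul_cancel_right]; exact e
    have hcN : c ∈ normalizer (Q : Set G) := centralizer_le_normalizer _ hc
    have hnN : n ∈ normalizer (Q : Set G) := by
      rw [show n = x * c⁻¹ by rw [← e, mul_inv_cancel_right]]
      exact mul_mem (hPN hxP) (inv_mem hcN)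
    set φ := Subgroup.normalizerMonoidHom Q with hφ
    have hker : ∀ y : normalizer (Q : Set G), φ y = 1 ↔ (y : G) ∈ centralizer (Q : Set G) := by
      intro y
      rw [hφ, ← MonoidHom.mem_ker, normalizerMonoidHom_ker]
      exact mem_subgroupOf
    have hxn : φ ⟨x, hPN hxP⟩ = φ ⟨n, hnN⟩ := by
      rw [show (⟨x, hPN hxP⟩ : normalizer (Q : Set G)) = ⟨n, hnN⟩ * ⟨c, hcN⟩ from Subtype.ext e.symm,
        map_mul, (hker ⟨c, hcN⟩).2 hc, mul_one]
    obtain ⟨a, ha⟩ : ∃ a, orderOf (φ ⟨x, hPN hxP⟩) ∣ p ^ a := by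
      obtain ⟨k, hk⟩ := hpel x hxP
      exact ⟨k, (orderOf_map_dvd φ _).trans (by rw [Subgroup.orderOf_mk, hk])⟩
    -- a power of `n` prime to `p` lies in `Q`
    have hfac := Nat.ordProj_mul_ordCompl_eq_self (Nat.card N) p
    set m := Nat.card N / p ^ (Nat.card N).factorization p
    have hm : ¬ p ∣ m := Nat.not_dvd_ordCompl hp Nat.card_pos.ne'
    have hnm : n ^ m ∈ Q := by
      have hpm : IsPGroup p (zpowers (n ^ m)) := by
        intro y
        refine ⟨(Nat.card N).factorization p, Subtype.ext ?_⟩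
        obtain ⟨k, hk⟩ := y.2
        rw [SubmonoidClass.coe_pow, ← hk]
        show ((n ^ m) ^ k) ^ p ^ _ = 1
        rw [← zpow_natCast, ← zpow_mul, mul_comm, zpow_mul, zpow_natCast, ← pow_mul, mul_comm m, hfac]
        have : (⟨n, hn⟩ : N) ^ Nat.card N = 1 := pow_card_eq_one'
        rw [show n ^ Nat.card N = 1 from congrArg Subtype.val this, one_zpow]
      have hnorm : zpowers (n ^ m) ≤ normalizer (Q : Set G) := zpowers_le.2 (pow_mem hnN m)
      have hK : IsPGroup p ↥(Q ⊔ zpowers (n ^ m)) :=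
        IsPGroup.to_sup_of_normal_left' (P.2.to_le inf_le_left) hpm hnorm
      have hKN : Q ⊔ zpowers (n ^ m) ≤ N := sup_le inf_le_right (zpowers_le.2 (pow_mem hn m))
      have heq := (sylInf P N).3 (Q := (Q ⊔ zpowers (n ^ m)).subgroupOf N)
        (hK.comap_of_injective N.subtype N.subtype_injective) (fun y hy =>
          mem_subgroupOf.2 (mem_sup_left ⟨hy, y.2⟩))
      have h1 : (⟨n ^ m, pow_mem hn m⟩ : N) ∈ (sylInf P N : Subgroup N) :=
        heq ▸ mem_subgroupOf.2 (mem_sup_right (mem_zpowers _))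
      exact ⟨h1, pow_mem hn m⟩
    have hm1 : φ ⟨n, hnN⟩ ^ m = 1 := by
      rw [← map_pow, hker]
      exact mem_centralizer_iff.2 fun q hq => hQab q hq _ hnm
    have : orderOf (φ ⟨x, hPN hxP⟩) ∣ Nat.gcd (p ^ a) m :=
      Nat.dvd_gcd ha (orderOf_dvd_of_pow_eq_one (hxn ▸ hm1))
    rw [Nat.Coprime.gcd_eq_one ((hp.coprime_iff_not_dvd.2 hm).pow_left a), Nat.dvd_one,
      orderOf_eq_one_iff] at this
    exact (hker _).1 this
  -- fusion in the quotient
  let π := QuotientGroup.mk' N
  let Pb : Sylow p (G ⧸ N) := P.mapSurjective (QuotientGroup.mk'_surjective N)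
  haveI := hQ Pb
  have hPb : ∀ a ∈ (P : Subgroup G), π a ∈ (Pb : Subgroup (G ⧸ N)) := fun a ha => ⟨a, ha, rfl⟩
  have hcentral : ∀ x ∈ (P : Subgroup G), ∀ w ∈ (P : Subgroup G), x * w = w * x := by
    intro x hxP
    obtain ⟨P', hP'⟩ := exists_sylow_centralized (hx x (hpel x hxP))
    obtain ⟨g, rfl⟩ := MulAction.exists_smul_eq G P P'
    set y := g⁻¹ * x * g with hy
    have hyC : ∀ w ∈ (P : Subgroup G), w * y = y * w := by
      intro w hw
      have hm : g * w * g⁻¹ ∈ ((g • P : Sylow p G) : Subgroup G) := by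
        rw [Sylow.coe_subgroup_smul]
        exact ⟨w, hw, rfl⟩
      have h1 := mem_centralizer_singleton_iff.1 (hP' hm)
      calc w * y = g⁻¹ * ((g * w * g⁻¹) * x) * g := by rw [hy]; group
        _ = g⁻¹ * (x * (g * w * g⁻¹)) * g := by rw [h1]
        _ = y * w := by rw [hy]; group
    have hyP : y ∈ (P : Subgroup G) := by
      have hz : IsPGroup p (zpowers y) := by
        obtain ⟨k, hk⟩ := hpel x hxP
        refine IsPGroup.of_card (n := k) ?_
        rw [Nat.card_zpowers, hy, ← hk,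
          show g⁻¹ * x * g = MulAut.conj g⁻¹ x by simp, MulEquiv.orderOf_eq]
      have hK : IsPGroup p ↥((P : Subgroup G) ⊔ zpowers y) :=
        IsPGroup.to_sup_of_normal_left' P.2 hz (zpowers_le.2 (centralizer_le_normalizer _
          (mem_centralizer_iff.2 hyC)))
      exact (P.3 hK le_sup_left) ▸ mem_sup_right (mem_zpowers y)
    have hcomm : ∀ a ∈ (Pb : Subgroup (G ⧸ N)), ∀ b ∈ (Pb : Subgroup (G ⧸ N)), a * b = b * a :=
      fun a ha b hb => setLike_mul_comm ha hb
    obtain ⟨nb, hnb, hnbx⟩ := Pb.conj_eq_normalizer_conj_of_mem_centralizer (π x) (π g)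
      (mem_centralizer_iff.2 fun a ha => hcomm a ha _ (hPb x hxP))
      (by
        rw [← map_inv, ← map_mul, ← map_mul, ← hy]
        exact mem_centralizer_iff.2 fun a ha => hcomm a ha _ (hPb y hyP))
    rw [← map_inv, ← map_mul, ← map_mul, ← hy] at hnbx
    obtain ⟨m, rfl⟩ := QuotientGroup.mk'_surjective N nb
    -- replace `m` by an element normalizing `P`
    set K := (Pb : Subgroup (G ⧸ N)).comap π
    have hPK : (P : Subgroup G) ≤ K := fun a ha => hPb a ha
    have hmPK : ((m • P : Sylow p G) : Subgroup G) ≤ K := by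
      rw [Sylow.coe_subgroup_smul]
      rintro _ ⟨a, ha, rfl⟩
      show π ((MulAut.conj m) a) ∈ (Pb : Subgroup (G ⧸ N))
      rw [MulAut.conj_apply]
      rw [map_mul, map_mul, map_inv]
      exact (mem_normalizer_iff.1 hnb _).1 (hPb a ha)
    obtain ⟨k, hk⟩ := MulAction.exists_smul_eq K (P.subtype hPK) ((m • P).subtype hmPK)
    rw [Sylow.smul_subtype] at hk
    have hk' := Sylow.subtype_injective hk
    have hν : (k : G)⁻¹ * m ∈ normalizer ((P : Subgroup G) : Set G) := by
      refine Sylow.smul_eq_iff_mem_normalizer.1 ?_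
      rw [mul_smul, ← hk']
      exact inv_smul_smul (k : G) P
    set ν := (k : G)⁻¹ * m with hνdef
    have hv : ν⁻¹ * x * ν ∈ (P : Subgroup G) := by
      have := (mem_normalizer_iff''.1 hν x).1 hxP
      exact this
    have heq : π (ν⁻¹ * x * ν) = π y := by
      have hkx := hcomm _ (show π (k : G) ∈ (Pb : Subgroup (G ⧸ N)) from k.2) _ (hPb x hxP)
      rw [hnbx, show ν⁻¹ * x * ν = m⁻¹ * ((k : G) * x * (k : G)⁻¹) * m by rw [hνdef]; group]
      simp only [map_mul, map_inv]
      rw [hkx, mul_inv_cancel_right]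
    set q := y⁻¹ * (ν⁻¹ * x * ν) with hqdef
    have hqQ : q ∈ Q := ⟨(P : Subgroup G).mul_mem ((P : Subgroup G).inv_mem hyP) hv,
      (QuotientGroup.eq_one_iff q).1 (show π q = 1 by rw [hqdef, map_mul, map_inv, heq, inv_mul_cancel])⟩
    intro w hw
    have hw' : ν⁻¹ * w * ν ∈ (P : Subgroup G) := (mem_normalizer_iff''.1 hν w).1 hw
    have h1 : Commute (ν⁻¹ * x * ν) (ν⁻¹ * w * ν) := by
      rw [show ν⁻¹ * x * ν = y * q by rw [hqdef]; group]
      exact Commute.mul_left (hyC _ hw').symm (mem_centralizer_iff.1 (hcent hw') q hqQ)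
    calc x * w = ν * ((ν⁻¹ * x * ν) * (ν⁻¹ * w * ν)) * ν⁻¹ := by group
      _ = ν * ((ν⁻¹ * w * ν) * (ν⁻¹ * x * ν)) * ν⁻¹ := by rw [h1.eq]
      _ = w * x := by group
  exact ⟨⟨fun a b => Subtype.ext (hcentral a a.2 b b.2)⟩⟩

/-- Let G be a finite group and p a prime such that the Sylow p-subgroups of G are non-abelian while every element of p-power order has conjugacy class size prime to p, and suppose no nontrivial proper normal subgroup N of G has this property and no quotient G/N by such an N has it. Then G is simple. -/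
theorem result {G : Type*} [Group G] [Finite G]
    (p : ℕ) [Fact p.Prime] (h : ((∃ P : Sylow p G, ¬ IsMulCommutative P) ∧ ∀ x : G, (∃ k : ℕ, orderOf x = p ^ k) → ¬ p ∣ (Subgroup.centralizer ({x} : Set G)).index))
    (hmin : ∀ (N : Subgroup G) [N.Normal], N ≠ ⊥ → N ≠ ⊤ →
      ¬ ((∃ P : Sylow p N, ¬ IsMulCommutative P) ∧ ∀ x : N, (∃ k : ℕ, orderOf x = p ^ k) → ¬ p ∣ (Subgroup.centralizer ({x} : Set N)).index) ∧
      ¬ ((∃ P : Sylow p (G ⧸ N), ¬ IsMulCommutative P) ∧ ∀ x : (G ⧸ N), (∃ k : ℕ, orderOf x = p ^ k) → ¬ p ∣ (Subgroup.centralizer ({x} : Set (G ⧸ N))).index)) :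
    IsSimpleGroup G := by
  obtain ⟨⟨P, hP⟩, hx⟩ := h
  haveI : Nontrivial G := by
    by_contra hn
    haveI : Subsingleton G := not_nontrivial_iff_subsingleton.1 hn
    exact hP ⟨⟨fun a b => Subsingleton.elim _ _⟩⟩
  refine ⟨fun N hN => ?_⟩
  by_contra hc
  push Not at hc
  obtain ⟨hN1, hN2⟩ := hc
  obtain ⟨hA, hB⟩ := hmin N hN1 hN2
  refine hP (abelian_of_normal hx N (fun S => ?_) (fun S => ?_) P)
  · by_contra hS
    refine hA ⟨⟨S, hS⟩, fun x hxo hd => ?_⟩
    obtain ⟨k, hk⟩ := hxo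
    refine hx (x : G) ⟨k, by rw [Subgroup.orderOf_coe]; exact hk⟩ (hd.trans ?_)
    have e : Subgroup.centralizer ({x} : Set N) =
        (Subgroup.centralizer ({(x : G)} : Set G)).subgroupOf N := by
      ext y
      simp only [Subgroup.mem_subgroupOf, Subgroup.mem_centralizer_singleton_iff, Subtype.ext_iff,
        Subgroup.coe_mul]
    rw [e]
    exact relIndex_dvd_index _ N
  · by_contra hS
    refine hB ⟨⟨S, hS⟩, fun x hxo hd => ?_⟩
    obtain ⟨k, hk⟩ := hxo
    obtain ⟨T, hT⟩ := (IsPGroup.of_card (p := p) (n := k) (G := Subgroup.zpowers x)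
      (by rw [Nat.card_zpowers, hk])).exists_le_sylow
    obtain ⟨T', rfl⟩ := Sylow.mapSurjective_surjective (QuotientGroup.mk'_surjective N) p T
    obtain ⟨x', hx', rfl⟩ := hT (Subgroup.mem_zpowers x)
    obtain ⟨j, hj⟩ := IsPGroup.iff_orderOf.1 T'.2 ⟨x', hx'⟩
    refine hx x' ⟨j, by rw [← hj, Subgroup.orderOf_mk]⟩ (hd.trans
      ((Subgroup.index_dvd_of_le ?_).trans (Subgroup.index_map_dvd _ (QuotientGroup.mk'_surjective N))))
    rintro _ ⟨c, hc, rfl⟩
    rw [Subgroup.mem_centralizer_singleton_iff, ← map_mul, ← map_mul,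
      Subgroup.mem_centralizer_singleton_iff.1 hc]

end Cfsg.Agent.S4354
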