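import Cfsg.Statements.S4358
import Mathlib

set_option autoImplicit false
open Cfsg

namespace Cfsg.Agent.S4358

open scoped Classical
open Matrix

section

variable {F : Type*} [Field F] {p : ℕ} [Fact p.Prime]

/-- The monomial matrix with translation `k` and entries `d`. -/
def mon (d : ZMod p → F) (k : ZMod p) : Matrix (ZMod p) (ZMod p) F :=
  Matrix.of fun i j => if i = j + k then d i else 0

theorem mon_mul (d : ZMod p → F) (k : ZMod p) (M : Matrix (ZMod p) (ZMod p) F) (i j : ZMod p) :
    (mon d k * M) i j = d i * M (i - k) j := by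
  rw [Matrix.mul_apply, Finset.sum_eq_single (i - k)]
  · simp [mon]
  · intro m _ hm
    have : ¬ i = m + k := fun h => hm (by rw [h]; abel)
    simp [mon, this]
  · simp

theorem mul_mon (d : ZMod p → F) (k : ZMod p) (M : Matrix (ZMod p) (ZMod p) F) (i j : ZMod p) :
    (M * mon d k) i j = M i (j + k) * d (j + k) := by
  rw [Matrix.mul_apply, Finset.sum_eq_single (j + k)]
  · simp [mon]
  · intro m _ hm
    simp [mon, hm]
  · simp

theorem mon_mul_mon (d e : ZMod p → F) (k l : ZMod p) :
    mon d k * mon e l = mon (fun i => d i * e (i - k)) (k + l) := by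
  ext i j
  rw [mon_mul]
  by_cases h : i = j + (k + l)
  · simp [mon, h, show j + (k + l) - k = j + l by ring]
  · have : ¬ i - k = j + l := fun h' => h (by rw [← sub_add_cancel i k, h']; ring)
    simp [mon, h, this]

theorem mon_zero (d : ZMod p → F) : mon d 0 = Matrix.diagonal d := by
  ext i j
  simp [mon, Matrix.diagonal]

theorem mon_one : mon (fun _ => (1 : F)) (0 : ZMod p) = 1 := by
  rw [mon_zero, Matrix.diagonal_one]

/-- Monomial matrices with entries `p`-th roots of unity over the translations. -/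
def monGroup (F : Type*) [Field F] (p : ℕ) [Fact p.Prime] : Subgroup (GL (ZMod p) F) where
  carrier := {g | ∃ (d : ZMod p → F) (k : ZMod p), (∀ i, d i ^ p = 1) ∧ g.1 = mon d k}
  one_mem' := ⟨fun _ => 1, 0, fun _ => one_pow _, by rw [mon_one]; rfl⟩
  mul_mem' := by
    rintro g h ⟨d, k, hd, hg⟩ ⟨e, l, he, hh⟩
    exact ⟨fun i => d i * e (i - k), k + l, fun i => by rw [mul_pow, hd, he, one_mul],
      by rw [Units.val_mul, hg, hh, mon_mul_mon]⟩
  inv_mem' := by
    rintro g ⟨d, k, hd, hg⟩
    have hne : ∀ i, d i ≠ 0 := fun i h => by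
      have := hd i
      rw [h, zero_pow (Fact.out : p.Prime).ne_zero] at this
      exact zero_ne_one this
    refine ⟨fun i => (d (i + k))⁻¹, -k, fun i => by rw [inv_pow, hd, inv_one],
      Units.inv_eq_of_mul_eq_one_right ?_⟩
    rw [hg, mon_mul_mon, add_neg_cancel, ← mon_one]
    congr 1
    funext i
    rw [sub_add_cancel, mul_inv_cancel₀ (hne i)]

theorem root_ne_zero {a : F} (h : a ^ p = 1) : a ≠ 0 := fun h0 => by
  rw [h0, zero_pow (Fact.out : p.Prime).ne_zero] at h
  exact zero_ne_one h

/-- A unit diagonal matrix. -/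
def diagUnit (d : ZMod p → F) (h : ∀ i, d i ≠ 0) : GL (ZMod p) F :=
  ⟨Matrix.diagonal d, Matrix.diagonal fun i => (d i)⁻¹,
    by rw [Matrix.diagonal_mul_diagonal, ← Matrix.diagonal_one]; congr 1; funext i; exact mul_inv_cancel₀ (h i),
    by rw [Matrix.diagonal_mul_diagonal, ← Matrix.diagonal_one]; congr 1; funext i; exact inv_mul_cancel₀ (h i)⟩

theorem exists_mul (k : ZMod p) (hk : k ≠ 0) (i : ZMod p) : ∃ n : ℕ, i = n * k :=
  ⟨(i * k⁻¹).val, by rw [ZMod.natCast_zmod_val, inv_mul_cancel_right₀ hk]⟩

theorem column_zero (s : GL (ZMod p) F) (w : ZMod p → F) (h : s.1 *ᵥ w = 0) : w = 0 := by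
  have := congrArg (fun v => s⁻¹.1 *ᵥ v) h
  simpa [Matrix.mulVec_mulVec] using this

variable (hp2 : p ≠ 2)
include hp2

theorem two_ne_zero' : (2 : ZMod p) ≠ 0 := fun h => by
  have h' : ((2 : ℕ) : ZMod p) = 0 := by exact_mod_cast h
  rw [ZMod.natCast_eq_zero_iff] at h'
  exact hp2 ((Nat.prime_dvd_prime_iff_eq (Fact.out : p.Prime) Nat.prime_two).1 h')

/-- An element normalizing the monomial group has at most one non-zero entry in each row. -/
theorem row_single {ζ : F} (hζ : ζ ^ p = 1) (hζ1 : ζ ≠ 1) {s : GL (ZMod p) F}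
    (hs : ∀ g ∈ monGroup F p, s * g * s⁻¹ ∈ monGroup F p) {i j l : ZMod p} (hij : s.1 i j ≠ 0)
    (hl : l ≠ j) : s.1 i l = 0 := by
  have hd : ∀ m, Function.update (fun _ => (1 : F)) j ζ m ^ p = 1 := fun m => by
    by_cases h : m = j
    · subst h; simp [hζ]
    · simp [Function.update_of_ne h]
  have hnz : ∀ m, Function.update (fun _ => (1 : F)) j ζ m ≠ 0 := fun m => root_ne_zero (hd m)
  obtain ⟨d, k, -, hM⟩ := hs (diagUnit _ hnz) ⟨_, 0, hd, (mon_zero _).symm⟩
  have heq : s.1 * Matrix.diagonal (Function.update (fun _ => (1 : F)) j ζ) = mon d k * s.1 := by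
    rw [← hM, ← Units.val_mul, inv_mul_cancel_right]
    rfl
  have hent : ∀ a b, s.1 a b * Function.update (fun _ => (1 : F)) j ζ b = d a * s.1 (a - k) b :=
    fun a b => by
      have := congrFun (congrFun heq a) b
      rwa [Matrix.mul_diagonal, mon_mul] at this
  rcases eq_or_ne k 0 with rfl | hk
  · have h1 := hent i j
    have h2 := hent i l
    rw [Function.update_self, sub_zero, mul_comm] at h1
    rw [Function.update_of_ne hl, sub_zero, mul_one] at h2
    rw [← mul_right_cancel₀ hij h1] at h2
    by_contra h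
    exact hζ1 (mul_right_cancel₀ h (by rw [← h2, one_mul]))
  · exfalso
    have key : ∀ (a b : F) (c e : ZMod p), c ≠ j → e ≠ j → a * s.1 0 c + b * s.1 0 e = 0 →
        ∀ x, a * s.1 x c + b * s.1 x e = 0 := by
      intro a b c e hc he h0 x
      obtain ⟨n, rfl⟩ := exists_mul k hk x
      induction n with
      | zero => simpa using h0
      | succ n ih =>
        have h1 := hent ((n + 1 : ℕ) * k) c
        have h2 := hent ((n + 1 : ℕ) * k) e
        rw [Function.update_of_ne hc, mul_one] at h1
        rw [Function.update_of_ne he, mul_one] at h2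
        rw [h1, h2, show ((n + 1 : ℕ) : ZMod p) * k - k = n * k by push_cast; ring]
        linear_combination d ((n + 1 : ℕ) * k) * ih
    have hc1 : j + 1 ≠ j := fun h => one_ne_zero (add_eq_left.1 h)
    have hc2 : j + 2 ≠ j := fun h => two_ne_zero' hp2 (add_eq_left.1 h)
    have hne : j + 1 ≠ j + 2 := fun h => one_ne_zero (α := ZMod p)
      (by linear_combination -(add_left_cancel h))
    have h0 : s.1 0 (j + 1) ≠ 0 := fun h => by
      have := column_zero s (Pi.single (j + 1) 1) (funext fun x => by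
        have := key 1 0 (j + 1) (j + 1) hc1 hc1 (by simp [h]) x
        simpa [Matrix.mulVec_single] using this)
      simpa using congrFun this (j + 1)
    have hw := column_zero s (Pi.single (j + 1) (s.1 0 (j + 2)) + Pi.single (j + 2) (-s.1 0 (j + 1)))
      (funext fun x => by
        have := key (s.1 0 (j + 2)) (-s.1 0 (j + 1)) (j + 1) (j + 2) hc1 hc2 (by ring) x
        simpa [Matrix.mulVec_add, Matrix.mulVec_single, mul_comm] using this)
    exact h0 (by simpa [hne.symm] using congrFun hw (j + 2))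

/-- A witness that some row has two non-zero entries. -/
theorem not_normalize {ζ : F} (hζ : ζ ^ p = 1) (hζ1 : ζ ≠ 1) {s : GL (ZMod p) F} {i j l : ZMod p}
    (hij : s.1 i j ≠ 0) (hil : s.1 i l ≠ 0) (hl : l ≠ j) :
    ∃ g ∈ monGroup F p, s * g * s⁻¹ ∉ monGroup F p := by
  by_contra! h
  exact hil (row_single hp2 hζ hζ1 h hij hl)

omit hp2 in
theorem pow_eq_mon {g : GL (ZMod p) F} {d : ZMod p → F} {k : ZMod p} (hd : ∀ i, d i ^ p = 1)
    (hg : g.1 = mon d k) (n : ℕ) :
    ∃ D : ZMod p → F, (∀ i, D i ^ p = 1) ∧ g.1 ^ n = mon D (n * k) := by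
  induction n with
  | zero => exact ⟨fun _ => 1, fun _ => one_pow _, by simp [mon_one]⟩
  | succ n ih =>
    obtain ⟨D, hD, h⟩ := ih
    exact ⟨fun i => D i * d (i - n * k), fun i => by rw [mul_pow, hD, hd, one_mul],
      by rw [pow_succ, h, hg, mon_mul_mon]; push_cast; ring_nf⟩

omit hp2 in
theorem isPGroup_monGroup : IsPGroup p (monGroup F p) := by
  rintro ⟨g, d, k, hd, hg⟩
  refine ⟨2, Subtype.ext (Units.ext ?_)⟩
  obtain ⟨D, hD, h⟩ := pow_eq_mon hd hg p
  show (g ^ p ^ 2).1 = 1
  rw [Units.val_pow_eq_pow_val, pow_two, pow_mul, h, ZMod.natCast_self, zero_mul, mon_zero,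
    Matrix.diagonal_pow, ← Matrix.diagonal_one]
  congr 1
  funext i
  exact hD i

omit hp2 in
theorem sum_val (f : ℕ → F) : ∑ j : ZMod p, f j.val = ∑ n ∈ Finset.range p, f n := by
  refine Finset.sum_nbij' ZMod.val (fun n => (n : ZMod p)) ?_ ?_ ?_ ?_ ?_
  · intro a _; exact Finset.mem_range.2 (ZMod.val_lt a)
  · intro a _; exact Finset.mem_univ _
  · intro a _; exact ZMod.natCast_zmod_val a
  · intro a ha; exact ZMod.val_natCast_of_lt (Finset.mem_range.1 ha)
  · intro a _; rfl

/-- Every element of the monomial group lies in a different conjugate of it. -/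
theorem redundant {ζ : F} (hζ : ζ ^ p = 1) (hζ1 : ζ ≠ 1) (hpF : (p : F) ≠ 0) {x : GL (ZMod p) F}
    (hx : x ∈ monGroup F p) :
    ∃ s : GL (ZMod p) F, s⁻¹ * x * s ∈ monGroup F p ∧
      ∃ g ∈ monGroup F p, s * g * s⁻¹ ∉ monGroup F p := by
  obtain ⟨d, k, hd, hg⟩ := hx
  have hdne : ∀ i, d i ≠ 0 := fun i => root_ne_zero (hd i)
  have comm_case : ∀ s : GL (ZMod p) F, s.1 * x.1 = x.1 * s.1 → s⁻¹ * x * s ∈ monGroup F p := by
    intro s h
    have : s * x = x * s := Units.ext h
    rw [mul_assoc, ← this, inv_mul_cancel_left]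
    exact ⟨d, k, hd, hg⟩
  rcases eq_or_ne k 0 with rfl | hk
  · rw [mon_zero] at hg
    by_cases hinj : Function.Injective d
    · -- all the eigenvalues differ: `x` is conjugate to a translation
      let V : Matrix (ZMod p) (ZMod p) F := Matrix.of fun l j => d l ^ j.val
      let W : Matrix (ZMod p) (ZMod p) F := Matrix.of fun j m => (d m)⁻¹ ^ j.val * (p : F)⁻¹
      have hVW : V * W = 1 := by
        ext l m
        rw [Matrix.mul_apply]
        have : ∀ j : ZMod p, V l j * W j m = (d l * (d m)⁻¹) ^ j.val * (p : F)⁻¹ := fun j => by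
          simp only [V, W, Matrix.of_apply, mul_pow]; ring
        rw [Finset.sum_congr rfl fun j _ => this j, ← Finset.sum_mul,
          sum_val (fun n => (d l * (d m)⁻¹) ^ n)]
        by_cases h : l = m
        · subst h
          simp [mul_inv_cancel₀ (hdne l), hpF]
        · have hne : d l * (d m)⁻¹ ≠ 1 := fun h' =>
            h (hinj (by rwa [mul_inv_eq_one₀ (hdne m)] at h'))
          rw [geom_sum_eq hne, mul_pow, inv_pow, hd, hd]
          simp [Matrix.one_apply_ne h]
      let s : GL (ZMod p) F := ⟨V, W, hVW, mul_eq_one_comm.1 hVW⟩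
      let y : GL (ZMod p) F :=
        ⟨mon (fun _ => 1) 1, mon (fun _ => 1) (-1),
          by rw [mon_mul_mon, add_neg_cancel]; simp [mon_one],
          by rw [mon_mul_mon, neg_add_cancel]; simp [mon_one]⟩
      refine ⟨s, ?_, not_normalize hp2 hζ hζ1 (i := 0) (j := 0) (l := 1) ?_ ?_ one_ne_zero⟩
      · have hsy : x * s = s * y := Units.ext (by
          ext l j
          show (x.1 * V) l j = (V * mon (fun _ => (1 : F)) (1 : ZMod p)) l j
          rw [hg, Matrix.diagonal_mul, mul_mon, mul_one]
          show d l * d l ^ j.val = d l ^ (j + 1).val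
          rw [ZMod.val_add, ZMod.val_one, ← pow_eq_pow_mod _ (hd l), pow_succ']
          )
        rw [mul_assoc, hsy, inv_mul_cancel_left]
        exact ⟨_, 1, fun _ => one_pow _, rfl⟩
      · exact pow_ne_zero _ (hdne 0)
      · exact pow_ne_zero _ (hdne 0)
    · -- two equal eigenvalues: a transvection commutes with `x`
      obtain ⟨i, j, hdij, hij⟩ : ∃ i j, d i = d j ∧ i ≠ j := by
        simpa [Function.Injective] using hinj
      let s : GL (ZMod p) F := ⟨Matrix.transvection i j 1, Matrix.transvection i j (-1),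
        by rw [Matrix.transvection_mul_transvection_same _ _ hij]; simp,
        by rw [Matrix.transvection_mul_transvection_same _ _ hij]; simp⟩
      refine ⟨s, comm_case s ?_, not_normalize hp2 hζ hζ1 (i := i) (j := i) (l := j) ?_ ?_ hij.symm⟩
      · show Matrix.transvection i j 1 * x.1 = x.1 * Matrix.transvection i j 1
        rw [hg]
        ext a b
        rw [Matrix.mul_diagonal, Matrix.diagonal_mul]
        by_cases hab : a = b
        · subst hab; ring
        by_cases h : a = i ∧ b = j
        · obtain ⟨rfl, rfl⟩ := h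
          rw [hdij, mul_comm]
        · have : Matrix.transvection i j (1 : F) a b = 0 := by
            rw [Matrix.transvection, Matrix.add_apply, Matrix.one_apply_ne hab, zero_add,
              Matrix.single_apply, if_neg fun h' => h ⟨h'.1.symm, h'.2.symm⟩]
          rw [this, zero_mul, mul_zero]
      · show Matrix.transvection i j (1 : F) i i ≠ 0
        simp [Matrix.transvection, Matrix.single_apply, hij.symm]
      · show Matrix.transvection i j (1 : F) i j ≠ 0
        simp [Matrix.transvection, Matrix.one_apply_ne hij]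
  · -- `x` moves the coordinates: use a unit of `F[x]`
    obtain ⟨D, hD, hxp⟩ := pow_eq_mon hd hg p
    rw [ZMod.natCast_self, zero_mul, mon_zero] at hxp
    have hconst : ∀ i, D i = D 0 := by
      intro i
      obtain ⟨n, rfl⟩ := exists_mul k hk i
      induction n with
      | zero => simp
      | succ n ih =>
        have h1 := congrFun (congrFun ((Commute.self_pow x.1 p).eq) ((n + 1 : ℕ) * k)) (n * k)
        rw [hxp, hg, Matrix.mul_diagonal, Matrix.diagonal_mul] at h1
        have h2 : mon d k ((n + 1 : ℕ) * k) (n * k) = d ((n + 1 : ℕ) * k) := by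
          simp [mon, add_mul]
        rw [h2, mul_comm] at h1
        rw [← ih, mul_right_cancel₀ (hdne _) h1]
    have hxp' : x.1 ^ p = Matrix.scalar (ZMod p) (D 0) := by
      rw [hxp, Matrix.scalar_apply]
      congr 1
      funext i
      exact hconst i
    have hent : ∀ i, x.1 i (i - k) = d i := fun i => by simp [hg, mon]
    have hdiag : ∀ i, x.1 i i = 0 := fun i => by simp [hg, mon, hk]
    have hikne : ∀ i : ZMod p, i - k ≠ i := fun i h => hk (sub_eq_self.1 h)
    by_cases hμ : D 0 = 1
    · -- `x ^ p = 1`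
      set J : Matrix (ZMod p) (ZMod p) F := ∑ n ∈ Finset.range p, x.1 ^ n with hJdef
      have hxJ : x.1 * J = J := by
        have h := mul_geom_sum x.1 p
        rw [hxp', hμ, map_one, sub_self, sub_mul, one_mul, sub_eq_zero] at h
        exact h
      have hnJ : ∀ n, x.1 ^ n * J = J := by
        intro n
        induction n with
        | zero => simp
        | succ n ih => rw [pow_succ, mul_assoc, hxJ, ih]
      have hJJ : J * J = (p : F) • J := by
        conv_lhs => lhs; rw [hJdef]
        rw [Finset.sum_mul, Finset.sum_congr rfl fun n _ => hnJ n, Finset.sum_const,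
          Finset.card_range, Nat.cast_smul_eq_nsmul]
      let c : F := (ζ - 1) / p
      let c' : F := (ζ⁻¹ - 1) / p
      have hc : c ≠ 0 := div_ne_zero (sub_ne_zero.2 hζ1) hpF
      have hprod : ∀ a b : F, a + b + a * b * p = 0 → (1 + a • J) * (1 + b • J) = 1 := by
        intro a b h
        rw [mul_add, add_mul, add_mul, one_mul, one_mul, mul_one, smul_mul_smul_comm, hJJ, smul_smul,
          add_assoc, ← add_smul, ← add_smul, ← add_assoc a b, h, zero_smul, add_zero]
      have hcc : c + c' + c * c' * p = 0 := by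
        have := root_ne_zero hζ
        simp only [c, c']
        field_simp
        ring
      let s : GL (ZMod p) F := ⟨1 + c • J, 1 + c' • J, hprod c c' hcc,
        hprod c' c (by linear_combination hcc)⟩
      have hJent : ∀ (i : ZMod p) (m : ℕ), m < p → J i (i - m * k) = (x.1 ^ m) i (i - m * k) := by
        intro i m hm
        rw [hJdef, Matrix.sum_apply, Finset.sum_eq_single m]
        · intro n hn hne
          obtain ⟨E, -, hE⟩ := pow_eq_mon hd hg n
          rw [hE]
          simp only [mon, Matrix.of_apply]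
          rw [if_neg]
          intro h
          have h' : (n : ZMod p) = m := mul_right_cancel₀ hk (by linear_combination -h)
          refine hne ?_
          rw [← ZMod.val_natCast_of_lt (Finset.mem_range.1 hn), h', ZMod.val_natCast_of_lt hm]
        · intro h
          exact absurd (Finset.mem_range.2 hm) h
      have h3 : 2 < p := lt_of_le_of_ne (Fact.out : p.Prime).two_le (Ne.symm hp2)
      refine ⟨s, comm_case s ?_, not_normalize hp2 hζ hζ1 (i := 0) (j := 0 - (1 : ℕ) * k)
        (l := 0 - (2 : ℕ) * k) ?_ ?_ ?_⟩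
      · show (1 + c • J) * x.1 = x.1 * (1 + c • J)
        rw [add_mul, mul_add, one_mul, mul_one, Matrix.smul_mul, Matrix.mul_smul]
        congr 2
        exact (Commute.sum_left _ _ _ fun n _ => Commute.pow_self x.1 n).eq
      · show (1 + c • J) 0 _ ≠ 0
        rw [Matrix.add_apply, Matrix.smul_apply, hJent 0 1 (by omega), Matrix.one_apply_ne
          (by simpa using hk), zero_add, pow_one, smul_eq_mul, Nat.cast_one, one_mul]
        exact mul_ne_zero hc ((hent 0).symm ▸ hdne 0)
      · show (1 + c • J) 0 _ ≠ 0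
        rw [Matrix.add_apply, Matrix.smul_apply, hJent 0 2 h3, Matrix.one_apply_ne
          (by simpa using ⟨two_ne_zero' hp2, hk⟩), zero_add, pow_two, hg, mon_mul, smul_eq_mul]
        refine mul_ne_zero hc (mul_ne_zero (hdne _) ?_)
        simp only [mon, Matrix.of_apply]
        rw [if_pos (by push_cast; ring)]
        exact hdne _
      · intro h
        have h' : (2 : ZMod p) * k = 1 * k := by simpa using h
        exact one_ne_zero (α := ZMod p) (by linear_combination mul_right_cancel₀ hk h')
    · -- `1 + x` is a unit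
      have hμp : D 0 ^ p = 1 := hD 0
      have hodd : Odd p := (Fact.out : p.Prime).odd_of_ne_two hp2
      have h1μ : (1 : F) + D 0 ≠ 0 := fun h => by
        have hneg : D 0 = -1 := by linear_combination h
        rw [hneg, hodd.neg_one_pow] at hμp
        exact hμ (by rw [hneg, hμp])
      set T : Matrix (ZMod p) (ZMod p) F := ∑ n ∈ Finset.range p, (-x.1) ^ n with hT
      have hsT : (1 + x.1) * ((1 + D 0)⁻¹ • T) = 1 := by
        have h := mul_neg_geom_sum (-x.1) p
        rw [sub_neg_eq_add, hodd.neg_pow, sub_neg_eq_add, hxp', ← hT] at h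
        rw [Matrix.mul_smul, h]
        ext i j
        by_cases hij : i = j
        · subst hij; simp [Matrix.scalar_apply, h1μ]
        · simp [Matrix.scalar_apply, hij]
      let s : GL (ZMod p) F := ⟨1 + x.1, _, hsT, mul_eq_one_comm.1 hsT⟩
      refine ⟨s, comm_case s ?_, not_normalize hp2 hζ hζ1 (i := 0) (j := 0) (l := 0 - k) ?_ ?_ (hikne 0)⟩
      · show (1 + x.1) * x.1 = x.1 * (1 + x.1)
        rw [add_mul, mul_add, one_mul, mul_one]
      · show (1 + x.1) 0 0 ≠ 0
        rw [Matrix.add_apply, Matrix.one_apply_eq, hdiag, add_zero]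
        exact one_ne_zero
      · show (1 + x.1) 0 (0 - k) ≠ 0
        rw [Matrix.add_apply, Matrix.one_apply_ne (hikne 0).symm, zero_add, hent]
        exact hdne 0

/-- The monomial group is a maximal `p`-subgroup. -/
theorem maximal [Fintype F] (h2 : ¬ p ^ 2 ∣ Fintype.card F - 1) {ζ : F} (hζ : ζ ^ p = 1)
    (hζ1 : ζ ≠ 1) {R : Subgroup (GL (ZMod p) F)} (hR : IsPGroup p R) (hQR : monGroup F p ≤ R) :
    R = monGroup F p := by
  by_contra hne
  set Q := monGroup F p with hQ
  have hlt : Q.subgroupOf R < ⊤ :=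
    lt_top_iff_ne_top.2 fun h => hne (le_antisymm (Subgroup.subgroupOf_eq_top.1 h) hQR)
  haveI := hR.isNilpotent
  obtain ⟨s, hsN, hsQ⟩ := SetLike.exists_of_lt (normalizerCondition_of_isNilpotent _ hlt)
  obtain ⟨e, he⟩ := hR s
  have hsnot : (s : GL (ZMod p) F) ∉ Q := fun h => hsQ h
  have hnorm : ∀ g ∈ Q, (s : GL (ZMod p) F) * g * (s : GL (ZMod p) F)⁻¹ ∈ Q := fun g hg =>
    (Subgroup.mem_normalizer_iff.1 hsN ⟨g, hQR hg⟩).1 hg
  set S := (s : GL (ZMod p) F).1 with hS
  have hrow : ∀ i, ∃ j, S i j ≠ 0 := by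
    intro i
    by_contra! h
    have := congrFun (congrFun (s : GL (ZMod p) F).mul_inv i) i
    rw [Matrix.mul_apply, Matrix.one_apply_eq] at this
    rw [Finset.sum_eq_zero fun j _ => mul_eq_zero_of_left (h j) _] at this
    exact zero_ne_one this
  choose π hπ using hrow
  have hπu : ∀ {i l}, S i l ≠ 0 → l = π i := fun {i l} h => by
    by_contra hl
    exact h (row_single hp2 hζ hζ1 hnorm (hπ i) hl)
  -- image of the translation
  let y : ZMod p → GL (ZMod p) F := fun c =>
    ⟨mon (fun _ => 1) c, mon (fun _ => 1) (-c),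
      by rw [mon_mul_mon, add_neg_cancel]; simp [mon_one],
      by rw [mon_mul_mon, neg_add_cancel]; simp [mon_one]⟩
  have hyQ : ∀ c, y c ∈ Q := fun c => ⟨_, c, fun _ => one_pow _, rfl⟩
  obtain ⟨d, k, hd, hM⟩ := hnorm _ (hyQ 1)
  have heq : ∀ i l, S i (l + 1) = d i * S (i - k) l := by
    have h : S * mon (fun _ => 1) 1 = mon d k * S := by
      rw [← hM, hS, ← Units.val_mul, inv_mul_cancel_right]
      rfl
    intro i l
    have := congrFun (congrFun h i) l
    rwa [mul_mon, mul_one, mon_mul] at this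
  have hk : k ≠ 0 := by
    rintro rfl
    have h1 := heq 0 (π 0)
    rw [sub_zero] at h1
    have : π 0 + 1 = π 0 := hπu (h1 ▸ mul_ne_zero (root_ne_zero (hd 0)) (hπ 0))
    exact one_ne_zero (add_eq_left.1 this)
  have hstep : ∀ i, π (i - k) = π i - 1 := fun i => by
    refine (hπu ?_).symm
    have := heq i (π i - 1)
    rw [sub_add_cancel] at this
    exact right_ne_zero_of_mul (this ▸ hπ i)
  have haff : ∀ n : ℕ, π (n * k) = π 0 + n := by
    intro n
    induction n with
    | zero => simp
    | succ n ih =>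
      have := hstep ((n + 1 : ℕ) * k)
      rw [show ((n + 1 : ℕ) : ZMod p) * k - k = n * k by push_cast; ring, ih] at this
      push_cast at this ⊢
      linear_combination -this
  have haff' : ∀ i, π i = π 0 + k⁻¹ * i := fun i => by
    obtain ⟨n, rfl⟩ := exists_mul k hk i
    rw [haff, mul_comm (n : ZMod p) k, inv_mul_cancel_left₀ hk]
  have hpowrow : ∀ (n : ℕ) i l, (S ^ n) i l ≠ 0 → l = π^[n] i := by
    intro n
    induction n with
    | zero => intro i l h; by_contra hl; exact h (by rw [pow_zero]; exact Matrix.one_apply_ne (Ne.symm hl))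
    | succ n ih =>
      intro i l h
      rw [pow_succ', Matrix.mul_apply, Finset.sum_eq_single (π i)] at h
      · rw [Function.iterate_succ_apply]
        exact ih _ _ (right_ne_zero_of_mul h)
      · intro j _ hj
        have : S i j = 0 := by_contra fun h' => hj (hπu h')
        rw [this, zero_mul]
      · simp
  have hSe : S ^ p ^ e = 1 := by
    rw [hS, ← Units.val_pow_eq_pow_val]
    exact congrArg Units.val (congrArg Subtype.val he)
  have hid : ∀ i, π^[p ^ e] i = i := fun i => (hpowrow _ i i (by rw [hSe]; simp)).symm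
  have hiter : ∀ (n : ℕ) i, π^[n] i = π^[n] 0 + k⁻¹ ^ n * i := by
    intro n
    induction n with
    | zero => simp
    | succ n ih =>
      intro i
      rw [Function.iterate_succ_apply', Function.iterate_succ_apply', ih i, haff', haff' (π^[n] 0)]
      ring
  have hk1 : k⁻¹ = 1 := by
    have h := hiter (p ^ e) 1
    rw [hid, hid, ZMod.pow_card_pow, zero_add, mul_one] at h
    exact h.symm
  have hmon : S = mon (fun i => S i (π i)) (-π 0) := by
    ext i l
    simp only [mon, Matrix.of_apply]
    by_cases h : i = l + -π 0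
    · rw [if_pos h]
      congr 1
      rw [haff', hk1, one_mul, h]; ring
    · rw [if_neg h]
      by_contra h'
      refine h ?_
      rw [hπu h', haff', hk1]; ring
  -- multiply back to a diagonal matrix
  set t : R := s * ⟨y (π 0), hQR (hyQ _)⟩ with ht
  have htmat : (t : GL (ZMod p) F).1 = Matrix.diagonal (fun i => S i (π i)) := by
    show S * mon (fun _ => 1) (π 0) = _
    rw [hmon, mon_mul_mon, neg_add_cancel, mon_zero]
    simp [← hmon]
  obtain ⟨e', he'⟩ := hR t
  have hroot : ∀ i, S i (π i) ^ p = 1 := by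
    intro i
    have h : (S i (π i)) ^ p ^ e' = 1 := by
      have := congrArg Units.val (congrArg Subtype.val he')
      rw [SubmonoidClass.coe_pow, Units.val_pow_eq_pow_val, htmat, Matrix.diagonal_pow] at this
      have := congrFun (congrFun this i) i
      simpa using this
    obtain ⟨u, hu⟩ := isUnit_iff_ne_zero.2 (hπ i)
    rw [← hu, ← Units.val_pow_eq_pow_val, Units.val_eq_one] at h ⊢
    obtain ⟨a, -, ha⟩ := (Nat.dvd_prime_pow (Fact.out : p.Prime)).1 (orderOf_dvd_of_pow_eq_one h)
    refine orderOf_dvd_iff_pow_eq_one.1 (ha ▸ ?_)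
    have hdvd : p ^ a ∣ Fintype.card F - 1 := ha ▸ (Fintype.card_units F) ▸ orderOf_dvd_card
    rcases Nat.lt_or_ge a 2 with h2' | h2'
    · calc p ^ a ∣ p ^ 1 := pow_dvd_pow p (by omega)
        _ = p := pow_one p
    · exact absurd ((pow_dvd_pow p h2').trans hdvd) h2
  have htQ : (t : GL (ZMod p) F) ∈ Q := ⟨_, 0, hroot, by rw [htmat, mon_zero]⟩
  exact hsnot ((Subgroup.mul_mem_cancel_right Q (hyQ _)).1 htQ)

end


/-- Let p be an odd prime and F a finite field with q elements such that p divides q - 1 but p² does not. Then GL(p, F) has a Sylow p-subgroup Q such that every element of p-power order lies in some Sylow p-subgroup other than Q (a redundant Sylow p-subgroup). -/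
theorem result {F : Type*} [Field F] [Fintype F] (p : ℕ) [Fact p.Prime]
    (hp : p ≠ 2) (h1 : p ∣ Fintype.card F - 1) (h2 : ¬ p ^ 2 ∣ Fintype.card F - 1) :
    ∃ Q : Sylow p (Matrix.GeneralLinearGroup (Fin p) F), ∀ x : Matrix.GeneralLinearGroup (Fin p) F,
      (∃ k : ℕ, orderOf x = p ^ k) → ∃ P : Sylow p (Matrix.GeneralLinearGroup (Fin p) F), P ≠ Q ∧ x ∈ P := by
  classical
  have hp' : p.Prime := Fact.out
  obtain ⟨ζ, hζ, hζ1⟩ : ∃ ζ : F, ζ ^ p = 1 ∧ ζ ≠ 1 := by
    obtain ⟨u, hu⟩ := exists_prime_orderOf_dvd_card (G := Fˣ) p (by rwa [Fintype.card_units])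
    refine ⟨u, by rw [← Units.val_pow_eq_pow_val, ← hu, pow_orderOf_eq_one, Units.val_one], fun h => ?_⟩
    rw [Units.val_eq_one.1 h, orderOf_one] at hu
    exact hp'.one_lt.ne hu
  have hpF : (p : F) ≠ 0 := by
    intro h
    obtain ⟨t, ht⟩ := h1
    have h0 : ((Fintype.card F - 1 : ℕ) : F) = 0 := by rw [ht, Nat.cast_mul, h, zero_mul]
    rw [Nat.cast_sub Fintype.card_pos, FiniteField.cast_card_eq_zero, Nat.cast_one, zero_sub,
      neg_eq_zero] at h0
    exact one_ne_zero h0
  let e : GL (ZMod p) F ≃* GL (Fin p) F :=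
    Units.mapEquiv (Matrix.reindexAlgEquiv F F (ZMod.finEquiv p).symm.toEquiv).toMulEquiv
  let Q : Sylow p (GL (Fin p) F) :=
    { toSubgroup := (monGroup F p).map e.toMonoidHom
      isPGroup' := isPGroup_monGroup.map _
      is_maximal' := by
        intro R hR hle
        have h := maximal hp h2 hζ hζ1 (R := R.comap e.toMonoidHom)
          (hR.comap_of_injective _ e.injective) (Subgroup.map_le_iff_le_comap.1 hle)
        rw [← h]
        exact (Subgroup.map_comap_eq_self_of_surjective e.surjective R).symm }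
  refine ⟨Q, fun x hx => ?_⟩
  obtain ⟨kx, hkx⟩ := hx
  by_cases hxQ : x ∈ Q
  · obtain ⟨x₀, hx₀, rfl⟩ := hxQ
    obtain ⟨s, hs, g, hg, hg'⟩ := redundant hp hζ hζ1 hpF hx₀
    refine ⟨e s • Q, fun h => hg' ?_, ?_⟩
    · have h1 : e (s * g * s⁻¹) ∈ ((e s • Q : Sylow p (GL (Fin p) F)) : Subgroup (GL (Fin p) F)) := by
        rw [Sylow.coe_subgroup_smul]
        exact ⟨e g, ⟨g, hg, rfl⟩, by simp⟩
      rw [h] at h1
      obtain ⟨g', hg'', he'⟩ := h1
      rwa [← e.injective he']
    · show e.toMonoidHom x₀ ∈ ((e s • Q : Sylow p (GL (Fin p) F)) : Subgroup (GL (Fin p) F))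
      rw [Sylow.coe_subgroup_smul]
      exact ⟨e (s⁻¹ * x₀ * s), ⟨_, hs, rfl⟩, by simp [mul_assoc]⟩
  · have hz : IsPGroup p (Subgroup.zpowers x) := IsPGroup.of_card (by rw [Nat.card_zpowers, hkx])
    obtain ⟨P, hP⟩ := hz.exists_le_sylow
    exact ⟨P, fun h => hxQ (h ▸ hP (Subgroup.mem_zpowers x)), hP (Subgroup.mem_zpowers x)⟩

end Cfsg.Agent.S4358
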