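import Cfsg.Statements.S4359
import Cfsg.Agent.LocalFlavell.PrimeChain.Build

set_option autoImplicit false
open Pointwise
open Cfsg

namespace Cfsg.Agent.S4359

/-- Let P be a subgroup of a finite group G and g an element such that P ∩ g⁻¹Pg is a normal subgroup of prime index p in g⁻¹Pg. Let n ≥ 1 and let K be the subgroup generated by P and its conjugates g⁻ⁱPgⁱ for i ≤ n. Suppose that g normalizes no non-identity normal subgroup of P and that P meets the center of K trivially. Then the order of P is pᵗ for some t with 1 ≤ t ≤ 3n and t ≠ 3n - 1. -/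
theorem result {G : Type*} [Group G] [Finite G]
    (P : Subgroup G) (g : G) (p : ℕ) (hp : p.Prime)
    (hN : ((P ⊓ MulAut.conj g⁻¹ • P).subgroupOf (MulAut.conj g⁻¹ • P)).Normal)
    (hidx : (P ⊓ MulAut.conj g⁻¹ • P).relIndex (MulAut.conj g⁻¹ • P) = p)
    (n : ℕ) (hn : 1 ≤ n) (K : Subgroup G) (hK : K = ⨆ i ∈ Finset.range (n + 1), MulAut.conj (g ^ i)⁻¹ • P)
    (h1 : ∀ Q : Subgroup G, Q ≤ P → (Q.subgroupOf P).Normal → MulAut.conj g • Q = Q → Q = ⊥)
    (h2 : P ⊓ (Subgroup.center K).map K.subtype = ⊥) :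
    ∃ t : ℕ, Nat.card P = p ^ t ∧ 1 ≤ t ∧ t ≤ 3 * n ∧ t ≠ 3 * n - 1 := by
  set φ : MulAut G := MulAut.conj g⁻¹ with hφ
  obtain ⟨C, hCφ, hCp, hCP, hs⟩ := LocalFlavell.PrimeChain.exists_chain φ P hp
    ⟨inf_le_right, fun a ha b hb => hN.conj_mem ⟨a, ha.2⟩ ha ⟨b, hb⟩⟩ hidx
    (fun Q hQ hQn hQφ => h1 Q hQ hQn (by
      conv_lhs => rw [← hQφ]
      show MulAut.conj g • (φ • Q) = Q
      rw [smul_smul, hφ, ← map_mul, mul_inv_cancel, map_one, one_smul]))
  have hconj : ∀ i : ℕ, MulAut.conj (g ^ i)⁻¹ • P = C.E i C.s := by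
    intro i
    have h := C.map_E i 0 C.s
    rw [Nat.add_zero, hCP, hCφ, hφ, ← map_pow, inv_pow] at h
    exact h
  have hKE : K = C.E 0 (C.s + n) := by
    rw [hK]
    simp only [hconj]
    refine le_antisymm (iSup₂_le fun i hi => C.E_le (Nat.zero_le _)
      (by rw [Finset.mem_range] at hi; omega)) (C.E_le_of fun l _ hl => ?_)
    exact le_iSup₂ (f := fun i (_ : i ∈ Finset.range (n + 1)) => C.E i C.s) (min l n)
      (Finset.mem_range.mpr (by omega)) (C.X_mem (by omega) (by omega))
  have hcen : ∀ c < C.s, (∀ l < C.s + n, Commute (C.X c) (C.X l)) → False := by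
    intro c hc hcomm
    have hcK : C.X c ∈ K := hKE.ge (C.X_mem (Nat.zero_le _) (by omega))
    refine C.X_ne_one hs c (Subgroup.mem_bot.mp (h2.le ⟨hCP.le (C.X_mem (Nat.zero_le _) (by omega)),
      ⟨⟨C.X c, hcK⟩, ?_, rfl⟩⟩))
    refine Subgroup.mem_center_iff.mpr fun w => Subtype.ext ?_
    exact (C.commute_E (fun i _ hi => hcomm i (by omega)) (hKE.le w.2)).eq.symm
  have hle : C.s ≤ 3 * n ∧ C.s ≠ 3 * n - 1 := by
    classical
    by_cases hall : ∀ d < C.s, Commute C.x (C.X d)
    · have : C.s ≤ n := by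
        by_contra hn'
        exact hcen (C.s - 1) (by omega) fun l hl => C.commute_X hall (by omega) (by omega)
      omega
    · push Not at hall
      have hk := Nat.find_spec hall
      set k := Nat.find hall
      have hcomm : ∀ d < k, Commute C.x (C.X d) := fun d hd => by
        by_contra hcon
        exact Nat.find_min hall hd ⟨by omega, hcon⟩
      have hk1 : 1 ≤ k := by
        by_contra h0
        have : k = 0 := by omega
        refine hk.2 ?_
        rw [this, C.X_zero]
      have h3 := C.two_mul_le hk1 (by omega) hcomm hk.2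
      have h4 : 2 * k ≤ C.s + n := by
        by_contra hcon
        exact hcen (k - 1) (by omega) fun l hl => C.commute_X hcomm (by omega) (by omega)
      omega
  refine ⟨C.s, ?_, hs, hle.1, hle.2⟩
  rw [← hCP, C.card_E le_rfl, hCp]

end Cfsg.Agent.S4359
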