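import Cfsg.Statements.S4376
import Cfsg.Agent.GroupStructure3.OrderType.Families

set_option autoImplicit false
open Cfsg

namespace Cfsg.Agent.S4376

open Cfsg.Agent.GroupStructure3.OrderType

/-- The divisors of `84`. -/
def D84 : List ℕ := [1, 2, 3, 4, 6, 7, 12, 14, 21, 28, 42, 84]

theorem tors_eq {k : ℕ} (spec : Fin k → Spec) (ok : ∀ i, (spec i).Ok) (e : Fin k → ℕ)
    (vals : Fin k → List ℕ) (h : ∀ i, D84.map (spec i).tors = vals i) (j : Fin 12) :
    Nat.card {x : (i : Fin k) → Fin (e i) → Spec.Grp (ok i) // x ^ D84.getD j.val 0 = 1} =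
      ∏ i, (vals i).getD j.val 0 ^ e i := by
  rw [card_tors_pi]
  refine Finset.prod_congr rfl fun i _ => ?_
  rw [card_tors_pi, Finset.prod_const, Finset.card_univ, Fintype.card_fin, Spec.card_tors, ← h i]
  congr 1
  rw [List.getD_eq_getElem _ _ (by simp [D84]), List.getD_eq_getElem _ _ (by simp [D84]),
    List.getElem_map]

theorem prods_eq : ∀ j : Fin 12, ∏ i, (solVals i).getD j.val 0 ^ solExp i =
    ∏ i, (nsVals i).getD j.val 0 ^ nsExp i := by
  decide +kernel

theorem mem_D84 : ∀ n ∈ Nat.divisors 84, ∃ j : Fin 12, D84.getD j.val 0 = n := by decide +kernel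

theorem lins27_mem : spec27.dec [1,1,0,0,1,0,0,0,1,0] ∈ spec27.lins ∧
    spec27.dec [1,0,0,0,1,1,0,0,1,0] ∈ spec27.lins ∧
    spec27.dec [1,0,0,0,1,0,1,0,1,0] ∈ spec27.lins := by decide +kernel

/-- An element of the last factor with trivial translation part. -/
def el (l : List ℕ) (h : spec27.dec l ∈ spec27.lins) : Spec.Grp ok27 :=
  ⟨⟨spec27.dec l, ⟨0, 0, 0⟩⟩, h, by simp [Spec.inV]⟩

theorem exists_commutator27 : ∃ x u v : Spec.Grp ok27, x ≠ 1 ∧
    x = u * x * u⁻¹ * (v * x * v⁻¹) * (u * x * u⁻¹)⁻¹ * (v * x * v⁻¹)⁻¹ :=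
  ⟨el _ lins27_mem.1, el _ lins27_mem.2.1, el _ lins27_mem.2.2, by decide +kernel, by decide +kernel⟩

theorem not_isSolvable27 : ¬ Group.IsSolvable (Spec.Grp ok27) := by
  obtain ⟨x, u, v, hne, key⟩ := exists_commutator27
  refine not_isSolvable_of_mem_derivedSeries hne fun n => ?_
  induction n with
  | zero => exact Subgroup.mem_top x
  | succ n ih =>
    have h := Subgroup.commutator_mem_commutator ((derivedSeries_normal _ n).conj_mem x ih u)
      ((derivedSeries_normal _ n).conj_mem x ih v)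
    rw [commutatorElement_def, ← key] at h
    exact h

theorem pow_exp_pi {k : ℕ} (spec : Fin k → Spec) (ok : ∀ i, (spec i).Ok) (e : Fin k → ℕ)
    (x : (i : Fin k) → Fin (e i) → Spec.Grp (ok i)) : x ^ 84 = 1 := by
  funext i l
  exact Spec.grp_exp (ok i) (x i l)


/-- There are finite groups G and H having the same number of elements of each order (the same order type) with G solvable and H not solvable. -/
theorem result :
    ∃ (G : Type) (_ : Group G) (_ : Finite G) (H : Type) (_ : Group H) (_ : Finite H),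
      Group.IsSolvable G ∧ ¬ Group.IsSolvable H ∧ ∀ n : ℕ, Nat.card {g : G // orderOf g = n} = Nat.card {h : H // orderOf h = n} := by
  refine ⟨solGrp, inferInstance, inferInstance, nsGrp, inferInstance, inferInstance, solvable,
    fun hH => ?_, fun n => ?_⟩
  · let f : nsGrp →* Spec.Grp (nsOk 12) :=
      (Pi.evalMonoidHom (fun _ : Fin (nsExp 12) => Spec.Grp (nsOk 12)) ⟨0, by decide⟩).comp
        (Pi.evalMonoidHom (fun i => Fin (nsExp i) → Spec.Grp (nsOk i)) 12)
    haveI := hH
    haveI : Group.IsSolvable (Spec.Grp (nsOk 12)) :=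
      Group.isSolvable_of_surjective (f := f) fun y =>
        ⟨Pi.mulSingle 12 (Pi.mulSingle ⟨0, by decide⟩ y), by simp [f]⟩
    exact not_isSolvable27 this
  · refine card_orderOf_eq (pow_exp_pi _ _ _) (pow_exp_pi _ _ _) (fun m hm => ?_) n
    obtain ⟨j, rfl⟩ := mem_D84 m hm
    exact (tors_eq solSpec solOk solExp solVals solTors j).trans
      ((prods_eq j).trans (tors_eq nsSpec nsOk nsExp nsVals nsTors j).symm)

end Cfsg.Agent.S4376
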