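import Cfsg.Statements.S4377

set_option autoImplicit false
open Cfsg

namespace Cfsg.Agent.S4377

theorem sum_eq {X : Type*} [Group X] [Finite X] (n : ℕ) (hn : n ≠ 0) :
    Nat.card {g : X // g ^ n = 1} = ∑ d ∈ n.divisors, Nat.card {g : X // orderOf g = d} := by
  classical
  haveI := Fintype.ofFinite X
  have h := sum_card_orderOf_eq_card_pow_eq_one (G := X) hn
  simp only [Nat.card_eq_fintype_card, Fintype.card_subtype]
  rw [← h]

theorem card_zero {X : Type*} [Group X] [Finite X] :
    Nat.card {g : X // g ^ 0 = 1} = Nat.card X :=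
  Nat.card_congr (Equiv.subtypeUnivEquiv fun g => pow_zero g)

theorem card_pow_mul {X : Type*} [Group X] [Finite X] (n : ℕ) (hn : Nat.card X ∣ n) :
    Nat.card {g : X // g ^ n = 1} = Nat.card X :=
  Nat.card_congr (Equiv.subtypeUnivEquiv fun g =>
    orderOf_dvd_iff_pow_eq_one.1 ((orderOf_dvd_natCard g).trans hn))


/-- Two finite groups have the same number of elements of each order if and only if, for every n, they have the same number of elements g with gⁿ = 1. -/
theorem result {G H : Type*} [Group G] [Finite G] [Group H] [Finite H] :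
    (∀ n : ℕ, Nat.card {g : G // orderOf g = n} = Nat.card {h : H // orderOf h = n}) ↔
      ∀ n : ℕ, Nat.card {g : G // g ^ n = 1} = Nat.card {h : H // h ^ n = 1} := by
  constructor
  · intro h n
    have hpos : ∀ n, n ≠ 0 →
        Nat.card {g : G // g ^ n = 1} = Nat.card {x : H // x ^ n = 1} := fun n hn => by
      rw [sum_eq n hn, sum_eq n hn]
      exact Finset.sum_congr rfl fun d _ => h d
    rcases eq_or_ne n 0 with rfl | hn
    · rw [card_zero, card_zero]
      have h1 := hpos _ (Nat.mul_ne_zero (Nat.card_pos (α := G)).ne' (Nat.card_pos (α := H)).ne')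
      rwa [card_pow_mul (X := G) _ (dvd_mul_right _ _),
        card_pow_mul (X := H) _ (dvd_mul_left _ _)] at h1
    · exact hpos n hn
  · intro h n
    induction n using Nat.strong_induction_on with
    | _ n ih =>
      rcases eq_or_ne n 0 with rfl | hn
      · have e1 : IsEmpty {g : G // orderOf g = 0} := ⟨fun g => (orderOf_pos g.1).ne' g.2⟩
        have e2 : IsEmpty {g : H // orderOf g = 0} := ⟨fun g => (orderOf_pos g.1).ne' g.2⟩
        rw [Nat.card_of_isEmpty, Nat.card_of_isEmpty]
      have h1 := h n
      rw [sum_eq n hn, sum_eq n hn,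
        ← Finset.add_sum_erase _ _ (Nat.mem_divisors_self n hn),
        ← Finset.add_sum_erase _ _ (Nat.mem_divisors_self n hn)] at h1
      have h2 : ∑ d ∈ n.divisors.erase n, Nat.card {g : G // orderOf g = d} =
          ∑ d ∈ n.divisors.erase n, Nat.card {g : H // orderOf g = d} :=
        Finset.sum_congr rfl fun d hd => by
          obtain ⟨hdn, hd⟩ := Finset.mem_erase.1 hd
          exact ih d (lt_of_le_of_ne (Nat.divisor_le hd) hdn)
      omega

end Cfsg.Agent.S4377
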