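import Cfsg.Agent.Lib.Coprime.Sylow
import Cfsg.Agent.Lib.Coprime.PGroup
import Cfsg.Agent.Solvable.Basics
import Cfsg.Agent.S3775
import Cfsg.Statements.S4381
-- import your own Cfsg.Agent.* helpers here

set_option autoImplicit false
open Pointwise
open Cfsg

namespace Cfsg.Agent.S4381

open scoped Pointwise commutatorElement

variable {A G : Type*} [Group A] [Group G] [MulDistribMulAction A G]

/-- Invariant under the action. -/
abbrev Stable (A : Type*) {G : Type*} [Group A] [Group G] [MulDistribMulAction A G] (M : Subgroup G) : Prop :=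
  ∀ a : A, ∀ x ∈ M, a • x ∈ M

lemma stable_of_characteristic (M : Subgroup G) [hM : M.Characteristic] : Stable A M := fun a x hx => by
  rw [← hM.fixed (MulDistribMulAction.toMulEquiv G a)] at hx
  exact hx

lemma stable_sup {M N : Subgroup G} (hM : Stable A M) (hN : Stable A N) : Stable A (M ⊔ N) := by
  intro a
  have h : M ⊔ N ≤ (M ⊔ N).comap (MulDistribMulAction.toMonoidHom G a) :=
    sup_le (fun x hx => Subgroup.mem_sup_left (hM a x hx)) (fun x hx => Subgroup.mem_sup_right (hN a x hx))
  exact fun x hx => h hx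

variable [Finite G]

lemma eq_frattini (hirr : ∀ L : Subgroup G, frattini G < L → Stable A L → L = ⊤) {M : Subgroup G}
    (hne : M ≠ ⊤) (hinv : Stable A M) (hmax : ∀ L : Subgroup G, M < L → Stable A L → L = ⊤) :
    M = frattini G := by
  have hle : frattini G ≤ M := by
    by_contra h
    have htop := hmax _ (left_lt_sup.mpr h) (stable_sup hinv (stable_of_characteristic (frattini G)))
    exact hne (frattini_nongenerating htop)
  rcases hle.lt_or_eq with h | h
  · exact absurd (hirr M h hinv) hne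
  · exact h.symm

lemma exists_maximal_ge {P : Subgroup G} (hP : P ≠ ⊤) (hPinv : Stable A P) :
    ∃ M : Subgroup G, P ≤ M ∧ M ≠ ⊤ ∧ Stable A M ∧ ∀ L : Subgroup G, M < L → Stable A L → L = ⊤ := by
  obtain ⟨M, hPM, ⟨hne, hinv⟩, hmax⟩ := Set.Finite.exists_le_maximal
    (Set.toFinite {M : Subgroup G | M ≠ ⊤ ∧ Stable A M}) (a := P) ⟨hP, hPinv⟩
  refine ⟨M, hPM, hne, hinv, fun L hL hLinv => ?_⟩
  by_contra hne'
  exact hL.not_ge (hmax ⟨hne', hLinv⟩ hL.le)

variable [Finite A]

lemma exists_stable_sylow (hcop : (Nat.card A).Coprime (Nat.card G))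
    (hsol : Group.IsSolvable A ∨ Group.IsSolvable G) (p : ℕ) [Fact p.Prime] :
    ∃ P : Sylow p G, Stable A (P : Subgroup G) := by
  let φ : A →* MulAut G := MulDistribMulAction.toMulAut A G
  let i : G →* G ⋊[φ] A := SemidirectProduct.inl
  let j : A →* G ⋊[φ] A := SemidirectProduct.inr
  haveI : Finite (G ⋊[φ] A) := Finite.of_equiv _ SemidirectProduct.equivProd.symm
  let eG : G ≃* i.range := MonoidHom.ofInjective SemidirectProduct.inl_injective
  let eA : A ≃* j.range := MonoidHom.ofInjective SemidirectProduct.inr_injective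
  have hAK : j.range ≤ Subgroup.normalizer (i.range : Set (G ⋊[φ] A)) := by
    rw [Subgroup.le_normalizer_iff]
    rintro _ ⟨a, rfl⟩ _ ⟨g, rfl⟩
    exact ⟨φ a g, (SemidirectProduct.inl_aut a g).trans (by rw [map_inv])⟩
  obtain ⟨P, hP⟩ := Coprime.exists_invariant_sylow p hAK
    (by rwa [← Nat.card_congr eA.toEquiv, ← Nat.card_congr eG.toEquiv])
    (hsol.imp (fun (h : Group.IsSolvable A) => @Group.isSolvable_of_surjective A _ _ _ eA.toMonoidHom eA.surjective h)
      (fun (h : Group.IsSolvable G) => @Group.isSolvable_of_surjective G _ _ _ eG.toMonoidHom eG.surjective h))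
  refine ⟨P.comapOfInjective eG.toMonoidHom eG.injective (by simp [MonoidHom.range_eq_top.mpr eG.surjective]),
    fun a x hx => ?_⟩
  change eG x ∈ (P : Subgroup i.range) at hx
  change eG (a • x) ∈ (P : Subgroup i.range)
  have h := (Subgroup.le_normalizer_iff.mp hP) (j a) ⟨a, rfl⟩ (i x) ⟨eG x, hx, rfl⟩
  obtain ⟨y, hy, hye⟩ := h
  have : y = eG (a • x) := Subtype.ext (hye.trans (by
    show _ = i (φ a x)
    rw [show i (φ a x) = _ from SemidirectProduct.inl_aut a x, map_inv]))
  exact this ▸ hy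

lemma le_of_stable (p : ℕ) [Fact p.Prime] (hG : IsPGroup p G) (hcop : (Nat.card A).Coprime p)
    {L M : Subgroup G} (hL : frattini G ≤ L) (hLne : frattini G ≠ L) (hLinv : Stable A L)
    (huniq : ∀ N : Subgroup G, N ≠ ⊤ → Stable A N → N ≤ M) (hM : M ≠ ⊤) : L = ⊤ := by
  classical
  haveI := hG.isNilpotent
  by_contra hne
  let Q := G ⧸ frattini G
  let π : G →* Q := QuotientGroup.mk' (frattini G)
  have hπ : Function.Surjective π := QuotientGroup.mk'_surjective _
  letI : CommGroup Q :=
    { (inferInstance : Group Q) with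
      mul_comm := fun u v => by
        obtain ⟨x, rfl⟩ := hπ u
        obtain ⟨y, rfl⟩ := hπ v
        show π x * π y = π y * π x
        have h : π ⁅x, y⁆ = 1 := (QuotientGroup.eq_one_iff _).mpr (Coprime.commutator_le_frattini G
          (Subgroup.commutator_mem_commutator (Subgroup.mem_top x) (Subgroup.mem_top y)))
        rwa [map_commutatorElement, commutatorElement_eq_one_iff_mul_comm] at h }
  have hexp : ∀ q : Q, q ^ p = 1 := fun q => by
    obtain ⟨x, rfl⟩ := hπ q
    rw [← map_pow]
    exact (QuotientGroup.eq_one_iff _).mpr (Solvable.Basics.pow_mem_frattini hG x)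
  let act : A →* MulAut Q :=
    { toFun := fun a => QuotientGroup.congr (frattini G) (frattini G) (MulDistribMulAction.toMulEquiv G a)
        ((Subgroup.characteristic_iff_map_eq.1 frattini_characteristic) _)
      map_one' := MulEquiv.ext fun q => by
        obtain ⟨x, rfl⟩ := hπ q
        exact congrArg π (one_smul A x)
      map_mul' := fun a b => MulEquiv.ext fun q => by
        obtain ⟨x, rfl⟩ := hπ q
        exact congrArg π (mul_smul a b x) }
  have hact : ∀ a x, act a (π x) = π (a • x) := fun a x => rfl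
  set C := L.map π with hCdef
  have hC : ∀ x ∈ act.range, ∀ c ∈ C, x c ∈ C := by
    rintro _ ⟨a, rfl⟩ _ ⟨l, hl, rfl⟩
    exact ⟨a • l, hLinv a l hl, (hact a l).symm⟩
  have hQp : IsPGroup p Q := fun q => ⟨1, by rw [pow_one]; exact hexp q⟩
  let πD := QuotientGroup.mk' C
  obtain ⟨s, hs⟩ := S3775.exists_section (hQp.to_quotient C) πD (QuotientGroup.mk'_surjective _) 1
    (fun a => by rw [pow_one]; exact hexp a) (fun q k hk hq => by
      rcases Nat.le_one_iff_eq_zero_or_eq_one.mp hk with rfl | rfl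
      · refine ⟨1, ?_⟩
        rw [pow_zero, pow_one] at hq
        rw [hq, one_pow]
      · exact ⟨q, by simp⟩)
  let f : Q →* Q := MonoidHom.id Q / s.comp πD
  obtain ⟨B, hB, hBC, hBtop⟩ := S3775.exists_invariant_complement hQp act.range
    (hcop.coprime_dvd_left (Subgroup.card_range_dvd act)) C hC f
    (fun a => by
      show a / s (πD a) ∈ C
      rw [← QuotientGroup.eq_one_iff]
      show πD (a / s (πD a)) = 1
      rw [map_div, show πD (s (πD a)) = πD a from DFunLike.congr_fun hs _, div_self'])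
    (fun c hc => by
      show c / s (πD c) = c
      rw [show πD c = 1 from (QuotientGroup.eq_one_iff c).mpr hc, map_one, div_one])
  have hsup : B.comap π ⊔ L = ⊤ := by
    have h := congrArg (Subgroup.comap π) hBtop
    rw [Subgroup.comap_top, ← Subgroup.comap_sup_eq π B C hπ, hCdef, Subgroup.comap_map_eq,
      QuotientGroup.ker_mk'] at h
    rwa [sup_eq_left.mpr hL] at h
  have hBne : B.comap π ≠ ⊤ := by
    intro h
    have hBt : B = ⊤ := by
      rw [← Subgroup.map_comap_eq_self_of_surjective hπ B, h, Subgroup.map_top_of_surjective π hπ]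
    rw [hBt, top_inf_eq] at hBC
    exact hLne (le_antisymm hL fun l hl => (QuotientGroup.eq_one_iff l).mp
      (Subgroup.mem_bot.mp (hBC ▸ Subgroup.mem_map_of_mem π hl)))
  have hBinv : Stable A (B.comap π) := fun a x hx => by
    show π (a • x) ∈ B
    rw [← hact]
    exact hB _ ⟨a, rfl⟩ _ hx
  exact hM (top_le_iff.mp (hsup ▸ sup_le (huniq _ hBne hBinv) (huniq _ hne hLinv)))


/-- Let the finite group A act by automorphisms on the finite group G with the orders of A and G coprime, and assume that A or G is solvable. Call a proper A-invariant subgroup of G maximal A-invariant when no A-invariant subgroup lies strictly between it and G. Then all maximal A-invariant subgroups of G are conjugate under elements of the fixed-point subgroup C_G(A) if and only if G is a p-group for some prime p and A leaves invariant no subgroup strictly between the Frattini subgroup of G and G. In that case, if G is nontrivial, the Frattini subgroup is the only maximal A-invariant subgroup (a trivial G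 has none). -/
theorem result {A G : Type*} [Group A] [Finite A]
    [Group G] [Finite G] [MulDistribMulAction A G] (hcop : (Nat.card A).Coprime (Nat.card G)) (hsol : Group.IsSolvable A ∨ Group.IsSolvable G) :
    ((∀ M N : Subgroup G, (M ≠ ⊤ ∧ (∀ a : A, ∀ x ∈ M, a • x ∈ M) ∧ ∀ L : Subgroup G, M < L → (∀ a : A, ∀ x ∈ L, a • x ∈ L) → L = ⊤) → (N ≠ ⊤ ∧ (∀ a : A, ∀ x ∈ N, a • x ∈ N) ∧ ∀ L : Subgroup G, N < L → (∀ a : A, ∀ x ∈ L, a • x ∈ L) → L = ⊤) →
        ∃ c : G, (∀ a : A, a • c = c) ∧ N = MulAut.conj c • M) ↔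
      ((∃ p : ℕ, p.Prime ∧ IsPGroup p G) ∧ ∀ L : Subgroup G, frattini G < L → (∀ a : A, ∀ x ∈ L, a • x ∈ L) → L = ⊤)) ∧
    (((∃ p : ℕ, p.Prime ∧ IsPGroup p G) ∧ ∀ L : Subgroup G, frattini G < L → (∀ a : A, ∀ x ∈ L, a • x ∈ L) → L = ⊤) →
      ∀ M : Subgroup G, (M ≠ ⊤ ∧ (∀ a : A, ∀ x ∈ M, a • x ∈ M) ∧ ∀ L : Subgroup G, M < L → (∀ a : A, ∀ x ∈ L, a • x ∈ L) → L = ⊤) ↔ (M = frattini G ∧ M ≠ ⊤)) := by
  refine ⟨⟨fun hconj => ?_, fun hR M N hM hN => ⟨1, fun a => smul_one a, ?_⟩⟩, fun hR M => ⟨fun hM => ?_, fun hM => ?_⟩⟩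
  swap
  · rw [map_one, one_smul, eq_frattini hR.2 hM.1 hM.2.1 hM.2.2, eq_frattini hR.2 hN.1 hN.2.1 hN.2.2]
  swap
  · exact ⟨eq_frattini hR.2 hM.1 hM.2.1 hM.2.2, hM.1⟩
  swap
  · obtain ⟨rfl, hne⟩ := hM
    exact ⟨hne, stable_of_characteristic _, hR.2⟩
  rcases subsingleton_or_nontrivial G with hG | hG
  · exact ⟨⟨2, Nat.prime_two, fun g => ⟨0, Subsingleton.elim _ _⟩⟩, fun L _ _ => Subsingleton.elim _ _⟩
  have hp : ∃ p : ℕ, p.Prime ∧ IsPGroup p G := by
    by_contra hnot
    obtain ⟨M₁, -, hM₁⟩ := exists_maximal_ge (A := A) (P := (⊥ : Subgroup G)) bot_ne_top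
      (fun a x hx => by rw [Subgroup.mem_bot.mp hx, smul_one]; exact one_mem _)
    have hdvd : Nat.card G ∣ Nat.card M₁ := by
      refine (Nat.factorization_prime_le_iff_dvd Nat.card_pos.ne' Nat.card_pos.ne').mp fun q hq => ?_
      haveI := Fact.mk hq
      obtain ⟨P, hP⟩ := exists_stable_sylow hcop hsol q
      have hPne : (P : Subgroup G) ≠ ⊤ := fun h => hnot ⟨q, hq, IsPGroup.of_equiv P.2
        ((MulEquiv.subgroupCongr h).trans (Subgroup.topEquiv (G := G)))⟩
      obtain ⟨M, hPM, hM⟩ := exists_maximal_ge hPne hP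
      obtain ⟨c, -, rfl⟩ := hconj M₁ M hM₁ hM
      have hle := Subgroup.card_dvd_of_le hPM
      rw [P.card_eq_multiplicity, Coprime.card_conj_smul] at hle
      exact (hq.pow_dvd_iff_le_factorization Nat.card_pos.ne').mp hle
    exact hM₁.1 (Subgroup.eq_top_of_le_card M₁ (Nat.le_of_dvd Nat.card_pos hdvd))
  obtain ⟨p, hpp, hG'⟩ := hp
  haveI := Fact.mk hpp
  refine ⟨⟨p, hpp, hG'⟩, fun L hL hLinv => ?_⟩
  have hcp : (Nat.card A).Coprime p := by
    obtain ⟨n, hn⟩ := IsPGroup.iff_card.mp hG'
    have hn0 : n ≠ 0 := by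
      rintro rfl
      rw [pow_zero] at hn
      exact (Finite.one_lt_card (α := G)).ne' hn
    exact hcop.coprime_dvd_right (hn ▸ dvd_pow_self p hn0)
  obtain ⟨M, -, hM⟩ := exists_maximal_ge (A := A) (P := (⊥ : Subgroup G)) bot_ne_top
    (fun a x hx => by rw [Subgroup.mem_bot.mp hx, smul_one]; exact one_mem _)
  haveI := hG'.isNilpotent
  have hMn : M.Normal := by
    refine ⟨fun y hy g => ?_⟩
    rw [show g * y * g⁻¹ = ⁅g, y⁆ * y by rw [commutatorElement_def]; group]
    refine mul_mem ((?_ : frattini G ≤ M) (Coprime.commutator_le_frattini G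
      (Subgroup.commutator_mem_commutator (Subgroup.mem_top g) (Subgroup.mem_top y)))) hy
    by_contra h
    exact hM.1 (frattini_nongenerating (hM.2.2 _ (left_lt_sup.mpr h)
      (stable_sup hM.2.1 (stable_of_characteristic (frattini G)))))
  refine le_of_stable p hG' hcp hL.le hL.ne hLinv (fun N hN hNinv => ?_) hM.1
  obtain ⟨N', hle, hN'⟩ := exists_maximal_ge hN hNinv
  obtain ⟨c, -, rfl⟩ := hconj M N' hM hN'
  exact hle.trans (le_of_eq (Subgroup.Normal.conjAct hMn c))

end Cfsg.Agent.S4381
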