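import Cfsg.Statements.S4385
import Cfsg.Agent.LocalFlavell.DihedralChain.Recognise

set_option autoImplicit false
open Pointwise
open Cfsg

namespace Cfsg.Agent.S4385

/-- Let H be a subgroup of a finite group G whose largest normal 2-subgroup O_2(H) is nontrivial and such that H/O_2(H) is a dihedral group of order at least 4. Let P be a Sylow 2-subgroup of H and S a Sylow 2-subgroup of G containing P. Suppose y ∈ S lies outside P, normalizes P, has y² in the product of P with the centralizer of P in G, and normalizes no non-identity normal subgroup of H contained in P. Then P has order 4, 8 or 16, and H modulo its largest normal subgroup of odd order is isomorphic to the four-group, to the symmetric group of degree 4, or to the direct product of the symmetric group of degree 4 with a group of order 2. -/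
theorem result {G : Type*} [Group G] [Finite G]
    (H : Subgroup G) (hO : Cfsg.pCore 2 ↥H ≠ ⊥) (n : ℕ) (hn : 2 ≤ n) (hdih : Nonempty (↥H ⧸ Cfsg.pCore 2 ↥H ≃* DihedralGroup n))
    (P : Subgroup G) (hPH : P ≤ H) (hP : IsPGroup 2 P) (hPsyl : ¬ 2 ∣ P.relIndex H)
    (S : Sylow 2 G) (hPS : P ≤ (S : Subgroup G)) (y : G) (hyS : y ∈ (S : Subgroup G)) (hyP : y ∉ P)
    (hy2 : y ^ 2 ∈ P ⊔ Subgroup.centralizer (P : Set G)) (hyN : MulAut.conj y • P = P)
    (hyQ : ∀ Q : Subgroup G, Q ≤ P → (Q.subgroupOf H).Normal → MulAut.conj y • Q = Q → Q = ⊥) :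
    (Nat.card P = 4 ∨ Nat.card P = 8 ∨ Nat.card P = 16) ∧
    (Nonempty (↥H ⧸ Cfsg.oddCore ↥H ≃* Multiplicative (ZMod 2) × Multiplicative (ZMod 2)) ∨
     Nonempty (↥H ⧸ Cfsg.oddCore ↥H ≃* Equiv.Perm (Fin 4)) ∨
     Nonempty (↥H ⧸ Cfsg.oddCore ↥H ≃* Equiv.Perm (Fin 4) × Multiplicative (ZMod 2))) := by
  obtain ⟨D, hDH, hDP⟩ := LocalFlavell.DihedralChain.exists_data H hO n hn hdih P hPH hP hPsyl y hy2
    ((Coprime.conj_smul_eq_map y P).symm.trans hyN)
    (fun Q hQ hQn hQy => hyQ Q hQ hQn ((Coprime.conj_smul_eq_map y Q).trans hQy))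
  subst hDH hDP
  let R := D.R.subgroupOf D.H
  haveI hRn : R.Normal :=
    (Subgroup.normal_subgroupOf_iff_le_normalizer (D.hRP.trans D.hPH)).mpr D.RN
  let c : D.H := ⟨D.c, D.hcH⟩
  have hc : orderOf c = D.n := (Subgroup.orderOf_mk D.c D.hcH).trans D.ordc
  have hodd : Odd D.n := D.ordc ▸ D.codd
  have hcx : ∀ (x : G) (hx : x ∈ D.P), x ∉ D.R →
      c * ((⟨x, D.hPH hx⟩ : D.H) * c * (⟨x, D.hPH hx⟩ : D.H)⁻¹) ∈ R := fun x hx hxR => D.refl x hx hxR
  have gen : ∀ (x : G) (hx : x ∈ D.P), x ∉ D.R → ∀ K : Subgroup D.H, R ≤ K →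
      (⟨x, D.hPH hx⟩ : D.H) ∈ K → c ∈ K → K = ⊤ := fun x hx hxR K hR hxK hcK => by
    have hP' : ∀ v ∈ D.P, v ∈ K.map D.H.subtype := fun v hv => by
      by_cases hvR : v ∈ D.R
      · exact ⟨⟨v, D.hPH hv⟩, hR hvR, rfl⟩
      · have h := LocalFlavell.DihedralChain.mul_mem_of_two D.hRP D.two hv (inv_mem hx) hvR
          (fun h => hxR (inv_mem_iff.mp h))
        exact ⟨⟨v, D.hPH hv⟩, (K.mul_mem_cancel_right (inv_mem hxK)).mp
          (hR (h : (⟨v, D.hPH hv⟩ : D.H) * (⟨x, D.hPH hx⟩ : D.H)⁻¹ ∈ R)), rfl⟩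
    refine eq_top_iff.mpr fun g _ => ?_
    have hle : D.P ⊔ D.P.map (MulAut.conj D.c).toMonoidHom ≤ K.map D.H.subtype := by
      refine sup_le hP' ?_
      rintro _ ⟨v, hv, rfl⟩
      obtain ⟨v', hv', rfl⟩ := hP' v hv
      exact ⟨c * v' * c⁻¹, mul_mem (mul_mem hcK hv') (inv_mem hcK), rfl⟩
    obtain ⟨g', hg', e⟩ := hle (D.gen g.2)
    rwa [← Subtype.ext e]
  have rot : ∀ g : D.H, Odd (orderOf g) → ∃ i : ℕ, ∃ r ∈ R, g = r * c ^ i := fun g hg => by
    obtain ⟨i, r, hr, e⟩ := D.rot g g.2 (by rwa [Subgroup.orderOf_coe])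
    exact ⟨i, ⟨r, D.hPH (D.hRP hr)⟩, hr, Subtype.ext e⟩
  rcases D.cases with ⟨hR2, hexp, hcent⟩ | ⟨x, w, u, F, S⟩
  · obtain ⟨x, hx, hxR⟩ : ∃ x ∈ D.P, x ∉ D.R := by
      by_contra h
      push Not at h
      have := Subgroup.card_le_of_le (show D.P ≤ D.R from h)
      have := D.two
      omega
    refine ⟨Or.inl (by rw [D.two, hR2]), Or.inl ?_⟩
    exact LocalFlavell.DihedralChain.recognise_klein (R := R) (x := ⟨x, D.hPH hx⟩) hc hodd
      (by rw [D.cardH, hR2]; ring)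
      ((Nat.card_congr (Subgroup.subgroupOfEquivOfLe (D.hRP.trans D.hPH)).toEquiv).trans hR2)
      hxR (Subtype.ext (hexp x hx)) (fun r hr g => Subtype.ext (hcent r hr g g.2)) (hcx x hx hxR)
      (gen x hx hxR) rot
  have hFH : F ≤ D.H := S.hFR.trans (D.hRP.trans D.hPH)
  have hcF : Nat.card (F.subgroupOf D.H) = Nat.card F :=
    Nat.card_congr (Subgroup.subgroupOfEquivOfLe hFH).toEquiv
  have hwH : w ∈ D.H := D.hPH (D.hRP S.hw)
  have huH : u ∈ D.H := D.hPH (D.hRP S.hu)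
  obtain ⟨e⟩ := LocalFlavell.DihedralChain.recognise (R := R) (F := F.subgroupOf D.H) (c := c)
    (x := ⟨x, D.hPH S.hx⟩) (w := ⟨w, hwH⟩) (u := ⟨u, huH⟩) hc hodd
    (by rw [hcF, D.cardH, S.cardR]; ring) (Subtype.ext S.xsq) S.hw S.hu (Subtype.ext S.wsq)
    (Subtype.ext S.usq) (Subtype.ext S.wu.eq) (Subtype.ext S.xw.eq) (Subtype.ext S.xu) (Subtype.ext S.cw)
    (Subtype.ext S.cu) (fun h => S.ne (congrArg Subtype.val h)) (hcF.le.trans S.cardF)
    (fun f hf => S.hFR hf) (fun f hf => Subgroup.mem_center_iff.mpr fun g =>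
      Subtype.ext (S.hF f hf g g.2).eq.symm)
    (fun r hr => by
      obtain ⟨a, ha, f, hf, e⟩ := S.cover r hr
      have hcl : Subgroup.closure {w, u} ≤ (Subgroup.closure
          ({⟨w, hwH⟩, ⟨u, huH⟩} : Set D.H)).map D.H.subtype := by
        rw [MonoidHom.map_closure, Set.image_insert_eq, Set.image_singleton]
        rfl
      obtain ⟨a', ha', rfl⟩ := hcl ha
      exact ⟨a', ha', ⟨f, hFH hf⟩, hf, Subtype.ext e⟩)
    (hcx x S.hx S.hxR) (gen x S.hx S.hxR) rot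
  rcases (show Nat.card F = 1 ∨ Nat.card F = 2 by
    have := Nat.card_pos (α := F); have := S.cardF; omega) with hF1 | hF2
  · refine ⟨Or.inr (Or.inl (by rw [D.two, S.cardR, hF1])), Or.inr (Or.inl ?_)⟩
    haveI : Subsingleton (F.subgroupOf D.H) := (Nat.card_eq_one_iff_unique.mp (hcF.trans hF1)).1
    haveI : Unique (F.subgroupOf D.H) := uniqueOfSubsingleton 1
    exact ⟨e.trans MulEquiv.prodUnique⟩
  · refine ⟨Or.inr (Or.inr (by rw [D.two, S.cardR, hF2])), Or.inr (Or.inr ?_)⟩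
    haveI : Fact (Nat.Prime 2) := ⟨Nat.prime_two⟩
    exact ⟨e.trans (MulEquiv.prodCongr (MulEquiv.refl _)
      (mulEquivOfPrimeCardEq (p := 2) (hcF.trans hF2) (by simp)))⟩

end Cfsg.Agent.S4385
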