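import Cfsg.Statements.S4387

set_option autoImplicit false
open Pointwise
open Cfsg
open scoped Pointwise

namespace Cfsg.Agent.S4387

open Subgroup in
theorem top_of_conj_cover {G : Type*} [Group G] [Finite G] (M : Subgroup G)
    (h : ∀ x : G, ∃ g : G, g⁻¹ * x * g ∈ M) : M = ⊤ := by
  classical
  by_contra hM
  have hi : 1 < M.index := by
    have h0 : M.index ≠ 0 := FiniteIndex.index_ne_zero
    have h1 : M.index ≠ 1 := fun h => hM (index_eq_one.1 h)
    omega
  let f : (G ⧸ M) × {m : M // m ≠ 1} → {x : G // x ≠ 1} := fun a =>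
    ⟨a.1.out * (a.2.1 : G) * a.1.out⁻¹, fun hc => a.2.2 (Subtype.ext (by
      have := congrArg (fun t => a.1.out⁻¹ * t * a.1.out) hc
      simpa [mul_assoc] using this))⟩
  have hf : Function.Surjective f := by
    rintro ⟨x, hx⟩
    obtain ⟨g, hg⟩ := h x
    obtain ⟨m, hm⟩ : ∃ m : M, (QuotientGroup.mk g : G ⧸ M).out = g * (m : G) :=
      QuotientGroup.mk_out_eq_mul M g
    refine ⟨⟨QuotientGroup.mk g, ⟨⟨(m : G)⁻¹ * (g⁻¹ * x * g) * m,
      M.mul_mem (M.mul_mem (M.inv_mem m.2) hg) m.2⟩, fun hc => hx ?_⟩⟩, Subtype.ext ?_⟩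
    · have h1 := congrArg (fun t : M => g * (m : G) * (t : G) * (m : G)⁻¹ * g⁻¹) hc
      simpa [mul_assoc] using h1
    · simp only [f, hm]; group
  have hcard := Nat.card_le_card_of_surjective f hf
  rw [Nat.card_prod] at hcard
  have e1 : Nat.card {m : M // m ≠ 1} + 1 = Nat.card M := by
    rw [← Finite.card_option]
    exact Nat.card_congr (Equiv.optionSubtypeNe (1 : M))
  have e2 : Nat.card {x : G // x ≠ 1} + 1 = Nat.card G := by
    rw [← Finite.card_option]
    exact Nat.card_congr (Equiv.optionSubtypeNe (1 : G))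
  rw [← index_eq_card] at hcard
  have e3 := M.card_mul_index
  nlinarith


/-- Let G be a non-trivial finite group in which any two maximal subgroups are conjugate. Then G is cyclic of prime-power order. -/
theorem result {G : Type*} [Group G] [Finite G] [Nontrivial G]
    (h : ∀ M N : Subgroup G, IsCoatom M → IsCoatom N → ∃ g : G, N = MulAut.conj g • M) :
    IsCyclic G ∧ IsPrimePow (Nat.card G) := by
  obtain ⟨M₀, hM₀⟩ : ∃ M : Subgroup G, IsCoatom M := by
    rcases eq_top_or_exists_le_coatom (⊥ : Subgroup G) with h' | ⟨M, hM, -⟩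
    · exact absurd h' bot_ne_top
    · exact ⟨M, hM⟩
  obtain ⟨g, hg⟩ : ∃ g : G, Subgroup.zpowers g = ⊤ := by
    by_contra hno
    push Not at hno
    refine hM₀.1 (top_of_conj_cover M₀ fun x => ?_)
    obtain ⟨N, hN, hxN⟩ := (eq_top_or_exists_le_coatom (Subgroup.zpowers x)).resolve_left (hno x)
    obtain ⟨c, hc⟩ := h M₀ N hM₀ hN
    refine ⟨c, ?_⟩
    have := hxN (Subgroup.mem_zpowers x)
    rw [hc, Subgroup.mem_pointwise_smul_iff_inv_smul_mem, MulAut.smul_def,
      MulAut.conj_inv_apply] at this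
    exact this
  have hcyc : IsCyclic G := isCyclic_iff_exists_zpowers_eq_top.2 ⟨g, hg⟩
  refine ⟨hcyc, ?_⟩
  have hn1 : Nat.card G ≠ 1 := (Finite.one_lt_card).ne'
  rw [isPrimePow_iff_unique_prime_dvd]
  obtain ⟨p, hp, hpd⟩ := Nat.exists_prime_and_dvd hn1
  refine ⟨p, ⟨hp, hpd⟩, fun q hq => ?_⟩
  by_contra hqp
  have hsub : ∀ r, r.Prime → r ∣ Nat.card G → g ^ r ∈ M₀ := by
    intro r hr hrd
    have hne : Subgroup.zpowers (g ^ r) ≠ ⊤ := by
      intro htop
      have h1 := Nat.card_zpowers (g ^ r)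
      rw [htop, Subgroup.card_top] at h1
      have hg' : orderOf g = Nat.card G := by
        rw [← Nat.card_zpowers, hg, Subgroup.card_top]
      rw [orderOf_pow_of_dvd hr.ne_zero (hg' ▸ hrd), hg'] at h1
      exact absurd h1 (Nat.div_lt_self Nat.card_pos hr.one_lt).ne'
    obtain ⟨N, hN, hgN⟩ := (eq_top_or_exists_le_coatom _).resolve_left hne
    obtain ⟨c, rfl⟩ := h M₀ N hM₀ hN
    have := hgN (Subgroup.mem_zpowers _)
    rw [Subgroup.mem_pointwise_smul_iff_inv_smul_mem, MulAut.smul_def, MulAut.conj_inv_apply]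
      at this
    have hc : c ∈ Subgroup.zpowers g := hg ▸ Subgroup.mem_top c
    obtain ⟨i, rfl⟩ := hc
    have he : (g ^ i)⁻¹ * g ^ r * g ^ i = g ^ r := by group
    rwa [he] at this
  refine hM₀.1 (top_le_iff.1 (hg ▸ Subgroup.zpowers_le.2 ?_))
  have h1 := hsub p hp hpd
  have h2 := hsub q hq.1 hq.2
  have hco : Nat.gcd p q = 1 := (Nat.coprime_primes hp hq.1).2 (fun e => hqp e.symm)
  have he : g = (g ^ p) ^ (Nat.gcdA p q) * (g ^ q) ^ (Nat.gcdB p q) := by
    rw [← zpow_natCast g p, ← zpow_natCast g q, ← zpow_mul, ← zpow_mul, ← zpow_add,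
      ← Nat.gcd_eq_gcd_ab, hco, Nat.cast_one, zpow_one]
  rw [he]
  exact M₀.mul_mem (M₀.zpow_mem h1 _) (M₀.zpow_mem h2 _)

end Cfsg.Agent.S4387
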