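import Cfsg.Statements.S4399
import Mathlib
import Cfsg.Agent.InvChar.Taussky
import Cfsg.Agent.Lib.Classical.CyclicExt

set_option linter.all false

set_option autoImplicit false
open Cfsg

namespace Cfsg.Agent.S4399

/-- Let S be a finite 2-group whose commutator quotient S/[S,S] is a Klein four-group (order 4 and exponent 2). Then S itself has order 4, or S is dihedral of order at least 8, semidihedral of order at least 16 (order 2^(k+4) with an element a of order 2^(k+3) and an involution b with b a b⁻¹ = a^(2^(k+2)−1)), or generalized quaternion of order at least 8. -/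
theorem result {S : Type*} [Group S] [Finite S] (h2 : IsPGroup 2 S) (hab : Nat.card (Abelianization S) = 4)
    (hexp : ∀ x : Abelianization S, x ^ 2 = 1) :
    Nat.card S = 4 ∨
    ((∃ k : ℕ, Nonempty (S ≃* DihedralGroup (2 ^ (k + 2)))) ∨
      (∃ k : ℕ, Nat.card S = 2 ^ (k + 4) ∧ ∃ a b : S, orderOf a = 2 ^ (k + 3) ∧ orderOf b = 2 ∧ b * a * b⁻¹ = a ^ (2 ^ (k + 2) - 1)) ∨
      (∃ k : ℕ, Nonempty (S ≃* QuaternionGroup (2 ^ (k + 1))))) := by
  have hidx : (commutator S).index = 4 := hab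
  have hsq : ∀ x : S, x ^ 2 ∈ commutator S := fun x =>
    (QuotientGroup.eq_one_iff (x ^ 2)).1 (hexp (Abelianization.of x))
  rcases Cfsg.Agent.InvChar.Taussky.structure_cases h2 hidx hsq with h | ⟨m, a, y, ha, hcard, hy, h⟩
  · exact Or.inl h
  right
  rcases h with ⟨hc, hy2⟩ | ⟨hc, hy2⟩ | ⟨hm, hc, hy2⟩
  · left
    obtain ⟨f, hf, -, -⟩ := Cfsg.Agent.Classical.CyclicExt.exists_dihedral_hom a y ha hy2 hc hy
    refine ⟨m, ⟨(MulEquiv.ofBijective f ((Nat.bijective_iff_injective_and_card f).2 ⟨hf, ?_⟩)).symm⟩⟩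
    rw [DihedralGroup.nat_card, hcard]; ring
  · right; right
    obtain ⟨f, hf⟩ := Cfsg.Agent.Classical.CyclicExt.exists_quaternion_hom (n := 2 ^ (m + 1)) a y
      (by rw [ha]; ring) hy2 hc hy
    haveI : NeZero (2 ^ (m + 1)) := ⟨by positivity⟩
    refine ⟨m, ⟨(MulEquiv.ofBijective f ((Nat.bijective_iff_injective_and_card f).2 ⟨hf, ?_⟩)).symm⟩⟩
    rw [Nat.card_eq_fintype_card, QuaternionGroup.card, hcard]; ring
  · right; left
    obtain ⟨k, rfl⟩ := Nat.exists_eq_add_of_le hm
    refine ⟨k, by rw [hcard]; ring, a, y, by rw [ha]; ring, ?_, ?_⟩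
    · refine orderOf_eq_prime (by rw [pow_two]; exact hy2) fun e => hy ?_
      rw [e]; exact one_mem _
    · rw [hc, show 1 + k + 1 = k + 2 by omega]

end Cfsg.Agent.S4399
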