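import Cfsg.Statements.S4400
import Cfsg.Agent.GenA.SectionalRankFour

set_option autoImplicit false
open Cfsg

namespace Cfsg.Agent.S4400

/-- Let S be a finite 2-group of sectional 2-rank at most 4, and let P and Q be normal non-abelian subgroups of S whose centres have order 2 and are different. Then P and Q commute elementwise and intersect trivially, and PQ contains its own centralizer in S. -/
theorem result {S : Type*} [Group S] [Finite S] (h2 : IsPGroup 2 S) (hr : Cfsg.SectionalPRankLE 2 4 S)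
    (P Q : Subgroup S) [P.Normal] [Q.Normal] (hP : ¬ IsMulCommutative ↥P) (hQ : ¬ IsMulCommutative ↥Q)
    (hZP : Nat.card ↥(Subgroup.center ↥P) = 2) (hZQ : Nat.card ↥(Subgroup.center ↥Q) = 2)
    (hne : (Subgroup.center ↥P).map P.subtype ≠ (Subgroup.center ↥Q).map Q.subtype) :
    ⁅P, Q⁆ = ⊥ ∧ P ⊓ Q = ⊥ ∧ Subgroup.centralizer ((P ⊔ Q : Subgroup S) : Set S) ≤ P ⊔ Q := by
  haveI : Fact (Nat.Prime 2) := ⟨Nat.prime_two⟩
  rw [Cfsg.Agent.GenA.SectionalRankFour.map_center, Cfsg.Agent.GenA.SectionalRankFour.map_center] at hne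
  have hnP : (⊤ : Subgroup S) ≤ Subgroup.normalizer (P : Set S) := by rw [Subgroup.normalizer_eq_top]
  have hnQ : (⊤ : Subgroup S) ≤ Subgroup.normalizer (Q : Set S) := by rw [Subgroup.normalizer_eq_top]
  refine ⟨?_, Cfsg.Agent.GenA.SectionalRankFour.inf_eq_bot h2 le_top le_top hnP hnQ hP hQ hZP hZQ hne,
    le_trans (le_inf le_top le_rfl)
      (Cfsg.Agent.GenA.SectionalRankFour.centralizer_le h2 le_top le_top hnP hnQ hP hQ hZP hZQ hne hr)⟩
  rw [Subgroup.commutator_eq_bot_iff_le_centralizer]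
  intro p hp q hq
  exact (Cfsg.Agent.GenA.SectionalRankFour.commute_elt h2 le_top le_top hnP hnQ hP hQ hZP hZQ hne hp hq).eq.symm

end Cfsg.Agent.S4400
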