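import Cfsg.Statements.S4402
import Cfsg.Agent.Lib.PGroups.WreathD8.Quotient

set_option autoImplicit false
open Cfsg

namespace Cfsg.Agent.S4402

/-- Let S be a finite 2-group of sectional 2-rank at most 4 and P a proper subgroup isomorphic to the wreath product of the dihedral group of order 8 by a group of order 2 (equivalently, to a Sylow 2-subgroup of the symmetric group of degree 8; order 128). Then Z(S) = Z(P) has order 2, P has index 2 in its normalizer N_S(P), N_S(P)/Z(S) is again isomorphic to that wreath product, and every elementary abelian subgroup V of order 16 that is normal in P satisfies N_S(V) = P. -/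
theorem result {S : Type*} [Group S] [Finite S] (h2 : IsPGroup 2 S) (hr : Cfsg.SectionalPRankLE 2 4 S)
    (P : Subgroup S) (hPlt : P ≠ ⊤) (hP : ∃ T : Sylow 2 (Equiv.Perm (Fin 8)), Nonempty (↥P ≃* ↥(T : Subgroup (Equiv.Perm (Fin 8))))) :
    Subgroup.center S = (Subgroup.center ↥P).map P.subtype ∧ Nat.card ↥(Subgroup.center S) = 2 ∧
    P.relIndex (Subgroup.normalizer (P : Set S)) = 2 ∧
    (∃ (_ : ((Subgroup.center S).subgroupOf (Subgroup.normalizer (P : Set S))).Normal) (T : Sylow 2 (Equiv.Perm (Fin 8))),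
      Nonempty (↥(Subgroup.normalizer (P : Set S)) ⧸ (Subgroup.center S).subgroupOf (Subgroup.normalizer (P : Set S)) ≃*
        ↥(T : Subgroup (Equiv.Perm (Fin 8))))) ∧
    ∀ V : Subgroup S, V ≤ P → (∀ g ∈ P, ∀ v ∈ V, g * v * g⁻¹ ∈ V) → Cfsg.IsElementaryAbelian 2 V → Nat.card ↥V = 16 →
      Subgroup.normalizer (V : Set S) = P := by
  obtain ⟨T, ⟨e⟩⟩ := hP
  obtain ⟨d⟩ := PGroups.WreathD8.exists_sylow_equiv T
  set ψ : PGroups.WreathD8.Wr →* S := P.subtype.comp (d.trans e.symm).toMonoidHom with hψdef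
  have hψ : Function.Injective ψ := P.subtype_injective.comp (d.trans e.symm).injective
  have hrange : ψ.range = P := by
    rw [hψdef, MonoidHom.range_comp, MonoidHom.range_eq_top.2 (d.trans e.symm).surjective,
      ← MonoidHom.range_eq_map, Subgroup.range_subtype]
  clear_value ψ
  clear hψdef e
  subst hrange
  have hcen := PGroups.WreathD8.center_eq_zpowers h2 hr hψ
  have hzo : orderOf (ψ PGroups.WreathD8.Wr.z) = 2 :=
    orderOf_eq_prime (by rw [pow_two, ← map_mul, PGroups.WreathD8.Wr.z_ne.2, map_one])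
      fun h => PGroups.WreathD8.Wr.z_ne.1 (hψ (h.trans (map_one ψ).symm))
  refine ⟨?_, by rw [hcen, Nat.card_zpowers, hzo],
    PGroups.WreathD8.relIndex_normalizer h2 hr hψ hPlt, ⟨inferInstance, T, ?_⟩, ?_⟩
  · ext x
    rw [hcen]
    constructor
    · intro hx
      refine ⟨⟨x, Subgroup.zpowers_le.2 (MonoidHom.mem_range.2 ⟨_, rfl⟩) hx⟩,
        Subgroup.mem_center_iff.2 fun v => Subtype.ext ?_, rfl⟩
      rw [← hcen] at hx
      exact Subgroup.mem_center_iff.1 hx v
    · rintro ⟨⟨_, u, rfl⟩, hu, rfl⟩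
      have hc : ∀ v, v * u = u * v := fun v => hψ (by
        rw [map_mul, map_mul]
        exact congrArg Subtype.val (Subgroup.mem_center_iff.1 hu ⟨ψ v, v, rfl⟩))
      rcases PGroups.WreathD8.Wr.center_eq u (hc _) (hc _) (hc _) with h | h
      · subst h
        exact (map_one ψ).symm ▸ one_mem _
      · subst h
        exact Subgroup.mem_zpowers _
  · obtain ⟨f⟩ := PGroups.WreathD8.quotient_equiv h2 hr hψ hPlt
    exact ⟨f.trans d⟩
  · intro V hV hn hel h16
    have hmap : (V.comap ψ).map ψ = V := Subgroup.map_comap_eq_self hV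
    rcases PGroups.WreathD8.Wr.eq_V₁_or_V₂ (V.comap ψ)
      (fun g u hu => by
        show ψ (g * u * g⁻¹) ∈ V
        rw [map_mul, map_mul, map_inv]
        exact hn _ ⟨g, rfl⟩ _ hu)
      (fun u hu w hw => hψ (by
        rw [map_mul, map_mul]
        exact congrArg Subtype.val (hel.1.is_comm.comm ⟨ψ u, hu⟩ ⟨ψ w, hw⟩)))
      (fun u hu => hψ (by
        rw [map_mul, map_one, ← pow_two]
        exact hel.2 (ψ u) hu))
      (by rw [← Subgroup.card_map_of_injective hψ, hmap, h16]) with h | h
    · rw [← hmap, h, PGroups.WreathD8.normalizer_V₁ h2 hr hψ]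
    · rw [← hmap, h, PGroups.WreathD8.normalizer_V₂ h2 hr hψ]

end Cfsg.Agent.S4402
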