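import Cfsg.Statements.S4404
import Cfsg.Agent.S0100
import Cfsg.Agent.S0640
import Cfsg.Agent.Lib.Components.TwoDimCommutator
import Cfsg.Agent.Lib.Hall.Solvable
import Cfsg.Agent.Lib.Transfer.Frobenius

set_option autoImplicit false
set_option linter.all false
open Cfsg Cfsg.Agent.Components Cfsg.Agent
open scoped Pointwise commutatorElement

namespace Cfsg.Agent.S4404

/-- Let S be a finite solvable group and M a normal elementary abelian 2-subgroup of S. Suppose S contains an elementary abelian subgroup of order p³ for some odd prime p, and a cyclic 3-subgroup Q such that the cubes of the elements of Q centralize M and the commutator subgroup [Q, M] has order 4 (a four-group inside M). Then S contains an elementary abelian subgroup F of order r³, for some odd prime r, whose centralizer of [Q, M] in F — the subgroup C_F([Q, M]) — is not cyclic. -/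
theorem result {S : Type*} [Group S] [Finite S]
    [Group.IsSolvable S] (M : Subgroup S) [M.Normal] (hM : Cfsg.IsElementaryAbelian 2 M)
    (p : ℕ) (hp : p.Prime) (hp2 : p ≠ 2) (E : Subgroup S) (hE : Cfsg.IsElementaryAbelian p E) (hE3 : Nat.card ↥E = p ^ 3)
    (Q : Subgroup S) (hQc : IsCyclic ↥Q) (hQ3 : IsPGroup 3 ↥Q)
    (hQ1 : ∀ x ∈ Q, x ^ 3 ∈ Subgroup.centralizer (M : Set S)) (hQM : Nat.card ↥⁅Q, M⁆ = 4) :
    ∃ (r : ℕ) (F : Subgroup S), r.Prime ∧ r ≠ 2 ∧ Cfsg.IsElementaryAbelian r F ∧ Nat.card ↥F = r ^ 3 ∧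
      ¬ IsCyclic ↥(F ⊓ Subgroup.centralizer ((⁅Q, M⁆ : Subgroup S) : Set S)) := by
  haveI := Fact.mk hp
  haveI h3 := Fact.mk Nat.prime_three
  letI : CommGroup M := { (inferInstance : Group M) with mul_comm := hM.1.is_comm.comm }
  have hM2 : ∀ m : M, m ^ 2 = 1 := fun m => Subtype.ext (by simpa using hM.2 m m.2)
  obtain ⟨⟨x, hxQ⟩, hgen⟩ := hQc.exists_generator
  let φ : S →* MulAut M := MulAut.conjNormal
  have hφ : ∀ (g : S) (m : M), (φ g m : S) = g * m * g⁻¹ := fun g m => MulAut.conjNormal_apply g m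
  set f := φ x with hfdef
  have hf : f ^ 3 = 1 := by
    rw [hfdef, ← map_pow]
    ext m
    rw [hφ, MulAut.one_apply, ← Subgroup.mem_centralizer_iff.1 (hQ1 x hxQ) m m.2,
      mul_inv_cancel_right]
  have hW : (TwoDim.cr f).map M.subtype = ⁅Q, M⁆ := by
    apply le_antisymm
    · rintro _ ⟨_, ⟨m, rfl⟩, rfl⟩
      have h := Subgroup.commutator_mem_commutator hxQ m.2
      simpa [TwoDim.disp, hfdef, hφ, commutatorElement_def, div_eq_mul_inv] using h
    · rw [Subgroup.commutator_le]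
      intro q hq m hm
      have h1 : f ∈ TwoDim.triv (TwoDim.cr f) := TwoDim.mem_triv_of_cr_le le_rfl
      obtain ⟨n, hn⟩ := Subgroup.mem_zpowers_iff.1 (hgen ⟨q, hq⟩)
      have hq' : x ^ n = q := by simpa using congrArg Subtype.val hn
      have h2 := Subgroup.zpow_mem _ h1 n ⟨m, hm⟩
      rw [hfdef, ← map_zpow, hq'] at h2
      exact ⟨_, h2, by simp [hφ, commutatorElement_def, div_eq_mul_inv]⟩
  have h4 : Nat.card (TwoDim.cr f) = 4 := by
    rw [← Subgroup.card_map_of_injective M.subtype_injective, hW, hQM]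
  have hcent : ∀ g : S, (∀ v ∈ TwoDim.cr f, φ g v = v) →
      g ∈ Subgroup.centralizer ((⁅Q, M⁆ : Subgroup S) : Set S) := by
    intro g hg
    rw [Subgroup.mem_centralizer_iff, ← hW]
    rintro _ ⟨v, hv, rfl⟩
    have h := congrArg Subtype.val (hg v hv)
    rw [hφ, mul_inv_eq_iff_eq_mul] at h
    exact h.symm
  -- the kernel of the restriction of an elementary group to a small invariant subgroup is not cyclic
  have key : ∀ (r : ℕ) (F : Subgroup S), r.Prime → Cfsg.IsElementaryAbelian r F →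
      Nat.card F = r ^ 3 → ∀ B : Subgroup M, TwoDim.cr f ≤ B →
      (∀ g ∈ F, ∀ u ∈ B, φ g u ∈ B) → ∀ N, Nat.card (MulAut B) ∣ N → ¬ r ^ 2 ∣ N →
      ¬ IsCyclic ↥(F ⊓ Subgroup.centralizer ((⁅Q, M⁆ : Subgroup S) : Set S)) := by
    intro r F hr hF hF3 B hB hinv N hN hrN hcyc
    haveI := Fact.mk hr
    have hinvF : ∀ t ∈ F.map φ, ∀ u ∈ B, t u ∈ B := by
      rintro _ ⟨g, hg, rfl⟩ u hu; exact hinv g hg u hu
    let ρ := (TwoDim.res (F.map φ) B hinvF).comp (φ.subgroupMap F)
    have hmul := ρ.ker.card_mul_index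
    rw [Subgroup.index_ker, hF3] at hmul
    have h1 := (ρ.range.card_subgroup_dvd_card).trans hN
    obtain ⟨i, -, hi⟩ := (Nat.dvd_prime_pow hr).1 (hmul ▸ dvd_mul_left (Nat.card ρ.range) _)
    have hi1 : i ≤ 1 := by
      by_contra hi1
      exact hrN ((pow_dvd_pow r (show 2 ≤ i by omega)).trans (hi ▸ h1))
    have hker : r ^ 2 ≤ Nat.card ρ.ker := by
      have := pow_le_pow_right₀ hr.one_lt.le hi1
      rw [pow_one] at this
      refine Nat.le_of_mul_le_mul_right (c := r) ?_ hr.pos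
      calc r ^ 2 * r = r ^ 3 := (pow_succ r 2).symm
        _ = Nat.card ρ.ker * Nat.card ρ.range := hmul.symm
        _ ≤ Nat.card ρ.ker * r := Nat.mul_le_mul_left _ (hi ▸ this)
    set D := F ⊓ Subgroup.centralizer ((⁅Q, M⁆ : Subgroup S) : Set S)
    have hle : ρ.ker.map F.subtype ≤ D := by
      rintro _ ⟨g, hg, rfl⟩
      refine ⟨g.2, hcent g fun v hv => ?_⟩
      have h1 := TwoDim.res_eq_one.1 (show TwoDim.res (F.map φ) B hinvF (φ.subgroupMap F g) = 1 from hg) v (hB hv)
      exact h1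
    have h2 := Subgroup.card_le_of_le hle
    rw [Subgroup.card_map_of_injective F.subtype_injective] at h2
    obtain ⟨d, hd⟩ := hcyc.exists_generator
    have hd1 : orderOf d = Nat.card D := orderOf_eq_card_of_forall_mem_zpowers hd
    have hd2 : orderOf d ≤ r := Nat.le_of_dvd hr.pos
      (orderOf_dvd_of_pow_eq_one (Subtype.ext (by simpa using hF.2 d d.2.1)))
    have : r < r ^ 2 := lt_self_pow₀ hr.one_lt (by norm_num)
    omega
  have hconj : ∀ (r : ℕ) (F : Subgroup S) (g : S), Cfsg.IsElementaryAbelian r F →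
      Cfsg.IsElementaryAbelian r (MulAut.conj g • F) := by
    intro r F g hF
    haveI := hF.1
    refine ⟨Subgroup.map_isMulCommutative F _, ?_⟩
    rintro _ ⟨a, ha, rfl⟩
    show (MulAut.conj g a) ^ r = 1
    rw [← map_pow, hF.2 a ha, map_one]
  by_cases h27 : ∃ Y : Subgroup S, Cfsg.IsElementaryAbelian 3 Y ∧ Nat.card Y = 3 ^ 3
  · obtain ⟨Y, hY, hY3⟩ := h27
    obtain ⟨P, hQP⟩ := hQ3.exists_le_sylow
    obtain ⟨P', hYP'⟩ := (IsPGroup.of_card (n := 3) hY3 : IsPGroup 3 Y).exists_le_sylow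
    obtain ⟨g, hg⟩ := MulAction.exists_smul_eq S P' P
    have hYg : MulAut.conj g • Y ≤ (P : Subgroup S) := by
      rw [← hg, Sylow.coe_subgroup_smul]
      exact Subgroup.pointwise_smul_le_pointwise_smul_iff.2 hYP'
    have hY' := hconj 3 Y g hY
    have hcomm : IsMulCommutative ((MulAut.conj g • Y).subgroupOf (P : Subgroup S)) := by
      haveI := hY'.1
      exact ⟨⟨fun a b => Subtype.ext (Subtype.ext (Subgroup.le_centralizer (MulAut.conj g • Y) b.2 _ a.2))⟩⟩
    obtain ⟨A, hAn, hAc, hAe, hA3⟩ : ∃ A : Subgroup P, A.Normal ∧ IsMulCommutative A ∧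
        (∀ a ∈ A, a ^ 3 = 1) ∧ Nat.card A = 3 ^ 3 := by
      by_contra hno
      have := Cfsg.Agent.S0100.result (p := 3) (by norm_num) P.2
        (fun A h1 h2 h3 h4 => hno ⟨A, h1, h2, h3, h4⟩) ((MulAut.conj g • Y).subgroupOf P)
        hcomm
        (fun a ha => Subtype.ext (by simpa using hY'.2 _ ha))
      rw [Nat.card_congr (Subgroup.subgroupOfEquivOfLe hYg).toEquiv, Coprime.card_conj_smul, hY3] at this
      omega
    let F : Subgroup S := A.map (P : Subgroup S).subtype
    have hF : Cfsg.IsElementaryAbelian 3 F := by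
      refine ⟨Subgroup.map_isMulCommutative A _, ?_⟩
      rintro _ ⟨a, ha, rfl⟩
      rw [← map_pow, hAe a ha, map_one]
    have hF3 : Nat.card F = 3 ^ 3 := by
      rw [Subgroup.card_map_of_injective (Subgroup.subtype_injective _), hA3]
    refine ⟨3, F, Nat.prime_three, by norm_num, hF, hF3, ?_⟩
    obtain ⟨n, hn⟩ := TwoDim.exists_card hM2 (TwoDim.cr f)
    have hn2 : n ≤ 2 := (Nat.pow_le_pow_iff_right Nat.one_lt_two).1 (by rw [← hn, h4])
    refine key 3 F Nat.prime_three hF hF3 _ le_rfl ?_ _ ((TwoDim.card_mulAut_bound hn).2 hn2) (by norm_num)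
    rintro _ ⟨a, ha, rfl⟩
    refine TwoDim.map_cr_eq hM2 (T := (P : Subgroup S).map φ) (P.2.map φ)
      (Subgroup.mem_map_of_mem φ (hQP hxQ)) (Subgroup.mem_map_of_mem φ a.2) hf h4 ?_
    let xP : P := ⟨x, hQP hxQ⟩
    have hcA : xP⁻¹ * (a * xP * a⁻¹) ∈ A := by
      have h1 := A.mul_mem (hAn.conj_mem a ha xP⁻¹) (A.inv_mem ha)
      simpa [mul_assoc] using h1
    have h2 : a * (xP⁻¹ * (a * xP * a⁻¹)) = xP⁻¹ * (a * xP * a⁻¹) * a :=
      congrArg Subtype.val (hAc.is_comm.comm ⟨a, ha⟩ ⟨_, hcA⟩)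
    have h3 := congrArg (φ.comp (P : Subgroup S).subtype) h2
    simpa [Commute, SemiconjBy, xP, hfdef] using h3
  -- no elementary abelian subgroup of order 27
  have hp3 : p ≠ 3 := by rintro rfl; exact h27 ⟨E, hE, hE3⟩
  have hp5 : 5 ≤ p := by
    have := hp.two_le
    have h4' : p ≠ 4 := by rintro rfl; norm_num at hp
    omega
  let π : Set ℕ := {3, p}
  have pi_of : ∀ (U : Subgroup S) (r : ℕ), IsPGroup r U → r.Prime → r ∈ π → Cores.IsPi π U := by
    intro U r hU hr hrπ q hq hd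
    haveI := Fact.mk hr
    obtain ⟨n, hn⟩ := hU.exists_card_eq
    exact ((Nat.prime_dvd_prime_iff_eq hq hr).1 (hq.dvd_of_dvd_pow (hn ▸ hd))).symm ▸ hrπ
  obtain ⟨H, hH, hQH⟩ := Hall.exists_le_hall (pi_of Q 3 hQ3 Nat.prime_three (Or.inl rfl))
  obtain ⟨g, hg⟩ := Hall.exists_conj_le_hall hH
    (pi_of E p (IsPGroup.of_card hE3) hp (Or.inr rfl))
  let F : Subgroup S := MulAut.conj g⁻¹ • E
  have hFH : F ≤ H := by
    have h1 : F ≤ MulAut.conj g⁻¹ • (MulAut.conj g • H) :=
      Subgroup.pointwise_smul_le_pointwise_smul_iff.2 hg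
    rwa [Coprime.conj_inv_smul_smul] at h1
  have hF := hconj p E g⁻¹ hE
  have hF3 : Nat.card F = p ^ 3 := by rw [Coprime.card_conj_smul, hE3]
  have hcompl : Cfsg.HasNormalPComplement 3 H := by
    refine Transfer.Frobenius.hasNormalPComplement_of_condition fun U hU u hu hou => ?_
    have hrk : Cfsg.PRankLE 3 2 U := by
      intro B hBc hBe
      have hB : IsPGroup 3 B := fun b => ⟨1, Subtype.ext (by simpa using hBe b b.2)⟩
      obtain ⟨n, hn⟩ := hB.exists_card_eq
      by_contra hlt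
      have hn3 : 3 ≤ n := by
        by_contra hn3
        exact hlt (hn ▸ pow_le_pow_right₀ (by norm_num) (by omega))
      obtain ⟨C, hC, hCB⟩ := Sylow.exists_subgroup_card_pow_prime_le 3 (hn ▸ pow_dvd_pow 3 hn3)
        (⊥ : Subgroup B) (n := 0) (by simp) (Nat.zero_le 3)
      refine h27 ⟨((C.map B.subtype).map U.subtype).map H.subtype, ⟨?_, ?_⟩, ?_⟩
      · haveI := hBc
        infer_instance
      · rintro _ ⟨_, ⟨_, ⟨c, hc, rfl⟩, rfl⟩, rfl⟩
        rw [← map_pow, ← map_pow, ← map_pow, show c ^ 3 = 1 from Subtype.ext (by simpa using hBe (c : U) c.2), map_one, map_one, map_one]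
      · rw [Subgroup.card_map_of_injective H.subtype_injective,
          Subgroup.card_map_of_injective U.subtype_injective,
          Subgroup.card_map_of_injective B.subtype_injective, hC]
    let α := (Subgroup.normalizerMonoidHom U) ⟨u, hu⟩
    have hα : orderOf α ∣ orderOf u := by
      have h1 := orderOf_map_dvd (Subgroup.normalizerMonoidHom U) (⟨u, hu⟩ : Subgroup.normalizer (U : Set H))
      rwa [← Subgroup.orderOf_coe] at h1
    have hα1 : α = 1 := by
      rw [← orderOf_eq_one_iff]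
      by_contra hne
      obtain ⟨q, hq, hqd⟩ := Nat.exists_prime_and_dvd hne
      have hqu : q ∣ orderOf u := hqd.trans hα
      have hqπ : q ∈ π := hH.1 q hq ((hqu.trans (orderOf_dvd_natCard u)))
      have hq3 : q ≠ 3 := by
        rintro rfl
        exact absurd (Nat.dvd_gcd hqu dvd_rfl) (by rw [hou]; norm_num)
      have hqp : q = p := hqπ.resolve_left hq3
      have := (Cfsg.Agent.S0640.result (by norm_num) hU hrk q hq hq3
        (hqd.trans (orderOf_dvd_natCard α))).2
      omega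
    rw [Subgroup.mem_centralizer_iff]
    intro v hv
    have h1 : u * v * u⁻¹ = v := by
      have := congrArg Subtype.val (DFunLike.congr_fun hα1 (⟨v, hv⟩ : U))
      exact this
    exact (mul_inv_eq_iff_eq_mul.1 h1).symm
  obtain ⟨k, hk⟩ := Transfer.NormalPComplement.hasNormalPComplement_iff_pPrimeCore.1 hcompl
  let R : Subgroup H := Cfsg.pPrimeCore 3 H
  haveI hRn : R.Normal := (inferInstance : (Cfsg.pPrimeCore 3 H).Normal)
  have hRp : IsPGroup p R := by
    refine IsPGroup.of_card (n := (Nat.card R).primeFactorsList.length)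
      (Nat.eq_prime_pow_of_unique_prime_dvd Nat.card_pos.ne' fun {q} hq hqd => ?_)
    refine (hH.1 q hq (hqd.trans R.card_subgroup_dvd_card)).resolve_left ?_
    rintro rfl
    have h1 : (Nat.card R).Coprime 3 := PLocal.Cores.coprime_card_pPrimeCore
    exact absurd (Nat.dvd_gcd hqd dvd_rfl) (by rw [h1]; norm_num)
  have hFR : F ≤ R.map H.subtype := by
    intro a ha
    refine ⟨⟨a, hFH ha⟩, ?_, rfl⟩
    have h1 : orderOf (QuotientGroup.mk' R ⟨a, hFH ha⟩) ∣ 3 ^ k := by
      rw [← hk]; exact orderOf_dvd_natCard _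
    have h2 : orderOf (QuotientGroup.mk' R ⟨a, hFH ha⟩) ∣ p := by
      refine (orderOf_map_dvd _ _).trans (orderOf_dvd_of_pow_eq_one (Subtype.ext ?_))
      simpa using hF.2 a ha
    have h3 := Nat.dvd_gcd h1 h2
    rw [Nat.Coprime.pow_left k ((Nat.coprime_primes Nat.prime_three hp).2 hp3.symm), Nat.dvd_one,
      orderOf_eq_one_iff] at h3
    exact (QuotientGroup.eq_one_iff _).1 h3
  have hHodd : Odd (Nat.card H) := by
    rw [Nat.odd_iff, ← Nat.two_dvd_ne_zero]
    intro h2
    rcases hH.1 2 Nat.prime_two h2 with h | h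
    · omega
    · exact hp2 h.symm
  have hfR : f ∈ Subgroup.normalizer (((R.map H.subtype).map φ : Subgroup (MulAut M)) : Set (MulAut M)) := by
    refine Subgroup.le_normalizer_map φ ⟨x, ?_, rfl⟩
    exact Subgroup.le_normalizer_map H.subtype
      ⟨⟨x, hQH hxQ⟩, by rw [Subgroup.normalizer_eq_top]; trivial, rfl⟩
  obtain ⟨B, hB, hB8, hinv⟩ := TwoDim.exists_small_invariant hM2 hp5
    (T := H.map φ) (hHodd.of_dvd_nat (H.card_map_dvd φ)) ((hRp.map H.subtype).map φ)
    (Subgroup.map_mono (Subgroup.map_subtype_le R)) (Subgroup.mem_map_of_mem φ (hQH hxQ)) hfR hf h4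
  obtain ⟨n, hn⟩ := TwoDim.exists_card hM2 B
  have hn4 : n ≤ 4 := (Nat.pow_le_pow_iff_right Nat.one_lt_two).1 (by rw [← hn]; omega)
  refine ⟨p, F, hp, hp2, hF, hF3, key p F hp hF hF3 B hB
    (fun a ha => hinv _ (Subgroup.mem_map_of_mem φ (hFR ha))) _ ((TwoDim.card_mulAut_bound hn).1 hn4) ?_⟩
  intro hd
  have h1 : p ^ 2 ∣ 315 := by
    refine Nat.Coprime.dvd_of_dvd_mul_left ?_ (show p ^ 2 ∣ 2 ^ 22 * 315 by simpa using hd)
    exact Nat.Coprime.pow _ _ ((Nat.coprime_primes hp Nat.prime_two).2 hp2)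
  have h2 : p ≤ 17 := by have := Nat.le_of_dvd (by norm_num) h1; nlinarith
  interval_cases p <;> first | norm_num at h1 | norm_num at hp

end Cfsg.Agent.S4404
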