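import Cfsg.Statements.S4405
import Cfsg.Agent.Techniques.MinusRadical
import Cfsg.Agent.Lib.CharP.Sylow
import Cfsg.Agent.Lib.Cores.Fitting
import Cfsg.Agent.Solvable.Basics

set_option autoImplicit false
open Cfsg

namespace Cfsg.Agent.S4405

/-- Let G be a finite group of order 320 = 64·5 whose largest normal 2-subgroup H = O₂(G) equals the Fitting subgroup F(G) and is extraspecial of order 32 containing no elementary abelian subgroup of order 8 (so H is the central product of a quaternion group and a dihedral group of order 8). If T is an involution of G outside H whose centralizer in H contains an elementary abelian subgroup of order 4, then C_H(T) itself is elementary abelian of order 4. -/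
theorem result {G : Type*} [Group G] [Finite G]
    (hG : Nat.card G = 320) (hHF : Cfsg.pCore 2 G = Cfsg.fittingSubgroup G)
    (hex : Cfsg.IsExtraspecial 2 ↥(Cfsg.pCore 2 G)) (h32 : Nat.card ↥(Cfsg.pCore 2 G) = 32)
    (hminus : ∀ A : Subgroup G, A ≤ Cfsg.pCore 2 G → Cfsg.IsElementaryAbelian 2 A → Nat.card ↥A ≤ 4)
    (T : G) (hT : orderOf T = 2) (hTH : T ∉ Cfsg.pCore 2 G)
    (V : Subgroup G) (hV : V ≤ Cfsg.pCore 2 G ⊓ Subgroup.centralizer ({T} : Set G)) (hV4 : Nat.card ↥V = 4) (hVe : Cfsg.IsElementaryAbelian 2 V) :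
    Nat.card ↥(Cfsg.pCore 2 G ⊓ Subgroup.centralizer ({T} : Set G)) = 4 ∧
      Cfsg.IsElementaryAbelian 2 (Cfsg.pCore 2 G ⊓ Subgroup.centralizer ({T} : Set G)) := by
  haveI : Fact (Nat.Prime 2) := ⟨Nat.prime_two⟩
  haveI : (Cfsg.pCore 2 G).Normal := Subgroup.sSup_normal _ fun _ h => h.1
  have hsq : ∀ h : ↥(Cfsg.pCore 2 G), h * h ∈ Subgroup.center ↥(Cfsg.pCore 2 G) := fun h => by
    rw [← hex.1.2.1, ← pow_two]
    exact Cfsg.Agent.Solvable.Basics.pow_mem_frattini hex.1.1 h
  have hmax5 : ∀ N : Subgroup G, N.Normal → Nat.card N = 5 → N ≤ Cfsg.pCore 2 G := fun N hN h5 => by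
    haveI := hN
    haveI : Fact (Nat.Prime 5) := ⟨by norm_num⟩
    rw [hHF]
    exact Cfsg.Agent.Cores.le_fittingSubgroup (IsPGroup.of_card (p := 5) (n := 1) (by rw [h5]; rfl)).isNilpotent
  have h := Techniques.MinusRadical.card_centralizer hG (Cfsg.pCore 2 G) h32 hex.2 hex.1.2.2.le hsq
    (fun N hN hp => Cfsg.Agent.CharP.le_pCore hN hp) hmax5
    (fun A hA hc h2 => hminus A hA ⟨hc, h2⟩) T (by rw [← pow_two, ← hT, pow_orderOf_eq_one]) hTH V hV hV4 hVe.1 hVe.2
  rw [h]
  exact ⟨hV4, hVe⟩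

end Cfsg.Agent.S4405
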