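import Cfsg.Statements.S4407
import Cfsg.Agent.GenA.NineDihedral

set_option autoImplicit false
open Cfsg

namespace Cfsg.Agent.S4407

/-- Squares fix a group of order at most three normalised by the element. -/
theorem sq_fix {S : Type*} [Group S] (K : Subgroup S) [Finite K] (h3 : Nat.card K ≤ 3) (x : S)
    (hx : ∀ k ∈ K, x * k * x⁻¹ ∈ K) (k : S) (hk : k ∈ K) : x * x * k * (x * x)⁻¹ = k := by
  classical
  haveI := Fintype.ofFinite K
  by_cases hk1 : k = 1
  · subst hk1; simp
  have e1 : x * x * k * (x * x)⁻¹ = x * (x * k * x⁻¹) * x⁻¹ := by group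
  rw [e1]
  by_cases h : x * k * x⁻¹ = k
  · rw [h, h]
  set l := x * k * x⁻¹ with hl
  have hl1 : l ≠ 1 := fun e => hk1 (conj_eq_one_iff.1 e)
  by_contra hne
  set m := x * l * x⁻¹ with hm
  have hm1 : m ≠ 1 := fun e => hl1 (conj_eq_one_iff.1 e)
  have hml : m ≠ l := fun e => h (mul_left_cancel (mul_right_cancel e))
  let F : Finset K := {1, ⟨k, hk⟩, ⟨l, hx k hk⟩, ⟨m, hx _ (hx k hk)⟩}
  have hF : F.card ≤ 3 := (Finset.card_le_univ F).trans (by rwa [← Nat.card_eq_fintype_card])
  simp only [F] at hF
  rw [Finset.card_insert_of_notMem (by simp [Subtype.ext_iff, Ne.symm hk1, Ne.symm hl1, Ne.symm hm1]),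
    Finset.card_insert_of_notMem (by simp [Ne.symm h, Ne.symm hne]),
    Finset.card_insert_of_notMem (by simp [Ne.symm hml]), Finset.card_singleton] at hF
  omega

set_option maxHeartbeats 1600000

/-- Let S be a finite group with a normal elementary abelian subgroup A of order 9 that is self-centralizing (C_S(A) = A), and a dihedral subgroup X of order 8 with S = AX. Let M be a finite-dimensional module for S over the field with two elements that is faithful and irreducible. Then M has 16 elements, and X contains exactly one subgroup B of order 4 and exponent 2 whose fixed points on M form a subspace with exactly 2 elements (equivalently, M is free of rank one over the group algebra of B). -/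
theorem result {S : Type*} [Group S] [Finite S]
    (A : Subgroup S) [A.Normal] (hA : Cfsg.IsElementaryAbelian 3 A) (hA9 : Nat.card ↥A = 9)
    (hAC : Subgroup.centralizer (A : Set S) = A) (X : Subgroup S) (hX : Nonempty (↥X ≃* DihedralGroup 4)) (hAX : A ⊔ X = ⊤)
    {M : Type*} [AddCommGroup M] [Module (ZMod 2) M] [Finite M] (ρ : Representation (ZMod 2) S M)
    (hfaith : Function.Injective ρ)
    (hirr : ∀ N : Submodule (ZMod 2) M, (∀ s : S, ∀ m ∈ N, ρ s m ∈ N) → N = ⊥ ∨ N = ⊤) (hM : Nontrivial M) :
    Nat.card M = 16 ∧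
      ∃! B : Subgroup S, B ≤ X ∧ Nat.card ↥B = 4 ∧ (∀ b ∈ B, b ^ 2 = 1) ∧
        Nat.card {m : M // ∀ b ∈ B, ρ b m = m} = 2 := by
  classical
  obtain ⟨e⟩ := hX
  obtain ⟨hAc, hA3⟩ := hA
  have hAcomm : ∀ x ∈ A, ∀ y ∈ A, x * y = y * x := fun x hx y hy =>
    congrArg Subtype.val (hAc.is_comm.comm ⟨x, hx⟩ ⟨y, hy⟩)
  obtain ⟨s₀, t₀, hs₀, ht₀, hc₀, hsc₀, htc₀, htst₀, hlist⟩ := GenA.NineDihedral.dihedral_four
  let f : DihedralGroup 4 →* S := X.subtype.comp e.symm.toMonoidHom
  have hfX : ∀ g, f g ∈ X := fun g => (e.symm g).2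
  have hfinj : Function.Injective f := X.subtype_injective.comp e.symm.injective
  set s := f s₀ with hsdef
  set t := f t₀ with htdef
  set c := s * t * (s * t) with hcdef
  have hss : s * s = 1 := by rw [hsdef, ← map_mul, hs₀, map_one]
  have htt : t * t = 1 := by rw [htdef, ← map_mul, ht₀, map_one]
  have hcf : c = f (s₀ * t₀ * (s₀ * t₀)) := by simp only [hcdef, hsdef, htdef, map_mul]
  have hc1 : c ≠ 1 := by rw [hcf, ← map_one f]; exact fun h => hc₀ (hfinj h)
  have hsc : s * c = c * s := by rw [hcf, hsdef, ← map_mul, ← map_mul, hsc₀]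
  have htc : t * c = c * t := by rw [hcf, htdef, ← map_mul, ← map_mul, htc₀]
  have htst : t * s * t = s * c := by rw [hcf, hsdef, htdef, ← map_mul, ← map_mul, ← map_mul, htst₀]
  have hlistS : ∀ x ∈ X, x = 1 ∨ x = c ∨ x = s ∨ x = t ∨ x = s * c ∨ x = t * c ∨ x = s * t ∨ x = t * s := by
    intro x hx
    have hx' : f (e ⟨x, hx⟩) = x := congrArg Subtype.val (e.symm_apply_apply ⟨x, hx⟩)
    rw [← hx', hcf, hsdef, htdef]
    rcases hlist (e ⟨x, hx⟩) with h | h | h | h | h | h | h | h <;> rw [h] <;>
      simp only [map_one, map_mul, true_or, or_true]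
  have hcX : c ∈ X := by rw [hcf]; exact hfX _
  have hsX : s ∈ X := hfX _
  have htX : t ∈ X := hfX _
  have hcc : c * c = 1 := by
    calc c * c = (s * c) * (s * c) := by
          rw [show (s * c) * (s * c) = s * (c * s) * c by group, ← hsc, ← mul_assoc s s c, hss, one_mul]
      _ = (t * s * t) * (t * s * t) := by rw [htst]
      _ = t * s * (t * t) * s * t := by group
      _ = 1 := by rw [htt, mul_one, mul_assoc t s s, hss, mul_one, htt]
  -- intersection
  have hAX1 : ∀ x ∈ A, x ∈ X → x = 1 := by
    intro x hxA hxX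
    have h8 : Nat.card X = 8 := by rw [Nat.card_congr e.toEquiv, DihedralGroup.nat_card]
    rw [← orderOf_eq_one_iff]
    exact Nat.eq_one_of_dvd_coprimes (by norm_num : Nat.Coprime 9 8)
      (hA9 ▸ A.orderOf_dvd_natCard hxA) (h8 ▸ X.orderOf_dvd_natCard hxX)
  have hcent : ∀ x ∈ X, (∀ y ∈ A, x * y * x⁻¹ = y) → x = 1 := by
    intro x hx h
    refine hAX1 x (hAC ▸ Subgroup.mem_centralizer_iff.2 fun y hy => ?_) hx
    exact (mul_inv_eq_iff_eq_mul.1 (h y hy)).symm
  have hself : ∀ x : S, x * x = 1 → x⁻¹ = x := fun x h => inv_eq_of_mul_eq_one_right h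
  have hsq : ∀ y ∈ A, y * y = 1 → y = 1 := by
    intro y hy h
    calc y = y ^ 3 * (y * y)⁻¹ := by group
      _ = 1 := by rw [hA3 y hy, h, inv_one, one_mul]
  -- fixed and inverted parts
  have hsplit : ∀ x : S, x * x = 1 → ∀ y ∈ A,
      x * (y * (x * y * x)) * x = y * (x * y * x) := by
    intro x hx y hy
    have hy' : x * y * x ∈ A := by
      have := (inferInstance : A.Normal).conj_mem y hy x
      rwa [hself x hx] at this
    calc x * (y * (x * y * x)) * x = (x * y * x) * y * (x * x) := by group
      _ = y * (x * y * x) := by rw [hx, mul_one, hAcomm _ hy' _ hy]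
  have hcinv : ∀ y ∈ A, c * y * c = y * y := by
    have hmemA : ∀ x y : S, y ∈ A → x * y * x⁻¹ ∈ A := fun x y hy => (inferInstance : A.Normal).conj_mem y hy x
    let Fx : Subgroup S :=
      { carrier := {y | y ∈ A ∧ c * y * c = y}
        one_mem' := ⟨A.one_mem, by rw [mul_one, hcc]⟩
        mul_mem' := fun {y z} hy hz => ⟨A.mul_mem hy.1 hz.1, by
          calc c * (y * z) * c = c * y * (c * c) * z * c := by rw [hcc]; group
            _ = (c * y * c) * (c * z * c) := by group
            _ = y * z := by rw [hy.2, hz.2]⟩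
        inv_mem' := fun {y} hy => ⟨A.inv_mem hy.1, by
          have h := congrArg (·⁻¹) hy.2
          simp only [mul_inv_rev, hself c hcc] at h
          rw [mul_assoc, h]⟩ }
    let Iv : Subgroup S :=
      { carrier := {y | y ∈ A ∧ c * y * c = y⁻¹}
        one_mem' := ⟨A.one_mem, by rw [mul_one, hcc, inv_one]⟩
        mul_mem' := fun {y z} hy hz => ⟨A.mul_mem hy.1 hz.1, by
          calc c * (y * z) * c = c * y * (c * c) * z * c := by rw [hcc]; group
            _ = (c * y * c) * (c * z * c) := by group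
            _ = (y * z)⁻¹ := by rw [hy.2, hz.2, mul_inv_rev, hAcomm _ (A.inv_mem hy.1) _ (A.inv_mem hz.1)]⟩
        inv_mem' := fun {y} hy => ⟨A.inv_mem hy.1, by
          have h := congrArg (·⁻¹) hy.2
          simp only [mul_inv_rev, hself c hcc] at h
          rw [mul_assoc, h]⟩ }
    intro y₀ hy₀
    by_contra hne
    have hFle : Fx ≤ A := fun y hy => hy.1
    have hIle : Iv ≤ A := fun y hy => hy.1
    haveI := Fact.mk (show Nat.Prime 3 by norm_num)
    have h3 : ∀ K : Subgroup S, K ≤ A → K ≠ A → ∀ x : S, (∀ k ∈ K, x * k * x⁻¹ ∈ K) →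
        ∀ k ∈ K, x * x * k * (x * x)⁻¹ = k := by
      intro K hK hKne x hx k hk
      refine sq_fix K ?_ x hx k hk
      have hcardK : Nat.card K ∣ 3 ^ 2 := by
        have := Subgroup.card_dvd_of_le hK
        rwa [hA9] at this
      obtain ⟨j, hj, hjc⟩ := (Nat.dvd_prime_pow (show Nat.Prime 3 by norm_num)).1 hcardK
      rcases Nat.lt_or_ge j 2 with h | h
      · rw [hjc]; exact (Nat.pow_le_pow_right (by norm_num) (by omega : j ≤ 1)).trans (by norm_num)
      · exfalso
        obtain rfl : j = 2 := by omega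
        exact hKne (Subgroup.eq_of_le_of_card_ge hK (by rw [hjc, hA9]; norm_num))
    have hcomC : ∀ x, x * c = c * x → ∀ y : S, c * (x * y * x⁻¹) * c = x * (c * y * c) * x⁻¹ := by
      intro x hx y
      have hx' : x⁻¹ * c = c * x⁻¹ := by
        rw [inv_mul_eq_iff_eq_mul, ← mul_assoc, hx, mul_inv_cancel_right]
      calc c * (x * y * x⁻¹) * c = (c * x) * y * (x⁻¹ * c) := by group
        _ = (x * c) * y * (c * x⁻¹) := by rw [hx, hx']
        _ = x * (c * y * c) * x⁻¹ := by group
    have hstc : (s * t) * c = c * (s * t) := by rw [mul_assoc, htc, ← mul_assoc, hsc, mul_assoc]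
    have hFne : Fx ≠ A := fun h => hc1 (hcent c hcX fun y hy => by
      rw [hself c hcc]; exact (h ▸ hy : y ∈ Fx).2)
    have hIne : Iv ≠ A := by
      intro h
      refine hne ?_
      rw [((h ▸ hy₀ : y₀ ∈ Iv)).2]
      calc y₀⁻¹ = y₀ ^ 3 * y₀⁻¹ := by rw [hA3 y₀ hy₀, one_mul]
        _ = y₀ * y₀ := by rw [pow_succ, pow_two, mul_inv_cancel_right]
    have hfix : ∀ K : Subgroup S, K ≤ A → K ≠ A → (∀ k ∈ K, (s * t) * k * (s * t)⁻¹ ∈ K) → ∀ k ∈ K, c * k * c = k := by
      intro K hK hKne hKst k hk
      have := h3 K hK hKne (s * t) hKst k hk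
      rwa [← hcdef, hself c hcc] at this
    have hI1 : ∀ y ∈ Iv, y = 1 := by
      intro y hy
      have h1 := hfix Iv hIle hIne (fun k hk => ⟨hmemA _ k hk.1, by
        rw [hcomC _ hstc, hk.2]; group⟩) y hy
      rw [hy.2] at h1
      exact hsq y hy.1 (by nth_rewrite 1 [← h1]; exact inv_mul_cancel y)
    refine hc1 (hcent c hcX fun y hy => ?_)
    rw [hself c hcc]
    have hy' : c * y * c ∈ A := by have := hmemA c y hy; rwa [hself c hcc] at this
    have hm : y⁻¹ * (c * y * c) ∈ Iv := by
      refine ⟨A.mul_mem (A.inv_mem hy) hy', ?_⟩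
      calc c * (y⁻¹ * (c * y * c)) * c = c * y⁻¹ * c * (y * (c * c)) := by group
        _ = (c * y * c)⁻¹ * y := by
          rw [hcc, mul_one, show (c * y * c)⁻¹ = c⁻¹ * y⁻¹ * c⁻¹ by group, hself c hcc]
        _ = (y⁻¹ * (c * y * c))⁻¹ := by group
    exact (inv_mul_eq_one.1 (hI1 _ hm)).symm
  -- an element centralised by `s`
  obtain ⟨a, haA, ha1, hsas⟩ : ∃ a ∈ A, a ≠ 1 ∧ s * a * s = a := by
    by_contra! hall
    have hinv : ∀ y ∈ A, s * y * s = y * y := by
      intro y hy
      have hy' : s * y * s ∈ A := by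
        have := (inferInstance : A.Normal).conj_mem y hy s
        rwa [hself s hss] at this
      have h1 : y * (s * y * s) = 1 := by
        by_contra h
        exact hall _ (A.mul_mem hy hy') h (hsplit s hss y hy)
      calc s * y * s = y⁻¹ := eq_inv_of_mul_eq_one_right h1
        _ = y ^ 3 * y⁻¹ := by rw [hA3 y hy, one_mul]
        _ = y * y := by rw [pow_succ, pow_two, mul_inv_cancel_right]
    have hscX : s * c ∈ X := X.mul_mem hsX hcX
    have h := hcent (s * c) hscX fun y hy => by
      rw [mul_inv_rev, hself s hss, hself c hcc]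
      calc s * c * y * (c * s) = s * (c * y * c) * s := by group
        _ = s * (y * y) * s := by rw [hcinv y hy]
        _ = (y * y) * (y * y) := hinv _ (A.mul_mem hy hy)
        _ = y ^ 3 * y := by simp only [pow_succ, pow_zero, one_mul, mul_assoc]
        _ = y := by rw [hA3 y hy, one_mul]
    have hsc' : s = c := by
      calc s = s * (c * c) := by rw [hcc, mul_one]
        _ = c := by rw [← mul_assoc, h, one_mul]
    have h2 : f s₀ = f (s₀ * t₀ * (s₀ * t₀)) := hsdef.symm.trans (hsc'.trans hcf)
    have h3 : t * s * t = 1 := by rw [htst, hsc', hcc]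
    refine hc1 ?_
    rw [← hsc']
    calc s = (t * t) * s * (t * t) := by rw [htt, one_mul, mul_one]
      _ = t * (t * s * t) * t := by group
      _ = 1 := by rw [h3, mul_one, htt]
  set b' := t * a * t with hbdef
  have hbA : b' ∈ A := by
    have := (inferInstance : A.Normal).conj_mem a haA t
    rwa [hself t htt] at this
  have hts : s * t = t * (s * c) := by
    rw [← htst]
    calc s * t = (t * t) * s * t := by rw [htt, one_mul]
      _ = t * (t * s * t) := by group
  have hts' : t * s = s * c * t := by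
    rw [← htst]
    calc t * s = t * s * (t * t) := by rw [htt, mul_one]
      _ = t * s * t * t := by group
  have hcs : c * s = s * c := hsc.symm
  have hR : GenA.NineDihedral.Rel a b' s t c := by
    refine ⟨?_, ?_, hAcomm a haA b' hbA, hss, htt, hcc, hsc, htc, htst, hsas, ?_, rfl, hcinv a haA, hcinv b' hbA⟩
    · rw [← hA3 a haA, pow_succ, pow_two]
    · rw [← hA3 b' hbA, pow_succ, pow_two]
    · calc s * b' * s = (s * t) * a * (t * s) := by rw [hbdef]; group
        _ = t * (s * c) * a * (s * c * t) := by rw [hts, hts']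
        _ = t * (s * (c * a * c) * s) * t := by
          rw [show t * (s * c) * a * (s * c * t) = t * (s * c * a * (s * c)) * t by group,
            show s * (c * a * c) * s = s * c * a * (c * s) by group, hcs]
        _ = t * (s * (a * a) * s) * t := by rw [hcinv a haA]
        _ = t * ((s * a * s) * (s * a * s)) * t := by
          rw [show (s * a * s) * (s * a * s) = s * a * (s * s) * a * s by group, hss, mul_one]; group
        _ = (t * a * t) * (t * a * t) := by
          rw [hsas, show (t * a * t) * (t * a * t) = t * a * (t * t) * a * t by group, htt, mul_one]; group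
  have hclA : Subgroup.closure ({a, b'} : Set S) = A := by
    have hle : Subgroup.closure ({a, b'} : Set S) ≤ A := by
      rw [Subgroup.closure_le]; rintro z (rfl | rfl) <;> assumption
    refine Subgroup.eq_of_le_of_card_ge hle ?_
    have h1 : Subgroup.zpowers a ≤ Subgroup.closure ({a, b'} : Set S) :=
      Subgroup.zpowers_le.2 (Subgroup.subset_closure (by simp))
    haveI := Fact.mk (show Nat.Prime 3 by norm_num)
    have hao : orderOf a = 3 := orderOf_eq_prime (hA3 a haA) ha1
    have hne : b' ∉ Subgroup.zpowers a := by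
      rintro ⟨i, hi⟩
      have h2 : s * b' * s = b' := by
        rw [← hi]
        show s * a ^ i * s = a ^ i
        conv_lhs => arg 2; rw [← hself s hss]
        rw [← conj_zpow, hself s hss, hsas]
      rw [hR.sbs] at h2
      have hb1 : b' = 1 := mul_left_cancel (h2.trans (mul_one b').symm)
      refine ha1 ?_
      calc a = (t * t) * a * (t * t) := by rw [htt, one_mul, mul_one]
        _ = t * b' * t := by rw [hbdef]; group
        _ = 1 := by rw [hb1, mul_one, htt]
    rw [hA9]
    by_contra hlt
    push_neg at hlt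
    have hd : Nat.card (Subgroup.closure ({a, b'} : Set S)) ∣ 3 ^ 2 := by
      have := Subgroup.card_dvd_of_le hle
      rwa [hA9] at this
    obtain ⟨j, hj, hjc⟩ := (Nat.dvd_prime_pow (show Nat.Prime 3 by norm_num)).1 hd
    have hge : 3 ≤ Nat.card (Subgroup.closure ({a, b'} : Set S)) := by
      rw [← hao, ← Nat.card_zpowers]
      exact Nat.le_of_dvd Nat.card_pos (Subgroup.card_dvd_of_le h1)
    have h3 : Nat.card (Subgroup.closure ({a, b'} : Set S)) = 3 := by
      rcases (show j = 0 ∨ j = 1 ∨ j = 2 by omega) with rfl | rfl | rfl <;>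
        rw [hjc] at hlt hge ⊢ <;> omega
    have := Subgroup.eq_of_le_of_card_ge h1 (by rw [h3, Nat.card_zpowers, hao])
    exact hne (this.symm ▸ Subgroup.subset_closure (by simp))
  haveI : Finite S := by
    haveI : Finite (Module.End (ZMod 2) M) := Finite.of_injective (fun e => (e : M → M)) DFunLike.coe_injective
    exact Finite.of_injective ρ hfaith
  have hgen : ∀ a₁ b₁ s₁ t₁ : S, Subgroup.closure ({a₁, b₁} : Set S) = A →
      s ∈ Subgroup.closure ({a₁, b₁, s₁, t₁} : Set S) → t ∈ Subgroup.closure ({a₁, b₁, s₁, t₁} : Set S) →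
      Subgroup.closure ({a₁, b₁, s₁, t₁} : Set S) = ⊤ := by
    intro a₁ b₁ s₁ t₁ hcl hs₁ ht₁
    set H := Subgroup.closure ({a₁, b₁, s₁, t₁} : Set S)
    rw [eq_top_iff, ← hAX]
    refine sup_le ?_ fun x hx => ?_
    · rw [← hcl, Subgroup.closure_le]
      rintro z (rfl | rfl) <;> exact Subgroup.subset_closure (by simp)
    · have hcH : c ∈ H := H.mul_mem (H.mul_mem hs₁ ht₁) (H.mul_mem hs₁ ht₁)
      rcases hlistS x hx with h | h | h | h | h | h | h | h <;> rw [h]
      · exact H.one_mem
      · exact hcH
      · exact hs₁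
      · exact ht₁
      · exact H.mul_mem hs₁ hcH
      · exact H.mul_mem ht₁ hcH
      · exact H.mul_mem hs₁ ht₁
      · exact H.mul_mem ht₁ hs₁
  -- no common fixed vector
  have hzero : ∀ v, ρ a v = v → ρ b' v = v → v = 0 := by
    let N : Submodule (ZMod 2) M :=
      { carrier := {v | ∀ y ∈ A, ρ y v = v}
        zero_mem' := fun y _ => map_zero _
        add_mem' := fun {v w} hv hw y hy => by rw [map_add, hv y hy, hw y hy]
        smul_mem' := fun r v hv y hy => by rw [map_smul, hv y hy] }
    have hN : ∀ g : S, ∀ v ∈ N, ρ g v ∈ N := by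
      intro g v hv y hy
      rw [GenA.NineDihedral.mv, show y * g = g * (g⁻¹ * y * g) by group, ← GenA.NineDihedral.mv,
        hv _ (by simpa using (inferInstance : A.Normal).conj_mem y hy g⁻¹)]
    have hbot : N = ⊥ := by
      refine (hirr N hN).resolve_right fun h => ha1 (hfaith (LinearMap.ext fun v => ?_))
      rw [map_one, Module.End.one_apply]
      exact (show v ∈ N from h ▸ Submodule.mem_top) a haA
    intro v hav hbv
    have hle : Subgroup.closure ({a, b'} : Set S) ≤
        { carrier := {g : S | ρ g v = v}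
          one_mem' := by simp
          mul_mem' := fun {g h} hg hh => by
            show ρ (g * h) v = v
            rw [map_mul, Module.End.mul_apply, hh, hg]
          inv_mem' := fun {g} hg => by
            show ρ g⁻¹ v = v
            conv_lhs => rw [← (show ρ g v = v from hg)]
            rw [← Module.End.mul_apply, ← map_mul, inv_mul_cancel, map_one, Module.End.one_apply] } := by
      rw [Subgroup.closure_le]; rintro z (rfl | rfl) <;> assumption
    have : v ∈ N := fun y hy => hle (hclA.ge hy)
    rw [hbot] at this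
    exact (Submodule.mem_bot _).1 this
  -- some nonzero vector is fixed by `a b'` or by `a b'⁻¹` or by `a` or by `b'`
  have hsel : ∃ a₁ b₁ s₁ t₁ : S, ((s₁ = s ∧ t₁ = t) ∨ (s₁ = t ∧ t₁ = s)) ∧ GenA.NineDihedral.Rel a₁ b₁ s₁ t₁ c ∧
      Subgroup.closure ({a₁, b₁} : Set S) = A ∧ ∃ v : M, v ≠ 0 ∧ ρ a₁ v = v := by
    by_cases hfa : ∃ v : M, v ≠ 0 ∧ ρ a v = v
    · exact ⟨a, b', s, t, Or.inl ⟨rfl, rfl⟩, hR, hclA, hfa⟩
    by_cases hfb : ∃ v : M, v ≠ 0 ∧ ρ b' v = v
    · exfalso
      obtain ⟨v, hv, hbv⟩ := hfb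
      refine hfa ⟨ρ t v, fun h => hv ?_, ?_⟩
      · have := congrArg (ρ t) h
        rwa [GenA.NineDihedral.mv, htt, map_one, Module.End.one_apply, map_zero] at this
      · have e1 : a * t = t * b' := by
          rw [hbdef]
          calc a * t = (t * t) * a * t := by rw [htt, one_mul]
            _ = t * (t * a * t) := by group
        rw [GenA.NineDihedral.mv, e1, ← GenA.NineDihedral.mv, hbv]
    push_neg at hfa hfb
    -- now both are fixed point free
    have hsum : ∀ (x : S), x * x * x = 1 → (∀ v : M, v ≠ 0 → ρ x v ≠ v) →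
        ∀ v : M, v + ρ x v + ρ x (ρ x v) = 0 := by
      intro x hx hfp v
      by_contra h
      refine hfp _ h ?_
      rw [map_add, map_add, GenA.NineDihedral.mv ρ x x (ρ x v), GenA.NineDihedral.mv ρ (x * x) x, hx,
        map_one, Module.End.one_apply]
      abel
    obtain ⟨v₀, hv₀⟩ := exists_ne (0 : M)
    have hab2 : ∀ w : M, ρ a (ρ b' w) = ρ b' (ρ a w) := fun w => by
      rw [GenA.NineDihedral.mv, GenA.NineDihedral.mv, hR.ab]
    -- kernel of `(a+b)(a+b²)`
    have hprod : ∀ w : M, ρ a (ρ a w + ρ b' (ρ b' w)) + ρ b' (ρ a w + ρ b' (ρ b' w)) = 0 := by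
      intro w
      have e1 := hsum a hR.aaa hfa w
      have e2 := hsum b' hR.bbb hfb (ρ a w)
      have e3 : ρ b' (ρ b' (ρ b' w)) = w := by
        rw [GenA.NineDihedral.mv ρ b' b' (ρ b' w), GenA.NineDihedral.mv ρ (b' * b') b', hR.bbb, map_one, Module.End.one_apply]
      rw [map_add, map_add, hab2, hab2, e3]
      have z := GenA.NineDihedral.two_zero (ρ a w)
      calc ρ a (ρ a w) + ρ b' (ρ b' (ρ a w)) + (ρ b' (ρ a w) + w)
          = (w + ρ a w + ρ a (ρ a w)) + (ρ a w + ρ b' (ρ a w) + ρ b' (ρ b' (ρ a w))) - (ρ a w + ρ a w) := by abel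
        _ = 0 := by rw [e1, e2, z]; simp
    refine ⟨a * b', a * b' * b', t, s, Or.inr ⟨rfl, rfl⟩, ?_, ?_, ?_⟩
    · have hbb3 : b' * b' * b' = 1 := hR.bbb
      have hAm := A.mul_mem haA hbA
      have hAm2 := A.mul_mem hAm hbA
      refine ⟨?_, ?_, hAcomm _ hAm _ hAm2, htt, hss, hcc, htc, hsc, ?_, ?_, ?_, ?_, hcinv _ hAm, hcinv _ hAm2⟩
      · rw [← hA3 _ hAm, pow_succ, pow_two]
      · rw [← hA3 _ hAm2, pow_succ, pow_two]
      · calc s * t * s = t * (s * c) * s := by rw [hts]
          _ = t * (s * (c * s)) := by group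
          _ = t * c := by rw [hcs, ← mul_assoc s s c, hss, one_mul]
      · calc t * (a * b') * t = (t * a * t) * (t * b' * t) := by
              rw [show (t * a * t) * (t * b' * t) = t * a * (t * t) * b' * t by group, htt, mul_one]; group
          _ = b' * a := by
            rw [← hbdef, show t * b' * t = (t * t) * a * (t * t) by rw [hbdef]; group, htt, one_mul, mul_one]
          _ = a * b' := hAcomm _ hbA _ haA
      · calc t * (a * b' * b') * t = (t * a * t) * (t * b' * t) * (t * b' * t) := by
              rw [show (t * a * t) * (t * b' * t) * (t * b' * t) = t * a * (t * t) * b' * (t * t) * b' * t by group,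
                htt, mul_one, mul_one]; group
          _ = b' * a * a := by
            rw [← hbdef, show t * b' * t = (t * t) * a * (t * t) by rw [hbdef]; group, htt, one_mul, mul_one]
          _ = (a * b' * b') * (a * b' * b') := by
            have h1 : Commute a b' := hAcomm _ haA _ hbA
            calc b' * a * a = b' ^ 3 * (b' * (a * a)) := by rw [hA3 _ hbA, one_mul, mul_assoc]
              _ = b' ^ 4 * a ^ 2 := by rw [pow_two a, ← mul_assoc (b' ^ 3), ← pow_succ]
              _ = a ^ 2 * b' ^ 4 := ((h1.symm.pow_left 4).pow_right 2).eq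
              _ = (a * b' ^ 2) ^ 2 := by rw [(h1.pow_right 2).mul_pow, ← pow_mul]
              _ = (a * b' * b') * (a * b' * b') := by rw [pow_two (a * b' ^ 2), pow_two b', ← mul_assoc a b' b']
      · calc s * (a * b') * s = (s * a * s) * (s * b' * s) := by
              rw [show (s * a * s) * (s * b' * s) = s * a * (s * s) * b' * s by group, hss, mul_one]; group
          _ = a * b' * b' := by rw [hsas, hR.sbs, ← mul_assoc a b' b']
    · refine le_antisymm ?_ ?_
      · rw [Subgroup.closure_le]
        rintro z (rfl | rfl)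
        · exact A.mul_mem haA hbA
        · exact A.mul_mem (A.mul_mem haA hbA) hbA
      · rw [← hclA, Subgroup.closure_le]
        have hx : a * b' ∈ Subgroup.closure ({a * b', a * b' * b'} : Set S) := Subgroup.subset_closure (by simp)
        have hy : a * b' * b' ∈ Subgroup.closure ({a * b', a * b' * b'} : Set S) := Subgroup.subset_closure (by simp)
        have hb : b' ∈ Subgroup.closure ({a * b', a * b' * b'} : Set S) := by
          have := Subgroup.mul_mem _ (Subgroup.inv_mem _ hx) hy
          simpa [← mul_assoc] using this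
        rintro z (rfl | rfl)
        · simpa using Subgroup.mul_mem _ hx (Subgroup.inv_mem _ hb)
        · exact hb
    · -- choose the vector
      by_cases hk : ρ a v₀ + ρ b' (ρ b' v₀) = 0
      · have he := GenA.NineDihedral.eq_of_add_eq_zero hk
        refine ⟨v₀, hv₀, ?_⟩
        rw [hR.ab, ← GenA.NineDihedral.mv, he, GenA.NineDihedral.mv ρ b' b' v₀, GenA.NineDihedral.mv, ← mul_assoc,
          hR.bbb, map_one, Module.End.one_apply]
      · set w := ρ a v₀ + ρ b' (ρ b' v₀) with hw
        have he : ρ a w = ρ b' w := GenA.NineDihedral.eq_of_add_eq_zero (hprod v₀)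
        have hsab : s * (a * b') * s = a * b' * b' := by
          calc s * (a * b') * s = (s * a * s) * (s * b' * s) := by
                rw [show (s * a * s) * (s * b' * s) = s * a * (s * s) * b' * s by group, hss, mul_one]; group
            _ = a * b' * b' := by rw [hsas, hR.sbs, ← mul_assoc a b' b']
        refine ⟨ρ s w, fun h => hk ?_, ?_⟩
        · have := congrArg (ρ s) h
          rwa [GenA.NineDihedral.mv, hss, map_one, Module.End.one_apply, map_zero] at this
        · have e1 : a * b' * s = s * (a * b' * b') := by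
            rw [← hsab]
            calc a * b' * s = (s * s) * (a * b') * s := by rw [hss, one_mul]
              _ = s * (s * (a * b') * s) := by group
          have hfix : ρ (a * b' * b') w = w := by
            rw [mul_assoc, hAcomm a haA _ (A.mul_mem hbA hbA), ← GenA.NineDihedral.mv, he,
              GenA.NineDihedral.mv, hR.bbb, map_one, Module.End.one_apply]
          rw [GenA.NineDihedral.mv, e1, ← GenA.NineDihedral.mv, hfix]
  obtain ⟨a₁, b₁, s₁, t₁, hst₁, hR₁, hcl₁, v, hv, hav⟩ := hsel
  have hmemc : ∀ a₁ b₁ s₁ t₁ : S, ((s₁ = s ∧ t₁ = t) ∨ (s₁ = t ∧ t₁ = s)) →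
      s ∈ Subgroup.closure ({a₁, b₁, s₁, t₁} : Set S) ∧ t ∈ Subgroup.closure ({a₁, b₁, s₁, t₁} : Set S) := by
    intro a₁ b₁ s₁ t₁ h
    rcases h with ⟨rfl, rfl⟩ | ⟨rfl, rfl⟩ <;>
      exact ⟨Subgroup.subset_closure (by simp), Subgroup.subset_closure (by simp)⟩
  have hzero₁ : ∀ w : M, ρ a₁ w = w → ρ b₁ w = w → w = 0 := by
    intro w hw1 hw2
    have hle : Subgroup.closure ({a₁, b₁} : Set S) ≤
        { carrier := {g : S | ρ g w = w}
          one_mem' := by simp
          mul_mem' := fun {g h} hg hh => by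
            show ρ (g * h) w = w
            rw [map_mul, Module.End.mul_apply, hh, hg]
          inv_mem' := fun {g} hg => by
            show ρ g⁻¹ w = w
            conv_lhs => rw [← (show ρ g w = w from hg)]
            rw [← Module.End.mul_apply, ← map_mul, inv_mul_cancel, map_one, Module.End.one_apply] } := by
      rw [Subgroup.closure_le]; rintro z (rfl | rfl) <;> assumption
    exact hzero w (hle (hcl₁.ge haA)) (hle (hcl₁.ge hbA))
  obtain ⟨h16, h4, h2⟩ := GenA.NineDihedral.core hR₁
    (hgen a₁ b₁ s₁ t₁ hcl₁ (hmemc _ _ _ _ hst₁).1 (hmemc _ _ _ _ hst₁).2) ρ hirr hzero₁ hv hav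
  refine ⟨h16, ?_⟩
  -- the two four-groups
  let Bof : (x : S) → x * x = 1 → x * c = c * x → Subgroup S := fun x hx hxc =>
    { carrier := {1, c, x, x * c}
      one_mem' := by simp
      mul_mem' := fun {g h} hg hh => by
        have e1 : c * x = x * c := hxc.symm
        have e2 : ∀ z, x * (x * z) = z := fun z => by rw [← mul_assoc, hx, one_mul]
        have e3 : ∀ z, c * (c * z) = z := fun z => by rw [← mul_assoc, hcc, one_mul]
        have e4 : ∀ z, c * (x * z) = x * (c * z) := fun z => by rw [← mul_assoc, e1, mul_assoc]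
        simp only [Set.mem_insert_iff, Set.mem_singleton_iff] at hg hh ⊢
        rcases hg with rfl | rfl | rfl | rfl <;> rcases hh with rfl | rfl | rfl | rfl <;>
          simp [mul_assoc, hcc, hx, e1, e2, e3, e4]
      inv_mem' := fun {g} hg => by
        simp only [Set.mem_insert_iff, Set.mem_singleton_iff] at hg ⊢
        rcases hg with h | h | h | h <;> rw [h] <;> simp [hself c hcc, hself x hx, hxc] }
  have hfixB : ∀ x hx hxc, Nat.card {m : M // ∀ b ∈ Bof x hx hxc, ρ b m = m} =
      Nat.card {m : M // ρ c m = m ∧ ρ x m = m} := by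
    intro x hx hxc
    refine Nat.card_congr (Equiv.subtypeEquivRight fun m => ⟨fun h => ⟨h c (by simp [Bof]), h x (by simp [Bof])⟩, ?_⟩)
    rintro ⟨h1, h2⟩ b hb
    rcases hb with rfl | rfl | rfl | rfl
    · simp
    · exact h1
    · exact h2
    · rw [map_mul, Module.End.mul_apply, h1, h2]
  have hB : ∀ B : Subgroup S, B ≤ X → Nat.card B = 4 → (∀ b ∈ B, b ^ 2 = 1) →
      B = Bof s hss hsc ∨ B = Bof t htt htc := by
    intro B hBX hB4 hBe
    have hnost : ∀ x : S, x = s * t ∨ x = t * s → x ∉ B := by
      rintro x (rfl | rfl) hx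
      · exact hc1 (by rw [hcdef, ← pow_two]; exact hBe _ hx)
      · refine hc1 ?_
        calc c = (t * s)⁻¹ * ((t * s) * (t * s))⁻¹ * (t * s) := by
              rw [mul_inv_rev, mul_inv_rev, mul_inv_rev, hself s hss, hself t htt, hcdef]
              calc s * t * (s * t) = s * t * (s * t) * ((s * t) * (t * s)) := by
                    rw [show (s * t) * (t * s) = s * (t * t) * s by group, htt, mul_one, hss, mul_one]
                _ = s * t * (s * t * (s * t)) * (t * s) := by group
          _ = 1 := by rw [← pow_two, hBe _ hx, inv_one, mul_one, inv_mul_cancel]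
    have hcards : ∀ x hx hxc, (∀ b ∈ B, b ∈ Bof x hx hxc) → B = Bof x hx hxc := by
      intro x hx hxc h
      refine Subgroup.eq_of_le_of_card_ge h ?_
      rw [hB4]
      show Nat.card ↥({1, c, x, x * c} : Set S) ≤ 4
      rw [Nat.card_coe_set_eq]
      have h1 := Set.ncard_insert_le (1 : S) {c, x, x * c}
      have h2 := Set.ncard_insert_le c ({x, x * c} : Set S)
      have h3 := Set.ncard_insert_le x ({x * c} : Set S)
      rw [Set.ncard_singleton] at h3
      omega
    have hstc : s * (t * c) = t * s := by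
      calc s * (t * c) = (s * t) * ((s * t) * (s * t)) := by rw [hcdef]; group
        _ = (s * t) * ((s * t) * (s * t)) * ((s * t) * (t * s)) := by
            rw [show (s * t) * (t * s) = s * (t * t) * s by group, htt, mul_one, hss, mul_one]
        _ = (c * c) * (t * s) := by rw [hcdef]; group
        _ = t * s := by rw [hcc, one_mul]
    have hone : ∀ x, x ∈ B → ∀ y, y ∈ B → x * y = s * t ∨ x * y = t * s → False := fun x hx y hy h =>
      hnost _ h (B.mul_mem hx hy)
    by_cases hsB : s ∈ B ∨ s * c ∈ B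
    · left
      refine hcards s hss hsc fun z hz => ?_
      have htB : t ∉ B := fun h => hsB.elim (fun h' => hone _ h' _ h (Or.inl rfl))
        (fun h' => hone _ h' _ h (Or.inr (by rw [mul_assoc, ← htc, hstc])))
      have htcB : t * c ∉ B := fun h => hsB.elim (fun h' => hone _ h' _ h (Or.inr hstc))
        (fun h' => hone _ h' _ h (Or.inl (by
          calc s * c * (t * c) = s * (c * t) * c := by group
            _ = s * t * (c * c) := by rw [← htc]; group
            _ = s * t := by rw [hcc, mul_one])))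
      rcases hlistS z (hBX hz) with h | h | h | h | h | h | h | h <;> subst h
      · exact Or.inl rfl
      · exact Or.inr (Or.inl rfl)
      · exact Or.inr (Or.inr (Or.inl rfl))
      · exact absurd hz htB
      · exact Or.inr (Or.inr (Or.inr rfl))
      · exact absurd hz htcB
      · exact absurd hz (hnost _ (Or.inl rfl))
      · exact absurd hz (hnost _ (Or.inr rfl))
    · right
      push_neg at hsB
      refine hcards t htt htc fun z hz => ?_
      rcases hlistS z (hBX hz) with h | h | h | h | h | h | h | h <;> subst h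
      · exact Or.inl rfl
      · exact Or.inr (Or.inl rfl)
      · exact absurd hz hsB.1
      · exact Or.inr (Or.inr (Or.inl rfl))
      · exact absurd hz hsB.2
      · exact Or.inr (Or.inr (Or.inr rfl))
      · exact absurd hz (hnost _ (Or.inl rfl))
      · exact absurd hz (hnost _ (Or.inr rfl))
  have hne1 : ∀ x ∈ X, x * x = 1 → x ≠ 1 → x ≠ c → ∀ hx hxc, Nat.card (Bof x hx hxc) = 4 := by
    intro x _ _ hx1 hxc1 hx hxc
    show Nat.card ↥({1, c, x, x * c} : Set S) = 4
    have hxc2 : x * c ≠ 1 := fun h => hxc1 (by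
      calc x = x * (c * c) := by rw [hcc, mul_one]
        _ = c := by rw [← mul_assoc, h, one_mul])
    rw [Nat.card_coe_set_eq, Set.ncard_insert_of_notMem (by simp [Ne.symm hc1, Ne.symm hx1, Ne.symm hxc2]),
      Set.ncard_insert_of_notMem (by simp [Ne.symm hxc1, hx1]), Set.ncard_pair (fun h => hc1 (left_eq_mul.1 h))]
  have hexp : ∀ x hx hxc, ∀ b ∈ Bof x hx hxc, b ^ 2 = 1 := by
    intro x hx hxc b hb
    rw [pow_two]
    rcases hb with rfl | rfl | rfl | rfl
    · simp
    · exact hcc
    · exact hx
    · rw [show x * c * (x * c) = x * (c * x) * c by group, ← hxc, ← mul_assoc x x c, hx, one_mul, hcc]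
  have hle : ∀ x hx hxc, x ∈ X → Bof x hx hxc ≤ X := by
    intro x hx hxc hxX b hb
    rcases hb with rfl | rfl | rfl | rfl
    · exact X.one_mem
    · exact hcX
    · exact hxX
    · exact X.mul_mem hxX hcX
  have hs1 : s ≠ 1 := fun h => hc1 (by rw [hcdef, h, one_mul, htt])
  have ht1 : t ≠ 1 := fun h => hc1 (by rw [hcdef, h, mul_one, hss])
  have hs_ne : s ≠ c := fun h => ht1 (by
    have h3 : t * s * t = 1 := by rw [htst, h, hcc]
    exact absurd (by
      calc s = (t * t) * s * (t * t) := by rw [htt, one_mul, mul_one]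
        _ = t * (t * s * t) * t := by group
        _ = 1 := by rw [h3, mul_one, htt]) hs1)
  have ht_ne : t ≠ c := fun h => hc1 (by
    have h3 : t * s * t = s * t := by rw [htst, ← h]
    have h4 : t * s = s := mul_right_cancel h3
    exact absurd (mul_eq_right.1 h4) ht1)
  rcases hst₁ with ⟨es, et⟩ | ⟨es, et⟩ <;> rw [es] at h4 <;> rw [et] at h2
  · refine ⟨Bof t htt htc, ⟨hle t htt htc htX, hne1 t htX htt ht1 ht_ne htt htc, hexp t htt htc, ?_⟩, ?_⟩
    · rw [hfixB t htt htc]; exact h2
    · rintro B ⟨hBX, hB4, hBe, hBfix⟩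
      rcases hB B hBX hB4 hBe with h | h
      · rw [h, hfixB s hss hsc, h4] at hBfix
        exact absurd hBfix (by norm_num)
      · exact h
  · refine ⟨Bof s hss hsc, ⟨hle s hss hsc hsX, hne1 s hsX hss hs1 hs_ne hss hsc, hexp s hss hsc, ?_⟩, ?_⟩
    · rw [hfixB s hss hsc]; exact h2
    · rintro B ⟨hBX, hB4, hBe, hBfix⟩
      rcases hB B hBX hB4 hBe with h | h
      · exact h
      · rw [h, hfixB t htt htc, h4] at hBfix
        exact absurd hBfix (by norm_num)

end Cfsg.Agent.S4407
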