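import Cfsg.Statements.S4410
import Cfsg.Agent.Lib.Cores.Fitting

set_option autoImplicit false
open Cfsg

namespace Cfsg.Agent.S4410

section Transvections

variable {V : Type*} [AddCommGroup V] [Module (ZMod 2) V]

theorem end_add_self (x : Module.End (ZMod 2) V) : x + x = 0 := by
  refine LinearMap.ext fun v => ?_
  show x v + x v = 0
  rw [← two_smul (ZMod 2), show (2 : ZMod 2) = 0 from rfl, zero_smul]

theorem end_two : (2 : Module.End (ZMod 2) V) = 0 :=
  one_add_one_eq_two.symm.trans (end_add_self 1)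

/-- `A` has image inside `{0, u}`. -/
def Small (A : Module.End (ZMod 2) V) (u : V) : Prop := ∀ v, A v = 0 ∨ A v = u

theorem mul_congr {A : Module.End (ZMod 2) V} {u : V} (h : Small A u) {L L' : Module.End (ZMod 2) V}
    (he : L u = L' u) : L * A = L' * A := by
  refine LinearMap.ext fun v => ?_
  show L (A v) = L' (A v)
  rcases h v with h0 | h0 <;> rw [h0]
  · rw [map_zero, map_zero]
  · exact he

/-- The group element minus one. -/
def off (a : V ≃ₗ[ZMod 2] V) : Module.End (ZMod 2) V := (a : V →ₗ[ZMod 2] V) - 1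

theorem coe_mul (a b : V ≃ₗ[ZMod 2] V) :
    ((a * b : V ≃ₗ[ZMod 2] V) : Module.End (ZMod 2) V) = (a : Module.End (ZMod 2) V) * (b : Module.End (ZMod 2) V) := rfl

theorem coe_off (a : V ≃ₗ[ZMod 2] V) : (a : Module.End (ZMod 2) V) = 1 + off a := by
  rw [off]; exact (add_sub_cancel 1 _).symm

theorem coe_inj {a b : V ≃ₗ[ZMod 2] V} (h : (a : Module.End (ZMod 2) V) = (b : Module.End (ZMod 2) V)) : a = b :=
  LinearEquiv.toLinearMap_injective h

theorem eq_one_of_pow {g : V ≃ₗ[ZMod 2] V} {m k : ℕ} (hm : Odd m) (h1 : g ^ m = 1) (h2 : g ^ 2 ^ k = 1) : g = 1 := by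
  have h := pow_gcd_eq_one.mpr ⟨h1, h2⟩
  rwa [show Nat.gcd m (2 ^ k) = 1 from Nat.Coprime.pow_right k hm.coprime_two_right, pow_one] at h

/-- Two transvections with product of odd order meet as in `S₃`. -/
theorem pair {a b : V ≃ₗ[ZMod 2] V} {u w : V} (ha : Small (off a) u) (hb : Small (off b) w)
    (hau : off a u = 0) (hbw : off b w = 0) {m : ℕ} (hm : Odd m) (hab : (a * b) ^ m = 1) (hne : a * b ≠ 1) :
    off a w = u ∧ off b u = w := by
  set A := off a with hA
  set B := off b with hB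
  have hAA : A * A = 0 := by rw [mul_congr ha (L := A) (L' := 0) (by rw [hau]; rfl), zero_mul]
  have hBB : B * B = 0 := by rw [mul_congr hb (L := B) (L' := 0) (by rw [hbw]; rfl), zero_mul]
  have key : ∀ (g : V ≃ₗ[ZMod 2] V) (X : Module.End (ZMod 2) V), (g : Module.End (ZMod 2) V) = 1 + X →
      X * X * (X * X) = 0 → g ^ 2 ^ 2 = 1 := by
    intro g X hg hX
    refine coe_inj ?_
    show ((g ^ 4 : V ≃ₗ[ZMod 2] V) : Module.End (ZMod 2) V) = 1
    rw [show g ^ 4 = g * g * (g * g) by simp only [pow_succ, pow_zero, one_mul, mul_assoc], coe_mul, coe_mul, hg]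
    have e : (1 + X) * (1 + X) * ((1 + X) * (1 + X)) = 1 + 2 * (2 * X + 3 * (X * X) + 2 * (X * X * X)) + X * X * (X * X) := by
      noncomm_ring
    rw [e, hX, end_two, zero_mul, add_zero, add_zero]
  by_cases h1 : A w = u
  · by_cases h2 : B u = w
    · exact ⟨h1, h2⟩
    · exfalso
      have hBA : B * A = 0 := by rw [mul_congr ha (L := B) (L' := 0) (((hb u).resolve_right h2).trans rfl), zero_mul]
      refine hne (eq_one_of_pow hm hab (key (a * b) (A + B + A * B) ?_ ?_))
      · rw [coe_mul, coe_off a, coe_off b]; noncomm_ring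
      · have : (A + B + A * B) * (A + B + A * B) = A * B := by
          have e : (A + B + A * B) * (A + B + A * B) =
              A * A + A * B + A * A * B + B * A + B * B + B * A * B + A * (B * A) + A * (B * B) + A * (B * A) * B := by
            noncomm_ring
          rw [e, hAA, hBA, hBB]; noncomm_ring
        rw [this, ← mul_assoc, mul_assoc A B A, hBA, mul_zero, zero_mul]
  · exfalso
    have hAB : A * B = 0 := by rw [mul_congr hb (L := A) (L' := 0) (((ha w).resolve_right h1).trans rfl), zero_mul]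
    refine hne (eq_one_of_pow hm hab (key (a * b) (A + B) ?_ ?_))
    · rw [coe_mul, coe_off a, coe_off b]
      show (1 + A) * (1 + B) = _
      calc (1 + A) * (1 + B) = 1 + (A + B) + A * B := by noncomm_ring
        _ = _ := by rw [hAB, add_zero]
    · have : (A + B) * (A + B) = B * A := by
        have e : (A + B) * (A + B) = A * A + A * B + B * A + B * B := by noncomm_ring
        rw [e, hAA, hAB, hBB]; simp
      rw [this, ← mul_assoc, mul_assoc B A B, hAB, mul_zero, zero_mul]

end Transvections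

set_option maxHeartbeats 1600000 in
/-- Let V be a finite-dimensional vector space over the field with two elements and S a solvable group of linear automorphisms of V with O₂(S) = 1. If P ∈ S has order 4 and (P − 1)³ = 0 on V, then the image of (P − 1)² has at least 4 elements; equivalently, in the decomposition of V into indecomposable modules for the cyclic group generated by P, at least two summands have dimension 3. -/
theorem result
    {V : Type*} [AddCommGroup V] [Module (ZMod 2) V] [Finite V]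
    (S : Subgroup (V ≃ₗ[ZMod 2] V)) (hS : Group.IsSolvable ↥S) (hO2 : Cfsg.pCore 2 ↥S = ⊥)
    (P : V ≃ₗ[ZMod 2] V) (hPS : P ∈ S) (hP4 : orderOf P = 4)
    (hcub : ((P : V →ₗ[ZMod 2] V) - LinearMap.id) ^ 3 = 0) :
    4 ≤ Nat.card ↥(LinearMap.range (((P : V →ₗ[ZMod 2] V) - LinearMap.id) ^ 2)) := by
  classical
  by_contra hlt
  haveI : Fact (Nat.Prime 2) := ⟨Nat.prime_two⟩
  haveI : Finite (V ≃ₗ[ZMod 2] V) := Finite.of_injective (fun e : V ≃ₗ[ZMod 2] V => (e : V → V)) DFunLike.coe_injective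
  set t := P * P with ht
  have htt : t * t = 1 := by
    rw [ht, ← pow_two, ← pow_two, ← pow_mul, show 2 * 2 = orderOf P from hP4.symm, pow_orderOf_eq_one]
  have ht1 : t ≠ 1 := fun h => by
    have := orderOf_dvd_of_pow_eq_one (show P ^ 2 = 1 by rw [pow_two]; exact h)
    rw [hP4] at this
    norm_num at this
  have hoff : ((P : V →ₗ[ZMod 2] V) - LinearMap.id) ^ 2 = off t := by
    rw [off, ht, coe_mul, pow_two]
    set X : Module.End (ZMod 2) V := (P : V →ₗ[ZMod 2] V)
    show (X - 1) * (X - 1) = X * X - 1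
    have e : (X - 1) * (X - 1) = X * X - 1 + 2 * (1 - X) := by noncomm_ring
    rw [e, end_two, zero_mul, add_zero]
  set R := LinearMap.range (off t) with hR
  rw [hoff] at hlt
  -- the image is `{0, u}`
  obtain ⟨u, hu⟩ : ∃ u, Small (off t) u := by
    have hdvd : Nat.card R = 2 ^ Module.finrank (ZMod 2) R := by
      rw [Module.natCard_eq_pow_finrank (K := ZMod 2), Nat.card_zmod]
    have hle : Nat.card R ≤ 2 := by
      rcases le_or_gt (Module.finrank (ZMod 2) R) 1 with h | h
      · rw [hdvd]; exact le_trans (Nat.pow_le_pow_right two_pos h) (by norm_num)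
      · exact absurd (hdvd ▸ (show 2 ^ 2 ≤ 2 ^ Module.finrank (ZMod 2) R from Nat.pow_le_pow_right two_pos h)) hlt
    obtain ⟨v₀, hv₀⟩ : ∃ v, off t v ≠ 0 := by
      by_contra h
      push Not at h
      exact ht1 (coe_inj (by rw [coe_off t, show off t = 0 from LinearMap.ext h, add_zero]; rfl))
    refine ⟨off t v₀, fun v => ?_⟩
    by_contra h
    push Not at h
    have : 2 < Nat.card R := by
      haveI := Fintype.ofFinite R
      rw [Nat.card_eq_fintype_card, Fintype.two_lt_card_iff]
      exact ⟨0, ⟨off t v₀, ⟨v₀, rfl⟩⟩, ⟨off t v, ⟨v, rfl⟩⟩, fun e => hv₀ (congrArg Subtype.val e).symm,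
        fun e => h.1 (congrArg Subtype.val e).symm, fun e => h.2 (congrArg Subtype.val e).symm⟩
    omega
  have hut : off t u = 0 := by
    rcases hu u with h0 | h0
    · exact h0
    · have h1 : (t : Module.End (ZMod 2) V) u = u + u := by
        rw [coe_off t]; show u + off t u = u + u; rw [h0]
      have h2 : u + u = 0 := by rw [← two_smul (ZMod 2), show (2 : ZMod 2) = 0 from rfl, zero_smul]
      have h3 : t (t u) = u := by
        show ((t * t : V ≃ₗ[ZMod 2] V)) u = u
        rw [htt]; rfl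
      rw [show t u = (t : Module.End (ZMod 2) V) u from rfl, h1, h2, map_zero] at h3
      rw [h0, ← h3]
  -- conjugates of `t`
  have hconj : ∀ y : V ≃ₗ[ZMod 2] V, Small (off (y * t * y⁻¹)) (y u) ∧ off (y * t * y⁻¹) (y u) = 0 := by
    intro y
    have hy : ∀ v, off (y * t * y⁻¹) v = y (off t (y.symm v)) := fun v => by
      show y (t (y.symm v)) - v = y (t (y.symm v) - y.symm v)
      rw [map_sub, y.apply_symm_apply]
    refine ⟨fun v => ?_, ?_⟩
    · rcases hu (y.symm v) with h0 | h0
      · exact Or.inl (by rw [hy, h0, map_zero])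
      · exact Or.inr (by rw [hy, h0])
    · rw [hy, y.symm_apply_apply, hut, map_zero]
  -- the Fitting subgroup has odd order
  set F := fittingSubgroup S with hF
  have hodd : Odd (Nat.card F) := by
    rw [Nat.odd_iff, ← Nat.two_dvd_ne_zero]
    intro h2
    obtain ⟨Q⟩ : Nonempty (Sylow 2 F) := inferInstance
    have h1 := Cores.sylow_fitting_map Q
    rw [hO2, Subgroup.map_eq_bot_iff_of_injective _ F.subtype_injective] at h1
    exact Q.ne_bot_of_dvd_card h2 h1
  set N : Subgroup (V ≃ₗ[ZMod 2] V) := F.map S.subtype with hN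
  have hNo : Odd (Nat.card N) := by rwa [hN, Subgroup.card_map_of_injective S.subtype_injective]
  have hNn : ∀ s ∈ S, ∀ y ∈ N, s * y * s⁻¹ ∈ N := by
    rintro s hs _ ⟨y, hy, rfl⟩
    exact ⟨⟨s, hs⟩ * y * ⟨s, hs⟩⁻¹, Cores.fittingSubgroup_normal.conj_mem y hy _, rfl⟩
  have htS : t ∈ S := mul_mem hPS hPS
  have hti : t⁻¹ = t := inv_eq_of_mul_eq_one_right htt
  let C : Set (V ≃ₗ[ZMod 2] V) := {c | ∃ y ∈ N, c = y * t * y⁻¹}
  have htC : t ∈ C := ⟨1, one_mem _, by group⟩
  have hprod : ∀ a ∈ C, ∀ b ∈ C, a * b ∈ N := by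
    rintro _ ⟨y, hy, rfl⟩ _ ⟨z, hz, rfl⟩
    have := mul_mem (mul_mem hy (hNn t htS _ (mul_mem (inv_mem hy) hz))) (inv_mem hz)
    rwa [show y * (t * (y⁻¹ * z) * t⁻¹) * z⁻¹ = y * t * y⁻¹ * (z * t⁻¹ * z⁻¹) by group, hti] at this
  have hinv : ∀ a ∈ C, a * a = 1 := by
    rintro _ ⟨y, hy, rfl⟩
    rw [show y * t * y⁻¹ * (y * t * y⁻¹) = y * (t * t) * y⁻¹ by group, htt]; group
  have hpow : ∀ a ∈ C, ∀ b ∈ C, (a * b) ^ Nat.card N = 1 := fun a ha b hb =>
    orderOf_dvd_iff_pow_eq_one.mp (Subgroup.orderOf_dvd_natCard _ (hprod a ha b hb))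
  have hne1 : ∀ a ∈ C, ∀ b ∈ C, a ≠ b → a * b ≠ 1 := fun a ha b hb hab h =>
    hab ((eq_inv_of_mul_eq_one_left h).trans (inv_eq_of_mul_eq_one_right (hinv b hb)))
  -- some conjugate differs from `t`
  obtain ⟨a, haC, hat⟩ : ∃ a ∈ C, a ≠ t := by
    by_contra hc
    push Not at hc
    have hmem : (⟨t, htS⟩ : S) ∈ Subgroup.centralizer (F : Set S) := Subgroup.mem_centralizer_iff.mpr fun y hy => by
      refine Subtype.ext ?_
      show (y : V ≃ₗ[ZMod 2] V) * t = t * y
      have h1 := hc _ ⟨y, ⟨y, hy, rfl⟩, rfl⟩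
      exact mul_inv_eq_iff_eq_mul.mp h1
    have h1 : t ∈ N := ⟨_, Cores.centralizer_fittingSubgroup_le hmem, rfl⟩
    exact ht1 (eq_one_of_pow (k := 1) hNo (orderOf_dvd_iff_pow_eq_one.mp (Subgroup.orderOf_dvd_natCard _ h1))
      (by rw [pow_one, pow_two]; exact htt))
  set d := t * a * t with hd
  have hthree : ∀ c ∈ C, c = t ∨ c = a ∨ c = d := by
    intro c hcC
    by_contra h
    push Not at h
    obtain ⟨hct, hca, hcd⟩ := h
    obtain ⟨y, hy, rfl⟩ := id haC
    obtain ⟨z, hz, rfl⟩ := id hcC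
    obtain ⟨ha', hau⟩ := hconj y
    obtain ⟨hc', hcu⟩ := hconj z
    obtain ⟨hTA, hAT⟩ := pair hu ha' hut hau hNo (hpow _ htC _ haC) (hne1 _ htC _ haC (Ne.symm hat))
    obtain ⟨hTC, hCT⟩ := pair hu hc' hut hcu hNo (hpow _ htC _ hcC) (hne1 _ htC _ hcC (Ne.symm hct))
    obtain ⟨hAC, hCA⟩ := pair ha' hc' hau hcu hNo (hpow _ haC _ hcC) (hne1 _ haC _ hcC (Ne.symm hca))
    set T := off t with hT
    set A := off (y * t * y⁻¹) with hA
    set C' := off (z * t * z⁻¹) with hC'
    have hTT : T * T = 0 := by rw [mul_congr hu (L := T) (L' := 0) (by rw [hut]; rfl), zero_mul]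
    have eTAT : T * A * T = T := by
      rw [mul_congr hu (L := T * A) (L' := 1) (by show T (A u) = u; rw [hAT, hTA]), one_mul]
    -- the element `d`
    have hD : off d = T + A + T * A + A * T := by
      rw [off, hd, coe_mul, coe_mul, coe_off t, coe_off (y * t * y⁻¹)]
      show (1 + T) * (1 + A) * (1 + T) - 1 = _
      have e : (1 + T) * (1 + A) * (1 + T) - 1 = 2 * T + T * T + A + T * A + A * T + T * A * T := by noncomm_ring
      rw [e, hTT, eTAT, end_two, zero_mul, zero_add, zero_add]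
      abel
    have e1 : C' * T * A = C' * A := mul_congr ha' (by show C' (T (y u)) = C' (y u); rw [hTA, hCT, hCA])
    have e2 : C' * A * T = C' * T := mul_congr hu (by show C' (A u) = C' u; rw [hAT, hCA, hCT])
    have e3 : T * A * C' = T * C' := mul_congr hc' (by show T (A (z u)) = T (z u); rw [hAC, hTA, hTC])
    have e4 : A * T * C' = A * C' := mul_congr hc' (by show A (T (z u)) = A (z u); rw [hTC, hAT, hAC])
    have hCD : C' * off d = 0 := by
      rw [hD, mul_add, mul_add, mul_add, ← mul_assoc, ← mul_assoc, e1, e2]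
      rw [show C' * T + C' * A + C' * A + C' * T = (C' * T + C' * T) + (C' * A + C' * A) by abel, end_add_self, end_add_self,
        add_zero]
    have hDC : off d * C' = 0 := by
      rw [hD, add_mul, add_mul, add_mul, e3, e4]
      rw [show T * C' + A * C' + T * C' + A * C' = (T * C' + T * C') + (A * C' + A * C') by abel, end_add_self, end_add_self,
        add_zero]
    have hcomm : (z * t * z⁻¹) * d = d * (z * t * z⁻¹) := coe_inj (by
      rw [coe_mul (z * t * z⁻¹) d, coe_mul d (z * t * z⁻¹), coe_off d, coe_off (z * t * z⁻¹)]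
      show (1 + C') * (1 + off d) = (1 + off d) * (1 + C')
      calc (1 + C') * (1 + off d) = 1 + C' + off d + C' * off d := by noncomm_ring
        _ = 1 + C' + off d + off d * C' := by rw [hCD, hDC]
        _ = (1 + off d) * (1 + C') := by noncomm_ring)
    have hdC : d ∈ C := ⟨t * y * t⁻¹, hNn t htS y hy, by rw [hd, hti]; simp only [mul_inv_rev, inv_inv, mul_assoc, hti]; rw [← mul_assoc t t, htt, one_mul]⟩
    refine hne1 _ hcC _ hdC hcd (eq_one_of_pow (k := 1) hNo (hpow _ hcC _ hdC) ?_)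
    rw [pow_one, pow_two, mul_assoc, ← mul_assoc d, ← hcomm, mul_assoc (z * t * z⁻¹) d d, hinv _ hdC, mul_one]
    exact hinv _ hcC
  -- `P` permutes the conjugates
  have hPt : P * t * P⁻¹ = t := by rw [ht]; group
  have hPC : ∀ c ∈ C, P * c * P⁻¹ ∈ C := by
    rintro _ ⟨y, hy, rfl⟩
    refine ⟨P * y * P⁻¹, hNn P hPS y hy, ?_⟩
    conv_lhs => rw [show P * (y * t * y⁻¹) * P⁻¹ = (P * y * P⁻¹) * (P * t * P⁻¹) * (P * y * P⁻¹)⁻¹ by group, hPt]
  have hinjP : ∀ x y : V ≃ₗ[ZMod 2] V, P * x * P⁻¹ = P * y * P⁻¹ → x = y := fun x y h => mul_left_cancel (mul_right_cancel h)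
  have hfix : t * a * t⁻¹ = a := by
    have e : t * a * t⁻¹ = P * (P * a * P⁻¹) * P⁻¹ := by rw [ht]; group
    rw [e]
    rcases hthree _ (hPC a haC) with h1 | h1 | h1
    · exact absurd (hinjP a t (h1.trans hPt.symm)) hat
    · rw [h1, h1]
    · have e2 : P * d * P⁻¹ = t * (P * a * P⁻¹) * t := by rw [hd, ht]; group
      rw [h1, e2, h1, hd, show t * (t * a * t) * t = t * t * a * (t * t) by group, htt, one_mul, mul_one]
  rw [hti] at hfix
  refine hne1 _ htC _ haC (Ne.symm hat) (eq_one_of_pow (k := 1) hNo (hpow _ htC _ haC) ?_)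
  rw [pow_one, pow_two, show t * a * (t * a) = t * a * t * a by group, hfix, hinv a haC]

end Cfsg.Agent.S4410
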