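import Cfsg.Statements.S4411
import Cfsg.Agent.Lib.AutomizerMove.Characteristic
import Cfsg.Agent.Lib.Coprime.Sylow
import Cfsg.Agent.Lib.Transfer.Frobenius

/-!
If all `p`-automizers are `p`-solvable, a prime `q` dividing some automizer of a `p`-subgroup
divides the automizer of a subgroup normal in a Sylow `p`-subgroup, outside `{p,q} = {2,3}`.
-/

set_option autoImplicit false
set_option linter.unusedSectionVars false

open Cfsg

namespace Cfsg.Agent.S4411

open Subgroup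
open scoped Pointwise

universe u

variable {G : Type u} [Group G]

theorem index_eq (H : Subgroup G) :
    ((centralizer (H : Set G)).subgroupOf (normalizer (H : Set G))).index =
      Nat.card (↥(normalizer (H : Set G)) ⧸ (centralizer (H : Set G)).subgroupOf (normalizer (H : Set G))) :=
  index_eq_card _

/-- A suitable power of an element with `x ^ q ∈ K`, `x ∉ K` has `q`-power order. -/
theorem exists_qpow [Finite G] {q : ℕ} [Fact q.Prime] {K : Subgroup G} {x : G} (hx : x ∉ K) (hxq : x ^ q ∈ K) :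
    ∃ y ∈ zpowers x, y ∉ K ∧ ∃ a : ℕ, y ^ q ^ a = 1 := by
  obtain ⟨a, m, hm, hord⟩ := Nat.exists_eq_pow_mul_and_not_dvd (orderOf_pos x).ne' q (Fact.out : q.Prime).ne_one
  refine ⟨x ^ m, pow_mem (mem_zpowers x) m, fun h => hx ?_, a, ?_⟩
  · have hcop : Nat.Coprime m q := ((Fact.out : q.Prime).coprime_iff_not_dvd.mpr hm).symm
    have hb := Nat.gcd_eq_gcd_ab m q
    rw [hcop.gcd_eq_one] at hb
    push_cast at hb
    rw [← zpow_one x, hb, zpow_add, zpow_mul, zpow_mul, zpow_natCast, zpow_natCast]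
    exact K.mul_mem (K.zpow_mem h _) (K.zpow_mem hxq _)
  · rw [← pow_mul, mul_comm, ← hord, pow_orderOf_eq_one]

theorem dvd_of_elem [Finite G] {q : ℕ} [Fact q.Prime] {T : Subgroup G} {x : G}
    (hxN : x ∈ normalizer (T : Set G)) (hxC : x ∉ centralizer (T : Set G)) {a : ℕ} (ha : x ^ q ^ a = 1) :
    q ∣ ((centralizer (T : Set G)).subgroupOf (normalizer (T : Set G))).index := by
  set z : ↥(normalizer (T : Set G)) ⧸ (centralizer (T : Set G)).subgroupOf (normalizer (T : Set G)) :=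
    QuotientGroup.mk ⟨x, hxN⟩ with hz
  have hz1 : z ≠ 1 := fun h => hxC (mem_subgroupOf.mp ((QuotientGroup.eq_one_iff _).mp h))
  have hzq : z ^ q ^ a = 1 := by
    rw [hz, ← QuotientGroup.mk_pow, QuotientGroup.eq_one_iff, mem_subgroupOf]
    push_cast
    rw [ha]; exact one_mem _
  obtain ⟨i, -, hi⟩ := (Nat.dvd_prime_pow (Fact.out : q.Prime)).mp (orderOf_dvd_of_pow_eq_one hzq)
  rcases i with _ | i
  · exact absurd (orderOf_eq_one_iff.mp (by rw [hi, pow_zero])) hz1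
  · rw [index_eq]
    exact (Dvd.intro_left _ (pow_succ q i).symm).trans (hi ▸ orderOf_dvd_natCard z)

theorem exists_elem [Finite G] {q : ℕ} [Fact q.Prime] {T : Subgroup G}
    (h : q ∣ ((centralizer (T : Set G)).subgroupOf (normalizer (T : Set G))).index) :
    ∃ x ∈ normalizer (T : Set G), x ∉ centralizer (T : Set G) ∧ x ^ q ∈ centralizer (T : Set G) := by
  rw [index_eq] at h
  obtain ⟨z, hz⟩ := exists_prime_orderOf_dvd_card' q h
  obtain ⟨x, rfl⟩ := QuotientGroup.mk_surjective z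
  refine ⟨x, x.2, fun hx => ?_, ?_⟩
  · rw [(QuotientGroup.eq_one_iff x).mpr (mem_subgroupOf.mpr hx), orderOf_one] at hz
    exact (Fact.out : q.Prime).one_lt.ne hz
  · have h1 := pow_orderOf_eq_one (QuotientGroup.mk x : ↥(normalizer (T : Set G)) ⧸ (centralizer (T : Set G)).subgroupOf (normalizer (T : Set G)))
    rw [hz, ← QuotientGroup.mk_pow, QuotientGroup.eq_one_iff, mem_subgroupOf] at h1
    simpa using h1

/-- Frattini's argument. -/
theorem exists_mul_mem_normalizer [Finite G] {p : ℕ} [Fact p.Prime] {J T : Subgroup G} (hTJ : T ≤ J)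
    (hT : IsPGroup p ↥T) (hmax : ∀ U : Subgroup G, U ≤ J → IsPGroup p ↥U → Nat.card ↥U ≤ Nat.card ↥T)
    {x : G} (hx : x ∈ normalizer (J : Set G)) : ∃ j ∈ J, j * x ∈ normalizer (T : Set G) := by
  obtain ⟨S, hS⟩ := (hT.comap_subtype (K := J)).exists_le_sylow
  have hle : T ≤ (S : Subgroup ↥J).map J.subtype := fun t ht => ⟨⟨t, hTJ ht⟩, hS ht, rfl⟩
  have hTS : T = (S : Subgroup ↥J).map J.subtype :=
    eq_of_le_of_card_ge hle (hmax _ (map_subtype_le _) (S.2.map _))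
  have hle' : T.map (MulAut.conj x).toMonoidHom ≤ J := by
    rintro _ ⟨t, ht, rfl⟩
    exact (mem_normalizer_iff.mp hx t).mp (hTJ ht)
  obtain ⟨k, hk, hkT⟩ := Coprime.exists_conj_sylow_map hle' S (by
    rw [card_map_of_injective (f := (MulAut.conj x).toMonoidHom) (MulAut.conj x).injective, hTS, card_map_of_injective J.subtype_injective])
  rw [← hTS] at hkT
  refine ⟨k⁻¹, J.inv_mem hk, mem_normalizer_fintype fun t ht => ?_⟩
  have h1 : x * t * x⁻¹ ∈ MulAut.conj k • T := hkT ▸ ⟨t, ht, rfl⟩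
  obtain ⟨t', ht', he⟩ := h1
  have he' : k * t' * k⁻¹ = x * t * x⁻¹ := he
  have : k⁻¹ * x * t * (k⁻¹ * x)⁻¹ = t' := by
    calc k⁻¹ * x * t * (k⁻¹ * x)⁻¹ = k⁻¹ * (x * t * x⁻¹) * k := by group
      _ = t' := by rw [← he']; group
  rwa [this]

theorem card_le_sylow [Finite G] {p : ℕ} [Fact p.Prime] (P : Sylow p G) {U : Subgroup G}
    (hU : IsPGroup p ↥U) : Nat.card ↥U ≤ Nat.card ↥(P : Subgroup G) := by
  obtain ⟨R, hR⟩ := hU.exists_le_sylow
  refine (card_le_of_le hR).trans (le_of_eq ?_)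
  rw [R.card_eq_multiplicity, P.card_eq_multiplicity]

/-- The trace of a Sylow subgroup on a normal subgroup bounds its `p`-subgroups. -/
theorem card_le_inf [Finite G] {p : ℕ} [Fact p.Prime] (P : Sylow p G) (J : Subgroup G) [J.Normal]
    {U : Subgroup G} (hUJ : U ≤ J) (hU : IsPGroup p ↥U) :
    Nat.card ↥U ≤ Nat.card ↥((P : Subgroup G) ⊓ J) := by
  obtain ⟨R, hR⟩ := hU.exists_le_sylow
  obtain ⟨g, hg⟩ := MulAction.exists_smul_eq G R P
  rw [← card_map_of_injective (K := U) (f := (MulAut.conj g).toMonoidHom) (MulAut.conj g).injective]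
  refine card_le_of_le ?_
  rintro _ ⟨u, hu, rfl⟩
  exact ⟨hg ▸ ⟨u, hR hu, rfl⟩, (inferInstance : J.Normal).conj_mem u (hUJ hu) g⟩

/-- An extension of a `p`-solvable group by a `p`-group is `p`-solvable. -/
theorem isPSolvable_of_quotient [Finite G] {p : ℕ} [Fact p.Prime] (N : Subgroup G) [N.Normal]
    (hN : IsPGroup p ↥N) (h : IsPSolvable p (G ⧸ N)) : IsPSolvable p G := by
  obtain ⟨n, S, h0, h1, hm, hn, hi⟩ := h
  have hle : ∀ i, N ≤ (S i).comap (QuotientGroup.mk' N) := fun i =>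
    (QuotientGroup.ker_mk' N).symm.le.trans (ker_le_comap _ _)
  refine ⟨n + 1, Fin.cons ⊥ fun i => (S i).comap (QuotientGroup.mk' N), rfl, ?_, ?_, ?_, ?_⟩
  · rw [← Fin.succ_last, Fin.cons_succ, h1, comap_top]
  · intro i j hij
    induction i using Fin.cases with
    | zero => simp
    | succ i =>
      induction j using Fin.cases with
      | zero => exact absurd hij (not_le.mpr (Fin.succ_pos i))
      | succ j => simp only [Fin.cons_succ]; exact comap_mono (hm (Fin.succ_le_succ_iff.mp hij))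
  · intro i
    induction i using Fin.cases with
    | zero => rw [Fin.cons_zero]; infer_instance
    | succ i => rw [Fin.cons_succ]; exact (hn i).comap _
  · intro i
    induction i using Fin.cases with
    | zero =>
      left
      rw [Fin.castSucc_zero, Fin.cons_zero, Fin.cons_succ, h0, relIndex_bot_left, MonoidHom.comap_bot,
        QuotientGroup.ker_mk']
      exact hN.exists_card_eq
    | succ i =>
      rw [← Fin.succ_castSucc, Fin.cons_succ, Fin.cons_succ,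
        relIndex_comap, map_comap_eq_self_of_surjective (QuotientGroup.mk'_surjective N)]
      exact hi i

set_option maxHeartbeats 1600000 in
theorem result {G : Type*} [Group G] [Finite G]
    (p q : ℕ) [Fact p.Prime] [Fact q.Prime] (hpq : p ≠ q) (h23 : ¬ ((p = 2 ∧ q = 3) ∨ (p = 3 ∧ q = 2)))
    (hsol : ∀ H : Subgroup G, IsPGroup p ↥H →
      Cfsg.IsPSolvable p (↥(Subgroup.normalizer (H : Set G)) ⧸ (Subgroup.centralizer (H : Set G)).subgroupOf (Subgroup.normalizer (H : Set G))))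
    (H : Subgroup G) (hH : IsPGroup p ↥H)
    (hq : q ∣ ((Subgroup.centralizer (H : Set G)).subgroupOf (Subgroup.normalizer (H : Set G))).index)
    (Gp : Sylow p G) :
    ∃ K : Subgroup G, K ≤ (Gp : Subgroup G) ∧ (Gp : Subgroup G) ≤ Subgroup.normalizer (K : Set G) ∧
      q ∣ ((Subgroup.centralizer (K : Set G)).subgroupOf (Subgroup.normalizer (K : Set G))).index := by
  classical
  have hp' : p.Prime := Fact.out
  have hq' : q.Prime := Fact.out
  let v : Subgroup G → ℕ := fun T => (Nat.card ↥(normalizer (T : Set G))).factorization p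
  let key : Subgroup G → ℕ := fun T => v T * (Nat.card G + 1) + Nat.card ↥T
  let Good : Subgroup G → Prop := fun T =>
    IsPGroup p ↥T ∧ q ∣ ((centralizer (T : Set G)).subgroupOf (normalizer (T : Set G))).index
  obtain ⟨H₀, hH₀, hmax⟩ := Set.exists_max_image {T | Good T} key (Set.toFinite _) ⟨H, hH, hq⟩
  -- replace `H₀` by a conjugate placed well with respect to `Gp`
  obtain ⟨S⟩ := (inferInstance : Nonempty (Sylow p ↥(normalizer (H₀ : Set G))))
  obtain ⟨R, hR⟩ := (S.2.map (normalizer (H₀ : Set G)).subtype).exists_le_sylow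
  obtain ⟨c, hc⟩ := MulAction.exists_smul_eq G R Gp
  set H₁ := H₀.map (MulAut.conj c).toMonoidHom with hH₁
  have hN₁ : (normalizer (H₀ : Set G)).map (MulAut.conj c).toMonoidHom = normalizer (H₁ : Set G) :=
    map_equiv_normalizer_eq H₀ (MulAut.conj c)
  have hp₁ : IsPGroup p ↥H₁ := hH₀.1.map _
  have hq₁ : q ∣ ((centralizer (H₁ : Set G)).subgroupOf (normalizer (H₁ : Set G))).index := by
    obtain ⟨x, hxN, hxC, hxq⟩ := exists_elem hH₀.2
    obtain ⟨y, hy, hyC, a, ha⟩ := exists_qpow hxC hxq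
    refine dvd_of_elem (x := c * y * c⁻¹) (hN₁ ▸ ⟨y, zpowers_le.mpr hxN hy, rfl⟩) (fun h => hyC ?_) (a := a) ?_
    · refine mem_centralizer_iff.mpr fun t ht => ?_
      have h1 := mem_centralizer_iff.mp h (c * t * c⁻¹) ⟨t, ht, rfl⟩
      have h2 := congrArg (fun z => c⁻¹ * z * c) h1
      simpa [mul_assoc] using h2
    · rw [conj_pow, ha, mul_one, mul_inv_cancel]
  have hv₁ : v H₁ = v H₀ := by
    simp only [v]; rw [← hN₁, card_map_of_injective (f := (MulAut.conj c).toMonoidHom) (MulAut.conj c).injective]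
  have hmax₁ : ∀ T, Good T → v H₁ ≤ v T → Nat.card ↥T ≤ Nat.card ↥H₁ ∧ v T = v H₁ := by
    intro T hT hle
    have h := hmax T hT
    have h0 : Nat.card ↥H₁ = Nat.card ↥H₀ := card_map_of_injective (f := (MulAut.conj c).toMonoidHom) (MulAut.conj c).injective
    simp only [key] at h
    have hb : Nat.card ↥H₀ ≤ Nat.card G := H₀.card_le_card_group
    have : v T = v H₁ := by
      refine le_antisymm ?_ hle
      rw [hv₁]
      by_contra hlt
      push Not at hlt
      have := Nat.mul_le_mul_right (Nat.card G + 1) hlt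
      rw [Nat.succ_mul] at this
      omega
    refine ⟨?_, this⟩
    rw [this, hv₁] at h
    omega
  set P0 := (Gp : Subgroup G) ⊓ normalizer (H₁ : Set G) with hP0
  have hP0p : IsPGroup p ↥P0 := Gp.2.to_le inf_le_left
  have hbound : ∀ U : Subgroup G, IsPGroup p ↥U → U ≤ normalizer (H₁ : Set G) →
      Nat.card ↥U ≤ p ^ v H₁ := by
    intro U hU hle
    obtain ⟨k, hk⟩ := hU.exists_card_eq
    rw [hk]
    exact Nat.pow_le_pow_right hp'.pos
      ((hp'.pow_dvd_iff_le_factorization Nat.card_pos.ne').mp (hk ▸ card_dvd_of_le hle))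
  have hP0card : Nat.card ↥P0 = p ^ v H₁ := by
    refine le_antisymm (hbound P0 hP0p inf_le_right) ?_
    rw [hv₁]
    simp only [v]
    rw [← S.card_eq_multiplicity,
      ← card_map_of_injective (K := (S : Subgroup _)) (normalizer (H₀ : Set G)).subtype_injective,
      ← card_map_of_injective (f := (MulAut.conj c).toMonoidHom) (MulAut.conj c).injective]
    refine card_le_of_le ?_
    rintro _ ⟨s, hs, rfl⟩
    exact ⟨hc ▸ ⟨s, hR hs, rfl⟩, hN₁ ▸ ⟨s, map_subtype_le _ hs, rfl⟩⟩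
  have hH₁P0 : H₁ ≤ P0 := by
    have hsup : IsPGroup p ↥(H₁ ⊔ P0) := hp₁.to_sup_of_normal_left' hP0p inf_le_right
    have heq := eq_of_le_of_card_ge (le_sup_right : P0 ≤ H₁ ⊔ P0)
      (hP0card ▸ hbound _ hsup (sup_le le_normalizer inf_le_right))
    exact heq ▸ le_sup_left
  by_cases htop : (Gp : Subgroup G) ≤ normalizer (H₁ : Set G)
  · exact ⟨H₁, hH₁P0.trans inf_le_left, htop, hq₁⟩
  exfalso
  have hP0lt : P0 < (Gp : Subgroup G) :=
    lt_of_le_of_ne inf_le_left fun h => htop (h.symm.le.trans inf_le_right)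
  -- a subgroup between `H₁` and `P0` with the same properties equals `H₁`
  have grow : ∀ T : Subgroup G, H₁ ≤ T → T ≤ P0 → P0 ≤ normalizer (T : Set G) →
      ∀ x ∈ normalizer (T : Set G), x ∉ centralizer (H₁ : Set G) → x ^ q ∈ centralizer (H₁ : Set G) →
        T = H₁ := by
    intro T h1 h2 h3 x hxT hxC hxq
    obtain ⟨y, hy, hyC, a, ha⟩ := exists_qpow hxC hxq
    have hgood : Good T := ⟨hP0p.to_le h2, dvd_of_elem (zpowers_le.mpr hxT hy)
      (fun hc' => hyC (centralizer_le h1 hc')) ha⟩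
    have hv : v H₁ ≤ v T :=
      (hp'.pow_dvd_iff_le_factorization Nat.card_pos.ne').mp (hP0card ▸ card_dvd_of_le h3)
    exact (eq_of_le_of_card_ge h1 (hmax₁ T hgood hv).1).symm
  -- inside the normalizer
  set N := normalizer (H₁ : Set G) with hNdef
  set C := (centralizer (H₁ : Set G)).subgroupOf N with hCdef
  set HN := H₁.subgroupOf N with hHN
  have hH₁N : H₁ ≤ N := le_normalizer
  have hCn : C.Normal := inferInstance
  have hHNn : HN.Normal := normal_in_normalizer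
  set PN : Sylow p ↥N := Sylow.ofCard (P0.subgroupOf N) (by
    rw [Nat.card_congr (subgroupOfEquivOfLe (inf_le_right : P0 ≤ N)).toEquiv, hP0card]) with hPN
  have hPNmem : ∀ x : ↥N, x ∈ (PN : Subgroup ↥N) ↔ (x : G) ∈ P0 := fun x => by
    rw [hPN, Sylow.coe_ofCard, mem_subgroupOf]
  have hHNP : HN ≤ (PN : Subgroup ↥N) := fun x hx => (hPNmem x).mpr (hH₁P0 hx)
  have hHNp : IsPGroup p ↥HN := PN.2.to_le hHNP
  have hCH : ∀ c ∈ C, ∀ h ∈ HN, h * c = c * h := fun c hc h hh =>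
    Subtype.ext (mem_centralizer_iff.mp hc (h : G) hh)
  have hsub : ∀ (T : Subgroup ↥N) (x : ↥N), x ∈ normalizer (T : Set ↥N) →
      (x : G) ∈ normalizer (T.map N.subtype : Set G) := fun T x hx =>
    le_normalizer_map N.subtype ⟨x, hx, rfl⟩
  have hTmap : ∀ T : Subgroup ↥N, HN ≤ T → T ≤ (PN : Subgroup ↥N) →
      H₁ ≤ T.map N.subtype ∧ T.map N.subtype ≤ P0 := by
    intro T h1 h2
    refine ⟨fun h hh => ⟨⟨h, hH₁N hh⟩, h1 hh, rfl⟩, ?_⟩
    rintro _ ⟨t, ht, rfl⟩
    exact (hPNmem t).mp (h2 ht)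
  have hgrowN : ∀ T : Subgroup ↥N, HN ≤ T → T ≤ (PN : Subgroup ↥N) →
      (∀ s ∈ (PN : Subgroup ↥N), s ∈ normalizer (T : Set ↥N)) →
      ∀ x : ↥N, x ∈ normalizer (T : Set ↥N) → x ∉ C → x ^ q ∈ C → T = HN := by
    intro T h1 h2 h3 x hxT hxC hxq
    obtain ⟨e1, e2⟩ := hTmap T h1 h2
    have h := grow _ e1 e2 (fun s hs => hsub T ⟨s, inf_le_right (a := (Gp : Subgroup G)) hs⟩
      (h3 _ ((hPNmem _).mpr hs))) x (hsub T x hxT) hxC (by simpa [hCdef, mem_subgroupOf] using hxq)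
    refine le_antisymm (fun t ht => ?_) h1
    have : (t : G) ∈ H₁ := h ▸ mem_map_of_mem N.subtype ht
    exact this
  -- `C` has Sylow subgroup inside `HN`
  have hDH : (PN : Subgroup ↥N) ⊓ C ≤ HN := by
    obtain ⟨x, hxN, hxC, hxq⟩ := exists_elem hq₁
    obtain ⟨j, hj, hjx⟩ := exists_mul_mem_normalizer (J := C) (inf_le_right : (PN : Subgroup ↥N) ⊓ C ≤ C)
      (PN.2.to_le inf_le_left) (fun U hU hU' => card_le_inf PN C hU hU')
      (x := (⟨x, hxN⟩ : ↥N)) (by rw [normalizer_eq_top]; exact mem_top _)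
    have hsupn : ∀ s : ↥N, s ∈ normalizer (((PN : Subgroup ↥N) ⊓ C : Subgroup ↥N) : Set ↥N) →
        s ∈ normalizer ((HN ⊔ ((PN : Subgroup ↥N) ⊓ C) : Subgroup ↥N) : Set ↥N) := by
      intro s hs
      refine mem_normalizer_fintype fun t ht => ?_
      have hle : (HN ⊔ ((PN : Subgroup ↥N) ⊓ C)).map (MulAut.conj s).toMonoidHom ≤
          HN ⊔ ((PN : Subgroup ↥N) ⊓ C) := by
        rw [Subgroup.map_sup]
        refine sup_le_sup ?_ ?_ <;> rintro _ ⟨y, hy, rfl⟩
        · exact hHNn.conj_mem y hy s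
        · exact (mem_normalizer_iff.mp hs y).mp hy
      exact hle ⟨t, ht, rfl⟩
    have heq := hgrowN (HN ⊔ ((PN : Subgroup ↥N) ⊓ C)) le_sup_left (sup_le hHNP inf_le_left)
      (fun s hs => hsupn s (mem_normalizer_fintype fun t ht =>
        ⟨(PN : Subgroup ↥N).mul_mem ((PN : Subgroup ↥N).mul_mem hs ht.1) ((PN : Subgroup ↥N).inv_mem hs), hCn.conj_mem t ht.2 s⟩))
      (j * ⟨x, hxN⟩) (hsupn _ hjx) ?_ ?_
    · exact heq ▸ le_sup_right
    · intro h
      exact hxC ((mem_subgroupOf (H := centralizer (H₁ : Set G))).mp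
        ((C.mul_mem_cancel_left hj).mp h))
    · have h1 : (((j * ⟨x, hxN⟩) ^ q : ↥N) : ↥N ⧸ C) = 1 := by
        rw [QuotientGroup.mk_pow, QuotientGroup.mk_mul, (QuotientGroup.eq_one_iff j).mpr hj, one_mul,
          ← QuotientGroup.mk_pow, QuotientGroup.eq_one_iff]
        simpa [hCdef, mem_subgroupOf] using hxq
      exact (QuotientGroup.eq_one_iff _).mp h1
  set K := pPrimeCore p ↥N with hK
  have hKcop : (Nat.card ↥K).Coprime p := PLocal.Cores.coprime_card_pPrimeCore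
  have hKH : ∀ k ∈ K, ∀ h ∈ HN, h * k = k * h := fun k hk h hh =>
    (mem_centralizer_iff.mp (PLocal.Cores.pCore_le_centralizer_pPrimeCore (PLocal.Cores.le_pCore hHNp hh)) k hk).symm
  have hKC : K ≤ C := fun k hk => mem_subgroupOf.mpr (mem_centralizer_iff.mpr fun h hh =>
    congrArg Subtype.val (hKH k hk ⟨h, hH₁N hh⟩ hh))
  set π := QuotientGroup.mk' K with hπ
  have hπs : Function.Surjective π := QuotientGroup.mk'_surjective K
  have hπinj : ∀ a ∈ (PN : Subgroup ↥N), ∀ b ∈ (PN : Subgroup ↥N), π a = π b → a = b := by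
    intro a ha b hb hab
    have h1 : a⁻¹ * b ∈ (PN : Subgroup ↥N) ⊓ K :=
      ⟨(PN : Subgroup ↥N).mul_mem ((PN : Subgroup ↥N).inv_mem ha) hb, QuotientGroup.eq.mp hab⟩
    rw [PLocal.Cores.inf_eq_bot_of_isPGroup_of_coprime PN.2 hKcop, mem_bot, inv_mul_eq_one] at h1
    exact h1
  obtain ⟨PM, hPM⟩ : ∃ PM : Sylow p (↥N ⧸ K), (PM : Subgroup (↥N ⧸ K)) = (PN : Subgroup ↥N).map π :=
    ⟨PN.mapSurjective hπs, Sylow.coe_mapSurjective _ _⟩
  set Hb := HN.map π with hHb
  have hHbn : Hb.Normal := hHNn.map π hπs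
  have hHbP : Hb ≤ (PM : Subgroup (↥N ⧸ K)) := hPM ▸ map_mono hHNP
  have hCb : C.map π ≤ Hb := by
    have hSy : ¬ p ∣ (((PN : Subgroup ↥N) ⊓ C).subgroupOf C).index := by
      obtain ⟨S', hS'⟩ := ((PN.2.to_le (inf_le_left : (PN : Subgroup ↥N) ⊓ C ≤ _)).comap_subtype (K := C)).exists_le_sylow
      have : ((PN : Subgroup ↥N) ⊓ C).subgroupOf C = (S' : Subgroup ↥C) := by
        refine eq_of_le_of_card_ge hS' ?_
        rw [← card_map_of_injective (K := (S' : Subgroup ↥C)) C.subtype_injective,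
          Nat.card_congr (subgroupOfEquivOfLe (inf_le_right : (PN : Subgroup ↥N) ⊓ C ≤ C)).toEquiv]
        exact card_le_inf PN C (map_subtype_le _) (S'.2.map _)
      rw [this]; exact S'.not_dvd_index
    have hcomp : HasNormalPComplement p ↥C := PLocal.PSolvable.hasNormalPComplement_of_central
      (Z := ((PN : Subgroup ↥N) ⊓ C).subgroupOf C)
      (fun d hd => mem_center_iff.mpr fun x => Subtype.ext (hCH x x.2 d (hDH hd)).symm)
      ((PN.2.to_le inf_le_left).comap_subtype) hSy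
    obtain ⟨S', hS'⟩ := ((PN.2.to_le (inf_le_left : (PN : Subgroup ↥N) ⊓ C ≤ _)).comap_subtype (K := C)).exists_le_sylow
    obtain ⟨M, hMn, hM⟩ := (Transfer.NormalPComplement.hasNormalPComplement_iff_sylow S').mp hcomp
    have hMK : M.map C.subtype ≤ K := by
      have hMcop : (Nat.card ↥M).Coprime p := by
        rw [← hM.index_eq_card]
        exact ((hp'.coprime_iff_not_dvd).mpr S'.not_dvd_index).symm
      have hMe : M = pPrimeCore p ↥C := by
        obtain ⟨k, hk⟩ := S'.2.exists_card_eq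
        refine le_antisymm (PLocal.Cores.le_pPrimeCore hMcop) fun x hx => ?_
        exact (Transfer.NormalPComplement.mem_iff_coprime_of_isComplement' hM).mpr
          (Nat.Coprime.coprime_dvd_left (orderOf_dvd_natCard _ hx) PLocal.Cores.coprime_card_pPrimeCore)
      rw [hMe]
      exact PLocal.Cores.map_subtype_pPrimeCore_le C
    have hS'H : ∀ s ∈ (S' : Subgroup ↥C), (s : ↥N) ∈ HN := by
      intro s hs
      have he : ((PN : Subgroup ↥N) ⊓ C).subgroupOf C = (S' : Subgroup ↥C) := by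
        refine eq_of_le_of_card_ge hS' ?_
        rw [← card_map_of_injective (K := (S' : Subgroup ↥C)) C.subtype_injective,
          Nat.card_congr (subgroupOfEquivOfLe (inf_le_right : (PN : Subgroup ↥N) ⊓ C ≤ C)).toEquiv]
        exact card_le_inf PN C (map_subtype_le _) (S'.2.map _)
      rw [← he] at hs
      exact hDH hs
    rintro _ ⟨x, hx, rfl⟩
    obtain ⟨⟨⟨m, hm⟩, ⟨s, hs⟩⟩, hms⟩ := hM.2 ⟨x, hx⟩
    have hx' : x = (m : ↥N) * (s : ↥N) := (congrArg Subtype.val hms).symm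
    rw [hx', map_mul, show π (m : ↥N) = 1 from (QuotientGroup.eq_one_iff _).mpr (hMK ⟨m, hm, rfl⟩), one_mul]
    exact mem_map_of_mem π (hS'H s hs)
  have hCHb : centralizer (Hb : Set (↥N ⧸ K)) ≤ Hb := by
    intro z hz
    obtain ⟨n, rfl⟩ := hπs z
    refine hCb (mem_map_of_mem π (mem_subgroupOf.mpr (mem_centralizer_iff.mpr fun h hh => ?_)))
    have hh' : (⟨h, hH₁N hh⟩ : ↥N) ∈ HN := hh
    have hconj : n * ⟨h, hH₁N hh⟩ * n⁻¹ ∈ HN := hHNn.conj_mem _ hh' n
    have h2 : π (n * ⟨h, hH₁N hh⟩ * n⁻¹) = π ⟨h, hH₁N hh⟩ := by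
      rw [map_mul, map_mul, map_inv, ← mem_centralizer_iff.mp hz _ (mem_map_of_mem π hh'), mul_inv_cancel_right]
    have h3 := congrArg Subtype.val (hπinj _ (hHNP hconj) _ (hHNP hh') h2)
    push_cast at h3
    exact (mul_inv_eq_iff_eq_mul.mp h3).symm
  -- a minimal subgroup
  have hqM : q ∣ Nat.card (↥N ⧸ K) := by
    have h1 : q ∣ C.index := hq₁
    rw [← index_eq_card]
    exact h1.trans (index_dvd_of_le hKC)
  obtain ⟨L, ⟨hPL, hqL⟩, hLmin⟩ := Set.exists_min_image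
    {L : Subgroup (↥N ⧸ K) | (PM : Subgroup (↥N ⧸ K)) ≤ L ∧ q ∣ Nat.card ↥L} (fun L => Nat.card ↥L)
    (Set.toFinite _) ⟨⊤, le_top, by rwa [card_top]⟩
  obtain ⟨PY, hPYc⟩ : ∃ PY : Sylow p ↥L, (PY : Subgroup ↥L) = (PM : Subgroup (↥N ⧸ K)).subgroupOf L :=
    ⟨PM.subtype hPL, Sylow.coe_subtype _ _⟩
  have hminY : ∀ L' : Subgroup ↥L, (PY : Subgroup ↥L) ≤ L' → q ∣ Nat.card ↥L' → L' = ⊤ := by
    intro L' h1 h2
    have hc := card_map_of_injective (K := L') L.subtype_injective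
    refine eq_top_of_le_card L' ?_
    rw [← hc]
    exact hLmin _ ⟨fun x hx => ⟨⟨x, hPL hx⟩, h1 (hPYc ▸ hx), rfl⟩, hc ▸ h2⟩
  have hcore : pCore p ↥L = Hb.subgroupOf L := by
    refine le_antisymm ?_ (PLocal.Cores.le_pCore ((PM.2.to_le hHbP).comap_subtype))
    obtain ⟨y, hy⟩ := exists_prime_orderOf_dvd_card' q hqL
    set T₁ := (pCore p ↥L).map L.subtype with hT₁
    have hT₁P : T₁ ≤ (PM : Subgroup (↥N ⧸ K)) := by
      rintro _ ⟨t, ht, rfl⟩
      have h1 := PLocal.Cores.pCore_le_sylow PY ht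
      rw [hPYc] at h1
      exact h1
    have hLT₁ : ∀ g ∈ L, g ∈ normalizer (T₁ : Set (↥N ⧸ K)) := fun g hg => by
      refine mem_normalizer_fintype ?_
      rintro _ ⟨t, ht, rfl⟩
      exact ⟨⟨g, hg⟩ * t * ⟨g, hg⟩⁻¹, (inferInstance : (pCore p ↥L).Normal).conj_mem t ht _, rfl⟩
    have hJ : ∀ g : ↥N, π g ∈ L → g ∈ normalizer (T₁.comap π : Set ↥N) := fun g hg => by
      refine mem_normalizer_fintype fun t ht => ?_
      rw [SetLike.mem_coe, mem_comap, map_mul, map_mul, map_inv]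
      exact (mem_normalizer_iff.mp (hLT₁ _ hg) _).mp ht
    set T := (PN : Subgroup ↥N) ⊓ T₁.comap π with hT
    have hHbT₁ : Hb ≤ T₁ := fun z hz => ⟨⟨z, hPL (hHbP hz)⟩,
      PLocal.Cores.le_pCore ((PM.2.to_le hHbP).comap_subtype) (show (⟨z, _⟩ : ↥L) ∈ Hb.subgroupOf L from hz), rfl⟩
    have hlift : ∀ z ∈ T₁, ∃ t ∈ T, π t = z := by
      intro z hz
      have hz' := hT₁P hz
      rw [hPM] at hz'
      obtain ⟨t, ht, rfl⟩ := hz'
      exact ⟨t, ⟨ht, hz⟩, rfl⟩
    have hTcard : ∀ U : Subgroup ↥N, U ≤ T₁.comap π → IsPGroup p ↥U → Nat.card ↥U ≤ Nat.card ↥T := by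
      intro U hU hU'
      have hinjU : Nat.card ↥U ≤ Nat.card ↥T₁ := by
        refine Nat.card_le_card_of_injective (fun u => ⟨π (u : ↥N), hU u.2⟩) fun a b hab => ?_
        have h1 : (a : ↥N)⁻¹ * b ∈ U ⊓ K :=
          ⟨U.mul_mem (U.inv_mem a.2) b.2, QuotientGroup.eq.mp (congrArg Subtype.val hab)⟩
        rw [PLocal.Cores.inf_eq_bot_of_isPGroup_of_coprime hU' hKcop, mem_bot, inv_mul_eq_one] at h1
        exact Subtype.ext h1
      refine hinjU.trans (Nat.card_le_card_of_surjective (fun t : ↥T => (⟨π (t : ↥N), t.2.2⟩ : ↥T₁)) ?_)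
      rintro ⟨z, hz⟩
      obtain ⟨t, ht, rfl⟩ := hlift z hz
      exact ⟨⟨t, ht⟩, rfl⟩
    obtain ⟨x₀, hx₀⟩ := hπs (y : ↥N ⧸ K)
    obtain ⟨j, hj, hjx⟩ := exists_mul_mem_normalizer (inf_le_right : T ≤ T₁.comap π)
      (PN.2.to_le inf_le_left) hTcard (hJ x₀ (hx₀ ▸ y.2))
    obtain ⟨t, ht, htj⟩ := hlift (π j) hj
    have hx' : π (t⁻¹ * (j * x₀)) = (y : ↥N ⧸ K) := by
      rw [map_mul, map_inv, map_mul, htj, inv_mul_cancel_left, hx₀]
    have hy1 : orderOf (y : ↥N ⧸ K) = q := by rw [Subgroup.orderOf_coe, hy]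
    have hTeq := hgrowN T (le_inf hHNP fun h hh => hHbT₁ (mem_map_of_mem π hh)) inf_le_left
      (fun s hs => mem_normalizer_fintype fun u hu => ⟨(PN : Subgroup ↥N).mul_mem ((PN : Subgroup ↥N).mul_mem hs hu.1) ((PN : Subgroup ↥N).inv_mem hs),
        (mem_normalizer_iff.mp (hJ s (hPL (hPM ▸ mem_map_of_mem π hs))) u).mp hu.2⟩)
      (t⁻¹ * (j * x₀)) (mul_mem (inv_mem (le_normalizer ht)) hjx) ?_ ?_
    · intro z hz
      obtain ⟨u, hu, hu'⟩ := hlift (z : ↥N ⧸ K) ⟨z, hz, rfl⟩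
      rw [mem_subgroupOf, ← hu']
      exact mem_map_of_mem π (hTeq ▸ hu)
    · intro h
      have h1 := hHbP (hCb (mem_map_of_mem π h))
      rw [hx'] at h1
      obtain ⟨k, hk⟩ := IsPGroup.iff_orderOf.mp PM.2 ⟨_, h1⟩
      rw [← Subgroup.orderOf_coe] at hk
      change orderOf (y : ↥N ⧸ K) = _ at hk
      rw [hy1] at hk
      exact hpq ((Nat.prime_dvd_prime_iff_eq hq' hp').mp (hq'.dvd_of_dvd_pow (dvd_of_eq hk))).symm
    · refine hKC ((QuotientGroup.eq_one_iff _).mp ?_)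
      change π ((t⁻¹ * (j * x₀)) ^ q) = 1
      rw [map_pow, hx', ← hy1, pow_orderOf_eq_one]
  have hCY : centralizer (pCore p ↥L : Set ↥L) ≤ pCore p ↥L := by
    rw [hcore]
    intro z hz
    refine mem_subgroupOf.mpr (hCHb (mem_centralizer_iff.mpr fun h hh => ?_))
    exact congrArg Subtype.val (mem_centralizer_iff.mp hz ⟨h, hPL (hHbP hh)⟩ hh)
  -- `p`-solvability
  have hsolY' : IsPSolvable p (↥L ⧸ pCore p ↥L) := by
    let f : ↥N ⧸ C →* (↥N ⧸ K) ⧸ Hb := QuotientGroup.lift C ((QuotientGroup.mk' Hb).comp π)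
      fun c hc => (QuotientGroup.eq_one_iff _).mpr (hCb (mem_map_of_mem π hc))
    have hfs : Function.Surjective f := by
      intro z
      obtain ⟨w, rfl⟩ := QuotientGroup.mk'_surjective Hb z
      obtain ⟨n, rfl⟩ := hπs w
      exact ⟨QuotientGroup.mk n, rfl⟩
    have hM : IsPSolvable p ((↥N ⧸ K) ⧸ Hb) := PLocal.PSolvable.of_surjective (hsol H₁ hp₁) hfs
    let g : ↥L →* (↥N ⧸ K) ⧸ Hb := (QuotientGroup.mk' Hb).comp L.subtype
    have hg : g.ker = pCore p ↥L := by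
      rw [hcore]
      ext z
      exact QuotientGroup.eq_one_iff _
    exact PLocal.PSolvable.congr ((QuotientGroup.quotientMulEquivOfEq hg).symm.trans
      (QuotientGroup.quotientKerEquivRange g)).symm (PLocal.PSolvable.subgroup hM g.range)
  have hsolY : IsPSolvable p ↥L := isPSolvable_of_quotient (pCore p ↥L) PLocal.Cores.isPGroup_pCore hsolY'
  -- `L` is a `{p, q}`-group
  have hqnot : ∀ {n : ℕ}, (∃ k, n = p ^ k) → ¬ q ∣ n := by
    rintro n ⟨k, rfl⟩ hd
    exact hpq ((Nat.prime_dvd_prime_iff_eq hq' hp').mp (hq'.dvd_of_dvd_pow hd)).symm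
  have hprimes : ∀ r : ℕ, r.Prime → r ∣ Nat.card ↥L → r = p ∨ r = q := by
    set ρ := QuotientGroup.mk' (pCore p ↥L) with hρ
    have hρs : Function.Surjective ρ := QuotientGroup.mk'_surjective _
    obtain ⟨PZ, hPZc⟩ : ∃ PZ : Sylow p (↥L ⧸ pCore p ↥L), (PZ : Subgroup _) = (PY : Subgroup ↥L).map ρ :=
      ⟨PY.mapSurjective hρs, Sylow.coe_mapSurjective _ _⟩
    have hqZ : q ∣ Nat.card (↥L ⧸ pCore p ↥L) := by
      have h := hqL
      rw [card_eq_card_quotient_mul_card_subgroup (pCore p ↥L)] at h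
      exact (hq'.dvd_mul.mp h).resolve_right (hqnot (PLocal.Cores.isPGroup_pCore).exists_card_eq)
    have hminZ : ∀ L' : Subgroup (↥L ⧸ pCore p ↥L), (PZ : Subgroup _) ≤ L' → q ∣ Nat.card ↥L' → L' = ⊤ := by
      intro L' h1 h2
      refine comap_injective hρs ?_
      rw [comap_top]
      refine hminY _ (fun x hx => mem_comap.mpr (h1 (hPZc ▸ mem_map_of_mem ρ hx))) ?_
      rw [PLocal.Cores.card_eq_card_inf_ker_mul_card_map (L'.comap ρ) ρ, map_comap_eq_self_of_surjective hρs]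
      exact Dvd.dvd.mul_left h2 _
    have : Nontrivial (↥L ⧸ pCore p ↥L) := Finite.one_lt_card_iff_nontrivial.mp
      (lt_of_lt_of_le hq'.one_lt (Nat.le_of_dvd Nat.card_pos hqZ))
    set N1 := pPrimeCore p (↥L ⧸ pCore p ↥L) with hN1
    have hN1n : N1.Normal := inferInstance
    have hN1cop : (Nat.card ↥N1).Coprime p := PLocal.Cores.coprime_card_pPrimeCore
    by_cases hqN1 : q ∣ Nat.card ↥N1
    · have hcopPZ : (Nat.card ↥(PZ : Subgroup (↥L ⧸ pCore p ↥L))).Coprime (Nat.card ↥N1) := by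
        obtain ⟨k, hk⟩ := PZ.2.exists_card_eq
        rw [hk]; exact hN1cop.symm.pow_left k
      have : Group.IsNilpotent ↥(PZ : Subgroup (↥L ⧸ pCore p ↥L)) := PZ.2.isNilpotent
      obtain ⟨Qs, hQs⟩ := Coprime.exists_invariant_sylow q (A := (PZ : Subgroup (↥L ⧸ pCore p ↥L))) (K := N1)
        (by rw [normalizer_eq_top]; exact le_top) hcopPZ (Or.inl inferInstance)
      set Q' := (Qs : Subgroup ↥N1).map N1.subtype with hQ'
      have hQ'card : Nat.card ↥Q' = Nat.card ↥(Qs : Subgroup ↥N1) :=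
        card_map_of_injective N1.subtype_injective
      have hQ'ne : q ∣ Nat.card ↥Q' := hQ'card ▸ Qs.dvd_card_of_dvd_card hqN1
      have hle' : Q' ≤ (PZ : Subgroup (↥L ⧸ pCore p ↥L)) ⊔ Q' := le_sup_right
      have hd' : q ∣ Nat.card ↥((PZ : Subgroup (↥L ⧸ pCore p ↥L)) ⊔ Q') := hQ'ne.trans (card_dvd_of_le hle')
      have htop' : (PZ : Subgroup (↥L ⧸ pCore p ↥L)) ⊔ Q' = ⊤ :=
        hminZ ((PZ : Subgroup (↥L ⧸ pCore p ↥L)) ⊔ Q') le_sup_left hd'
      have hdis : Disjoint (PZ : Subgroup (↥L ⧸ pCore p ↥L)) Q' := by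
        rw [disjoint_iff]
        exact le_bot_iff.mp ((inf_le_inf_left _ (map_subtype_le _)).trans
          (PLocal.Cores.inf_eq_bot_of_isPGroup_of_coprime PZ.2 hN1cop).le)
      have hnorm : (PZ : Subgroup (↥L ⧸ pCore p ↥L)) ≤ normalizer (Q' : Set _) := hQs
      have hcard := Coprime.card_sup_of_disjoint hnorm hdis.symm
      rw [sup_comm, htop', card_top] at hcard
      intro r hr hd
      rw [card_eq_card_quotient_mul_card_subgroup (pCore p ↥L), hcard] at hd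
      have hpp : ∀ {n : ℕ}, (∃ k, n = p ^ k) → r ∣ n → r = p := by
        rintro n ⟨k, rfl⟩ hd
        exact (Nat.prime_dvd_prime_iff_eq hr hp').mp (hr.dvd_of_dvd_pow hd)
      rcases hr.dvd_mul.mp hd with h | h
      · rcases hr.dvd_mul.mp h with h | h
        · obtain ⟨k, hk⟩ := Qs.2.exists_card_eq
          rw [hQ'card, hk] at h
          exact Or.inr ((Nat.prime_dvd_prime_iff_eq hr hq').mp (hr.dvd_of_dvd_pow h))
        · exact Or.inl (hpp PZ.2.exists_card_eq h)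
      · exact Or.inl (hpp (PLocal.Cores.isPGroup_pCore).exists_card_eq h)
    · exfalso
      set σ := QuotientGroup.mk' N1 with hσ
      have hσs : Function.Surjective σ := QuotientGroup.mk'_surjective _
      have hqZ2 : q ∣ Nat.card ((↥L ⧸ pCore p ↥L) ⧸ N1) := by
        rw [card_eq_card_quotient_mul_card_subgroup N1] at hqZ
        exact (hq'.dvd_mul.mp hqZ).resolve_right hqN1
      have : Nontrivial ((↥L ⧸ pCore p ↥L) ⧸ N1) := Finite.one_lt_card_iff_nontrivial.mp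
        (lt_of_lt_of_le hq'.one_lt (Nat.le_of_dvd Nat.card_pos hqZ2))
      have hR1 : pCore p ((↥L ⧸ pCore p ↥L) ⧸ N1) ≠ ⊥ :=
        (PLocal.PSolvable.exists_core_ne_bot (PLocal.PSolvable.quotient hsolY' N1)).resolve_right
          (not_not_intro PLocal.Cores.pPrimeCore_quotient_pPrimeCore)
      set J := (pCore p ((↥L ⧸ pCore p ↥L) ⧸ N1)).comap σ with hJdef
      set R1 := (PZ : Subgroup (↥L ⧸ pCore p ↥L)) ⊓ J with hR1def
      have hliftR : ∀ z ∈ pCore p ((↥L ⧸ pCore p ↥L) ⧸ N1), ∃ t ∈ R1, σ t = z := by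
        intro z hz
        have h1 := PLocal.Cores.pCore_le_sylow (PZ.mapSurjective hσs) hz
        rw [Sylow.coe_mapSurjective] at h1
        obtain ⟨t, ht, rfl⟩ := h1
        exact ⟨t, ⟨ht, hz⟩, rfl⟩
      have hRn : normalizer (R1 : Set (↥L ⧸ pCore p ↥L)) = ⊤ := by
        refine hminZ _ (fun s hs => mem_normalizer_fintype fun u hu =>
          ⟨(PZ : Subgroup (↥L ⧸ pCore p ↥L)).mul_mem ((PZ : Subgroup (↥L ⧸ pCore p ↥L)).mul_mem hs hu.1) ((PZ : Subgroup (↥L ⧸ pCore p ↥L)).inv_mem hs), (inferInstance : J.Normal).conj_mem u hu.2 s⟩) ?_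
        refine hqZ2.trans (card_dvd_of_surjective (σ.comp (normalizer (R1 : Set (↥L ⧸ pCore p ↥L))).subtype) ?_)
        intro z
        obtain ⟨g, rfl⟩ := hσs z
        obtain ⟨j, hj, hjg⟩ := exists_mul_mem_normalizer (inf_le_right : R1 ≤ J) (PZ.2.to_le inf_le_left)
          (fun U hU hU' => card_le_inf PZ J hU hU') (x := g) (by rw [normalizer_eq_top]; exact mem_top _)
        obtain ⟨t, ht, htj⟩ := hliftR (σ j) hj
        refine ⟨⟨t⁻¹ * (j * g), mul_mem (inv_mem (le_normalizer ht)) hjg⟩, ?_⟩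
        change σ (t⁻¹ * (j * g)) = σ g
        rw [map_mul, map_inv, map_mul, htj, inv_mul_cancel_left]
      have : R1.Normal := normalizer_eq_top_iff.mp hRn
      have hR1bot : R1 = ⊥ := le_bot_iff.mp
        ((PLocal.Cores.le_pCore (PZ.2.to_le (inf_le_left : R1 ≤ _))).trans PLocal.Cores.pCore_quotient_pCore.le)
      refine hR1 (le_bot_iff.mp fun z hz => ?_)
      obtain ⟨t, ht, rfl⟩ := hliftR z hz
      rw [hR1bot, mem_bot] at ht
      rw [mem_bot, ht, map_one]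
  have hmaxY : ∀ L' : Subgroup ↥L, (PY : Subgroup ↥L) < L' → L' = ⊤ := by
    intro L' hlt
    refine hminY L' hlt.le ?_
    by_contra hq0
    have hpg : IsPGroup p ↥L' := IsPGroup.of_card (n := (Nat.card ↥L').primeFactorsList.length)
      (Nat.eq_prime_pow_of_unique_prime_dvd Nat.card_pos.ne' fun {r} hr hd =>
        (hprimes r hr (hd.trans L'.card_subgroup_dvd_card)).resolve_right fun e => hq0 (e ▸ hd))
    exact hlt.ne (PY.3 hpg hlt.le).symm
  obtain ⟨W, hWc, hWn, hWinv, x, hx, w, hw, hwx⟩ :=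
    Lib.AutomizerMove.Characteristic.exists_inv_normal_not_centralized (p := p) (q := q)
      (fun e1 e2 => h23 (Or.inl ⟨e1, e2⟩)) hpq hsolY PY hmaxY hprimes hqL hCY
  -- back to `G`
  set Wb := W.map L.subtype with hWbdef
  have hWbH : Wb ≤ Hb := by
    rintro _ ⟨u, hu, rfl⟩
    have h1 := hWc hu
    rw [hcore] at h1
    exact h1
  set WN := HN ⊓ Wb.comap π with hWNdef
  set WG := WN.map N.subtype with hWGdef
  have hWliftN : ∀ z ∈ Wb, ∃ h ∈ WN, π h = z := by
    intro z hz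
    obtain ⟨h, hh, rfl⟩ := hWbH hz
    exact ⟨h, ⟨hh, hz⟩, rfl⟩
  have hWGH : WG ≤ H₁ := by
    rintro _ ⟨u, hu, rfl⟩
    exact hu.1
  have hNW : ∀ n : ↥N, π n ∈ L → (n : G) ∈ normalizer (WG : Set G) := by
    intro n hn
    refine hsub WN n (mem_normalizer_fintype fun u hu => ⟨hHNn.conj_mem u hu.1 n, ?_⟩)
    obtain ⟨w', hw', hw''⟩ := hu.2
    refine ⟨⟨π n, hn⟩ * w' * ⟨π n, hn⟩⁻¹, hWn.conj_mem w' hw' _, ?_⟩
    have hw3 : ((w' : ↥L) : ↥N ⧸ K) = π u := hw''
    simp [hw3]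
  -- the elements of `Gp` normalizing `P0` normalize `WG`
  let e : ↥P0 → ↥(PY : Subgroup ↥L) := fun a =>
    ⟨⟨π ⟨(a : G), a.2.2⟩, hPL (hPM ▸ mem_map_of_mem π ((hPNmem _).mpr a.2))⟩,
      hPYc ▸ (show π ⟨(a : G), a.2.2⟩ ∈ (PM : Subgroup (↥N ⧸ K)) from hPM ▸ mem_map_of_mem π ((hPNmem _).mpr a.2))⟩
  have he : Function.Bijective e := by
    constructor
    · intro a b hab
      have h1 : π ⟨(a : G), a.2.2⟩ = π ⟨(b : G), b.2.2⟩ :=
        congrArg (fun z : ↥(PY : Subgroup ↥L) => ((z : ↥L) : ↥N ⧸ K)) hab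
      exact Subtype.ext (congrArg (fun z : ↥N => (z : G))
        (hπinj _ ((hPNmem _).mpr a.2) _ ((hPNmem _).mpr b.2) h1))
    · rintro ⟨⟨z, hz⟩, hz'⟩
      have h1 : z ∈ (PM : Subgroup (↥N ⧸ K)) := by
        rw [hPYc] at hz'
        exact hz'
      rw [hPM] at h1
      obtain ⟨n, hn, rfl⟩ := h1
      exact ⟨⟨n, (hPNmem n).mp hn⟩, rfl⟩
  let em : ↥P0 ≃* ↥(PY : Subgroup ↥L) := MulEquiv.mk (Equiv.ofBijective e he) fun a b => by
    refine Subtype.ext (Subtype.ext ?_)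
    exact map_mul π ⟨(a : G), a.2.2⟩ ⟨(b : G), b.2.2⟩
  have hsW : ∀ s ∈ (Gp : Subgroup G) ⊓ normalizer (P0 : Set G), s ∈ normalizer (WG : Set G) := by
    intro s hs
    refine mem_normalizer_fintype ?_
    rintro _ ⟨u, hu, rfl⟩
    have huP : (u : G) ∈ P0 := hH₁P0 hu.1
    let cs : MulAut ↥P0 := (normalizerMonoidHom P0) ⟨s, hs.2⟩
    let α : MulAut ↥(PY : Subgroup ↥L) := (em.symm.trans cs).trans em
    obtain ⟨w', hw', hw''⟩ := hu.2
    have hmem : ((em ⟨u, huP⟩ : ↥(PY : Subgroup ↥L)) : ↥L) ∈ W := by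
      have : ((em ⟨u, huP⟩ : ↥(PY : Subgroup ↥L)) : ↥L) = w' := Subtype.ext hw''.symm
      rw [this]; exact hw'
    have h1 := hWinv α (em ⟨u, huP⟩) hmem
    have h2 : α (em ⟨u, huP⟩) = em (cs ⟨u, huP⟩) := by
      simp [α]
    rw [h2] at h1
    have hcs : ((cs ⟨u, huP⟩ : ↥P0) : G) = s * (u : G) * s⁻¹ := rfl
    set r : ↥P0 := cs ⟨u, huP⟩ with hr
    have h3 : π ⟨(r : G), r.2.2⟩ ∈ Wb := ⟨_, h1, rfl⟩
    obtain ⟨h', hh', he'⟩ := hWliftN _ h3
    have h4 : h' = ⟨(r : G), r.2.2⟩ := hπinj _ (hHNP hh'.1) _ ((hPNmem _).mpr r.2) he'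
    exact ⟨h', hh', by rw [h4]; exact hcs⟩
  obtain ⟨n, hn⟩ := hπs (x : ↥N ⧸ K)
  have hnC : (n : G) ∉ centralizer (WG : Set G) := by
    intro h
    refine hwx (Subtype.ext ?_)
    obtain ⟨u, hu, hu'⟩ := hWliftN _ ⟨w, hw, rfl⟩
    have h1 : u * n = n * u := Subtype.ext (mem_centralizer_iff.mp h (u : G) ⟨u, hu, rfl⟩)
    have h2 := congrArg π h1
    rw [map_mul, map_mul, hn, hu'] at h2
    exact h2
  have hnq : (n : G) ^ q ∈ centralizer (WG : Set G) := by
    refine centralizer_le hWGH ?_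
    have h1 : n ^ q ∈ K := (QuotientGroup.eq_one_iff _).mp (by
      change π (n ^ q) = 1
      rw [map_pow, hn, ← hx, ← Subgroup.orderOf_coe, pow_orderOf_eq_one])
    exact hKC h1
  obtain ⟨y, hy, hyC, a, ha⟩ := exists_qpow hnC hnq
  have hgood : Good WG := ⟨hp₁.to_le hWGH,
    dvd_of_elem (zpowers_le.mpr (hNW n (hn ▸ x.2)) hy) hyC ha⟩
  have hbig : P0 < (Gp : Subgroup G) ⊓ normalizer (P0 : Set G) :=
    Transfer.Frobenius.lt_inf_normalizer Gp.2 hP0lt
  obtain ⟨k, hk⟩ := (Gp.2.to_le (inf_le_left : (Gp : Subgroup G) ⊓ normalizer (P0 : Set G) ≤ _)).exists_card_eq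
  have hvk : v H₁ < k := by
    refine (Nat.pow_lt_pow_iff_right hp'.one_lt).mp ?_
    rw [← hP0card, ← hk]
    by_contra hle
    exact hbig.ne (eq_of_le_of_card_ge hbig.le (not_lt.mp hle))
  have hkW : k ≤ v WG :=
    (hp'.pow_dvd_iff_le_factorization Nat.card_pos.ne').mp (hk ▸ card_dvd_of_le hsW)
  exact absurd (hmax₁ WG hgood (by omega)).2 (by omega)

end Cfsg.Agent.S4411
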