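import Cfsg.Statements.S4412
import Cfsg.Agent.Lib.Coprime.Generation
import Mathlib.GroupTheory.SemidirectProduct
import Mathlib.GroupTheory.FixedPointFree
import Mathlib.RingTheory.Int.Basic

set_option autoImplicit false
open Cfsg

namespace Cfsg.Agent.S4412

open scoped Classical

/-- The automorphism `T` has noncyclic fixed points. -/
def Broad {P : Type*} [Group P] (T : MulAut P) : Prop :=
  ¬ ∃ g : P, ∀ x : P, (T x = x ↔ x ∈ Subgroup.zpowers g)

variable {P : Type*} [Group P]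

theorem card_odd [Finite P] {p : ℕ} (hp : p.Prime) (hp2 : p ≠ 2) (hP : IsPGroup p P) :
    Odd (Nat.card P) := by
  have := Fact.mk hp
  obtain ⟨n, hn⟩ := IsPGroup.iff_card.1 hP
  exact hn ▸ (hp.odd_of_ne_two hp2).pow

theorem sq_eq_one [Finite P] (hodd : Odd (Nat.card P)) {x : P} (h : x * x = 1) : x = 1 := by
  have h2 : orderOf x ∣ 2 := orderOf_dvd_of_pow_eq_one (by rw [pow_two, h])
  have h1 : orderOf x ∣ Nat.gcd 2 (Nat.card P) := Nat.dvd_gcd h2 (orderOf_dvd_natCard x)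
  rw [Nat.Coprime.gcd_eq_one (Nat.coprime_two_left.2 hodd), Nat.dvd_one] at h1
  exact orderOf_eq_one_iff.1 h1

theorem inv_eq_self [Finite P] (hodd : Odd (Nat.card P)) {x : P} (h : x⁻¹ = x) : x = 1 :=
  sq_eq_one hodd (by simpa [h] using mul_inv_cancel x)

/-- Generation by the fixed points of the nontrivial elements of a noncyclic abelian group. -/
theorem gen_fixed [Finite P] (hodd : Odd (Nat.card P)) (W : Subgroup (MulAut P))
    (hW4 : Nat.card W = 4) (hWc : ∀ x ∈ W, ∀ y ∈ W, x * y = y * x) (hWe : ∀ x ∈ W, x * x = 1)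
    (K H : Subgroup P) (hKinv : ∀ T ∈ W, ∀ x ∈ K, T x ∈ K)
    (hfix : ∀ T ∈ W, T ≠ 1 → ∀ x ∈ K, T x = x → x ∈ H) : K ≤ H := by
  let φ : W →* MulAut P := W.subtype
  let G := SemidirectProduct P W φ
  have : Finite G := Finite.of_equiv _ (SemidirectProduct.equivProd (φ := φ)).symm
  let i : P →* G := SemidirectProduct.inl
  let j : W →* G := SemidirectProduct.inr
  let A : Subgroup G := j.range
  have : IsMulCommutative A := ⟨⟨by
    rintro ⟨_, a, rfl⟩ ⟨_, b, rfl⟩
    apply Subtype.ext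
    show j a * j b = j b * j a
    rw [← map_mul, ← map_mul, show a * b = b * a from Subtype.ext (hWc _ a.2 _ b.2)]⟩⟩
  have hAcard : Nat.card A = 4 :=
    (Nat.card_congr (MonoidHom.ofInjective SemidirectProduct.inr_injective).symm.toEquiv).trans hW4
  have hAc : ¬ IsCyclic A := by
    intro hc
    obtain ⟨g, hg⟩ := IsCyclic.exists_generator (α := A)
    have h4 : orderOf g = 4 := by rw [orderOf_eq_card_of_forall_mem_zpowers hg, hAcard]
    obtain ⟨_, a, rfl⟩ := g
    have : (⟨j a, a, rfl⟩ : A) ^ 2 = 1 := Subtype.ext (by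
      show j a ^ 2 = 1
      rw [← map_pow, show a ^ 2 = 1 from Subtype.ext (by rw [pow_two]; exact hWe _ a.2), map_one])
    have := orderOf_dvd_of_pow_eq_one this
    rw [h4] at this
    omega
  have hconj : ∀ (a : W) (x : P), j a * i x * (j a)⁻¹ = i ((a : MulAut P) x) := fun a x => by
    rw [← map_inv]; exact (SemidirectProduct.inl_aut (φ := φ) a x).symm
  have hAK : A ≤ Subgroup.normalizer ((K.map i : Subgroup G) : Set G) := by
    rw [Subgroup.le_normalizer_iff]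
    rintro _ ⟨a, rfl⟩ _ ⟨x, hx, rfl⟩
    exact ⟨_, hKinv _ a.2 x hx, (hconj a x).symm⟩
  have hcop : (Nat.card A).Coprime (Nat.card (K.map i : Subgroup G)) := by
    rw [hAcard, Subgroup.card_map_of_injective SemidirectProduct.inl_injective]
    exact Nat.Coprime.pow_left 2 (Nat.coprime_two_left.2 (hodd.of_dvd_nat K.card_subgroup_dvd_card))
  have hgen := Cfsg.Agent.Coprime.fixedGen_eq hAc hAK hcop
  have hle : Cfsg.Agent.Coprime.fixedGen A (K.map i) ≤ H.map i := by
    refine iSup₂_le ?_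
    rintro _ ⟨⟨a, rfl⟩, ha1⟩ _ ⟨⟨x, hx, rfl⟩, hc⟩
    have hc' := Subgroup.mem_centralizer_iff.1 hc (j a) rfl
    have h1 : i ((a : MulAut P) x) = i x := by rw [← hconj, hc', mul_inv_cancel_right]
    exact ⟨x, hfix _ a.2 (fun h => ha1 (by rw [show a = 1 from Subtype.ext h, map_one])) x hx
      (SemidirectProduct.inl_injective h1), rfl⟩
  rw [hgen] at hle
  exact (Subgroup.map_le_map_iff_of_injective SemidirectProduct.inl_injective).1 hle

/-- An involutory automorphism of a cyclic `p`-group is the identity or inversion. -/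
theorem sign_eq [Finite P] {p : ℕ} (hp : p.Prime) (hp2 : p ≠ 2) (hP : IsPGroup p P) {σ : MulAut P}
    (hσ : σ * σ = 1) {g : P} (hg : σ g ∈ Subgroup.zpowers g) : σ g = g ∨ σ g = g⁻¹ := by
  obtain ⟨k, hk⟩ := Subgroup.mem_zpowers_iff.1 hg
  have h1 : g ^ (k * k - 1) = 1 := by
    have h2 : σ (σ g) = g := by rw [← MulAut.mul_apply, hσ, MulAut.one_apply]
    rw [← hk, map_zpow, ← hk, ← zpow_mul] at h2
    rw [zpow_sub, h2, zpow_one, mul_inv_cancel]
  have := Fact.mk hp
  obtain ⟨m, hm⟩ := IsPGroup.iff_orderOf.1 hP g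
  have hdvd : ((p : ℤ) ^ m) ∣ (k - 1) * (k + 1) := by
    have := orderOf_dvd_iff_zpow_eq_one.2 h1
    rw [hm] at this
    push_cast at this
    rwa [show (k - 1) * (k + 1) = k * k - 1 by ring]
  have hpZ : Prime (p : ℤ) := Int.prime_iff_natAbs_prime.2 (by simpa using hp)
  by_cases hd : (p : ℤ) ∣ k - 1
  · left
    have hd2 : ¬ (p : ℤ) ∣ k + 1 := fun h => by
      have h3 := dvd_sub h hd
      rw [show k + 1 - (k - 1) = ((2 : ℕ) : ℤ) by push_cast; ring, Int.natCast_dvd_natCast] at h3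
      exact hp2 ((Nat.prime_dvd_prime_iff_eq hp Nat.prime_two).1 h3)
    have h4 : (orderOf g : ℤ) ∣ k - 1 := by
      rw [hm]; push_cast; exact hpZ.pow_dvd_of_dvd_mul_right _ hd2 hdvd
    have h5 := orderOf_dvd_iff_zpow_eq_one.1 h4
    rw [zpow_sub, zpow_one, mul_inv_eq_one] at h5
    rw [← hk, h5]
  · right
    have h4 : (orderOf g : ℤ) ∣ k + 1 := by
      rw [hm]; push_cast; exact hpZ.pow_dvd_of_dvd_mul_left _ hd hdvd
    have h5 := orderOf_dvd_iff_zpow_eq_one.1 h4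
    rw [zpow_add, zpow_one] at h5
    rw [← hk]
    exact eq_inv_of_mul_eq_one_left h5

/-- What two distinct involutions generating a four-group without broad elements force. -/
theorem structure_of_four [Finite P] {p : ℕ} (hp : p.Prime) (hp2 : p ≠ 2) (hP : IsPGroup p P)
    (I : Subgroup (MulAut P)) (hcomm : ∀ x ∈ I, ∀ y ∈ I, x * y = y * x)
    (hexp : ∀ x ∈ I, x * x = 1) (hI8 : Nat.card ↥I = 8) {u v : MulAut P} (huI : u ∈ I)
    (hvI : v ∈ I) (hu : u ≠ 1) (hv : v ≠ 1) (huv : u ≠ v) (bu : ¬ Broad u) (bv : ¬ Broad v)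
    (bw : ¬ Broad (u * v)) :
    IsMulCommutative P ∧ (∃ a b c : P, Subgroup.closure {a, b, c} = ⊤) ∧
      (¬ ∃ a b : P, Subgroup.closure {a, b} = ⊤) ∧
      ∃ a b c : MulAut P, a ∈ I ∧ b ∈ I ∧ c ∈ I ∧ a ≠ b ∧ a ≠ c ∧ b ≠ c ∧
        (∀ T, (T ∈ I ∧ T ≠ 1 ∧ Broad T) ↔ (T = a ∨ T = b ∨ T = c)) ∧
        b * c = u ∧ a * c = v ∧ a * b = u * v ∧ (∀ T ∈ I, T ∈ Subgroup.closure {a, b, c}) := by
  have := Fact.mk hp
  have hodd := card_odd hp hp2 hP
  have hwI : u * v ∈ I := mul_mem huI hvI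
  have huu := hexp u huI
  have hvv := hexp v hvI
  have hvu : v * u = u * v := hcomm v hvI u huI
  have huw : u * (u * v) = v := by rw [← mul_assoc, huu, one_mul]
  have hvw : v * (u * v) = u := by rw [← mul_assoc, hvu, mul_assoc, hvv, mul_one]
  have hw1 : u * v ≠ 1 := fun h => huv (by rw [← mul_one u, ← hvv, ← mul_assoc, h, one_mul])
  obtain ⟨gu, hgu⟩ := not_not.1 bu
  obtain ⟨gv, hgv⟩ := not_not.1 bv
  obtain ⟨gw, hgw⟩ := not_not.1 bw
  have fu : u gu = gu := (hgu gu).2 (Subgroup.mem_zpowers gu)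
  have fv : v gv = gv := (hgv gv).2 (Subgroup.mem_zpowers gv)
  have fw : (u * v) gw = gw := (hgw gw).2 (Subgroup.mem_zpowers gw)
  -- the four-group
  let W : Subgroup (MulAut P) := Subgroup.closure {u, v}
  have hWI : W ≤ I := (Subgroup.closure_le I).2 (Set.insert_subset huI (Set.singleton_subset_iff.2 hvI))
  have hWmem : ∀ T, T ∈ W ↔ T = 1 ∨ T = u ∨ T = v ∨ T = u * v := by
    intro T
    constructor
    · intro hT
      induction hT using Subgroup.closure_induction with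
      | mem x hx => rcases hx with rfl | rfl <;> simp
      | one => simp
      | mul x y _ _ hx hy =>
        rcases hx with rfl | rfl | rfl | rfl <;> rcases hy with rfl | rfl | rfl | rfl <;>
          simp [mul_assoc, huu, hvv, hvu, huw, hvw]
      | inv x hxW hx =>
        rwa [inv_eq_of_mul_eq_one_right (hexp x (hWI hxW))]
    · rintro (rfl | rfl | rfl | rfl)
      · exact one_mem W
      · exact Subgroup.subset_closure (Or.inl rfl)
      · exact Subgroup.subset_closure (Or.inr rfl)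
      · exact mul_mem (Subgroup.subset_closure (Or.inl rfl)) (Subgroup.subset_closure (Or.inr rfl))
  have hW4 : Nat.card W = 4 := by
    have hset : (W : Set (MulAut P)) = ↑({1, u, v, u * v} : Finset (MulAut P)) := by
      ext T
      simp [hWmem]
    rw [← SetLike.coe_sort_coe, Nat.card_coe_set_eq, hset, Set.ncard_coe_finset,
      Finset.card_insert_of_notMem (by simp [Ne.symm hu, Ne.symm hv, Ne.symm hw1]),
      Finset.card_insert_of_notMem (by simp [huv, hv]),
      Finset.card_insert_of_notMem (by simp [hu]), Finset.card_singleton]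
  have hgen : ∀ H : Subgroup P, gu ∈ H → gv ∈ H → gw ∈ H → H = ⊤ := by
    intro H h1 h2 h3
    refine top_le_iff.1 (gen_fixed hodd W hW4 (fun x hx y hy => hcomm x (hWI hx) y (hWI hy))
      (fun x hx => hexp x (hWI hx)) ⊤ H (fun _ _ _ _ => Subgroup.mem_top _) ?_)
    intro T hT hT1 x _ hx
    rcases (hWmem T).1 hT with rfl | rfl | rfl | rfl
    · exact absurd rfl hT1
    · exact (Subgroup.zpowers_le.2 h1) ((hgu x).1 hx)
    · exact (Subgroup.zpowers_le.2 h2) ((hgv x).1 hx)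
    · exact (Subgroup.zpowers_le.2 h3) ((hgw x).1 hx)
  have hsign : ∀ {σ T : MulAut P} {g : P}, σ ∈ I → T ∈ I →
      (∀ x, T x = x ↔ x ∈ Subgroup.zpowers g) → (σ g = g ∨ σ g = g⁻¹) := by
    intro σ T g hσ hT hg
    refine sign_eq hp hp2 hP (hexp σ hσ) ((hg _).1 ?_)
    rw [← MulAut.mul_apply, hcomm T hT σ hσ, MulAut.mul_apply, (hg g).2 (Subgroup.mem_zpowers g)]
  have su : ∀ {σ}, σ ∈ I → σ gu = gu ∨ σ gu = gu⁻¹ := fun h => hsign h huI hgu
  have sv : ∀ {σ}, σ ∈ I → σ gv = gv ∨ σ gv = gv⁻¹ := fun h => hsign h hvI hgv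
  have sw : ∀ {σ}, σ ∈ I → σ gw = gw ∨ σ gw = gw⁻¹ := fun h => hsign h hwI hgw
  have hext : ∀ {σ τ : MulAut P}, σ gu = τ gu → σ gv = τ gv → σ gw = τ gw → σ = τ := by
    intro σ τ h1 h2 h3
    have h := hgen (MonoidHom.eqLocus σ.toMonoidHom τ.toMonoidHom) h1 h2 h3
    ext x
    exact (h ▸ Subgroup.mem_top x : x ∈ MonoidHom.eqLocus σ.toMonoidHom τ.toMonoidHom)
  let pat : I → Bool × Bool × Bool := fun σ =>
    (decide ((σ : MulAut P) gu = gu), decide ((σ : MulAut P) gv = gv),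
      decide ((σ : MulAut P) gw = gw))
  have agree : ∀ {σ τ : MulAut P} {g : P}, (σ g = g ∨ σ g = g⁻¹) → (τ g = g ∨ τ g = g⁻¹) →
      (σ g = g ↔ τ g = g) → σ g = τ g := by
    intro σ τ g h1 h2 h
    by_cases hs : σ g = g
    · rw [hs, h.1 hs]
    · rw [h1.resolve_left hs, h2.resolve_left (fun h' => hs (h.2 h'))]
  have hinj : Function.Injective pat := by
    rintro ⟨σ, hσ⟩ ⟨τ, hτ⟩ h
    simp only [pat, Prod.mk.injEq, decide_eq_decide] at h
    exact Subtype.ext (hext (agree (su hσ) (su hτ) h.1) (agree (sv hσ) (sv hτ) h.2.1)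
      (agree (sw hσ) (sw hτ) h.2.2))
  have : Finite I := Finite.of_injective pat hinj
  have hsurj : Function.Surjective pat := by
    refine ((Nat.bijective_iff_injective_and_card pat).2 ⟨hinj, ?_⟩).2
    rw [hI8, Nat.card_eq_fintype_card]
    rfl
  obtain ⟨⟨a, haI⟩, ha⟩ := hsurj (false, true, true)
  obtain ⟨⟨b, hbI⟩, hb⟩ := hsurj (true, false, true)
  obtain ⟨⟨c, hcI⟩, hc⟩ := hsurj (true, true, false)
  obtain ⟨⟨J, hJI⟩, hJ⟩ := hsurj (false, false, false)
  simp only [pat, Prod.mk.injEq, decide_eq_true_eq, decide_eq_false_iff_not] at ha hb hc hJ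
  obtain ⟨au, av, aw⟩ := ha
  obtain ⟨bu', bv', bw'⟩ := hb
  obtain ⟨cu, cv, cw⟩ := hc
  obtain ⟨Ju, Jv, Jw⟩ := hJ
  have au' := (su haI).resolve_left au
  have bv'' := (sv hbI).resolve_left bv'
  have cw' := (sw hcI).resolve_left cw
  have Ju' := (su hJI).resolve_left Ju
  have Jv' := (sv hJI).resolve_left Jv
  have Jw' := (sw hJI).resolve_left Jw
  have fix_zp : ∀ {σ : MulAut P} {g x : P}, σ g = g → x ∈ Subgroup.zpowers g → σ x = x := by
    intro σ g x h hx
    obtain ⟨k, rfl⟩ := Subgroup.mem_zpowers_iff.1 hx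
    rw [map_zpow, h]
  -- the signs of `u`, `v`, `u * v`
  have ugv : u gv = gv⁻¹ := (sv huI).resolve_left fun h => bv' (fix_zp bu' ((hgu gv).1 h))
  have ugw : u gw = gw⁻¹ := (sw huI).resolve_left fun h => cw (fix_zp cu ((hgu gw).1 h))
  have vgu : v gu = gu⁻¹ := (su hvI).resolve_left fun h => au (fix_zp av ((hgv gu).1 h))
  have vgw : v gw = gw⁻¹ := (sw hvI).resolve_left fun h => cw (fix_zp cv ((hgv gw).1 h))
  have hbc : b * c = u := hext (by rw [MulAut.mul_apply, cu, bu', fu])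
    (by rw [MulAut.mul_apply, cv, bv'', ugv]) (by rw [MulAut.mul_apply, cw', map_inv, bw', ugw])
  have hac : a * c = v := hext (by rw [MulAut.mul_apply, cu, au', vgu])
    (by rw [MulAut.mul_apply, cv, av, fv]) (by rw [MulAut.mul_apply, cw', map_inv, aw, vgw])
  have hab : a * b = u * v := hext
    (by rw [MulAut.mul_apply, bu', au', MulAut.mul_apply, vgu, map_inv, fu])
    (by rw [MulAut.mul_apply, bv'', map_inv, av, MulAut.mul_apply, fv, ugv])
    (by rw [MulAut.mul_apply, bw', aw, fw])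
  -- `J` is fixed point free
  have hfpf : ∀ x : P, J x = x → x = 1 := by
    intro x hx
    have hle := gen_fixed hodd W hW4 (fun x hx y hy => hcomm x (hWI hx) y (hWI hy))
      (fun x hx => hexp x (hWI hx)) (MonoidHom.eqLocus J.toMonoidHom (MonoidHom.id P)) ⊥ ?_ ?_
    · exact Subgroup.mem_bot.1 (hle hx)
    · intro T hT y (hy : J y = y)
      show J (T y) = T y
      rw [← MulAut.mul_apply, hcomm J hJI T (hWI hT), MulAut.mul_apply, hy]
    · intro T hT hT1 y (hy : J y = y) hTy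
      have key : ∀ {g : P}, J g = g⁻¹ → y ∈ Subgroup.zpowers g → y = 1 := by
        intro g hg hyg
        obtain ⟨k, rfl⟩ := Subgroup.mem_zpowers_iff.1 hyg
        rw [map_zpow, hg, inv_zpow] at hy
        exact inv_eq_self hodd hy
      rw [Subgroup.mem_bot]
      rcases (hWmem T).1 hT with rfl | rfl | rfl | rfl
      · exact absurd rfl hT1
      · exact key Ju' ((hgu y).1 hTy)
      · exact key Jv' ((hgv y).1 hTy)
      · exact key Jw' ((hgw y).1 hTy)
  have hPc : ∀ x y : P, x * y = y * x := fun x y =>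
    MonoidHom.FixedPointFree.commute_all_of_involutive (φ := J) hfpf
      (fun z => by rw [← MulAut.mul_apply, hexp J hJI, MulAut.one_apply]) x y
  -- broad elements
  have broad3 : ∀ {σ T : MulAut P} {g h : P}, σ ∈ I → T ∈ I → σ g = g → σ h = h → T g = g →
      T h = h⁻¹ → T g ≠ g⁻¹ → T h ≠ h → Broad σ := by
    intro σ T g h hσ hT hg hh hTg _ hTg' hTh ⟨k, hk⟩
    rcases hsign hT hσ hk with h1 | h1
    · exact hTh (fix_zp h1 ((hk h).1 hh))
    · obtain ⟨n, rfl⟩ := Subgroup.mem_zpowers_iff.1 ((hk g).1 hg)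
      exact hTg' (by rw [map_zpow, h1, inv_zpow])
  have ne_u : gu⁻¹ ≠ gu := fun h => au (au'.trans h)
  have ne_v : gv⁻¹ ≠ gv := fun h => bv' (bv''.trans h)
  have ne_w : gw⁻¹ ≠ gw := fun h => cw (cw'.trans h)
  have ba : Broad a := broad3 haI hvI av aw fv vgw (fv.trans_ne ne_v.symm) (vgw.trans_ne ne_w)
  have bb : Broad b := broad3 hbI huI bu' bw' fu ugw (fu.trans_ne ne_u.symm) (ugw.trans_ne ne_w)
  have bc : Broad c := broad3 hcI huI cu cv fu ugv (fu.trans_ne ne_u.symm) (ugv.trans_ne ne_v)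
  have ha1 : a ≠ 1 := fun h => au (by rw [h]; rfl)
  have hb1 : b ≠ 1 := fun h => bv' (by rw [h]; rfl)
  have hc1 : c ≠ 1 := fun h => cw (by rw [h]; rfl)
  have hall : ∀ T ∈ I, T = 1 ∨ T = a ∨ T = b ∨ T = c ∨ T = u ∨ T = v ∨ T = u * v ∨ T = J := by
    intro T hT
    have hw' : (u * v) gu = gu⁻¹ ∧ (u * v) gv = gv⁻¹ := by
      constructor
      · rw [MulAut.mul_apply, vgu, map_inv, fu]
      · rw [MulAut.mul_apply, fv, ugv]
    rcases su hT with h1 | h1 <;> rcases sv hT with h2 | h2 <;> rcases sw hT with h3 | h3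
    · exact Or.inl (hext h1 h2 h3)
    · exact Or.inr (Or.inr (Or.inr (Or.inl (hext (h1.trans cu.symm) (h2.trans cv.symm)
        (h3.trans cw'.symm)))))
    · exact Or.inr (Or.inr (Or.inl (hext (h1.trans bu'.symm) (h2.trans bv''.symm)
        (h3.trans bw'.symm))))
    · exact Or.inr (Or.inr (Or.inr (Or.inr (Or.inl (hext (h1.trans fu.symm) (h2.trans ugv.symm)
        (h3.trans ugw.symm))))))
    · exact Or.inr (Or.inl (hext (h1.trans au'.symm) (h2.trans av.symm) (h3.trans aw.symm)))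
    · exact Or.inr (Or.inr (Or.inr (Or.inr (Or.inr (Or.inl (hext (h1.trans vgu.symm)
        (h2.trans fv.symm) (h3.trans vgw.symm)))))))
    · exact Or.inr (Or.inr (Or.inr (Or.inr (Or.inr (Or.inr (Or.inl (hext (h1.trans hw'.1.symm)
        (h2.trans hw'.2.symm) (h3.trans fw.symm))))))))
    · exact Or.inr (Or.inr (Or.inr (Or.inr (Or.inr (Or.inr (Or.inr (hext (h1.trans Ju'.symm)
        (h2.trans Jv'.symm) (h3.trans Jw'.symm))))))))
  have bJ : ¬ Broad J := fun h => h ⟨1, fun x => ⟨fun hx => by simp [hfpf x hx],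
    fun hx => by
      rw [Subgroup.zpowers_one_eq_bot, Subgroup.mem_bot] at hx
      simp [hx]⟩⟩
  refine ⟨⟨⟨hPc⟩⟩, ⟨gu, gv, gw, hgen _ (Subgroup.subset_closure (by simp))
    (Subgroup.subset_closure (by simp)) (Subgroup.subset_closure (by simp))⟩, ?_,
    a, b, c, haI, hbI, hcI, fun h => au (h ▸ bu'), fun h => au (h ▸ cu), fun h => bv' (h ▸ cv),
    fun T => ⟨?_, ?_⟩, hbc, hac, hab, ?_⟩
  · rintro ⟨x, y, hxy⟩
    letI : CommGroup P := { (inferInstance : Group P) with mul_comm := hPc }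
    let f : P →* P := powMonoidHom p
    have hpos := hp.pos
    -- at most `p ^ 2` elements of order dividing `p`
    have hrep : ∀ z : P, ∃ (i j : ℕ) (t : P), z = x ^ i * y ^ j * t ^ p ∧ i < p ∧ j < p := by
      intro z
      have hz : z ∈ Subgroup.closure ({x, y} : Set P) := hxy ▸ Subgroup.mem_top z
      obtain ⟨i, j, rfl⟩ := Subgroup.mem_closure_pair.1 hz
      refine ⟨(i % p).toNat, (j % p).toNat, x ^ (i / p) * y ^ (j / p), ?_, ?_, ?_⟩
      · have hi := Int.emod_nonneg i (Int.natCast_ne_zero.2 hp.ne_zero)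
        have hj := Int.emod_nonneg j (Int.natCast_ne_zero.2 hp.ne_zero)
        conv_lhs => rw [← Int.emod_add_mul_ediv i p, ← Int.emod_add_mul_ediv j p]
        rw [← zpow_natCast, ← zpow_natCast, Int.toNat_of_nonneg hi, Int.toNat_of_nonneg hj,
          ← zpow_natCast, mul_zpow, ← zpow_mul, ← zpow_mul, zpow_add, zpow_add,
          mul_comm (i / (p : ℤ)), mul_comm (j / (p : ℤ))]
        exact mul_mul_mul_comm _ _ _ _
      · have := Int.emod_lt_of_pos i (Int.natCast_pos.2 hpos)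
        omega
      · have := Int.emod_lt_of_pos j (Int.natCast_pos.2 hpos)
        omega
    have hidx : f.range.index ≤ p * p := by
      let F : Fin p × Fin p → P ⧸ f.range := fun q => QuotientGroup.mk (x ^ (q.1 : ℕ) * y ^ (q.2 : ℕ))
      have hF : Function.Surjective F := by
        intro q
        obtain ⟨z, rfl⟩ := QuotientGroup.mk_surjective q
        obtain ⟨i, j, t, rfl, hi, hj⟩ := hrep z
        refine ⟨(⟨i, hi⟩, ⟨j, hj⟩), ?_⟩
        show (QuotientGroup.mk (x ^ i * y ^ j) : P ⧸ f.range) = _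
        refine QuotientGroup.eq.2 ⟨t, ?_⟩
        rw [inv_mul_cancel_left]
        rfl
      have h := Nat.card_le_card_of_surjective F hF
      simpa [Subgroup.index_eq_card, Nat.card_eq_fintype_card] using h
    have hker : Nat.card f.ker = f.range.index := by
      have h1 := f.ker.card_mul_index
      rw [Subgroup.index_ker] at h1
      have h2 := f.range.card_mul_index
      rw [mul_comm] at h1
      exact Nat.eq_of_mul_eq_mul_left Nat.card_pos (h1.trans h2.symm)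
    -- at least `p ^ 3` of them
    have hord : ∀ {g : P}, g⁻¹ ≠ g → ∃ h ∈ Subgroup.zpowers g, orderOf h = p := by
      intro g hg
      obtain ⟨m, hm⟩ := IsPGroup.iff_orderOf.1 hP g
      rcases m with _ | m
      · rw [pow_zero, orderOf_eq_one_iff] at hm
        exact absurd (by simp [hm]) hg
      refine ⟨g ^ p ^ m, pow_mem (Subgroup.mem_zpowers g) _, ?_⟩
      rw [orderOf_pow' _ (pow_ne_zero _ hp.ne_zero), hm, Nat.gcd_eq_right (pow_dvd_pow p m.le_succ),
        pow_succ, Nat.mul_div_cancel_left _ (pow_pos hpos m)]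
    obtain ⟨x₁, hx₁, o₁⟩ := hord ne_u
    obtain ⟨x₂, hx₂, o₂⟩ := hord ne_v
    obtain ⟨x₃, hx₃, o₃⟩ := hord ne_w
    have inv_zp : ∀ {σ : MulAut P} {g z : P}, σ g = g⁻¹ → z ∈ Subgroup.zpowers g → σ z = z⁻¹ := by
      intro σ g z h hz
      obtain ⟨k, rfl⟩ := Subgroup.mem_zpowers_iff.1 hz
      rw [map_zpow, h, inv_zpow]
    let G : Fin p × Fin p × Fin p → f.ker := fun q =>
      ⟨x₁ ^ (q.1 : ℕ) * x₂ ^ (q.2.1 : ℕ) * x₃ ^ (q.2.2 : ℕ), by
        show (x₁ ^ (q.1 : ℕ) * x₂ ^ (q.2.1 : ℕ) * x₃ ^ (q.2.2 : ℕ)) ^ p = 1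
        rw [mul_pow, mul_pow, ← pow_mul, ← pow_mul, ← pow_mul, mul_comm (q.1 : ℕ),
          mul_comm (q.2.1 : ℕ), mul_comm (q.2.2 : ℕ), pow_mul, pow_mul, pow_mul]
        have h1 : x₁ ^ p = 1 := orderOf_dvd_iff_pow_eq_one.1 o₁.dvd
        have h2 : x₂ ^ p = 1 := orderOf_dvd_iff_pow_eq_one.1 o₂.dvd
        have h3 : x₃ ^ p = 1 := orderOf_dvd_iff_pow_eq_one.1 o₃.dvd
        simp [h1, h2, h3]⟩
    have hG : Function.Injective G := by
      rintro ⟨i, j, k⟩ ⟨i', j', k'⟩ h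
      replace h : x₁ ^ (i : ℕ) * x₂ ^ (j : ℕ) * x₃ ^ (k : ℕ) =
          x₁ ^ (i' : ℕ) * x₂ ^ (j' : ℕ) * x₃ ^ (k' : ℕ) := congrArg Subtype.val h
      have key : ∀ (A B C A' B' C' : P) (σ : MulAut P), σ A = A⁻¹ → σ B = B → σ C = C →
          σ A' = A'⁻¹ → σ B' = B' → σ C' = C' → A * B * C = A' * B' * C' → A = A' := by
        intro A B C A' B' C' σ hA hB hC hA' hB' hC' hh
        have h2 := congrArg σ hh
        simp only [map_mul, hA, hB, hC, hA', hB', hC'] at h2
        have h3 : (A * A'⁻¹) * (A * A'⁻¹) = 1 := by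
          have e1 : B * C = A⁻¹ * (A' * B' * C') := by rw [← hh]; group
          have e2 : B * C = A * (A'⁻¹ * B' * C') := by rw [← h2]; group
          have e3 := e1.symm.trans e2
          simp only [← mul_assoc] at e3
          have e4 := mul_right_cancel (mul_right_cancel e3)
          calc A * A'⁻¹ * (A * A'⁻¹) = A * A'⁻¹ * (A⁻¹ * A') := by rw [e4]
            _ = 1 := by rw [mul_comm A⁻¹ A']; group
        exact mul_inv_eq_one.1 (sq_eq_one hodd h3)
      have m1 : ∀ n : ℕ, x₁ ^ n ∈ Subgroup.zpowers gu := pow_mem hx₁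
      have m2 : ∀ n : ℕ, x₂ ^ n ∈ Subgroup.zpowers gv := pow_mem hx₂
      have m3 : ∀ n : ℕ, x₃ ^ n ∈ Subgroup.zpowers gw := pow_mem hx₃
      have e1 := key _ _ _ _ _ _ a (inv_zp au' (m1 i)) (fix_zp av (m2 j)) (fix_zp aw (m3 k))
        (inv_zp au' (m1 i')) (fix_zp av (m2 j')) (fix_zp aw (m3 k')) h
      rw [e1] at h
      rw [mul_assoc, mul_assoc] at h
      have h' := mul_left_cancel h
      have e2 := key _ _ 1 _ _ 1 b (inv_zp bv'' (m2 j)) (fix_zp bw' (m3 k)) (map_one b)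
        (inv_zp bv'' (m2 j')) (fix_zp bw' (m3 k')) (map_one b) (by simpa using h')
      rw [e2] at h'
      have e3 := mul_left_cancel h'
      have eqv : ∀ (z : P), orderOf z = p → ∀ n n' : Fin p, z ^ (n : ℕ) = z ^ (n' : ℕ) → n = n' := by
        intro z hz n n' hn
        exact Fin.ext (pow_injOn_Iio_orderOf (hz.symm ▸ n.2) (hz.symm ▸ n'.2) hn)
      rw [eqv _ o₁ _ _ e1, eqv _ o₂ _ _ e2, eqv _ o₃ _ _ e3]
    have := Nat.card_le_card_of_injective G hG
    rw [hker] at this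
    simp [Nat.card_eq_fintype_card] at this
    nlinarith [hp.two_le]
  · rintro ⟨hT, hT1, hTb⟩
    rcases hall T hT with h | h | h | h | h | h | h | h
    · exact absurd h hT1
    · exact Or.inl h
    · exact Or.inr (Or.inl h)
    · exact Or.inr (Or.inr h)
    · exact absurd (h ▸ hTb) bu
    · exact absurd (h ▸ hTb) bv
    · exact absurd (h ▸ hTb) bw
    · exact absurd (h ▸ hTb) bJ
  · rintro (rfl | rfl | rfl)
    exacts [⟨haI, ha1, ba⟩, ⟨hbI, hb1, bb⟩, ⟨hcI, hc1, bc⟩]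
  · intro T hT
    have ma : a ∈ Subgroup.closure ({a, b, c} : Set (MulAut P)) := Subgroup.subset_closure (by simp)
    have mb : b ∈ Subgroup.closure ({a, b, c} : Set (MulAut P)) := Subgroup.subset_closure (by simp)
    have mc : c ∈ Subgroup.closure ({a, b, c} : Set (MulAut P)) := Subgroup.subset_closure (by simp)
    rcases hall T hT with rfl | rfl | rfl | rfl | rfl | rfl | rfl | h
    · exact one_mem _
    · exact ma
    · exact mb
    · exact mc
    · exact hbc ▸ mul_mem mb mc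
    · exact hac ▸ mul_mem ma mc
    · exact hab ▸ mul_mem ma mb
    · have : T = a * (b * c) := hext
        (by rw [h, Ju', hbc, MulAut.mul_apply, fu, au'])
        (by rw [h, Jv', hbc, MulAut.mul_apply, ugv, map_inv, av])
        (by rw [h, Jw', hbc, MulAut.mul_apply, ugw, map_inv, aw])
      exact this ▸ mul_mem ma (mul_mem mb mc)


/-- Let p be an odd prime, P a finite p-group and I an elementary abelian subgroup of order 8 of Aut(P). Call T ∈ I, T ≠ 1, broad when its fixed-point subgroup C_P(T) is not cyclic. Suppose I has a proper subgroup I₀ containing no broad element such that the product of any two broad elements lies in I₀. Then P is abelian of rank exactly 3 (generated by three elements but not by two), there are exactly three broad elements and they generate I, and I₀ is exactly the set of products of two broad elements. -/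
theorem result
    {P : Type*} [Group P] [Finite P] (p : ℕ) (hp : p.Prime) (hp2 : p ≠ 2) (hP : IsPGroup p P)
    (I : Subgroup (MulAut P)) (hI : Cfsg.IsElementaryAbelian 2 I) (hI8 : Nat.card ↥I = 8)
    (I₀ : Subgroup (MulAut P)) (hI₀ : I₀ < I)
    (hdisj : ∀ T ∈ I₀, T ≠ 1 → ∃ g : P, ∀ x : P, (T x = x ↔ x ∈ Subgroup.zpowers g))
    (hprod : ∀ T ∈ I, ∀ T' ∈ I, T ≠ 1 → T' ≠ 1 → (¬ ∃ g : P, ∀ x : P, (T x = x ↔ x ∈ Subgroup.zpowers g)) →
      (¬ ∃ g : P, ∀ x : P, (T' x = x ↔ x ∈ Subgroup.zpowers g)) → T * T' ∈ I₀) :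
    IsMulCommutative P ∧ (∃ a b c : P, Subgroup.closure {a, b, c} = ⊤) ∧ (¬ ∃ a b : P, Subgroup.closure {a, b} = ⊤) ∧
      Nat.card {T : MulAut P // T ∈ I ∧ T ≠ 1 ∧ ¬ ∃ g : P, ∀ x : P, (T x = x ↔ x ∈ Subgroup.zpowers g)} = 3 ∧
      Subgroup.closure {T : MulAut P | T ∈ I ∧ T ≠ 1 ∧ ¬ ∃ g : P, ∀ x : P, (T x = x ↔ x ∈ Subgroup.zpowers g)} = I ∧
      (I₀ : Set (MulAut P)) = {S : MulAut P | ∃ T T' : MulAut P, T ∈ I ∧ T' ∈ I ∧ T ≠ 1 ∧ T' ≠ 1 ∧
        (¬ ∃ g : P, ∀ x : P, (T x = x ↔ x ∈ Subgroup.zpowers g)) ∧ (¬ ∃ g : P, ∀ x : P, (T' x = x ↔ x ∈ Subgroup.zpowers g)) ∧ S = T * T'} := by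
  obtain ⟨hIc, hIexp⟩ : (∀ x ∈ I, ∀ y ∈ I, x * y = y * x) ∧ (∀ x ∈ I, x * x = 1) := by
    refine ⟨?_, ?_⟩
    · intro x hx y hy
      exact congrArg Subtype.val (hI.1.is_comm.comm ⟨x, hx⟩ ⟨y, hy⟩)
    · intro x hx
      rw [← pow_two]
      exact hI.2 x hx
  change (∀ T ∈ I, ∀ T' ∈ I, T ≠ 1 → T' ≠ 1 → Broad T → Broad T' → T * T' ∈ I₀) at hprod
  have hI₀nb : ∀ T ∈ I₀, T ≠ 1 → ¬ Broad T := fun T hT h1 hb => hb (hdisj T hT h1)
  have : Finite (MulAut P) := inferInstance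
  have hcard : Nat.card ↥I₀ = 4 ∨ Nat.card ↥I₀ ≤ 2 := by
    have hd : Nat.card ↥I₀ ∣ 8 := hI8 ▸ Subgroup.card_dvd_of_le hI₀.le
    have hlt : Nat.card ↥I₀ ≠ 8 := fun h =>
      hI₀.ne (Subgroup.eq_of_le_of_card_ge hI₀.le (by rw [h, hI8]))
    have := Nat.le_of_dvd (by norm_num) hd
    interval_cases h : Nat.card ↥I₀ <;> simp_all
  rcases hcard with h4 | h2
  · have hu : ∃ u ∈ I₀, u ≠ 1 := by
      by_contra! h
      have : I₀ = ⊥ := (Subgroup.eq_bot_iff_forall _).2 h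
      rw [this, Subgroup.card_bot] at h4
      omega
    obtain ⟨u, hu, hu1⟩ := hu
    have hv : ∃ v ∈ I₀, v ≠ 1 ∧ v ≠ u := by
      by_contra! h
      have hsub : (I₀ : Set (MulAut P)) ⊆ {1, u} := fun x hx => by
        by_cases h1 : x = 1
        · exact Or.inl h1
        · exact Or.inr (h x hx h1)
      have := Set.ncard_le_ncard hsub
      rw [← Nat.card_coe_set_eq, SetLike.coe_sort_coe, h4] at this
      have := this.trans (Set.ncard_insert_le 1 {u})
      simp at this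
    obtain ⟨v, hv, hv1, hvu⟩ := hv
    have hw1 : u * v ≠ 1 := fun h => hvu (by
      rw [← one_mul v, ← hIexp u (hI₀.le hu), mul_assoc, h, mul_one])
    obtain ⟨hc, hg, hn, a, b, c, haI, hbI, hcI, hab, hac, hbc, hB, e1, e2, e3, hcl⟩ :=
      structure_of_four hp hp2 hP I hIc hIexp hI8 (hI₀.le hu) (hI₀.le hv) hu1 hv1 (Ne.symm hvu)
        (hI₀nb u hu hu1) (hI₀nb v hv hv1) (hI₀nb _ (mul_mem hu hv) hw1)
    refine ⟨hc, hg, hn, ?_, ?_, ?_⟩
    · have hset : {T : MulAut P | T ∈ I ∧ T ≠ 1 ∧ Broad T} = ↑({a, b, c} : Finset (MulAut P)) := by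
        ext T
        simp [hB]
      show Nat.card {T : MulAut P | T ∈ I ∧ T ≠ 1 ∧ Broad T} = 3
      rw [Nat.card_coe_set_eq, hset, Set.ncard_coe_finset,
        Finset.card_insert_of_notMem (by simp [hab, hac]),
        Finset.card_insert_of_notMem (by simp [hbc]), Finset.card_singleton]
    · show Subgroup.closure {T : MulAut P | T ∈ I ∧ T ≠ 1 ∧ Broad T} = I
      refine le_antisymm ((Subgroup.closure_le I).2 fun T hT => hT.1) fun T hT => ?_
      refine Subgroup.closure_mono ?_ (hcl T hT)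
      rintro x (rfl | rfl | rfl) <;> exact (hB _).2 (by simp)
    · show (I₀ : Set (MulAut P)) = {S | ∃ T T' : MulAut P, T ∈ I ∧ T' ∈ I ∧ T ≠ 1 ∧ T' ≠ 1 ∧
        Broad T ∧ Broad T' ∧ S = T * T'}
      have hI0eq : ∀ S ∈ I₀, S = 1 ∨ S = u ∨ S = v ∨ S = u * v := by
        intro S hS
        by_contra h
        push Not at h
        have hsub : (↑({1, u, v, u * v, S} : Finset (MulAut P)) : Set (MulAut P)) ⊆ I₀ := by
          intro x hx
          simp at hx
          rcases hx with rfl | rfl | rfl | rfl | rfl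
          exacts [one_mem _, hu, hv, mul_mem hu hv, hS]
        have := Set.ncard_le_ncard hsub
        rw [Set.ncard_coe_finset, ← Nat.card_coe_set_eq (I₀ : Set (MulAut P)), SetLike.coe_sort_coe,
          h4, Finset.card_insert_of_notMem (by simp [Ne.symm hu1, Ne.symm hv1, Ne.symm hw1, Ne.symm h.1]),
          Finset.card_insert_of_notMem (by simp [Ne.symm hvu, hv1, Ne.symm h.2.1]),
          Finset.card_insert_of_notMem (by simp [hu1, Ne.symm h.2.2.1]),
          Finset.card_insert_of_notMem (by simp [Ne.symm h.2.2.2]), Finset.card_singleton] at this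
        omega
      obtain ⟨-, ha1, hba⟩ := (hB a).2 (Or.inl rfl)
      obtain ⟨-, hb1, hbb⟩ := (hB b).2 (Or.inr (Or.inl rfl))
      obtain ⟨-, hc1, hbc'⟩ := (hB c).2 (Or.inr (Or.inr rfl))
      ext S
      constructor
      · intro hS
        rcases hI0eq S hS with rfl | rfl | rfl | rfl
        · exact ⟨a, a, haI, haI, ha1, ha1, hba, hba, (hIexp a haI).symm⟩
        · exact ⟨b, c, hbI, hcI, hb1, hc1, hbb, hbc', e1.symm⟩
        · exact ⟨a, c, haI, hcI, ha1, hc1, hba, hbc', e2.symm⟩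
        · exact ⟨a, b, haI, hbI, ha1, hb1, hba, hbb, e3.symm⟩
      · rintro ⟨T, T', hT, hT', h1, h1', hb, hb', rfl⟩
        exact hprod T hT T' hT' h1 h1' hb hb'
  · exfalso
    have three : ∀ b₁ b₂ b₃ : MulAut P, b₁ ∈ I → b₂ ∈ I → b₃ ∈ I → b₁ ≠ 1 → b₂ ≠ 1 → b₃ ≠ 1 →
        Broad b₁ → Broad b₂ → Broad b₃ → b₁ ≠ b₂ → b₁ ≠ b₃ → b₂ ≠ b₃ → False := by
      intro b₁ b₂ b₃ m1 m2 m3 n1 n2 n3 r1 r2 r3 d12 d13 d23
      have hsub : (↑({1, b₁ * b₂, b₁ * b₃} : Finset (MulAut P)) : Set (MulAut P)) ⊆ I₀ := by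
        intro x hx
        simp at hx
        rcases hx with rfl | rfl | rfl
        exacts [one_mem _, hprod _ m1 _ m2 n1 n2 r1 r2, hprod _ m1 _ m3 n1 n3 r1 r3]
      have hne : ∀ {y : MulAut P}, b₁ ≠ y → (1 : MulAut P) ≠ b₁ * y := fun hy h => hy (by
        have := congrArg (b₁ * ·) h
        simp only [← mul_assoc, hIexp b₁ m1, one_mul, mul_one] at this
        exact this)
      have := Set.ncard_le_ncard hsub
      rw [Set.ncard_coe_finset, ← Nat.card_coe_set_eq (I₀ : Set (MulAut P)), SetLike.coe_sort_coe,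
        Finset.card_insert_of_notMem (by simp [hne d12, hne d13]),
        Finset.card_insert_of_notMem (by simp [d23]), Finset.card_singleton] at this
      omega
    have big : ∀ s : Finset (MulAut P), s.card < 8 → ∃ z ∈ I, z ∉ s := by
      intro s hs
      by_contra! h
      have := Set.ncard_le_ncard (show (I : Set (MulAut P)) ⊆ ↑s from fun x hx => h x hx)
      rw [Set.ncard_coe_finset, ← Nat.card_coe_set_eq, SetLike.coe_sort_coe, hI8] at this
      omega
    obtain ⟨b₁, b₂, m1, m2, n1, n2, d, hB⟩ : ∃ b₁ b₂ : MulAut P, b₁ ∈ I ∧ b₂ ∈ I ∧ b₁ ≠ 1 ∧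
        b₂ ≠ 1 ∧ b₁ ≠ b₂ ∧ ∀ T ∈ I, T ≠ 1 → Broad T → T = b₁ ∨ T = b₂ := by
      obtain ⟨b₁, m1, n1, h1⟩ : ∃ b₁ ∈ I, b₁ ≠ 1 ∧
          ∀ T ∈ I, T ≠ 1 → Broad T → Broad b₁ := by
        by_cases h : ∃ T ∈ I, T ≠ 1 ∧ Broad T
        · obtain ⟨T, a, b, c⟩ := h
          exact ⟨T, a, b, fun _ _ _ _ => c⟩
        · obtain ⟨z, hz, hz1⟩ := big {1} (by simp)
          exact ⟨z, hz, by simpa using hz1, fun T a b c => absurd ⟨T, a, b, c⟩ h⟩
      by_cases h : ∃ T ∈ I, T ≠ 1 ∧ T ≠ b₁ ∧ Broad T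
      · obtain ⟨b₂, m2, n2, d, r2⟩ := h
        refine ⟨b₁, b₂, m1, m2, n1, n2, d.symm, fun T hT hT1 hb => ?_⟩
        by_contra hne
        push Not at hne
        exact three T b₁ b₂ hT m1 m2 hT1 n1 n2 hb (h1 T hT hT1 hb) r2 hne.1 hne.2 d.symm
      · obtain ⟨z, hz, hz1⟩ := big {1, b₁} (lt_of_le_of_lt Finset.card_le_two (by norm_num))
        simp only [Finset.mem_insert, Finset.mem_singleton, not_or] at hz1
        refine ⟨b₁, z, m1, hz, n1, hz1.1, Ne.symm hz1.2, fun T hT hT1 hb => Or.inl ?_⟩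
        by_contra hne
        exact h ⟨T, hT, hT1, hne, hb⟩
    obtain ⟨z, hz, hz'⟩ := big {1, b₁, b₂, b₁ * b₂} (lt_of_le_of_lt Finset.card_le_four (by norm_num))
    simp only [Finset.mem_insert, Finset.mem_singleton, not_or] at hz'
    obtain ⟨z1, zb1, zb2, zb12⟩ := hz'
    have hxI : b₁ * b₂ ∈ I := mul_mem m1 m2
    have hx1 : b₁ * b₂ ≠ 1 := fun h => d (by
      rw [← mul_one b₁, ← hIexp b₂ m2, ← mul_assoc, h, one_mul])
    have nb : ∀ T ∈ I, T ≠ 1 → T ≠ b₁ → T ≠ b₂ → ¬ Broad T := fun T hT h1 h2 h3 hb =>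
      (hB T hT h1 hb).elim h2 h3
    have hxz : b₁ * b₂ * z ≠ 1 := fun h => zb12 (by
      rw [← one_mul z, ← hIexp _ hxI, mul_assoc (b₁ * b₂) (b₁ * b₂) z, h, mul_one])
    have key : ∀ {y : MulAut P}, b₁ * b₂ * z = y → z = b₁ * b₂ * y := fun h => by
      rw [← h, ← mul_assoc, hIexp _ hxI, one_mul]
    obtain ⟨-, -, -, a, b, c, haI, hbI, hcI, hab, hac, hbc, hBr, -⟩ :=
      structure_of_four hp hp2 hP I hIc hIexp hI8 hxI hz hx1 z1 (fun h => zb12 h.symm)
        (nb _ hxI hx1 (fun h => n2 (mul_eq_left.1 h)) (fun h => n1 (mul_eq_right.1 h)))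
        (nb _ hz z1 zb1 zb2)
        (nb _ (mul_mem hxI hz) hxz
          (fun h => zb2 (by rw [key h, hIc _ hxI b₁ m1, ← mul_assoc, hIexp b₁ m1, one_mul]))
          (fun h => zb1 (by rw [key h, mul_assoc, hIexp b₂ m2, mul_one])))
    obtain ⟨a0, a1, a2⟩ := (hBr a).2 (Or.inl rfl)
    obtain ⟨b0, b1', b2'⟩ := (hBr b).2 (Or.inr (Or.inl rfl))
    obtain ⟨c0, c1, c2⟩ := (hBr c).2 (Or.inr (Or.inr rfl))
    rcases hB a a0 a1 a2 with rfl | rfl <;> rcases hB b b0 b1' b2' with rfl | rfl <;>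
      rcases hB c c0 c1 c2 with rfl | rfl <;>
      first | exact hab rfl | exact hac rfl | exact hbc rfl

end Cfsg.Agent.S4412
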