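import Cfsg.Statements.S4413
import Cfsg.Agent.Lib.LargeExtra.ExtFormTypes
import Cfsg.Agent.S0824

set_option autoImplicit false
open Cfsg

namespace Cfsg.Agent.S4413

/-- Let P be an extraspecial 2-group of order 32 with no elementary abelian subgroup of order 8 (the central product of a dihedral and a quaternion group of order 8). Then the inner automorphism group of P has order 16 and the outer automorphism group Aut(P)/Inn(P) is isomorphic to the symmetric group of degree 5; in particular Aut(P) has order 1920. -/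
theorem result {P : Type*} [Group P] [Finite P]
    (hex : Cfsg.IsExtraspecial 2 P) (h32 : Nat.card P = 32)
    (hminus : ∀ A : Subgroup P, Cfsg.IsElementaryAbelian 2 A → Nat.card ↥A ≤ 4)
    [(MulAut.conj : P →* MulAut P).range.Normal] :
    Nat.card ↥(MulAut.conj : P →* MulAut P).range = 16 ∧ Nat.card (MulAut P) = 1920 ∧
      Nonempty ((MulAut P ⧸ (MulAut.conj : P →* MulAut P).range) ≃* Equiv.Perm (Fin 5)) := by
  haveI : Nonempty ((Fin 1 ⊕ Fin 1) ⊕ Fin 2) := ⟨.inr 0⟩
  have hrange : Nat.card ↥(MulAut.conj : P →* MulAut P).range = 16 := by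
    have h1 := Subgroup.index_ker (MulAut.conj : P →* MulAut P)
    have hker : (MulAut.conj : P →* MulAut P).ker = Subgroup.center P := by
      ext x
      rw [MonoidHom.mem_ker, Subgroup.mem_center_iff]
      constructor
      · intro h y
        have := congrArg (fun φ : MulAut P => φ y) h
        exact (mul_inv_eq_iff_eq_mul.mp this).symm
      · intro h
        refine MulEquiv.ext fun y => ?_
        show x * y * x⁻¹ = y
        rw [← h y, mul_inv_cancel_right]
    have h2 := (Subgroup.center P).index_mul_card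
    rw [hex.2, h32, ← hker, h1] at h2
    omega
  have hE : Cfsg.PRankLE 2 2 P := fun A hc hA => hminus A ⟨hc, hA⟩
  obtain ⟨e⟩ := Cfsg.Agent.GenA.ExtraspecialTwo.iso hex
    (Cfsg.Agent.LargeExtra.ExtForm.isExtraspecial (Cfsg.Agent.LargeExtra.ExtForm.nondeg_minus 1))
    (n := 2) h32 (by rw [Cfsg.Agent.LargeExtra.ExtForm.card_ext, h32]; rfl)
    ⟨fun _ => Cfsg.Agent.LargeExtra.ExtForm.minus_rank 1, fun _ => hE⟩
  obtain ⟨e₁⟩ := Cfsg.Agent.LargeExtra.ExtForm.out_congr e
  obtain ⟨e₂⟩ := Cfsg.Agent.LargeExtra.ExtForm.out_equiv (Cfsg.Agent.LargeExtra.ExtForm.nondeg_minus 1) _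
    (Cfsg.Agent.LargeExtra.ExtForm.quadFormMinus_eq 1)
  obtain ⟨e₃⟩ := Cfsg.Agent.S0824.result (F := ZMod 2) (ZMod.card 2)
  let E : (MulAut P ⧸ (MulAut.conj : P →* MulAut P).range) ≃* Equiv.Perm (Fin 5) :=
    (e₁.trans e₂).trans e₃
  refine ⟨hrange, ?_, ⟨E⟩⟩
  rw [Subgroup.card_eq_card_quotient_mul_card_subgroup (MulAut.conj : P →* MulAut P).range, hrange,
    Nat.card_congr E.toEquiv, Nat.card_perm, Nat.card_fin]
  rfl

end Cfsg.Agent.S4413
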