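import Cfsg.Statements.S4414
import Cfsg.Agent.GenA.WeightFixedBaseChange

set_option autoImplicit false
open Cfsg

namespace Cfsg.Agent.S4414

/-- Let S be a finite solvable group whose order is divisible only by the primes 2, p, q (p, q distinct odd primes), with a Sylow system S₂, S_p, S_q (pairwise permutable Sylow subgroups) such that: S_p is a minimal normal subgroup of S of order p or p²; S_q has order q and [S_p, S_q] = S_p; and O₂(S) = 1. Let E be an irreducible module for S over the field with two elements on which S_p acts faithfully, and E₀ the subspace of fixed points of S₂. Then either E₀ has at least 8 elements, or E₀ has exactly 4 elements and S_q does not leave E₀ invariant. -/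
theorem result {S : Type*} [Group S] [Finite S]
    [Group.IsSolvable S] (p q : ℕ) (hp : p.Prime) (hq : q.Prime) (hp2 : p ≠ 2) (hq2 : q ≠ 2) (hpq : p ≠ q)
    (hπ : ∀ r : ℕ, r.Prime → r ∣ Nat.card S → r = 2 ∨ r = p ∨ r = q)
    (S₂ : Sylow 2 S) (Sp : Sylow p S) (Sq : Sylow q S)
    (h2q : Nat.card ↥((S₂ : Subgroup S) ⊔ (Sq : Subgroup S)) = Nat.card ↥S₂ * Nat.card ↥Sq)
    (h2p : Nat.card ↥((S₂ : Subgroup S) ⊔ (Sp : Subgroup S)) = Nat.card ↥S₂ * Nat.card ↥Sp)
    (hpq' : Nat.card ↥((Sp : Subgroup S) ⊔ (Sq : Subgroup S)) = Nat.card ↥Sp * Nat.card ↥Sq)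
    (hSpN : (Sp : Subgroup S).Normal) (hSpmin : ∀ N : Subgroup S, N.Normal → N ≤ (Sp : Subgroup S) → N = ⊥ ∨ N = (Sp : Subgroup S))
    (hSpcard : Nat.card ↥Sp = p ∨ Nat.card ↥Sp = p ^ 2)
    (hSq : Nat.card ↥Sq = q) (hcomm : ⁅(Sp : Subgroup S), (Sq : Subgroup S)⁆ = (Sp : Subgroup S))
    (hO2 : Cfsg.pCore 2 S = ⊥)
    {E : Type*} [AddCommGroup E] [Module (ZMod 2) E] [Finite E] (ρ : Representation (ZMod 2) S E) (hE : Nontrivial E)
    (hirr : ∀ N : Submodule (ZMod 2) E, (∀ s : S, ∀ m ∈ N, ρ s m ∈ N) → N = ⊥ ∨ N = ⊤)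
    (hfaith : ∀ x ∈ (Sp : Subgroup S), ρ x = 1 → x = 1) :
    8 ≤ Nat.card {v : E // ∀ s ∈ (S₂ : Subgroup S), ρ s v = v} ∨
      (Nat.card {v : E // ∀ s ∈ (S₂ : Subgroup S), ρ s v = v} = 4 ∧
        ∃ x ∈ (Sq : Subgroup S), ∃ v : E, (∀ s ∈ (S₂ : Subgroup S), ρ s v = v) ∧ ¬ ∀ s ∈ (S₂ : Subgroup S), ρ s (ρ x v) = ρ x v) := by
  classical
  haveI := Fact.mk hp
  haveI := Fact.mk hq
  haveI := hSpN
  haveI := Fintype.ofFinite ↥(Sp : Subgroup S)
  set A : Subgroup S := (Sp : Subgroup S) with hAdef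
  have hAcard : Nat.card A = p ∨ Nat.card A = p ^ 2 := hSpcard
  have hA2 : Odd (Nat.card A) := by
    rcases hAcard with h | h <;> rw [h]
    · exact hp.odd_of_ne_two hp2
    · exact (hp.odd_of_ne_two hp2).pow
  haveI : Nontrivial A := by
    rw [← Finite.one_lt_card_iff_nontrivial]
    rcases hAcard with h | h <;> rw [h]
    · exact hp.one_lt
    · exact one_lt_pow₀ hp.one_lt two_ne_zero
  -- `Sp` is abelian
  have hA : ∀ a b : A, a * b = b * a := by
    set Z := (Subgroup.center A).map A.subtype with hZ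
    have hZn : Z.Normal := ⟨by
      rintro - ⟨z, hz, rfl⟩ g
      refine ⟨⟨g * z * g⁻¹, hSpN.conj_mem z z.2 g⟩, Subgroup.mem_center_iff.2 fun w => ?_, rfl⟩
      have h := congrArg Subtype.val (Subgroup.mem_center_iff.1 hz
        ⟨g⁻¹ * w * g, by simpa using hSpN.conj_mem w w.2 g⁻¹⟩)
      simp only [Subgroup.coe_mul] at h
      apply Subtype.ext
      show (w : S) * (g * z * g⁻¹) = g * z * g⁻¹ * w
      calc (w : S) * (g * z * g⁻¹) = g * ((g⁻¹ * w * g) * z) * g⁻¹ := by group
        _ = g * ((z : S) * (g⁻¹ * w * g)) * g⁻¹ := by rw [h]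
        _ = g * z * g⁻¹ * w := by group⟩
    rcases hSpmin Z hZn (Subgroup.map_subtype_le _) with h | h
    · haveI := (Sp.2 : IsPGroup p A).center_nontrivial
      exfalso
      rw [hZ, Subgroup.map_eq_bot_iff_of_injective _ A.subtype_injective] at h
      obtain ⟨z, hz⟩ := exists_ne (1 : Subgroup.center A)
      exact hz (Subtype.ext ((Subgroup.mem_bot).1 (h ▸ z.2)))
    · intro a b
      obtain ⟨z, hz, hza⟩ := (h.ge a.2 : (a : S) ∈ Z)
      rw [show a = z from A.subtype_injective hza.symm]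
      exact (Subgroup.mem_center_iff.1 hz b).symm
  -- a generator of `Sq`
  have hcyc : IsCyclic (Sq : Subgroup S) := isCyclic_of_prime_card hSq
  obtain ⟨x, hxgen⟩ := hcyc.exists_generator
  have hxq : (x : S) ^ q = 1 := by
    have h := congrArg Subtype.val (pow_card_eq_one' (x := x))
    rwa [show Nat.card ↥(Sq : Subgroup S) = q from hSq, SubgroupClass.coe_pow,
      OneMemClass.coe_one] at h
  have hfree : ∀ μ : A →* GenA.WeightFixed.Kˣ, μ ≠ 1 →
      GenA.WeightFixed.tw A (x : S) μ ≠ μ := by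
    intro μ hμ htw
    have hinv : ∀ y ∈ (Sq : Subgroup S), ∀ z : A,
        μ (MulAut.conjNormal y z) = μ z := by
      intro y hy z
      obtain ⟨n, hn⟩ := Submonoid.mem_powers_iff _ _ |>.1
        ((isOfFinOrder_of_finite x).mem_powers_iff_mem_zpowers.2 (hxgen ⟨y, hy⟩⁻¹))
      have hn' : (x : S) ^ n = y⁻¹ := by
        rw [← SubgroupClass.coe_pow, hn]; rfl
      have h := GenA.WeightFixed.tw_pow_fix A htw n
      rw [hn'] at h
      have h' := DFunLike.congr_fun h z
      rwa [GenA.WeightFixed.tw_apply, inv_inv] at h'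
    apply hμ
    ext a
    have hle : ⁅A, (Sq : Subgroup S)⁆ ≤ μ.ker.map A.subtype := by
      rw [Subgroup.commutator_le]
      intro s hs y hy
      refine ⟨⟨s, hs⟩ * MulAut.conjNormal y (⟨s, hs⟩⁻¹ : A), ?_, ?_⟩
      · show μ _ = 1
        rw [map_mul, hinv y hy, map_inv, mul_inv_cancel]
      · simp [commutatorElement_def, mul_assoc]
    obtain ⟨b, hb, hba⟩ := hle (hcomm.ge a.2)
    rw [show a = b from A.subtype_injective hba.symm, show μ b = 1 from hb]
    rfl
  -- the module over the algebraically closed field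
  set σ := GenA.WeightFixed.ext2 ρ with hσ
  haveI : Module.Free (ZMod 2) E := Module.Free.of_divisionRing _ _
  haveI : Nontrivial (TensorProduct (ZMod 2) GenA.WeightFixed.K E) := by
    obtain ⟨v, hv⟩ := exists_ne (0 : E)
    refine ⟨⟨(1 : GenA.WeightFixed.K) ⊗ₜ[ZMod 2] v, 0, fun h => hv ?_⟩⟩
    obtain ⟨κ, B⟩ := Module.Basis.exists_basis (ZMod 2) GenA.WeightFixed.K
    let b := B.some
    obtain ⟨i, hi⟩ : ∃ i, b.repr 1 i ≠ 0 := by
      by_contra hh
      push Not at hh
      exact one_ne_zero (b.repr.map_eq_zero_iff.1 (Finsupp.ext hh))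
    have := congrArg (fun w => TensorProduct.equivFinsuppOfBasisLeft (N := E) b w i) h
    simp only [map_zero, Finsupp.zero_apply,
      TensorProduct.equivFinsuppOfBasisLeft_apply_tmul_apply] at this
    exact (smul_eq_zero.1 this).resolve_left hi
  have hnofix : ∀ w, (∀ a : A, σ a w = w) → w = 0 := by
    intro w hw
    have h := GenA.WeightFixed.fixed_mem_span ρ (A : Set S) (fun g hg => hw ⟨g, hg⟩)
    have hbot : GenA.WeightFixed.fixSub ρ (A : Set S) = ⊥ := by
      refine (hirr _ ?_).resolve_right fun htop => ?_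
      · intro s m hm g hg
        rw [← Module.End.mul_apply, ← map_mul, show g * s = s * (s⁻¹ * g * s) by group, map_mul,
          Module.End.mul_apply, hm _ (show s⁻¹ * g * s ∈ (A : Set S) from
            by simpa using hSpN.conj_mem g hg s⁻¹)]
      · obtain ⟨a, ha⟩ := exists_ne (1 : A)
        refine ha (Subtype.ext (hfaith a a.2 (LinearMap.ext fun v => ?_)))
        exact (htop.ge (Submodule.mem_top (x := v))) a a.2
    rw [hbot, Submodule.bot_coe, Set.image_singleton, TensorProduct.tmul_zero,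
      Submodule.span_zero_singleton] at h
    exact h
  obtain ⟨⟨v2, hli2, hf2⟩, ⟨u, huP, hux⟩, h3⟩ :=
    GenA.WeightFixed.fixed_bounds A σ hA hA2 hnofix S₂.2 hq2 hxq hfree
  set F := GenA.WeightFixed.fixSub ρ ((S₂ : Subgroup S) : Set S) with hF
  have hcardF : Nat.card {v : E // ∀ s ∈ (S₂ : Subgroup S), ρ s v = v} = Nat.card F := rfl
  rw [hcardF]
  have h4 : 4 ≤ Nat.card F := GenA.WeightFixed.card_fixed_ge ρ _ v2 hli2 hf2
  obtain ⟨d, hd⟩ : ∃ d, Nat.card F = 2 ^ d :=
    ⟨_, by rw [Module.natCard_eq_pow_finrank (K := ZMod 2), Nat.card_zmod]⟩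
  rcases Nat.lt_or_ge (Nat.card F) 8 with h8 | h8
  swap
  · exact Or.inl h8
  have hd2 : d = 2 := by
    rw [hd] at h4 h8
    have h3' : d < 3 := (Nat.pow_lt_pow_iff_right (a := 2) (by norm_num)).1
      (lt_of_lt_of_eq h8 (by norm_num : (8 : ℕ) = 2 ^ 3))
    have h2' : 2 ≤ d := (Nat.pow_le_pow_iff_right (a := 2) (by norm_num)).1
      (le_trans (le_of_eq (by norm_num : 2 ^ 2 = (4 : ℕ))) h4)
    omega
  refine Or.inr ⟨by rw [hd, hd2]; norm_num, ?_⟩
  by_contra hcon
  push Not at hcon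
  -- `Sq` preserves the fixed points
  have hxF : ∀ y ∈ (Sq : Subgroup S), ∀ v ∈ F, ρ y v ∈ F := fun y hy v hv => hcon y hy v hv
  let L : Subgroup S := (S₂ : Subgroup S) ⊔ (Sq : Subgroup S)
  let H : Subgroup S :=
    { carrier := {g | g ∈ L ∧ ∀ v ∈ F, ρ g v = v}
      one_mem' := ⟨one_mem _, fun v _ => by simp⟩
      mul_mem' := fun {g k} hg hk => ⟨mul_mem hg.1 hk.1, fun v hv => by
        rw [map_mul, Module.End.mul_apply, hk.2 v hv, hg.2 v hv]⟩
      inv_mem' := fun {g} hg => ⟨inv_mem hg.1, fun v hv => by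
        conv_lhs => rw [← hg.2 v hv]
        rw [← Module.End.mul_apply, ← map_mul, inv_mul_cancel, map_one, Module.End.one_apply]⟩ }
  have hS2H : (S₂ : Subgroup S) ≤ H := fun g hg =>
    ⟨le_sup_left (a := (S₂ : Subgroup S)) hg, fun v hv => hv g hg⟩
  have hconjH : ∀ y ∈ (Sq : Subgroup S), ∀ g ∈ (S₂ : Subgroup S), y * g * y⁻¹ ∈ H := by
    intro y hy g hg
    refine ⟨mul_mem (mul_mem (le_sup_right (b := (Sq : Subgroup S)) hy) (le_sup_left
      (a := (S₂ : Subgroup S)) hg)) (inv_mem (le_sup_right (b := (Sq : Subgroup S)) hy)),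
      fun v hv => ?_⟩
    rw [map_mul, map_mul, Module.End.mul_apply, Module.End.mul_apply,
      hxF y⁻¹ (inv_mem hy) v hv g hg, ← Module.End.mul_apply, ← map_mul, mul_inv_cancel, map_one,
      Module.End.one_apply]
  have hnotfix : ∃ v ∈ F, ρ (x : S) v ≠ v := by
    by_contra hh
    push Not at hh
    apply hux
    have h := GenA.WeightFixed.fixed_mem_span ρ ((S₂ : Subgroup S) : Set S) huP
    clear hux huP
    induction h using Submodule.span_induction with
    | mem w hw =>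
      obtain ⟨v, hv, rfl⟩ := hw
      rw [hσ, GenA.WeightFixed.ext2_tmul, hh v hv]
    | zero => rw [map_zero]
    | add a b _ _ ha hb => rw [map_add, ha, hb]
    | smul c a _ ha => rw [map_smul, ha]
  -- `H` is either `S₂` or all of `S₂ Sq`
  have hHL : H ≤ L := fun g hg => hg.1
  have hdvd : Nat.card H ∣ Nat.card ↥S₂ * q := by
    rw [← hSq, ← h2q]
    exact Subgroup.card_dvd_of_le hHL
  obtain ⟨k, hk⟩ := Subgroup.card_dvd_of_le hS2H
  have hkq : k ∣ q := by
    rw [hk] at hdvd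
    exact (Nat.mul_dvd_mul_iff_left Nat.card_pos).1 hdvd
  rcases (Nat.dvd_prime hq).1 hkq with hk1 | hkq
  · have hHeq : (S₂ : Subgroup S) = H := Subgroup.eq_of_le_of_card_ge hS2H (by
      rw [hk, hk1, mul_one])
    obtain ⟨v3, hli3, hf3⟩ := h3 fun g => by
      constructor
      · intro hg
        rw [hHeq]; exact hconjH x x.2 g hg
      · intro hg
        have h := hconjH (x : S)⁻¹ (inv_mem x.2) _ hg
        rw [← hHeq] at h
        simpa [mul_assoc] using h
    have := GenA.WeightFixed.card_fixed_ge ρ _ v3 hli3 hf3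
    rw [hd, hd2] at this
    norm_num at this
  · have hHeq : H = L := Subgroup.eq_of_le_of_card_ge hHL (by
      rw [hk, hkq, h2q, hSq]
      exact le_rfl)
    obtain ⟨v, hv, hxv⟩ := hnotfix
    exact hxv ((hHeq.ge (le_sup_right (a := (S₂ : Subgroup S)) x.2)).2 v hv)

end Cfsg.Agent.S4414
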