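import Cfsg.Statements.S4415
import Cfsg.Agent.ASolv.CubicModule
import Cfsg.Agent.Solvable.Fitting
import Cfsg.Agent.Lib.Coprime.Commutator

set_option autoImplicit false
open Cfsg

namespace Cfsg.Agent.S4415

open Cfsg.Agent.ASolv.CubicFour Cfsg.Agent.ASolv.CubicModule
open scoped commutatorElement

/-- Let S be a finite solvable group acting faithfully on a finite-dimensional space E over the field with three elements, with O₃(S) = 1. Let B ≤ S have order 3 and suppose: E = E₀ ⊕ E₁ with B fixing E₁ pointwise, E₀ B-invariant of order 27 and indecomposable under B (a generator of B has a single Jordan block on E₀); B normalizes but does not centralize some subgroup Q of S that is elementary abelian of order 4; and B is the centre of a Sylow 3-subgroup of S. Put R = [O_{3'}(S), B]. Then R is elementary abelian of order 4 or extraspecial of order 32 containing an elementary abelian subgroup of order 8 (a central product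 of two quaternion groups), and E is the direct sum of a subspace fixed pointwise by R and an RB-invariant subspace on which the subgroup RB acts faithfully and irreducibly. -/
theorem result {S : Type*} [Group S] [Finite S]
    [Group.IsSolvable S] {E : Type*} [AddCommGroup E] [Module (ZMod 3) E] [Finite E] (ρ : Representation (ZMod 3) S E)
    (hfaith : Function.Injective ρ) (hO3 : Cfsg.pCore 3 S = ⊥)
    (B : Subgroup S) (hB : Nat.card ↥B = 3) (b : S) (hb : Subgroup.zpowers b = B)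
    (E₀ E₁ : Submodule (ZMod 3) E) (hE01 : E₀ ⊓ E₁ = ⊥) (hE01' : E₀ ⊔ E₁ = ⊤)
    (hE1 : ∀ v ∈ E₁, ρ b v = v) (hE0inv : ∀ v ∈ E₀, ρ b v ∈ E₀) (hE0 : Nat.card ↥E₀ = 27)
    (hind : ∃ v ∈ E₀, ρ b (ρ b v - v) - (ρ b v - v) ≠ 0)
    (Q : Subgroup S) (hQ : Cfsg.IsElementaryAbelian 2 Q) (hQ4 : Nat.card ↥Q = 4)
    (hBQ : B ≤ Subgroup.normalizer (Q : Set S)) (hBQ' : ¬ B ≤ Subgroup.centralizer (Q : Set S))
    (P : Sylow 3 S) (hBZ : (Subgroup.center ↥(P : Subgroup S)).map (P : Subgroup S).subtype = B) :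
    ((Cfsg.IsElementaryAbelian 2 ⁅Cfsg.pPrimeCore 3 S, B⁆ ∧ Nat.card ↥⁅Cfsg.pPrimeCore 3 S, B⁆ = 4) ∨
      (Cfsg.IsExtraspecial 2 ↥⁅Cfsg.pPrimeCore 3 S, B⁆ ∧ Nat.card ↥⁅Cfsg.pPrimeCore 3 S, B⁆ = 32 ∧
        ∃ A : Subgroup S, A ≤ ⁅Cfsg.pPrimeCore 3 S, B⁆ ∧ Cfsg.IsElementaryAbelian 2 A ∧ Nat.card ↥A = 8)) ∧
    ∃ F₀ F₁ : Submodule (ZMod 3) E, F₀ ⊓ F₁ = ⊥ ∧ F₀ ⊔ F₁ = ⊤ ∧
      (∀ r ∈ ⁅Cfsg.pPrimeCore 3 S, B⁆, ∀ v ∈ F₁, ρ r v = v) ∧ (∀ r ∈ ⁅Cfsg.pPrimeCore 3 S, B⁆ ⊔ B, ∀ v ∈ F₀, ρ r v ∈ F₀) ∧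
      (∀ r ∈ ⁅Cfsg.pPrimeCore 3 S, B⁆ ⊔ B, (∀ v ∈ F₀, ρ r v = v) → r = 1) ∧
      (∀ N : Submodule (ZMod 3) E, N ≤ F₀ → (∀ r ∈ ⁅Cfsg.pPrimeCore 3 S, B⁆ ⊔ B, ∀ v ∈ N, ρ r v ∈ N) → N = ⊥ ∨ N = F₀) := by
  classical
  haveI : Fact (Nat.Prime 3) := ⟨Nat.prime_three⟩
  set H := Cfsg.pPrimeCore 3 S with hH
  set R := ⁅H, B⁆ with hR
  have hbB : b ∈ B := hb ▸ Subgroup.mem_zpowers b
  have hb3 : b ^ 3 = 1 := by
    have h := pow_card_eq_one' (x := (⟨b, hbB⟩ : B))
    rw [hB] at h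
    exact congrArg Subtype.val h
  have hHn : H.Normal := inferInstance
  -- the cubic element
  let D : E →ₗ[ZMod 3] E := ρ b - 1
  have hD : ∀ v, D v = ρ b v - v := fun _ => rfl
  have hD0 : ∀ v ∈ E₀, D v ∈ E₀ := fun v hv => by rw [hD]; exact E₀.sub_mem (hE0inv v hv) hv
  have hrange : LinearMap.range D ≤ E₀.map D := by
    rintro w ⟨v, rfl⟩
    obtain ⟨x, hx, y, hy, rfl⟩ := Submodule.mem_sup.1 (show v ∈ E₀ ⊔ E₁ by rw [hE01']; trivial)
    exact ⟨x, hx, by rw [map_add, hD y, hE1 y hy, sub_self, add_zero]⟩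
  have hsmall : Nat.card (LinearMap.range (ρ b - 1)) ≤ 9 := by
    let f : E₀ →ₗ[ZMod 3] E := D.comp E₀.subtype
    have hcardf : Nat.card (LinearMap.range D) ≤ Nat.card (LinearMap.range f) := by
      refine Nat.card_le_card_of_injective (Submodule.inclusion ?_) (Submodule.inclusion_injective _)
      refine hrange.trans ?_
      rintro w ⟨x, hx, rfl⟩
      exact ⟨⟨x, hx⟩, rfl⟩
    have hprod : 27 = Nat.card (LinearMap.ker f) * Nat.card (LinearMap.range f) := by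
      rw [← hE0, Submodule.card_eq_card_quotient_mul_card (LinearMap.ker f),
        Nat.card_congr (f.quotKerEquivRange).toEquiv, mul_comm]
    obtain ⟨v, hv, hv'⟩ := hind
    have hw : (⟨D (D v), hD0 _ (hD0 v hv)⟩ : E₀) ∈ LinearMap.ker f := D_cube hb3 v
    have h3 := card_ge_three hw (fun e => hv' (congrArg Subtype.val e))
    show Nat.card (LinearMap.range D) ≤ 9
    have := Nat.mul_le_mul h3 (le_refl (Nat.card (LinearMap.range f)))
    omega
  have hcubic : Cubic ρ b := ⟨hb3, hsmall, by obtain ⟨v, -, hv⟩ := hind; exact ⟨v, hv⟩⟩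
  -- an element of the four-group inside `H`
  have hbn : ∀ g ∈ B, ∀ r ∈ H, g * r * g⁻¹ ∈ H := fun g _ r hr => hHn.conj_mem r hr g
  obtain ⟨q, hq, hqb⟩ : ∃ q ∈ Q, b * q ≠ q * b := by
    by_contra h
    push Not at h
    refine hBQ' ?_
    rw [← hb, Subgroup.zpowers_le, Subgroup.mem_centralizer_iff]
    exact fun q hq => (h q hq).symm
  have hbQ : b ∈ Subgroup.normalizer (Q : Set S) := hBQ hbB
  set x := q⁻¹ * (b * q * b⁻¹) with hx
  have hxQ : x ∈ Q := Q.mul_mem (Q.inv_mem hq) ((Subgroup.mem_normalizer_iff.1 hbQ q).1 hq)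
  have hx1 : x ≠ 1 := fun e => hqb (by
    have := mul_eq_one_iff_inv_eq.1 e
    rw [inv_inv] at this
    conv_rhs => rw [this]
    group)
  have hxx : x * x = 1 := by rw [← pow_two]; exact hQ.2 x hxQ
  have h4 := four_of hb3 hx hxx hx1
  have hxH : x ∈ H := by
    let f := QuotientGroup.mk' H
    have hO : Cfsg.pPrimeCore 3 (S ⧸ H) = ⊥ := Cfsg.Agent.Cores.pPrimeCore_quotient_self 3
    have hfP : ∀ y ∈ Cfsg.pCore 3 (S ⧸ H), f b * y = y * f b := by
      intro y hy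
      have := Cfsg.Agent.Cores.pCore_le_sylow
        (P.mapSurjective (f := f) (QuotientGroup.mk'_surjective H)) hy
      rw [Sylow.coe_mapSurjective] at this
      obtain ⟨p, hp, rfl⟩ := this
      have hbc : b ∈ (Subgroup.center (P : Subgroup S)).map (P : Subgroup S).subtype := by
        rw [hBZ]; exact hbB
      obtain ⟨c, hc, rfl⟩ := hbc
      rw [← map_mul, ← map_mul]
      exact congrArg f (congrArg Subtype.val (Subgroup.mem_center_iff.1 hc ⟨p, hp⟩).symm)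
    have hfb : f b ∈ Cfsg.pCore 3 (S ⧸ H) :=
      Cfsg.Agent.Solvable.Fitting.centralizer_pCore_le 3 hO
        (Subgroup.mem_centralizer_iff.2 fun y hy => (hfP y hy).symm)
    have hfx : f x ∈ Cfsg.pCore 3 (S ⧸ H) := by
      have he : f x = ((f q)⁻¹ * f b * f q) * (f b)⁻¹ := by
        simp only [hx, map_mul, map_inv]; group
      rw [he]
      refine mul_mem ?_ (inv_mem hfb)
      have := (inferInstance : (Cfsg.pCore 3 (S ⧸ H)).Normal).conj_mem _ hfb (f q)⁻¹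
      rwa [inv_inv] at this
    obtain ⟨k, hk⟩ := (Cfsg.Agent.Cores.pCore_isPGroup 3) ⟨f x, hfx⟩
    have hk' : f x ^ (3 ^ k) = 1 := congrArg Subtype.val hk
    rw [← QuotientGroup.eq_one_iff]
    show f x = 1
    have h2 : f x ^ 2 = 1 := by rw [← map_pow, pow_two, hxx, map_one]
    have hco : (Nat.gcd 2 (3 ^ k)) = 1 := (Nat.Coprime.pow_right k (by norm_num : Nat.Coprime 2 3))
    have := pow_gcd_eq_one.2 ⟨h2, hk'⟩
    rwa [hco, pow_one] at this
  set a := x⁻¹ * (b * x * b⁻¹) with ha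
  have haR : a ∈ R := by
    have := Subgroup.commutator_mem_commutator (H.inv_mem hxH) hbB (H₂ := B)
    rw [commutatorElement_def, inv_inv] at this
    rw [hR, ha]
    convert this using 1
    group
  have ha3 : a = x * (b * x * b⁻¹) := by rw [ha, inv_eq_of_mul_eq_one_right hxx]
  have h4' := four_of hb3 (u := x) ha (by
      rw [ha3, show x * (b * x * b⁻¹) * (x * (b * x * b⁻¹)) = x * ((b * x * b⁻¹) * x) * (b * x * b⁻¹)
        by group, ← h4.comm,
        show x * (x * (b * x * b⁻¹)) * (b * x * b⁻¹) = (x * x) * ((b * x * b⁻¹) * (b * x * b⁻¹))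
        by group, hxx, h4.sq₂, one_mul])
    (by rw [ha3]; exact h4.ne₃)
  -- `R` and `b`
  have hRH : R ≤ H := Subgroup.commutator_le.2 fun h hh g hg => by
    rw [commutatorElement_def, show h * g * h⁻¹ * g⁻¹ = h * (g * h⁻¹ * g⁻¹) by group]
    exact H.mul_mem hh (hbn g hg _ (H.inv_mem hh))
  have hcop : ¬ 3 ∣ Nat.card R := fun h => by
    have hc : (Nat.card H).Coprime 3 := Cfsg.Agent.Cores.pPrimeCore_card_coprime 3
    have := Nat.dvd_gcd (h.trans (Subgroup.card_dvd_of_le hRH)) (dvd_refl 3)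
    rw [hc] at this
    norm_num at this
  have hnorm : ∀ r ∈ R, b * r * b⁻¹ ∈ R := by
    have hle : R.map (MulAut.conj b).toMonoidHom ≤ R := by
      rw [hR, Subgroup.map_commutator]
      refine Subgroup.commutator_mono ?_ ?_
      · rintro y ⟨h, hh, rfl⟩; exact hHn.conj_mem h hh b
      · rintro y ⟨g, hg, rfl⟩; exact B.mul_mem (B.mul_mem hbB hg) (B.inv_mem hbB)
    exact fun r hr => hle ⟨r, hr, rfl⟩
  have hcomm : R ≤ Subgroup.closure {y | ∃ r ∈ R, y = r * b * r⁻¹ * b⁻¹} := by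
    have h := Cfsg.Agent.Coprime.commutator_commutator_eq (A := B) (K := H)
      (by rw [Subgroup.normalizer_eq_top (H := H)]; exact le_top)
      (by rw [hB]; exact (Cfsg.Agent.Cores.pPrimeCore_card_coprime 3).symm)
      (Or.inr inferInstance)
    rw [← hR] at h
    conv_lhs => rw [← h]
    rw [Subgroup.commutator_le]
    intro r hr g hg
    set Γ := Subgroup.closure {y | ∃ r ∈ R, y = r * b * r⁻¹ * b⁻¹}
    have h1 : ∀ s ∈ R, s * b * s⁻¹ * b⁻¹ ∈ Γ := fun s hs => Subgroup.subset_closure ⟨s, hs, rfl⟩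
    rw [← hb] at hg
    obtain ⟨i, rfl⟩ := Subgroup.mem_zpowers_iff.1 hg
    have hz : (b : S) ^ (3 : ℤ) = 1 := by exact_mod_cast hb3
    rw [← Int.emod_add_mul_ediv i 3, zpow_add, zpow_mul, hz, one_zpow, mul_one,
      commutatorElement_def]
    obtain h' | h' | h' : i % 3 = 0 ∨ i % 3 = 1 ∨ i % 3 = 2 := by omega
    · rw [h', zpow_zero, show r * 1 * r⁻¹ * 1⁻¹ = (1 : S) by group]; exact Γ.one_mem
    · rw [h', zpow_one]; exact h1 r hr
    · rw [h', show (2 : ℤ) = 1 + 1 by norm_num, zpow_add, zpow_one,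
        show r * (b * b) * r⁻¹ * (b * b)⁻¹ = (r * b * r⁻¹ * b⁻¹) *
          ((b * r * b⁻¹) * b * (b * r * b⁻¹)⁻¹ * b⁻¹) by group]
      exact Γ.mul_mem (h1 r hr) (h1 _ (hnorm r hr))
  have HD : Data ρ R b a (b * a * b⁻¹) := ⟨hfaith, hcubic, hnorm, hcomm, hcop, haR, h4'⟩
  refine ⟨HD.shape, LinearMap.ker (sumR ρ R), fixR ρ R, HD.inf_eq, HD.sup_eq,
    fun r hr v hv => hv r hr, fun r hr v hv => ?_, fun r hr h => ?_, fun N hN hinv => ?_⟩
  · exact HD.ker_inv (hb.symm ▸ hr) hv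
  · exact HD.faithful (hb.symm ▸ hr) h
  · exact HD.irreducible N hN (fun g hg v hv => hinv g (hb ▸ hg) v hv)

end Cfsg.Agent.S4415
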