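import Cfsg.Statements.S4416
import Cfsg.Agent.SolvStruct.ExtraspecialTwo

set_option autoImplicit false
open Cfsg

namespace Cfsg.Agent.S4416

/-- Classification of extraspecial 2-groups in intrinsic form. An extraspecial 2-group has order 2^(2m+1) for some m ≥ 1, and the number of its elements squaring to the identity is either 2^(2m) + 2^m or 2^(2m) − 2^m; two extraspecial 2-groups of the same order with the same number of such elements are isomorphic. (The two cases are the central products of m dihedral groups of order 8, and of m − 1 dihedral groups with one quaternion group.) -/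
theorem result (E : Type*) [Group E] [Finite E] (hE : Cfsg.IsExtraspecial 2 E) :
    (∃ m : ℕ, 1 ≤ m ∧ Nat.card E = 2 ^ (2 * m + 1) ∧
      (Nat.card {x : E // x ^ 2 = 1} = 2 ^ (2 * m) + 2 ^ m ∨ Nat.card {x : E // x ^ 2 = 1} = 2 ^ (2 * m) - 2 ^ m)) ∧
    ∀ (E' : Type*) [Group E'] [Finite E'], Cfsg.IsExtraspecial 2 E' → Nat.card E' = Nat.card E →
      Nat.card {x : E' // x ^ 2 = 1} = Nat.card {x : E // x ^ 2 = 1} → Nonempty (E ≃* E') := by
  have hcv : ∀ (X : Type _) [Group X], Nat.card {x : X // x ^ 2 = 1} = SolvStruct.ExtraspecialTwo.invs X :=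
    fun X _ => Nat.card_congr (Equiv.subtypeEquivRight fun x => by rw [pow_two])
  obtain ⟨z, hz⟩ := SolvStruct.ExtraspecialTwo.good_of_isExtraspecial hE
  refine ⟨?_, fun E' _ _ hE' hcard hinv => ?_⟩
  · obtain ⟨m, hm, hm'⟩ := SolvStruct.ExtraspecialTwo.count _ E z hz rfl
    haveI : Fact (Nat.Prime 2) := ⟨Nat.prime_two⟩
    obtain ⟨k, hk, hk'⟩ := PGroups.Extraspecial.exists_card_eq hE
    rw [hm] at hk'
    have := Nat.pow_right_injective le_rfl hk'
    refine ⟨m, by omega, hm, ?_⟩
    rw [hcv]
    rcases hm' with e | e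
    · exact Or.inl e
    · exact Or.inr (by omega)
  · obtain ⟨z', hz'⟩ := SolvStruct.ExtraspecialTwo.good_of_isExtraspecial hE'
    obtain ⟨e, -⟩ := SolvStruct.ExtraspecialTwo.iso _ E E' z z' hz hz' rfl hcard
      ((Nat.card_congr (Equiv.subtypeEquivRight fun x => by rw [pow_two])).trans
        (hinv.trans (Nat.card_congr (Equiv.subtypeEquivRight fun x => by rw [pow_two]))))
    exact ⟨e⟩

end Cfsg.Agent.S4416
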