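import Cfsg.Statements.S4419
import Cfsg.Agent.Lib.Transfer.Frobenius
import Cfsg.Agent.Lib.Transfer.SmallSylow
import Cfsg.Agent.Lib.Coprime.Commutator
import Cfsg.Agent.OddLocal.MetacyclicAction
import Cfsg.Agent.Lib.Fusion.MetacyclicTwo
import Cfsg.Agent.Solvable.Basics
import Cfsg.Agent.Lib.PLocal.Cores

set_option autoImplicit false
open Cfsg

namespace Cfsg.Agent.S4419


open Subgroup

theorem isMetacyclic_of_surjective {R X : Type*} [Group R] [Group X] (h : IsMetacyclic R) (f : R →* X)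
    (hf : Function.Surjective f) : IsMetacyclic X := by
  obtain ⟨N, hN, hNc, hQc⟩ := h
  haveI hn : (N.map f).Normal := hN.map f hf
  haveI := hNc
  haveI := hQc
  refine ⟨N.map f, hn, isCyclic_of_surjective (f.subgroupMap N) (f.subgroupMap_surjective N), ?_⟩
  refine isCyclic_of_surjective (QuotientGroup.map N (N.map f) f (le_comap_map f N)) fun y => ?_
  induction y using QuotientGroup.induction_on with
  | _ x =>
    obtain ⟨x', rfl⟩ := hf x
    exact ⟨(x' : R ⧸ N), rfl⟩

/-- The automorphisms induced on the Frattini quotient. -/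
noncomputable def frattiniHom (Q : Type*) [Group Q] : MulAut Q →* MulAut (Q ⧸ frattini Q) where
  toFun φ := QuotientGroup.congr (frattini Q) (frattini Q) φ (characteristic_iff_map_eq.1 inferInstance φ)
  map_one' := MulEquiv.ext fun y => QuotientGroup.induction_on y fun x => rfl
  map_mul' φ ψ := MulEquiv.ext fun y => QuotientGroup.induction_on y fun x => rfl

theorem card_frattini_quotient {p : ℕ} [Fact p.Prime] {Q : Type*} [Group Q] [Finite Q] (hQ : IsPGroup p Q)
    (hm : IsMetacyclic Q) : ∃ a, a ≤ 2 ∧ Nat.card (Q ⧸ frattini Q) = p ^ a := by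
  have hexp : ∀ x ∈ (⊤ : Subgroup (Q ⧸ frattini Q)), x ^ p = 1 := by
    intro x _
    induction x using QuotientGroup.induction_on with
    | _ x => exact (QuotientGroup.eq_one_iff _).2 (Cfsg.Agent.Solvable.Basics.pow_mem_frattini hQ x)
  obtain ⟨N, hN, hNc, hQc⟩ := isMetacyclic_of_surjective hm _ (QuotientGroup.mk'_surjective (frattini Q))
  have h := Cfsg.Agent.Fusion.MetacyclicTwo.card_dvd_sq hNc hQc ⊤ hexp
  rw [card_top, ← sq] at h
  obtain ⟨a, ha, e⟩ := (Nat.dvd_prime_pow Fact.out).1 h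
  exact ⟨a, ha, e⟩

theorem condition_of_coprime {G : Type*} [Group G] [Finite G] {p : ℕ} [Fact p.Prime] (S : Sylow p G)
    (hS : IsMetacyclic ↥(S : Subgroup G))
    (hcop : Nat.Coprime (Nat.card (G ⧸ pPrimePCore p G)) (p ^ 2 - 1)) :
    Cfsg.Agent.Transfer.Frobenius.Condition p G := by
  have hp : p.Prime := Fact.out
  refine Cfsg.Agent.Transfer.Frobenius.Condition.of_sylow S fun Q hQS => ?_
  have hQ : IsPGroup p Q := S.2.to_le hQS
  have hQm : IsMetacyclic Q :=
    Cfsg.Agent.OddLocal.MetacyclicAction.isMetacyclic_of_injective hS (inclusion hQS) (inclusion_injective hQS)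
  obtain ⟨a, ha, hcard⟩ := card_frattini_quotient hQ hQm
  intro g hg hgp
  obtain ⟨n, hn⟩ : ∃ n, orderOf g = n := ⟨_, rfl⟩
  induction n using Nat.strong_induction_on generalizing g with
  | _ n ih =>
  by_cases hn1 : n = 1
  · rw [orderOf_eq_one_iff.1 (hn.trans hn1)]
    exact one_mem _
  obtain ⟨r, hr, hrn⟩ := Nat.exists_prime_and_dvd hn1
  haveI : Fact r.Prime := ⟨hr⟩
  have hrp : r ≠ p := fun e => by
    rw [hn] at hgp
    exact hr.ne_one (Nat.eq_one_of_dvd_coprimes hgp hrn (e ▸ dvd_rfl))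
  have hn0 : n ≠ 0 := hn ▸ (orderOf_pos g).ne'
  -- the `r`-th power centralises
  have h1 : g ^ r ∈ centralizer (Q : Set G) := by
    refine ih (n / r) (Nat.div_lt_self (Nat.pos_of_ne_zero hn0) hr.one_lt) (g ^ r) (pow_mem hg r)
      (hgp.coprime_dvd_left (orderOf_pow_dvd r)) ?_
    rw [orderOf_pow' _ hr.ne_zero, hn, Nat.gcd_eq_right hrn]
  obtain ⟨b, m', hm', hnb⟩ := Nat.exists_eq_pow_mul_and_not_dvd hn0 r hr.ne_one
  by_cases hm1 : m' ≠ 1
  · have hm0 : m' ≠ 0 := fun e => hn0 (by rw [hnb, e, mul_zero])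
    have hb : b ≠ 0 := fun e => hm' (by rw [hnb, e, pow_zero, one_mul] at hrn; exact hrn)
    have h2 : g ^ m' ∈ centralizer (Q : Set G) := by
      refine ih (n / m') (Nat.div_lt_self (Nat.pos_of_ne_zero hn0) (by omega)) (g ^ m') (pow_mem hg m')
        (hgp.coprime_dvd_left (orderOf_pow_dvd m')) ?_
      rw [orderOf_pow' _ hm0, hn, Nat.gcd_eq_right (hnb ▸ dvd_mul_left m' _)]
    have hco : Nat.gcd r m' = 1 := (hr.coprime_iff_not_dvd.2 hm')
    have hbez := Nat.gcd_eq_gcd_ab r m'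
    rw [hco, Nat.cast_one] at hbez
    rw [← zpow_one g, hbez, zpow_add, zpow_mul, zpow_mul, zpow_natCast, zpow_natCast]
    exact mul_mem (zpow_mem h1 _) (zpow_mem h2 _)
  rw [not_not] at hm1
  rw [hm1, mul_one] at hnb
  by_cases hr2 : r ∣ p ^ 2 - 1
  · -- `g` lies in the `p'`-core
    have hg2 : g ∈ pPrimePCore p G := by
      rw [← QuotientGroup.eq_one_iff, ← orderOf_eq_one_iff]
      refine Nat.eq_one_of_dvd_coprimes ?_ ((orderOf_map_dvd (QuotientGroup.mk' (pPrimePCore p G)) g).trans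
        (by rw [hn, hnb])) (orderOf_dvd_natCard _)
      exact ((hcop.coprime_dvd_right hr2).pow_right b).symm
    have hg1 : g ∈ pPrimeCore p G := by
      rw [← QuotientGroup.eq_one_iff, ← orderOf_eq_one_iff]
      have hmem := Cfsg.Agent.PLocal.Cores.mem_pPrimePCore_iff.1 hg2
      obtain ⟨k, hk⟩ := IsPGroup.iff_orderOf.1 Cfsg.Agent.PLocal.Cores.isPGroup_pCore ⟨_, hmem⟩
      rw [orderOf_mk] at hk
      exact Nat.eq_one_of_dvd_coprimes (hgp.pow_right k)
        (orderOf_map_dvd (QuotientGroup.mk' (pPrimeCore p G)) g) hk.dvd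
    refine mem_centralizer_iff.2 fun x hx => ?_
    have e1 : x * g * x⁻¹ * g⁻¹ ∈ pPrimeCore p G :=
      mul_mem ((inferInstance : (pPrimeCore p G).Normal).conj_mem _ hg1 x) (inv_mem hg1)
    have e2 : x * g * x⁻¹ * g⁻¹ ∈ Q := by
      rw [show x * g * x⁻¹ * g⁻¹ = x * (g * x⁻¹ * g⁻¹) by group]
      exact mul_mem hx ((mem_normalizer_iff.1 hg _).1 (inv_mem hx))
    obtain ⟨k, hk⟩ := IsPGroup.iff_orderOf.1 hQ ⟨_, e2⟩
    rw [orderOf_mk] at hk
    have e3 : x * g * x⁻¹ * g⁻¹ = 1 := orderOf_eq_one_iff.1 (Nat.eq_one_of_dvd_coprimes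
      (Cfsg.Agent.PLocal.Cores.coprime_card_pPrimeCore.pow_right k)
      ((pPrimeCore p G).orderOf_dvd_natCard e1) hk.dvd)
    rwa [mul_inv_eq_one, mul_inv_eq_iff_eq_mul] at e3
  · -- `g` acts trivially on the Frattini quotient
    have hdiv : ∀ d < a, ¬ r ∣ p ^ a - p ^ d := by
      intro d hd hdvd
      have e : p ^ a - p ^ d = p ^ d * (p ^ (a - d) - 1) := by
        rw [Nat.mul_sub, mul_one, ← pow_add, Nat.add_sub_cancel' hd.le]
      rw [e] at hdvd
      rcases hr.dvd_mul.1 hdvd with h | h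
      · exact hrp ((Nat.prime_dvd_prime_iff_eq hr hp).1 (hr.dvd_of_dvd_pow h))
      · refine hr2 (h.trans ?_)
        have : a - d = 1 ∨ a - d = 2 := by omega
        rcases this with e | e <;> rw [e]
        rw [pow_one, show p ^ 2 - 1 = p ^ 2 - 1 ^ 2 from rfl, Nat.sq_sub_sq]
        exact dvd_mul_left _ _
    let φ : MulAut Q := Q.normalizerMonoidHom ⟨g, hg⟩
    have hφ : φ ^ r = 1 := by
      rw [← map_pow, ← MonoidHom.mem_ker, normalizerMonoidHom_ker, mem_subgroupOf]
      exact h1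
    have h3 := Cfsg.Agent.Transfer.SmallSylow.mulAut_eq_one hcard hdiv (frattiniHom Q φ)
      (by rw [← map_pow, hφ, map_one])
    have htriv : ∀ c ∈ zpowers g, ∀ k ∈ Q, c * k * c⁻¹ * k⁻¹ ∈ (frattini Q).map Q.subtype := by
      intro c hc k hk
      obtain ⟨i, rfl⟩ := mem_zpowers_iff.1 hc
      have hi : frattiniHom Q (φ ^ i) = 1 := by rw [map_zpow, h3, one_zpow]
      have hik := DFunLike.congr_fun hi ((⟨k, hk⟩ : Q) : Q ⧸ frattini Q)
      have hmem : (φ ^ i) ⟨k, hk⟩ * (⟨k, hk⟩ : Q)⁻¹ ∈ frattini Q :=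
        (QuotientGroup.eq_one_iff _).1 (by
          rw [QuotientGroup.mk_mul, QuotientGroup.mk_inv, mul_inv_eq_one]
          exact hik)
      refine ⟨_, hmem, ?_⟩
      rw [show φ ^ i = Q.normalizerMonoidHom (⟨g, hg⟩ ^ i) from (map_zpow _ _ _).symm]
      rfl
    have hle := Cfsg.Agent.Coprime.le_centralizer_of_frattini (A := zpowers g) (K := Q) (zpowers_le.2 hg)
      (by
        obtain ⟨k, hk⟩ := (hQ.to_subgroup (frattini Q)).exists_card_eq
        rw [Nat.card_zpowers, hk]
        exact hgp.pow_right k) htriv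
    exact hle (mem_zpowers g)

/-- Let p be a prime and G a finite group whose Sylow p-subgroups are metacyclic (a cyclic normal subgroup with cyclic quotient). Then G has a normal p-complement if and only if the order of G/O_{p′,p}(G) is coprime to p² − 1. -/
theorem result {G : Type*} [Group G] [Finite G] (p : ℕ) [Fact p.Prime] (S : Sylow p G) (hS : Cfsg.IsMetacyclic ↥(S : Subgroup G)) : Cfsg.HasNormalPComplement p G ↔ Nat.Coprime (Nat.card (G ⧸ Cfsg.pPrimePCore p G)) (p ^ 2 - 1) := by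
  constructor
  · intro h
    rw [Cfsg.Agent.Transfer.NormalPComplement.hasNormalPComplement_iff_pPrimePCore] at h
    rw [← Subgroup.index_eq_card, Subgroup.index_eq_one.2 h]
    exact Nat.coprime_one_left _
  · intro h
    exact Cfsg.Agent.Transfer.Frobenius.hasNormalPComplement_of_condition (condition_of_coprime S hS h)

end Cfsg.Agent.S4419
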