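import Cfsg.Statements.S4420

set_option autoImplicit false
open Cfsg

namespace Cfsg.Agent.S4420

open Subgroup in
theorem invert {H : Type*} [Group H] (A : Subgroup H) (hD : ∀ x : H, x ∉ A → x ^ 2 = 1)
    {x : H} (hx : x ∉ A) {b : H} (hb : b ∈ A) : x * b * x⁻¹ = b⁻¹ := by
  have h1 : x⁻¹ = x := inv_eq_of_mul_eq_one_right (by rw [← pow_two]; exact hD x hx)
  have h2 : x * b ∉ A := fun h => hx ((A.mul_mem_cancel_right hb).1 h)
  have h3 : x * b * (x * b) = 1 := by rw [← pow_two]; exact hD _ h2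
  rw [h1]
  refine eq_inv_of_mul_eq_one_left ?_
  rw [← h3]; group

open Subgroup in
theorem exp_two_comm {H : Type*} [Group H] (h : ∀ x : H, x ^ 2 = 1) : ∀ a b : H, a * b = b * a := by
  intro a b
  have e : ∀ x : H, x⁻¹ = x := fun x => inv_eq_of_mul_eq_one_right (by rw [← pow_two]; exact h x)
  calc a * b = (a * b)⁻¹ := (e _).symm
    _ = b * a := by rw [mul_inv_rev, e, e]


/-- Structure of groups in which every element outside some proper subgroup has square 1. Let H be a finite group with a proper subgroup A such that every element outside A has square 1. Then H has an abelian normal subgroup B of index 2 such that every element outside B is an involution inverting every element of B; and if H is not an elementary abelian 2-group, B is the only abelian normal subgroup of index 2 with this property. -/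
theorem result {H : Type*} [Group H] [Finite H] (A : Subgroup H) (hA : A ≠ ⊤) (hD : ∀ x : H, x ∉ A → x ^ 2 = 1) :
    ∃ B : Subgroup H, B.Normal ∧ IsMulCommutative ↥B ∧ B.index = 2 ∧
      (∀ x : H, x ∉ B → x ^ 2 = 1 ∧ ∀ b ∈ B, x * b * x⁻¹ = b⁻¹) ∧
      (¬ (IsMulCommutative H ∧ ∀ x : H, x ^ 2 = 1) →
        ∀ B' : Subgroup H, B'.Normal → IsMulCommutative ↥B' → B'.index = 2 →
          (∀ x : H, x ∉ B' → x ^ 2 = 1 ∧ ∀ b ∈ B', x * b * x⁻¹ = b⁻¹) → B' = B) := by
  have hinv : ∀ (B : Subgroup H), (∀ x, x ∉ B → x ^ 2 = 1) → ∀ x, x ∉ B → ∀ b ∈ B,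
      x * b * x⁻¹ = b⁻¹ := fun B hB x hx b hb => invert B hB hx hb
  obtain ⟨a, ha⟩ : ∃ a, a ∉ A := by
    by_contra h
    push Not at h
    exact hA (eq_top_iff.2 fun x _ => h x)
  have hAcomm : IsMulCommutative ↥A := by
    refine ⟨⟨fun b c => Subtype.ext ?_⟩⟩
    have h1 := hinv A hD a ha _ b.2
    have h2 := hinv A hD a ha _ c.2
    have h3 := hinv A hD a ha _ (A.mul_mem b.2 c.2)
    have h4 : a * (b * c : H) * a⁻¹ = (b : H)⁻¹ * (c : H)⁻¹ := by rw [← h1, ← h2]; group
    rw [h4, mul_inv_rev] at h3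
    have h5 := congrArg (fun t => t⁻¹) h3
    simp only [mul_inv_rev, inv_inv] at h5
    exact h5.symm
  -- uniqueness, for any `B`
  have huniq : ∀ B : Subgroup H, IsMulCommutative ↥B → B.index = 2 →
      (∀ x : H, x ∉ B → x ^ 2 = 1 ∧ ∀ b ∈ B, x * b * x⁻¹ = b⁻¹) →
      ¬ (IsMulCommutative H ∧ ∀ x : H, x ^ 2 = 1) →
      ∀ B' : Subgroup H, B'.index = 2 →
        (∀ x : H, x ∉ B' → x ^ 2 = 1 ∧ ∀ b ∈ B', x * b * x⁻¹ = b⁻¹) → B' = B := by
    intro B hBc hBi hB hne B' hB'i hB'
    by_contra hne'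
    apply hne
    have hexp : ∀ x : H, x ^ 2 = 1 := by
      obtain ⟨b, hb, hb'⟩ : ∃ b ∈ B, b ∉ B' := by
        by_contra h
        push Not at h
        refine hne' (Subgroup.eq_of_le_of_card_ge (show B ≤ B' from h) ?_).symm
        have e1 := B.card_mul_index
        have e2 := B'.card_mul_index
        rw [hBi] at e1
        rw [hB'i] at e2
        omega
      intro x
      by_cases hx : x ∈ B
      · by_cases hx' : x ∈ B'
        · have h1 := (hB' (b * x) (fun h => hb' ((B'.mul_mem_cancel_right hx').1 h))).1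
          have hcm : Commute b x := congrArg Subtype.val (hBc.is_comm.comm ⟨b, hb⟩ ⟨x, hx⟩)
          rwa [hcm.mul_pow, (hB' b hb').1, one_mul] at h1
        · exact (hB' x hx').1
      · exact (hB x hx).1
    exact ⟨⟨⟨exp_two_comm hexp⟩⟩, hexp⟩
  have hnormal : ∀ B : Subgroup H, B.index = 2 → B.Normal := fun B h =>
    Subgroup.normal_of_index_eq_two h
  by_cases hsplit : ∀ b, b ∈ A ∨ b * a ∈ A
  · have hi : A.index = 2 :=
      Subgroup.index_eq_two_iff_exists_notMem_and.2 ⟨a, ha, fun b => (hsplit b).symm⟩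
    have hB : ∀ x : H, x ∉ A → x ^ 2 = 1 ∧ ∀ b ∈ A, x * b * x⁻¹ = b⁻¹ :=
      fun x hx => ⟨hD x hx, hinv A hD x hx⟩
    exact ⟨A, hnormal A hi, hAcomm, hi, hB,
      fun hne B' _ _ hi' hB' => huniq A hAcomm hi hB hne B' hi' hB'⟩
  · push Not at hsplit
    obtain ⟨b, hb, hba⟩ := hsplit
    have hexp : ∀ x : H, x ^ 2 = 1 := by
      intro x
      by_cases hx : x ∈ A
      · have h1 := hinv A hD b hb x hx
        have h2 := hinv A hD a ha x hx
        have h3 := hinv A hD (b * a) hba x hx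
        have h4 : b * a * x * (b * a)⁻¹ = b * (a * x * a⁻¹) * b⁻¹ := by group
        have h5 : b * x⁻¹ * b⁻¹ = (b * x * b⁻¹)⁻¹ := by group
        rw [h4, h2, h5, h1, inv_inv] at h3
        rw [pow_two]
        nth_rw 2 [h3]
        rw [mul_inv_cancel]
      · exact hD x hx
    haveI : IsMulCommutative H := ⟨⟨exp_two_comm hexp⟩⟩
    have h2 : IsPGroup 2 H := fun x => ⟨1, by simpa using hexp x⟩
    obtain ⟨k, hk⟩ := h2.exists_card_eq
    obtain ⟨j, rfl⟩ : ∃ j, k = j + 1 := Nat.exists_eq_succ_of_ne_zero fun h0 => by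
      rw [h0, pow_zero] at hk
      exact hA (by
        haveI : Subsingleton H := (Nat.card_eq_one_iff_unique.1 hk).1
        exact Subsingleton.elim _ _)
    haveI : Fact (Nat.Prime 2) := ⟨Nat.prime_two⟩
    obtain ⟨B, hB⟩ := Sylow.exists_subgroup_card_pow_prime (G := H) 2
      (hk ▸ pow_dvd_pow 2 (Nat.le_succ j) : 2 ^ j ∣ Nat.card H)
    have hi : B.index = 2 := by
      have h := B.card_mul_index
      rw [hB, hk, pow_succ] at h
      exact Nat.eq_of_mul_eq_mul_left (by positivity) h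
    have hBc : IsMulCommutative ↥B := inferInstance
    have hBp : ∀ x : H, x ∉ B → x ^ 2 = 1 ∧ ∀ b ∈ B, x * b * x⁻¹ = b⁻¹ :=
      fun x hx => ⟨hexp x, hinv B (fun y _ => hexp y) x hx⟩
    exact ⟨B, hnormal B hi, hBc, hi, hBp,
      fun hne B' _ _ hi' hB' => huniq B hBc hi hBp hne B' hi' hB'⟩

end Cfsg.Agent.S4420
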