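import Cfsg.Statements.S4421
import Cfsg.Agent.Lib.Transfer.Fusion

set_option autoImplicit false
open Cfsg

namespace Cfsg.Agent.S4421

/-- A factorization of a normalizer from two-step control of fusion. Let `G` be a finite group and `A ≤ S ≤ H` subgroups of `G` such that: (i) `S` controls the `G`-fusion of `A` in the sense that every `G`-conjugate of `A` lying in `S` is an `S`-conjugate of `A`; (ii) `H` controls the `G`-fusion of `S` in the same sense; (iii) every conjugate of `S` by an element of the normalizer of `A` lies in `H`. Then `N_G(A) = N_H(A) · (N_G(S) ∩ N_G(A))`: every element of the normalizer of `A` is a product of an element of `H` normalizing `A` and an element normalizing both `S` and `A`. -/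
theorem result {G : Type*} [Group G] [Finite G] (A S H : Subgroup G)
    (hAS : A ≤ S) (hSH : S ≤ H)
    (h1 : ∀ g : G, A.map (MulAut.conj g).toMonoidHom ≤ S → ∃ s ∈ S, A.map (MulAut.conj g).toMonoidHom = A.map (MulAut.conj s).toMonoidHom)
    (h2 : ∀ g : G, S.map (MulAut.conj g).toMonoidHom ≤ H → ∃ y ∈ H, S.map (MulAut.conj g).toMonoidHom = S.map (MulAut.conj y).toMonoidHom)
    (h3 : ∀ x ∈ Subgroup.normalizer (A : Set G), S.map (MulAut.conj x).toMonoidHom ≤ H) :
    ∀ x ∈ Subgroup.normalizer (A : Set G), ∃ y ∈ H ⊓ Subgroup.normalizer (A : Set G),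
      ∃ z ∈ Subgroup.normalizer (S : Set G) ⊓ Subgroup.normalizer (A : Set G), x = y * z := by
  intro x hx
  open Transfer.Fusion in
  obtain ⟨y, hy, hxy⟩ := h2 x (h3 x hx)
  have hx' := Transfer.Fusion.map_conj_eq_self_iff.2 hx
  set z₀ := y⁻¹ * x
  have hz₀S : S.map (MulAut.conj z₀).toMonoidHom = S := by
    rw [Transfer.Fusion.map_conj_mul, hxy, Transfer.Fusion.map_conj_inv_cancel]
  obtain ⟨s, hs, hAs⟩ := h1 z₀ (le_of_le_of_eq (Subgroup.map_mono hAS) hz₀S)
  have hsS : S.map (MulAut.conj s).toMonoidHom = S :=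
    Transfer.Fusion.map_conj_eq_self_iff.2 (Subgroup.le_normalizer hs)
  have hzS : s⁻¹ * z₀ ∈ Subgroup.normalizer (S : Set G) := by
    refine Transfer.Fusion.map_conj_eq_self_iff.1 ?_
    rw [Transfer.Fusion.map_conj_mul, hz₀S]
    exact Transfer.Fusion.map_conj_eq_self_iff.2
      (Subgroup.inv_mem _ (Subgroup.le_normalizer hs))
  have hzA : s⁻¹ * z₀ ∈ Subgroup.normalizer (A : Set G) := by
    refine Transfer.Fusion.map_conj_eq_self_iff.1 ?_
    rw [Transfer.Fusion.map_conj_mul, hAs, Transfer.Fusion.map_conj_inv_cancel]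
  refine ⟨y * s, ⟨H.mul_mem hy (hSH hs), ?_⟩, s⁻¹ * z₀, ⟨hzS, hzA⟩, by simp only [z₀]; group⟩
  have he : y * s = x * (s⁻¹ * z₀)⁻¹ := by simp only [z₀]; group
  rw [he]
  exact Subgroup.mul_mem _ hx (Subgroup.inv_mem _ hzA)

end Cfsg.Agent.S4421
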