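import Cfsg.Statements.S4422

set_option autoImplicit false
open Cfsg

namespace Cfsg.Agent.S4422

/-- Primitive divisors of `q^e - 1` are congruent to 1 modulo `e`. Let `q ≥ 2` and `e ≥ 1` be natural numbers and let `m` be a divisor of `q^e - 1` that is coprime to `q^i - 1` for every `1 ≤ i < e` (so `m` divides the primitive part of `q^e - 1`, the largest such divisor). Then `m ≡ 1 (mod e)`. -/
theorem result (q e m : ℕ) (hq : 2 ≤ q) (he : 1 ≤ e)
    (hm : m ∣ q ^ e - 1) (hcop : ∀ i : ℕ, 1 ≤ i → i < e → Nat.Coprime m (q ^ i - 1)) :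
    m % e = 1 % e := by
  have hpos : 0 < q ^ e - 1 := Nat.sub_pos_of_lt (Nat.one_lt_pow (by omega) hq)
  have hm0 : m ≠ 0 := fun h => by rw [h, zero_dvd_iff] at hm; omega
  have key : ∀ r, r.Prime → r ∣ m → r ≡ 1 [MOD e] := by
    intro r hr hrm
    haveI := Fact.mk hr
    have hone : ∀ i, r ∣ q ^ i - 1 ↔ ((q : ZMod r) ^ i = 1) := by
      intro i
      rw [← Nat.modEq_iff_dvd' (Nat.one_le_pow _ _ (by omega)), ← ZMod.natCast_eq_natCast_iff,
        Nat.cast_one, Nat.cast_pow, eq_comm]
    have he' : (q : ZMod r) ^ e = 1 := (hone e).1 (hrm.trans hm)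
    have hord : orderOf (q : ZMod r) = e := by
      rw [orderOf_eq_iff he]
      refine ⟨he', fun i h1 h2 h => ?_⟩
      exact hr.not_dvd_one ((hcop i h2 h1) ▸ Nat.dvd_gcd hrm ((hone i).2 h))
    have hq0 : (q : ZMod r) ≠ 0 := by
      intro h
      rw [h, zero_pow (by omega)] at he'
      exact zero_ne_one he'
    have h2 := ZMod.orderOf_dvd_card_sub_one hq0
    rw [hord] at h2
    exact ((Nat.modEq_iff_dvd' hr.one_le).2 h2).symm
  suffices h : ∀ k, k ≠ 0 → k ∣ m → k ≡ 1 [MOD e] from h m hm0 dvd_rfl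
  intro k
  induction k using induction_on_primes with
  | zero => intro h; exact absurd rfl h
  | one => intro _ _; rfl
  | prime_mul r a hr ih =>
    intro h0 hd
    have h1 := key r hr (dvd_trans (dvd_mul_right r a) hd)
    have h2 := ih (right_ne_zero_of_mul h0) (dvd_trans (dvd_mul_left a r) hd)
    simpa using h1.mul h2

end Cfsg.Agent.S4422
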