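import Cfsg.Statements.S4423
import Cfsg.Agent.Lib.CharP.Zsigmondy

set_option autoImplicit false
open Cfsg

namespace Cfsg.Agent.S4423


open Polynomial

/-- Divide out `g` repeatedly. -/
def stripOne : ℕ → ℕ → ℕ → ℕ
  | 0, x, _ => x
  | k + 1, x, g => stripOne k (x / Nat.gcd x g) g

/-- Divide out every `q ^ i - 1` with `1 ≤ i < e` repeatedly. -/
def strip (q : ℕ) : ℕ → ℕ → ℕ
  | 0, x => x
  | i + 1, x => strip q i (stripOne 12 x (q ^ (i + 1) - 1))

theorem stripOne_dvd : ∀ (k x g : ℕ), stripOne k x g ∣ x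
  | 0, _, _ => dvd_rfl
  | k + 1, x, g => (stripOne_dvd k _ g).trans (Nat.div_dvd_of_dvd (Nat.gcd_dvd_left x g))

theorem dvd_stripOne : ∀ (k x g m : ℕ), m ∣ x → Nat.Coprime m g → m ∣ stripOne k x g
  | 0, _, _, _, h, _ => h
  | k + 1, x, g, m, h, hc => dvd_stripOne k _ g m ((Nat.Coprime.coprime_dvd_right (Nat.gcd_dvd_right x g) hc).dvd_of_dvd_mul_right
      (by rw [Nat.div_mul_cancel (Nat.gcd_dvd_left x g)]; exact h)) hc

theorem strip_dvd (q : ℕ) : ∀ (i x : ℕ), strip q i x ∣ x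
  | 0, _ => dvd_rfl
  | i + 1, _ => (strip_dvd q i _).trans (stripOne_dvd _ _ _)

theorem dvd_strip (q : ℕ) : ∀ (i x m : ℕ), m ∣ x → (∀ j, 1 ≤ j → j ≤ i → Nat.Coprime m (q ^ j - 1)) →
    m ∣ strip q i x
  | 0, _, _, h, _ => h
  | i + 1, _, _, h, hc => dvd_strip q i _ _ (dvd_stripOne _ _ _ _ h (hc _ (by omega) le_rfl))
      fun j hj hji => hc j hj (by omega)

/-- The exceptional pairs. -/
def exc : List (ℕ × ℕ) :=
  [(2, 6), (2, 4), (2, 10), (2, 12), (2, 18), (3, 4), (3, 6), (5, 6), (2, 3), (2, 8), (2, 20), (4, 3), (4, 6)]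

def checkPair (q e : ℕ) : Bool :=
  let m := strip q (e - 1) (q ^ e - 1)
  Nat.ble (3 * e + 1) m && (List.range (e - 1)).all fun i => Nat.gcd m (q ^ (i + 1) - 1) == 1

def checkE (e t : ℕ) : Bool :=
  Nat.ble (16 * e ^ 4) (2 ^ t) ||
    (Nat.ble (16 * e ^ 4) (144 ^ t) && (List.range 142).all fun i =>
      Nat.ble (16 * e ^ 4) ((i + 2) ^ t) || exc.contains (i + 2, e) || checkPair (i + 2) e)

set_option maxRecDepth 100000 in
theorem check_all : (List.range 509).all (fun i => checkE (i + 3) (Nat.totient (i + 3))) = true := by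
  decide +kernel

theorem exc_small : ∀ z ∈ exc, strip z.1 (z.2 - 1) (z.1 ^ z.2 - 1) ≤ 2 * z.2 + 1 ∧ 0 < strip z.1 (z.2 - 1) (z.1 ^ z.2 - 1) := by
  decide +kernel

theorem prod_le_card_mul (s : Finset ℕ) :
    (∀ a ∈ s, 2 ≤ a) → ∏ a ∈ s, a ≤ (s.card + 1) * ∏ a ∈ s, (a - 1) := by
  induction s using Finset.induction_on_max with
  | empty => simp
  | insert a s hlt ih =>
    intro h2
    have hns : a ∉ s := fun h => (hlt a h).false
    have ha := h2 a (Finset.mem_insert_self a s)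
    have hsub : s ⊆ Finset.Ico 2 a := fun b hb =>
      Finset.mem_Ico.2 ⟨h2 b (Finset.mem_insert_of_mem hb), hlt b hb⟩
    have hc := Finset.card_le_card hsub
    rw [Nat.card_Ico] at hc
    rw [Finset.prod_insert hns, Finset.prod_insert hns, Finset.card_insert_of_notMem hns]
    refine (Nat.mul_le_mul_left a (ih fun b hb => h2 b (Finset.mem_insert_of_mem hb))).trans ?_
    rw [← mul_assoc, ← mul_assoc]
    refine Nat.mul_le_mul_right _ ?_
    obtain ⟨c, rfl⟩ := Nat.exists_eq_add_of_le (show s.card + 2 ≤ a by omega)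
    rw [show s.card + 2 + c - 1 = s.card + 1 + c by omega]
    nlinarith

theorem le_totient_mul_log (e : ℕ) (he : 1 ≤ e) : e ≤ e.totient * (Nat.log 2 e + 1) := by
  have h1 := Nat.totient_mul_prod_primeFactors e
  have h2 := prod_le_card_mul e.primeFactors fun a ha => (Nat.prime_of_mem_primeFactors ha).two_le
  have h3 : e.primeFactors.card ≤ Nat.log 2 e := by
    refine Nat.le_log_of_pow_le (by norm_num) ?_
    refine le_trans ?_ (Nat.le_of_dvd he (Nat.prod_primeFactors_dvd e))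
    exact Finset.pow_card_le_prod _ _ _ fun a ha => (Nat.prime_of_mem_primeFactors ha).two_le
  have h4 : 0 < ∏ p ∈ e.primeFactors, (p - 1) := Finset.prod_pos fun a ha => by
    have := (Nat.prime_of_mem_primeFactors ha).two_le
    omega
  refine Nat.le_of_mul_le_mul_right (c := ∏ p ∈ e.primeFactors, (p - 1)) ?_ h4
  calc e * ∏ p ∈ e.primeFactors, (p - 1) = e.totient * ∏ p ∈ e.primeFactors, p := h1.symm
    _ ≤ e.totient * ((Nat.log 2 e + 1) * ∏ p ∈ e.primeFactors, (p - 1)) :=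
        Nat.mul_le_mul_left _ (h2.trans (Nat.mul_le_mul_right _ (by omega)))
    _ = _ := by ring

theorem quad_le_pow : ∀ L : ℕ, 9 ≤ L → (4 * L + 8) * (L + 1) ≤ 2 ^ L := by
  intro L hL
  induction L, hL using Nat.le_induction with
  | base => norm_num
  | succ k hk ih =>
    rw [pow_succ]
    nlinarith

theorem totient_large {e : ℕ} (he : 512 ≤ e) : 16 * e ^ 4 ≤ 2 ^ e.totient := by
  set L := Nat.log 2 e with hL
  have hL9 : 9 ≤ L := Nat.le_log_of_pow_le (by norm_num) (by norm_num; exact he)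
  have h1 := le_totient_mul_log e (by omega)
  have h2 : 2 ^ L ≤ e := Nat.pow_log_le_self 2 (by omega)
  have h3 : 4 * L + 8 ≤ e.totient :=
    Nat.le_of_mul_le_mul_right (((quad_le_pow L hL9).trans h2).trans h1) (by omega)
  have h4 : e < 2 ^ (L + 1) := Nat.lt_pow_succ_log_self (by norm_num) e
  calc 16 * e ^ 4 ≤ 2 ^ 4 * (2 ^ (L + 1)) ^ 4 := by
        exact Nat.mul_le_mul le_rfl (Nat.pow_le_pow_left h4.le 4)
    _ = 2 ^ (4 + (L + 1) * 4) := by rw [← pow_mul, ← pow_add]
    _ ≤ 2 ^ e.totient := Nat.pow_le_pow_right (by norm_num) (by omega)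

/-- `Φ_e(q) ^ 2 ≥ q ^ φ(e)` for `e ≥ 3`. -/
theorem pow_totient_le_sq {q e : ℕ} (hq : 2 ≤ q) (he : 3 ≤ e) :
    (q : ℤ) ^ e.totient ≤ ((cyclotomic e ℤ).eval (q : ℤ)) ^ 2 := by
  by_cases hodd : ∃ r, r.Prime ∧ r ∣ e ∧ r ≠ 2
  · obtain ⟨r, hr, hre, hr2⟩ := hodd
    obtain ⟨i, m, hm, hem⟩ := Nat.exists_eq_pow_mul_and_not_dvd (by omega : e ≠ 0) r hr.ne_one
    obtain ⟨j, rfl⟩ : ∃ j, i = j + 1 := ⟨i - 1, by
      rcases Nat.eq_zero_or_pos i with rfl | h
      · rw [pow_zero, one_mul] at hem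
        exact absurd (hem ▸ hre) hm
      · omega⟩
    have hm0 : 0 < m := Nat.pos_of_ne_zero fun h => hm (h ▸ dvd_zero r)
    -- `Φ_e(q) = Φ_{rm}(Q)`
    have key : ∀ k : ℕ, ∀ x : ℝ, (cyclotomic (r ^ (k + 1) * m) ℝ).eval x =
        (cyclotomic (r * m) ℝ).eval (x ^ r ^ k) := by
      intro k
      induction k with
      | zero => intro x; simp
      | succ k ih =>
        intro x
        have h := congrArg (eval x) (cyclotomic_expand_eq_cyclotomic hr
          (dvd_mul_of_dvd_left (dvd_pow_self r (Nat.succ_ne_zero k)) m) ℝ)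
        rw [expand_eval, show r ^ (k + 1) * m * r = r ^ (k + 1 + 1) * m by ring] at h
        rw [← h, ih, ← pow_mul, ← pow_succ']
    set Q : ℝ := (q : ℝ) ^ r ^ j with hQ
    have hqR : (2 : ℝ) ≤ q := by exact_mod_cast hq
    have hQ2 : 2 ≤ Q := le_trans hqR (le_self_pow₀ (by linarith) (pow_ne_zero _ hr.ne_zero))
    have hexp := congrArg (eval Q) (cyclotomic_expand_eq_cyclotomic_mul hr hm ℝ)
    rw [expand_eval, eval_mul] at hexp
    have hlow := sub_one_pow_totient_le_cyclotomic_eval (one_lt_pow₀ (by linarith : 1 < Q) hr.ne_zero) m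
    have hup := cyclotomic_eval_le_add_one_pow_totient (by linarith : 1 < Q) m
    have hmpos : 0 < (cyclotomic m ℝ).eval Q := cyclotomic_pos' m (by linarith)
    rw [mul_comm m r] at hexp
    set a : ℝ := (cyclotomic (r * m) ℝ).eval Q
    have ha : 0 ≤ a := cyclotomic_nonneg _ (by linarith)
    have hr3 : 3 ≤ r := by have := hr.two_le; omega
    have hb : (Q ^ r - 1) ^ m.totient ≤ a * (Q + 1) ^ m.totient :=
      hlow.trans (hexp.le.trans (mul_le_mul_of_nonneg_left hup ha))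
    have hc : Q ^ (r - 1) * (Q + 1) ≤ 2 * (Q ^ r - 1) := by
      obtain ⟨u, rfl⟩ : ∃ u, r = u + 3 := ⟨r - 3, by omega⟩
      have h1 : 1 ≤ Q ^ u := one_le_pow₀ (by linarith)
      rw [show u + 3 - 1 = u + 2 by omega, show Q ^ (u + 2) = Q ^ u * (Q * Q) by ring,
        show Q ^ (u + 3) = Q ^ u * (Q * Q * Q) by ring]
      nlinarith [mul_le_mul_of_nonneg_left (show 4 ≤ Q * Q * (Q - 1) by nlinarith) (by linarith : 0 ≤ Q ^ u)]
    have hd : (Q ^ (r - 1)) ^ m.totient * (Q + 1) ^ m.totient ≤ (2 : ℝ) ^ m.totient * a * (Q + 1) ^ m.totient := by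
      rw [← mul_pow, mul_assoc]
      refine (pow_le_pow_left₀ (by positivity) hc _).trans ?_
      rw [mul_pow]
      exact mul_le_mul_of_nonneg_left hb (by positivity)
    have he' : (Q ^ (r - 1)) ^ m.totient ≤ (2 : ℝ) ^ m.totient * a :=
      le_of_mul_le_mul_right hd (by positivity)
    have hf : (4 : ℝ) ^ m.totient * (Q ^ (r - 1)) ^ m.totient ≤
        ((Q ^ (r - 1)) ^ m.totient) * ((Q ^ (r - 1)) ^ m.totient) := by
      refine mul_le_mul_of_nonneg_right (pow_le_pow_left₀ (by norm_num) ?_ _) (by positivity)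
      calc (4 : ℝ) ≤ Q ^ 2 := by nlinarith
        _ ≤ Q ^ (r - 1) := pow_le_pow_right₀ (by linarith) (by omega)
    have hg : (Q ^ (r - 1)) ^ m.totient ≤ a ^ 2 := by
      have h := mul_le_mul he' he' (by positivity) (by positivity)
      refine le_of_mul_le_mul_left (a := (4 : ℝ) ^ m.totient) ?_ (by positivity)
      refine hf.trans (h.trans (le_of_eq ?_))
      rw [show (4 : ℝ) = 2 * 2 by norm_num, mul_pow]
      ring
    have htot : e.totient = r ^ j * (r - 1) * m.totient := by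
      rw [hem, Nat.totient_mul ((hr.coprime_iff_not_dvd.2 hm).pow_left _), Nat.totient_prime_pow_succ hr]
    have hev : (((cyclotomic e ℤ).eval (q : ℤ) : ℤ) : ℝ) = a := by
      have h := cyclotomic.eval_apply (q : ℤ) e (algebraMap ℤ ℝ)
      simp only [eq_intCast, Int.cast_natCast] at h
      rw [← h, hem, key]
    have hfin : ((q : ℝ)) ^ e.totient ≤ (((cyclotomic e ℤ).eval (q : ℤ) : ℤ) : ℝ) ^ 2 := by
      rw [hev, htot, pow_mul, pow_mul]
      exact hg
    exact_mod_cast hfin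
  · push Not at hodd
    obtain ⟨i, m, hm, hem⟩ := Nat.exists_eq_pow_mul_and_not_dvd (by omega : e ≠ 0) 2 (by norm_num)
    have hm1 : m = 1 := by
      by_contra h
      obtain ⟨s, hs, hsm⟩ := Nat.exists_prime_and_dvd h
      exact hm (hodd s hs (hem ▸ dvd_mul_of_dvd_right hsm _) ▸ hsm)
    subst hm1
    rw [mul_one] at hem
    obtain ⟨j, rfl⟩ : ∃ j, i = j + 1 := ⟨i - 1, by
      rcases Nat.eq_zero_or_pos i with rfl | h
      · rw [pow_zero] at hem; omega
      · omega⟩
    subst hem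
    rw [Nat.totient_prime_pow_succ Nat.prime_two]
    haveI : Fact (Nat.Prime 2) := ⟨Nat.prime_two⟩
    rw [cyclotomic_prime_pow_eq_geom_sum Nat.prime_two]
    simp only [Finset.sum_range_succ, Finset.sum_range_zero, eval_add, eval_one, eval_pow, eval_X, zero_add, pow_zero,
      pow_one, show (2 : ℕ) - 1 = 1 from rfl, mul_one]
    have h0 : (0 : ℤ) ≤ (q : ℤ) ^ 2 ^ j := by positivity
    nlinarith

theorem general {q e : ℕ} (hq : 2 ≤ q) (he : 3 ≤ e) (h : 16 * e ^ 4 ≤ q ^ e.totient) :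
    ∃ m : ℕ, m ∣ q ^ e - 1 ∧ (∀ i : ℕ, 1 ≤ i → i < e → Nat.Coprime m (q ^ i - 1)) ∧ 3 * e + 1 ≤ m := by
  set Φ := (cyclotomic e ℤ).eval (q : ℤ) with hΦ
  have hpos : 0 < Φ := cyclotomic_pos' e (x := (q : ℤ)) (by exact_mod_cast hq)
  obtain ⟨N, hN⟩ : ∃ N : ℕ, Φ = N := ⟨Φ.natAbs, (Int.natAbs_of_nonneg hpos.le).symm⟩
  have hbig : 4 * e ^ 2 ≤ N := by
    have h1 := pow_totient_le_sq hq he
    rw [← hΦ, hN] at h1
    have h2 : q ^ e.totient ≤ N ^ 2 := by exact_mod_cast h1
    refine (Nat.pow_le_pow_iff_left two_ne_zero).1 (le_trans (le_of_eq ?_) (h.trans h2))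
    ring
  have hNdvd : N ∣ q ^ e - 1 := by
    have h1 := eval_dvd (x := (q : ℤ)) (cyclotomic.dvd_X_pow_sub_one e ℤ)
    rw [← hΦ, hN, eval_sub, eval_pow, eval_X, eval_one] at h1
    rw [← Int.natCast_dvd_natCast, Nat.cast_sub (Nat.one_le_pow _ _ (by omega))]
    push_cast
    exact h1
  -- at most one prime divides both, exactly once
  have hstruct : ∀ s : ℕ, s.Prime → s ∣ N → s ∣ e → ∀ t : ℕ, t.Prime → t ∣ N → t ∣ e → t ≤ s := by
    intro s hs hsN hse t ht htN hte
    obtain ⟨j, m, hem, hm, hm1, -⟩ := CharP.Zsigmondy.structure_of_dvd hs (by omega : 0 < e)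
      (a := q) (by rw [← hΦ, hN]; exact_mod_cast hsN)
    by_contra hts
    have htm : t ∣ m := by
      rw [hem] at hte
      exact (ht.dvd_mul.1 hte).resolve_left fun h' => hts
        ((Nat.prime_dvd_prime_iff_eq ht hs).1 (ht.dvd_of_dvd_pow h')).le
    have := Nat.le_of_dvd (by have := hs.two_le; omega) (htm.trans hm1)
    omega
  have hsq : ∀ s : ℕ, s.Prime → s ∣ N → s ∣ e → ¬ s ^ 2 ∣ N := by
    intro s hs hsN hse hd
    by_cases hs2 : s = 2
    · subst hs2
      obtain ⟨j, m, hem, hm, hm1, hprim⟩ := CharP.Zsigmondy.structure_of_dvd hs (by omega : 0 < e)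
        (a := q) (by rw [← hΦ, hN]; exact_mod_cast hsN)
      have hmm : m = 1 := Nat.dvd_one.1 hm1
      subst hmm
      rw [mul_one] at hem
      obtain ⟨i, rfl⟩ : ∃ i, j = i + 2 := ⟨j - 2, by
        rcases j with _ | _ | j <;> simp_all⟩
      haveI : Fact (Nat.Prime 2) := ⟨Nat.prime_two⟩
      have hval : Φ = ((q : ℤ) ^ 2 ^ i) ^ 2 + 1 := by
        rw [hΦ, hem, cyclotomic_prime_pow_eq_geom_sum Nat.prime_two]
        simp [Finset.sum_range_succ, ← pow_mul, pow_succ]
        ring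
      rw [hN] at hval
      have hnat : N = (q ^ 2 ^ i) ^ 2 + 1 := by exact_mod_cast hval
      have hmod : ∀ b : ℕ, (b ^ 2 + 1) % 4 ≠ 0 := fun b => by
        rw [Nat.add_mod, Nat.pow_mod]
        have : b % 4 < 4 := Nat.mod_lt _ (by norm_num)
        interval_cases (b % 4) <;> norm_num
      have h4 : N % 4 = 0 := Nat.mod_eq_zero_of_dvd (by simpa using hd)
      rw [hnat] at h4
      exact hmod _ h4
    · refine CharP.Zsigmondy.not_sq_dvd hs hs2 hq (by omega) hse (by rw [← hΦ, hN]; exact_mod_cast hsN) ?_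
      rw [← hΦ, hN]
      exact_mod_cast hd
  obtain ⟨m, hmN, hmp, hmb⟩ : ∃ m, m ∣ N ∧ (∀ s : ℕ, s.Prime → s ∣ m → ¬ s ∣ e) ∧ N ≤ m * e := by
    by_cases hex : ∃ s : ℕ, s.Prime ∧ s ∣ N ∧ s ∣ e
    · obtain ⟨s, hs, hsN, hse⟩ := hex
      obtain ⟨m, hm⟩ := hsN
      refine ⟨m, hm ▸ dvd_mul_left m s, fun t ht htm hte => ?_, ?_⟩
      · have htN : t ∣ N := hm ▸ dvd_mul_of_dvd_right htm s
        have heq : t = s := le_antisymm (hstruct s hs (hm ▸ dvd_mul_right s m) hse t ht htN hte)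
          (hstruct t ht htN hte s hs (hm ▸ dvd_mul_right s m) hse)
        exact hsq s hs (hm ▸ dvd_mul_right s m) hse (by rw [hm, sq]; exact Nat.mul_dvd_mul_left s (heq ▸ htm))
      · rw [hm, mul_comm]
        exact Nat.mul_le_mul_left m (Nat.le_of_dvd (by omega) hse)
    · exact ⟨N, dvd_rfl, fun s hs hsN hse => hex ⟨s, hs, hsN, hse⟩, Nat.le_mul_of_pos_right N (by omega)⟩
  refine ⟨m, hmN.trans hNdvd, fun i hi hie => ?_, ?_⟩
  · refine Nat.coprime_of_dvd fun s hs hsm hsi => ?_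
    exact (CharP.Zsigmondy.primitive_of_not_dvd hs (by omega) (by omega)
      (by rw [← hΦ, hN]; exact_mod_cast hsm.trans hmN) (hmp s hs hsm)).2 i (by omega) hie hsi
  · have h1 : 4 * e * e ≤ m * e := le_trans (le_of_eq (by ring)) (hbig.trans hmb)
    have := Nat.le_of_mul_le_mul_right h1 (by omega)
    omega

/-- Size of the primitive part of `q^e - 1`. For a prime power `q` and `e ≥ 3`, call a divisor of `q^e - 1` primitive when it is coprime to `q^i - 1` for every `1 ≤ i < e`; the primitive part is the largest primitive divisor. Apart from thirteen exceptional pairs, the primitive part is at least `3e + 1`: there is a primitive divisor `m ≥ 3e + 1` unless `(q, e)` is `(2, 6)` (where every primitive divisor is 1), one of `(2,4), (2,10), (2,12), (2,18), (3,4), (3,6), (5,6)` (where the primitive part is exactly `e + 1`), or one of `(2,3), (2,8), (2,20), (4,3), (4,6)` (where it is exactly `2e + 1`). The statement asserts the existence of a primitive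 divisor `m ≥ 3e + 1` outside the thirteen pairs, and that every primitive divisor is at most `2e + 1` for the thirteen pairs. -/
theorem result (q e : ℕ) (hq : IsPrimePow q) (he : 3 ≤ e) :
    ((q, e) ∉ [(2, 6), (2, 4), (2, 10), (2, 12), (2, 18), (3, 4), (3, 6), (5, 6), (2, 3), (2, 8), (2, 20), (4, 3), (4, 6)] →
      ∃ m : ℕ, m ∣ q ^ e - 1 ∧ (∀ i : ℕ, 1 ≤ i → i < e → Nat.Coprime m (q ^ i - 1)) ∧ 3 * e + 1 ≤ m) ∧
    ((q, e) ∈ [(2, 6), (2, 4), (2, 10), (2, 12), (2, 18), (3, 4), (3, 6), (5, 6), (2, 3), (2, 8), (2, 20), (4, 3), (4, 6)] →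
      ∀ m : ℕ, m ∣ q ^ e - 1 → (∀ i : ℕ, 1 ≤ i → i < e → Nat.Coprime m (q ^ i - 1)) → m ≤ 2 * e + 1) := by
  constructor
  · intro hnot
    have hq2 : 2 ≤ q := hq.one_lt
    by_cases hlarge : 16 * e ^ 4 ≤ q ^ e.totient
    · exact general hq2 he hlarge
    have he' : e < 512 := by
      by_contra h
      exact hlarge ((totient_large (by omega)).trans (Nat.pow_le_pow_left hq2 _))
    have hc := List.all_eq_true.1 check_all (e - 3) (List.mem_range.2 (by omega))
    rw [show e - 3 + 3 = e by omega, checkE, Bool.or_eq_true, Nat.ble_eq] at hc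
    rcases hc with h | hc
    · exact absurd (h.trans (Nat.pow_le_pow_left hq2 _)) hlarge
    rw [Bool.and_eq_true, Nat.ble_eq, List.all_eq_true] at hc
    have hq144 : q < 144 := by
      by_contra h
      exact hlarge (hc.1.trans (Nat.pow_le_pow_left (by omega) _))
    have hc2 := hc.2 (q - 2) (List.mem_range.2 (by omega))
    rw [show q - 2 + 2 = q by omega, Bool.or_eq_true, Bool.or_eq_true, Nat.ble_eq] at hc2
    rcases hc2 with (h | h) | h
    · exact absurd h hlarge
    · exact absurd (List.contains_iff_mem.1 h) hnot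
    · simp only [checkPair, Bool.and_eq_true, Nat.ble_eq, List.all_eq_true, beq_iff_eq] at h
      refine ⟨_, strip_dvd q (e - 1) _, fun i hi hie => ?_, h.1⟩
      have := h.2 (i - 1) (List.mem_range.2 (by omega))
      rwa [show i - 1 + 1 = i by omega] at this
  · intro hmem m hm hcop
    obtain ⟨h1, h2⟩ := exc_small (q, e) hmem
    exact (Nat.le_of_dvd h2 (dvd_strip q (e - 1) _ m hm fun j hj hje => hcop j hj (by omega))).trans h1

end Cfsg.Agent.S4423
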