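import Mathlib
import Cfsg.Statements.S4425
import Cfsg.Agent.BlockCharsA.RegularPart
import Cfsg.Agent.BlockCharsA.DefectZeroVanish

set_option autoImplicit false
open Cfsg

namespace Cfsg.Agent.S4425

open Cfsg.Agent.Blocks Cfsg.Agent.Characters Cfsg.Agent.BlockCharsA.RegularPart


/-- Let χ be an irreducible character of the finite group G, p a prime, p^a the p-part of the order of G and p^b the p-part of the degree χ(1). Let χ̃ be the class function equal to p^a · χ on p-regular elements and zero on p-singular elements. Then p^(−b) · χ̃ is a generalized character of G, while p^(−(b+1)) · χ̃ is not. -/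
theorem result {G : Type*} [Group G] [Finite G] (p : ℕ) [Fact p.Prime] (χ : Cfsg.IrrCharacter G) : Cfsg.IsGeneralizedCharacter G (fun x : G => if p ∣ orderOf x then (0 : ℂ) else ((p ^ ((Nat.card G).factorization p - (Cfsg.charDegree (χ : G → ℂ)).factorization p) : ℕ) : ℂ) * (χ : G → ℂ) x) ∧ ¬ Cfsg.IsGeneralizedCharacter G (fun x : G => if p ∣ orderOf x then (0 : ℂ) else ((p ^ (Nat.card G).factorization p : ℕ) : ℂ) / ((p ^ ((Cfsg.charDegree (χ : G → ℂ)).factorization p + 1) : ℕ) : ℂ) * (χ : G → ℂ) x) := by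
  classical
  haveI := Fintype.ofFinite G
  haveI := Fintype.ofFinite (Cfsg.IrrCharacter G)
  have hp : p.Prime := Fact.out
  obtain ⟨M, hM⟩ := Cfsg.Agent.BlockCharsA.DefectZeroVanish.exists_modular hp
  set a := (Nat.card G).factorization p
  set v := (Cfsg.charDegree (χ : G → ℂ)).factorization p
  have hva : v ≤ a := (Nat.factorization_le_iff_dvd (charDegree_pos χ).ne' Nat.card_pos.ne').2
    (char_degree_dvd_card χ) p
  have hp0 : (p : ℂ) ≠ 0 := Nat.cast_ne_zero.2 hp.ne_zero
  refine ⟨?_, fun hgen => ?_⟩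
  · show Cfsg.IsGeneralizedCharacter G (hat p _ (χ : G → ℂ))
    refine isGen_of_classInner_int (hat_isClassFunction (irr_isClassFunction χ)) fun ξ hξ => ?_
    obtain ⟨z, hz, -, -⟩ := exists_coeff hM χ ⟨ξ, hξ⟩
    obtain ⟨z', hz', hz'', hd⟩ := exists_coeff hM ⟨ξ, hξ⟩ χ
    have heq : z = z' := by
      have h1 : (z : ℂ) = ((p ^ a : ℕ) : ℂ) / (Nat.card G : ℂ) *
          (ξ 1 * omega ξ (regEl p (χ : G → ℂ))) := by rw [← hz, classInner_hat]
      have h2 : (z' : ℂ) = ((p ^ a : ℕ) : ℂ) / (Nat.card G : ℂ) *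
          ((χ : G → ℂ) 1 * omega (χ : G → ℂ) (regEl p ξ)) := by rw [← hz', classInner_hat]
      have h3 := ratio_symm (p := p) χ (⟨ξ, hξ⟩ : Cfsg.IrrCharacter G)
      simp only [ratio] at h3
      have : (z : ℂ) = (z' : ℂ) := by
        rw [h1, h2, mul_left_comm, h3]; ring
      exact_mod_cast this
    obtain ⟨w, hw⟩ := hd
    refine ⟨w, ?_⟩
    rw [hat_eq_smul, classInner_smul_left]
    rw [hat_eq_smul, classInner_smul_left, heq, hw] at hz
    rw [Int.cast_mul, Int.cast_pow, Int.cast_natCast] at hz
    apply mul_left_cancel₀ (pow_ne_zero v hp0)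
    rw [← hz, ← mul_assoc]
    congr 1
    push_cast
    rw [← pow_add, Nat.add_sub_cancel' hva]
  · change Cfsg.IsGeneralizedCharacter G (hat p _ (χ : G → ℂ)) at hgen
    obtain ⟨P⟩ : Nonempty (Sylow p G) := inferInstance
    haveI : Fintype (P : Subgroup G) := Fintype.ofFinite _
    obtain ⟨k, hk⟩ := classInner_gen_int hgen (isGen_of_isCharacter
      (isCharacter_indFun (P : Subgroup G) (isCharacter_one (G := (P : Subgroup G)))))
    rw [frobenius_reciprocity' (P : Subgroup G) _
      (hat_isClassFunction (irr_isClassFunction χ)), classInner_def,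
      Finset.sum_eq_single (1 : (P : Subgroup G))] at hk
    · simp only [hat, Subgroup.coe_one, Pi.one_apply, map_one, mul_one, orderOf_one, Nat.dvd_one,
        hp.ne_one, if_false, P.card_eq_multiplicity] at hk
      obtain ⟨u, hu, hue⟩ := exists_natCast_eq_pow_mul hM (charDegree_pos χ).ne'
      have h2 : (u : ℂ) = ((p : ℤ) * k : ℤ) := by
        rw [Int.cast_mul, Int.cast_natCast, ← hk, ← charDegree_cast, hue]
        push_cast
        rw [pow_succ]
        field_simp
        ring
      exact hu (Int.natCast_dvd_natCast.1 ⟨k, by exact_mod_cast h2⟩)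
    · intro t _ ht
      obtain ⟨i, hi⟩ := IsPGroup.iff_orderOf.1 P.2 t
      have : p ∣ orderOf (t : G) := by
        rw [Subgroup.orderOf_coe, hi]
        rcases Nat.eq_zero_or_pos i with rfl | hpos
        · exact absurd (orderOf_eq_one_iff.1 (by rw [hi, pow_zero])) ht
        · exact dvd_pow_self p hpos.ne'
      simp only [hat, if_pos this, zero_mul]
    · simp

end Cfsg.Agent.S4425
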