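import Mathlib
import Cfsg.Statements.S4426
import Cfsg.Agent.BlockCharsA.RegularPart

set_option autoImplicit false
open Cfsg

namespace Cfsg.Agent.S4426

open Cfsg.Agent.Blocks Cfsg.Agent.Characters Cfsg.Agent.BlockCharsA.RegularPart


/-- Let χ be an irreducible character in the p-block B of the finite group G (relative to a maximal ideal M of the algebraic integers containing p), let p^a be the p-part of the order of G, and let χ̃ be the class function equal to p^a · χ on p-regular elements and zero elsewhere. For ξ ∈ B the inner product [χ̃, ξ] is an integer. The following are equivalent: (a) χ has height zero in B; (b) for some ξ ∈ B the integer [χ̃, ξ] is nonzero and the exact power of p dividing it equals the exact power of p dividing ξ(1); (c) the same holds for every ξ ∈ B. -/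
theorem result {G : Type*} [Group G] [Fintype G] (p : ℕ) [Fact p.Prime] (M : Ideal Cfsg.AlgInt) (hM : Cfsg.IsPModular p M) (B : Set (Cfsg.IrrCharacter G)) (hB : Cfsg.IsPBlock M B) (χ : Cfsg.IrrCharacter G) (hχ : χ ∈ B) : (Cfsg.blockHeight p B (χ : G → ℂ) = 0 ↔ ∃ ξ ∈ B, ∃ n : ℤ, Cfsg.classInner (fun x : G => if p ∣ orderOf x then (0 : ℂ) else ((p ^ (Nat.card G).factorization p : ℕ) : ℂ) * (χ : G → ℂ) x) (ξ : G → ℂ) = (n : ℂ) ∧ n ≠ 0 ∧ padicValInt p n = (Cfsg.charDegree (ξ : G → ℂ)).factorization p) ∧ (Cfsg.blockHeight p B (χ : G → ℂ) = 0 ↔ ∀ ξ ∈ B, ∃ n : ℤ, Cfsg.classInner (fun x : G => if p ∣ orderOf x then (0 : ℂ) else ((p ^ (Nat.card G).factorization p : ℕ) : ℂ) * (χ : G → ℂ) x) (ξ : G → ℂ) = (n : ℂ) ∧ n ≠ 0 ∧ padicValInt p n = (Cfsg.charDegree (ξ : G → ℂ)).factorization p) := by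
  classical
  have key : ∀ ξ ∈ B, (∃ n : ℤ, Cfsg.classInner (hat p ((p ^ (Nat.card G).factorization p : ℕ) : ℂ)
      (χ : G → ℂ)) (ξ : G → ℂ) = (n : ℂ) ∧ n ≠ 0 ∧
        padicValInt p n = (Cfsg.charDegree (ξ : G → ℂ)).factorization p) ↔
      Cfsg.blockHeight p B (χ : G → ℂ) = 0 := by
    intro ξ hξ
    obtain ⟨z, hz, hzr, -⟩ := exists_coeff hM χ ξ
    have hd0 := (charDegree_pos ξ).ne'
    have hr : (z : ℂ) / ((Cfsg.charDegree (ξ : G → ℂ) : ℕ) : ℂ) =
        ratio p (χ : G → ℂ) (ξ : G → ℂ) := by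
      rw [hzr, mul_div_cancel_left₀ _ (Nat.cast_ne_zero.2 hd0)]
    have h := unit_div_iff hM z hd0 (by rw [hr]; exact ratio_ring hM χ ξ)
    rw [hr, ratio_unit_iff hM hB hχ hξ] at h
    rw [h]
    refine ⟨fun ⟨n, hn, hn0, hv⟩ => ?_, fun ⟨h1, h2⟩ => ⟨z, hz, h1, h2⟩⟩
    have : z = n := Int.cast_injective (hz.symm.trans hn)
    exact this ▸ ⟨hn0, hv⟩
  obtain ⟨ψ, hψ⟩ := block_nonempty hM hB
  exact ⟨⟨fun h => ⟨ψ, hψ, (key ψ hψ).2 h⟩, fun ⟨ξ, hξ, h⟩ => (key ξ hξ).1 h⟩,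
    ⟨fun h ξ hξ => (key ξ hξ).2 h, fun h => (key ψ hψ).1 (h ψ hψ)⟩⟩

end Cfsg.Agent.S4426
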