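import Cfsg.Statements.S4428
import Cfsg.Agent.BlockCharsA.Subsection

set_option autoImplicit false
open Cfsg Cfsg.Agent.Blocks Cfsg.Agent.Characters Cfsg.Agent.BlockCharsA
  Cfsg.Agent.BlockCharsA.RegularPart

namespace Cfsg.Agent.S4428

/-- Let χ be an irreducible character of height zero in the p-block B of the finite group G (relative to a maximal ideal M of the algebraic integers containing p). Let x be a p-element of G with centralizer C, and let b be a block of C that induces B. Form the class function ϑ(c) = χ(x c) on C and its b-part (the sum over ψ ∈ b of the inner product of ϑ with ψ, times ψ). Then the b-part of ϑ does not vanish identically on the p-regular elements of C. (Compare the second main Theorem, which gives vanishing when b does not induce B.) -/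
theorem result {G : Type*} [Group G] [Finite G] (p : ℕ) [Fact p.Prime] (M : Ideal Cfsg.AlgInt) (hM : Cfsg.IsPModular p M) (B : Set (Cfsg.IrrCharacter G)) (hB : Cfsg.IsPBlock M B) (χ : Cfsg.IrrCharacter G) (hχ : χ ∈ B) (h0 : Cfsg.blockHeight p B (χ : G → ℂ) = 0) (x : G) (hx : ∃ k : ℕ, orderOf x = p ^ k) (b : Set (Cfsg.IrrCharacter (Subgroup.centralizer ({x} : Set G)))) (hb : Cfsg.IsInducedBlock M (Subgroup.centralizer ({x} : Set G)) b B) : ∃ y : Subgroup.centralizer ({x} : Set G), ¬ p ∣ orderOf y ∧ Cfsg.blockPart b (fun c : Subgroup.centralizer ({x} : Set G) => (χ : G → ℂ) (x * (c : G))) y ≠ 0 := by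
  classical
  haveI := Fintype.ofFinite G
  haveI := Fintype.ofFinite (Subgroup.centralizer ({x} : Set G))
  haveI := Fintype.ofFinite (Cfsg.IrrCharacter (Subgroup.centralizer ({x} : Set G)))
  obtain ⟨ξ, hξ⟩ := block_nonempty hM hb.1
  obtain ⟨k, hk⟩ := id hx
  have hxq : x ^ p ^ k = 1 := by rw [← hk, pow_orderOf_eq_one]
  choose n hn using fun η : Cfsg.IrrCharacter (Subgroup.centralizer ({x} : Set G)) =>
    classInner_char_nat (isCharacter_restrict (Subgroup.centralizer ({x} : Set G))
      (irr_isCharacter χ)) (irr_isCharacter η)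
  by_contra hcon
  push Not at hcon
  have hu := Subsection.sum_mult_ratio_unit hM hb hχ h0 hξ n hn
  have hz : (∑ η ∈ Finset.univ.filter (· ∈ b), ((n η : ℂ) * Subsection.eps x η) •
      regEl p (η : Subgroup.centralizer ({x} : Set G) → ℂ)) = 0 := by
    refine el_ext fun s => ?_
    simp only [MonoidAlgebra.coeff_sum, Finsupp.finsetSum_apply, MonoidAlgebra.coeff_smul,
      Finsupp.smul_apply, coeff_regEl, MonoidAlgebra.coeff_zero, Finsupp.coe_zero, Pi.zero_apply,
      smul_eq_mul]
    by_cases hs : p ∣ orderOf s
    · simp [hs]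
    · simp only [hs, if_false]
      have h1 := hcon s⁻¹ (by rwa [orderOf_inv])
      rw [ZStar.Principal.blockPart_eq_sum_mul, ZStar.Principal.finsum_mem_eq_sum_filter] at h1
      refine Eq.trans ?_ h1
      refine Finset.sum_congr (by ext; simp) fun η _ => ?_
      have h2 := Subsection.classInner_shift (pow_ne_zero k (Fact.out : p.Prime).ne_zero) hxq
        (χ : G → ℂ) η
      rw [hn] at h2
      unfold ZStar.Principal.shift at h2
      rw [h2]
  have hc := cong_sum hM (s := Finset.univ.filter (· ∈ b))
    (f := fun η => (n η : ℂ) * Subsection.eps x η *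
      ratio p (η : Subgroup.centralizer ({x} : Set G) → ℂ) (ξ : _ → ℂ))
    (g := fun η => (n η : ℂ) * 1 *
      ratio p (η : Subgroup.centralizer ({x} : Set G) → ℂ) (ξ : _ → ℂ))
    fun η _ => cong_mul hM (cong_mul_left hM (ring_natCast hM _)
      (cong_one_of_pow_prime_pow hM (Subsection.eps_pow hxq η))) (cong_refl hM _)
      (by simpa using ring_natCast hM (n η)) (ratio_ring hM η ξ)
  simp only [mul_one] at hc
  have he : ∑ η ∈ Finset.univ.filter (· ∈ b), (n η : ℂ) * Subsection.eps x η *
      ratio p (η : Subgroup.centralizer ({x} : Set G) → ℂ) (ξ : _ → ℂ) = 0 := by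
    have h3 := congrArg (omega (ξ : Subgroup.centralizer ({x} : Set G) → ℂ)) hz
    rw [omega_sum] at h3
    simp only [omega_smul] at h3
    rw [show omega (ξ : Subgroup.centralizer ({x} : Set G) → ℂ) 0 = 0 from by
      simp [omega, evalChar_eq_sum]] at h3
    simp only [ratio]
    rw [← mul_zero (((p ^ (Nat.card (Subgroup.centralizer ({x} : Set G))).factorization p : ℕ) : ℂ) /
      (Nat.card (Subgroup.centralizer ({x} : Set G)) : ℂ)), ← h3, Finset.mul_sum]
    exact Finset.sum_congr rfl fun η _ => by ring
  rw [he] at hc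
  exact hu (cong_zero_iff.1 (cong_symm hM hc))

end Cfsg.Agent.S4428
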