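import Mathlib
import Cfsg.Statements.S4430
import Cfsg.Agent.BlockCharsA.RegularPart

set_option autoImplicit false
open Cfsg

namespace Cfsg.Agent.S4430

open Cfsg.Agent.Blocks Cfsg.Agent.Characters Cfsg.Agent.BlockCharsA.RegularPart
open Cfsg.Agent.BlockCharsA
open scoped ComplexConjugate


/-- Let H be a subgroup of the finite group G, b a block of H whose induced block B₀ in G is defined (relative to a maximal ideal M of the algebraic integers containing p), and ξ ∈ b. For a block B of G let n_B be the value at 1 of the B-part of the induced character ξ^G (a natural number: the sum over χ ∈ B of the multiplicity of χ in ξ^G times χ(1)). Then for B = B₀ the exact power of p dividing n_B equals the exact power of p dividing ξ^G(1), while for every other block B either n_B = 0 or n_B is divisible by a strictly higher power of p than ξ^G(1). -/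
theorem result {G : Type*} [Group G] [Fintype G] (p : ℕ) [Fact p.Prime] (M : Ideal Cfsg.AlgInt) (hM : Cfsg.IsPModular p M) (H : Subgroup G) [Fintype H] (b : Set (Cfsg.IrrCharacter H)) (B₀ : Set (Cfsg.IrrCharacter G)) (hind : Cfsg.IsInducedBlock M H b B₀) (ξ : Cfsg.IrrCharacter H) (hξ : ξ ∈ b) : (∃ n : ℕ, Cfsg.blockPart B₀ (Cfsg.indFun H (ξ : H → ℂ)) 1 = (n : ℂ) ∧ n ≠ 0 ∧ n.factorization p = (Cfsg.charDegree (Cfsg.indFun H (ξ : H → ℂ))).factorization p) ∧ ∀ B : Set (Cfsg.IrrCharacter G), Cfsg.IsPBlock M B → B ≠ B₀ → ∃ n : ℕ, Cfsg.blockPart B (Cfsg.indFun H (ξ : H → ℂ)) 1 = (n : ℂ) ∧ (n = 0 ∨ (Cfsg.charDegree (Cfsg.indFun H (ξ : H → ℂ))).factorization p < n.factorization p) := by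
  classical
  haveI := Fintype.ofFinite (Cfsg.IrrCharacter G)
  have hB₀ : Cfsg.IsPBlock M B₀ := hind.2.1
  obtain ⟨χ₀, hχ₀⟩ := block_nonempty hM hB₀
  set θ := Cfsg.indFun H (ξ : H → ℂ) with hθdef
  have hθ : Cfsg.IsCharacter G θ := isCharacter_indFun H (irr_isCharacter ξ)
  set m := Cfsg.charDegree θ with hm
  have hm1 : (m : ℂ) = θ 1 := by
    obtain ⟨k, σ, hk⟩ := hθ
    rw [hm, Cfsg.charDegree, ← hk, Representation.char_one]; simp
  have hdeg : (m : ℂ) = (H.index : ℂ) * (ξ : H → ℂ) 1 := by rw [hm1, hθdef, indFun_one]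
  have hm0 : m ≠ 0 := fun h0 => by
    rw [h0, Nat.cast_zero, eq_comm, mul_eq_zero] at hdeg
    rcases hdeg with h | h
    · exact H.index_ne_zero_of_finite (Nat.cast_eq_zero.1 h)
    · exact irr_one_ne_zero ξ.2 h
  choose c hc using fun χ : Cfsg.IrrCharacter G => classInner_char_nat hθ (irr_isCharacter χ)
  -- the degree of a block part as a natural number and as a multiple of the degree
  have hnat : ∀ B : Set (Cfsg.IrrCharacter G), Cfsg.blockPart B θ 1 =
      ((∑ χ : Cfsg.IrrCharacter G, if χ ∈ B then c χ * Cfsg.charDegree (χ : G → ℂ) else 0 : ℕ) : ℂ) := by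
    intro B
    rw [Cfsg.blockPart, finsum_mem_def, finsum_eq_sum_of_fintype, Nat.cast_sum]
    refine Finset.sum_congr rfl fun χ _ => ?_
    by_cases h : χ ∈ B
    · rw [Set.indicator_of_mem h, if_pos h, Nat.cast_mul, charDegree_cast, ← hc χ]
      congr 2
      exact Subsingleton.elim _ _
    · rw [Set.indicator_of_notMem h, if_neg h, Nat.cast_zero]
  have hom : ∀ B : Set (Cfsg.IrrCharacter G),
      ((∑ χ : Cfsg.IrrCharacter G, if χ ∈ B then c χ * Cfsg.charDegree (χ : G → ℂ) else 0 : ℕ) : ℂ) =
      (m : ℂ) * omega (ξ : H → ℂ) (NormalSupport.res H (blockIdem B)) := by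
    intro B
    have hz := central_blockIdem B
    have h1 : evalChar θ (blockIdem B) = ((∑ χ : Cfsg.IrrCharacter G,
        if χ ∈ B then c χ * Cfsg.charDegree (χ : G → ℂ) else 0 : ℕ) : ℂ) := by
      have hcf : Cfsg.IsClassFunction G θ := char_isClassFunction hθ
      rw [evalChar_eq_sum, Nat.cast_sum]
      simp only [fun g : G => congrFun (classFun_eq_sum hcf) g, Finset.sum_apply, Pi.smul_apply,
        smul_eq_mul, Finset.mul_sum]
      rw [Finset.sum_comm]
      refine Finset.sum_congr rfl fun χ _ => ?_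
      have : ∑ g : G, (blockIdem B).coeff g * (χ : G → ℂ) g =
          omega (χ : G → ℂ) (blockIdem B) * (χ : G → ℂ) 1 := by
        rw [omega, div_mul_cancel₀ _ (irr_one_ne_zero χ.2), evalChar_eq_sum]
      calc ∑ g : G, (blockIdem B).coeff g * (Cfsg.classInner θ (χ : G → ℂ) * (χ : G → ℂ) g)
          = Cfsg.classInner θ (χ : G → ℂ) * ∑ g : G, (blockIdem B).coeff g * (χ : G → ℂ) g := by
            rw [Finset.mul_sum]; exact Finset.sum_congr rfl fun g _ => by ring
        _ = _ := by
            rw [this, omega_blockIdem, hc χ]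
            split
            · rw [one_mul, Nat.cast_mul, charDegree_cast]
            · simp
    rw [← h1, hdeg, omega, evalChar_eq_sum, evalChar_eq_sum, mul_assoc,
      mul_div_cancel₀ _ (irr_one_ne_zero ξ.2)]
    simp only [NormalSupport.coeff_res]
    have hH : (Nat.card H : ℂ) ≠ 0 := Nat.cast_ne_zero.2 Nat.card_pos.ne'
    apply mul_left_cancel₀ hH
    rw [Finset.mul_sum, ← mul_assoc, ← Nat.cast_mul, H.card_mul_index, Finset.mul_sum]
    calc ∑ g : G, (Nat.card H : ℂ) * ((blockIdem B).coeff g * θ g)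
        = ∑ g : G, ∑ x : G, (blockIdem B).coeff (x⁻¹ * g * x) *
            Cfsg.extendByZero H (ξ : H → ℂ) (x⁻¹ * g * x) := by
          refine Finset.sum_congr rfl fun g _ => ?_
          rw [mul_left_comm, hθdef, CharTheory.IndBasic.card_mul_indFun, Finset.mul_sum]
          refine Finset.sum_congr rfl fun x _ => ?_
          rw [show (blockIdem B).coeff (x⁻¹ * g * x) = (blockIdem B).coeff g by
            simpa [inv_inv] using hz g x⁻¹]
      _ = ∑ x : G, ∑ g : G, (blockIdem B).coeff g * Cfsg.extendByZero H (ξ : H → ℂ) g := by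
          rw [Finset.sum_comm]
          refine Finset.sum_congr rfl fun x _ => ?_
          exact Fintype.sum_equiv (MulAut.conj x⁻¹).toEquiv _ _ fun g => by simp
      _ = _ := by
          rw [Finset.sum_const, Finset.card_univ, nsmul_eq_mul, ← Nat.card_eq_fintype_card,
            ← Finset.sum_subset (Finset.subset_univ (Finset.univ.filter (· ∈ H))) fun g _ hg => by
              rw [CharTheory.IndBasic.extendByZero_of_notMem H _ (by simpa using hg), mul_zero],
            Finset.sum_subtype (Finset.univ.filter (· ∈ H)) (p := (· ∈ H)) (fun u => by simp),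
            Finset.mul_sum]
          refine Finset.sum_congr rfl fun h _ => ?_
          rw [CharTheory.IndBasic.extendByZero_of_mem H _ h.2]
  have hcong : ∀ B : Set (Cfsg.IrrCharacter G), Cfsg.IsPBlock M B →
      Cong M (omega (ξ : H → ℂ) (NormalSupport.res H (blockIdem B))) (if χ₀ ∈ B then 1 else 0) :=
    fun B hB => cong_trans hM (omega_res_cong hM hind hξ hχ₀ (central_blockIdem B)
      (intEl_blockIdem hM hB)) (cong_of_eq hM (omega_blockIdem B χ₀))
  have hval : ∀ N : ℕ, ∀ u : ℂ, (N : ℂ) = (m : ℂ) * u → Cfsg.MemLocalRing M u →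
      (¬ Cfsg.MemLocalIdeal M u → N ≠ 0 ∧ N.factorization p = m.factorization p) ∧
      (Cfsg.MemLocalIdeal M u → N = 0 ∨ m.factorization p < N.factorization p) := by
    intro N u hN hu
    have hu' : u = ((N : ℤ) : ℂ) / (m : ℂ) := by
      rw [Int.cast_natCast, hN, mul_div_cancel_left₀ _ (Nat.cast_ne_zero.2 hm0)]
    subst hu'
    have hiff := unit_div_iff hM (N : ℤ) hm0 hu
    rw [padicValInt, Int.natAbs_natCast, ← Nat.factorization_def _ hM.1, Ne, Int.natCast_eq_zero] at hiff
    refine ⟨hiff.1, fun hi => ?_⟩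
    by_contra hcon
    push Not at hcon
    rcases hcon.2.lt_or_eq with h | h
    · have h2 := ideal_mul_right hM (ideal_natCast_div hM hcon.1 h) hu
      rw [Int.cast_natCast, div_mul_div_comm, mul_comm (m : ℂ), div_self (mul_ne_zero
        (Nat.cast_ne_zero.2 hcon.1) (Nat.cast_ne_zero.2 hm0))] at h2
      exact not_ideal_one hM h2
    · exact (hiff.2 ⟨hcon.1, h⟩) hi
  have hring : ∀ B : Set (Cfsg.IrrCharacter G), Cfsg.IsPBlock M B →
      Cfsg.MemLocalRing M (omega (ξ : H → ℂ) (NormalSupport.res H (blockIdem B))) := fun B hB =>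
    ring_of_cong hM (hcong B hB) (by split <;> simp [ring_one hM, ring_zero hM])
  refine ⟨⟨_, hnat B₀, ((hval _ _ (hom B₀) (hring B₀ hB₀)).1 fun h => ?_)⟩, fun B hB hne =>
    ⟨_, hnat B, (hval _ _ (hom B) (hring B hB)).2 ?_⟩⟩
  · have := hcong B₀ hB₀
    rw [if_pos hχ₀] at this
    exact not_ideal_one hM ((ideal_iff_of_cong hM this).1 h)
  · have := hcong B hB
    rw [if_neg fun h => hne (block_eq_of_mem hM hB hB₀ h hχ₀)] at this
    exact cong_zero_iff.1 this

end Cfsg.Agent.S4430
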