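import Mathlib
import Cfsg.Statements.S4431
import Cfsg.Agent.BlockCharsA.RegularPart

set_option autoImplicit false
open Cfsg

namespace Cfsg.Agent.S4431

open Cfsg.Agent.Blocks Cfsg.Agent.Characters Cfsg.Agent.BlockCharsA.RegularPart
open Cfsg.Agent.BlockCharsA
open scoped ComplexConjugate


/-- Let H be a subgroup of the finite group G and b a block of H whose induced block B₀ in G is defined (relative to a maximal ideal M of the algebraic integers containing p). Let χ be an irreducible character of G, ψ ∈ b, and let η be the class function on H equal to p^a · χ on the p-regular elements of H and zero elsewhere, p^a being the p-part of the order of H. Then (a) if χ ∉ B₀, the number [η, ψ]/ψ(1) lies in the local ideal at M; (b) if χ ∈ B₀ has height zero, it does not. -/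
theorem result {G : Type*} [Group G] [Fintype G] (p : ℕ) [Fact p.Prime] (M : Ideal Cfsg.AlgInt) (hM : Cfsg.IsPModular p M) (H : Subgroup G) [Fintype H] (b : Set (Cfsg.IrrCharacter H)) (B₀ : Set (Cfsg.IrrCharacter G)) (hind : Cfsg.IsInducedBlock M H b B₀) (χ : Cfsg.IrrCharacter G) (ψ : Cfsg.IrrCharacter H) (hψ : ψ ∈ b) : (χ ∉ B₀ → Cfsg.MemLocalIdeal M (Cfsg.classInner (fun h : H => if p ∣ orderOf h then (0 : ℂ) else ((p ^ (Nat.card H).factorization p : ℕ) : ℂ) * (χ : G → ℂ) h) (ψ : H → ℂ) / (ψ : H → ℂ) 1)) ∧ (χ ∈ B₀ → Cfsg.blockHeight p B₀ (χ : G → ℂ) = 0 → ¬ Cfsg.MemLocalIdeal M (Cfsg.classInner (fun h : H => if p ∣ orderOf h then (0 : ℂ) else ((p ^ (Nat.card H).factorization p : ℕ) : ℂ) * (χ : G → ℂ) h) (ψ : H → ℂ) / (ψ : H → ℂ) 1)) := by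
  classical
  have hB₀ : Cfsg.IsPBlock M B₀ := hind.2.1
  obtain ⟨χ₀, hχ₀⟩ := block_nonempty hM hB₀
  set cH : ℂ := ((p ^ (Nat.card H).factorization p : ℕ) : ℂ) with hcH
  set cG : ℂ := ((p ^ (Nat.card G).factorization p : ℕ) : ℂ) with hcG
  have hzc := central_regEl (p := p) (irr_isClassFunction χ)
  have hzi := intEl_regEl hM (irr_isCharacter χ)
  -- the value as a central character of the truncation
  have hval : Cfsg.classInner (fun h : H => if p ∣ orderOf h then (0 : ℂ) else cH * (χ : G → ℂ) h)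
      (ψ : H → ℂ) / (ψ : H → ℂ) 1 =
        cH / (Nat.card H : ℂ) * omega (ψ : H → ℂ) (NormalSupport.res H (regEl p (χ : G → ℂ))) := by
    have : regEl p (fun h : H => (χ : G → ℂ) h) = NormalSupport.res H (regEl p (χ : G → ℂ)) :=
      el_ext fun h => by
        rw [coeff_regEl, NormalSupport.coeff_res, coeff_regEl, Subgroup.orderOf_coe,
          Subgroup.coe_inv]
    rw [show (fun h : H => if p ∣ orderOf h then (0 : ℂ) else cH * (χ : G → ℂ) h) =
      hat p cH (fun h : H => (χ : G → ℂ) h) from rfl, classInner_hat, this, mul_div_assoc,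
      mul_div_cancel_left₀ _ (irr_one_ne_zero ψ.2)]
  have hcong := omega_res_cong hM hind hψ hχ₀ hzc hzi
  have hunitH : Cfsg.MemLocalRing M (cH / (Nat.card H : ℂ)) := card_unit hM
  have hnunit : ¬ Cfsg.MemLocalIdeal M (cH / (Nat.card H : ℂ)) :=
    not_ideal_natCast_div hM (pow_ne_zero _ hM.1.ne_zero) Nat.card_pos.ne'
      (by rw [hM.1.factorization_pow, Finsupp.single_eq_same])
  have hnunitG : ¬ Cfsg.MemLocalIdeal M (cG / (Nat.card G : ℂ)) :=
    not_ideal_natCast_div hM (pow_ne_zero _ hM.1.ne_zero) Nat.card_pos.ne'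
      (by rw [hM.1.factorization_pow, Finsupp.single_eq_same])
  have hor := omega_ring hM χ₀ hzc hzi
  -- comparison with the ratio in the whole group
  have hiff : Cfsg.MemLocalIdeal M
      (cH / (Nat.card H : ℂ) * omega (ψ : H → ℂ) (NormalSupport.res H (regEl p (χ : G → ℂ)))) ↔
      Cfsg.MemLocalIdeal M (ratio p (χ : G → ℂ) (χ₀ : G → ℂ)) := by
    rw [ratio, ideal_iff_of_cong hM (cong_mul_left hM hunitH hcong),
      ideal_mul_iff hM hunitH hor, ideal_mul_iff hM (card_unit hM) hor]
    simp only [hnunit, hnunitG, false_or, ← hcG]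
  rw [hval, hiff]
  constructor
  · intro hχ
    have h0 := ratio_eq_zero hM (χ := χ) (ξ := χ₀) fun e =>
      hχ (mem_of_sameBlock hM hB₀ hχ₀ (sameBlock_symm hM e))
    obtain ⟨z, hz, hzr, -⟩ := exists_coeff hM χ χ₀
    rw [h0] at hz
    rw [← hz, eq_comm, mul_eq_zero] at hzr
    rw [hzr.resolve_left (Nat.cast_ne_zero.2 (charDegree_pos χ₀).ne')]
    exact ideal_zero hM
  · exact fun hχ hh => (ratio_unit_iff hM hB₀ hχ hχ₀).2 hh

end Cfsg.Agent.S4431
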