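import Cfsg.Statements.S4442
import Cfsg.Agent.Lib.Blocks.PrimeBlock.Degrees

set_option autoImplicit false
open Cfsg

namespace Cfsg.Agent.S4442
open Cfsg.Agent.Blocks Cfsg.Agent.Blocks.PrimeBlock Cfsg.Agent.Characters

/-- Blocks of defect one. Let p be an odd prime and G a finite group whose Sylow p-subgroup P has order p; let C = C_G(P) and N = N_G(P), and fix a maximal ideal M of the algebraic integers containing p. Let B be a block of G with defect group P, b a block of C inducing B, and θ the member of b having P in its kernel (there is exactly one). Let T be the stabilizer of θ in N (the elements g ∈ N with θ(g c g⁻¹) = θ(c) for all c ∈ C) and e the index of C in T. Then e divides p − 1 and B contains exactly e + (p − 1)/e irreducible characters. Moreover B is the disjoint union of a set X of e characters and a set Y of (p − 1)/e characters such that, with f the index of C in N: every χ ∈ X has χ(1) ≡ ±(f/e)·θ(1) (mod p), there is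 one sign ε with ψ(1) ≡ ε f θ(1) (mod p) for all ψ ∈ Y, and all members of Y agree on the p-regular elements of G. -/
theorem result {G : Type*} [Group G] [Finite G] (p : ℕ) [Fact p.Prime] (M : Ideal Cfsg.AlgInt) (hM : Cfsg.IsPModular p M) (hodd : p ≠ 2) (P : Sylow p G) (hP : Nat.card P = p) (B : Set (Cfsg.IrrCharacter G)) (hB : Cfsg.IsPBlock M B) (hBP : Cfsg.IsDefectGroup p M B P) (b : Set (Cfsg.IrrCharacter (Subgroup.centralizer ((P : Subgroup G) : Set G)))) (hind : Cfsg.IsInducedBlock M (Subgroup.centralizer ((P : Subgroup G) : Set G)) b B) (θ : Cfsg.IrrCharacter (Subgroup.centralizer ((P : Subgroup G) : Set G))) (hθ : θ ∈ b) (hθP : ∀ x : Subgroup.centralizer ((P : Subgroup G) : Set G), (x : G) ∈ (P : Subgroup G) → (θ : Subgroup.centralizer ((P : Subgroup G) : Set G) → ℂ) x = (θ : Subgroup.centralizer ((P : Subgroup G) : Set G) → ℂ) 1) (T : Subgroup G) (hT : ∀ g : G, g ∈ T ↔ (g ∈ Subgroup.normalizer ((P : Subgroup G) : Set G) ∧ ∀ c c'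 : Subgroup.centralizer ((P : Subgroup G) : Set G), (c' : G) = g * c * g⁻¹ → (θ : Subgroup.centralizer ((P : Subgroup G) : Set G) → ℂ) c' = (θ : Subgroup.centralizer ((P : Subgroup G) : Set G) → ℂ) c)) (e f : ℕ) (he : (Subgroup.centralizer ((P : Subgroup G) : Set G)).relIndex T = e) (hf : (Subgroup.centralizer ((P : Subgroup G) : Set G)).relIndex (Subgroup.normalizer ((P : Subgroup G) : Set G)) = f) : e ∣ p - 1 ∧ Nat.card B = e + (p - 1) / e ∧ ∃ X Y : Set (Cfsg.IrrCharacter G), B = X ∪ Y ∧ Disjoint X Y ∧ Nat.card X = e ∧ Nat.card Y = (p - 1) / e ∧ (∀ χ ∈ X, (Cfsg.charDegree (χ : G → ℂ) : ℤ) ≡ ((f / e * Cfsg.charDegree (θ : Subgroup.centralizer ((P : Subgroup G) : Set G) → ℂ) : ℕ) : ℤ) [ZMOD p] ∨ (Cfsg.charDegree (χ : G → ℂ) : ℤ) ≡ -((f / e * Cfsg.charDegree (θ : Subgroup.centralizer ((P : Subgroup G) : Set G) → ℂ) : ℕ) : ℤ) [ZMOD p]) ∧ (∃ ε : ℤ, (ε = 1 ∨ ε = -1) ∧ ∀ ψ ∈ Y, (Cfsg.charDegree (ψ : G → ℂ) : ℤ) ≡ ε * ((f * Cfsg.charDegree (θ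 : Subgroup.centralizer ((P : Subgroup G) : Set G) → ℂ) : ℕ) : ℤ) [ZMOD p]) ∧ ∀ ψ ∈ Y, ∀ ψ' ∈ Y, ∀ g : G, ¬ p ∣ orderOf g → (ψ : G → ℂ) g = (ψ' : G → ℂ) g := by
  classical
  obtain ⟨g, K, h, u, D⟩ := exists_primeData P hP
  haveI := Fintype.ofFinite K
  have hp : p.Prime := Fact.out
  set φ := resK D θ with hφ
  have hb : b = bl D M φ := bl_resK D hM hind.1 hθ
  have hθinfl : θ = infl D φ := eq_infl_of_trivial D θ hθP
  rw [hb] at hind
  obtain ⟨ζ, hζ⟩ : ∃ ζ : ℂ, IsPrimitiveRoot ζ p :=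
    ⟨_, Complex.isPrimitiveRoot_exp p (NeZero.ne p)⟩
  obtain ⟨θY, c, s, c₀, ε, hd⟩ := exists_blockData D hM hB hBP hind hζ
  -- the inertia group
  have hTeq : T = inertia D φ := by
    ext x
    rw [hT, mem_inertia]
    constructor
    · rintro ⟨hxN, hx⟩
      refine ⟨hxN, Subtype.ext (funext fun k => ?_)⟩
      have h1 := hx ⟨k, k_le_centralizer D k.2⟩
        ⟨x * k * x⁻¹, k_le_centralizer D (D.normal x hxN k k.2)⟩ rfl
      exact h1
    · rintro ⟨hxN, hx⟩
      refine ⟨hxN, fun d d' hdd => ?_⟩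
      obtain ⟨⟨i, k⟩, hik⟩ := (cEquiv_bijective D).2 d
      have h2 : d' = cEquiv D ((wt D ⟨x, hxN⟩ : ZMod p) * i, cjE D ⟨x, hxN⟩ k) := Subtype.ext (by
        rw [hdd, ← hik]
        show x * (g ^ i.val * (k : G)) * x⁻¹ =
          g ^ ((wt D ⟨x, hxN⟩ : ZMod p) * i).val * (cjE D ⟨x, hxN⟩ k : K)
        rw [← conj_pow_g D ⟨x, hxN⟩ i, coe_cjE]
        group)
      rw [h2, ← hik, hθinfl, infl_apply, infl_apply]
      exact congrFun (congrArg Subtype.val hx) k
  have hee : e = Nat.card (sgp D φ) := by rw [← he, hTeq, relIndex_inertia]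
  have hff : f = orderOf u := by rw [← hf, D.order_u]
  have hfe : f / e = (orb D φ).card := by
    rw [hff, hee, ← card_orb_mul D φ, Nat.mul_div_cancel_left _ Nat.card_pos]
  have hdegθ : Cfsg.charDegree (θ : Subgroup.centralizer ((P : Subgroup G) : Set G) → ℂ) =
      Cfsg.charDegree (φ : K → ℂ) := by
    refine Nat.cast_injective (R := ℂ) ?_
    rw [charDegree_cast, charDegree_cast]
    rfl
  refine ⟨hee ▸ card_sgp_dvd D φ, hee ▸ card_block D hd, B \ Set.range θY, Set.range θY, ?_,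
    Set.disjoint_sdiff_left, hee ▸ hd.card_X, hee ▸ card_range D hd, fun χ hχ => ?_, ⟨s, hd.sign_Y, ?_⟩,
    ?_⟩
  · rw [Set.sdiff_union_self, eq_comm, Set.union_eq_left]
    rintro _ ⟨J, rfl⟩
    exact hd.mem J
  · rw [hfe, hdegθ]
    have h1 := deg_modEq_X D hM hB hBP hind hd hχ
    rcases hd.sign χ hχ with h2 | h2
    · right; rw [h2, neg_one_mul] at h1; exact h1
    · left; rw [h2, neg_neg, one_mul] at h1; exact h1
  · rintro _ ⟨J, rfl⟩
    rw [hff, hdegθ]
    exact deg_modEq_Y D hζ hM hB hBP hind hd J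
  · rintro _ ⟨J, rfl⟩ _ ⟨J', rfl⟩ y hy
    exact hd.same J J' y hy

end Cfsg.Agent.S4442
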