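import Cfsg.Statements.S4445
import Cfsg.Agent.BlockCharsA.GlaubermanSolvable

set_option autoImplicit false
open Cfsg Cfsg.Agent.Blocks Cfsg.Agent.Characters Cfsg.Agent.BlockCharsA

namespace Cfsg.Agent.S4445

/-- Inside a finite group Γ let the solvable subgroup S normalise G with the orders of G and S coprime. Then the number of S-invariant irreducible characters of G (χ(s g s⁻¹) = χ(g) for all s ∈ S, g ∈ G) equals the number of conjugacy classes of G mapped to themselves by conjugation by every element of S. -/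
theorem result {Γ : Type*} [Group Γ] [Fintype Γ] (G S : Subgroup Γ) [Fintype G] (hnorm : ∀ s ∈ S, ∀ g ∈ G, s * g * s⁻¹ ∈ G) (hcop : (Nat.card G).Coprime (Nat.card S)) (hsolv : Group.IsSolvable S) : Nat.card {χ : Cfsg.IrrCharacter G // (∀ s ∈ S, ∀ g g' : G, (g' : Γ) = s * g * s⁻¹ → (χ : G → ℂ) g' = (χ : G → ℂ) g)} = Nat.card {K : ConjClasses G // ∀ s ∈ S, ∀ g g' : G, (g' : Γ) = s * g * s⁻¹ → ConjClasses.mk g = K → ConjClasses.mk g' = K} := by
  classical
  letI : MulDistribMulAction S G :=
    { smul := fun s g => ⟨s * g * (s : Γ)⁻¹, hnorm s s.2 g g.2⟩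
      one_smul := fun g => Subtype.ext (by
        show ((1 : S) : Γ) * g * ((1 : S) : Γ)⁻¹ = g
        simp)
      mul_smul := fun s t g => Subtype.ext (by
        show ((s * t : S) : Γ) * g * ((s * t : S) : Γ)⁻¹ = s * (t * g * (t : Γ)⁻¹) * (s : Γ)⁻¹
        simp [mul_assoc])
      smul_mul := fun s g h => Subtype.ext (by
        show (s : Γ) * ((g * h : G) : Γ) * (s : Γ)⁻¹ =
          (s * g * (s : Γ)⁻¹) * (s * h * (s : Γ)⁻¹)
        rw [Subgroup.coe_mul]; group)
      smul_one := fun s => Subtype.ext (by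
        show (s : Γ) * ((1 : G) : Γ) * (s : Γ)⁻¹ = 1
        simp) }
  have h := GlaubermanSolvable.card_invariant (Nat.card S) G S le_rfl hcop hsolv
  refine (Nat.card_congr (Equiv.subtypeEquivRight fun χ => ?_)).trans
    (h.trans (Nat.card_congr (Equiv.subtypeEquivRight fun K => ?_)).symm)
  · exact ⟨fun hh s g => hh s s.2 g (s • g) rfl, fun hh s hs g g' he => by
      rw [show g' = (⟨s, hs⟩ : S) • g from Subtype.ext he]; exact hh _ g⟩
  · exact ⟨fun hh s g hg => hh s s.2 g (s • g) rfl hg, fun hh s hs g g' he hg => by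
      rw [show g' = (⟨s, hs⟩ : S) • g from Subtype.ext he]; exact hh _ g hg⟩

end Cfsg.Agent.S4445
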