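import Cfsg.Statements.S4446
import Cfsg.Agent.BlockCharsA.CanonicalExt

set_option autoImplicit false
set_option linter.style.haveILetI false
open Cfsg
open Cfsg.Agent.Characters Cfsg.Agent.BlockCharsA.CanonicalExt Cfsg.Agent.BlockCharsA.CoprimeComplement

namespace Cfsg.Agent.S4446

/-- Let the finite group Γ be generated by a normal subgroup G and a cyclic subgroup S of coprime orders, C = G ⊓ C(S), and let χ be an S-invariant irreducible character of G with canonical extension χ̂ to Γ (the extension whose determinantal order is coprime to the order of S). Then there are exactly one irreducible character β of C and one sign ε such that χ̂(c s) = ε β(c) for every c ∈ C and every generator s of S; this β is a constituent of the restriction of χ to C; distinct S-invariant χ give distinct β; and every irreducible character of C arises in this way. -/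
theorem result {Γ : Type*} [Group Γ] [Fintype Γ] (G S : Subgroup Γ) [Fintype G] (hnorm : ∀ s ∈ S, ∀ g ∈ G, s * g * s⁻¹ ∈ G) (hcop : (Nat.card G).Coprime (Nat.card S)) (htop : G ⊔ S = ⊤) (hcyc : IsCyclic S) (C : Subgroup Γ) [Fintype C] (hC : C = G ⊓ Subgroup.centralizer (S : Set Γ)) (hCG : C ≤ G) : (∀ (χ : Cfsg.IrrCharacter G) (χh : Cfsg.IrrCharacter Γ), (∀ s ∈ S, ∀ g g' : G, (g' : Γ) = s * g * s⁻¹ → (χ : G → ℂ) g' = (χ : G → ℂ) g) → (∀ g : G, (χh : Γ → ℂ) g = (χ : G → ℂ) g) → (Cfsg.detOrder (χh : Γ → ℂ)).Coprime (Nat.card S) → (∃! βε : Cfsg.IrrCharacter C × ℤ, (βε.2 = 1 ∨ βε.2 = -1) ∧ ∀ c : C, ∀ s : Γ, Subgroup.zpowers s = S → (χh : Γ → ℂ) ((c : Γ) * s) = (βε.2 : ℂ) * (βε.1 : C → ℂ) c) ∧ ∀ β : Cfsg.IrrCharacter C, ∀ ε : ℤ, (ε = 1 ∨ ε = -1) → (∀ c : C, ∀ s : Γ, Subgroup.zpowers s = S → (χh : Γ → ℂ) ((c : Γ) * s) = (ε : ℂ) * (β : C → ℂ) c) → Cfsg.classInner (fun c : C => (χ : G → ℂ) ⟨c, hCG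 c.2⟩) (β : C → ℂ) ≠ 0) ∧ (∀ (χ χ' : Cfsg.IrrCharacter G) (χh χh' : Cfsg.IrrCharacter Γ), (∀ s ∈ S, ∀ g g' : G, (g' : Γ) = s * g * s⁻¹ → (χ : G → ℂ) g' = (χ : G → ℂ) g) → (∀ s ∈ S, ∀ g g' : G, (g' : Γ) = s * g * s⁻¹ → (χ' : G → ℂ) g' = (χ' : G → ℂ) g) → (∀ g : G, (χh : Γ → ℂ) g = (χ : G → ℂ) g) → (∀ g : G, (χh' : Γ → ℂ) g = (χ' : G → ℂ) g) → (Cfsg.detOrder (χh : Γ → ℂ)).Coprime (Nat.card S) → (Cfsg.detOrder (χh' : Γ → ℂ)).Coprime (Nat.card S) → ∀ β : Cfsg.IrrCharacter C, ∀ ε ε' : ℤ, (ε = 1 ∨ ε = -1) → (ε' = 1 ∨ ε' = -1) → (∀ c : C, ∀ s : Γ, Subgroup.zpowers s = S → (χh : Γ → ℂ) ((c : Γ) * s) = (ε : ℂ) * (β : C → ℂ) c) → (∀ c : C, ∀ s : Γ, Subgroup.zpowers s = S → (χh' : Γ → ℂ) ((c : Γ) * s) = (ε' : ℂ) * (β : C → ℂ) c) → χ = χ') ∧ (∀ β : Cfsg.IrrCharacter C, ∃ (χ : Cfsg.IrrCharacter G) (χh : Cfsg.IrrCharacter Γ) (ε : ℤ), (∀ s ∈ S, ∀ g g' : G, (g' : Γ) = s * g * s⁻¹ → (χ : G → ℂ) g' = (χ :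 G → ℂ) g) ∧ (∀ g : G, (χh : Γ → ℂ) g = (χ : G → ℂ) g) ∧ (Cfsg.detOrder (χh : Γ → ℂ)).Coprime (Nat.card S) ∧ (ε = 1 ∨ ε = -1) ∧ ∀ c : C, ∀ s : Γ, Subgroup.zpowers s = S → (χh : Γ → ℂ) ((c : Γ) * s) = (ε : ℂ) * (β : C → ℂ) c) := by
  haveI hGn : G.Normal := normal_of_conj G S hnorm htop
  obtain ⟨⟨s₀, hs₀⟩, hgen⟩ := hcyc.exists_generator
  have hz : Subgroup.zpowers s₀ = S := le_antisymm (Subgroup.zpowers_le.2 hs₀) fun x hx => by
    obtain ⟨i, hi⟩ := Subgroup.mem_zpowers_iff.1 (hgen ⟨x, hx⟩)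
    exact Subgroup.mem_zpowers_iff.2 ⟨i, by simpa using congrArg Subtype.val hi⟩
  have hfix : G ⊓ Subgroup.centralizer {s₀} = C := by rw [centralizer_generator S hz, hC]
  have hcomm : ∀ (c : C) (s : S), Commute (c : Γ) s := fun c s =>
    ((Subgroup.mem_centralizer_iff.1 (Subgroup.mem_inf.1 (hC.le c.2)).2) s s.2).symm
  have hidx := index_eq G S hcop htop
  -- a signed character at one generator is the same at every generator
  have hall : ∀ (χ : Cfsg.IrrCharacter G) (χh : Cfsg.IrrCharacter Γ),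
      (∀ g : G, (χh : Γ → ℂ) g = (χ : G → ℂ) g) →
      (Cfsg.detOrder (χh : Γ → ℂ)).Coprime (Nat.card S) →
      ∀ c : C, ∀ s : Γ, Subgroup.zpowers s = S →
        (χh : Γ → ℂ) ((c : Γ) * s) = (χh : Γ → ℂ) ((c : Γ) * s₀) := by
    intro χ χh hext hdet c s hs
    obtain ⟨m, hm, rfl⟩ := generator_pow S hz hs
    exact congrFun (slice_pow G S C hcop htop hext hdet hCG hs₀ (fun c => hcomm c ⟨s₀, hs₀⟩) hm) c
  have hex : ∀ (χ : Cfsg.IrrCharacter G) (χh : Cfsg.IrrCharacter Γ),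
      (∀ g : G, (χh : Γ → ℂ) g = (χ : G → ℂ) g) →
      (Cfsg.detOrder (χh : Γ → ℂ)).Coprime (Nat.card S) →
      ∃ (β : Cfsg.IrrCharacter C) (ε : ℤ), (ε = 1 ∨ ε = -1) ∧
        ∀ c : C, ∀ s : Γ, Subgroup.zpowers s = S →
          (χh : Γ → ℂ) ((c : Γ) * s) = (ε : ℂ) * (β : C → ℂ) c := by
    intro χ χh hext hdet
    obtain ⟨β, ε, hε, h⟩ := exists_signed G S C hcop htop hext hdet hcomm hs₀ hfix
    exact ⟨β, ε, hε, fun c s hs => (hall χ χh hext hdet c s hs).trans (congrFun h c)⟩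
  have hinj : ∀ (χ χ' : Cfsg.IrrCharacter G) (χh χh' : Cfsg.IrrCharacter Γ),
      (∀ g : G, (χh : Γ → ℂ) g = (χ : G → ℂ) g) → (∀ g : G, (χh' : Γ → ℂ) g = (χ' : G → ℂ) g) →
      ∀ β : Cfsg.IrrCharacter C, ∀ ε ε' : ℤ, (ε = 1 ∨ ε = -1) → (ε' = 1 ∨ ε' = -1) →
      (∀ c : C, ∀ s : Γ, Subgroup.zpowers s = S →
        (χh : Γ → ℂ) ((c : Γ) * s) = (ε : ℂ) * (β : C → ℂ) c) →
      (∀ c : C, ∀ s : Γ, Subgroup.zpowers s = S →
        (χh' : Γ → ℂ) ((c : Γ) * s) = (ε' : ℂ) * (β : C → ℂ) c) → χ = χ' := by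
    intro χ χ' χh χh' hext hext' β ε ε' hε hε' h h'
    by_contra hne
    have h0 := slice_orth G S C hcop (Ne.symm hne) hext hext' hs₀ hfix
    rw [show slice C (χh : Γ → ℂ) s₀ = (ε : ℂ) • (β : C → ℂ) from funext fun c => h c s₀ hz,
      show slice C (χh' : Γ → ℂ) s₀ = (ε' : ℂ) • (β : C → ℂ) from funext fun c => h' c s₀ hz,
      classInner_smul_left, classInner_smul_right, classInner_isIrr_self β.2] at h0
    rcases hε with rfl | rfl <;> rcases hε' with rfl | rfl <;> norm_num at h0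
  refine ⟨fun χ χh _ hext hdet => ⟨?_, ?_⟩,
    fun χ χ' χh χh' _ _ hext hext' _ _ => hinj χ χ' χh χh' hext hext', ?_⟩
  · obtain ⟨β, ε, hε, h⟩ := hex χ χh hext hdet
    refine ⟨(β, ε), ⟨hε, h⟩, fun q hq => ?_⟩
    obtain ⟨β', ε'⟩ := q
    obtain ⟨hε', h'⟩ := hq
    obtain ⟨e1, e2⟩ := signed_unique C hε' fun c => (h' c s₀ hz).symm.trans (h c s₀ hz)
    exact Prod.ext e1 e2
  · intro β ε hε h h0
    haveI := Fintype.ofFinite S
    have hm := Cfsg.Agent.CharTheory.Basics.char_eq_zero_of_one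
      (mult_isCharacter S C hcomm (irr_isCharacter χh) β) (by
        refine Eq.trans ?_ h0
        show Cfsg.classInner _ _ = _
        congr 1
        funext c
        show (χh : Γ → ℂ) ((c : Γ) * ((1 : S) : Γ)) = _
        rw [OneMemClass.coe_one, mul_one]
        exact hext ⟨c, hCG c.2⟩)
    have h1 : Cfsg.classInner (slice C (χh : Γ → ℂ) s₀) (β : C → ℂ) = 0 :=
      congrFun hm (⟨s₀, hs₀⟩ : S)
    rw [show slice C (χh : Γ → ℂ) s₀ = (ε : ℂ) • (β : C → ℂ) from funext fun c => h c s₀ hz,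
      classInner_smul_left, classInner_isIrr_self β.2] at h1
    rcases hε with rfl | rfl <;> norm_num at h1
  · intro β
    letI := conjAct G S
    haveI := hcyc
    have hsolv : Group.IsSolvable S := Group.isSolvable_of_comm fun a b => Std.Commutative.comm a b
    let A := {χ : Cfsg.IrrCharacter G // Cfsg.Agent.BlockCharsA.Glauberman.IsInv S χ}
    have hA : ∀ χ : A, ∀ s ∈ S, ∀ g g' : G, (g' : Γ) = s * g * s⁻¹ →
        ((χ : Cfsg.IrrCharacter G) : G → ℂ) g' = ((χ : Cfsg.IrrCharacter G) : G → ℂ) g := by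
      intro χ s hs g g' he
      refine Eq.trans (congrArg _ ?_) (χ.2 ⟨s, hs⟩ g)
      exact Subtype.ext he
    choose ext hext hdet using fun χ : A =>
      exists_canonical G S (hidx.symm ▸ hcop) htop χ.1 (hA χ)
    choose b e he hb using fun χ : A => hex χ.1 (ext χ) (hext χ) (hidx ▸ hdet χ)
    have hcard : Nat.card A = Nat.card (Cfsg.IrrCharacter C) := by
      rw [Cfsg.Agent.BlockCharsA.GlaubermanSolvable.card_invariant (Nat.card S) G S le_rfl hcop hsolv,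
        card_invClass G S hcop hsolv, card_irrCharacter, hC]
    obtain ⟨χ, rfl⟩ := (Function.Injective.bijective_of_nat_card_le (f := b) (fun x y h =>
      Subtype.ext (hinj x.1 y.1 (ext x) (ext y) (hext x) (hext y) (b x) (e x) (e y) (he x) (he y)
        (hb x) (h ▸ hb y))) hcard.ge).2 β
    exact ⟨χ.1, ext χ, e χ, hA χ, hext χ, hidx ▸ hdet χ, he χ, hb χ⟩

end Cfsg.Agent.S4446
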