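import Cfsg.Statements.S4447
import Cfsg.Agent.Lib.Coprime.Action
import Cfsg.Agent.Lib.CharTheory.Clifford
import Cfsg.Agent.Lib.CharTheory.Basics
import Cfsg.Agent.BlockCharsA.NormalSupport

set_option autoImplicit false
set_option linter.style.haveILetI false
open Cfsg
open Cfsg.Agent.Characters Cfsg.Agent.CharTheory

namespace Cfsg.Agent.S4447

/-- Inside a finite group Γ let S normalise G and also normalise a normal subgroup N of G, with the order of S coprime to the index of N in G and S or G/N solvable. Then for every S-invariant irreducible character χ of G, the restriction of χ to N has an S-invariant irreducible constituent. -/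
theorem result {Γ : Type*} [Group Γ] [Fintype Γ] (G S N : Subgroup Γ) [Fintype G] [Fintype N] (hnorm : ∀ s ∈ S, ∀ g ∈ G, s * g * s⁻¹ ∈ G) (hNG : N ≤ G) [hNn : (N.subgroupOf G).Normal] (hNS : ∀ s ∈ S, ∀ n ∈ N, s * n * s⁻¹ ∈ N) (hcop : (N.relIndex G).Coprime (Nat.card S)) (hsolv : Group.IsSolvable S ∨ Group.IsSolvable (G ⧸ N.subgroupOf G)) (χ : Cfsg.IrrCharacter G) (hinv : (∀ s ∈ S, ∀ g g' : G, (g' : Γ) = s * g * s⁻¹ → (χ : G → ℂ) g' = (χ : G → ℂ) g)) : ∃ θ : Cfsg.IrrCharacter N, Cfsg.classInner (fun n : N => (χ : G → ℂ) ⟨n, hNG n.2⟩) (θ : N → ℂ) ≠ 0 ∧ (∀ s ∈ S, ∀ g g' : N, (g' : Γ) = s * g * s⁻¹ → (θ : N → ℂ) g' = (θ : N → ℂ) g) := by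
  classical
  set Δ := G ⊔ S
  have hGN : G ≤ Subgroup.normalizer (N : Set Γ) :=
    (Subgroup.normal_subgroupOf_iff_le_normalizer hNG).1 hNn
  have hSN : S ≤ Subgroup.normalizer (N : Set Γ) := fun s hs => Subgroup.mem_normalizer_iff.2
    fun n => ⟨hNS s hs n, fun h => by simpa [mul_assoc] using hNS s⁻¹ (inv_mem hs) _ h⟩
  have hΔN : Δ ≤ Subgroup.normalizer (N : Set Γ) := sup_le hGN hSN
  haveI hNdn : (N.subgroupOf Δ).Normal :=
    (Subgroup.normal_subgroupOf_iff_le_normalizer (hNG.trans le_sup_left)).2 hΔN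
  have hin : ∀ (d : Δ) (n : N), (d : Γ)⁻¹ * n * d ∈ N := fun d n => by
    simpa using (Subgroup.mem_normalizer_iff.1 (hΔN (inv_mem d.2)) n).1 n.2
  have hout : ∀ (d : Δ) (n : N), (d : Γ) * n * (d : Γ)⁻¹ ∈ N := fun d n =>
    (Subgroup.mem_normalizer_iff.1 (hΔN d.2) n).1 n.2
  let e : Δ → (N ≃* N) := fun d =>
    { toFun := fun n => ⟨(d : Γ)⁻¹ * n * d, hin d n⟩
      invFun := fun n => ⟨(d : Γ) * n * (d : Γ)⁻¹, hout d n⟩
      left_inv := fun n => Subtype.ext (show (d : Γ) * ((d : Γ)⁻¹ * n * d) * (d : Γ)⁻¹ = n by group)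
      right_inv := fun n => Subtype.ext (show (d : Γ)⁻¹ * ((d : Γ) * n * (d : Γ)⁻¹) * d = n by group)
      map_mul' := fun a b => Subtype.ext (show (d : Γ)⁻¹ * (a * b) * d =
        ((d : Γ)⁻¹ * a * d) * ((d : Γ)⁻¹ * b * d) by group) }
  letI act : MulAction Δ (Cfsg.IrrCharacter N) :=
    { smul := fun d θ => ⟨(θ : N → ℂ) ∘ e d, Basics.isIrrCharacter_comp_equiv (e d) θ.2⟩
      one_smul := fun θ => Subtype.ext (funext fun n => congrArg (θ : N → ℂ)
        (Subtype.ext (show ((1 : Δ) : Γ)⁻¹ * n * ((1 : Δ) : Γ) = n by simp)))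
      mul_smul := fun a b θ => Subtype.ext (funext fun n => congrArg (θ : N → ℂ)
        (Subtype.ext (show ((a * b : Δ) : Γ)⁻¹ * n * ((a * b : Δ) : Γ) =
          (b : Γ)⁻¹ * ((a : Γ)⁻¹ * n * a) * b by push_cast; group))) }
  -- `χ` on `N` is fixed by `Δ`
  let T : Subgroup Γ :=
    { carrier := {d | d ∈ Subgroup.normalizer (N : Set Γ) ∧
        ∀ n n' : N, (n' : Γ) = d * n * d⁻¹ →
          (χ : G → ℂ) ⟨n', hNG n'.2⟩ = (χ : G → ℂ) ⟨n, hNG n.2⟩}
      one_mem' := ⟨one_mem _, fun n n' h => by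
        rw [show n' = n from Subtype.ext (by simpa using h)]⟩
      mul_mem' := fun {a b} ha hb => ⟨mul_mem ha.1 hb.1, fun n n' h => by
        let m : N := ⟨b * n * b⁻¹, (Subgroup.mem_normalizer_iff.1 hb.1 n).1 n.2⟩
        rw [ha.2 m n' (by rw [h]; show _ = a * (b * n * b⁻¹) * a⁻¹; group), hb.2 n m rfl]⟩
      inv_mem' := fun {a} ha => ⟨inv_mem ha.1, fun n n' h => (ha.2 n' n (by rw [h]; group)).symm⟩ }
  have hΔT : Δ ≤ T := sup_le (fun g hg => ⟨hGN hg, fun n n' h => by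
      refine Eq.trans ?_ (char_isClassFunction (irr_isCharacter χ) ⟨n, hNG n.2⟩ ⟨g, hg⟩)
      exact congrArg _ (Subtype.ext h)⟩)
    fun s hs => ⟨hSN hs, fun n n' h => hinv s hs ⟨n, hNG n.2⟩ ⟨n', hNG n'.2⟩ h⟩
  set r : N → ℂ := fun n => (χ : G → ℂ) ⟨n, hNG n.2⟩
  let Y : SubMulAction Δ (Cfsg.IrrCharacter N) :=
    { carrier := {θ | Cfsg.classInner r (θ : N → ℂ) ≠ 0}
      smul_mem' := fun d θ hθ => by
        have hr : r ∘ e d = r := funext fun n => ((hΔT d.2).2 (e d n) n (by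
          show (n : Γ) = (d : Γ) * ((d : Γ)⁻¹ * n * d) * (d : Γ)⁻¹; group)).symm
        show Cfsg.classInner r ((θ : N → ℂ) ∘ e d) ≠ 0
        rw [← hr, Basics.classInner_comp_equiv]
        exact hθ }
  have hker : N.subgroupOf Δ ≤ (MulAction.toPermHom Δ Y).ker := fun d hd => by
    rw [MonoidHom.mem_ker]
    refine Equiv.ext fun y => Subtype.ext (Subtype.ext (funext fun n => ?_))
    refine Eq.trans ?_ (char_isClassFunction (irr_isCharacter (y : Cfsg.IrrCharacter N)) n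
      (⟨(d : Γ), hd⟩⁻¹ : N))
    exact congrArg ((y : Cfsg.IrrCharacter N) : N → ℂ) (Subtype.ext (by
      show (d : Γ)⁻¹ * n * d = (d : Γ)⁻¹ * n * (d : Γ)⁻¹⁻¹
      rw [inv_inv]))
  letI : MulAction (Δ ⧸ N.subgroupOf Δ) Y :=
    MulAction.compHom Y (QuotientGroup.lift _ (MulAction.toPermHom Δ Y) hker)
  let π : Δ →* Δ ⧸ N.subgroupOf Δ := QuotientGroup.mk' _
  let φ : G →* Δ ⧸ N.subgroupOf Δ := π.comp (Subgroup.inclusion le_sup_left)
  let ψ : S →* Δ ⧸ N.subgroupOf Δ := π.comp (Subgroup.inclusion le_sup_right)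
  have hφker : φ.ker = N.subgroupOf G := by
    ext g
    rw [MonoidHom.mem_ker]
    exact QuotientGroup.eq_one_iff _
  have hcardK : Nat.card φ.range = N.relIndex G := by
    rw [← Subgroup.index_ker, hφker]; rfl
  -- the subgroups of the quotient
  have hAK : ψ.range ≤ Subgroup.normalizer (φ.range : Set (Δ ⧸ N.subgroupOf Δ)) := by
    have hc : ∀ (t : Γ) (ht : t ∈ S) (g : G), ∃ g' : G,
        π ⟨t, (le_sup_right : S ≤ Δ) ht⟩ * φ g * (π ⟨t, (le_sup_right : S ≤ Δ) ht⟩)⁻¹ = φ g' :=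
      fun t ht g => ⟨⟨t * g * t⁻¹, hnorm t ht g g.2⟩, by
        rw [← map_inv]
        simp only [φ, MonoidHom.comp_apply, ← map_mul]
        exact congrArg π (Subtype.ext rfl)⟩
    rintro _ ⟨⟨t, ht⟩, rfl⟩
    refine Subgroup.mem_normalizer_iff.2 fun x => ⟨?_, ?_⟩
    · rintro ⟨g, rfl⟩
      obtain ⟨g', hg'⟩ := hc t ht g
      exact ⟨g', hg'.symm⟩
    · rintro ⟨g, hg⟩
      obtain ⟨g', hg'⟩ := hc t⁻¹ (inv_mem ht) g
      refine ⟨g', hg'.symm.trans ?_⟩
      rw [hg, show (⟨t⁻¹, (le_sup_right : S ≤ Δ) (inv_mem ht)⟩ : Δ) =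
        (⟨t, (le_sup_right : S ≤ Δ) ht⟩ : Δ)⁻¹ from Subtype.ext rfl, map_inv]
      show (π ⟨t, (le_sup_right : S ≤ Δ) ht⟩)⁻¹ *
        (π ⟨t, (le_sup_right : S ≤ Δ) ht⟩ * x * (π ⟨t, (le_sup_right : S ≤ Δ) ht⟩)⁻¹) *
        ((π ⟨t, (le_sup_right : S ≤ Δ) ht⟩)⁻¹)⁻¹ = x
      group
  have hcop' : (Nat.card ψ.range).Coprime (Nat.card φ.range) := by
    rw [hcardK]
    exact hcop.symm.coprime_dvd_left (Subgroup.card_range_dvd ψ)
  have hsolv' : Group.IsSolvable ψ.range ∨ Group.IsSolvable φ.range := by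
    rcases hsolv with h | h
    · exact Or.inl (Group.isSolvable_of_surjective ψ.rangeRestrict_surjective)
    · refine Or.inr ?_
      let f : G ⧸ N.subgroupOf G →* φ.range := QuotientGroup.lift _ φ.rangeRestrict
        (by rw [← hφker]; intro g hg; rw [MonoidHom.mem_ker]; exact Subtype.ext hg)
      exact Group.isSolvable_of_surjective (f := f) fun y => by
        obtain ⟨g, hg⟩ := φ.rangeRestrict_surjective y
        exact ⟨g, hg⟩
  let eN : N.subgroupOf G ≃* N := Subgroup.subgroupOfEquivOfLe hNG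
  haveI : Fintype (N.subgroupOf G) := Fintype.ofFinite _
  have hsub : (fun n : N.subgroupOf G => (χ : G → ℂ) n) = r ∘ eN := funext fun n => rfl
  haveI : Nonempty Y := by
    obtain ⟨θ, hθ⟩ := BlockCharsA.NormalSupport.exists_under (N := N.subgroupOf G) χ
    refine ⟨⟨⟨(θ : N.subgroupOf G → ℂ) ∘ eN.symm, Basics.isIrrCharacter_comp_equiv eN.symm θ.2⟩, ?_⟩⟩
    show Cfsg.classInner r _ ≠ 0
    rw [← Basics.classInner_comp_equiv eN, ← hsub]
    convert hθ using 2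
    funext n
    simp
  have htrans : ∀ x y : Y, ∃ k ∈ φ.range, k • x = y := by
    intro x y
    have hx : Cfsg.classInner r ((x : Cfsg.IrrCharacter N) : N → ℂ) ≠ 0 := x.2
    have hy : Cfsg.classInner r ((y : Cfsg.IrrCharacter N) : N → ℂ) ≠ 0 := y.2
    rw [← Basics.classInner_comp_equiv eN, ← hsub] at hx hy
    obtain ⟨g, hg⟩ := Clifford.exists_conjBy_eq (N.subgroupOf G) χ.2
      (Basics.isIrrCharacter_comp_equiv eN (x : Cfsg.IrrCharacter N).2)
      (Basics.isIrrCharacter_comp_equiv eN (y : Cfsg.IrrCharacter N).2) hx hy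
    refine ⟨φ g⁻¹, ⟨g⁻¹, rfl⟩, Subtype.ext (Subtype.ext (funext fun n => ?_))⟩
    have h := congrFun hg (eN.symm n)
    simp only [Clifford.conjBy_apply, Function.comp_apply, MulEquiv.apply_symm_apply] at h
    refine Eq.trans ?_ h
    exact congrArg ((x : Cfsg.IrrCharacter N) : N → ℂ) (Subtype.ext (by
      show ((g⁻¹ : G) : Γ)⁻¹ * n * ((g⁻¹ : G) : Γ) = (g : Γ) * n * (g : Γ)⁻¹
      push_cast
      rw [inv_inv]))
  obtain ⟨y, hy⟩ := Cfsg.Agent.Coprime.exists_fixedPoint (X := Y) hAK hcop' hsolv' htrans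
  refine ⟨y, y.2, fun s hs g g' h => ?_⟩
  have hfix := hy (ψ ⟨s⁻¹, inv_mem hs⟩) ⟨_, rfl⟩
  have h2 := congrFun (congrArg (fun z : Y => ((z : Cfsg.IrrCharacter N) : N → ℂ)) hfix) g
  refine Eq.trans ?_ h2
  exact congrArg _ (Subtype.ext (by
    show (g' : Γ) = (s⁻¹)⁻¹ * g * s⁻¹
    rw [inv_inv, h]))

end Cfsg.Agent.S4447
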