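import Cfsg.Statements.S4448
import Cfsg.Agent.BlockCharsA.CoprimeAbelianStep

set_option autoImplicit false
set_option linter.style.haveILetI false
open Cfsg
open Cfsg.Agent.Blocks Cfsg.Agent.Characters Cfsg.Agent.BlockCharsA

namespace Cfsg.Agent.S4448

/-- Inside a finite group Γ let S normalise G and also normalise a normal subgroup N of G, with the order of S coprime to the index of N in G and G/N solvable. Then for every S-invariant irreducible character ϑ of N, the induced character ϑ^G has an S-invariant irreducible constituent. -/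
theorem result {Γ : Type*} [Group Γ] [Fintype Γ] (G S N : Subgroup Γ) [Fintype G] [Fintype N] (hnorm : ∀ s ∈ S, ∀ g ∈ G, s * g * s⁻¹ ∈ G) (hNG : N ≤ G) [hNn : (N.subgroupOf G).Normal] (hNS : ∀ s ∈ S, ∀ n ∈ N, s * n * s⁻¹ ∈ N) (hcop : (N.relIndex G).Coprime (Nat.card S)) (hsolv : Group.IsSolvable (G ⧸ N.subgroupOf G)) (θ : Cfsg.IrrCharacter N) (hinv : (∀ s ∈ S, ∀ g g' : N, (g' : Γ) = s * g * s⁻¹ → (θ : N → ℂ) g' = (θ : N → ℂ) g)) : ∃ χ : Cfsg.IrrCharacter G, Cfsg.classInner (fun n : N => (χ : G → ℂ) ⟨n, hNG n.2⟩) (θ : N → ℂ) ≠ 0 ∧ (∀ s ∈ S, ∀ g g' : G, (g' : Γ) = s * g * s⁻¹ → (χ : G → ℂ) g' = (χ : G → ℂ) g) := by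
  classical
  haveI := Fintype.ofFinite (N.subgroupOf G)
  letI : MulDistribMulAction S G :=
    { smul := fun s g => ⟨(s : Γ) * g * (s : Γ)⁻¹, hnorm s s.2 g g.2⟩
      one_smul := fun g => Subtype.ext (by
        show ((1 : S) : Γ) * g * ((1 : S) : Γ)⁻¹ = g
        simp)
      mul_smul := fun a b g => Subtype.ext (by
        show ((a * b : S) : Γ) * g * ((a * b : S) : Γ)⁻¹ =
          (a : Γ) * ((b : Γ) * g * (b : Γ)⁻¹) * (a : Γ)⁻¹
        push_cast; group)
      smul_mul := fun s a b => Subtype.ext (by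
        show (s : Γ) * ((a * b : G) : Γ) * (s : Γ)⁻¹ =
          ((s : Γ) * a * (s : Γ)⁻¹) * ((s : Γ) * b * (s : Γ)⁻¹)
        push_cast; group)
      smul_one := fun s => Subtype.ext (by
        show (s : Γ) * ((1 : G) : Γ) * (s : Γ)⁻¹ = ((1 : G) : Γ)
        simp) }
  let e := Subgroup.subgroupOfEquivOfLe hNG
  let θ' : Cfsg.IrrCharacter (N.subgroupOf G) :=
    ⟨(θ : N → ℂ) ∘ e, (isIrrCharacter_comp_mulEquiv e).2 θ.2⟩
  obtain ⟨χ, hχ, hχi⟩ := CoprimeAbelianStep.solvable_over (Nat.card G) G S (N.subgroupOf G) le_rfl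
    hcop hsolv (fun s g hg => hNS s s.2 g hg) θ' (fun s x => hinv s s.2 (e x)
      (e ⟨s • (x : G), hNS s s.2 _ x.2⟩) rfl)
  refine ⟨χ, ne_of_eq_of_ne ?_ hχ, fun s hs g g' h => ?_⟩
  · rw [classInner_def, classInner_def, Nat.card_congr e.toEquiv]
    congr 1
    exact (Fintype.sum_equiv e.toEquiv _ _ fun x => rfl).symm
  · have h1 := hχi ⟨s, hs⟩ g
    rwa [show (⟨s, hs⟩ : S) • g = g' from Subtype.ext h.symm] at h1

end Cfsg.Agent.S4448
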