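import Cfsg.Statements.S4449
import Cfsg.Agent.BlockCharsA.GlaubermanSolvable

set_option autoImplicit false
open Cfsg Cfsg.Agent.Blocks Cfsg.Agent.Characters Cfsg.Agent.BlockCharsA

namespace Cfsg.Agent.S4449

/-- Inside a finite group Γ let the solvable subgroup S normalise G with the orders of G and S coprime, and let N be a normal subgroup of G normalised by S. Then for every S-invariant irreducible character ϑ of N, the induced character ϑ^G has an S-invariant irreducible constituent. -/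
theorem result {Γ : Type*} [Group Γ] [Fintype Γ] (G S N : Subgroup Γ) [Fintype G] [Fintype N] (hnorm : ∀ s ∈ S, ∀ g ∈ G, s * g * s⁻¹ ∈ G) (hNG : N ≤ G) (hNnormal : ∀ g ∈ G, ∀ n ∈ N, g * n * g⁻¹ ∈ N) (hNS : ∀ s ∈ S, ∀ n ∈ N, s * n * s⁻¹ ∈ N) (hcop : (Nat.card G).Coprime (Nat.card S)) (hsolv : Group.IsSolvable S) (θ : Cfsg.IrrCharacter N) (hinv : (∀ s ∈ S, ∀ g g' : N, (g' : Γ) = s * g * s⁻¹ → (θ : N → ℂ) g' = (θ : N → ℂ) g)) : ∃ χ : Cfsg.IrrCharacter G, Cfsg.classInner (fun n : N => (χ : G → ℂ) ⟨n, hNG n.2⟩) (θ : N → ℂ) ≠ 0 ∧ (∀ s ∈ S, ∀ g g' : G, (g' : Γ) = s * g * s⁻¹ → (χ : G → ℂ) g' = (χ : G → ℂ) g) := by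
  classical
  letI : MulDistribMulAction S G :=
    { smul := fun s g => ⟨s * g * (s : Γ)⁻¹, hnorm s s.2 g g.2⟩
      one_smul := fun g => Subtype.ext (by
        show ((1 : S) : Γ) * g * ((1 : S) : Γ)⁻¹ = g
        simp)
      mul_smul := fun s t g => Subtype.ext (by
        show ((s * t : S) : Γ) * g * ((s * t : S) : Γ)⁻¹ = s * (t * g * (t : Γ)⁻¹) * (s : Γ)⁻¹
        simp [mul_assoc])
      smul_mul := fun s g h => Subtype.ext (by
        show (s : Γ) * ((g * h : G) : Γ) * (s : Γ)⁻¹ =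
          (s * g * (s : Γ)⁻¹) * (s * h * (s : Γ)⁻¹)
        rw [Subgroup.coe_mul]; group)
      smul_one := fun s => Subtype.ext (by
        show (s : Γ) * ((1 : G) : Γ) * (s : Γ)⁻¹ = 1
        simp) }
  set N' : Subgroup G := N.subgroupOf G
  haveI : N'.Normal := ⟨fun n hn g => hNnormal g g.2 n hn⟩
  haveI := Fintype.ofFinite N'
  let e : N' ≃* N := Subgroup.subgroupOfEquivOfLe hNG
  let θ' : Cfsg.IrrCharacter N' := ⟨_, (isIrrCharacter_comp_mulEquiv e).2 θ.2⟩
  have hN : ∀ (s : S), ∀ g ∈ N', s • g ∈ N' := fun s g hg => hNS s s.2 g hg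
  obtain ⟨χ, hχ, hχi⟩ := GlaubermanSolvable.exists_invariant_over (Nat.card S) G S le_rfl hcop
    hsolv N' hN θ' fun s x => hinv s s.2 (e x) (e ⟨s • (x : G), hN s x x.2⟩) rfl
  refine ⟨χ, ?_, fun s hs g g' he => by
    rw [show g' = (⟨s, hs⟩ : S) • g from Subtype.ext he]; exact hχi _ g⟩
  convert hχ using 1
  rw [classInner_def, classInner_def, Nat.card_congr e.toEquiv]
  congr 1
  refine (Fintype.sum_equiv e.toEquiv _ _ fun x => ?_).symm
  rfl

end Cfsg.Agent.S4449
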