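import Cfsg.Statements.S4451
import Cfsg.Agent.BlockCharsA.CanonicalExtFpf

set_option autoImplicit false
set_option linter.style.haveILetI false
open Cfsg
open Cfsg.Agent.Characters Cfsg.Agent.BlockCharsA.CanonicalExt Cfsg.Agent.BlockCharsA.CanonicalExtFpf

namespace Cfsg.Agent.S4451

/-- Let the finite group Γ be generated by a normal subgroup G and a cyclic subgroup S of coprime orders such that every non-identity element of S has the same centraliser C = G ⊓ C(S) in G. Let χ be an S-invariant irreducible character of G, χ̂ its canonical extension to Γ (determinantal order coprime to the order of S), and β the irreducible character of C with χ̂(c s) = ε₀ β(c) for c ∈ C and generators s of S (ε₀ = ±1). Then there are a sign ε = ±1, which may differ from ε₀, and a linear character μ of S with μ² = 1, such that: (a) χ̂(c x) = ε β(c) μ(x) for all c ∈ C and all x ∈ S other than 1; (b) the restriction of χ to C equals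 |S|·ϑ + ε β for some character ϑ of C or ϑ = 0; (c) |S| divides χ(1) − ε β(1). -/
theorem result {Γ : Type*} [Group Γ] [Fintype Γ] (G S : Subgroup Γ) [Fintype G] (hnorm : ∀ s ∈ S, ∀ g ∈ G, s * g * s⁻¹ ∈ G) (hcop : (Nat.card G).Coprime (Nat.card S)) (htop : G ⊔ S = ⊤) (hcyc : IsCyclic S) (C : Subgroup Γ) [Fintype C] (hC : C = G ⊓ Subgroup.centralizer (S : Set Γ)) (hCG : C ≤ G) (hfpf : ∀ x ∈ S, x ≠ 1 → G ⊓ Subgroup.centralizer ({x} : Set Γ) = C) (χ : Cfsg.IrrCharacter G) (hinv : (∀ s ∈ S, ∀ g g' : G, (g' : Γ) = s * g * s⁻¹ → (χ : G → ℂ) g' = (χ : G → ℂ) g)) (χh : Cfsg.IrrCharacter Γ) (hext : (∀ g : G, (χh : Γ → ℂ) g = (χ : G → ℂ) g)) (hdet : (Cfsg.detOrder (χh : Γ → ℂ)).Coprime (Nat.card S)) (β : Cfsg.IrrCharacter C) (ε₀ : ℤ) (hε₀ : ε₀ = 1 ∨ ε₀ = -1) (hβ : ∀ c : C, ∀ s : Γ, Subgroup.zpowers s = S → (χh : Γ → ℂ) ((c : Γ) * s) = (ε₀ : ℂ) * (β : C → ℂ) c) : ∃ ε : ℤ, (ε = 1 ∨ ε = -1) ∧ (∃ μ : S → ℂ, Cfsg.IsCharacter S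 μ ∧ μ 1 = 1 ∧ (∀ x : S, μ x * μ x = 1) ∧ ∀ c : C, ∀ x : S, x ≠ 1 → (χh : Γ → ℂ) ((c : Γ) * x) = (ε : ℂ) * (β : C → ℂ) c * μ x) ∧ (∃ ϑ : C → ℂ, Cfsg.IsCharacter C ϑ ∧ (fun c : C => (χ : G → ℂ) ⟨c, hCG c.2⟩) = fun c => (Nat.card S : ℂ) * ϑ c + (ε : ℂ) * (β : C → ℂ) c) ∧ (Nat.card S : ℤ) ∣ (Cfsg.charDegree (χ : G → ℂ) : ℤ) - ε * (Cfsg.charDegree (β : C → ℂ) : ℤ) := by
  classical
  haveI hGn : G.Normal := normal_of_conj G S hnorm htop
  haveI := Fintype.ofFinite S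
  haveI := Fintype.ofFinite (Cfsg.IrrCharacter C)
  haveI := hcyc
  obtain ⟨⟨s₀, hs₀⟩, hgen⟩ := hcyc.exists_generator
  have hz : Subgroup.zpowers s₀ = S := le_antisymm (Subgroup.zpowers_le.2 hs₀) fun x hx => by
    obtain ⟨i, hi⟩ := Subgroup.mem_zpowers_iff.1 (hgen ⟨x, hx⟩)
    exact Subgroup.mem_zpowers_iff.2 ⟨i, by simpa using congrArg Subtype.val hi⟩
  have hScomm : ∀ a b : S, a * b = b * a := fun a b => Std.Commutative.comm a b
  have hcomm : ∀ (c : C) (s : S), Commute (c : Γ) s := fun c s =>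
    ((Subgroup.mem_centralizer_iff.1 (Subgroup.mem_inf.1 (hC.le c.2)).2) s s.2).symm
  have hcf := char_isClassFunction (irr_isCharacter χh)
  have hone : (fun c : C => (χ : G → ℂ) ⟨c, hCG c.2⟩) = slice C (χh : Γ → ℂ) ((1 : S) : Γ) := by
    funext c
    show _ = (χh : Γ → ℂ) ((c : Γ) * ((1 : S) : Γ))
    rw [OneMemClass.coe_one, mul_one]
    exact (hext ⟨c, hCG c.2⟩).symm
  have hdeg : ∀ (ϑ : C → ℂ) (ε : ℤ), Cfsg.IsCharacter C ϑ →
      (fun c : C => (χ : G → ℂ) ⟨c, hCG c.2⟩) =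
        (fun c => (Nat.card S : ℂ) * ϑ c + (ε : ℂ) * (β : C → ℂ) c) →
      (Nat.card S : ℤ) ∣ (Cfsg.charDegree (χ : G → ℂ) : ℤ) -
        ε * (Cfsg.charDegree (β : C → ℂ) : ℤ) := by
    intro ϑ ε hϑ he
    obtain ⟨n, hn⟩ := char_one_nat hϑ
    refine ⟨n, ?_⟩
    have h1 : (χ : G → ℂ) 1 = (Nat.card S : ℂ) * ϑ 1 + (ε : ℂ) * (β : C → ℂ) 1 := congrFun he 1
    rw [hn, ← Cfsg.Agent.Blocks.charDegree_cast χ, ← Cfsg.Agent.Blocks.charDegree_cast β] at h1
    apply Int.cast_injective (α := ℂ)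
    push_cast
    linear_combination h1
  rcases eq_or_ne (Nat.card S) 1 with hS1 | hS1
  · have hs1 : ∀ x : S, x = 1 := fun x => by
      haveI := (Nat.card_eq_one_iff_unique.1 hS1).1
      exact Subsingleton.elim _ _
    have hz1 : Subgroup.zpowers (1 : Γ) = S := by
      rw [Subgroup.zpowers_one_eq_bot]; exact (Subgroup.card_eq_one.1 hS1).symm
    have he1 : ε₀ = 1 := by
      obtain ⟨a, ha0, ha⟩ := irr_one_pos χ.2
      obtain ⟨b, hb0, hb⟩ := irr_one_pos β.2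
      have h : (χ : G → ℂ) 1 = (ε₀ : ℂ) * (β : C → ℂ) 1 := by
        rw [← hβ 1 1 hz1, ← hext 1]; simp
      rw [ha, hb] at h
      rcases hε₀ with rfl | rfl
      · rfl
      · have : (a : ℤ) = -(b : ℤ) := by
          apply Int.cast_injective (α := ℂ); push_cast; simpa using h
        omega
    have hres : (fun c : C => (χ : G → ℂ) ⟨c, hCG c.2⟩) =
        fun c => (Nat.card S : ℂ) * (0 : C → ℂ) c + ((1 : ℤ) : ℂ) * (β : C → ℂ) c := by
      funext c
      rw [Pi.zero_apply, mul_zero, zero_add, ← he1, ← hβ c 1 hz1, mul_one]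
      exact (hext ⟨c, hCG c.2⟩).symm
    exact ⟨1, Or.inl rfl, ⟨fun _ => 1, isCharacter_one, rfl, fun _ => by simp,
      fun c x hx => absurd (hs1 x) hx⟩, ⟨0, isCharacter_zero, hres⟩,
      hdeg 0 1 isCharacter_zero hres⟩
  have hx : ∀ x : S, x ≠ 1 → G ⊓ Subgroup.centralizer ({(x : Γ)} : Set Γ) = C := fun x hx1 =>
    hfpf x x.2 fun e => hx1 (Subtype.ext e)
  have hsum : ∀ x : S, x ≠ 1 → ∑ γ : Cfsg.IrrCharacter C,
      Complex.normSq (mult S C (χh : Γ → ℂ) (γ : C → ℂ) x) = (1 : ℝ) := by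
    intro x hx1
    have h := (sum_mult_sq S C hcf fun c => hcomm c x).trans
      (slice_norm G S C hcop hext x.2 (hx x hx1))
    simp only [Complex.mul_conj] at h
    exact_mod_cast h
  have hs0ne : (⟨s₀, hs₀⟩ : S) ≠ 1 := by
    intro e
    have e' : s₀ = 1 := congrArg Subtype.val e
    exact hS1 (by rw [← hz, e', Subgroup.zpowers_one_eq_bot, Subgroup.card_bot])
  have hs0val : mult S C (χh : Γ → ℂ) (β : C → ℂ) ⟨s₀, hs₀⟩ = (ε₀ : ℂ) := by
    show Cfsg.classInner (slice C (χh : Γ → ℂ) s₀) (β : C → ℂ) = _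
    rw [show slice C (χh : Γ → ℂ) s₀ = (ε₀ : ℂ) • (β : C → ℂ) from funext fun c => hβ c s₀ hz,
      classInner_smul_left, classInner_isIrr_self β.2, mul_one]
  obtain ⟨hnormβ, lam, k₀, δ, hδ, hh1, hhx⟩ := eq_reg_add_linear hScomm
    (mult_isCharacter S C hcomm (irr_isCharacter χh) β)
    (fun x hx1 => by
      rw [← hsum x hx1]
      exact Finset.single_le_sum (f := fun γ : Cfsg.IrrCharacter C =>
        Complex.normSq (mult S C (χh : Γ → ℂ) (γ : C → ℂ) x))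
        (fun γ _ => Complex.normSq_nonneg _) (Finset.mem_univ β))
    ⟨⟨s₀, hs₀⟩, hs0ne, by rw [hs0val]; rcases hε₀ with rfl | rfl <;> norm_num⟩
  have hoth : ∀ γ : Cfsg.IrrCharacter C, γ ≠ β → ∀ x : S, x ≠ 1 →
      mult S C (χh : Γ → ℂ) (γ : C → ℂ) x = 0 := by
    intro γ hγ x hx1
    have h := hsum x hx1
    rw [← Finset.add_sum_erase _ _ (Finset.mem_univ β), hnormβ x hx1] at h
    exact Complex.normSq_eq_zero.1 ((Finset.sum_eq_zero_iff_of_nonneg
      (f := fun γ : Cfsg.IrrCharacter C =>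
        Complex.normSq (mult S C (χh : Γ → ℂ) (γ : C → ℂ) x))
      fun γ _ => Complex.normSq_nonneg _).1 (by linarith) γ
      (Finset.mem_erase.2 ⟨hγ, Finset.mem_univ _⟩))
  have hlam1 : (lam : S → ℂ) 1 = 1 := irr_degree_one_of_comm hScomm lam.2
  have hslice : ∀ (c : C) (x : S), x ≠ 1 →
      (χh : Γ → ℂ) ((c : Γ) * x) = (δ : ℂ) * (β : C → ℂ) c * (lam : S → ℂ) x := by
    intro c x hx1
    have h := congrFun (classFun_eq_sum (slice_classFun C hcf fun c => hcomm c x)) c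
    rw [Finset.sum_apply, Fintype.sum_eq_single β fun γ hγ => by
      rw [Pi.smul_apply, show Cfsg.classInner (slice C (χh : Γ → ℂ) x) (γ : C → ℂ) = 0 from
        hoth γ hγ x hx1, zero_smul], Pi.smul_apply,
      show Cfsg.classInner (slice C (χh : Γ → ℂ) x) (β : C → ℂ) = _ from hhx x hx1,
      smul_eq_mul] at h
    rw [show (χh : Γ → ℂ) ((c : Γ) * x) = _ from h]; ring
  have hreal : ∀ x : S, (lam : S → ℂ) x * (lam : S → ℂ) x = 1 := by
    intro x
    rcases eq_or_ne x 1 with rfl | hx1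
    · rw [hlam1, one_mul]
    have hpos : 0 < Nat.card S := Nat.card_pos
    have hm : (Nat.card S - 1).Coprime (Nat.card S) :=
      ((Nat.coprime_self_sub_left (m := 1) (n := Nat.card S) hpos).2 (Nat.coprime_one_left _))
    have hp : (x : Γ) ^ (Nat.card S - 1) = ((x⁻¹ : S) : Γ) := by
      rw [← Subgroup.coe_pow]
      exact congrArg Subtype.val (eq_inv_of_mul_eq_one_left (by
        rw [← pow_succ, Nat.sub_add_cancel hpos, pow_card_eq_one']))
    have h := congrFun (slice_pow G S C hcop htop hext hdet hCG x.2 (fun c => hcomm c x) hm) 1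
    rw [hp] at h
    have h' : (δ : ℂ) * (β : C → ℂ) 1 * (lam : S → ℂ) x⁻¹ =
        (δ : ℂ) * (β : C → ℂ) 1 * (lam : S → ℂ) x := by
      rw [← hslice 1 x hx1, ← hslice 1 x⁻¹ (inv_ne_one.2 hx1)]; exact h
    have hne : (δ : ℂ) * (β : C → ℂ) 1 ≠ 0 :=
      mul_ne_zero (by rcases hδ with rfl | rfl <;> norm_num) (irr_one_ne_zero β.2)
    have h'' := mul_left_cancel₀ hne h'
    have := char_mul_of_degree_one (irr_isCharacter lam) hlam1 x⁻¹ x
    rw [inv_mul_cancel, hlam1, h''] at this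
    exact this.symm
  -- the restriction
  have hk : ∀ γ : Cfsg.IrrCharacter C, ∃ k : ℕ,
      mult S C (χh : Γ → ℂ) (γ : C → ℂ) 1 =
        (Nat.card S : ℂ) * k + if γ = β then (δ : ℂ) else 0 := by
    intro γ
    by_cases hγ : γ = β
    · subst hγ
      exact ⟨k₀, by rw [hh1, if_pos rfl, mul_comm]⟩
    · obtain ⟨k, hk⟩ := classInner_char_nat (mult_isCharacter S C hcomm (irr_isCharacter χh) γ)
        (isCharacter_one (G := S))
      refine ⟨k, ?_⟩
      rw [classInner_def, Fintype.sum_eq_single 1 fun x hx1 => by rw [hoth γ hγ x hx1, zero_mul],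
        inv_mul_eq_iff_eq_mul₀ natCard_ne_zero, map_one, mul_one] at hk
      rw [hk, if_neg hγ, add_zero]
  choose k hk using hk
  have hres : (fun c : C => (χ : G → ℂ) ⟨c, hCG c.2⟩) =
      fun c => (Nat.card S : ℂ) * (∑ γ : Cfsg.IrrCharacter C, (k γ : ℂ) • (γ : C → ℂ)) c +
        (δ : ℂ) * (β : C → ℂ) c := by
    rw [hone]
    funext c
    rw [congrFun (classFun_eq_sum (slice_classFun C hcf fun c => hcomm c 1)) c]
    simp only [Finset.sum_apply, Pi.smul_apply, smul_eq_mul, Finset.mul_sum]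
    rw [Finset.sum_congr rfl fun γ _ => by
      rw [show Cfsg.classInner (slice C (χh : Γ → ℂ) ((1 : S) : Γ)) (γ : C → ℂ) = _ from hk γ,
        add_mul, ite_mul, zero_mul, mul_assoc], Finset.sum_add_distrib, Finset.sum_ite_eq',
      if_pos (Finset.mem_univ _)]
  have hϑ : Cfsg.IsCharacter C (∑ γ : Cfsg.IrrCharacter C, (k γ : ℂ) • (γ : C → ℂ)) :=
    isCharacter_sum _ _ fun γ _ => isCharacter_natSmul (irr_isCharacter γ) _
  exact ⟨δ, hδ, ⟨(lam : S → ℂ), irr_isCharacter lam, hlam1, hreal, hslice⟩, ⟨_, hϑ, hres⟩,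
    hdeg _ δ hϑ hres⟩

end Cfsg.Agent.S4451
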