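import Cfsg.Statements.S4452
import Cfsg.Agent.BlockCharsA.CoprimeComplement

set_option autoImplicit false
open Cfsg Cfsg.Agent.Blocks Cfsg.Agent.Characters Cfsg.Agent.BlockCharsA

namespace Cfsg.Agent.S4452

/-- Let the finite group G be the product of a normal subgroup K and a solvable subgroup H of coprime orders, and let N = N_G(H). Then the number of irreducible characters of G of degree coprime to the order of H equals the number of irreducible characters of N of degree coprime to the order of H. (The two sets are in fact in a canonical bijection; only the equality of their sizes is stated here.) -/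
theorem result {G : Type*} [Group G] [Finite G] (K H : Subgroup G) [K.Normal] (hKH : K ⊔ H = ⊤) (hcop : (Nat.card K).Coprime (Nat.card H)) (hsolv : Group.IsSolvable H) : Nat.card {χ : Cfsg.IrrCharacter G // (Cfsg.charDegree (χ : G → ℂ)).Coprime (Nat.card H)} = Nat.card {η : Cfsg.IrrCharacter (Subgroup.normalizer (H : Set G)) // (Cfsg.charDegree (η : Subgroup.normalizer (H : Set G) → ℂ)).Coprime (Nat.card H)} := by
  classical
  haveI := Fintype.ofFinite G
  haveI := Fintype.ofFinite K
  set N : Subgroup G := Subgroup.normalizer (H : Set G) with hN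
  haveI := Fintype.ofFinite N
  have hHN : H ≤ N := Subgroup.le_normalizer
  haveI := Fintype.ofFinite (K.subgroupOf N)
  have eH : H.subgroupOf N ≃* H := Subgroup.subgroupOfEquivOfLe hHN
  have hcardH : Nat.card (H.subgroupOf N) = Nat.card H := Nat.card_congr eH.toEquiv
  have hdisj : K ⊓ H = ⊥ := by
    rw [← Subgroup.card_eq_one]
    exact Nat.eq_one_of_dvd_coprimes hcop (Subgroup.card_dvd_of_le inf_le_left)
      (Subgroup.card_dvd_of_le inf_le_right)
  have hKN : K.subgroupOf N ⊔ H.subgroupOf N = ⊤ := by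
    refine eq_top_iff.2 fun x _ => ?_
    obtain ⟨k, hk, h, hh, e⟩ :=
      Subgroup.mem_sup_of_normal_left.1 (hKH.symm ▸ Subgroup.mem_top (x : G) : (x : G) ∈ K ⊔ H)
    have hkN : k ∈ N := by
      rw [show k = (x : G) * h⁻¹ by rw [← e]; group]
      exact N.mul_mem x.2 (inv_mem (hHN hh))
    rw [show x = ⟨k, hkN⟩ * ⟨h, hHN hh⟩ from Subtype.ext e.symm]
    exact Subgroup.mul_mem_sup (Subgroup.mem_subgroupOf.2 hk) (Subgroup.mem_subgroupOf.2 hh)
  have hcopN : (Nat.card (K.subgroupOf N)).Coprime (Nat.card (H.subgroupOf N)) := by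
    rw [hcardH]
    exact hcop.coprime_dvd_left
      (Subgroup.card_dvd_of_injective ((N.subtype.comp (K.subgroupOf N).subtype).codRestrict K
        fun x => x.2) fun a b e => Subtype.ext (Subtype.ext (congrArg (fun y : K => (y : G)) e)))
  have hsolvN : Group.IsSolvable (H.subgroupOf N) := by
    haveI := hsolv
    exact solvable_of_solvable_injective (f := eH.toMonoidHom) eH.injective
  have hc : ∀ k ∈ K, k ∈ Subgroup.centralizer (H : Set G) → k ∈ N := fun k _ hk =>
    Subgroup.centralizer_le_normalizer (H : Set G) hk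
  let f : ↥(K.subgroupOf N ⊓ Subgroup.centralizer ((H.subgroupOf N : Subgroup N) : Set N)) ≃*
      ↥(K ⊓ Subgroup.centralizer (H : Set G)) :=
    { toFun := fun x => ⟨((x : N) : G), Subgroup.mem_inf.2 ⟨x.2.1,
        Subgroup.mem_centralizer_iff.2 fun h hh => congrArg (fun y : N => (y : G))
          ((Subgroup.mem_centralizer_iff.1 (Subgroup.mem_inf.1 x.2).2) ⟨h, hHN hh⟩ hh)⟩⟩
      invFun := fun x => ⟨⟨(x : G), hc x x.2.1 x.2.2⟩, Subgroup.mem_inf.2 ⟨x.2.1,
        Subgroup.mem_centralizer_iff.2 fun h hh => Subtype.ext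
          ((Subgroup.mem_centralizer_iff.1 (Subgroup.mem_inf.1 x.2).2) h hh)⟩⟩
      left_inv := fun x => rfl
      right_inv := fun x => rfl
      map_mul' := fun x y => rfl }
  let g : (H →* ℂˣ) ≃ (H.subgroupOf N →* ℂˣ) :=
    { toFun := fun φ => φ.comp eH.toMonoidHom
      invFun := fun φ => φ.comp eH.symm.toMonoidHom
      left_inv := fun φ => MonoidHom.ext fun x => congrArg φ (eH.apply_symm_apply x)
      right_inv := fun φ => MonoidHom.ext fun x => congrArg φ (eH.symm_apply_apply x) }
  have h2 := CoprimeComplement.count (K.subgroupOf N) (H.subgroupOf N) hKN hcopN hsolvN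
  rw [hcardH] at h2
  rw [CoprimeComplement.count K H hKH hcop hsolv, h2, Nat.card_congr g]
  congr 1
  refine (Nat.card_eq_of_bijective (ConjClasses.map f.toMonoidHom) ⟨fun a b e => ?_, ?_⟩).symm
  · obtain ⟨a, rfl⟩ := ConjClasses.mk_surjective a
    obtain ⟨b, rfl⟩ := ConjClasses.mk_surjective b
    obtain ⟨c, hc⟩ := isConj_iff.1 (ConjClasses.mk_eq_mk_iff_isConj.1 e)
    refine ConjClasses.mk_eq_mk_iff_isConj.2 (isConj_iff.2 ⟨f.symm c, f.injective ?_⟩)
    simpa using hc
  · exact ConjClasses.map_surjective f.surjective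

end Cfsg.Agent.S4452
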