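import Cfsg.Statements.S4453
import Cfsg.Agent.BlocksChars.IsaacsOdd.Reduce
import Cfsg.Agent.Lib.Coprime.Action

set_option autoImplicit false
open Cfsg

namespace Cfsg.Agent.S4453

/-- Inside a finite group Γ let S normalise the solvable subgroup G of odd order with the orders of G and S coprime, let C = G ⊓ C(S), and let L ≤ K be S-invariant normal subgroups of G with K/L abelian, G = KC and H = LC (so C ≤ H ≤ G). Then for each S-invariant irreducible character χ of G there is exactly one S-invariant irreducible character ψ of H whose multiplicity in the restriction of χ to H is odd, and χ ↦ ψ is a bijection from the S-invariant irreducible characters of G onto those of H (distinct χ give distinct ψ, and every S-invariant ψ arises). -/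
theorem result {Γ : Type*} [Group Γ] [Fintype Γ] (G S : Subgroup Γ) [Fintype G] (hnorm : ∀ s ∈ S, ∀ g ∈ G, s * g * s⁻¹ ∈ G) (hcop : (Nat.card G).Coprime (Nat.card S)) (hGsolv : Group.IsSolvable G) (hodd : Odd (Nat.card G)) (C : Subgroup Γ) [Fintype C] (hC : C = G ⊓ Subgroup.centralizer (S : Set Γ)) (hCG : C ≤ G) (K L H : Subgroup Γ) [Fintype H] (hLK : L ≤ K) (hKG : K ≤ G) (hKn : ∀ g ∈ G, ∀ k ∈ K, g * k * g⁻¹ ∈ K) (hLn : ∀ g ∈ G, ∀ l ∈ L, g * l * g⁻¹ ∈ L) (hKS : ∀ s ∈ S, ∀ k ∈ K, s * k * s⁻¹ ∈ K) (hLS : ∀ s ∈ S, ∀ l ∈ L, s * l * s⁻¹ ∈ L) (hab : ∀ a ∈ K, ∀ b ∈ K, a * b * a⁻¹ * b⁻¹ ∈ L) (hGKC : K ⊔ C = G) (hH : H = L ⊔ C) (hHG : H ≤ G) : (∀ χ : Cfsg.IrrCharacter G, (∀ s ∈ S, ∀ g g' : G, (g' : Γ) = s * g * s⁻¹ → (χ : G → ℂ) g' = (χ : G → ℂ) g) → ∃! ψ : Cfsg.IrrCharacter H, (∀ s ∈ S, ∀ g g' : H, (g' : Γ) = s * g * s⁻¹ → (ψ : H → ℂ) g' = (ψ : H → ℂ) g) ∧ ∃ m : ℕ, Cfsg.classInner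 (fun h : H => (χ : G → ℂ) ⟨h, hHG h.2⟩) (ψ : H → ℂ) = (m : ℂ) ∧ Odd m) ∧ (∀ χ χ' : Cfsg.IrrCharacter G, (∀ s ∈ S, ∀ g g' : G, (g' : Γ) = s * g * s⁻¹ → (χ : G → ℂ) g' = (χ : G → ℂ) g) → (∀ s ∈ S, ∀ g g' : G, (g' : Γ) = s * g * s⁻¹ → (χ' : G → ℂ) g' = (χ' : G → ℂ) g) → ∀ ψ : Cfsg.IrrCharacter H, (∀ s ∈ S, ∀ g g' : H, (g' : Γ) = s * g * s⁻¹ → (ψ : H → ℂ) g' = (ψ : H → ℂ) g) → ∀ m m' : ℕ, Cfsg.classInner (fun h : H => (χ : G → ℂ) ⟨h, hHG h.2⟩) (ψ : H → ℂ) = (m : ℂ) → Odd m → Cfsg.classInner (fun h : H => (χ' : G → ℂ) ⟨h, hHG h.2⟩) (ψ : H → ℂ) = (m' : ℂ) → Odd m' → χ = χ') ∧ (∀ ψ : Cfsg.IrrCharacter H, (∀ s ∈ S, ∀ g g' : H, (g' : Γ) = s * g * s⁻¹ → (ψ : H → ℂ) g' = (ψ : H → ℂ) g) → ∃ χ : Cfsg.IrrCharacter G, (∀ s ∈ S, ∀ g g' : G, (g' : Γ) = s * g * s⁻¹ → (χ : G → ℂ) g' = (χ : G → ℂ) g) ∧ ∃ m : ℕ, Cfsg.classInner (fun h : H => (χ : G → ℂ) ⟨h, hHG h.2⟩) (ψ : H → ℂ) =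 (m : ℂ) ∧ Odd m) := by
  classical
  haveI : Finite Γ := Finite.of_fintype Γ
  have hCS : ∀ c ∈ C, ∀ s ∈ S, s * c * s⁻¹ = c := by
    intro c hc s hs
    rw [hC, Subgroup.mem_inf, Subgroup.mem_centralizer_iff] at hc
    rw [hc.2 s hs, mul_inv_cancel_right]
  have hCH : C ≤ H := hH ▸ le_sup_right
  have hLH : L ≤ H := hH ▸ le_sup_left
  have hLG : L ≤ G := hLK.trans hKG
  have hHS : ∀ s ∈ S, ∀ h ∈ H, s * h * s⁻¹ ∈ H := by
    intro s hs h hh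
    have hle : H ≤ H.comap (MulAut.conj s).toMonoidHom := by
      conv_lhs => rw [hH]
      refine sup_le (fun l hl => ?_) (fun c hc => ?_)
      · exact hLH (hLS s hs l hl)
      · show s * c * s⁻¹ ∈ H
        rw [hCS c hc s hs]
        exact hCH hc
    exact hle hh
  haveI hKnorm : (K.subgroupOf G).Normal := ⟨fun n hn g => hKn g g.2 n hn⟩
  haveI hLnorm : (L.subgroupOf G).Normal := ⟨fun n hn g => hLn g g.2 n hn⟩
  have hdec : ∀ g : G, ∃ k : G, (k : Γ) ∈ K ∧ ∃ c : G, (c : Γ) ∈ C ∧ g = k * c := by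
    intro g
    have h : g ∈ K.subgroupOf G ⊔ C.subgroupOf G := by
      rw [← Subgroup.subgroupOf_sup hKG hCG, Subgroup.mem_subgroupOf, hGKC]
      exact g.2
    obtain ⟨k, hk, c, hc, rfl⟩ := Subgroup.mem_sup_of_normal_left.1 h
    exact ⟨k, hk, c, hc, rfl⟩
  have hdecH : ∀ g : G, (g : Γ) ∈ H → ∃ l : G, (l : Γ) ∈ L ∧ ∃ c : G, (c : Γ) ∈ C ∧ g = l * c := by
    intro g hg
    have h : g ∈ L.subgroupOf G ⊔ C.subgroupOf G := by
      rw [← Subgroup.subgroupOf_sup hLG hCG, Subgroup.mem_subgroupOf, ← hH]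
      exact hg
    obtain ⟨l, hl, c, hc, rfl⟩ := Subgroup.mem_sup_of_normal_left.1 h
    exact ⟨l, hl, c, hc, rfl⟩
  let ac : S →* MulAut G := MonoidHom.mk'
    (fun s => BlocksChars.IsaacsOdd.restrictAut G (MulAut.conj (s : Γ)) fun g hg =>
      hnorm s s.2 g hg)
    fun s t => MulEquiv.ext fun g => Subtype.ext (by
      show MulAut.conj ((s * t : S) : Γ) g = MulAut.conj (s : Γ) (MulAut.conj (t : Γ) g)
      simp [map_mul])
  have hac : ∀ (s : S) (g : G), ((ac s g : G) : Γ) = (s : Γ) * g * (s : Γ)⁻¹ := fun s g => rfl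
  have hacC : ∀ c : G, (c : Γ) ∈ C → ∀ s : S, ac s c = c := fun c hc s =>
    Subtype.ext ((hac s c).trans (hCS c hc s s.2))
  let D : BlocksChars.IsaacsOdd.Setup G S :=
    { ac := ac
      K := K.subgroupOf G
      H := H.subgroupOf G
      normalK := hKnorm
      normalN := ⟨fun x hx g => by
        obtain ⟨k, hk, c, hc, rfl⟩ := hdec g
        have h1 : (c : Γ) * x * (c : Γ)⁻¹ ∈ H :=
          H.mul_mem (H.mul_mem (hCH hc) hx.1) (H.inv_mem (hCH hc))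
        have h2 : (c : Γ) * x * (c : Γ)⁻¹ ∈ K := hKn c (hCG hc) x hx.2
        set y : Γ := (c : Γ) * x * (c : Γ)⁻¹ with hy
        refine ⟨?_, hKn ((k * c : G) : Γ) (k * c).2 x hx.2⟩
        show ((k : Γ) * c) * x * ((k : Γ) * c)⁻¹ ∈ H
        rw [show ((k : Γ) * c) * x * ((k : Γ) * c)⁻¹ = ((k : Γ) * y * (k : Γ)⁻¹ * y⁻¹) * y by
          rw [hy]; group]
        exact H.mul_mem (hLH (hab k hk y h2)) h1⟩
      stK := fun s k hk => hKS s s.2 k hk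
      stH := fun s h hh => hHS s s.2 h hh
      comm := fun a ha b hb => hLH (hab a ha b hb)
      fixH := fun c hc => hCH (by
        rw [hC]
        refine ⟨c.2, Subgroup.mem_centralizer_iff.2 fun s hs => ?_⟩
        have h := congrArg Subtype.val (hc ⟨s, hs⟩)
        rw [hac] at h
        exact mul_inv_eq_iff_eq_mul.1 h)
      genG := fun g => by
        obtain ⟨k, hk, c, hc, rfl⟩ := hdec g
        exact ⟨k, hk, c, hacC c hc, rfl⟩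
      genH := fun h hh => by
        obtain ⟨l, hl, c, hc, rfl⟩ := hdecH h hh
        exact ⟨l, ⟨hLH hl, hLK hl⟩, c, hacC c hc, rfl⟩
      fpf := fun k hk hfix => by
        have hAN : S ≤ Subgroup.normalizer ((H ⊓ K : Subgroup Γ) : Set Γ) := fun s hs => by
          rw [Subgroup.mem_normalizer_iff]
          intro x
          refine ⟨fun hx => ⟨hHS s hs x hx.1, hKS s hs x hx.2⟩, fun hx => ?_⟩
          have hs' := S.inv_mem hs
          have h1 := hHS _ hs' _ hx.1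
          have h2 := hKS _ hs' _ hx.2
          have e : s⁻¹ * (s * x * s⁻¹) * s⁻¹⁻¹ = x := by group
          exact ⟨e ▸ h1, e ▸ h2⟩
        have hsub : (H ⊓ K : Subgroup Γ) ≤ G := inf_le_left.trans hHG
        haveI : Group.IsSolvable (H ⊓ K : Subgroup Γ) :=
          Group.isSolvable_of_isSolvable_injective (Subgroup.inclusion_injective hsub)
        have hcop' : (Nat.card S).Coprime (Nat.card (H ⊓ K : Subgroup Γ)) :=
          hcop.symm.coprime_dvd_right (Subgroup.card_dvd_of_le hsub)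
        obtain ⟨n, hn, hkn⟩ := Coprime.exists_fixed_in_coset hAN hcop' (Or.inr inferInstance)
          (k := (k : Γ)) fun s hs => by
            refine ⟨hfix ⟨s, hs⟩, K.mul_mem (K.inv_mem hk) (hKS s hs k hk)⟩
        have hknC : (k : Γ) * n ∈ C := by
          rw [hC]
          exact ⟨G.mul_mem k.2 (hsub hn), hkn⟩
        show (k : Γ) ∈ H
        have h := H.mul_mem (hCH hknC) (H.inv_mem hn.1)
        rwa [mul_inv_cancel_right] at h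
      cop := hcop.symm
      odd := hodd }
  haveI := Fintype.ofFinite D.K
  haveI := Fintype.ofFinite D.H
  haveI := Fintype.ofFinite D.N
  let ε : D.H ≃* H := Subgroup.subgroupOfEquivOfLe hHG
  obtain ⟨hmap, hinj, hsurj⟩ := D.correspondence
  have hinvG : ∀ χ : Cfsg.IrrCharacter G, (∀ s ∈ S, ∀ g g' : G, (g' : Γ) = s * g * s⁻¹ →
      (χ : G → ℂ) g' = (χ : G → ℂ) g) ↔ D.InvG (χ : G → ℂ) := fun χ =>
    ⟨fun h s g => h s s.2 g _ (hac s g), fun h s hs g g' e => by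
      rw [show g' = ac ⟨s, hs⟩ g from Subtype.ext e]
      exact h ⟨s, hs⟩ g⟩
  have hinvH : ∀ ψ : Cfsg.IrrCharacter H, (∀ s ∈ S, ∀ g g' : H, (g' : Γ) = s * g * s⁻¹ →
      (ψ : H → ℂ) g' = (ψ : H → ℂ) g) ↔ D.InvH ((ψ : H → ℂ) ∘ ε) := fun ψ =>
    ⟨fun h s x => h s s.2 (ε x) _ rfl, fun h s hs g g' e => by
      have h1 : (ψ : H → ℂ) ⟨s * (g : Γ) * s⁻¹, hHS s hs g g.2⟩ = (ψ : H → ℂ) g :=
        h ⟨s, hs⟩ ⟨⟨g, hHG g.2⟩, g.2⟩
      rw [show g' = ⟨s * (g : Γ) * s⁻¹, hHS s hs g g.2⟩ from Subtype.ext e]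
      exact h1⟩
  have hodd' : ∀ (χ : G → ℂ) (ψ : H → ℂ),
      (∃ m : ℕ, Cfsg.classInner (fun h : H => χ ⟨h, hHG h.2⟩) ψ = (m : ℂ) ∧ Odd m) ↔
        BlocksChars.IsaacsOdd.OddCon (fun x : D.H => χ x) (ψ ∘ ε) := fun χ ψ => by
    have e : Cfsg.classInner (fun x : D.H => χ x) (ψ ∘ ε) =
        Cfsg.classInner (fun h : H => χ ⟨h, hHG h.2⟩) ψ := by
      rw [← CharTheory.Basics.classInner_comp_equiv ε (fun h : H => χ ⟨h, hHG h.2⟩) ψ]
      rfl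
    unfold BlocksChars.IsaacsOdd.OddCon
    rw [e]
  refine ⟨fun χ hχ => ?_, fun χ χ' hχ hχ' ψ hψ m m' hm hmo hm' hmo' => ?_, fun ψ hψ => ?_⟩
  · obtain ⟨ψ₀, ⟨hψ₀, hψ₀i, hψ₀o⟩, huniq⟩ := hmap χ χ.2 ((hinvG χ).1 hχ)
    let ψ : Cfsg.IrrCharacter H :=
      ⟨ψ₀ ∘ ε.symm, CharTheory.Basics.isIrrCharacter_comp_equiv ε.symm hψ₀⟩
    have hψε : (ψ : H → ℂ) ∘ ε = ψ₀ := funext fun x => congrArg ψ₀ (ε.symm_apply_apply x)
    refine ⟨ψ, ⟨(hinvH ψ).2 (by rw [hψε]; exact hψ₀i),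
      (hodd' _ _).2 (by rw [hψε]; exact hψ₀o)⟩, fun ψ' h' => ?_⟩
    have h := huniq ((ψ' : H → ℂ) ∘ ε) (CharTheory.Basics.isIrrCharacter_comp_equiv ε ψ'.2)
      ((hinvH ψ').1 h'.1) ((hodd' _ _).1 h'.2)
    refine Subtype.ext (funext fun x => ?_)
    show (ψ' : H → ℂ) x = ψ₀ (ε.symm x)
    rw [← h, Function.comp_apply, ε.apply_symm_apply]
  · exact Subtype.ext (hinj χ χ' χ.2 χ'.2 ((hinvG χ).1 hχ) ((hinvG χ').1 hχ') _
      (CharTheory.Basics.isIrrCharacter_comp_equiv ε ψ.2) ((hinvH ψ).1 hψ)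
      ((hodd' _ _).1 ⟨m, hm, hmo⟩) ((hodd' _ _).1 ⟨m', hm', hmo'⟩))
  · obtain ⟨χ₀, hχ₀, hχ₀i, hχ₀o⟩ := hsurj _
      (CharTheory.Basics.isIrrCharacter_comp_equiv ε ψ.2) ((hinvH ψ).1 hψ)
    exact ⟨⟨χ₀, hχ₀⟩, (hinvG ⟨χ₀, hχ₀⟩).2 hχ₀i, (hodd' χ₀ _).2 hχ₀o⟩

end Cfsg.Agent.S4453
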