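import Cfsg.Statements.S4454
import Cfsg.Agent.Lib.CharTheory.ExtendChar
import Cfsg.Agent.Lib.CharTheory.Average
import Cfsg.Agent.Lib.CharTheory.Clifford

set_option autoImplicit false
set_option linter.style.haveILetI false
open Cfsg
open Cfsg.Agent.Characters Cfsg.Agent.CharTheory
open scoped ComplexConjugate

namespace Cfsg.Agent.S4454

theorem combinatorics {ι : Type*} [Fintype ι] (a : ι → ℕ) (n e : ℕ) (hn : Fintype.card ι = n)
    (h2 : 2 ≤ n) (hsum : ∑ i, a i = e) (hsq : n * ∑ i, a i ^ 2 + 1 = e ^ 2 + n) :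
    (n : ℤ) ∣ (e : ℤ) - 1 ∨ (n : ℤ) ∣ (e : ℤ) + 1 := by
  classical
  haveI : Nonempty ι := Fintype.card_pos_iff.1 (by omega)
  obtain ⟨i₀, -, hi₀⟩ := Finset.exists_min_image Finset.univ a Finset.univ_nonempty
  set q := a i₀
  set b : ι → ℤ := fun i => (a i : ℤ) - q with hb
  have hb0 : ∀ i, 0 ≤ b i := fun i => by
    have := hi₀ i (Finset.mem_univ i)
    simp only [hb]; omega
  set Z := ∑ i, b i ^ 2
  have hsumb : ∑ i, b i = (e : ℤ) - n * q := by
    simp only [hb, Finset.sum_sub_distrib, Finset.sum_const, Finset.card_univ, hn, nsmul_eq_mul]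
    rw [← hsum]; push_cast; ring
  have hvar : (n : ℤ) * Z - (∑ i, b i) ^ 2 = n - 1 := by
    have e1 : Z = ((∑ i, a i ^ 2 : ℕ) : ℤ) - 2 * q * e + n * q ^ 2 := by
      simp only [Z, hb, sub_sq, Finset.sum_add_distrib, Finset.sum_sub_distrib, Finset.sum_const,
        Finset.card_univ, hn, nsmul_eq_mul]
      rw [← Finset.sum_mul, ← Finset.mul_sum, ← hsum]
      push_cast; ring
    have e2 : (n : ℤ) * ((∑ i, a i ^ 2 : ℕ) : ℤ) + 1 = (e : ℤ) ^ 2 + n := by exact_mod_cast hsq
    rw [e1, hsumb]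
    linear_combination e2
  set s := Finset.univ.filter fun i => b i ≠ 0 with hs
  set k := s.card
  have hcs : (∑ i, b i) ^ 2 ≤ (k : ℤ) * Z := by
    rw [← Finset.sum_filter_ne_zero, show Z = ∑ i ∈ s, b i ^ 2 from
      (Finset.sum_subset (Finset.subset_univ s) fun i _ hi => by
        simp only [hs, Finset.mem_filter, Finset.mem_univ, true_and, not_not] at hi
        simp [hi]).symm]
    exact sq_sum_le_card_mul_sum_sq
  have hZ : (k : ℤ) ≤ Z := by
    calc (k : ℤ) = ∑ i ∈ s, (1 : ℤ) := by simp [k]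
      _ ≤ ∑ i ∈ s, b i ^ 2 := Finset.sum_le_sum fun i hi => by
          have h1 := (Finset.mem_filter.1 hi).2
          have h2 := hb0 i
          nlinarith [(show (1 : ℤ) ≤ b i by omega)]
      _ ≤ Z := Finset.sum_le_sum_of_subset_of_nonneg (Finset.subset_univ s)
          fun i _ _ => sq_nonneg _
  have hkn : k < n := by
    rw [← hn]
    refine Finset.card_lt_univ_of_notMem (x := i₀) fun h => (Finset.mem_filter.1 h).2 ?_
    simp [hb, q]
  have hle : ((n : ℤ) - k) * Z ≤ n - 1 := by nlinarith [hcs, hvar]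
  have hval : ∀ i ∈ s, Z = k → b i = 1 := by
    intro i hi hZk
    have h1 : ∑ j ∈ s, (b j ^ 2 - 1) ≤ 0 := by
      rw [Finset.sum_sub_distrib, Finset.sum_const, nsmul_eq_mul, mul_one]
      have : ∑ j ∈ s, b j ^ 2 ≤ Z :=
        Finset.sum_le_sum_of_subset_of_nonneg (Finset.subset_univ s) fun i _ _ => sq_nonneg _
      omega
    have hpos : ∀ j ∈ s, 0 ≤ b j ^ 2 - 1 := fun j hj => by
      have h3 := (Finset.mem_filter.1 hj).2
      have h4 := hb0 j
      nlinarith [(show (1 : ℤ) ≤ b j by omega)]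
    have h3 := Finset.single_le_sum hpos hi
    have h4 := hb0 i
    have h5 := (Finset.mem_filter.1 hi).2
    have h6 : 1 ≤ b i := by omega
    nlinarith
  have hsk : Z = k → (e : ℤ) = n * q + k := fun hZk => by
    have : ∑ i, b i = (k : ℤ) := by
      rw [← Finset.sum_subset (Finset.subset_univ s) fun i _ hi => by
        simpa [hs] using hi, Finset.sum_congr rfl fun i hi => hval i hi hZk]
      simp [k]
    linarith
  rcases Nat.eq_zero_or_pos k with hk0 | hk0
  · exfalso
    have h0 : ∀ i, b i = 0 := fun i => by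
      by_contra h
      exact (Finset.card_pos.2 ⟨i, Finset.mem_filter.2 ⟨Finset.mem_univ i, h⟩⟩).ne' hk0
    simp [Z, h0] at hvar
    omega
  have hnk : (1 : ℤ) ≤ (n : ℤ) - k := by omega
  have hprod : ((k : ℤ) - 1) * ((n : ℤ) - k - 1) ≤ 0 := by nlinarith [hZ, hle]
  rcases Nat.eq_or_lt_of_le hk0 with h1 | h1
  · left
    have hk1 : (k : ℤ) = 1 := by omega
    have hZk : Z = k := le_antisymm (by rw [hk1] at hle; nlinarith) hZ
    exact ⟨q, by linarith [hsk hZk]⟩
  · right
    have hk1 : (k : ℤ) = n - 1 := by nlinarith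
    have hZk : Z = k := le_antisymm (by rw [hk1] at hle ⊢; nlinarith) hZ
    exact ⟨q + 1, by linarith [hsk hZk]⟩

/-- Let N ≤ G be normal subgroups of the finite group Γ with Γ/G cyclic and Γ/N a Frobenius group with kernel G/N: G ≠ Γ, N ≠ G, and no element of Γ outside G fixes a non-identity coset of N in G under conjugation. Let ϑ be an irreducible character of N invariant under conjugation by Γ and suppose ϑ is fully ramified in G: the character of G induced from ϑ equals e·χ for an irreducible character χ of G and a natural number e. Then the index of G in Γ divides e − 1 or e + 1. -/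
theorem result {Γ : Type*} [Group Γ] [Fintype Γ] (G N : Subgroup Γ) [hG : G.Normal] [hN : N.Normal] [Fintype G] [Fintype N] (hNG : N ≤ G) (hGlt : G ≠ ⊤) (hNlt : N ≠ G) (hcyc : IsCyclic (Γ ⧸ G)) (hfrob : ∀ x : Γ, x ∉ G → ∀ g : Γ, g ∈ G → x * g * x⁻¹ * g⁻¹ ∈ N → g ∈ N) (θ : Cfsg.IrrCharacter N) (hinv : ∀ (x : Γ) (n : N), (θ : N → ℂ) ⟨x * n * x⁻¹, hN.conj_mem n n.2 x⟩ = (θ : N → ℂ) n) (χ : Cfsg.IrrCharacter G) (e : ℕ) (hram : Cfsg.indFun (N.subgroupOf G) (fun n : N.subgroupOf G => (θ : N → ℂ) ⟨(n : G), n.2⟩) = fun g => (e : ℂ) * (χ : G → ℂ) g) : (G.index : ℤ) ∣ (e : ℤ) - 1 ∨ (G.index : ℤ) ∣ (e : ℤ) + 1 := by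
  classical
  haveI := Fintype.ofFinite (N.subgroupOf G)
  set N' := N.subgroupOf G
  let en : N' ≃* N := Subgroup.subgroupOfEquivOfLe hNG
  let θ' : N' → ℂ := fun x => (θ : N → ℂ) (en x)
  have hθ' : Cfsg.IsIrrCharacter N' θ' := (isIrrCharacter_comp_mulEquiv en).2 θ.2
  have hinv' : ∀ g : G, Clifford.conjBy N' g θ' = θ' := fun g => funext fun x => hinv (g : Γ) (en x)
  have hind : Cfsg.indFun N' θ' = fun g => (e : ℂ) * (χ : G → ℂ) g := hram
  have he2 : ((e * e : ℕ) : ℂ) = (N'.index : ℂ) := by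
    rw [← Clifford.classInner_indFun_self N' hθ' hinv', hind,
      show (fun g => (e : ℂ) * (χ : G → ℂ) g) = (e : ℂ) • (χ : G → ℂ) from rfl,
      classInner_smul_left, classInner_smul_right, classInner_isIrr_self χ.2, Complex.conj_natCast]
    push_cast; ring
  have he0 : (e : ℂ) ≠ 0 := fun h => by
    rw [Nat.cast_mul, h, mul_zero, eq_comm, Nat.cast_eq_zero] at he2
    exact Subgroup.index_ne_zero_of_finite he2
  have hχN : ∀ n : N, (χ : G → ℂ) ⟨n, hNG n.2⟩ = (e : ℂ) * (θ : N → ℂ) n := by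
    intro n
    have h := Clifford.indFun_coe_of_invariant N' hinv' (⟨⟨n, hNG n.2⟩, n.2⟩ : N')
    rw [hind, ← he2, Nat.cast_mul, mul_assoc] at h
    exact mul_left_cancel₀ he0 h
  have hχinv : ∀ x : Γ, Clifford.conjBy G x (χ : G → ℂ) = χ := by
    intro x
    funext g
    have h : Cfsg.indFun N' θ' ⟨x * g * x⁻¹, hG.conj_mem g g.2 x⟩ = Cfsg.indFun N' θ' g := by
      simp only [Cfsg.indFun]
      congr 1
      refine Fintype.sum_equiv (MulAut.conjNormal x⁻¹ : G ≃* G).toEquiv _ _ fun y => ?_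
      have e0 : (((MulAut.conjNormal x⁻¹ : G ≃* G).toEquiv y)⁻¹ * g *
          (MulAut.conjNormal x⁻¹ : G ≃* G).toEquiv y : G) =
          (MulAut.conjNormal x⁻¹ : G ≃* G) (y⁻¹ * ⟨x * g * x⁻¹, hG.conj_mem g g.2 x⟩ * y) := by
        refine Subtype.ext ?_
        simp [mul_assoc]
      rw [e0]
      generalize (y⁻¹ * (⟨x * g * x⁻¹, hG.conj_mem g g.2 x⟩ : G) * y) = z
      by_cases hz : z ∈ N'
      · have hz' : (MulAut.conjNormal x⁻¹ : G ≃* G) z ∈ N' := by
          show ((MulAut.conjNormal x⁻¹ : G ≃* G) z : Γ) ∈ N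
          rw [MulAut.conjNormal_apply]
          exact hN.conj_mem _ hz _
        rw [IndBasic.extendByZero_of_mem _ _ hz, IndBasic.extendByZero_of_mem _ _ hz']
        exact (hinv x⁻¹ (⟨(z : Γ), hz⟩ : N)).symm.trans (congrArg _ (Subtype.ext (by
          show x⁻¹ * (z : Γ) * x⁻¹⁻¹ = ((MulAut.conjNormal x⁻¹ : G ≃* G) z : Γ)
          rw [MulAut.conjNormal_apply])))
      · have hz' : (MulAut.conjNormal x⁻¹ : G ≃* G) z ∉ N' := by
          intro h
          apply hz
          show (z : Γ) ∈ N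
          have h1 := hN.conj_mem _ h x
          simpa [mul_assoc] using h1
        rw [IndBasic.extendByZero_of_notMem _ _ hz, IndBasic.extendByZero_of_notMem _ _ hz']
    rw [hind] at h
    exact mul_left_cancel₀ he0 h
  obtain ⟨Ψ, hΨ, hΨG⟩ := ExtendChar.exists_extension_cyclic G hcyc χ.2 hχinv
  have hΨres : Cfsg.IsIrrCharacter G (fun g : G => Ψ g) := by
    rw [show (fun g : G => Ψ g) = (χ : G → ℂ) from funext hΨG]; exact χ.2
  let F : Γ → ℂ := fun y => Ψ y * conj (Ψ y)
  have hF : ∀ y z : Γ, F (z * y * z⁻¹) = F y := fun y z => by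
    simp only [F, char_isClassFunction (isCharacter_of_isIrr hΨ) y z]
  have hcoset : ∀ x, ∑ g : G, F ((g : Γ) * x) = (Nat.card G : ℂ) := fun x => by
    have h : (Nat.card G : ℂ)⁻¹ * ∑ g : G, F ((g : Γ) * x) = 1 :=
      congrFun (Average.quotChar_self G hΨ hΨres) x
    rw [inv_mul_eq_iff_eq_mul₀ natCard_ne_zero, mul_one] at h
    exact h
  have hA : ∀ x, x ∉ G → ∑ n : N, F ((n : Γ) * x) = (Nat.card N : ℂ) := by
    intro x hx
    let A : Γ → ℂ := fun g => ∑ n : N, F ((n : Γ) * (g * x))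
    have hAN : ∀ (m : N) (g : Γ), A ((m : Γ) * g) = A g := fun m g =>
      Fintype.sum_equiv (Equiv.mulRight m) _ _ fun n => by simp [mul_assoc]
    have hAc : ∀ g : G, A ((g : Γ) * x * (g : Γ)⁻¹ * x⁻¹) = A 1 := by
      intro g
      refine (Fintype.sum_equiv (MulAut.conjNormal (g : Γ) : N ≃* N).toEquiv _ _ fun n => ?_).symm
      rw [← hF _ (g : Γ)]
      congr 1
      simp [mul_assoc]
    let c : G ⧸ N' → G ⧸ N' := Quotient.lift
      (fun g : G => ((⟨(g : Γ) * x * (g : Γ)⁻¹ * x⁻¹, by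
        simpa [mul_assoc] using G.mul_mem g.2 (hG.conj_mem _ (G.inv_mem g.2) x)⟩ : G) : G ⧸ N'))
      (fun a b hab => by
        have hab' : (a : Γ)⁻¹ * b ∈ N :=
          (QuotientGroup.leftRel_apply.1 (hab : QuotientGroup.leftRel N' a b) :)
        refine QuotientGroup.eq.2 ?_
        show ((a : Γ) * x * (a : Γ)⁻¹ * x⁻¹)⁻¹ * ((b : Γ) * x * (b : Γ)⁻¹ * x⁻¹) ∈ N
        rw [← QuotientGroup.eq_one_iff]
        have e1 : ((b : Γ) : Γ ⧸ N) = (a : Γ) := (QuotientGroup.eq.2 hab').symm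
        simp only [QuotientGroup.mk_mul, QuotientGroup.mk_inv, e1]
        group)
    have hc : Function.Injective c := by
      intro q q' h
      induction q using QuotientGroup.induction_on with | _ a => ?_
      induction q' using QuotientGroup.induction_on with | _ b => ?_
      refine (QuotientGroup.eq.2 ?_).symm
      have h' : ((((a : Γ) * x * (a : Γ)⁻¹ * x⁻¹ : Γ)) : Γ ⧸ N) =
          (((b : Γ) * x * (b : Γ)⁻¹ * x⁻¹ : Γ) : Γ ⧸ N) := QuotientGroup.eq.2 (QuotientGroup.eq.1 h :)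
      refine hfrob x hx _ (G.mul_mem (G.inv_mem b.2) a.2) ?_
      rw [← QuotientGroup.eq_one_iff]
      simp only [QuotientGroup.mk_mul, QuotientGroup.mk_inv, mul_left_inj] at h'
      simp only [Subgroup.coe_subtype, Subgroup.coe_mul, InvMemClass.coe_inv,
        QuotientGroup.mk_mul, QuotientGroup.mk_inv, mul_inv_rev, inv_inv]
      have h'' : ((b : Γ) : Γ ⧸ N)⁻¹ * (a : Γ) * (x : Γ ⧸ N) =
          (x : Γ ⧸ N) * ((b : Γ) : Γ ⧸ N)⁻¹ * (a : Γ) := by
        calc _ = ((b : Γ) : Γ ⧸ N)⁻¹ * ((a : Γ) * (x : Γ ⧸ N) * ((a : Γ) : Γ ⧸ N)⁻¹) * (a : Γ) := by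
              group
          _ = _ := by rw [h']; group
      rw [show (x : Γ ⧸ N) * (((b : Γ) : Γ ⧸ N)⁻¹ * (a : Γ)) = (x : Γ ⧸ N) *
        ((b : Γ) : Γ ⧸ N)⁻¹ * (a : Γ) by group, ← h'']
      group
    have hall : ∀ g : G, A g = A 1 := by
      intro g
      obtain ⟨q, hq⟩ := (Finite.injective_iff_bijective.1 hc).2 (g : G ⧸ N')
      induction q using QuotientGroup.induction_on with | _ a => ?_
      have h1 := (QuotientGroup.eq.1 hq : _ ∈ N')
      rw [← hAc a]
      have h2 : (g : Γ) * ((a : Γ) * x * (a : Γ)⁻¹ * x⁻¹)⁻¹ ∈ N := by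
        have := hN.conj_mem _ h1 ((a : Γ) * x * (a : Γ)⁻¹ * x⁻¹)
        simpa [mul_assoc] using this
      have := hAN ⟨_, h2⟩ ((a : Γ) * x * (a : Γ)⁻¹ * x⁻¹)
      rwa [inv_mul_cancel_right] at this
    have hdouble : ∑ g : G, A g = (Nat.card N : ℂ) * ∑ g : G, F ((g : Γ) * x) := by
      simp only [A]
      rw [Finset.sum_comm]
      have h : ∀ n : N, ∑ g : G, F ((n : Γ) * ((g : Γ) * x)) = ∑ g : G, F ((g : Γ) * x) := fun n =>
        Fintype.sum_equiv (Equiv.mulLeft ⟨n, hNG n.2⟩) _ _ fun g => by simp [mul_assoc]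
      simp only [h, Finset.sum_const, Finset.card_univ, nsmul_eq_mul, ← Nat.card_eq_fintype_card]
    rw [hcoset, Finset.sum_congr rfl fun g _ => hall g, Finset.sum_const, Finset.card_univ,
      nsmul_eq_mul, ← Nat.card_eq_fintype_card, mul_comm (Nat.card N : ℂ)] at hdouble
    have := mul_left_cancel₀ natCard_ne_zero hdouble
    simpa [A] using this
  -- the subgroup over a generator
  obtain ⟨q₀, hq₀⟩ := hcyc.exists_generator
  obtain ⟨x₀, rfl⟩ := QuotientGroup.mk_surjective q₀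
  set n := G.index with hn
  have hord : orderOf (x₀ : Γ ⧸ G) = n := by
    rw [orderOf_eq_card_of_forall_mem_zpowers hq₀, ← Subgroup.index_eq_card]
  have hn2 : 2 ≤ n := by
    have h0 : n ≠ 0 := Subgroup.index_ne_zero_of_finite
    have h1 : n ≠ 1 := fun h => hGlt (Subgroup.index_eq_one.1 h)
    omega
  have hx₀ : x₀ ∉ G := fun h => by
    rw [(QuotientGroup.eq_one_iff x₀).2 h, orderOf_one] at hord
    omega
  have hxn : x₀ ^ n ∈ N := by
    refine hfrob x₀ hx₀ _ (G.pow_index_mem x₀) ?_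
    rw [show x₀ * x₀ ^ n = x₀ ^ n * x₀ from (Commute.refl x₀).pow_right n, mul_inv_cancel_right,
      mul_inv_cancel]
    exact N.one_mem
  set L : Subgroup Γ := (Subgroup.zpowers (x₀ : Γ ⧸ N)).comap (QuotientGroup.mk' N) with hL
  have hNL : N ≤ L := fun a ha => by
    show QuotientGroup.mk' N a ∈ Subgroup.zpowers (x₀ : Γ ⧸ N)
    rw [QuotientGroup.mk'_apply]
    rw [(QuotientGroup.eq_one_iff a).2 ha]; exact one_mem _
  have hordN : orderOf (x₀ : Γ ⧸ N) = n := by
    refine Nat.dvd_antisymm (orderOf_dvd_of_pow_eq_one ?_) ?_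
    · rw [← QuotientGroup.mk_pow]; exact (QuotientGroup.eq_one_iff _).2 hxn
    · rw [← hord, orderOf_dvd_iff_pow_eq_one, ← QuotientGroup.mk_pow]
      refine (QuotientGroup.eq_one_iff _).2 (hNG ((QuotientGroup.eq_one_iff _).1 ?_))
      rw [QuotientGroup.mk_pow]
      exact pow_orderOf_eq_one _
  have hLG : ∀ y ∈ L, y ∈ G → y ∈ N := by
    intro y hy hyG
    obtain ⟨i, hi⟩ := Subgroup.mem_zpowers_iff.1 hy
    have h1 : (x₀ : Γ ⧸ G) ^ i = 1 := by
      rw [← QuotientGroup.mk_zpow]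
      refine (QuotientGroup.eq_one_iff _).2 ?_
      rw [show x₀ ^ i = y * (y⁻¹ * x₀ ^ i) by group]
      exact G.mul_mem hyG (hNG (QuotientGroup.eq.1 ((QuotientGroup.mk_zpow N x₀ i).trans hi).symm))
    rw [← orderOf_dvd_iff_zpow_eq_one, hord, ← hordN, orderOf_dvd_iff_zpow_eq_one, hi] at h1
    exact (QuotientGroup.eq_one_iff y).1 h1
  haveI := Fintype.ofFinite L
  set NL := N.subgroupOf L
  haveI := Fintype.ofFinite NL
  haveI := Fintype.ofFinite (L ⧸ NL)
  let eL := Subgroup.subgroupOfEquivOfLe hNL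
  let θL : NL → ℂ := fun y => (θ : N → ℂ) (eL y)
  have hθL : Cfsg.IsIrrCharacter NL θL := (isIrrCharacter_comp_mulEquiv eL).2 θ.2
  have hinvL : ∀ l : L, Clifford.conjBy NL l θL = θL := fun l => funext fun y => hinv (l : Γ) (eL y)
  have hNLi : NL.index = n := by
    have h1 : L.map (QuotientGroup.mk' N) = Subgroup.zpowers (x₀ : Γ ⧸ N) :=
      Subgroup.map_comap_eq_self_of_surjective (QuotientGroup.mk'_surjective N) _
    have h2 : Nat.card (L.map (QuotientGroup.mk' N)) = NL.index := by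
      rw [Subgroup.index_eq_card]
      let g := (QuotientGroup.mk' N).subgroupMap L
      have hg : g.ker = NL := by
        ext y
        rw [MonoidHom.mem_ker, ← Subtype.coe_inj]
        exact QuotientGroup.eq_one_iff (y : Γ)
      rw [← Nat.card_congr (QuotientGroup.quotientKerEquivOfSurjective g
        ((QuotientGroup.mk' N).subgroupMap_surjective L)).toEquiv, hg]
    rw [← h2, h1, Nat.card_zpowers, hordN]
  have hΨc := isCharacter_restrict L (isCharacter_of_isIrr hΨ)
  have hΨN : ∀ y : NL, Ψ ((y : L) : Γ) = (e : ℂ) * θL y := fun y => by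
    rw [← hχN (eL y), ← hΨG]; rfl
  haveI := Fintype.ofFinite (Cfsg.IrrCharacter L)
  -- the members over `θ`
  set Y := Finset.univ.filter fun ψ : Cfsg.IrrCharacter L =>
    Cfsg.classInner (fun y : NL => (ψ : L → ℂ) y) θL ≠ 0
  have hcycL : IsCyclic (L ⧸ NL) := by
    refine isCyclic_of_injective
      (QuotientGroup.map NL N L.subtype (fun _ h => h) |>.codRestrict (Subgroup.zpowers (x₀ : Γ ⧸ N))
        fun q => by
          induction q using QuotientGroup.induction_on with | _ y => ?_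
          exact y.2) ?_
    intro a b h
    induction a using QuotientGroup.induction_on with | _ a => ?_
    induction b using QuotientGroup.induction_on with | _ b => ?_
    exact QuotientGroup.eq.2 (QuotientGroup.eq.1 (congrArg Subtype.val h) :)
  have hcommL : ∀ a b : L ⧸ NL, a * b = b * a := fun a b => by
    obtain ⟨g, hg⟩ := hcycL.exists_generator
    obtain ⟨i, rfl⟩ := Subgroup.mem_zpowers_iff.1 (hg a)
    obtain ⟨j, rfl⟩ := Subgroup.mem_zpowers_iff.1 (hg b)
    exact (Commute.refl g).zpow_zpow i j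
  obtain ⟨θh, hθh, hθhN⟩ := ExtendChar.exists_extension_cyclic NL hcycL hθL hinvL
  have hθhres : Cfsg.IsIrrCharacter NL (fun y : NL => θh y) := by
    rw [show (fun y : NL => θh y) = θL from funext hθhN]; exact hθL
  have hYone : ∀ ψ ∈ Y, ∀ y : NL, (ψ : L → ℂ) y = θL y := by
    intro ψ hψ
    obtain ⟨hqi, hqm⟩ := Average.gallagher NL hθh hθhres ψ.2
      (by rw [show (fun y : NL => θh y) = θL from funext hθhN]; exact (Finset.mem_filter.1 hψ).2)
    intro y
    obtain ⟨η, -, hη, hηi⟩ := exists_deflate_quotient NL (isCharacter_of_isIrr hqi) (fun a ha => by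
      simpa using Average.quotChar_mul_left NL θh (ψ : L → ℂ) ⟨a, ha⟩ 1)
    rw [← congrFun hqm, Pi.mul_apply, ← hη, (QuotientGroup.eq_one_iff (y : L)).2 y.2,
      irr_degree_one_of_comm hcommL (hηi hqi), one_mul, hθhN]
  choose a ha using fun ψ : Cfsg.IrrCharacter L => classInner_char_nat hΨc (irr_isCharacter ψ)
  have hexp := classFun_eq_sum (char_isClassFunction hΨc)
  simp only [ha] at hexp
  have hYsupp : ∀ ψ, a ψ ≠ 0 → ψ ∈ Y := by
    intro ψ hψ
    refine Finset.mem_filter.2 ⟨Finset.mem_univ _, fun h0 => ?_⟩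
    have h1 := Clifford.classInner_restrict_ne_zero NL hΨc ψ.2 (isCharacter_of_isIrr hθL)
      (by rw [ha]; exact Nat.cast_ne_zero.2 hψ)
    obtain ⟨ρ₀, hρ₀⟩ : ∃ ρ₀ : Cfsg.IrrCharacter NL,
        Cfsg.classInner (fun y : NL => (ψ : L → ℂ) y) (ρ₀ : NL → ℂ) ≠ 0 := by
      by_contra hno
      push Not at hno
      haveI := Fintype.ofFinite (Cfsg.IrrCharacter NL)
      have h := congrFun (classFun_eq_sum (classFun_restrict NL (irr_isClassFunction ψ))) 1
      exact irr_one_ne_zero ψ.2 (by simpa [hno] using h)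
    have h2 := Clifford.classInner_restrict_ne_zero NL hΨc ψ.2 (irr_isCharacter ρ₀)
      (by rw [ha]; exact Nat.cast_ne_zero.2 hψ) hρ₀
    rw [show (fun y : NL => Ψ ((y : L) : Γ)) = (e : ℂ) • θL from funext hΨN,
      classInner_smul_left] at h2
    have h3 : (ρ₀ : NL → ℂ) = θL := by
      by_contra hne
      exact h2 (by rw [classInner_isIrr_ne hθL ρ₀.2 (Ne.symm hne), mul_zero])
    exact hρ₀ (h3 ▸ h0)
  have hsum : ∑ ψ ∈ Y, a ψ = e := by
    have h := congrFun hexp 1
    have h1 := hΨN 1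
    simp only [OneMemClass.coe_one] at h h1
    rw [h1, Finset.sum_apply, ← Finset.sum_subset (Finset.subset_univ Y) fun ψ _ hψ => by
      rw [show a ψ = 0 from by_contra fun h => hψ (hYsupp ψ h), Nat.cast_zero, zero_smul]; rfl] at h
    rw [Finset.sum_congr rfl (g := fun ψ => (a ψ : ℂ) * θL 1) fun ψ hψ => by
      rw [Pi.smul_apply, smul_eq_mul, ← hYone ψ hψ 1]; rfl, ← Finset.sum_mul] at h
    have h2 := mul_right_cancel₀ (irr_one_ne_zero hθL) h
    exact_mod_cast h2.symm
  have hcardY : Y.card = n := by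
    have h := Clifford.classInner_indFun_self NL hθL hinvL
    rw [hNLi, classFun_eq_sum (indFun_isClassFunction NL θL), classInner_sum_left] at h
    rw [← classFun_eq_sum (indFun_isClassFunction NL θL)] at h
    simp only [classInner_smul_left] at h
    rw [← Finset.sum_subset (Finset.subset_univ Y) fun ψ _ hψ => ?_] at h
    · rw [Finset.sum_congr rfl (g := fun _ => (1 : ℂ)) fun ψ hψ => ?_, Finset.sum_const,
        nsmul_one] at h
      · exact_mod_cast h
      · have e1 : Cfsg.classInner (Cfsg.indFun NL θL) (ψ : L → ℂ) = 1 := by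
          rw [frobenius_reciprocity NL θL (irr_isClassFunction ψ),
            show (fun y : NL => (ψ : L → ℂ) y) = θL from funext (hYone ψ hψ),
            classInner_isIrr_self hθL]
        rw [e1, classInner_conj_symm, e1]; simp
    · have e1 : Cfsg.classInner (Cfsg.indFun NL θL) (ψ : L → ℂ) = 0 := by
        rw [frobenius_reciprocity NL θL (irr_isClassFunction ψ), classInner_conj_symm]
        simp only [Y, Finset.mem_filter, Finset.mem_univ, true_and, not_not] at hψ
        rw [hψ, map_zero]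
      rw [e1, zero_mul]
  have hnorm : ∑ l : L, F (l : Γ) = (Nat.card N : ℂ) * ((e : ℂ) ^ 2 + n - 1) := by
    have hfib : ∀ q : L ⧸ NL, ∑ l : L, (if (l : L ⧸ NL) = q then F (l : Γ) else 0) =
        if q = 1 then (e : ℂ) ^ 2 * Nat.card N else (Nat.card N : ℂ) := by
      intro q
      induction q using QuotientGroup.induction_on with | _ y => ?_
      have h : ∑ l : L, (if (l : L ⧸ NL) = y then F (l : Γ) else 0) =
          ∑ m : N, F ((m : Γ) * (y : Γ)) := by
        refine (Fintype.sum_of_injective (fun m : N => (⟨(m : Γ) * y, L.mul_mem (hNL m.2) y.2⟩ : L))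
          (fun m m' h => by simpa using congrArg Subtype.val h) _ _ ?_ ?_).symm
        · intro l hl
          rw [if_neg]
          intro hq
          have h1 : (y : L)⁻¹ * l ∈ NL := QuotientGroup.eq.1 hq.symm
          have h2 : (l : Γ) * (y : Γ)⁻¹ ∈ N := by
            have := hN.conj_mem _ h1 (y : Γ)
            simpa [mul_assoc] using this
          exact hl ⟨⟨_, h2⟩, Subtype.ext (inv_mul_cancel_right _ _)⟩
        · intro m
          rw [if_pos]
          refine QuotientGroup.eq.2 ?_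
          show ((m : Γ) * y)⁻¹ * (y : Γ) ∈ N
          simpa [mul_assoc] using hN.conj_mem _ (N.inv_mem m.2) (y : Γ)⁻¹
      rw [h]
      by_cases hy : (y : L ⧸ NL) = 1
      · rw [if_pos hy]
        have hyN : (y : Γ) ∈ N := (QuotientGroup.eq_one_iff y).1 hy
        rw [Fintype.sum_equiv (Equiv.mulRight (⟨(y : Γ), hyN⟩ : N))
          (fun m : N => F ((m : Γ) * (y : Γ))) (fun m : N => F (m : Γ)) fun m => rfl]
        have h1 : ∀ m : N, F (m : Γ) =
            (e : ℂ) ^ 2 * ((θ : N → ℂ) m * conj ((θ : N → ℂ) m)) := fun m => by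
          simp only [F]
          rw [show Ψ (m : Γ) = _ from hΨG ⟨m, hNG m.2⟩, hχN, map_mul, Complex.conj_natCast]
          ring
        simp only [h1, ← Finset.mul_sum]
        have h2 := classInner_isIrr_self θ.2
        rw [classInner_def, inv_mul_eq_iff_eq_mul₀ natCard_ne_zero, mul_one] at h2
        rw [h2]
      · rw [if_neg hy]
        exact hA _ fun hyG => hy ((QuotientGroup.eq_one_iff y).2 (hLG _ y.2 hyG))
    have h : ∑ q : L ⧸ NL, ∑ l : L, (if (l : L ⧸ NL) = q then F (l : Γ) else 0) =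
        ∑ l : L, F (l : Γ) := by
      rw [Finset.sum_comm]
      exact Finset.sum_congr rfl fun l _ => by rw [Finset.sum_ite_eq, if_pos (Finset.mem_univ _)]
    rw [← h]
    simp only [hfib]
    rw [← Finset.add_sum_erase _ _ (Finset.mem_univ (1 : L ⧸ NL)), if_pos rfl,
      Finset.sum_congr rfl (g := fun _ => (Nat.card N : ℂ)) fun q hq => by
        rw [if_neg (Finset.mem_erase.1 hq).1],
      Finset.sum_const, Finset.card_erase_of_mem (Finset.mem_univ _),
      Finset.card_univ, ← Nat.card_eq_fintype_card, ← Subgroup.index_eq_card, hNLi, nsmul_eq_mul,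
      Nat.cast_sub (by omega)]
    push_cast; ring
  have hsq : n * ∑ ψ ∈ Y, a ψ ^ 2 + 1 = e ^ 2 + n := by
    have h : Cfsg.classInner (fun l : L => Ψ l) (fun l : L => Ψ l) =
        ((∑ ψ ∈ Y, a ψ ^ 2 : ℕ) : ℂ) := by
      conv_lhs => arg 1; rw [hexp]
      rw [classInner_sum_left, ← Finset.sum_subset (Finset.subset_univ Y) fun ψ _ hψ => by
        rw [show a ψ = 0 from by_contra fun h => hψ (hYsupp ψ h), Nat.cast_zero, zero_smul,
          classInner_zero_left], Nat.cast_sum]
      refine Finset.sum_congr rfl fun ψ _ => ?_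
      rw [classInner_smul_left, classInner_conj_symm (fun l : L => Ψ l), ha, Complex.conj_natCast]
      push_cast; ring
    have hcard : (Nat.card L : ℂ) = (n : ℂ) * Nat.card N := by
      rw [← Subgroup.index_mul_card NL, hNLi, Nat.card_congr eL.toEquiv, Nat.cast_mul]
    rw [classInner_def, show ∑ l : L, Ψ (l : Γ) * conj (Ψ (l : Γ)) = ∑ l : L, F (l : Γ) from rfl,
      hnorm, hcard] at h
    have hn0 : (n : ℂ) ≠ 0 := Nat.cast_ne_zero.2 (by omega)
    have hN0 : (Nat.card N : ℂ) ≠ 0 := natCard_ne_zero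
    field_simp at h
    have : ((n * ∑ ψ ∈ Y, a ψ ^ 2 + 1 : ℕ) : ℂ) = ((e ^ 2 + n : ℕ) : ℂ) := by
      push_cast at h ⊢
      linear_combination -h
    exact_mod_cast this
  exact combinatorics (fun ψ : Y => a ψ.1) n e (by rw [Fintype.card_coe, hcardY]) hn2
    (by rw [← hsum]; exact (Finset.sum_coe_sort Y a))
    (by rw [← hsq, ← Finset.sum_coe_sort Y (fun ψ => a ψ ^ 2)])

end Cfsg.Agent.S4454
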