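import Cfsg.Statements.S4460
import Cfsg.Agent.BlocksChars.ThreeDegrees.Main

set_option autoImplicit false
open Cfsg

namespace Cfsg.Agent.S4460

/-- A finite group with exactly three distinct irreducible character degrees is solvable of derived length at most 3: its third derived subgroup is trivial. -/
theorem result {G : Type*} [Group G] [Finite G] (hcd : Nat.card {n : ℕ // ∃ χ : Cfsg.IrrCharacter G, Cfsg.charDegree (χ : G → ℂ) = n} = 3) : derivedSeries G 3 = ⊥ := by
  classical
  have hcd' : (Cfsg.charDegrees G).ncard = 3 := by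
    rw [← Nat.card_coe_set_eq]
    exact hcd
  have h1 := Cfsg.Agent.BlocksChars.ThreeDegrees.one_mem_degrees (G := G)
  have h2 : (Cfsg.charDegrees G \ {1}).ncard = 2 := by
    rw [Set.ncard_diff_singleton_of_mem h1, hcd']
  obtain ⟨f, n, hfn, he⟩ := Set.ncard_eq_two.1 h2
  have hf : f ∈ Cfsg.charDegrees G \ {1} := by rw [he]; exact Set.mem_insert _ _
  have hn : n ∈ Cfsg.charDegrees G \ {1} := by
    rw [he]; exact Set.mem_insert_of_mem _ rfl
  have hfp := Cfsg.Agent.BlocksChars.ThreeDegrees.pos_of_mem hf.1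
  have hnp := Cfsg.Agent.BlocksChars.ThreeDegrees.pos_of_mem hn.1
  have hf1 : f ≠ 1 := hf.2
  have hn1 : n ≠ 1 := hn.2
  refine Cfsg.Agent.BlocksChars.ThreeDegrees.main (fun d hd => ?_) (by omega) (by omega) hfn hf.1 hn.1
  by_cases hd1 : d = 1
  · exact Or.inl hd1
  · have hm : d ∈ ({f, n} : Set ℕ) := he ▸ (⟨hd, hd1⟩ : d ∈ Cfsg.charDegrees G \ {1})
    rcases hm with h | h
    · exact Or.inr (Or.inl h)
    · exact Or.inr (Or.inr h)

end Cfsg.Agent.S4460
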