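import Cfsg.Statements.S4462
import Cfsg.Agent.BlockCharsA.Garrison
import Cfsg.Agent.Lib.Characters.Kernel

set_option autoImplicit false
open Cfsg
open Cfsg.Agent.Characters

namespace Cfsg.Agent.S4462

/-- Let G be a finite solvable group with exactly n distinct irreducible character degrees. Then G has normal subgroups 1 = N₀ ≤ N₁ ≤ ⋯ ≤ Nₙ = G with every quotient N_{i+1}/N_i nilpotent (the nilpotent length of G is at most n). -/
theorem result {G : Type*} [Group G] [Finite G] (hsolv : Group.IsSolvable G) (n : ℕ) (hcd : Nat.card {d : ℕ // ∃ χ : Cfsg.IrrCharacter G, Cfsg.charDegree (χ : G → ℂ) = d} = n) : ∃ N : Fin (n + 1) → Subgroup G, N 0 = ⊥ ∧ N (Fin.last n) = ⊤ ∧ Monotone N ∧ (∀ i, (N i).Normal) ∧ ∀ i : Fin n, ∀ h : (N i.castSucc).subgroupOf (N i.succ) |>.Normal, Group.IsNilpotent (↥(N i.succ) ⧸ (N i.castSucc).subgroupOf (N i.succ)) := by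
  suffices key : ∀ (n : ℕ) (G : Type u_1) [Group G] [Finite G], Group.IsSolvable G →
      Nat.card {d : ℕ // ∃ χ : Cfsg.IrrCharacter G, Cfsg.charDegree (χ : G → ℂ) = d} ≤ n →
      ∃ N : Fin (n + 1) → Subgroup G, N 0 = ⊥ ∧ N (Fin.last n) = ⊤ ∧ Monotone N ∧
        (∀ i, (N i).Normal) ∧ ∀ i : Fin n, ∀ h : (N i.castSucc).subgroupOf (N i.succ) |>.Normal,
          Group.IsNilpotent (↥(N i.succ) ⧸ (N i.castSucc).subgroupOf (N i.succ)) from
    key n G hsolv hcd.le
  intro n
  induction n with
  | zero =>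
    intro G _ _ hsolv hcd
    haveI : Finite {d : ℕ // ∃ χ : Cfsg.IrrCharacter G, Cfsg.charDegree (χ : G → ℂ) = d} := by
      haveI : Finite (Cfsg.IrrCharacter G) := inferInstance
      exact Set.Finite.to_subtype ((Set.finite_range fun χ : Cfsg.IrrCharacter G =>
        Cfsg.charDegree (χ : G → ℂ)).subset fun d ⟨χ, h⟩ => ⟨χ, h⟩)
    haveI : Nonempty {d : ℕ // ∃ χ : Cfsg.IrrCharacter G, Cfsg.charDegree (χ : G → ℂ) = d} :=
      ⟨⟨_, trivIrr G, rfl⟩⟩
    have := Nat.card_pos (α := {d : ℕ // ∃ χ : Cfsg.IrrCharacter G, Cfsg.charDegree (χ : G → ℂ) = d})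
    omega
  | succ n ih =>
    intro G _ _ hsolv hcd
    haveI := Fintype.ofFinite G
    set F := Cfsg.fittingSubgroup G with hF
    haveI : F.Normal := inferInstance
    have hnilF : Group.IsNilpotent F := Cfsg.Agent.Cores.fittingSubgroup_isNilpotent
    by_cases htop : F = ⊤
    · refine ⟨fun i => if i = 0 then ⊥ else ⊤, if_pos rfl, if_neg (Fin.last_pos).ne',
        fun a b hab => ?_, fun i => ?_, fun i h => ?_⟩
      · by_cases ha : a = 0
        · simp [ha]
        · have hb : b ≠ 0 := fun hb => ha (le_antisymm (hb ▸ hab) (Fin.zero_le _))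
          simp [ha, hb]
      · dsimp only
        split_ifs <;> infer_instance
      · haveI : Group.IsNilpotent G := Group.isNilpotent_top.mp (htop ▸ hnilF)
        haveI := h
        infer_instance
    let D := {d : ℕ | ∃ χ : Cfsg.IrrCharacter G, Cfsg.charDegree (χ : G → ℂ) = d}
    have hDfin : D.Finite := (Set.finite_range fun χ : Cfsg.IrrCharacter G =>
      Cfsg.charDegree (χ : G → ℂ)).subset fun d ⟨χ, h⟩ => ⟨χ, h⟩
    obtain ⟨b, ⟨χ₀, hb⟩, hbmax⟩ := hDfin.exists_maximal ⟨_, trivIrr G, rfl⟩
    have hmax : ∀ ψ : Cfsg.IrrCharacter G, Cfsg.charDegree (ψ : G → ℂ) ≤ b := fun ψ => by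
      by_contra h
      have := hbmax ⟨ψ, rfl⟩ (by omega)
      omega
    set D' := {d : ℕ | ∃ χ : Cfsg.IrrCharacter (G ⧸ F), Cfsg.charDegree (χ : G ⧸ F → ℂ) = d}
    have hinfl : ∀ η : Cfsg.IrrCharacter (G ⧸ F), ∃ χ : Cfsg.IrrCharacter G,
        (χ : G → ℂ) = fun g : G => (η : G ⧸ F → ℂ) (g : G ⧸ F) := fun η =>
      ⟨⟨_, isIrrCharacter_comp_surjective _ (QuotientGroup.mk'_surjective F) η.2⟩, rfl⟩
    have hdeg : ∀ (η : Cfsg.IrrCharacter (G ⧸ F)) (χ : Cfsg.IrrCharacter G),
        (χ : G → ℂ) = (fun g : G => (η : G ⧸ F → ℂ) (g : G ⧸ F)) →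
          Cfsg.charDegree (η : G ⧸ F → ℂ) = Cfsg.charDegree (χ : G → ℂ) := fun η χ h => by
      rw [Cfsg.charDegree, Cfsg.charDegree, h]
      rfl
    have hsub : D' ⊆ D := fun d ⟨η, hη⟩ => by
      obtain ⟨χ, hχ⟩ := hinfl η
      exact ⟨χ, (hdeg η χ hχ).symm.trans hη⟩
    have hnotb : b ∉ D' := by
      rintro ⟨η, hη⟩
      obtain ⟨χ, hχ⟩ := hinfl η
      rw [hdeg η χ hχ] at hη
      set K := charKernel (χ : G → ℂ) (irr_isCharacter χ)
      haveI : K.Normal := charKernel_normal _
      have hFK : F ≤ K := fun a ha => by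
        show (χ : G → ℂ) a = (χ : G → ℂ) 1
        rw [hχ]
        simp [(QuotientGroup.eq_one_iff a).2 ha]
      have hK : ∀ g : G, g ∈ K ↔ (χ : G → ℂ) g = (χ : G → ℂ) 1 := fun g => mem_charKernel
      have hgood : Cfsg.Agent.BlockCharsA.Garrison.Good (χ : G → ℂ) K := by
        by_cases hKF : K ≤ F
        · refine Cfsg.Agent.BlockCharsA.Garrison.second_case χ.2 hK (le_antisymm hKF hFK) ?_ ?_
          · haveI := hsolv
            infer_instance
          · exact fun h => htop (top_le_iff.1 (h ▸ hKF))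
        · exact Cfsg.Agent.BlockCharsA.Garrison.first_case χ.2 hK hKF
      obtain ⟨ψ, hψ, -⟩ := hgood
      have := hmax ψ
      omega
    have hcard : Nat.card D' ≤ n := by
      have h1 : Nat.card D' < Nat.card D := by
        rw [Nat.card_coe_set_eq, Nat.card_coe_set_eq]
        exact Set.ncard_lt_ncard
          (Set.ssubset_iff_subset_ne.2 ⟨hsub, fun h => hnotb (h ▸ ⟨χ₀, hb⟩)⟩) hDfin
      have h2 : Nat.card D ≤ n + 1 := hcd
      omega
    haveI := hsolv
    obtain ⟨N, hN0, hNl, hmono, hnorm, hnil⟩ := ih (G ⧸ F) inferInstance hcard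
    let π := QuotientGroup.mk' F
    refine ⟨Fin.cons ⊥ fun i => (N i).comap π, Fin.cons_zero _ _, ?_, ?_, ?_, ?_⟩
    · rw [← Fin.succ_last, Fin.cons_succ, hNl, Subgroup.comap_top]
    · intro a b hab
      induction a using Fin.cases with
      | zero => rw [Fin.cons_zero]; exact bot_le
      | succ a =>
        induction b using Fin.cases with
        | zero => exact absurd hab (not_le.2 (Fin.succ_pos a))
        | succ b =>
          rw [Fin.cons_succ, Fin.cons_succ]
          exact Subgroup.comap_mono (hmono (Fin.succ_le_succ_iff.1 hab))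
    · intro i
      induction i using Fin.cases with
      | zero => rw [Fin.cons_zero]; infer_instance
      | succ i => rw [Fin.cons_succ]; exact (hnorm i).comap π
    · intro i
      induction i using Fin.cases with
      | zero =>
        rw [Fin.castSucc_zero, Fin.cons_zero, Fin.cons_succ, hN0]
        intro h
        haveI : Group.IsNilpotent ↥((⊥ : Subgroup (G ⧸ F)).comap π) := by
          rw [show (⊥ : Subgroup (G ⧸ F)).comap π = F by
            rw [MonoidHom.comap_bot, QuotientGroup.ker_mk']]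
          exact hnilF
        haveI := h
        infer_instance
      | succ i =>
        rw [Fin.castSucc_succ, Fin.cons_succ, Fin.cons_succ]
        intro h
        haveI := h
        haveI := hnorm i.castSucc
        haveI hB : ((N i.castSucc).subgroupOf (N i.succ)).Normal := inferInstance
        have hn := hnil i hB
        let f : ↥((N i.succ).comap π) →* ↥(N i.succ) ⧸ (N i.castSucc).subgroupOf (N i.succ) :=
          (QuotientGroup.mk' _).comp (π.subgroupComap (N i.succ))
        have hker : f.ker = ((N i.castSucc).comap π).subgroupOf ((N i.succ).comap π) := by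
          ext a
          rw [MonoidHom.mem_ker, MonoidHom.comp_apply, QuotientGroup.mk'_apply,
            QuotientGroup.eq_one_iff]
          exact Iff.rfl
        have hf : Function.Surjective f := (QuotientGroup.mk'_surjective _).comp
          (MonoidHom.subgroupComap_surjective_of_surjective π _ (QuotientGroup.mk'_surjective F))
        exact Group.nilpotent_of_mulEquiv (((QuotientGroup.quotientMulEquivOfEq hker.symm).trans
          (QuotientGroup.quotientKerEquivOfSurjective f hf)).symm)

end Cfsg.Agent.S4462
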