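import Cfsg.Statements.S4466
import Mathlib
import Cfsg.Agent.BlocksChars.PrimeDegrees
import Cfsg.Agent.BlocksChars.Degrees
-- import your own Cfsg.Agent.* helpers here

set_option autoImplicit false
open Cfsg

namespace Cfsg.Agent.S4466

/-- If every irreducible character of the finite group G of degree greater than one has prime degree, then G is solvable. -/
theorem result {G : Type*} [Group G] [Finite G] (h : ∀ χ : Cfsg.IrrCharacter G, Cfsg.charDegree (χ : G → ℂ) ≠ 1 → (Cfsg.charDegree (χ : G → ℂ)).Prime) : Group.IsSolvable G := by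
  refine BlocksChars.PrimeDegrees.solvable_of_primeDeg (Nat.card G) rfl fun χ d hd => ?_
  have he : Cfsg.charDegree (χ : G → ℂ) = d :=
    Nat.cast_injective (R := ℂ) ((BlocksChars.Degrees.charDegree_cast χ).trans hd)
  by_cases h1 : Cfsg.charDegree (χ : G → ℂ) = 1
  · exact Or.inl (he ▸ h1)
  · exact Or.inr (he ▸ h χ h1)

end Cfsg.Agent.S4466
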