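import Cfsg.Statements.S4470
import Cfsg.Agent.Lib.CharP.JordanBound
import Cfsg.Agent.Lib.FrobeniusSchur.Basic

set_option autoImplicit false
open Cfsg

namespace Cfsg.Agent.S4470

/-- Let the finite group G have a faithful character of degree n. Then G has an abelian normal subgroup A such that every abelian subgroup H of G satisfies [H : H ⊓ A] ≤ 12^n. -/
theorem result {G : Type*} [Group G] [Finite G] (χ : G → ℂ) (hχ : Cfsg.IsCharacter G χ) (hfaith : ∀ g : G, χ g = χ 1 → g = 1) (n : ℕ) (hn : Cfsg.charDegree χ = n) : ∃ A : Subgroup G, A.Normal ∧ (∀ x ∈ A, ∀ y ∈ A, x * y = y * x) ∧ ∀ H : Subgroup G, (∀ x ∈ H, ∀ y ∈ H, x * y = y * x) → (A.subgroupOf H).index ≤ 12 ^ n := by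
  classical
  obtain ⟨m, ρ, rfl⟩ := hχ
  have h1 : ρ.character 1 = (m : ℂ) := by simp [Representation.char_one]
  obtain rfl : m = n := by
    rw [← hn, Cfsg.charDegree, h1, Complex.natCast_re, Nat.floor_natCast]
  let R : G →* Matrix (Fin m) (Fin m) ℂ :=
    { toFun := Cfsg.Agent.FrobeniusSchur.mat ρ
      map_one' := Cfsg.Agent.FrobeniusSchur.mat_one ρ
      map_mul' := Cfsg.Agent.FrobeniusSchur.mat_mul ρ }
  obtain ⟨M, hM, hR⟩ := Cfsg.Agent.CharP.JordanBound.exists_unitary R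
  refine Cfsg.Agent.CharP.JordanBound.jordan_bound M hM ?_
  refine (injective_iff_map_eq_one M).2 fun g hg => hfaith g ?_
  have h2 : Cfsg.Agent.FrobeniusSchur.mat ρ g = 1 := hR g hg
  rw [← Cfsg.Agent.FrobeniusSchur.trace_mat ρ g, h2, ← Cfsg.Agent.FrobeniusSchur.trace_mat ρ 1,
    Cfsg.Agent.FrobeniusSchur.mat_one]

end Cfsg.Agent.S4470
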