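import Cfsg.Statements.S4469
import Cfsg.Agent.Lib.CharP.Blichfeldt
import Cfsg.Agent.S4470

set_option autoImplicit false
open Cfsg

namespace Cfsg.Agent.S4469

/-- The classical bound for finite linear groups, in explicit form. Let the finite group G have a faithful character of degree n. Then G has an abelian normal subgroup whose index is at most n! · 12^(n·(π(n+1)+1)), π(k) denoting the number of primes not exceeding k. -/
theorem result {G : Type*} [Group G] [Finite G] (χ : G → ℂ) (hχ : Cfsg.IsCharacter G χ) (hfaith : ∀ g : G, χ g = χ 1 → g = 1) (n : ℕ) (hn : Cfsg.charDegree χ = n) : ∃ A : Subgroup G, A.Normal ∧ (∀ x ∈ A, ∀ y ∈ A, x * y = y * x) ∧ A.index ≤ Nat.factorial n * 12 ^ (n * (Nat.primeCounting (n + 1) + 1)) := by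
  classical
  obtain ⟨m, hm⟩ := Cfsg.Agent.Characters.char_one_nat hχ
  obtain rfl : m = n := by rw [← hn, Cfsg.charDegree, hm, Complex.natCast_re, Nat.floor_natCast]
  have h : Cfsg.Agent.CharP.Blichfeldt.HasFaithful G m := ⟨χ, hχ, hm, hfaith⟩
  obtain ⟨A, hAn, hAc, hA⟩ := Cfsg.Agent.S4470.result χ hχ hfaith m hn
  obtain ⟨H, hHc, -, hHi⟩ := Cfsg.Agent.CharP.Blichfeldt.exists_hall h
  refine ⟨A, hAn, hAc, ?_⟩
  -- split off the part of the index carried by large primes
  have e1 : A.index = A.relIndex H * (A ⊔ H).index := by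
    rw [← Subgroup.relIndex_sup_left H A, Subgroup.relIndex_mul_index le_sup_left]
  have hr : A.relIndex H ≤ 12 ^ m := hA H hHc
  set s := (A ⊔ H).index with hs
  have hs0 : s ≠ 0 := (A ⊔ H).index_ne_zero_of_finite
  have hsupp : s.primeFactors ⊆ Nat.primesBelow (m + 1 + 1) := fun p hp => by
    have hp' := Nat.prime_of_mem_primeFactors hp
    have := hHi p hp' ((Nat.dvd_of_mem_primeFactors hp).trans
      (Subgroup.index_dvd_of_le le_sup_right))
    exact Nat.mem_primesBelow.2 ⟨by omega, hp'⟩
  have hbound : ∀ p ∈ Nat.primesBelow (m + 1 + 1),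
      p ^ s.factorization p ≤ p ^ (Nat.factorial m).factorization p * 12 ^ m := by
    intro p hp
    haveI := Fact.mk (Nat.prime_of_mem_primesBelow hp)
    obtain ⟨P⟩ : Nonempty (Sylow p G) := inferInstance
    haveI := P.2.isNilpotent
    obtain ⟨B, hBc, hBi⟩ := Cfsg.Agent.CharP.Blichfeldt.exists_abelian_dvd_factorial
      (Cfsg.Agent.CharP.Blichfeldt.hasFaithful_subgroup h (P : Subgroup G))
    obtain ⟨e, he⟩ := P.2.index B
    have hBle : p ^ e ≤ p ^ (Nat.factorial m).factorization p :=
      Nat.pow_le_pow_right (Fact.out : p.Prime).pos (((Fact.out : p.Prime).pow_dvd_iff_le_factorization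
        (Nat.factorial_ne_zero m)).1 (he ▸ hBi))
    have hBA : (A.subgroupOf (B.map (P : Subgroup G).subtype)).index ≤ 12 ^ m :=
      hA _ (by
        rintro _ ⟨a, ha, rfl⟩ _ ⟨b, hb, rfl⟩
        exact congrArg (P : Subgroup G).subtype (hBc a ha b hb))
    -- the index of `P ⊓ A` in `P` is the `p`-part of the index of `A`
    set PA := A.subgroupOf (P : Subgroup G) with hPA
    have h1 : PA.index ≤ B.index * 12 ^ m := by
      refine le_trans (Nat.le_of_dvd (Nat.pos_of_ne_zero (PA ⊓ B).index_ne_zero_of_finite)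
        (Subgroup.index_dvd_of_le (inf_le_left : PA ⊓ B ≤ PA))) ?_
      · rw [← Subgroup.relIndex_mul_index (inf_le_right : PA ⊓ B ≤ B), Subgroup.inf_relIndex_right,
          mul_comm]
        refine Nat.mul_le_mul_left _ ?_
        refine le_of_eq_of_le ?_ hBA
        show PA.relIndex B = A.relIndex (B.map (P : Subgroup G).subtype)
        rw [hPA, Subgroup.subgroupOf, Subgroup.relIndex_comap]
    have h2 : p ^ A.index.factorization p ≤ PA.index := by
      refine Nat.le_of_dvd (Nat.pos_of_ne_zero PA.index_ne_zero_of_finite) ?_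
      show _ ∣ A.relIndex (P : Subgroup G)
      rw [← Subgroup.relIndex_sup_left (P : Subgroup G) A]
      refine Nat.Coprime.dvd_of_dvd_mul_right (Nat.Coprime.pow_left _
        ((Nat.Prime.coprime_iff_not_dvd (Fact.out : p.Prime)).2 fun hd => P.not_dvd_index
          (hd.trans (Subgroup.index_dvd_of_le (le_sup_right : (P : Subgroup G) ≤ A ⊔ P))))) ?_
      rw [Subgroup.relIndex_mul_index le_sup_left]
      exact Nat.ordProj_dvd _ _
    calc p ^ s.factorization p ≤ p ^ A.index.factorization p :=
          Nat.pow_le_pow_right (Fact.out : p.Prime).pos (Nat.factorization_le_factorization_of_dvd_right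
            (Subgroup.index_dvd_of_le (le_sup_left : A ≤ A ⊔ H)) hs0 A.index_ne_zero_of_finite)
      _ ≤ B.index * 12 ^ m := h2.trans h1
      _ ≤ _ := Nat.mul_le_mul_right _ (he ▸ hBle)
  have hfac : ∀ k : ℕ, k ≠ 0 → k.primeFactors ⊆ Nat.primesBelow (m + 1 + 1) →
      ∏ p ∈ Nat.primesBelow (m + 1 + 1), p ^ k.factorization p = k := fun k hk hsub => by
    rw [← Finset.prod_subset hsub fun p _ hp => by
      rw [← Nat.support_factorization, Finsupp.notMem_support_iff] at hp; rw [hp, pow_zero]]
    exact Nat.prod_factorization_pow_eq_self hk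
  have hfact : (Nat.factorial m).primeFactors ⊆ Nat.primesBelow (m + 1 + 1) := fun p hp =>
    Nat.mem_primesBelow.2 ⟨by
      have := (Nat.Prime.dvd_factorial (Nat.prime_of_mem_primeFactors hp)).1
        (Nat.dvd_of_mem_primeFactors hp)
      omega, Nat.prime_of_mem_primeFactors hp⟩
  have hsle : s ≤ Nat.factorial m * 12 ^ (m * Nat.primeCounting (m + 1)) := by
    calc s = ∏ p ∈ Nat.primesBelow (m + 1 + 1), p ^ s.factorization p := (hfac s hs0 hsupp).symm
      _ ≤ ∏ p ∈ Nat.primesBelow (m + 1 + 1),
            p ^ (Nat.factorial m).factorization p * 12 ^ m :=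
          Finset.prod_le_prod' hbound
      _ = _ := by
        rw [Finset.prod_mul_distrib, hfac _ (Nat.factorial_ne_zero m) hfact, Finset.prod_const,
          Nat.primesBelow_card_eq_primeCounting', ← pow_mul]
        rfl
  calc A.index = A.relIndex H * s := e1
    _ ≤ 12 ^ m * (Nat.factorial m * 12 ^ (m * Nat.primeCounting (m + 1))) := Nat.mul_le_mul hr hsle
    _ = _ := by rw [Nat.mul_add, Nat.mul_one, pow_add]; ring

end Cfsg.Agent.S4469
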