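import Cfsg.Statements.S4471
import Mathlib
import Cfsg.Agent.BlocksChars.Arc.Main
import Cfsg.Agent.Lib.Cores.Basic

set_option autoImplicit false
open Cfsg

namespace Cfsg.Agent.S4471

/-- Let p ≥ 7 be a prime and let the finite group G have a faithful irreducible character of degree n with n < 2p and n ≠ p. If the Sylow p-subgroups of G are non-abelian then p² does not divide the index of O_p(G) in G; consequently, in every case G/O_p(G) has abelian Sylow p-subgroups. -/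
theorem result {G : Type*} [Group G] [Finite G] (χ : Cfsg.IrrCharacter G) (hfaith : ∀ g : G, (χ : G → ℂ) g = (χ : G → ℂ) 1 → g = 1) (n : ℕ) (hn : Cfsg.charDegree (χ : G → ℂ) = n) (p : ℕ) (hp : p.Prime) (h7 : 7 ≤ p) (hn2 : n < 2 * p) (hnp : n ≠ p) : ((∃ P : Sylow p G, ∃ x ∈ (P : Subgroup G), ∃ y ∈ (P : Subgroup G), x * y ≠ y * x) → ¬ p ^ 2 ∣ (Cfsg.pCore p G).index) ∧ ∀ Q : Sylow p (G ⧸ Cfsg.pCore p G), ∀ x ∈ (Q : Subgroup (G ⧸ Cfsg.pCore p G)), ∀ y ∈ (Q : Subgroup (G ⧸ Cfsg.pCore p G)), x * y = y * x := by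
  classical
  obtain ⟨d, hd0, hd⟩ := Cfsg.Agent.Characters.irr_one_pos χ.2
  have hdn : d = n := by
    rw [← hn, Cfsg.charDegree, hd, Complex.natCast_re, Nat.floor_natCast]
  rw [hdn] at hd
  haveI := Fact.mk hp
  have hmain : (∃ P : Sylow p G, ∃ x ∈ (P : Subgroup G), ∃ y ∈ (P : Subgroup G), x * y ≠ y * x) →
      ¬ p ^ 2 ∣ (Cfsg.pCore p G).index := by
    rintro ⟨P, hP⟩ hdvd
    obtain ⟨D, hDn, hDc, hD⟩ := Cfsg.Agent.BlocksChars.Arc.sq_not_dvd_index χ.2 hfaith hd hp h7 hn2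
      hnp P.isPGroup' hP
    refine hD ?_
    haveI := hDn
    obtain ⟨Q⟩ : Nonempty (Sylow p D) := inferInstance
    haveI hQn : (Q : Subgroup D).Normal := ⟨fun x hx g => by
      rwa [hDc g x, mul_inv_cancel_right]⟩
    haveI := Q.characteristic_of_normal hQn
    have hle : (Q : Subgroup D).map D.subtype ≤ Cfsg.pCore p G :=
      Cfsg.Agent.Cores.le_pCore (Q.isPGroup'.map D.subtype)
    obtain ⟨k, hk⟩ := hdvd
    have h1 : Nat.card (Q : Subgroup D) ∣ Nat.card (Cfsg.pCore p G) := by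
      rw [Nat.card_congr ((Q : Subgroup D).equivMapOfInjective D.subtype D.subtype_injective).toEquiv]
      exact Subgroup.card_dvd_of_le hle
    have h2 : Nat.card (Q : Subgroup D) * p ^ 2 ∣ Nat.card D * D.index := by
      rw [D.card_mul_index, ← (Cfsg.pCore p G).card_mul_index, hk, ← mul_assoc]
      exact Dvd.dvd.mul_right (mul_dvd_mul h1 dvd_rfl) k
    rw [← Subgroup.card_mul_index (Q : Subgroup D), mul_assoc] at h2
    refine ((hp.coprime_iff_not_dvd.2 Q.not_dvd_index).pow_left 2).dvd_of_dvd_mul_left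
      (Nat.dvd_of_mul_dvd_mul_left Nat.card_pos h2)
  refine ⟨hmain, fun Q x hx y hy => ?_⟩
  by_cases hab : ∃ P : Sylow p G, ∃ x ∈ (P : Subgroup G), ∃ y ∈ (P : Subgroup G), x * y ≠ y * x
  · have h := hmain hab
    obtain ⟨k, hk⟩ := Q.isPGroup'.exists_card_eq
    have hcard : Nat.card Q ∣ p := by
      have h1 : Nat.card Q ∣ (Cfsg.pCore p G).index := Subgroup.card_subgroup_dvd_card _
      rw [hk] at h1 ⊢
      rcases Nat.lt_or_ge k 2 with h2 | h2
      · exact (pow_dvd_pow p (by omega : k ≤ 1)).trans (by rw [pow_one])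
      · exact absurd ((pow_dvd_pow p h2).trans h1) h
    haveI : IsCyclic Q := by
      rcases (Nat.dvd_prime hp).1 hcard with h1 | h1
      · haveI := (Nat.card_eq_one_iff_unique.1 h1).1
        exact isCyclic_of_subsingleton
      · exact isCyclic_of_prime_card h1
    exact congrArg Subtype.val ((IsCyclic.commGroup (α := Q)).mul_comm ⟨x, hx⟩ ⟨y, hy⟩)
  · push Not at hab
    obtain ⟨P, rfl⟩ := Sylow.mapSurjective_surjective (f := QuotientGroup.mk' (Cfsg.pCore p G))
      (QuotientGroup.mk'_surjective _) p Q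
    rw [Sylow.coe_mapSurjective] at hx hy
    obtain ⟨u, hu, rfl⟩ := hx
    obtain ⟨v, hv, rfl⟩ := hy
    rw [← map_mul, ← map_mul, hab P u hu v hv]

end Cfsg.Agent.S4471
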