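import Cfsg.Statements.S4472
import Cfsg.Agent.BlockCharsA.PBound.Rational
import Cfsg.Agent.BlockCharsA.PBound.Extend
import Cfsg.Agent.BlocksChars.TICharDegree
import Cfsg.Agent.Lib.Coprime.SchurZassenhaus
import Cfsg.Agent.Lib.Cores.Basic
import Cfsg.Agent.Lib.PLocal.PSolvable
import Cfsg.Agent.BlocksChars.Degrees

set_option autoImplicit false
open Cfsg

namespace Cfsg.Agent.S4472

/-- Let the finite p-solvable group G have a faithful character of degree n, and let p^a be the index of O_p(G) in a Sylow p-subgroup of G (the p-part of [G : O_p(G)]). Then a ≤ Σ_{i ≥ 0} ⌊n / ((p − 1) p^i)⌋ (a finite sum; the terms vanish for p^i > n). -/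
theorem result {G : Type*} [Group G] [Finite G] (χ : G → ℂ) (hχ : Cfsg.IsCharacter G χ) (hfaith : ∀ g : G, χ g = χ 1 → g = 1) (n : ℕ) (hn : Cfsg.charDegree χ = n) (p : ℕ) (hp : p.Prime) (hsolv : Cfsg.IsPSolvable p G) : ((Cfsg.pCore p G).index).factorization p ≤ ∑ i ∈ Finset.range (n + 1), n / ((p - 1) * p ^ i) := by
  classical
  haveI : Fact p.Prime := ⟨hp⟩
  set O := Cfsg.pCore p G with hOdef
  haveI : O.Normal := by rw [hOdef]; infer_instance
  have hOp : IsPGroup p O := Cfsg.Agent.Cores.pCore_isPGroup (G := G) p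
  set π := QuotientGroup.mk' O with hπ
  have hπs : Function.Surjective π := QuotientGroup.mk'_surjective O
  set K := Cfsg.pPrimeCore p (G ⧸ O) with hK
  haveI : K.Normal := Cfsg.Agent.Cores.pPrimeCore_normal p
  have hKc : (Nat.card K).Coprime p := Cfsg.Agent.Cores.pPrimeCore_card_coprime p
  have hcent : Subgroup.centralizer (K : Set (G ⧸ O)) ≤ K :=
    Cfsg.Agent.BlocksChars.TICharDegree.centralizer_pPrimeCore_le
      (Cfsg.Agent.PLocal.PSolvable.quotient hsolv O) (Cfsg.Agent.Cores.pCore_quotient_self p)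
  obtain ⟨b, hb⟩ := hOp.exists_card_eq
  -- a section of `π` over `K`
  set T := K.comap π with hT
  have hOT : O ≤ T := fun x hx => by
    rw [hT, Subgroup.mem_comap, hπ, QuotientGroup.mk'_apply, (QuotientGroup.eq_one_iff x).2 hx]
    exact one_mem _
  have hcardT : Nat.card T = Nat.card O * Nat.card K :=
    (Cfsg.Agent.Cores.card_comap_mk' O K).trans (by ring)
  have hidxT : (O.subgroupOf T).index = Nat.card K := by
    refine Nat.eq_of_mul_eq_mul_left (Nat.card_pos (α := O)) ?_
    rw [← hcardT, ← Nat.card_congr (Subgroup.subgroupOfEquivOfLe hOT).toEquiv,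
      Subgroup.card_mul_index]
  obtain ⟨H, hH⟩ := Subgroup.exists_right_complement'_of_coprime (N := O.subgroupOf T) (by
    rw [hidxT, Nat.card_congr (Subgroup.subgroupOfEquivOfLe hOT).toEquiv, hb]
    exact hKc.symm.pow_left b)
  have hHcard : Nat.card H = Nat.card K := by rw [← hidxT, hH.symm.index_eq_card]
  let f : H →* K := (π.comp (T.subtype.comp H.subtype)).codRestrict K fun h => (h : T).2
  have hfinj : Function.Injective f := by
    refine (injective_iff_map_eq_one f).2 fun h hh => ?_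
    have h1 : ((h : T) : G) ∈ O := (QuotientGroup.eq_one_iff _).1 (congrArg Subtype.val hh :)
    have h2 : (h : T) ∈ O.subgroupOf T ⊓ H := ⟨h1, h.2⟩
    rw [hH.disjoint.eq_bot, Subgroup.mem_bot] at h2
    exact Subtype.ext h2
  have hfbij : Function.Bijective f :=
    (Nat.bijective_iff_injective_and_card f).2 ⟨hfinj, hHcard⟩
  let s : K →* G := (T.subtype.comp H.subtype).comp (MulEquiv.ofBijective f hfbij).symm.toMonoidHom
  have hs : ∀ k : K, π (s k) = (k : G ⧸ O) := fun k =>
    congrArg Subtype.val ((MulEquiv.ofBijective f hfbij).apply_symm_apply k)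
  set φ : K → ℂ := χ ∘ s with hφdef
  have hφ : Cfsg.IsCharacter K φ := Cfsg.Agent.Characters.isCharacter_comp s hχ
  have hcl := Cfsg.Agent.Characters.char_isClassFunction hχ
  have hordK : ∀ k : K, ∀ g : G, (orderOf (g * s k * g⁻¹)).Coprime p := by
    intro k g
    have h1 : orderOf (g * s k * g⁻¹) = orderOf (s k) := by
      rw [← MulAut.conj_apply]; exact (MulAut.conj g).orderOf_eq _
    rw [h1]
    exact hKc.coprime_dvd_left ((orderOf_map_dvd s k).trans (orderOf_dvd_natCard k))
  have hinv : ∀ γ : G ⧸ O, Cfsg.Agent.Characters.conjFun K φ γ = φ := by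
    intro γ
    funext k
    obtain ⟨g, rfl⟩ := hπs γ
    set k' : K := ⟨π g * k * (π g)⁻¹, ‹K.Normal›.conj_mem k k.2 (π g)⟩ with hk'
    show χ (s k') = χ (s k)
    set x := g * s k * g⁻¹ with hx
    set x' := s k' with hx'
    have hπx : π x = π x' := by rw [hx, hx', map_mul, map_mul, map_inv, hs, hs]
    have hox : (orderOf x').Coprime p := by simpa using hordK k' 1
    have hmem : x' * x⁻¹ ∈ O := (QuotientGroup.eq_one_iff _).1 (by
      show π (x' * x⁻¹) = 1
      rw [map_mul, map_inv, hπx, mul_inv_cancel])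
    have hsup : O ⊔ Subgroup.zpowers x = O ⊔ Subgroup.zpowers x' := by
      refine le_antisymm (sup_le le_sup_left (Subgroup.zpowers_le.2 ?_))
        (sup_le le_sup_left (Subgroup.zpowers_le.2 ?_))
      · have e1 : x = (x' * x⁻¹)⁻¹ * x' := by simp
        rw [e1]
        exact Subgroup.mul_mem_sup (inv_mem hmem) (Subgroup.mem_zpowers _)
      · have e1 : x' = (x' * x⁻¹) * x := by simp
        rw [e1]
        exact Subgroup.mul_mem_sup hmem (Subgroup.mem_zpowers _)
    have hcop : ∀ y : G, (orderOf y).Coprime p → (Nat.card O).Coprime (Nat.card (Subgroup.zpowers y)) :=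
      fun y hy => by rw [hb, Nat.card_zpowers]; exact hy.symm.pow_left b
    haveI : Group.IsNilpotent O := hOp.isNilpotent
    obtain ⟨y, hy, hconj⟩ := Cfsg.Agent.Coprime.exists_conj_eq_of_sup_eq
      (Subgroup.le_normalizer_of_normal) (Subgroup.le_normalizer_of_normal) hsup
      (hcop x (hordK k g)) (hcop x' hox) (Or.inl inferInstance)
    have hz : y * x * y⁻¹ ∈ Subgroup.zpowers x' := by
      rw [← hconj, ← MulAut.conj_apply]
      exact Subgroup.smul_mem_pointwise_smul _ _ _ (Subgroup.mem_zpowers x)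
    have hdisj : Disjoint O (Subgroup.zpowers x') :=
      Subgroup.disjoint_of_coprime_natCard (hcop x' hox)
    have hz2 : (y * x * y⁻¹) * x'⁻¹ ∈ O := (QuotientGroup.eq_one_iff _).1 (by
      show π ((y * x * y⁻¹) * x'⁻¹) = 1
      rw [map_mul, map_mul, map_mul, map_inv, map_inv,
        show π y = 1 from (QuotientGroup.eq_one_iff y).2 hy, hπx]
      simp)
    have hz3 := Subgroup.disjoint_def.1 hdisj hz2 (mul_mem hz (inv_mem (Subgroup.mem_zpowers x')))
    rw [mul_inv_eq_one] at hz3
    rw [← hz3, hcl x y, hx, hcl (s k) g]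
  -- the group `K Q`
  obtain ⟨Q⟩ : Nonempty (Sylow p (G ⧸ O)) := inferInstance
  set QQ : Subgroup (G ⧸ O) := (Q : Subgroup (G ⧸ O)) with hQQ
  set Γ := K ⊔ QQ with hΓ
  haveI := Fintype.ofFinite Γ
  set K' := K.subgroupOf Γ with hK'
  haveI := Fintype.ofFinite K'
  set a := (Nat.card (G ⧸ O)).factorization p with ha
  have hQcard : Nat.card QQ = p ^ a := Q.card_eq_multiplicity
  have hdisjKQ : Disjoint K QQ :=
    Subgroup.disjoint_of_coprime_natCard (by rw [hQcard]; exact hKc.pow_right a)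
  let eK : K' ≃* K := Subgroup.subgroupOfEquivOfLe (le_sup_left : K ≤ K ⊔ QQ)
  have hK'card : Nat.card K' = Nat.card K := Nat.card_congr eK.toEquiv
  have hK'idx : K'.index ∣ p ^ a := by
    rw [hK', ← Subgroup.relIndex, hΓ, sup_comm, Subgroup.relIndex_sup_right, ← hQcard]
    exact Subgroup.relIndex_dvd_card K QQ
  obtain ⟨Ψ, hΨc, hΨK, hΨp⟩ := Cfsg.Agent.BlockCharsA.PBound.exists_invariant_extension K'
    (by rw [hK'card]; exact (hKc.pow_right a).coprime_dvd_right hK'idx) (φ ∘ eK)
    (Cfsg.Agent.Characters.isCharacter_comp eK.toMonoidHom hφ)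
    (fun γ => funext fun k => congrFun (hinv (γ : G ⧸ O)) (eK k))
  have hQΓ : QQ ≤ Γ := le_sup_right
  set ι : QQ →* Γ := Subgroup.inclusion hQΓ with hι
  have hξ : Cfsg.IsCharacter QQ (Ψ ∘ ι) := Cfsg.Agent.Characters.isCharacter_comp ι hΨc
  have hΓcard : Nat.card Γ = Nat.card K * K'.index := by rw [← hK'card, K'.card_mul_index]
  have hξinv : ∀ k : ℕ, k.Coprime p → ∀ g : QQ, (Ψ ∘ ι) (g ^ k) = (Ψ ∘ ι) g := by
    intro k hk g
    obtain ⟨k1, hk1, hk2⟩ := Nat.chineseRemainder ((hKc.pow_right a).symm) k 1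
    have e1 : g ^ k1 = g ^ k :=
      pow_eq_pow_iff_modEq.2 (hk1.of_dvd (hQcard ▸ orderOf_dvd_natCard g))
    rw [← e1]
    show Ψ (ι (g ^ k1)) = _
    rw [map_pow]
    refine hΨp k1 ?_ (by rw [hK'card]; exact hk2) _
    rw [hΓcard]
    refine Nat.Coprime.mul_right ?_ (Nat.Coprime.coprime_dvd_right hK'idx ?_)
    · rw [Nat.coprime_iff_gcd_eq_one, hk2.gcd_eq, Nat.gcd_one_left]
    · rw [Nat.coprime_iff_gcd_eq_one, hk1.gcd_eq, ← Nat.coprime_iff_gcd_eq_one]
      exact hk.pow_right a
  have hn1 : (Ψ ∘ ι) 1 = (n : ℂ) := by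
    rw [Function.comp_apply, map_one]
    refine (hΨK 1).trans ?_
    rw [Function.comp_apply, map_one, hφdef, Function.comp_apply, map_one, ← hn,
      Cfsg.Agent.BlocksChars.Degrees.charDegree_cast_of_isCharacter hχ]
  have h := Cfsg.Agent.BlockCharsA.PBound.rational_bound (e := a) hQcard.dvd hξ hξinv hn1
  have hker : Cfsg.Agent.Characters.charKernel (Ψ ∘ ι) hξ = ⊥ := by
    refine (Subgroup.eq_bot_iff_forall _).2 fun g hg => ?_
    set N0 := Cfsg.Agent.Characters.charKernel Ψ hΨc
    haveI : N0.Normal := Cfsg.Agent.Characters.charKernel_normal hΨc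
    have hgN : ι g ∈ N0 := by
      have h1 : Ψ (ι g) = Ψ (ι 1) := hg
      rwa [map_one] at h1
    have hdis : Disjoint N0 K' := by
      rw [Subgroup.disjoint_def]
      intro x hx hxK
      have h1 : Ψ x = Ψ 1 := hx
      rw [hΨK ⟨x, hxK⟩, show Ψ 1 = (φ ∘ eK) 1 from hΨK 1] at h1
      simp only [hφdef, Function.comp_apply, map_one] at h1
      have h2 := hfaith _ h1
      have h3 := hs (eK ⟨x, hxK⟩)
      rw [h2, map_one] at h3
      exact Subtype.ext h3.symm
    have hgc : (g : G ⧸ O) ∈ Subgroup.centralizer (K : Set (G ⧸ O)) := by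
      rw [Subgroup.mem_centralizer_iff]
      intro k hk
      have := Subgroup.commute_of_normal_of_disjoint N0 K' inferInstance inferInstance hdis
        (ι g) ⟨k, (le_sup_left : K ≤ K ⊔ QQ) hk⟩ hgN hk
      exact (congrArg Subtype.val this.symm.eq :)
    exact Subtype.ext (Subgroup.disjoint_def.1 hdisjKQ (hcent hgc) g.2)
  rw [hker, Subgroup.index_bot, hQcard, hp.factorization_pow, Finsupp.single_eq_same,
    Cfsg.Agent.BlockCharsA.PBound.hfun_eq_sum p _ n (Nat.div_le_self _ _), ha] at h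
  rw [Subgroup.index]
  simpa only [Nat.div_div_eq_div_mul] using h

end Cfsg.Agent.S4472
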