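import Cfsg.Statements.S4473
import Cfsg.Agent.Lib.CharTheory.DegreeTwo.Matrix
import Cfsg.Agent.Lib.CharTheory.DegreeTwo.Classes
import Cfsg.Agent.Lib.CharTheory.Ito
import Cfsg.Agent.Lib.CharTheory.Basics
import Cfsg.Agent.Lib.Characters.Kernel

set_option autoImplicit false
open Cfsg

namespace Cfsg.Agent.S4473

/-- Let the finite group G have a faithful irreducible character χ of degree 2 that is primitive: χ is not induced from a character of any proper subgroup. Then the centre of G has index 12, 24 or 60. -/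
theorem result {G : Type*} [Group G] [Fintype G] (χ : Cfsg.IrrCharacter G) (hfaith : ∀ g : G, (χ : G → ℂ) g = (χ : G → ℂ) 1 → g = 1) (h2 : Cfsg.charDegree (χ : G → ℂ) = 2) (hprim : ∀ H : Subgroup G, H ≠ ⊤ → ∀ θ : H → ℂ, Cfsg.IsCharacter H θ → (χ : G → ℂ) ≠ Cfsg.indFun H θ) : (Subgroup.center G).index = 12 ∨ (Subgroup.center G).index = 24 ∨ (Subgroup.center G).index = 60 := by
  classical
  obtain ⟨n, ρ, hρ, hρc⟩ := χ.2
  have h1 : (χ : G → ℂ) 1 = (n : ℂ) := by
    rw [← hρc, ρ.char_one, Module.finrank_fin_fun]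
  have hn : n = 2 := by
    have := h2
    rwa [Cfsg.charDegree, h1, Complex.natCast_re, Nat.floor_natCast] at this
  subst hn
  let φ : G →* Matrix (Fin 2) (Fin 2) ℂ :=
    (LinearMap.toMatrixAlgEquiv' : _ ≃ₐ[ℂ] Matrix (Fin 2) (Fin 2) ℂ).toMonoidHom.comp ρ
  have hφinj : Function.Injective φ := by
    rw [injective_iff_map_eq_one]
    intro g hg
    apply hfaith
    have hρg : ρ g = 1 := LinearMap.toMatrixAlgEquiv'.injective (by simpa [φ] using hg)
    rw [← hρc]
    simp only [Representation.character, hρg, map_one]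
  have hns : ∀ g, g ∉ Subgroup.center G → ∀ c : ℂ, φ g ≠ c • 1 := fun g hg c h => hg <|
    Subgroup.mem_center_iff.2 fun x => hφinj (by
      rw [map_mul, map_mul, h, mul_smul_comm, smul_mul_assoc, mul_one, one_mul])
  refine CharTheory.DegreeTwo.index_center (fun g hg x hx y hy => hφinj ?_) (fun g hg => ?_) ?_
  · rw [map_mul, map_mul]
    refine CharTheory.DegreeTwo.commute_of_commute (hns g hg) ?_ ?_
    · rw [← map_mul, ← map_mul, (Subgroup.mem_centralizer_singleton_iff.1 hx)]
    · rw [← map_mul, ← map_mul, (Subgroup.mem_centralizer_singleton_iff.1 hy)]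
  · set C := Subgroup.centralizer ({g} : Set G) with hC
    set N := Subgroup.normalizer ((C : Subgroup G) : Set G) with hN
    have hd : (φ g).trace ^ 2 - 4 * (φ g).det ≠ 0 :=
      CharTheory.DegreeTwo.disc_ne_zero (hns g hg) (orderOf_pos g)
        (by rw [← map_pow, pow_orderOf_eq_one, map_one])
    have hgC : g ∈ C := Subgroup.mem_centralizer_singleton_iff.2 rfl
    -- the two possible images of `g`
    let T : Set G := {y | φ y = φ g ∨ φ y = (φ g).trace • 1 - φ g}
    have hT : T.ncard ≤ 2 := by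
      have h3 : φ '' T ⊆ {φ g, (φ g).trace • 1 - φ g} := by
        rintro _ ⟨y, hy, rfl⟩
        exact hy
      rw [← Set.ncard_image_of_injective T hφinj]
      refine (Set.ncard_le_ncard h3 (Set.toFinite _)).trans ((Set.ncard_insert_le _ _).trans ?_)
      rw [Set.ncard_singleton]
    let f : N → T := fun x => ⟨(x : G) * g * (x : G)⁻¹, by
      have hxg : (x : G) * g * (x : G)⁻¹ ∈ C := (Subgroup.mem_normalizer_iff.1 x.2 g).1 hgC
      have hcomm : φ g * φ ((x : G) * g * (x : G)⁻¹) = φ ((x : G) * g * (x : G)⁻¹) * φ g := by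
        rw [← map_mul, ← map_mul, (Subgroup.mem_centralizer_singleton_iff.1 hxg)]
      obtain ⟨a, b, hab⟩ := CharTheory.DegreeTwo.commutant (hns g hg) hcomm
      show _ ∨ _
      have hunit : φ (x : G)⁻¹ * φ (x : G) = 1 := by rw [← map_mul, inv_mul_cancel, map_one]
      rw [hab]
      refine CharTheory.DegreeTwo.conj_cases hd ?_ ?_
      · rw [← hab, map_mul, map_mul, Matrix.trace_mul_comm, ← mul_assoc, hunit, one_mul]
      · rw [← hab, map_mul, map_mul, Matrix.det_mul, Matrix.det_mul, mul_comm, ← mul_assoc,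
          ← Matrix.det_mul, hunit, Matrix.det_one, one_mul]⟩
    refine le_trans ?_ hT
    rw [Subgroup.relIndex, Subgroup.index, ← Nat.card_coe_set_eq]
    refine Nat.card_le_card_of_injective (fun c : N ⧸ C.subgroupOf N => f c.out) ?_
    intro c c' h
    simp only [f, Subtype.mk.injEq] at h
    rw [← c.out_eq', ← c'.out_eq']
    apply QuotientGroup.eq.2
    rw [Subgroup.mem_subgroupOf, Subgroup.mem_centralizer_singleton_iff]
    simp only [Subgroup.coe_mul, Subgroup.coe_inv]
    calc ((c.out : N) : G)⁻¹ * (c'.out : N) * g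
        = ((c.out : N) : G)⁻¹ * ((c'.out : N) * g * ((c'.out : N) : G)⁻¹) * (c'.out : N) := by
          group
      _ = g * (((c.out : N) : G)⁻¹ * (c'.out : N)) := by rw [← h]; group
  · intro A hA
    obtain ⟨lam, hlam, hne⟩ := CharTheory.Ito.exists_constituent
      (Cfsg.Agent.Characters.isCharacter_restrict A (Cfsg.Agent.Characters.irr_isCharacter χ))
      (show (χ : G → ℂ) ((1 : A) : G) ≠ 0 by rw [OneMemClass.coe_one, h1]; norm_num)
    have hl1 : lam 1 = 1 := Cfsg.Agent.Characters.irr_degree_one_of_comm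
      (fun a b => Subtype.ext (hA a a.2 b b.2)) hlam
    have hlc := Cfsg.Agent.Characters.isCharacter_of_isIrr hlam
    have hind := Cfsg.Agent.Characters.isCharacter_indFun A hlc
    obtain ⟨m, hm⟩ := Cfsg.Agent.Characters.classInner_char_nat hind
      (Cfsg.Agent.Characters.irr_isCharacter χ)
    have hm0 : m ≠ 0 := by
      rintro rfl
      apply hne
      rw [Cfsg.Agent.Characters.classInner_conj_symm,
        ← Cfsg.Agent.Characters.frobenius_reciprocity A lam
          (Cfsg.Agent.Characters.irr_isClassFunction χ), hm]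
      simp
    have hdeg : Cfsg.indFun A lam 1 = (A.index : ℂ) := by
      rw [Cfsg.Agent.Characters.indFun_one, hl1, mul_one]
    have hle := CharTheory.Basics.degree_le hind χ.2 hm hdeg h1
    have h2le : 2 ≤ A.index := by
      have : 1 * 2 ≤ m * 2 := Nat.mul_le_mul_right 2 (Nat.one_le_iff_ne_zero.2 hm0)
      omega
    refine ⟨by omega, fun h2A => ?_⟩
    have hm1 : m = 1 := by
      have : m * 2 ≤ 2 := h2A ▸ hle
      omega
    refine hprim A (fun htop => ?_) lam hlc ?_
    · rw [htop, Subgroup.index_top] at h2A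
      omega
    · rw [CharTheory.Basics.eq_of_degree_eq hind χ.2 hm (by rw [hdeg, h1, hm1, h2A]; norm_num),
        hm1, Nat.cast_one, one_smul]

end Cfsg.Agent.S4473
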