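import Mathlib
import Cfsg.Statements.S4474
import Cfsg.Agent.Lib.FrobeniusSchur.Basic

set_option autoImplicit false
open Cfsg

namespace Cfsg.Agent.S4474

open Cfsg.Agent.FrobeniusSchur Cfsg.Agent.Characters Matrix
open scoped ComplexConjugate ComplexOrder

variable {G : Type*} [Group G] [Fintype G] {n : ℕ}

/-- A real representation affording `χ` forces indicator one. -/
theorem nu_eq_one_of_real (χ : Cfsg.IrrCharacter G) (ρ : Representation ℝ G (Fin n → ℝ))
    (h : ∀ g : G, ((LinearMap.trace ℝ (Fin n → ℝ) (ρ g) : ℝ) : ℂ) = (χ : G → ℂ) g) :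
    nu (χ : G → ℂ) = 1 := by
  classical
  let A : G → Matrix (Fin n) (Fin n) ℝ := fun g => LinearMap.toMatrix' (ρ g)
  have hA : ∀ g k : G, A (g * k) = A g * A k := fun g k => by
    simp only [A, map_mul, Module.End.mul_eq_comp, LinearMap.toMatrix'_comp]
  let σ : Representation ℂ G (Fin n → ℂ) :=
    { toFun := fun g => Matrix.toLin' ((A g).map Complex.ofRealHom)
      map_one' := by
        simp [A, Module.End.one_eq_id]
      map_mul' := fun g k => by
        rw [hA, Matrix.map_mul, Matrix.toLin'_mul, Module.End.mul_eq_comp] }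
  have hmat : ∀ g, mat σ g = (A g).map Complex.ofRealHom := fun g => by
    simp [mat, σ]
  have hchar : σ.character = (χ : G → ℂ) := by
    funext g
    rw [← trace_mat σ g, hmat, ← h g,
      LinearMap.trace_eq_matrix_trace ℝ (Pi.basisFun ℝ (Fin n))]
    simp [Matrix.trace, A, LinearMap.toMatrix_eq_toMatrix']
  have hre : ∀ g : G, ((χ : G → ℂ) g).im = 0 := fun g => by rw [← h g]; exact Complex.ofReal_im _
  have havg := avg_sq_irr χ
  rw [if_pos hre, ← hchar] at havg
  obtain ⟨-, -, hsymm⟩ := of_trace_one σ havg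
  set R : Matrix (Fin n) (Fin n) ℝ := ∑ g : G, (A g)ᵀ * A g
  have hinv : ∀ k : G, (A k)ᵀ * R * A k = R := by
    intro k
    simp only [R, Finset.mul_sum, Finset.sum_mul]
    refine Fintype.sum_equiv (Equiv.mulRight k) _ _ fun g => ?_
    simp only [Equiv.coe_mulRight, hA, Matrix.transpose_mul, Matrix.mul_assoc]
  have hR : Rᵀ = R := by simp [R, Matrix.transpose_sum, Matrix.transpose_mul]
  have hn : n ≠ 0 := by
    rintro rfl
    refine irr_one_ne_zero χ.2 ?_
    rw [← h 1]; simp
  have hne : R ≠ 0 := by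
    intro h0
    have h1 := congrFun (congrFun h0 ⟨0, Nat.pos_of_ne_zero hn⟩) ⟨0, Nat.pos_of_ne_zero hn⟩
    simp only [R, Matrix.sum_apply, Matrix.mul_apply, Matrix.transpose_apply, Matrix.zero_apply] at h1
    have h2 := (Finset.sum_eq_zero_iff_of_nonneg fun g _ => Finset.sum_nonneg fun j _ =>
      mul_self_nonneg _).1 h1 1 (Finset.mem_univ _)
    have hA1 : A 1 = 1 := by simp [A, Module.End.one_eq_id]
    simp [hA1, Matrix.one_apply] at h2
  have hs := hsymm (R.map Complex.ofRealHom) fun g => by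
    rw [hmat, ← Matrix.transpose_map, ← Matrix.map_mul, ← Matrix.map_mul, hinv]
  rw [← Matrix.transpose_map, hR, hchar] at hs
  obtain ⟨i, j, hij⟩ : ∃ i j, R i j ≠ 0 := by
    by_contra hh
    push Not at hh
    exact hne (Matrix.ext hh)
  have h3 := congrFun (congrFun hs i) j
  simp only [Matrix.map_apply, Matrix.smul_apply, smul_eq_mul] at h3
  exact mul_right_cancel₀ (by simpa using hij) (h3.symm.trans (one_mul _).symm)

/-- Indicator one gives a real form. -/
theorem exists_real_form (ρ : Representation ℂ G (Fin n → ℂ)) (hirr : ρ.IsIrreducible)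
    (h : nu ρ.character = 1) :
    ∃ (m : ℕ) (σ : Representation ℝ G (Fin m → ℝ)),
      ∀ g : G, ((LinearMap.trace ℝ (Fin m → ℝ) (σ g) : ℝ) : ℂ) = ρ.character g := by
  classical
  haveI := hirr
  let χ : Cfsg.IrrCharacter G := ⟨ρ.character, n, ρ, hirr, rfl⟩
  have hre : ∀ g : G, ((χ : G → ℂ) g).im = 0 := (nu_ne_zero_iff χ).1 (by simp [χ, h])
  have havg := avg_sq_irr χ
  rw [if_pos hre] at havg
  obtain ⟨⟨M, hM0, hMinv⟩, -, hMs⟩ := of_trace_one ρ havg
  have hMT : Mᵀ = M := by rw [hMs M hMinv, h, one_smul]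
  let A := mat ρ
  have hA : ∀ g v, ρ g v = A g *ᵥ v := fun g v => (LinearMap.toMatrix'_mulVec (ρ g) v).symm
  have hAinv : ∀ g : G, A g * A g⁻¹ = 1 := fun g => by
    simp only [A, ← mat_mul, mul_inv_cancel, mat_one]
  -- invariant inner product
  set H : Matrix (Fin n) (Fin n) ℂ := ∑ g : G, (A g)ᴴ * A g
  have hHinv : ∀ k : G, (A k)ᴴ * H * A k = H := by
    intro k
    simp only [H, Finset.mul_sum, Finset.sum_mul]
    refine Fintype.sum_equiv (Equiv.mulRight k) _ _ fun g => ?_
    simp only [Equiv.coe_mulRight, A, mat_mul, Matrix.conjTranspose_mul, Matrix.mul_assoc]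
  have hpos : H.PosDef := by
    simp only [H]
    rw [← Finset.add_sum_erase _ _ (Finset.mem_univ (1 : G))]
    refine Matrix.PosDef.add_posSemidef ?_
      (Matrix.posSemidef_sum _ fun g _ => Matrix.posSemidef_conjTranspose_mul_self _)
    simp only [A, mat_one, Matrix.conjTranspose_one, Matrix.one_mul]
    exact Matrix.PosDef.one
  have hdet : IsUnit H.det := (Matrix.isUnit_iff_isUnit_det H).1 hpos.isUnit
  let J : (Fin n → ℂ) → (Fin n → ℂ) := fun v => H⁻¹ *ᵥ star (M *ᵥ v)
  have hJadd : ∀ u v, J (u + v) = J u + J v := fun u v => by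
    simp [J, Matrix.mulVec_add]
  have hJsmul : ∀ (c : ℂ) v, J (c • v) = conj c • J v := fun c v => by
    simp only [J, Matrix.mulVec_smul, star_smul]
    rfl
  have hJcomm : ∀ g v, J (A g *ᵥ v) = A g *ᵥ J v := by
    intro g v
    have h1 : M * A g = (A g⁻¹)ᵀ * M := by
      conv_rhs => rw [← hMinv g]
      rw [← Matrix.mul_assoc, ← Matrix.mul_assoc, ← Matrix.transpose_mul, hAinv,
        Matrix.transpose_one, Matrix.one_mul]
    have h2 : H⁻¹ * (A g⁻¹)ᴴ = A g * H⁻¹ := by
      have h3 : (A g⁻¹)ᴴ * H = H * A g := by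
        conv_rhs => rw [← hHinv g⁻¹]
        have h4 : A g⁻¹ * A g = 1 := by simpa using hAinv g⁻¹
        rw [Matrix.mul_assoc _ (A g⁻¹), h4, Matrix.mul_one]
      calc H⁻¹ * (A g⁻¹)ᴴ = H⁻¹ * ((A g⁻¹)ᴴ * H) * H⁻¹ := by
            rw [Matrix.mul_assoc H⁻¹, Matrix.mul_assoc, Matrix.mul_nonsing_inv _ hdet, Matrix.mul_one]
        _ = A g * H⁻¹ := by rw [h3, ← Matrix.mul_assoc, Matrix.nonsing_inv_mul _ hdet, Matrix.one_mul]
    simp only [J, Matrix.mulVec_mulVec, h1]
    rw [← Matrix.mulVec_mulVec v (A g⁻¹)ᵀ M, Matrix.star_mulVec, ← Matrix.mulVec_transpose,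
      Matrix.mulVec_mulVec]
    rw [show ((A g⁻¹)ᵀᴴ)ᵀ = (A g⁻¹)ᴴ from by ext i j; simp, h2]
  let L : (Fin n → ℂ) →ₗ[ℂ] (Fin n → ℂ) :=
    { toFun := fun v => J (J v)
      map_add' := fun u v => by rw [hJadd, hJadd]
      map_smul' := fun c v => by rw [hJsmul, hJsmul]; simp }
  obtain ⟨c, hc⟩ := schur_scalar ρ L fun g v => by
    simp only [L, LinearMap.coe_mk, AddHom.coe_mk, hA, hJcomm]
  have hc' : ∀ v, J (J v) = c • v := fun v => by
    have := congrArg (fun T : (Fin n → ℂ) →ₗ[ℂ] (Fin n → ℂ) => T v) hc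
    simpa [L] using this
  -- the kernel of `M` is trivial
  have hMker : ∀ v, M *ᵥ v = 0 → v = 0 := by
    intro v hv
    rcases ((isIrreducible_iff ρ).1 hirr).2 (LinearMap.ker (Matrix.toLin' M)) (fun g w hw => by
      rw [LinearMap.mem_ker, Matrix.toLin'_apply] at hw ⊢
      have h1 : M * A g = (A g⁻¹)ᵀ * M := by
        conv_rhs => rw [← hMinv g]
        rw [← Matrix.mul_assoc, ← Matrix.mul_assoc, ← Matrix.transpose_mul, hAinv,
          Matrix.transpose_one, Matrix.one_mul]
      rw [hA, Matrix.mulVec_mulVec, h1, ← Matrix.mulVec_mulVec, hw, Matrix.mulVec_zero]) with h1 | h1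
    · have : v ∈ LinearMap.ker (Matrix.toLin' M) := by
        rw [LinearMap.mem_ker, Matrix.toLin'_apply]; exact hv
      rw [h1] at this
      exact (Submodule.mem_bot ℂ).1 this
    · exfalso
      refine hM0 (Matrix.toLin'.injective ?_)
      rw [map_zero]
      exact LinearMap.ker_eq_top.1 h1
  have hJ0 : ∀ v, J v = 0 → v = 0 := by
    intro v hv
    apply hMker
    have h1 := congrArg (fun w => H *ᵥ w) hv
    simp only [J, Matrix.mulVec_mulVec, Matrix.mul_nonsing_inv _ hdet, Matrix.one_mulVec,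
      Matrix.mulVec_zero, star_eq_zero] at h1
    exact h1
  -- `c` is a positive real
  haveI := nontrivial_of_isIrreducible ρ
  obtain ⟨v, hv⟩ := exists_ne (0 : Fin n → ℂ)
  have hh : ∀ u w, star u ⬝ᵥ (H *ᵥ J w) = star (u ⬝ᵥ (M *ᵥ w)) := fun u w => by
    simp only [J, Matrix.mulVec_mulVec, Matrix.mul_nonsing_inv _ hdet, Matrix.one_mulVec]
    rw [star_dotProduct_star, dotProduct_comm]
  have hcv : c * (star v ⬝ᵥ (H *ᵥ v)) = star (J v) ⬝ᵥ (H *ᵥ J v) := by
    rw [hh, ← smul_eq_mul, ← dotProduct_smul, ← Matrix.mulVec_smul, ← hc', hh]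
    congr 1
    rw [Matrix.dotProduct_mulVec, ← Matrix.mulVec_transpose, hMT, dotProduct_comm]
  have hvp := hpos.dotProduct_mulVec_pos hv
  have hJp := hpos.dotProduct_mulVec_pos (fun e => hv (hJ0 v e))
  obtain ⟨r, hr, hrc⟩ : ∃ r : ℝ, 0 < r ∧ (r : ℂ) = c := by
    rw [Complex.lt_def] at hvp hJp
    simp only [Complex.zero_re, Complex.zero_im] at hvp hJp
    refine ⟨(star (J v) ⬝ᵥ (H *ᵥ J v)).re / (star v ⬝ᵥ (H *ᵥ v)).re, div_pos hJp.1 hvp.1, ?_⟩
    set a := star v ⬝ᵥ (H *ᵥ v)
    set b := star (J v) ⬝ᵥ (H *ᵥ J v)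
    have ha : a = (a.re : ℂ) := Complex.ext rfl (by simp [← hvp.2])
    have hb : b = (b.re : ℂ) := Complex.ext rfl (by simp [← hJp.2])
    have hane : a ≠ 0 := fun e => by rw [e] at hvp; exact lt_irrefl _ hvp.1
    apply mul_right_cancel₀ hane
    rw [hcv]
    calc ((b.re / a.re : ℝ) : ℂ) * a = ((b.re / a.re : ℝ) : ℂ) * (a.re : ℂ) := by rw [← ha]
      _ = ((b.re / a.re * a.re : ℝ) : ℂ) := by push_cast; rfl
      _ = (b.re : ℂ) := by rw [div_mul_cancel₀ _ hvp.1.ne']
      _ = b := hb.symm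
  set s : ℂ := (((Real.sqrt r)⁻¹ : ℝ) : ℂ) with hs
  let S : (Fin n → ℂ) → (Fin n → ℂ) := fun v => s • J v
  have hss : conj s = s := Complex.conj_ofReal _
  have hSS : ∀ v, S (S v) = v := fun v => by
    simp only [S, hJsmul, hc', smul_smul, hss]
    rw [← hrc, hs, ← Complex.ofReal_mul, ← Complex.ofReal_mul, ← mul_assoc, ← mul_inv,
      Real.mul_self_sqrt hr.le, inv_mul_cancel₀ hr.ne', Complex.ofReal_one, one_smul]
  have hSadd : ∀ u v, S (u + v) = S u + S v := fun u v => by simp [S, hJadd]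
  have hSsmul : ∀ (z : ℂ) v, S (z • v) = conj z • S v := fun z v => by
    simp only [S, hJsmul, smul_smul, mul_comm]
  have hSA : ∀ g v, S (ρ g v) = ρ g (S v) := fun g v => by
    simp only [S, hA, hJcomm, Matrix.mulVec_smul]
  have hS0 : S 0 = 0 := by simpa using hSsmul 0 0
  have hI : Complex.I * Complex.I = -1 := Complex.I_mul_I
  let W : Submodule ℝ (Fin n → ℂ) :=
    { carrier := {v | S v = v}
      add_mem' := fun {a b} ha hb => by
        simp only [Set.mem_ofPred_eq] at ha hb ⊢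
        rw [hSadd, ha, hb]
      zero_mem' := hS0
      smul_mem' := fun a v hv => by
        simp only [Set.mem_ofPred_eq] at hv ⊢
        have h1 : ∀ w : Fin n → ℂ, a • w = (a : ℂ) • w := fun w => by ext i; simp
        rw [h1, hSsmul, Complex.conj_ofReal, hv] }
  have hWm : ∀ w, w ∈ W ↔ S w = w := fun w => Iff.rfl
  -- `V = W ⊕ i W`
  let E : (W × W) ≃ₗ[ℝ] (Fin n → ℂ) :=
    LinearEquiv.ofBijective
      { toFun := fun q => (q.1 : Fin n → ℂ) + Complex.I • (q.2 : Fin n → ℂ)
        map_add' := fun a b => by simp only [Prod.fst_add, Prod.snd_add, Submodule.coe_add, smul_add]; abel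
        map_smul' := fun a b => by
          simp only [Prod.smul_fst, Prod.smul_snd, Submodule.coe_smul, RingHom.id_apply, smul_add,
            smul_comm a Complex.I] }
      ⟨by
        rw [injective_iff_map_eq_zero]
        rintro ⟨⟨a, ha⟩, ⟨b, hb⟩⟩ h0
        simp only [LinearMap.coe_mk, AddHom.coe_mk] at h0
        have h1 := congrArg S h0
        rw [hS0, hSadd, hSsmul, Complex.conj_I, (hWm a).1 ha, (hWm b).1 hb, neg_smul] at h1
        have ha0 : (2 : ℂ) • a = 0 := by
          have := congrArg₂ (· + ·) h0 h1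
          simpa [two_smul, add_assoc, add_comm, add_left_comm] using this
        rw [smul_eq_zero] at ha0
        have ha1 : a = 0 := ha0.resolve_left two_ne_zero
        rw [ha1, zero_add, smul_eq_zero] at h0
        have hb1 : b = 0 := h0.resolve_left Complex.I_ne_zero
        simp [ha1, hb1],
      fun v => by
        have h1 : S ((2 : ℂ)⁻¹ • (v + S v)) = (2 : ℂ)⁻¹ • (v + S v) := by
          rw [hSsmul, hSadd, hSS, add_comm v, map_inv₀, Complex.conj_ofNat]
        have h2 : S ((-(2 : ℂ)⁻¹ * Complex.I) • (v - S v)) = (-(2 : ℂ)⁻¹ * Complex.I) • (v - S v) := by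
          rw [hSsmul, show v - S v = v + (-1 : ℂ) • S v from by rw [neg_one_smul, sub_eq_add_neg],
            hSadd, hSsmul, hSS, map_mul, map_neg, map_neg, map_inv₀, Complex.conj_ofNat, Complex.conj_I,
            map_one, neg_one_smul, neg_one_smul, ← sub_eq_add_neg, ← sub_eq_add_neg, ← neg_sub v (S v),
            smul_neg, ← neg_smul]
          congr 1; ring
        refine ⟨(⟨_, h1⟩, ⟨_, h2⟩), ?_⟩
        simp only [LinearMap.coe_mk, AddHom.coe_mk, smul_smul]
        rw [show Complex.I * (-(2 : ℂ)⁻¹ * Complex.I) = (2 : ℂ)⁻¹ by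
          rw [mul_left_comm, hI]; ring, ← smul_add, add_add_sub_cancel, ← two_smul ℂ v, smul_smul,
          inv_mul_cancel₀ two_ne_zero, one_smul]⟩
  haveI : Module.Finite ℝ W := Module.Finite.of_injective W.subtype W.subtype_injective
  have hWdim : Module.finrank ℝ W = n := by
    have h1 := E.finrank_eq
    rw [Module.finrank_prod, Module.finrank_pi_fintype] at h1
    simp at h1
    omega
  let b : Module.Basis (Fin n) ℝ W := Module.finBasisOfFinrankEq ℝ W hWdim
  let e : Fin n → (Fin n → ℂ) := fun i => (b i : Fin n → ℂ)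
  have hspanW : ∀ w : W, (w : Fin n → ℂ) ∈ Submodule.span ℂ (Set.range e) := by
    intro w
    rw [← b.sum_repr w]
    simp only [Submodule.coe_sum, Submodule.coe_smul]
    refine Submodule.sum_mem _ fun i _ => ?_
    rw [show (b.repr w i) • (b i : Fin n → ℂ) = ((b.repr w i : ℝ) : ℂ) • e i from by ext j; simp [e]]
    exact Submodule.smul_mem _ _ (Submodule.subset_span ⟨i, rfl⟩)
  let bC : Module.Basis (Fin n) ℂ (Fin n → ℂ) := basisOfTopLeSpanOfCardEqFinrank e (by
    rintro x -
    obtain ⟨⟨u, w⟩, rfl⟩ := E.surjective x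
    exact Submodule.add_mem _ (hspanW u) (Submodule.smul_mem _ _ (hspanW w))) (by simp)
  let τ : Representation ℝ G W :=
    { toFun := fun g =>
        { toFun := fun w => ⟨ρ g w, show S (ρ g w) = ρ g w by rw [hSA, (hWm w).1 w.2]⟩
          map_add' := fun u v => Subtype.ext (map_add (ρ g) _ _)
          map_smul' := fun a w => Subtype.ext (LinearMap.map_smul_of_tower (ρ g) a _) }
      map_one' := LinearMap.ext fun w => Subtype.ext (by simp)
      map_mul' := fun g k => LinearMap.ext fun w => Subtype.ext (by simp [map_mul]) }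
  refine ⟨n, (b.equivFun.conjAlgEquiv ℝ).toAlgHom.toRingHom.toMonoidHom.comp τ, fun g => ?_⟩
  have h1 : LinearMap.trace ℝ (Fin n → ℝ) (((b.equivFun.conjAlgEquiv ℝ).toAlgHom.toRingHom.toMonoidHom.comp τ) g) =
      LinearMap.trace ℝ W (τ g) := LinearMap.trace_conj' (τ g) b.equivFun
  rw [h1, Representation.character, LinearMap.trace_eq_matrix_trace ℂ bC,
    LinearMap.trace_eq_matrix_trace ℝ b, Matrix.trace, Matrix.trace, Complex.ofReal_sum]
  refine Finset.sum_congr rfl fun i _ => ?_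
  rw [Matrix.diag_apply, Matrix.diag_apply, LinearMap.toMatrix_apply, LinearMap.toMatrix_apply]
  have h2 : ρ g (bC i) = ∑ j, ((b.repr (τ g (b i)) j : ℝ) : ℂ) • bC j := by
    simp only [bC, coe_basisOfTopLeSpanOfCardEqFinrank]
    have h3 := congrArg Subtype.val (b.sum_repr (τ g (b i)))
    simp only [Submodule.coe_sum, Submodule.coe_smul] at h3
    calc ρ g (e i) = ((τ g (b i) : W) : Fin n → ℂ) := rfl
      _ = _ := by
        rw [← h3]
        refine Finset.sum_congr rfl fun j _ => ?_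
        ext k; simp [e]
  rw [h2, bC.repr_sum_self]


/-- Let χ be an irreducible character of the finite group G. Then the Frobenius–Schur indicator of χ (the average over s ∈ G of χ(s²)) equals 1 if and only if χ is afforded by a real representation: there is a representation of G on a real coordinate space whose trace function, viewed in ℂ, is χ. -/
theorem result {G : Type*} [Group G] [Fintype G] (χ : Cfsg.IrrCharacter G) : ((Nat.card G : ℂ)⁻¹ * ∑ s : G, (χ : G → ℂ) (s * s)) = 1 ↔ ∃ (n : ℕ) (ρ : Representation ℝ G (Fin n → ℝ)), ∀ g : G, ((LinearMap.trace ℝ (Fin n → ℝ) (ρ g) : ℝ) : ℂ) = (χ : G → ℂ) g := by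
  constructor
  · intro h
    obtain ⟨n, ρ, hirr, he⟩ := χ.2
    rw [← he] at h ⊢
    exact exists_real_form ρ hirr h
  · rintro ⟨n, ρ, h⟩
    exact nu_eq_one_of_real χ ρ h

end Cfsg.Agent.S4474
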