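import Mathlib
import Cfsg.Statements.S4476
import Cfsg.Agent.Lib.FrobeniusSchur.Basic

set_option autoImplicit false
open Cfsg

namespace Cfsg.Agent.S4476

open scoped ComplexConjugate
open Cfsg.Agent.FrobeniusSchur Cfsg.Agent.Characters

theorem deg_spec {G : Type*} [Group G] (χ : Cfsg.IrrCharacter G) :
    0 < Cfsg.charDegree (χ : G → ℂ) ∧ (χ : G → ℂ) 1 = (Cfsg.charDegree (χ : G → ℂ) : ℂ) := by
  obtain ⟨n, hn, he⟩ := Cfsg.Agent.Characters.irr_one_pos χ.2
  simp [Cfsg.charDegree, he, hn]


/-- Let G be a finite group of even order g with exactly t involutions, and put α = (g − 1)/t (a rational number). Then (a) some non-identity element x of G has at most α² conjugates; and (b) some non-principal real-valued irreducible character of G has degree at most α. -/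
theorem result {G : Type*} [Group G] [Fintype G] (heven : Even (Nat.card G)) (t : ℕ) (ht : Nat.card {x : G // orderOf x = 2} = t) : (∃ x : G, x ≠ 1 ∧ ((Subgroup.centralizer ({x} : Set G)).index : ℚ) ≤ (((Nat.card G : ℚ) - 1) / t) ^ 2) ∧ ∃ χ : Cfsg.IrrCharacter G, (χ : G → ℂ) ≠ (fun _ => 1) ∧ (∀ g : G, ((χ : G → ℂ) g).im = 0) ∧ (Cfsg.charDegree (χ : G → ℂ) : ℚ) ≤ ((Nat.card G : ℚ) - 1) / t := by
  classical
  haveI := Fintype.ofFinite (Cfsg.IrrCharacter G)
  set m : ℚ := (Nat.card G : ℚ) - 1
  have htpos : 0 < t := by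
    rw [← ht]
    obtain ⟨g, hg⟩ := exists_prime_orderOf_dvd_card' (G := G) 2 heven.two_dvd
    exact (Nat.card_pos_iff).2 ⟨⟨⟨g, hg⟩⟩, inferInstance⟩
  -- number of solutions of `s * s = 1`
  have hsq : Nat.card {s : G // s * s = 1} = t + 1 := by
    rw [← ht, Nat.card_eq_fintype_card, Nat.card_eq_fintype_card, Fintype.card_subtype,
      Fintype.card_subtype]
    have : (Finset.univ.filter fun s : G => s * s = 1) =
        insert 1 (Finset.univ.filter fun s : G => orderOf s = 2) := by
      ext s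
      rcases eq_or_ne s 1 with rfl | hs
      · simp
      · simp [hs, orderOf_eq_prime_iff, pow_two]
    rw [this, Finset.card_insert_of_notMem (by simp)]
  let triv : Cfsg.IrrCharacter G := trivIrr G
  set d : Cfsg.IrrCharacter G → ℕ := fun χ => Cfsg.charDegree (χ : G → ℂ)
  have hd : ∀ χ : Cfsg.IrrCharacter G, (χ : G → ℂ) 1 = (d χ : ℂ) := fun χ => (deg_spec χ).2
  have hd1 : d triv = 1 := by
    have h := hd triv
    simp only [triv, trivIrr_coe] at h
    exact_mod_cast h.symm
  set S := (Finset.univ.erase triv).filter fun χ : Cfsg.IrrCharacter G => nu (χ : G → ℂ) ≠ 0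
  have hS : (t : ℚ) ≤ ∑ χ ∈ S, (d χ : ℚ) := by
    have h0 : ((t : ℕ) : ℂ) = ∑ χ ∈ S, nu (χ : G → ℂ) * (d χ : ℂ) := by
      have h1 := card_sq_eq_one (G := G)
      rw [hsq, ← Finset.add_sum_erase _ _ (Finset.mem_univ triv)] at h1
      have h2 : nu ((triv : Cfsg.IrrCharacter G) : G → ℂ) = 1 := by
        simp [triv, nu, Nat.card_eq_fintype_card]
      simp only [h2, hd, hd1] at h1
      push_cast at h1
      rw [one_mul, add_comm (1 : ℂ)] at h1
      rw [add_right_cancel h1, Finset.sum_filter]
      refine Finset.sum_congr rfl fun χ _ => ?_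
      by_cases h : nu (χ : G → ℂ) = 0 <;> simp [h]
    have h3 : (t : ℝ) ≤ ∑ χ ∈ S, (d χ : ℝ) := by
      have h4 := congrArg Complex.re h0
      rw [Complex.natCast_re, Complex.re_sum] at h4
      rw [h4]
      refine Finset.sum_le_sum fun χ _ => ?_
      rcases nu_trichotomy χ with h | h | h <;> simp [h]
    exact_mod_cast h3
  have hall : ∑ χ ∈ Finset.univ.erase triv, (d χ : ℚ) ^ 2 = m := by
    have h1 := sum_degree_sq (G := G)
    simp only [hd] at h1
    have h2 : ∑ χ : Cfsg.IrrCharacter G, (d χ) ^ 2 = Nat.card G := by exact_mod_cast h1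
    simp only [m]
    rw [← h2, ← Finset.add_sum_erase _ _ (Finset.mem_univ triv), hd1]
    push_cast; ring
  have hsqle : ∑ χ ∈ S, (d χ : ℚ) ^ 2 ≤ m := hall ▸
    Finset.sum_le_sum_of_subset_of_nonneg (Finset.filter_subset _ _) fun χ _ _ => sq_nonneg _
  have htq : (0 : ℚ) < t := by exact_mod_cast htpos
  refine ⟨?_, ?_⟩
  · -- a small class
    by_contra hno
    push Not at hno
    have hne : S.card ≤ (Finset.univ.erase (ConjClasses.mk (1 : G))).card := by
      refine (Finset.card_filter_le _ _).trans ?_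
      rw [Finset.card_erase_of_mem (Finset.mem_univ _), Finset.card_erase_of_mem (Finset.mem_univ _),
        Finset.card_univ, Finset.card_univ, ← Nat.card_eq_fintype_card, ← Nat.card_eq_fintype_card,
        card_irrCharacter]
    have hsizes : ∑ C ∈ Finset.univ.erase (ConjClasses.mk (1 : G)), (Nat.card C.carrier : ℚ) = m := by
      have h1 := Group.sum_card_conj_classes_eq_card G
      rw [finsum_eq_sum_of_fintype, ← Finset.add_sum_erase _ _ (Finset.mem_univ (ConjClasses.mk (1 : G)))] at h1
      have h2 : Nat.card (ConjClasses.mk (1 : G)).carrier = 1 := by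
        rw [Nat.card_eq_one_iff_exists]
        refine ⟨⟨1, ConjClasses.mem_carrier_mk⟩, fun y => Subtype.ext ?_⟩
        have := y.2
        rw [ConjClasses.mem_carrier_iff_mk_eq, ConjClasses.mk_eq_mk_iff_isConj] at this
        exact isConj_one_left.1 this
      simp only [← Nat.card_coe_set_eq] at h1
      rw [h2] at h1
      simp only [m]; rw [← h1]; push_cast; ring
    have hbig : ∀ C ∈ Finset.univ.erase (ConjClasses.mk (1 : G)),
        (m / t) ^ 2 < (Nat.card C.carrier : ℚ) := by
      intro C hC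
      obtain ⟨x, rfl⟩ := ConjClasses.mk_surjective C
      have hx : x ≠ 1 := by
        rintro rfl
        exact (Finset.mem_erase.1 hC).1 rfl
      have h1 := hno x hx
      have h2 := card_carrier_mul_card_centralizer x
      have h3 := (Subgroup.centralizer ({x} : Set G)).card_mul_index
      rw [show Nat.card (ConjClasses.mk x).carrier =
        (Subgroup.centralizer ({x} : Set G)).index from
        Nat.eq_of_mul_eq_mul_left (Nat.card_pos (α := Subgroup.centralizer ({x} : Set G)))
          (by rw [h3, mul_comm, h2])]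
      exact h1
    have hne' : (Finset.univ.erase (ConjClasses.mk (1 : G))).Nonempty := by
      obtain ⟨g, hg⟩ := exists_prime_orderOf_dvd_card' (G := G) 2 heven.two_dvd
      refine ⟨ConjClasses.mk g, Finset.mem_erase.2 ⟨fun h => ?_, Finset.mem_univ _⟩⟩
      rw [ConjClasses.mk_eq_mk_iff_isConj, isConj_one_left] at h
      simp [h] at hg
    have h1 := Finset.sum_lt_sum_of_nonempty hne' hbig
    rw [hsizes, Finset.sum_const, nsmul_eq_mul] at h1
    set r := (Finset.univ.erase (ConjClasses.mk (1 : G))).card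
    have hmr : (t : ℚ) ^ 2 ≤ (r : ℚ) * m := by
      calc (t : ℚ) ^ 2 ≤ (∑ χ ∈ S, (d χ : ℚ)) ^ 2 := pow_le_pow_left₀ htq.le hS 2
        _ ≤ (S.card : ℚ) * ∑ χ ∈ S, (d χ : ℚ) ^ 2 := sq_sum_le_card_mul_sum_sq
        _ ≤ (r : ℚ) * m := mul_le_mul (by exact_mod_cast hne) hsqle
            (Finset.sum_nonneg fun χ _ => sq_nonneg _) (Nat.cast_nonneg _)
    have hmpos : 0 ≤ m := le_trans (Finset.sum_nonneg fun χ _ => sq_nonneg _) hsqle
    rw [div_pow, ← mul_div_assoc, div_lt_iff₀ (pow_pos htq 2)] at h1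
    nlinarith
  · by_contra hno
    push Not at hno
    have hbig : ∀ χ ∈ S, m / t < (d χ : ℚ) := by
      intro χ hχ
      obtain ⟨h1, h2⟩ := Finset.mem_filter.1 hχ
      exact hno χ (fun h => (Finset.mem_erase.1 h1).1 (Subtype.ext h)) ((nu_ne_zero_iff χ).1 h2)
    have hne : S.Nonempty := by
      by_contra h
      rw [Finset.not_nonempty_iff_eq_empty.1 h, Finset.sum_empty] at hS
      linarith
    have h1 := Finset.sum_lt_sum_of_nonempty hne fun χ hχ =>
      mul_lt_mul_of_pos_right (hbig χ hχ) (show (0 : ℚ) < (d χ : ℚ) by exact_mod_cast (deg_spec χ).1)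
    rw [← Finset.mul_sum] at h1
    have hm0 : 0 ≤ m / t := div_nonneg (le_trans (Finset.sum_nonneg fun χ _ => sq_nonneg _) hsqle) htq.le
    have h2 : m ≤ m / t * ∑ χ ∈ S, (d χ : ℚ) := by
      refine le_trans ?_ (mul_le_mul_of_nonneg_left hS hm0)
      rw [div_mul_cancel₀ _ htq.ne']
    simp only [← sq] at h1
    linarith

end Cfsg.Agent.S4476
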