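import Mathlib
import Cfsg.Statements.S4477
import Cfsg.Agent.Lib.FrobeniusSchur.Basic
import Cfsg.Agent.Lib.Characters.Kernel
import Cfsg.Agent.Lib.Coprime.PGroup
import Cfsg.Agent.BlocksChars.Degrees

set_option autoImplicit false
open Cfsg

namespace Cfsg.Agent.S4477

open scoped commutatorElement ComplexConjugate
open Cfsg.Agent.FrobeniusSchur Cfsg.Agent.Characters

variable {A : Type*} [CommGroup A] [Finite A]

/-- A finite abelian `2`-group with at most two elements killed by squaring is cyclic. -/
theorem isCyclic_of_two {m : ℕ} (hA : Nat.card A = 2 ^ m)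
    (h : Nat.card (powMonoidHom 2 : A →* A).ker ≤ 2) : IsCyclic A := by
  have hker : ∀ j : ℕ, Nat.card (powMonoidHom (2 ^ j) : A →* A).ker ≤ 2 ^ j := by
    intro j
    induction j with
    | zero =>
      rw [pow_zero, Finite.card_le_one_iff_subsingleton]
      exact ⟨fun a b => Subtype.ext (by
        have ha : (a : A) = 1 := by have := a.2; simp only [MonoidHom.mem_ker, powMonoidHom_apply, pow_one] at this; exact this
        have hb : (b : A) = 1 := by have := b.2; simp only [MonoidHom.mem_ker, powMonoidHom_apply, pow_one] at this; exact this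
        rw [ha, hb])⟩
    | succ j ih =>
      let f : (powMonoidHom (2 ^ (j + 1)) : A →* A).ker →* A :=
        (powMonoidHom 2 : A →* A).comp (Subgroup.subtype _)
      have h1 : Nat.card f.ker ≤ 2 := le_trans
        (Nat.card_le_card_of_injective
          (fun x => (⟨x.1.1, x.2⟩ :
            (powMonoidHom 2 : A →* A).ker))
          (fun x y hxy => Subtype.ext (Subtype.ext (congrArg Subtype.val hxy :)))) h
      have h2 : Nat.card f.range ≤ 2 ^ j := le_trans (Subgroup.card_le_of_le (by
        rintro _ ⟨⟨a, ha⟩, rfl⟩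
        simp only [MonoidHom.mem_ker, powMonoidHom_apply] at ha ⊢
        simp only [f, MonoidHom.comp_apply, Subgroup.coe_subtype, powMonoidHom_apply]
        rwa [← pow_mul, ← pow_succ'])) ih
      calc Nat.card (powMonoidHom (2 ^ (j + 1)) : A →* A).ker
          = Nat.card f.ker * Nat.card f.range := by rw [← Subgroup.index_ker, f.ker.card_mul_index]
        _ ≤ 2 * 2 ^ j := Nat.mul_le_mul h1 h2
        _ = 2 ^ (j + 1) := (pow_succ' 2 j).symm
  classical
  haveI := Fintype.ofFinite A
  refine isCyclic_of_card_pow_eq_one_le fun n hn => ?_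
  obtain ⟨j, -, hj⟩ := (Nat.dvd_prime_pow Nat.prime_two).1 (Nat.gcd_dvd_right n (2 ^ m))
  refine le_trans ?_ (le_trans (hker j) (hj ▸ Nat.gcd_le_left _ hn))
  rw [Nat.card_eq_fintype_card, ← Fintype.card_subtype]
  refine Fintype.card_le_of_injective (fun a => ⟨a.1, ?_⟩) fun a b hab =>
    Subtype.ext (congrArg Subtype.val hab :)
  rw [MonoidHom.mem_ker, powMonoidHom_apply, ← hj]
  exact pow_gcd_eq_one.2 ⟨a.2, by rw [← hA]; exact pow_card_eq_one'⟩


/-- Let G be a finite 2-group whose number of involutions is congruent to 1 modulo 4. Then G is cyclic or its commutator subgroup has index 4. -/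
theorem result {G : Type*} [Group G] [Finite G] (hG : IsPGroup 2 G) (ht : Nat.card {x : G // orderOf x = 2} % 4 = 1) : IsCyclic G ∨ (commutator G).index = 4 := by
  classical
  haveI := Fintype.ofFinite G
  haveI := Fintype.ofFinite (Cfsg.IrrCharacter G)
  haveI := hG.isNilpotent
  by_cases hcyc : IsCyclic G
  · exact Or.inl hcyc
  right
  obtain ⟨m, hm⟩ := IsPGroup.iff_card.1 hG
  set t := Nat.card {x : G // orderOf x = 2}
  have hsq : Nat.card {s : G // s * s = 1} = t + 1 := by
    simp only [t]
    rw [Nat.card_eq_fintype_card, Nat.card_eq_fintype_card, Fintype.card_subtype,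
      Fintype.card_subtype]
    have : (Finset.univ.filter fun s : G => s * s = 1) =
        insert 1 (Finset.univ.filter fun s : G => orderOf s = 2) := by
      ext s
      rcases eq_or_ne s 1 with rfl | hs
      · simp
      · simp [hs, orderOf_eq_prime_iff, pow_two]
    rw [this, Finset.card_insert_of_notMem (by simp)]
  set d : Cfsg.IrrCharacter G → ℕ := fun χ => Cfsg.charDegree (χ : G → ℂ)
  have hd : ∀ χ : Cfsg.IrrCharacter G, (χ : G → ℂ) 1 = (d χ : ℂ) := fun χ => (Cfsg.Agent.BlocksChars.Degrees.charDegree_cast χ).symm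
  have hdpow : ∀ χ : Cfsg.IrrCharacter G, d χ ∣ 2 ^ m := fun χ =>
    hm ▸ Cfsg.Agent.BlocksChars.Degrees.charDegree_dvd_card χ
  -- linear characters
  have hlin : Nat.card {χ : Cfsg.IrrCharacter G // d χ = 1} = (commutator G).index := by
    rw [← card_degree_one]
    exact Nat.card_congr (Equiv.subtypeEquivRight fun χ => by rw [hd]; simp)
  -- signs
  choose ν hν using fun χ : Cfsg.IrrCharacter G => (show ∃ k : ℤ, nu (χ : G → ℂ) = k ∧
      (k = 0 ∨ k = 1 ∨ k = -1) from by
    rcases nu_trichotomy χ with h | h | h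
    · exact ⟨0, by simp [h], Or.inl rfl⟩
    · exact ⟨1, by simp [h], Or.inr (Or.inl rfl)⟩
    · exact ⟨-1, by simp [h], Or.inr (Or.inr rfl)⟩)
  have hsum : ((t + 1 : ℕ) : ℤ) = ∑ χ : Cfsg.IrrCharacter G, ν χ * (d χ : ℤ) := by
    have h1 := card_sq_eq_one (G := G)
    rw [hsq] at h1
    simp only [(hν _).1, hd] at h1
    exact_mod_cast h1
  have hreal : ∀ χ : Cfsg.IrrCharacter G, ν χ ≠ 0 ↔ conjIrr χ = χ := by
    intro χ
    have : ν χ ≠ 0 ↔ nu (χ : G → ℂ) ≠ 0 := by rw [(hν χ).1]; simp
    rw [this, nu_ne_zero_iff]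
    constructor
    · exact fun h => Subtype.ext (funext fun g => Complex.conj_eq_iff_im.2 (h g))
    · intro h g
      exact Complex.conj_eq_iff_im.1 (congrArg (fun φ : Cfsg.IrrCharacter G => (φ : G → ℂ) g) h)
  have hlinν : ∀ χ : Cfsg.IrrCharacter G, d χ = 1 → ν χ = if ν χ = 0 then 0 else 1 := by
    intro χ h1
    split_ifs with h0
    · exact h0
    have hr := (hreal χ).1 h0
    have h2 : nu (χ : G → ℂ) = 1 := by
      have hmul := char_mul_of_degree_one (irr_isCharacter χ) (by rw [hd, h1]; simp)
      have hone : ∀ s : G, (χ : G → ℂ) (s * s) = 1 := by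
        intro s
        have hc : conj ((χ : G → ℂ) s) = (χ : G → ℂ) s :=
          congrArg (fun φ : Cfsg.IrrCharacter G => (φ : G → ℂ) s) hr
        have h3 := hmul s s⁻¹
        rw [mul_inv_cancel, char_inv (irr_isCharacter χ), hc, hd, h1] at h3
        rw [hmul, ← h3]; simp
      simp [nu, hone, Nat.card_eq_fintype_card]
    have := (hν χ).1
    rw [h2] at this
    exact_mod_cast this.symm
  -- the real linear characters
  have h4 : 4 ∣ (Finset.univ.filter fun χ : Cfsg.IrrCharacter G => d χ = 1 ∧ ν χ ≠ 0).card := by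
    haveI : NeZero (Monoid.exponent (Abelianization G)) := ⟨Monoid.exponent_ne_zero_of_finite⟩
    haveI : NeZero (Monoid.exponent (Abelianization G) : ℂ) :=
      ⟨Nat.cast_ne_zero.2 Monoid.exponent_ne_zero_of_finite⟩
    obtain ⟨e⟩ := CommGroup.monoidHom_mulEquiv_of_hasEnoughRootsOfUnity (Abelianization G) ℂ
    let e' : (G →* ℂˣ) ≃* Abelianization G :=
      MulEquiv.trans ⟨Abelianization.lift, fun a b => by ext; simp⟩ e
    haveI : Finite (G →* ℂˣ) := Finite.of_equiv _ e'.symm.toEquiv
    obtain ⟨i, -, hi⟩ := (Nat.dvd_prime_pow Nat.prime_two).1 (hm ▸ (commutator G).index_dvd_card)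
    have hcardH : Nat.card (Abelianization G) = 2 ^ i :=
      (Nat.card_congr e'.symm.toEquiv).trans (card_linear_hom.trans hi)
    have hK : 4 ∣ Nat.card {l : G →* ℂˣ // l ^ 2 = 1} := by
      rw [show Nat.card {l : G →* ℂˣ // l ^ 2 = 1} =
          Nat.card (powMonoidHom 2 : Abelianization G →* Abelianization G).ker from
        Nat.card_congr (Equiv.subtypeEquiv e'.toEquiv fun l => by
          change l ^ 2 = 1 ↔ (e' l) ^ 2 = 1
          rw [← map_pow, map_eq_one_iff e' e'.injective])]
      obtain ⟨k, -, hk⟩ := (Nat.dvd_prime_pow Nat.prime_two).1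
        (hcardH ▸ Subgroup.card_subgroup_dvd_card (powMonoidHom 2 : Abelianization G →* Abelianization G).ker)
      by_cases h2k : 2 ≤ k
      · rw [hk]; exact pow_dvd_pow 2 h2k
      exfalso
      haveI := isCyclic_of_two hcardH (by rw [hk]; exact Nat.pow_le_pow_right (by norm_num) (show k ≤ 1 by omega))
      apply hcyc
      obtain ⟨q, hq⟩ := IsCyclic.exists_generator (α := Abelianization G)
      induction q using QuotientGroup.induction_on with
      | _ g =>
        refine ⟨g, fun a => ?_⟩
        have hsup : Subgroup.zpowers g ⊔ commutator G = ⊤ := by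
          rw [Subgroup.eq_top_iff']
          intro a
          obtain ⟨k, hk⟩ := Subgroup.mem_zpowers_iff.1 (hq (a : G ⧸ commutator G))
          erw [← QuotientGroup.mk_zpow, QuotientGroup.eq] at hk
          have : a = g ^ k * ((g ^ k)⁻¹ * a) := by group
          rw [this]
          exact Subgroup.mul_mem_sup (Subgroup.zpow_mem_zpowers g k) hk
        have htop : Subgroup.zpowers g = ⊤ := frattini_nongenerating (eq_top_iff.2
          (hsup ▸ sup_le_sup_left (Cfsg.Agent.Coprime.commutator_le_frattini G) _))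
        exact (show a ∈ Subgroup.zpowers g by rw [htop]; trivial)
    rw [← Fintype.card_subtype, ← Nat.card_eq_fintype_card]
    rw [Nat.card_congr ?_] at hK
    · exact hK
    refine
      { toFun := fun l => ⟨⟨_, isIrrCharacter_linear l.1⟩, ?_⟩
        invFun := fun χ => ⟨linearOfDegreeOne (irr_isCharacter χ.1) (by rw [hd, χ.2.1]; simp), ?_⟩
        left_inv := fun l => by ext; simp
        right_inv := fun χ => by ext; simp }
    · refine ⟨by simp [d, Cfsg.charDegree], (hreal _).2 (Subtype.ext (funext fun g => ?_))⟩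
      have hl : (l.1 g : ℂ) * (l.1 g : ℂ) = 1 := by
        have := congrArg (fun f : G →* ℂˣ => (f g : ℂ)) l.2
        simpa [pow_two] using this
      simp only [conjIrr_coe]
      rcases mul_self_eq_one_iff.1 hl with h | h <;> simp [h]
    · ext g
      simp only [powMonoidHom_apply, MonoidHom.one_apply, Units.val_one, pow_two,
        MonoidHom.mul_apply, Units.val_mul, linearOfDegreeOne_apply]
      have hmul := char_mul_of_degree_one (irr_isCharacter χ.1) (by rw [hd, χ.2.1]; simp)
      have hc : conj ((χ.1 : G → ℂ) g) = (χ.1 : G → ℂ) g :=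
        congrArg (fun φ : Cfsg.IrrCharacter G => (φ : G → ℂ) g) ((hreal χ.1).1 χ.2.2)
      have h3 := hmul g g⁻¹
      rw [mul_inv_cancel, char_inv (irr_isCharacter χ.1), hc, hd, χ.2.1] at h3
      simpa using h3.symm
  -- residues
  have hcase : ∀ χ : Cfsg.IrrCharacter G, d χ = 1 ∨ d χ = 2 ∨ 4 ∣ d χ := by
    intro χ
    obtain ⟨i, -, hi⟩ := (Nat.dvd_prime_pow Nat.prime_two).1 (hdpow χ)
    rcases i with _ | _ | i
    · left; simpa using hi
    · right; left; simpa using hi
    · right; right; rw [hi]; exact Dvd.intro (2 ^ i) (by ring)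
  set L := Finset.univ.filter fun χ : Cfsg.IrrCharacter G => d χ = 1 ∧ ν χ ≠ 0
  set R2 := Finset.univ.filter fun χ : Cfsg.IrrCharacter G => d χ = 2 ∧ ν χ ≠ 0
  set N2 := Finset.univ.filter fun χ : Cfsg.IrrCharacter G => d χ = 2
  have hmod : ((∑ χ : Cfsg.IrrCharacter G, ν χ * (d χ : ℤ) : ℤ) : ZMod 4) =
      (L.card : ZMod 4) + 2 * (R2.card : ZMod 4) := by
    simp only [L, R2, Finset.card_filter, Nat.cast_sum, Int.cast_sum, Finset.mul_sum,
      ← Finset.sum_add_distrib]
    refine Finset.sum_congr rfl fun χ _ => ?_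
    rcases hcase χ with h | h | h
    · rw [if_neg (show ¬ (d χ = 2 ∧ ν χ ≠ 0) from fun x => by rw [h] at x; exact absurd x.1 (by norm_num))]
      by_cases h0 : ν χ = 0
      · rw [if_neg (fun x => x.2 h0), h0]; simp
      · rw [if_pos ⟨h, h0⟩, hlinν χ h, if_neg h0, h]; simp
    · rw [if_neg (show ¬ (d χ = 1 ∧ ν χ ≠ 0) from fun x => by rw [h] at x; exact absurd x.1 (by norm_num))]
      rcases (hν χ).2 with e | e | e
      · rw [if_neg (fun x => x.2 e), e]; simp
      · rw [if_pos ⟨h, by rw [e]; norm_num⟩, e, h]; norm_num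
      · rw [if_pos ⟨h, by rw [e]; norm_num⟩, e, h]; norm_num; decide
    · have h1 : d χ ≠ 1 := fun e => by rw [e] at h; norm_num at h
      have h2 : d χ ≠ 2 := fun e => by rw [e] at h; norm_num at h
      have h0 : ((d χ : ℕ) : ZMod 4) = 0 := (CharP.cast_eq_zero_iff _ _ _).2 h
      simp [h1, h2, h0]
  have hR2 : Odd R2.card := by
    have h5 : ((∑ χ : Cfsg.IrrCharacter G, ν χ * (d χ : ℤ) : ℤ) : ZMod 4) = 2 := by
      rw [← hsum]
      have : ((t + 1 : ℕ) : ZMod 4) = ((2 : ℕ) : ZMod 4) :=
        (ZMod.natCast_eq_natCast_iff' (t + 1) 2 4).2 (by omega)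
      simpa using this
    rw [hmod, (CharP.cast_eq_zero_iff _ _ _).2 h4, zero_add] at h5
    by_contra hev
    rw [Nat.not_odd_iff_even] at hev
    obtain ⟨k, hk⟩ := hev
    rw [hk] at h5
    push_cast at h5
    rw [← two_mul, ← mul_assoc, show (2 : ZMod 4) * 2 = 0 from rfl, zero_mul] at h5
    exact absurd h5 (by decide)
  have hN2 : Odd N2.card := by
    have hsplit : N2.card = R2.card + (N2.filter fun χ => ν χ = 0).card := by
      rw [← Finset.card_filter_add_card_filter_not (s := N2) (fun χ => ν χ ≠ 0)]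
      congr 1
      · simp only [N2, R2, Finset.filter_filter]
      · simp
    have hev : Even (N2.filter fun χ => ν χ = 0).card := by
      have h0 : ∑ χ ∈ (N2.filter fun χ => ν χ = 0), (1 : ZMod 2) = 0 := by
        refine Finset.sum_involution (fun χ _ => conjIrr χ) (fun _ _ => by decide)
          (fun χ hχ _ e => (hreal χ).2 e (Finset.mem_filter.1 hχ).2) (fun χ hχ => ?_)
          (fun χ _ => Subtype.ext (funext fun g => by simp))
        simp only [N2, Finset.mem_filter, Finset.mem_univ, true_and] at hχ ⊢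
        refine ⟨?_, ?_⟩
        · simp only [d, Cfsg.charDegree, conjIrr_coe, Complex.conj_re]; exact hχ.1
        · by_contra hne
          have e := (hreal _).1 hne
          have e2 : conjIrr (conjIrr χ) = χ := Subtype.ext (funext fun g => by simp)
          exact (hreal χ).2 (e2 ▸ e).symm hχ.2
      rw [Finset.sum_const, nsmul_eq_mul, mul_one, CharP.cast_eq_zero_iff (ZMod 2) 2] at h0
      exact even_iff_two_dvd.2 h0
    rw [hsplit]; exact hR2.add_even hev
  have hdeg : ((Nat.card G : ℕ) : ZMod 16) = ((commutator G).index : ZMod 16) + 4 * (N2.card : ZMod 16) := by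
    have h1 := sum_degree_sq (G := G)
    simp only [hd] at h1
    have h2 : ∑ χ : Cfsg.IrrCharacter G, (d χ) ^ 2 = Nat.card G := by exact_mod_cast h1
    rw [← h2, ← hlin, Nat.card_eq_fintype_card, Fintype.card_subtype]
    simp only [N2, Finset.card_filter, Nat.cast_sum, Finset.mul_sum, ← Finset.sum_add_distrib]
    refine Finset.sum_congr rfl fun χ _ => ?_
    rcases hcase χ with h | h | h
    · simp [h]
    · simp [h]
    · have h1 : d χ ≠ 1 := fun e => by rw [e] at h; norm_num at h
      have h2 : d χ ≠ 2 := fun e => by rw [e] at h; norm_num at h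
      obtain ⟨c, hc⟩ := h
      simp only [h1, h2, if_false, Nat.cast_zero, mul_zero, add_zero]
      rw [hc]
      push_cast
      rw [mul_pow, show (4 : ZMod 16) ^ 2 = 0 from rfl, zero_mul]
  obtain ⟨i, him, hi⟩ := (Nat.dvd_prime_pow Nat.prime_two).1 (hm ▸ (commutator G).index_dvd_card)
  have hm3 : 3 ≤ m := by
    obtain ⟨χ, hχ⟩ := Finset.card_pos.1 hN2.pos
    have h2 : d χ = 2 := (Finset.mem_filter.1 hχ).2
    by_contra hlt
    -- a group of order at most four is abelian
    have hcomm : ∀ a b : G, a * b = b * a := by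
      intro a b
      rcases lt_or_ge m 2 with h | h
      · haveI : IsCyclic G := isCyclic_of_card_dvd_prime (p := 2)
          (hm ▸ (pow_dvd_pow 2 (show m ≤ 1 by omega)).trans (by norm_num))
        exact absurd ‹_› hcyc
      · haveI := IsPGroup.isMulCommutative_of_card_eq_prime_sq (p := 2)
          (hm.trans (by rw [show m = 2 by omega]))
        exact mul_comm' a b
    have := irr_degree_one_of_comm hcomm χ.2
    rw [hd, h2] at this
    norm_num at this
  rw [hi, hm] at hdeg
  obtain ⟨k, hk⟩ := hN2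
  rw [hk] at hdeg
  have h8 := congrArg (ZMod.castHom (show 8 ∣ 16 by norm_num) (ZMod 8)) hdeg
  simp only [map_add, map_mul, map_natCast, map_ofNat] at h8
  push_cast at h8
  rw [pow_eq_zero_of_le hm3 (show ((2 : ZMod 8) ^ 3 = 0) from rfl), mul_add, ← mul_assoc,
    show (4 : ZMod 8) * 2 = 0 from rfl, zero_mul, zero_add, mul_one] at h8
  rw [hi]
  rcases i with _ | _ | _ | i
  · exact absurd h8 (by decide)
  · exact absurd h8 (by decide)
  · norm_num
  · exfalso
    rw [pow_eq_zero_of_le (show 3 ≤ i + 1 + 1 + 1 by omega) (show ((2 : ZMod 8) ^ 3 = 0) from rfl)] at h8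
    exact absurd h8 (by decide)

end Cfsg.Agent.S4477
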