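import Mathlib
import Cfsg.Statements.S4478
import Cfsg.Agent.BlockCharsA.DefectZeroVanish
import Cfsg.Agent.Lib.FrobeniusSchur.Basic

set_option autoImplicit false
open Cfsg

namespace Cfsg.Agent.S4478

open Cfsg.Agent.Characters Cfsg.Agent.Blocks Cfsg.Agent.FrobeniusSchur


/-- Let G be a finite group of even order and χ an irreducible character of G whose degree x is divisible by the full power of 2 dividing the order of G and, for every odd prime p such that G has an element of order 2p, by the full power of p dividing the order of G. Then all involutions of G are conjugate, the centralizer of every involution has order exactly x with x coprime to its index, and the Frobenius–Schur indicator of χ equals 1. -/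
theorem result {G : Type*} [Group G] [Fintype G] (heven : Even (Nat.card G)) (χ : Cfsg.IrrCharacter G) (h2 : 2 ^ (Nat.card G).factorization 2 ∣ Cfsg.charDegree (χ : G → ℂ)) (hp : ∀ p : ℕ, p.Prime → p ≠ 2 → (∃ g : G, orderOf g = 2 * p) → p ^ (Nat.card G).factorization p ∣ Cfsg.charDegree (χ : G → ℂ)) : (∀ s t : G, orderOf s = 2 → orderOf t = 2 → IsConj s t) ∧ (∀ s : G, orderOf s = 2 → Nat.card (Subgroup.centralizer ({s} : Set G)) = Cfsg.charDegree (χ : G → ℂ) ∧ (Nat.card (Subgroup.centralizer ({s} : Set G))).Coprime (Subgroup.centralizer ({s} : Set G)).index) ∧ (Nat.card G : ℂ)⁻¹ * ∑ g : G, (χ : G → ℂ) (g * g) = 1 := by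
  classical
  set d := Cfsg.charDegree (χ : G → ℂ) with hd
  have hd0 : d ≠ 0 := (charDegree_pos χ).ne'
  have hcast : (d : ℂ) = (χ : G → ℂ) 1 := charDegree_cast χ
  -- every prime at which an even element can be singular
  have hfull : ∀ p : ℕ, p.Prime → (∃ g : G, 2 ∣ orderOf g ∧ p ∣ orderOf g) →
      p ^ (Nat.card G).factorization p ∣ d := by
    rintro p hpp ⟨g, hg2, hgp⟩
    rcases eq_or_ne p 2 with rfl | hne
    · exact h2
    · refine hp p hpp hne ⟨g ^ (orderOf g / (2 * p)), ?_⟩
      have hdvd : 2 * p ∣ orderOf g :=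
        ((Nat.coprime_primes Nat.prime_two hpp).2 hne.symm).mul_dvd_of_dvd_of_dvd hg2 hgp
      rw [orderOf_pow_of_dvd (Nat.div_ne_zero_iff.2 ⟨by positivity [hpp.pos],
        Nat.le_of_dvd (orderOf_pos g) hdvd⟩) (Nat.div_dvd_of_dvd hdvd),
        Nat.div_div_self hdvd (orderOf_pos g).ne']
  have heven0 : ∀ g : G, 2 ∣ orderOf g → (χ : G → ℂ) g = 0 :=
    fun g hg => Cfsg.Agent.BlockCharsA.DefectZeroVanish.eq_zero_of_singular Nat.prime_two χ h2 hg
  have hsq0 : ∀ g : G, 2 ∣ orderOf g → g * g ≠ 1 → (χ : G → ℂ) (g * g) = 0 := by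
    intro g hg hne
    obtain ⟨p, hpp, hpd⟩ := Nat.exists_prime_and_dvd (n := orderOf (g * g))
      (fun h => hne (orderOf_eq_one_iff.1 h))
    refine Cfsg.Agent.BlockCharsA.DefectZeroVanish.eq_zero_of_singular hpp χ
      (hfull p hpp ⟨g, hg, hpd.trans ?_⟩) hpd
    rw [← pow_two]
    exact orderOf_pow_dvd 2
  set S := Finset.univ.filter fun g : G => orderOf g = 2 with hS
  set O := Finset.univ.filter fun g : G => ¬ 2 ∣ orderOf g with hO
  have htriv : (χ : G → ℂ) ≠ fun _ => 1 := fun h => by
    obtain ⟨g, hg⟩ := exists_prime_orderOf_dvd_card' (G := G) 2 heven.two_dvd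
    have := heven0 g (by rw [hg])
    rw [h] at this
    exact one_ne_zero this
  have hsum0 : ∑ g : G, (χ : G → ℂ) g = 0 := by
    have hne : χ ≠ trivIrr G := fun e => htriv (by rw [e]; rfl)
    have := classInner_irr χ (trivIrr G)
    rw [if_neg hne, classInner_def, mul_eq_zero] at this
    simpa using this.resolve_left (inv_ne_zero natCard_ne_zero)
  have hOsum : ∑ g ∈ O, (χ : G → ℂ) g = 0 := by
    rw [← hsum0, hO, Finset.sum_filter]
    refine Finset.sum_congr rfl fun g _ => ?_
    by_cases h : 2 ∣ orderOf g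
    · rw [if_neg (not_not.2 h), heven0 g h]
    · rw [if_pos h]
  have hOsq : ∑ g ∈ O, (χ : G → ℂ) (g * g) = 0 := by
    rw [← hOsum]
    have hmem : ∀ g : G, g ∈ O ↔ ¬ 2 ∣ orderOf g := fun g => by simp [hO]
    refine Finset.sum_nbij' (fun g => g * g) (fun g => g ^ ((orderOf g + 1) / 2)) ?_ ?_ ?_ ?_
      (fun _ _ => rfl)
    · intro g hg
      simp only [Finset.mem_coe, hmem] at hg ⊢
      rw [← pow_two]
      exact fun h => hg (h.trans (orderOf_pow_dvd 2))
    · intro g hg
      simp only [Finset.mem_coe, hmem] at hg ⊢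
      exact fun h => hg (h.trans (orderOf_pow_dvd _))
    · intro g hg
      simp only [Finset.mem_coe, hmem] at hg
      show (g * g) ^ ((orderOf (g * g) + 1) / 2) = g
      have ho : orderOf (g * g) = orderOf g := by
        rw [← pow_two]
        exact Nat.Coprime.orderOf_pow (Nat.prime_two.coprime_iff_not_dvd.2 hg).symm
      rw [ho, ← pow_two, ← pow_mul, Nat.mul_div_cancel' (by omega), pow_succ, pow_orderOf_eq_one,
        one_mul]
    · intro g hg
      simp only [Finset.mem_coe, hmem] at hg
      show g ^ ((orderOf g + 1) / 2) * g ^ ((orderOf g + 1) / 2) = g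
      rw [← pow_add, ← two_mul, Nat.mul_div_cancel' (by omega), pow_succ, pow_orderOf_eq_one, one_mul]
  have htot : ∑ g : G, (χ : G → ℂ) (g * g) = (S.card : ℂ) * (χ : G → ℂ) 1 := by
    rw [← Finset.sum_filter_add_sum_filter_not Finset.univ (fun g : G => ¬ 2 ∣ orderOf g), hOsq,
      zero_add, ← nsmul_eq_mul, ← Finset.sum_const, hS]
    symm
    refine (Finset.sum_congr rfl fun g hg => ?_).trans (Finset.sum_subset (fun g hg => ?_)
      fun g hg hg' => ?_)
    · have := (Finset.mem_filter.1 hg).2
      rw [← pow_two, ← this, pow_orderOf_eq_one]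
    · simp only [Finset.mem_filter, Finset.mem_univ, true_and, not_not] at hg ⊢
      rw [hg]
    · simp only [Finset.mem_filter, Finset.mem_univ, true_and, not_not] at hg hg'
      refine hsq0 g hg fun h => hg' ?_
      rw [orderOf_eq_prime_iff]
      refine ⟨by rw [pow_two, h], fun h1 => ?_⟩
      rw [h1, orderOf_one] at hg
      exact absurd hg (by norm_num)
  have hnu : (Nat.card G : ℂ)⁻¹ * ∑ g : G, (χ : G → ℂ) (g * g) = 1 ∧
      S.card * d = Nat.card G := by
    have hS0 : S.card ≠ 0 := by
      obtain ⟨g, hg⟩ := exists_prime_orderOf_dvd_card' (G := G) 2 heven.two_dvd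
      exact Finset.card_ne_zero_of_mem (Finset.mem_filter.2 ⟨Finset.mem_univ g, hg⟩)
    have hval : nu (χ : G → ℂ) = ((S.card * d : ℕ) : ℂ) / (Nat.card G : ℂ) := by
      rw [nu, htot, Nat.cast_mul, hcast, inv_mul_eq_div]
    rcases nu_trichotomy χ with h | h | h
    · exfalso
      rw [hval, div_eq_zero_iff] at h
      rcases h with h | h
      · exact (Nat.mul_ne_zero hS0 hd0) (Nat.cast_eq_zero.1 h)
      · exact natCard_ne_zero h
    · refine ⟨h, ?_⟩
      rw [hval, div_eq_one_iff_eq natCard_ne_zero] at h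
      exact_mod_cast h
    · exfalso
      rw [hval, div_eq_iff natCard_ne_zero, neg_one_mul, eq_neg_iff_add_eq_zero, ← Nat.cast_add,
        Nat.cast_eq_zero, Nat.add_eq_zero_iff] at h
      exact Nat.card_pos.ne' h.2
  have hC : ∀ s : G, orderOf s = 2 → Nat.card (Subgroup.centralizer ({s} : Set G)) ∣ d := by
    intro s hs
    rw [← Nat.factorization_prime_le_iff_dvd Nat.card_pos.ne' hd0]
    intro p hpp
    rcases Nat.eq_zero_or_pos ((Nat.card (Subgroup.centralizer ({s} : Set G))).factorization p)
      with h0 | h0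
    · omega
    refine le_trans ((Nat.factorization_le_iff_dvd Nat.card_pos.ne' Nat.card_pos.ne').2
      (Subgroup.card_subgroup_dvd_card _) p) ?_
    refine (hpp.pow_dvd_iff_le_factorization hd0).1 (hfull p hpp ?_)
    rcases eq_or_ne p 2 with rfl | hne
    · exact ⟨s, by rw [hs], by rw [hs]⟩
    · haveI : Fact p.Prime := ⟨hpp⟩
      obtain ⟨⟨y, hy⟩, hyo⟩ := exists_prime_orderOf_dvd_card'
        (G := Subgroup.centralizer ({s} : Set G)) p (Nat.dvd_of_factorization_pos h0.ne')
      rw [Subgroup.orderOf_mk] at hyo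
      have hc : Commute s y := hy s rfl
      refine ⟨s * y, ?_⟩
      rw [hc.orderOf_mul_eq_mul_orderOf_of_coprime (by
        rw [hs, hyo]; exact (Nat.coprime_primes Nat.prime_two hpp).2 hne.symm), hs, hyo]
      exact ⟨dvd_mul_right _ _, dvd_mul_left _ _⟩
  have hcls : ∀ s : G, (Finset.univ.filter fun x : G => IsConj s x).card =
      (Subgroup.centralizer ({s} : Set G)).index := fun s => card_filter_isConj s
  have hsub : ∀ s : G, orderOf s = 2 → (Finset.univ.filter fun x : G => IsConj s x) ⊆ S := by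
    intro s hs x hx
    obtain ⟨c, rfl⟩ := isConj_iff.1 (Finset.mem_filter.1 hx).2
    refine Finset.mem_filter.2 ⟨Finset.mem_univ _, ?_⟩
    rw [← hs]
    simpa using orderOf_injective (MulAut.conj c).toMonoidHom (MulAut.conj c).injective s
  have hfill : ∀ s : G, orderOf s = 2 → (Finset.univ.filter fun x : G => IsConj s x) = S ∧
      Nat.card (Subgroup.centralizer ({s} : Set G)) = d := by
    intro s hs
    have hle := Finset.card_le_card (hsub s hs)
    rw [hcls] at hle
    have hmul := Subgroup.card_mul_index (Subgroup.centralizer ({s} : Set G))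
    have hcd := Nat.le_of_dvd (Nat.pos_of_ne_zero hd0) (hC s hs)
    have hS2 := hnu.2
    have hidx : S.card ≤ (Subgroup.centralizer ({s} : Set G)).index := by
      by_contra hlt
      push Not at hlt
      have : Nat.card G < Nat.card G := by
        calc Nat.card G = Nat.card (Subgroup.centralizer ({s} : Set G)) *
              (Subgroup.centralizer ({s} : Set G)).index := hmul.symm
          _ ≤ d * (Subgroup.centralizer ({s} : Set G)).index := Nat.mul_le_mul_right _ hcd
          _ < d * S.card := Nat.mul_lt_mul_of_pos_left hlt (Nat.pos_of_ne_zero hd0)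
          _ = Nat.card G := by rw [mul_comm]; exact hS2
      exact lt_irrefl _ this
    refine ⟨Finset.eq_of_subset_of_card_le (hsub s hs) (by rw [hcls]; exact hidx), ?_⟩
    rw [← le_antisymm hidx hle] at hmul
    have hS0 : 0 < S.card := Finset.card_pos.2 ⟨s, Finset.mem_filter.2 ⟨Finset.mem_univ s, hs⟩⟩
    exact Nat.eq_of_mul_eq_mul_right hS0 (by rw [hmul, ← hS2, mul_comm])
  refine ⟨fun s t hs ht => ?_, fun s hs => ⟨(hfill s hs).2, ?_⟩, hnu.1⟩
  · have : t ∈ (Finset.univ.filter fun x : G => IsConj s x) := by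
      rw [(hfill s hs).1]; exact Finset.mem_filter.2 ⟨Finset.mem_univ t, ht⟩
    exact (Finset.mem_filter.1 this).2
  · rw [Nat.coprime_iff_gcd_eq_one]
    by_contra hne
    obtain ⟨p, hpp, hpd⟩ := Nat.exists_prime_and_dvd hne
    have h1 := hpd.trans (Nat.gcd_dvd_left _ _)
    have h2' := hpd.trans (Nat.gcd_dvd_right _ _)
    have hfp : p ^ (Nat.card G).factorization p ∣ d := by
      refine hfull p hpp ?_
      rcases eq_or_ne p 2 with rfl | hne2
      · exact ⟨s, by rw [hs], by rw [hs]⟩
      · haveI : Fact p.Prime := ⟨hpp⟩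
        obtain ⟨⟨y, hy⟩, hyo⟩ := exists_prime_orderOf_dvd_card'
          (G := Subgroup.centralizer ({s} : Set G)) p h1
        rw [Subgroup.orderOf_mk] at hyo
        have hc : Commute s y := hy s rfl
        refine ⟨s * y, ?_⟩
        rw [hc.orderOf_mul_eq_mul_orderOf_of_coprime (by
          rw [hs, hyo]; exact (Nat.coprime_primes Nat.prime_two hpp).2 hne2.symm), hs, hyo]
        exact ⟨dvd_mul_right _ _, dvd_mul_left _ _⟩
    rw [← (hfill s hs).2] at hfp
    have hbig : p ^ ((Nat.card G).factorization p + 1) ∣ Nat.card G := by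
      rw [pow_succ, ← Subgroup.card_mul_index (Subgroup.centralizer ({s} : Set G))]
      exact Nat.mul_dvd_mul (by rwa [Subgroup.card_mul_index]) h2'
    exact Nat.pow_succ_factorization_not_dvd Nat.card_pos.ne' hpp hbig

end Cfsg.Agent.S4478
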