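import Cfsg.Statements.S4480
import Cfsg.Agent.BlockCharsA.KleinOrder
import Cfsg.Agent.BlocksChars.IndicatorRestrict
import Cfsg.Agent.Lib.Blocks.GroupAlgebra

set_option autoImplicit false
open Cfsg Cfsg.Agent.Blocks Cfsg.Agent.Characters Cfsg.Agent.BlockCharsA
open scoped ComplexConjugate

namespace Cfsg.Agent.S4480

/-- Same setting as the Klein-four order formula: G of order 4·g₀ (g₀ odd) with no normal 2-complement, P a Sylow 2-subgroup, J an involution of P, M over 2, principal 2-block {1, χ₁, χ₂, χ₃} with χ_i(J) = ε_i = ±1. Suppose ε₁ε₂ε₃ = −1 and ε₃ = −1, and put q = x₃ = χ₃(1). Then there is a natural number m with 4·c(J) = m·c(P)·(q + 1), and the order of G equals (m³·c(P)/4)·(q³ − q)/2, that is 8·#G = m³·c(P)·(q³ − q). -/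
theorem result {G : Type*} [Group G] [Finite G] (M : Ideal Cfsg.AlgInt) (hM : Cfsg.IsPModular 2 M) (g₀ : ℕ) (hg₀ : Odd g₀) (hG : Nat.card G = 4 * g₀) (hnc : ¬ ∃ N : Subgroup G, N.Normal ∧ Nat.card N = g₀) (P : Sylow 2 G) (J : G) (hJ : J ∈ (P : Subgroup G)) (hJ2 : orderOf J = 2) (χ₁ χ₂ χ₃ : Cfsg.IrrCharacter G) (ε₁ ε₂ ε₃ : ℤ) (hB : Cfsg.principalBlock M G = {χ : Cfsg.IrrCharacter G | (χ : G → ℂ) = (fun _ => 1) ∨ χ = χ₁ ∨ χ = χ₂ ∨ χ = χ₃}) (hdist : (χ₁ : G → ℂ) ≠ (fun _ => 1) ∧ (χ₂ : G → ℂ) ≠ (fun _ => 1) ∧ (χ₃ : G → ℂ) ≠ (fun _ => 1) ∧ χ₁ ≠ χ₂ ∧ χ₁ ≠ χ₃ ∧ χ₂ ≠ χ₃) (hε : (ε₁ = 1 ∨ ε₁ = -1) ∧ (ε₂ = 1 ∨ ε₂ = -1) ∧ (ε₃ = 1 ∨ ε₃ = -1)) (hval : (χ₁ : G → ℂ) J = ε₁ ∧ (χ₂ : G → ℂ) J = ε₂ ∧ (χ₃ : G → ℂ) J = ε₃) (hprod : ε₁ * ε₂ * ε₃ = -1) (hε₃ : ε₃ = -1) : ∃ m : ℕ, 4 * Nat.card (Subgroup.centralizer ({J} : Set G)) = m * Nat.card (Subgroup.centralizer ((P : Subgroup G) : Set G)) * (Cfsg.charDegree (χ₃ : G → ℂ) + 1) ∧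 8 * Nat.card G = m ^ 3 * Nat.card (Subgroup.centralizer ((P : Subgroup G) : Set G)) * (Cfsg.charDegree (χ₃ : G → ℂ) ^ 3 - Cfsg.charDegree (χ₃ : G → ℂ)) := by
  classical
  haveI := Fintype.ofFinite G
  haveI := Fintype.ofFinite (Cfsg.IrrCharacter G)
  obtain ⟨hV, hone⟩ := KleinOrder.setting P hg₀ hG hnc
  obtain ⟨B', a', hmem', -, hval', h0, hS⟩ := KleinOrder.order_formula hM P hV hone hJ hJ2
  obtain ⟨B, a, hmem, -, -, hvals, -, hsum, hdeg⟩ := ZStar.KleinFour.principal P hV hone hM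
  obtain ⟨hd1, hd2, hd3, h12, h13, h23⟩ := hdist
  obtain ⟨hv1, hv2, hv3⟩ := hval
  have hne : ∀ χ : Cfsg.IrrCharacter G, (χ : G → ℂ) ≠ (fun _ => 1) → trivIrr G ≠ χ :=
    fun χ h e => h (by rw [← e]; rfl)
  have hn1 : trivIrr G ∉ ({χ₁, χ₂, χ₃} : Finset (Cfsg.IrrCharacter G)) := by
    simp [hne _ hd1, hne _ hd2, hne _ hd3]
  have hn2 : χ₁ ∉ ({χ₂, χ₃} : Finset (Cfsg.IrrCharacter G)) := by simp [h12, h13]
  have hn3 : χ₂ ∉ ({χ₃} : Finset (Cfsg.IrrCharacter G)) := by simp [h23]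
  have hJs : 2 ∣ orderOf J := by rw [hJ2]
  have hBeq : B = {trivIrr G, χ₁, χ₂, χ₃} := by
    ext χ; rw [hmem, hB]; simp [Subtype.ext_iff, trivIrr]
  have hBeq' : B' = B := by
    ext χ; rw [hmem', hmem]
  have haa : ∀ χ ∈ B, a' χ = a χ := fun χ hχ => by
    have := (hval' χ (hBeq' ▸ hχ)).symm.trans (hvals χ hχ J hJs)
    exact_mod_cast this
  have t1 : (trivIrr G : G → ℂ) 1 = 1 := rfl
  have b0 : a (trivIrr G) = 1 := by
    have := (hvals (trivIrr G) (by simp [hBeq]) J hJs).symm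
    simp only [trivIrr] at this
    exact_mod_cast this
  have b1 : a χ₁ = ε₁ := by exact_mod_cast ((hvals χ₁ (by simp [hBeq]) J hJs).symm.trans hv1)
  have b2 : a χ₂ = ε₂ := by exact_mod_cast ((hvals χ₂ (by simp [hBeq]) J hJs).symm.trans hv2)
  have b3 : a χ₃ = ε₃ := by exact_mod_cast ((hvals χ₃ (by simp [hBeq]) J hJs).symm.trans hv3)
  rw [hBeq', Finset.sum_congr rfl fun χ hχ => by rw [haa χ hχ]] at h0 hS
  rw [hBeq, Finset.sum_insert hn1, Finset.sum_insert hn2, Finset.sum_insert hn3,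
    Finset.sum_singleton, b0, b1, b2, b3, t1, ← charDegree_cast χ₁, ← charDegree_cast χ₂,
    ← charDegree_cast χ₃] at h0 hS
  have hx1 := charDegree_pos χ₁
  have hx2 := charDegree_pos χ₂
  have hx3 := charDegree_pos χ₃
  have hs12 : ε₁ = 1 ∧ ε₂ = 1 := by
    have h0' : (1 : ℤ) * 1 + (ε₁ * Cfsg.charDegree (χ₁ : G → ℂ) + (ε₂ * Cfsg.charDegree (χ₂ : G → ℂ) +
        ε₃ * Cfsg.charDegree (χ₃ : G → ℂ))) = 0 := by exact_mod_cast h0
    rcases hε.1 with e | e <;> rcases hε.2.1 with e' | e' <;> subst e e' hε₃ <;> simp at hprod h0' ⊢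
    omega
  obtain ⟨rfl, rfl⟩ := hs12
  subst hε₃
  -- indicators
  have hnu : ∑ χ ∈ B, (a χ : ℂ) * FrobeniusSchur.nu (χ : G → ℂ) = 0 := by
    simp only [FrobeniusSchur.nu, Finset.mul_sum]
    rw [Finset.sum_comm]
    refine Finset.sum_eq_zero fun s _ => ?_
    have h := hsum (s * s)
    rw [if_neg] at h
    · rw [Finset.sum_congr rfl fun χ _ => mul_left_comm _ _ _, ← Finset.mul_sum, h, mul_zero]
    · intro hd
      have h4 : 2 ∣ orderOf s := hd.trans (orderOf_dvd_of_pow_eq_one (by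
        rw [← sq, ← pow_mul, mul_comm, pow_mul, pow_orderOf_eq_one, one_pow]))
      have ho : orderOf (s * s) = orderOf s / 2 := by
        rw [← sq, orderOf_pow' s two_ne_zero, Nat.gcd_comm, Nat.gcd_eq_left h4]
      obtain ⟨w, hw, r, rfl, hc, -, hr⟩ := ZStar.KleinFour.singular_ppart P hV hone h4
      rw [ho, hc.orderOf_mul_eq_mul_orderOf_of_coprime
        (by rw [hw]; exact Nat.prime_two.coprime_iff_not_dvd.2 hr), hw,
        Nat.mul_div_cancel_left _ two_pos] at hd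
      exact hr hd
  have hodd : ∀ χ ∈ B, (∀ g : G, ((χ : G → ℂ) g).im = 0) → FrobeniusSchur.nu (χ : G → ℂ) = 1 := by
    intro χ hχ hr
    haveI := Fintype.ofFinite (⊥ : Subgroup G)
    obtain ⟨k, hk⟩ := hdeg χ hχ
    have hk' : (Cfsg.charDegree (χ : G → ℂ) : ℤ) = a χ + 4 * k := by
      rw [← charDegree_cast] at hk; exact_mod_cast hk
    have hao : Odd (a χ) := by
      rw [hBeq] at hχ
      simp only [Finset.mem_insert, Finset.mem_singleton] at hχ
      rcases hχ with rfl | rfl | rfl | rfl <;> simp [b0, b1, b2, b3]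
    have hod : Odd (Cfsg.charDegree (χ : G → ℂ)) := by
      have : Odd (Cfsg.charDegree (χ : G → ℂ) : ℤ) := by
        rw [hk']; exact hao.add_even (by exact ⟨2 * k, by ring⟩)
      exact_mod_cast this
    rw [BlocksChars.IndicatorRestrict.nu_eq_of_mult_odd ⊥ χ (trivIrr (⊥ : Subgroup G)) hr
      (fun _ => by simp [trivIrr]) hod ?_]
    · simp [FrobeniusSchur.nu, trivIrr]
    · rw [classInner_def, Fintype.sum_unique, Nat.card_unique, charDegree_cast]
      simp [trivIrr, Subgroup.mem_bot.1 (default : (⊥ : Subgroup G)).2]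
  -- conjugation preserves the block
  have hconj : ∀ χ ∈ B, FrobeniusSchur.conjIrr χ ∈ B ∧
      a (FrobeniusSchur.conjIrr χ) = a χ := by
    intro χ hχ
    have hval : ∀ g : G, (FrobeniusSchur.conjIrr χ : G → ℂ) g = conj ((χ : G → ℂ) g) := fun g => rfl
    have hin : FrobeniusSchur.conjIrr χ ∈ B := by
      rw [hmem]
      by_contra hno
      have h := ZStar.KleinFour.sum_singular_eq_zero P hV hone hM hno
      rw [Finset.sum_congr rfl fun g hg => by
        rw [hval, hvals χ hχ g (Finset.mem_filter.1 hg).2, map_intCast],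
        Finset.sum_const, nsmul_eq_mul] at h
      rcases mul_eq_zero.1 h with h | h
      · have := ZStar.KleinFour.four_mul_card_singular P hV hone
        rw [Nat.cast_eq_zero.1 h, mul_zero] at this
        exact Nat.card_pos.ne this
      · have ha0 : a χ = 0 := by exact_mod_cast h
        rw [hBeq] at hχ
        simp only [Finset.mem_insert, Finset.mem_singleton] at hχ
        rcases hχ with rfl | rfl | rfl | rfl <;> simp [b0, b1, b2, b3] at ha0
    refine ⟨hin, ?_⟩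
    have := (hvals _ hin J hJs).symm.trans ((hval J).trans (by rw [hvals χ hχ J hJs, map_intCast]))
    exact_mod_cast this
  have hreal : ∀ χ : Cfsg.IrrCharacter G, FrobeniusSchur.conjIrr χ = χ →
      ∀ g : G, ((χ : G → ℂ) g).im = 0 := fun χ h g => by
    have h1 := congrFun (congrArg Subtype.val h) g
    change conj ((χ : G → ℂ) g) = _ at h1
    exact Complex.conj_eq_iff_im.1 h1
  have h3r : FrobeniusSchur.conjIrr χ₃ = χ₃ := by
    obtain ⟨h, ha⟩ := hconj χ₃ (by simp [hBeq])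
    rw [hBeq] at h
    simp only [Finset.mem_insert, Finset.mem_singleton] at h
    rcases h with h | h | h | h <;> first | exact h | (rw [h] at ha; simp [b0, b1, b2, b3] at ha)
  have hnu3 := hodd χ₃ (by simp [hBeq]) (hreal _ h3r)
  have h1nr : ¬ ∀ g : G, ((χ₁ : G → ℂ) g).im = 0 := by
    intro hr
    rw [hBeq, Finset.sum_insert hn1, Finset.sum_insert hn2, Finset.sum_insert hn3,
      Finset.sum_singleton, b0, b1, b2, b3, hnu3, hodd χ₁ (by simp [hBeq]) hr,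
      hodd (trivIrr G) (by simp [hBeq]) (fun _ => by simp [trivIrr])] at hnu
    by_cases hr2 : ∀ g : G, ((χ₂ : G → ℂ) g).im = 0
    · rw [hodd χ₂ (by simp [hBeq]) hr2] at hnu
      norm_num at hnu
    · rw [FrobeniusSchur.nu_eq_zero_of_not_real χ₂ hr2] at hnu
      norm_num at hnu
  have hx : Cfsg.charDegree (χ₁ : G → ℂ) = Cfsg.charDegree (χ₂ : G → ℂ) := by
    obtain ⟨h, ha⟩ := hconj χ₁ (by simp [hBeq])
    rw [hBeq] at h
    simp only [Finset.mem_insert, Finset.mem_singleton] at h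
    rcases h with h | h | h | h
    · exfalso
      refine hd1 (funext fun g => ?_)
      have h1 := congrFun (congrArg Subtype.val h) g
      change conj ((χ₁ : G → ℂ) g) = 1 at h1
      simpa using congrArg conj h1
    · exact absurd (hreal _ h) h1nr
    · rw [← h]
      show ⌊((χ₁ : G → ℂ) 1).re⌋₊ = ⌊(conj ((χ₁ : G → ℂ) 1)).re⌋₊
      rw [Complex.conj_re]
    · rw [h] at ha; simp [b1, b3] at ha
  -- arithmetic
  set x := Cfsg.charDegree (χ₁ : G → ℂ) with hxdef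
  set q := Cfsg.charDegree (χ₃ : G → ℂ) with hqdef
  rw [← hx] at h0 hS
  set n := Nat.card G with hn
  set c := Nat.card (Subgroup.centralizer ({J} : Set G)) with hc
  set d := Nat.card (Subgroup.centralizer ((P : Subgroup G) : Set G)) with hd
  have hq : q = 2 * x + 1 := by
    have : (1 : ℤ) * 1 + (1 * x + (1 * x + (-1) * q)) = 0 := by exact_mod_cast h0
    omega
  have hxC : (x : ℂ) ≠ 0 := Nat.cast_ne_zero.2 hx1.ne'
  have hqC : (q : ℂ) ≠ 0 := Nat.cast_ne_zero.2 hx3.ne'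
  have hdC : (d : ℂ) ≠ 0 := Nat.cast_ne_zero.2 Nat.card_pos.ne'
  have key : n * (x + 1) ^ 2 * d ^ 2 = 4 * c ^ 3 * (x * q) := by
    have hqc : (q : ℂ) = 2 * x + 1 := by exact_mod_cast hq
    have : (n : ℂ) * ((x : ℂ) + 1) ^ 2 * (d : ℂ) ^ 2 = 4 * (c : ℂ) ^ 3 * ((x : ℂ) * q) := by
      push_cast at hS
      field_simp at hS
      rw [hqc] at hS ⊢
      have e : (2 : ℂ) * ((n : ℂ) * ((x : ℂ) + 1) ^ 2 * (d : ℂ) ^ 2) =
          2 * (4 * (c : ℂ) ^ 3 * ((x : ℂ) * (2 * x + 1))) := by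
        linear_combination hS
      exact mul_left_cancel₀ two_ne_zero e
    exact_mod_cast this
  obtain ⟨f, hf⟩ : d ∣ c := Subgroup.card_dvd_of_le fun g hg =>
    Subgroup.mem_centralizer_singleton_iff.2 ((Subgroup.mem_centralizer_iff.1 hg J hJ).symm)
  set i := (Subgroup.centralizer ({J} : Set G)).index with hi
  have hni : i * c = n := (Subgroup.centralizer ({J} : Set G)).index_mul_card
  have hdpos : 0 < d := Nat.card_pos
  have hcpos : 0 < c := Nat.card_pos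
  have hi' : i * (x + 1) ^ 2 = 4 * f ^ 2 * (x * q) := by
    refine Nat.eq_of_mul_eq_mul_right (Nat.mul_pos hcpos (pow_pos hdpos 2)) ?_
    calc i * (x + 1) ^ 2 * (c * d ^ 2) = i * c * (x + 1) ^ 2 * d ^ 2 := by ring
      _ = 4 * c ^ 3 * (x * q) := by rw [hni, key]
      _ = _ := by rw [hf]; ring
  have hdiv : ∀ χ : Cfsg.IrrCharacter G, ∀ e : ℤ, (e = 1 ∨ e = -1) →
      (χ : G → ℂ) J = (e : ℂ) → Cfsg.charDegree (χ : G → ℂ) ∣ i := by
    intro χ e he hv
    have h := centralChar_isIntegral χ J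
    rw [Cfsg.centralChar, hv, ← charDegree_cast] at h
    have h' : IsIntegral ℤ ((((i : ℚ) * (e : ℚ) / (Cfsg.charDegree (χ : G → ℂ) : ℚ)) : ℚ) : ℂ) := by
      push_cast; exact h
    obtain ⟨z, hz⟩ := exists_int_of_isIntegral_ratCast h'
    replace hz : (i : ℚ) * (e : ℚ) / (Cfsg.charDegree (χ : G → ℂ) : ℚ) = (z : ℚ) := by exact_mod_cast hz
    rw [div_eq_iff (Nat.cast_ne_zero.2 (charDegree_pos χ).ne')] at hz
    have hz' : (i : ℤ) * e = z * (Cfsg.charDegree (χ : G → ℂ) : ℤ) := by exact_mod_cast hz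
    rw [← Int.natCast_dvd_natCast]
    refine ⟨z * e, ?_⟩
    rcases he with rfl | rfl <;> linarith
  obtain ⟨i₁, hi₁⟩ : x ∣ i := hdiv χ₁ 1 (Or.inl rfl) hv1
  have h4 : (x + 1) ^ 2 ∣ 4 * f ^ 2 * q := ⟨i₁, by
    refine Nat.eq_of_mul_eq_mul_left hx1 ?_
    calc x * (4 * f ^ 2 * q) = 4 * f ^ 2 * (x * q) := by ring
      _ = i * (x + 1) ^ 2 := hi'.symm
      _ = _ := by rw [hi₁]; ring⟩
  have hcop : ((x + 1) ^ 2).Coprime q := Nat.Coprime.pow_left _ (by
    rw [hq, show 2 * x + 1 = x + (x + 1) by ring, Nat.coprime_add_self_right,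
      Nat.coprime_self_add_left]
    exact Nat.coprime_one_left x)
  have h5 : (x + 1) ∣ 2 * f := by
    rw [← Nat.pow_dvd_pow_iff two_ne_zero, mul_pow]
    exact hcop.dvd_of_dvd_mul_right h4
  obtain ⟨m, hm⟩ := h5
  refine ⟨m, ?_, ?_⟩
  · rw [hf, hq]
    calc 4 * (d * f) = 2 * d * (2 * f) := by ring
      _ = _ := by rw [hm]; ring
  · have hq3 : q ^ 3 - q = 4 * x * (x + 1) * q := Nat.sub_eq_of_eq_add (by rw [hq]; ring)
    have hi2 : i = m ^ 2 * (x * q) := by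
      refine Nat.eq_of_mul_eq_mul_right (pow_pos (show 0 < x + 1 by omega) 2) ?_
      show i * (x + 1) ^ 2 = _
      rw [hi', show 4 * f ^ 2 = (2 * f) ^ 2 by ring, hm]
      ring
    rw [hq3, ← hni, hi2, hf]
    calc 8 * (m ^ 2 * (x * q) * (d * f)) = 4 * m ^ 2 * (x * q) * d * (2 * f) := by ring
      _ = _ := by rw [hm]; ring

end Cfsg.Agent.S4480
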