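import Cfsg.Statements.S4484
import Mathlib
import Cfsg.Agent.BlocksChars.Arc.FewValues
import Cfsg.Agent.BlocksChars.Arc.Pigeon
import Cfsg.Agent.BlocksChars.PrimeDegrees
import Cfsg.Agent.Lib.Characters.Burnside

set_option autoImplicit false
open Cfsg

namespace Cfsg.Agent.S4484

/-- A refinement of Burnside's result on simple groups of order divisible by only two primes. Let G be a finite simple group of order p^a · q^b · g₀ with p, q distinct primes, a > 0, g₀ coprime to p and q, and the order of G different from p. Then g₀ − 1 > log p / log 6, that is 6^(g₀ − 1) > p. -/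
theorem result {G : Type*} [Group G] [Finite G] [IsSimpleGroup G] (p q a b g₀ : ℕ) (hp : p.Prime) (hq : q.Prime) (hpq : p ≠ q) (ha : 0 < a) (hg : Nat.card G = p ^ a * q ^ b * g₀) (hcop : ¬ p ∣ g₀) (hcoq : ¬ q ∣ g₀) (hne : Nat.card G ≠ p) : p < 6 ^ (g₀ - 1) := by
  classical
  haveI := Fact.mk hp
  haveI := Fintype.ofFinite G
  by_contra! hle
  have hg0 : g₀ ≠ 0 := fun h => by
    rw [h, mul_zero] at hg; exact Nat.card_pos.ne' hg
  have hlt : 6 ^ (g₀ - 1) < p := by
    refine lt_of_le_of_ne hle fun h => ?_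
    rcases Nat.eq_zero_or_pos (g₀ - 1) with h0 | h0
    · rw [h0, pow_zero] at h; exact hp.one_lt.ne h
    · have h6 : 6 ∣ p := h ▸ dvd_pow_self 6 h0.ne'
      rcases hp.eq_one_or_self_of_dvd 2 (dvd_trans (by norm_num) h6) with h2 | h2
      · omega
      · rw [← h2] at h6; norm_num at h6
  have hpdvd : p ∣ Nat.card G := hg ▸ (((dvd_pow_self p ha.ne').mul_right _).mul_right _)
  have hnc : ¬ ∀ u v : G, u * v = v * u := fun h =>
    hne ((Nat.prime_dvd_prime_iff_eq hp (Cfsg.Agent.Characters.prime_card_of_simple_of_comm h)).1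
      hpdvd).symm
  obtain ⟨P⟩ : Nonempty (Sylow p G) := inferInstance
  haveI : Nontrivial P := by
    rw [← Finite.one_lt_card_iff_nontrivial]
    exact lt_of_lt_of_le hp.one_lt (Nat.le_of_dvd Nat.card_pos (P.dvd_card_of_dvd_card hpdvd))
  obtain ⟨z, hz⟩ : ∃ z : Subgroup.center P, orderOf z = p := by
    refine exists_prime_orderOf_dvd_card' p ?_
    obtain ⟨k, hk⟩ := (P.isPGroup'.to_subgroup (Subgroup.center P)).exists_card_eq
    haveI := P.isPGroup'.center_nontrivial
    rw [hk]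
    refine dvd_pow_self p fun h0 => ?_
    have := Finite.one_lt_card (α := Subgroup.center P)
    rw [hk, h0, pow_zero] at this
    exact lt_irrefl 1 this
  set x : G := ((z : P) : G) with hx
  have hxo : orderOf x = p := by
    rw [hx, Subgroup.orderOf_coe, Subgroup.orderOf_coe, hz]
  have hxP : (P : Subgroup G) ≤ Subgroup.centralizer ({x} : Set G) := fun u hu => by
    rw [Subgroup.mem_centralizer_singleton_iff]
    exact congrArg Subtype.val (Subgroup.mem_center_iff.1 z.2 ⟨u, hu⟩)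
  obtain ⟨M, hM⟩ := Cfsg.Agent.BlockCharsA.DefectZeroVanish.exists_modular hp
  obtain ⟨χ, hχB, hχne, hχx, hχq⟩ := Cfsg.Agent.BlocksChars.Arc.exists_principal_char hM hq hxo
  obtain ⟨hfaith, -⟩ := Cfsg.Agent.BlocksChars.PrimeDegrees.simple_irr hnc hχne
  obtain ⟨e, he, he0, hedvd⟩ := Cfsg.Agent.Characters.irr_degree_dvd_card χ.2
  obtain ⟨i, m, hm, hem⟩ := Nat.exists_eq_pow_mul_and_not_dvd he0.ne' p hp.ne_one
  have hmg : m ∣ g₀ := by
    have h1 : m ∣ p ^ a * q ^ b * g₀ := hg ▸ (hem ▸ dvd_mul_left m (p ^ i)).trans hedvd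
    have c1 : Nat.Coprime m (p ^ a) := ((hp.coprime_iff_not_dvd.2 hm).symm).pow_right a
    have c2 : Nat.Coprime m (q ^ b) := ((hq.coprime_iff_not_dvd.2
      fun h => hχq e he (hem ▸ h.trans (dvd_mul_left m _))).symm).pow_right b
    exact (c1.mul_right c2).dvd_of_dvd_mul_left h1
  rw [hem] at he
  obtain ⟨d, ρ, hρ, hρχ⟩ := χ.2
  let R₀ : G →* Matrix (Fin d) (Fin d) ℂ :=
    (LinearMap.toMatrixAlgEquiv' (R := ℂ) (n := Fin d)).toMulEquiv.toMonoidHom.comp ρ
  have hR₀ : ∀ g, (R₀ g).trace = ρ.character g := fun g =>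
    ((LinearMap.trace_eq_matrix_trace ℂ (Pi.basisFun ℂ (Fin d)) (ρ g)).trans
      (by rw [LinearMap.toMatrix_eq_toMatrix']; rfl)).symm
  obtain ⟨R, hR, htr'⟩ := Cfsg.Agent.BlocksChars.Arc.exists_unitary_trace R₀
  have htr : ∀ g, (R g).trace = (χ : G → ℂ) g := fun g => by rw [htr', hR₀, hρχ]
  have hinj : Function.Injective R := fun g h eq => by
    have e1 : R (g⁻¹ * h) = R 1 := by rw [map_mul, ← eq, ← map_mul, inv_mul_cancel]
    exact inv_mul_eq_one.1 (hfaith _ (by rw [← htr, e1, htr]))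
  letI : CommGroup (Subgroup.zpowers x) :=
    { (inferInstance : Group (Subgroup.zpowers x)) with
      mul_comm := fun u v => Subtype.ext (by
        obtain ⟨i, hi⟩ := Subgroup.mem_zpowers_iff.1 u.2
        obtain ⟨j, hj⟩ := Subgroup.mem_zpowers_iff.1 v.2
        rw [Subgroup.coe_mul, Subgroup.coe_mul, ← hi, ← hj, ← zpow_add, ← zpow_add, add_comm]) }
  haveI := Fintype.ofFinite (Subgroup.zpowers x)
  let RK : Subgroup.zpowers x →* Matrix (Fin d) (Fin d) ℂ := R.comp (Subgroup.zpowers x).subtype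
  have hRK : ∀ k, (RK k).conjTranspose * RK k = 1 := fun k => hR k
  have hK : Fintype.card (Subgroup.zpowers x) = p := by
    rw [← Nat.card_eq_fintype_card, Nat.card_zpowers, hxo]
  have hKcard : Nat.card (Subgroup.zpowers x) = p := by rw [Nat.card_eq_fintype_card, hK]
  have hgen : ∀ k : Subgroup.zpowers x, k ≠ 1 → ∀ l, ∃ s : ℕ, k ^ s = l := fun k hk l => by
    obtain ⟨s, hs⟩ := mem_powers_of_prime_card hKcard hk (g' := l)
    exact ⟨s, hs⟩
  have hcard := Cfsg.Agent.BlocksChars.Arc.card_active_le_of_dvd hM hχB hm he hK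
    (Subgroup.zpowers x).subtype (fun k hk hdvd => P.not_dvd_index (hdvd.trans
      (Subgroup.index_dvd_of_le (fun u hu => by
        rw [Subgroup.mem_centralizer_singleton_iff]
        obtain ⟨s, hs⟩ := hgen ⟨x, Subgroup.mem_zpowers x⟩ (fun h => by
          have h' : x = 1 := congrArg Subtype.val h
          rw [h', orderOf_one] at hxo; exact hp.one_lt.ne hxo) k
        rw [← hs]
        exact ((Commute.pow_right (Subgroup.mem_centralizer_singleton_iff.1 (hxP hu)) s)).eq))))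
    RK hRK (fun k => htr k)
  have hd0 : d ≠ 0 := fun h => by
    have := Cfsg.Agent.Characters.irr_one_ne_zero χ.2
    rw [← htr, map_one, Matrix.trace_one, Fintype.card_fin, h, Nat.cast_zero] at this
    exact this rfl
  obtain ⟨θ₀, hθ₀⟩ : ∃ θ, Cfsg.Agent.CharP.JordanBound.proj RK θ ≠ 0 := by
    by_contra! h
    have h1 := Cfsg.Agent.CharP.JordanBound.sum_proj RK
    rw [Finset.sum_eq_zero fun θ _ => h θ] at h1
    have := congrArg Matrix.trace h1
    rw [Matrix.trace_zero, Matrix.trace_one, Fintype.card_fin, eq_comm, Nat.cast_eq_zero] at this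
    exact hd0 this
  let S := {θ : Subgroup.zpowers x →* ℂˣ // Cfsg.Agent.CharP.JordanBound.proj RK θ ≠ 0}
  let T := {θ : S // θ ≠ ⟨θ₀, hθ₀⟩}
  let x₀ : Subgroup.zpowers x := ⟨x, Subgroup.mem_zpowers x⟩
  have hT : 6 ^ Fintype.card T < p := by
    refine lt_of_le_of_lt (Nat.pow_le_pow_right (by norm_num) ?_) hlt
    have h1 : Fintype.card T = Fintype.card S - 1 := by
      simp only [T, Fintype.card_subtype_compl, Fintype.card_subtype_eq]
    have h2 : Fintype.card S ≤ g₀ := by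
      rw [← Nat.card_eq_fintype_card]
      exact hcard.trans (Nat.le_of_dvd (Nat.pos_of_ne_zero hg0) hmg)
    omega
  have hroot : ∀ θ : Subgroup.zpowers x →* ℂˣ, θ x₀ ^ p = 1 := fun θ => by
    rw [← map_pow, ← hK, pow_card_eq_one, map_one]
  obtain ⟨s, hs0, hsp, hs⟩ := Cfsg.Agent.BlocksChars.Arc.exists_pow_near hp
    (fun t : T => ((t.1.1 x₀ / θ₀ x₀ : ℂˣ) : ℂ))
    (fun t => by rw [← Units.val_pow_eq_pow_val, div_pow, hroot, hroot, div_one, Units.val_one]) hT
  set k₁ : Subgroup.zpowers x := x₀ ^ s with hk₁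
  have hk₁1 : k₁ ≠ 1 := fun h => by
    have h' : x ^ s = 1 := congrArg Subtype.val h
    exact Nat.not_dvd_of_pos_of_lt hs0 hsp (hxo ▸ orderOf_dvd_of_pow_eq_one h')
  have hnorm : Complex.normSq (θ₀ k₁ : ℂ) = 1 := by
    rw [Complex.normSq_eq_norm_sq, Cfsg.Agent.CharP.JordanBound.norm_theta, one_pow]
  have hclose : ∀ θ, Cfsg.Agent.CharP.JordanBound.proj RK θ ≠ 0 →
      Complex.normSq ((θ k₁ : ℂ) - (θ₀ k₁ : ℂ)) < 1 := by
    intro θ hθ
    by_cases h : θ = θ₀
    · rw [h, sub_self, map_zero]; exact one_pos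
    have h1 := hs ⟨⟨θ, hθ⟩, fun e => h (congrArg Subtype.val e)⟩
    rw [← Units.val_pow_eq_pow_val, div_pow, ← map_pow, ← map_pow, ← hk₁,
      Units.val_div_eq_div_val] at h1
    calc Complex.normSq ((θ k₁ : ℂ) - (θ₀ k₁ : ℂ))
        = Complex.normSq (θ₀ k₁ : ℂ) * Complex.normSq ((θ k₁ : ℂ) / (θ₀ k₁ : ℂ) - 1) := by
          rw [← map_mul, mul_sub, mul_div_cancel₀ _ (Units.ne_zero _), mul_one]
      _ < 1 := by rw [hnorm, one_mul]; exact h1
  let c : ℝ := (insert (0 : ℝ) ((Finset.univ : Finset S).image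
    fun θ => Complex.normSq ((θ.1 k₁ : ℂ) - (θ₀ k₁ : ℂ)))).max' (Finset.insert_nonempty _ _)
  have hc1 : c < 1 := by
    rw [Finset.max'_lt_iff]
    intro t ht
    rcases Finset.mem_insert.1 ht with rfl | ht
    · exact one_pos
    obtain ⟨θ, -, rfl⟩ := Finset.mem_image.1 ht
    exact hclose θ.1 θ.2
  have hc0 : 0 ≤ c := Finset.le_max' _ _ (Finset.mem_insert_self _ _)
  set Pj := Cfsg.Agent.CharP.JordanBound.proj RK θ₀ with hPj
  have hnear : ∀ X, Cfsg.Agent.CharP.JordanBound.frob (R k₁ * X - (θ₀ k₁ : ℂ) • X)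
      ≤ c * Cfsg.Agent.CharP.JordanBound.frob (X - Pj * X) := by
    intro X
    have h1 : R k₁ * X - (θ₀ k₁ : ℂ) • X = ∑ θ : Subgroup.zpowers x →* ℂˣ,
        ((θ k₁ : ℂ) - (θ₀ k₁ : ℂ)) • (Cfsg.Agent.CharP.JordanBound.proj RK θ * X) := by
      simp only [sub_smul, Finset.sum_sub_distrib, ← Finset.smul_sum, ← Matrix.smul_mul,
        ← Finset.sum_mul, ← Cfsg.Agent.CharP.JordanBound.decompose]
      rw [Cfsg.Agent.CharP.JordanBound.sum_proj, Matrix.smul_mul, Matrix.one_mul]
      rfl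
    have h2 : X - Pj * X = ∑ θ : Subgroup.zpowers x →* ℂˣ,
        (if θ = θ₀ then (0 : ℂ) else 1) • (Cfsg.Agent.CharP.JordanBound.proj RK θ * X) := by
      conv_lhs => arg 1; rw [← Matrix.one_mul X, ← Cfsg.Agent.CharP.JordanBound.sum_proj RK,
        Finset.sum_mul]
      rw [← Finset.sum_erase_add _ _ (Finset.mem_univ θ₀), add_sub_cancel_right,
        ← Finset.sum_erase_add (f := fun θ : Subgroup.zpowers x →* ℂˣ =>
          (if θ = θ₀ then (0 : ℂ) else 1) • (Cfsg.Agent.CharP.JordanBound.proj RK θ * X))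
          _ (Finset.mem_univ θ₀),
        if_pos rfl, zero_smul, add_zero]
      exact Finset.sum_congr rfl fun θ hθ => by
        rw [if_neg (Finset.ne_of_mem_erase hθ), one_smul]
    rw [h1, h2, Cfsg.Agent.CharP.JordanBound.frob_sum_left RK hRK,
      Cfsg.Agent.CharP.JordanBound.frob_sum_left RK hRK, Finset.mul_sum]
    refine Finset.sum_le_sum fun θ _ => ?_
    by_cases hθ : Cfsg.Agent.CharP.JordanBound.proj RK θ = 0
    · rw [hθ, Matrix.zero_mul]; simp [Cfsg.Agent.CharP.JordanBound.frob]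
    by_cases h : θ = θ₀
    · rw [h, sub_self, if_pos rfl, map_zero, zero_mul, mul_zero]
    · rw [if_neg h, map_one, one_mul]
      have hle' : Complex.normSq ((θ k₁ : ℂ) - (θ₀ k₁ : ℂ)) ≤ c :=
        Finset.le_max' (insert (0 : ℝ) ((Finset.univ : Finset S).image
          fun θ => Complex.normSq ((θ.1 k₁ : ℂ) - (θ₀ k₁ : ℂ)))) _
          (Finset.mem_insert_of_mem (Finset.mem_image.2 ⟨(⟨θ, hθ⟩ : S), Finset.mem_univ _, rfl⟩))
      exact mul_le_mul_of_nonneg_right hle' (Cfsg.Agent.CharP.JordanBound.frob_nonneg _)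
  have hpoly : ∀ Y, R k₁ * Y = Y * R k₁ → Pj * Y = Y * Pj := by
    intro Y hY
    have hall : ∀ l : Subgroup.zpowers x, RK l * Y = Y * RK l := fun l => by
      obtain ⟨t, rfl⟩ := hgen k₁ hk₁1 l
      rw [map_pow]
      exact (Commute.pow_left (show Commute (RK k₁) Y from hY) t).eq
    rw [hPj, Cfsg.Agent.CharP.JordanBound.proj, Matrix.smul_mul, Matrix.mul_smul, Finset.sum_mul,
      Finset.mul_sum]
    exact congrArg _ (Finset.sum_congr rfl fun l _ => by
      rw [Matrix.smul_mul, Matrix.mul_smul, hall])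
  have hPh := Cfsg.Agent.CharP.JordanBound.proj_herm RK hRK θ₀
  have hPi := Cfsg.Agent.CharP.JordanBound.proj_mul_self RK θ₀
  have hxP' : R k₁ * Pj = (θ₀ k₁ : ℂ) • Pj :=
    Cfsg.Agent.CharP.JordanBound.mul_proj RK θ₀ k₁
  have hcomm := Cfsg.Agent.BlocksChars.Arc.commute_proj_conj R hR (k₁ : G) (θ₀ k₁ : ℂ) hnorm Pj hPh
    hPi hxP' c hc1 hc0 hnear hpoly
  let St : Subgroup G :=
    { carrier := {g | R g * Pj = Pj * R g}
      one_mem' := by simp
      mul_mem' := fun {u v} hu hv => by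
        show R (u * v) * Pj = Pj * R (u * v)
        rw [map_mul, Matrix.mul_assoc, show R v * Pj = Pj * R v from hv, ← Matrix.mul_assoc,
          show R u * Pj = Pj * R u from hu, Matrix.mul_assoc]
      inv_mem' := fun {u} hu => by
        show R u⁻¹ * Pj = Pj * R u⁻¹
        calc R u⁻¹ * Pj = R u⁻¹ * (Pj * R u) * R u⁻¹ := by
              rw [Matrix.mul_assoc, Matrix.mul_assoc, ← map_mul, mul_inv_cancel, map_one,
                Matrix.mul_one]
          _ = R u⁻¹ * (R u * Pj) * R u⁻¹ := by rw [show R u * Pj = Pj * R u from hu]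
          _ = Pj * R u⁻¹ := by rw [← Matrix.mul_assoc, ← map_mul, inv_mul_cancel, map_one,
                Matrix.one_mul] }
  have hN : Subgroup.normalClosure {(k₁ : G)} = ⊤ := by
    refine (Subgroup.normalClosure_normal.eq_bot_or_eq_top).resolve_left fun h => hk₁1 ?_
    have : (k₁ : G) ∈ Subgroup.normalClosure {(k₁ : G)} := Subgroup.subset_normalClosure rfl
    rw [h, Subgroup.mem_bot] at this
    exact Subtype.ext this
  have hall : ∀ g, R g * Pj = Pj * R g := fun g => by
    have hle : Subgroup.normalClosure {(k₁ : G)} ≤ St := (Subgroup.closure_le _).2 fun u hu => by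
      simp only [Group.mem_conjugatesOfSet_iff, Set.mem_singleton_iff, exists_eq_left, isConj_iff]
        at hu
      obtain ⟨v, rfl⟩ := hu
      exact hcomm v
    exact hle (hN ▸ Subgroup.mem_top g)
  obtain ⟨c', hc'⟩ := Cfsg.Agent.BlocksChars.Arc.eq_smul_one_of_commute R χ.2 htr hall
  have hone : c' = 1 := by
    have h := hPi
    rw [← hPj, hc', Matrix.smul_mul, Matrix.one_mul, smul_smul] at h
    haveI : Nonempty (Fin d) := Fin.pos_iff_nonempty.1 (Nat.pos_of_ne_zero hd0)
    have h' : c' * c' = c' := smul_left_injective ℂ one_ne_zero h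
    rcases eq_or_ne c' 0 with h0 | h0
    · exact absurd (hc'.trans (by rw [h0, zero_smul])) hθ₀
    · exact mul_left_cancel₀ h0 (by rw [h', mul_one])
  rw [hone, one_smul] at hc'
  rw [hc', Matrix.mul_one] at hxP'
  have hcen : (k₁ : G) ∈ Subgroup.center G := Subgroup.mem_center_iff.2 fun g => hinj (by
    rw [map_mul, map_mul, hxP', Matrix.mul_smul, Matrix.smul_mul, Matrix.mul_one, Matrix.one_mul])
  rcases (inferInstance : (Subgroup.center G).Normal).eq_bot_or_eq_top with h | h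
  · rw [h, Subgroup.mem_bot] at hcen
    exact hk₁1 (Subtype.ext hcen)
  · exact hnc fun u v => Subgroup.mem_center_iff.1 (h ▸ Subgroup.mem_top v) u

end Cfsg.Agent.S4484
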