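import Cfsg.Statements.S4488
import Cfsg.Agent.BlockCharsA.PBound.Rational
import Cfsg.Agent.BlocksChars.Degrees
import Cfsg.Agent.Lib.Characters.Galois

set_option autoImplicit false
open Cfsg

namespace Cfsg.Agent.S4488

/-- Let the finite group G have a faithful p-rational character χ of degree n (all values of χ lie in the field generated over ℚ by a root of unity of order prime to p), and let p^a be the order of a Sylow p-subgroup of G. Then a ≤ Σ_{i ≥ 0} ⌊n / ((p − 1)·p^i)⌋ (a finite sum; the terms vanish once (p − 1)p^i > n). -/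
theorem result {G : Type*} [Group G] [Finite G] (p : ℕ) (hp : p.Prime) (χ : G → ℂ) (hχ : Cfsg.IsCharacter G χ) (hfaith : ∀ g : G, χ g = χ 1 → g = 1) (hrat : (∃ r : ℕ, 0 < r ∧ ¬ p ∣ r ∧ ∀ g : G, χ g ∈ IntermediateField.adjoin ℚ ({Complex.exp (2 * Real.pi * Complex.I / r)} : Set ℂ))) (n : ℕ) (hn : Cfsg.charDegree χ = n) : (Nat.card G).factorization p ≤ ∑ i ∈ Finset.range (n + 1), n / ((p - 1) * p ^ i) := by
  classical
  haveI : Fact p.Prime := ⟨hp⟩
  obtain ⟨r, hr0, hrp, hvals⟩ := hrat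
  obtain ⟨P⟩ : Nonempty (Sylow p G) := inferInstance
  set a := (Nat.card G).factorization p with ha
  have hcardP : Nat.card (P : Subgroup G) = p ^ a := P.card_eq_multiplicity
  have hξ : Cfsg.IsCharacter (P : Subgroup G) (fun g => χ g) :=
    Cfsg.Agent.Characters.isCharacter_restrict _ hχ
  have hinv : ∀ k : ℕ, k.Coprime p → ∀ g : (P : Subgroup G), χ ((g ^ k : (P : Subgroup G)) : G) = χ g := by
    intro k hk g
    obtain ⟨m, ρ, hρ⟩ := hξ
    have hcop : (p ^ a).Coprime r := (hp.coprime_iff_not_dvd.mpr hrp).pow_left a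
    obtain ⟨K, hK1, hK2⟩ := Nat.chineseRemainder hcop k 1
    have hpos : 0 < p ^ a := pow_pos hp.pos a
    have hM : 0 < p ^ a * r := Nat.mul_pos hpos hr0
    set η := Complex.exp (2 * Real.pi * Complex.I / (p ^ a * r : ℕ)) with hη
    have hηp : IsPrimitiveRoot η (p ^ a * r) := Complex.isPrimitiveRoot_exp _ hM.ne'
    have hζr : η ^ (p ^ a) = Complex.exp (2 * Real.pi * Complex.I / r) := by
      rw [hη, ← Complex.exp_nat_mul]
      congr 1
      have h1 : ((p ^ a : ℕ) : ℂ) ≠ 0 := Nat.cast_ne_zero.mpr hpos.ne'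
      have h2 : (r : ℂ) ≠ 0 := Nat.cast_ne_zero.mpr hr0.ne'
      rw [Nat.cast_mul]
      field_simp
    have hζp : IsPrimitiveRoot (η ^ r) (p ^ a) := hηp.pow hM (mul_comm _ _)
    obtain ⟨P1, hP1⟩ := Cfsg.Agent.Characters.exists_poly_values ρ g hpos
      (by rw [← hcardP, pow_card_eq_one']) hζp
    have hv := hvals g
    rw [← hζr] at hv
    have hint : IsIntegral ℚ (η ^ (p ^ a)) :=
      ((hηp.isIntegral hM).tower_top).pow _
    rw [← IntermediateField.mem_toSubalgebra,
      IntermediateField.adjoin_simple_toSubalgebra_of_isAlgebraic hint.isAlgebraic,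
      Algebra.adjoin_singleton_eq_range_aeval] at hv
    obtain ⟨Q1, hQ1⟩ := hv
    replace hQ1 : Polynomial.aeval (η ^ (p ^ a)) Q1 = χ g := hQ1
    have hP11 := hP1 1
    rw [pow_one, pow_one, congrFun hρ g] at hP11
    have hKc : K.Coprime (p ^ a * r) := by
      refine Nat.Coprime.mul_right ?_ ?_
      · rw [Nat.coprime_iff_gcd_eq_one, hK1.gcd_eq, ← Nat.coprime_iff_gcd_eq_one]
        exact hk.pow_right a
      · rw [Nat.coprime_iff_gcd_eq_one, hK2.gcd_eq, Nat.gcd_one_left]
    have h0 := Cfsg.Agent.Characters.aeval_eq_rat_of_primitive hM hηp (hηp.pow_of_coprime K hKc)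
      (Q1.comp (Polynomial.X ^ (p ^ a)) - P1.comp (Polynomial.X ^ r)) (q := 0)
      (by simp [Polynomial.aeval_comp, hQ1, ← hP11])
    rw [map_sub, Polynomial.aeval_comp, Polynomial.aeval_comp, map_pow, map_pow, Polynomial.aeval_X,
      Rat.cast_zero, sub_eq_zero, ← pow_mul, mul_comm K, pow_mul, ← pow_mul η K, mul_comm K,
      pow_mul η r] at h0
    have e1 : (η ^ (p ^ a)) ^ K = η ^ (p ^ a) := by
      conv_rhs => rw [← pow_one (η ^ (p ^ a))]
      have hx := (hηp.pow hM rfl).pow_eq_one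
      rw [pow_eq_pow_mod K hx, pow_eq_pow_mod 1 hx, hK2]
    have e2 : (η ^ r) ^ K = (η ^ r) ^ k := by
      have hx := hζp.pow_eq_one
      rw [pow_eq_pow_mod K hx, pow_eq_pow_mod k hx, hK1]
    rw [e1, e2, hQ1, ← hP1, congrFun hρ] at h0
    exact h0.symm
  have hn1 : χ 1 = (n : ℂ) := by
    rw [← hn, Cfsg.Agent.BlocksChars.Degrees.charDegree_cast_of_isCharacter hχ]
  have h := Cfsg.Agent.BlockCharsA.PBound.rational_bound (e := a) hcardP.dvd hξ hinv (n := n) hn1
  have hbot : Cfsg.Agent.Characters.charKernel (fun g : (P : Subgroup G) => χ g) hξ = ⊥ := by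
    refine (Subgroup.eq_bot_iff_forall _).mpr fun x hx => Subtype.ext (hfaith x ?_)
    exact hx
  rw [hbot, Subgroup.index_bot, hcardP, hp.factorization_pow, Finsupp.single_eq_same,
    Cfsg.Agent.BlockCharsA.PBound.hfun_eq_sum p _ n (Nat.div_le_self _ _)] at h
  simpa only [Nat.div_div_eq_div_mul] using h

end Cfsg.Agent.S4488
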