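import Cfsg.Statements.S4489
import Cfsg.Agent.BlockCharsA.PBound.Induct
import Cfsg.Agent.BlockCharsA.PBound.Field
import Cfsg.Agent.BlocksChars.Degrees

set_option autoImplicit false
open Cfsg

namespace Cfsg.Agent.S4489

/-- Let P be a finite p-group of order p^a with a > 0, and χ a faithful irreducible character of P of degree f whose field of values ℚ(χ) has degree (p − 1)·p^t over ℚ. Then a ≤ (f − 1)/(p − 1) + (t + 1)·f; in integer form, (p − 1)·a ≤ (f − 1) + (p − 1)(t + 1)·f. -/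
theorem result {P : Type*} [Group P] [Finite P] (p a : ℕ) (hp : p.Prime) (ha : 0 < a) (hP : Nat.card P = p ^ a) (χ : Cfsg.IrrCharacter P) (hfaith : ∀ g : P, (χ : P → ℂ) g = (χ : P → ℂ) 1 → g = 1) (f t : ℕ) (hf : Cfsg.charDegree (χ : P → ℂ) = f) (hfield : Module.finrank ℚ (IntermediateField.adjoin ℚ (Set.range (χ : P → ℂ))) = (p - 1) * p ^ t) : (p - 1) * a ≤ (f - 1) + (p - 1) * (t + 1) * f := by
  classical
  haveI : Fact p.Prime := ⟨hp⟩
  haveI : NeZero (p ^ a) := ⟨pow_ne_zero _ hp.ne_zero⟩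
  haveI := Fintype.ofFinite P
  have hc := Cfsg.Agent.Characters.irr_isCharacter χ
  haveI : Nontrivial P := Finite.one_lt_card_iff_nontrivial.mp
    (hP ▸ Nat.one_lt_pow ha.ne' hp.one_lt)
  obtain ⟨g, hg⟩ := exists_ne (1 : P)
  have hf1 : (χ : P → ℂ) 1 = (f : ℂ) := by
    rw [← hf, Cfsg.Agent.BlocksChars.Degrees.charDegree_cast]
  obtain ⟨t', v, ht', hv, hb⟩ := Cfsg.Agent.BlockCharsA.PBound.bound (e := a) hP.dvd χ.2
    ⟨g, fun h => hg (hfaith g h)⟩ hf1
  rw [Cfsg.Agent.BlockCharsA.PBound.finrank_values hP.dvd hc, ht'] at hfield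
  have ht : t' = t := Nat.pow_right_injective hp.two_le
    (Nat.eq_of_mul_eq_mul_left (Nat.sub_pos_of_lt hp.one_lt) hfield)
  have hbot : Cfsg.Agent.Characters.charKernel (χ : P → ℂ)
      (Cfsg.Agent.Characters.isCharacter_of_isIrr χ.2) = ⊥ :=
    (Subgroup.eq_bot_iff_forall _).mpr fun x hx => hfaith x hx
  rw [hbot, Subgroup.index_bot, hP] at hv
  have hv' : a = v := Nat.pow_right_injective hp.two_le hv
  subst ht; subst hv'
  exact hb

end Cfsg.Agent.S4489
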