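import Cfsg.Statements.S4493
import Mathlib
import Cfsg.Agent.BlocksChars.ItoPSolvable
import Cfsg.Agent.Lib.PLocal.SolvableSeparable

set_option autoImplicit false
open Cfsg

namespace Cfsg.Agent.S4493

/-- Let G be a finite solvable group and p a prime. Then G has a normal abelian Sylow p-subgroup if and only if no irreducible character degree of G is divisible by p. -/
theorem result {G : Type*} [Group G] [Finite G] (hsolv : Group.IsSolvable G) (p : ℕ) (hp : p.Prime) : (∃ P : Subgroup G, P.Normal ∧ (∀ x ∈ P, ∀ y ∈ P, x * y = y * x) ∧ IsPGroup p P ∧ ¬ p ∣ P.index) ↔ ∀ χ : Cfsg.IrrCharacter G, ¬ p ∣ Cfsg.charDegree (χ : G → ℂ) := by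
  haveI : Fact p.Prime := ⟨hp⟩
  haveI : Group.IsSolvable G := hsolv
  have hps := PLocal.SolvableSeparable.isPSolvable_of_isSolvable p G
  constructor
  · rintro ⟨P, hPn, hPc, hPp, hPi⟩
    obtain ⟨m, hm⟩ := IsPGroup.iff_card.1 hPp
    have hcard : Nat.card P = p ^ (Nat.card G).factorization p := by
      rw [hm]
      congr 1
      rw [← P.index_mul_card, Nat.factorization_mul P.index_ne_zero_of_finite Nat.card_pos.ne',
        Finsupp.add_apply, Nat.factorization_eq_zero_of_not_dvd hPi, hm, hp.factorization_pow,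
        Finsupp.single_eq_same, zero_add]
    exact (BlocksChars.ItoPSolvable.normal_abelian_iff hps (Sylow.ofCard P hcard)).1
      ⟨by simpa using hPn, ⟨⟨fun a b => Subtype.ext (hPc a a.2 b b.2)⟩⟩⟩
  · intro h
    obtain ⟨S⟩ : Nonempty (Sylow p G) := inferInstance
    obtain ⟨hn, hc⟩ := (BlocksChars.ItoPSolvable.normal_abelian_iff hps S).2 h
    haveI := hn
    exact ⟨S, hn, fun a ha b hb => congrArg Subtype.val (hc.is_comm.comm ⟨a, ha⟩ ⟨b, hb⟩), S.2,
      S.not_dvd_index⟩

end Cfsg.Agent.S4493
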