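import Mathlib
import Cfsg.Statements.S4495
import Cfsg.Agent.BlockCharsA.SelfCentralizing

set_option autoImplicit false
open Cfsg

namespace Cfsg.Agent.S4495

open Cfsg.Agent.BlockCharsA.SelfCentralizing

/-- Let the finite group G contain an element x of prime order p with C_G(x) = ⟨x⟩, and let t be the number of conjugacy classes of elements of order p. If t ≠ p − 1 then the commutator subgroup has index at most (p − 1)/t; if t = p − 1 it has index exactly p. -/
theorem result {G : Type*} [Group G] [Finite G] (p : ℕ) (hp : p.Prime) (x : G) (hx : orderOf x = p) (hC : Subgroup.centralizer ({x} : Set G) = Subgroup.zpowers x) (t : ℕ) (ht : Nat.card {C : ConjClasses G // ∃ g ∈ C.carrier, orderOf g = p} = t) : (t ≠ p - 1 → (commutator G).index * t ≤ p - 1) ∧ (t = p - 1 → (commutator G).index = p) := by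
  haveI := Fact.mk hp
  have hte := count_classes hx hC
  rw [ht] at hte
  constructor
  · intro hne
    have he : eIdx x ≠ 1 := fun h => hne (by rw [h, mul_one] at hte; exact hte)
    have hd : p ∣ Nat.card (commutator G) := by
      by_contra h
      exact he ((eIdx_eq_one_iff hx hC).2 h)
    obtain ⟨P, hP⟩ := exists_sylow hx hC
    have h1 : (commutator G).index ∣ eIdx x :=
      index_dvd_eIdx hx P hP (mem_of_dvd hx hC inferInstance hd)
    calc (commutator G).index * t ≤ eIdx x * t :=
          Nat.mul_le_mul_right t (Nat.le_of_dvd (eIdx_pos (p := p) hx) h1)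
      _ = p - 1 := by rw [mul_comm, hte]
  · intro he
    have hpos : 0 < p - 1 := Nat.sub_pos_of_lt hp.one_lt
    have he1 : eIdx x = 1 := by
      rw [he] at hte
      exact Nat.eq_of_mul_eq_mul_left hpos (hte.trans (mul_one _).symm)
    exact (commutator_eq_pPrimeCore hx hC he1).2

end Cfsg.Agent.S4495
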