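import Mathlib
import Cfsg.Statements.S4497
import Cfsg.Agent.BlockCharsA.SelfCentralizing

set_option autoImplicit false
open Cfsg

namespace Cfsg.Agent.S4497

open Cfsg.Agent.BlockCharsA.SelfCentralizing
open scoped commutatorElement

/-- Let the finite group G contain an element x of prime order p with C_G(x) = ⟨x⟩, let t be the number of conjugacy classes of elements of order p, and let S* = O_{p′}(G) be the largest normal subgroup of order prime to p. Then S* ≤ G′; if t ≠ p − 1 the quotient G′/S* is simple (in particular non-trivial); if t = p − 1 then G′ = S*. -/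
theorem result {G : Type*} [Group G] [Finite G] (p : ℕ) (hp : p.Prime) (x : G) (hx : orderOf x = p) (hC : Subgroup.centralizer ({x} : Set G) = Subgroup.zpowers x) (t : ℕ) (ht : Nat.card {C : ConjClasses G // ∃ g ∈ C.carrier, orderOf g = p} = t) : Cfsg.pPrimeCore p G ≤ commutator G ∧ (t ≠ p - 1 → ∀ h : ((Cfsg.pPrimeCore p G).subgroupOf (commutator G)).Normal, IsSimpleGroup (↥(commutator G) ⧸ (Cfsg.pPrimeCore p G).subgroupOf (commutator G))) ∧ (t = p - 1 → commutator G = Cfsg.pPrimeCore p G) := by
  haveI := Fact.mk hp
  have hte := count_classes hx hC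
  rw [ht] at hte
  have hO : ¬ p ∣ Nat.card (Cfsg.pPrimeCore p G) := Cfsg.Agent.Cores.pPrimeCore_not_dvd p
  have hOle : Cfsg.pPrimeCore p G ≤ commutator G := le_commutator hx hC inferInstance hO
  refine ⟨hOle, ?_, ?_⟩
  · intro hne h
    have he : eIdx x ≠ 1 := fun h => hne (by rw [h, mul_one] at hte; exact hte)
    have hd : p ∣ Nat.card (commutator G) := by
      by_contra h
      exact he ((eIdx_eq_one_iff hx hC).2 h)
    have hxD := mem_of_dvd hx hC inferInstance hd
    set O := (Cfsg.pPrimeCore p G).subgroupOf (commutator G)
    -- the only normal subgroup of order prime to `p` above `O`, resp. containing `x`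
    have hxO : ∀ (M : Subgroup (commutator G)), M.Normal → O ≤ M → M = O ∨ M = ⊤ := by
      intro M hM hOM
      haveI := hM
      by_cases hpM : p ∣ Nat.card M
      · right
        have hxm : (⟨x, hxD⟩ : commutator G) ∈ M := by
          refine Cfsg.Agent.BlockCharsA.SelfCentralizing.mem_of_dvd (G := commutator G)
            (x := ⟨x, hxD⟩) (by rw [← Subgroup.orderOf_coe]; exact hx) ?_ hM hpM
          ext a
          rw [Subgroup.mem_centralizer_singleton_iff]
          constructor
          · intro ha
            obtain ⟨k, hk⟩ := Subgroup.mem_zpowers_iff.1 (mem_of_comm hx hC (congrArg Subtype.val ha))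
            exact Subgroup.mem_zpowers_iff.2 ⟨k, Subtype.ext (by simpa using hk)⟩
          · intro ha
            obtain ⟨k, rfl⟩ := Subgroup.mem_zpowers_iff.1 ha
            exact (Commute.zpow_self (⟨x, hxD⟩ : commutator G) k).eq
        -- `M` contains the derived subgroup
        have hcomm : commutator (commutator G) ≤ M :=
          ((Cfsg.Agent.S4496.result p hp (⟨x, hxD⟩ : commutator G)
            (by rw [← Subgroup.orderOf_coe]; exact hx) (by
              ext a
              rw [Subgroup.mem_centralizer_singleton_iff]
              constructor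
              · intro ha
                obtain ⟨k, hk⟩ := Subgroup.mem_zpowers_iff.1
                  (mem_of_comm hx hC (congrArg Subtype.val ha))
                exact Subgroup.mem_zpowers_iff.2 ⟨k, Subtype.ext (by simpa using hk)⟩
              · intro ha
                obtain ⟨k, rfl⟩ := Subgroup.mem_zpowers_iff.1 ha
                exact (Commute.zpow_self (⟨x, hxD⟩ : commutator G) k).eq) M).1 hpM)
        set D2 := (commutator (commutator G)).map (commutator G).subtype
        haveI : D2.Normal := by simp only [D2]; infer_instance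
        rw [Subgroup.eq_top_iff']
        intro a
        by_cases hd2 : p ∣ Nat.card D2
        · have hle : commutator G ≤ D2 := (Cfsg.Agent.S4496.result p hp x hx hC D2).1 hd2
          obtain ⟨b, hb, hba⟩ := hle a.2
          have : b = a := Subtype.ext hba
          exact hcomm (this ▸ hb)
        · have hle := comm_quotient_card hx hC hd2 hxD (fun u hu v hv =>
            ⟨⁅(⟨u, hu⟩ : commutator G), ⟨v, hv⟩⁆, Subgroup.commutator_mem_commutator
              (Subgroup.mem_top _) (Subgroup.mem_top _), by simp [map_commutatorElement]⟩) a.2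
          obtain ⟨b, ⟨b', hb', rfl⟩, c, hc, hbc⟩ := Subgroup.mem_sup_of_normal_left.1 hle
          obtain ⟨k, rfl⟩ := Subgroup.mem_zpowers_iff.1 hc
          have : a = b' * (⟨x, hxD⟩ : commutator G) ^ k := Subtype.ext (by simpa using hbc.symm)
          rw [this]
          exact M.mul_mem (hcomm hb') (M.zpow_mem hxm k)
      · left
        refine le_antisymm ?_ hOM
        intro a ha
        have h1 : M ≤ Cfsg.pPrimeCore p (commutator G) :=
          Cfsg.Agent.Cores.le_pPrimeCore (Nat.Coprime.symm (hp.coprime_iff_not_dvd.2 hpM))
        have h2 : (a : G) ∈ (Cfsg.pPrimeCore p (commutator G)).map (commutator G).subtype :=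
          ⟨a, h1 ha, rfl⟩
        rw [Cfsg.Agent.Cores.map_pPrimeCore_subtype_eq_inf p (commutator G)] at h2
        exact h2.1
    haveI : Nontrivial (↥(commutator G) ⧸ O) := by
      refine ⟨⟨QuotientGroup.mk ⟨x, hxD⟩, 1, fun h1 => hO ?_⟩⟩
      have h2 : x ∈ Cfsg.pPrimeCore p G := (QuotientGroup.eq_one_iff (⟨x, hxD⟩ : commutator G)).1 h1
      exact (dvd_of_eq (card_P (p := p) hx).symm).trans
        (Subgroup.card_dvd_of_le (Subgroup.zpowers_le.2 h2))
    refine { eq_bot_or_eq_top_of_normal := fun Q hQ => ?_ }
    rcases hxO (Q.comap (QuotientGroup.mk' O)) inferInstance (fun a ha => by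
      rw [Subgroup.mem_comap, QuotientGroup.mk'_apply, (QuotientGroup.eq_one_iff a).2 ha]
      exact one_mem Q) with h1 | h1
    · left
      rw [← Subgroup.map_comap_eq_self_of_surjective (QuotientGroup.mk'_surjective O) Q, h1,
        QuotientGroup.map_mk'_self]
    · right
      rw [← Subgroup.map_comap_eq_self_of_surjective (QuotientGroup.mk'_surjective O) Q, h1,
        Subgroup.map_top_of_surjective _ (QuotientGroup.mk'_surjective O)]
  · intro he
    have hpos : 0 < p - 1 := Nat.sub_pos_of_lt hp.one_lt
    rw [he] at hte
    exact (commutator_eq_pPrimeCore hx hC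
      (Nat.eq_of_mul_eq_mul_left hpos (hte.trans (mul_one _).symm))).1

end Cfsg.Agent.S4497
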