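import Cfsg.Statements.S4498
import Cfsg.Agent.Lib.Blocks.RegularSum

set_option autoImplicit false
open Cfsg

namespace Cfsg.Agent.S4498

open Cfsg.Agent.Blocks Cfsg.Agent.Characters ComplexConjugate

/-- Let p and q be distinct primes dividing the order of the finite group G, and suppose G has no element of order p·q. Fix maximal ideals M_p over p and M_q over q of the algebraic integers. Then the principal p-block and the principal q-block of G have a non-principal irreducible character in common. -/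
theorem result {G : Type*} [Group G] [Finite G] (p q : ℕ) [Fact p.Prime] [Fact q.Prime] (hpq : p ≠ q) (hp : p ∣ Nat.card G) (hq : q ∣ Nat.card G) (hno : ∀ g : G, orderOf g ≠ p * q) (Mp Mq : Ideal Cfsg.AlgInt) (hMp : Cfsg.IsPModular p Mp) (hMq : Cfsg.IsPModular q Mq) : ∃ χ : Cfsg.IrrCharacter G, (χ : G → ℂ) ≠ (fun _ => 1) ∧ χ ∈ Cfsg.principalBlock Mp G ∧ χ ∈ Cfsg.principalBlock Mq G := by
  classical
  letI := Fintype.ofFinite G
  haveI := Fintype.ofFinite (Cfsg.IrrCharacter G)
  obtain ⟨x, hx⟩ := exists_prime_orderOf_dvd_card' p hp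
  obtain ⟨y, hy⟩ := exists_prime_orderOf_dvd_card' q hq
  set A := Finset.univ.filter (fun χ : Cfsg.IrrCharacter G => χ ∈ Cfsg.principalBlock Mp G) with hA
  set B := Finset.univ.filter (fun χ : Cfsg.IrrCharacter G => χ ∈ Cfsg.principalBlock Mq G) with hB
  have key : ∀ (r : ℕ) (Mr : Ideal Cfsg.AlgInt), Cfsg.IsPModular r Mr → ∀ z g : G,
      r ∣ orderOf z → ¬ r ∣ orderOf g →
      ∑ χ ∈ Finset.univ.filter (fun χ : Cfsg.IrrCharacter G => χ ∈ Cfsg.principalBlock Mr G),
        (χ : G → ℂ) g * conj ((χ : G → ℂ) z) = 0 := by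
    intro r Mr hMr z g hz hg
    rw [← sum_block_reg_sing hMr (intEl_blockIdem hMr (isPBlock_principal Mr G)) hg hz,
      finsum_mem_eq_finite_toFinset_sum _ (Set.toFinite _)]
    exact Finset.sum_congr (by ext; simp) fun _ _ => rfl
  have hzero : ∀ g : G, (∑ χ ∈ A, (χ : G → ℂ) g * conj ((χ : G → ℂ) x)) *
      conj (∑ χ ∈ B, (χ : G → ℂ) g * conj ((χ : G → ℂ) y)) = 0 := by
    intro g
    by_cases hg : p ∣ orderOf g
    · have hgq : ¬ q ∣ orderOf g := by
        intro hgq
        have hd : p * q ∣ orderOf g :=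
          ((Nat.coprime_primes Fact.out Fact.out).2 hpq).mul_dvd_of_dvd_of_dvd hg hgq
        exact hno _ (orderOf_pow_orderOf_div (orderOf_pos g).ne' hd)
      rw [key q Mq hMq y g (by rw [hy]) hgq, map_zero, mul_zero]
    · rw [key p Mp hMp x g (by rw [hx]) hg, zero_mul]
  have hsum : ∑ χ ∈ A, ∑ ψ ∈ B, conj ((χ : G → ℂ) x) * (ψ : G → ℂ) y *
      Cfsg.classInner (χ : G → ℂ) (ψ : G → ℂ) = 0 := by
    have h0 : (Nat.card G : ℂ)⁻¹ * ∑ g : G, (∑ χ ∈ A, (χ : G → ℂ) g * conj ((χ : G → ℂ) x)) *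
        conj (∑ χ ∈ B, (χ : G → ℂ) g * conj ((χ : G → ℂ) y)) = 0 := by
      rw [Finset.sum_eq_zero fun g _ => hzero g, mul_zero]
    rw [← h0]
    simp only [classInner_def, map_sum, map_mul, Complex.conj_conj, Finset.sum_mul, Finset.mul_sum]
    symm
    rw [Finset.sum_comm (s := Finset.univ)]
    rw [Finset.sum_comm (s := A)]
    refine Finset.sum_congr rfl fun χ _ => ?_
    rw [Finset.sum_comm (s := Finset.univ)]
    refine Finset.sum_congr rfl fun ψ _ => ?_
    exact Finset.sum_congr rfl fun g _ => by ring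
  simp only [classInner_irr, mul_ite, mul_one, mul_zero, Finset.sum_ite_eq] at hsum
  by_contra hcon
  push Not at hcon
  rw [Finset.sum_eq_single (trivIrr G) (fun χ hχ hne => ?_) (fun h => absurd (Finset.mem_filter.2
    ⟨Finset.mem_univ _, trivIrr_mem_principal hMp⟩) h)] at hsum
  · rw [if_pos (Finset.mem_filter.2 ⟨Finset.mem_univ _, trivIrr_mem_principal hMq⟩)] at hsum
    simp [trivIrr] at hsum
  · rw [if_neg]
    intro hχB
    exact hcon χ (fun e => hne (Subtype.ext e)) (Finset.mem_filter.1 hχ).2 (Finset.mem_filter.1 hχB).2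

end Cfsg.Agent.S4498
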