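import Mathlib
import Cfsg.Statements.S4505
import Cfsg.Agent.BlockCharsA.DegreeSum

set_option autoImplicit false
open Cfsg

namespace Cfsg.Agent.S4505

open Cfsg.Agent.Blocks Cfsg.Agent.Characters Cfsg.Agent.BlockCharsA.DegreeSum


/-- Let G be a finite group, p a prime and M a maximal ideal of the algebraic integers containing p. For every σ, the number of p-blocks of defect exactly σ is at most the number of conjugacy classes of p-regular elements whose centralizer has order divisible by p^σ but not by p^(σ+1). -/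
theorem result {G : Type*} [Group G] [Finite G] (p : ℕ) [Fact p.Prime] (M : Ideal Cfsg.AlgInt) (hM : Cfsg.IsPModular p M) (σ : ℕ) : Nat.card {B : Set (Cfsg.IrrCharacter G) // Cfsg.IsPBlock M B ∧ Cfsg.blockDefect p B = σ} ≤ Nat.card {C : ConjClasses G // ∃ g : G, ConjClasses.mk g = C ∧ ¬ p ∣ orderOf g ∧ (Nat.card (Subgroup.centralizer ({g} : Set G))).factorization p = σ} := by
  classical
  haveI := Fintype.ofFinite (Cfsg.IrrCharacter G)
  show Nat.card _ ≤ Nat.card (DefClass G p σ)
  haveI : Finite (DefClass G p σ) := inferInstanceAs (Finite {C : ConjClasses G // _})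
  haveI := Fintype.ofFinite (DefClass G p σ)
  set S := {B : Set (Cfsg.IrrCharacter G) // Cfsg.IsPBlock M B ∧ Cfsg.blockDefect p B = σ}
  haveI := Fintype.ofFinite S
  choose χ hχ using fun B : S => block_nonempty hM B.2.1
  set E : Matrix S (DefClass G p σ) (locSubring hM) :=
    fun B C => ⟨Cfsg.blockCoeff B.1 C.1.out, blockCoeff_ring hM B.2.1 _⟩
  set W : Matrix (DefClass G p σ) S (locSubring hM) :=
    fun C B => ⟨Cfsg.centralChar (χ B : G → ℂ) C.1.out, centralChar_ring hM _ _⟩
  have hres : (E * W).map (Ideal.Quotient.mk (locIdeal hM)) = 1 := by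
    ext B B'
    rw [Matrix.map_apply, Matrix.one_apply]
    have h := sum_defClass_cong hM B.2.1 B'.2.1 B.2.2 B'.2.2 (hχ B')
    have hiff : χ B' ∈ B.1 ↔ B = B' := by
      refine ⟨fun hm => Subtype.ext (block_eq_of_mem hM B.2.1 B'.2.1 hm (hχ B')), ?_⟩
      rintro rfl
      exact hχ B
    have hval : (((E * W) B B' : locSubring hM) : ℂ) =
        ∑ C : DefClass G p σ, Cfsg.blockCoeff B.1 C.1.out * Cfsg.centralChar (χ B' : G → ℂ) C.1.out := by
      rw [Matrix.mul_apply, AddSubmonoidClass.coe_finsetSum]
      rfl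
    by_cases hBB : B = B'
    · rw [if_pos hBB, ← map_one (Ideal.Quotient.mk (locIdeal hM)), residue_eq_iff, hval,
        Subring.coe_one]
      rwa [if_pos (hiff.2 hBB)] at h
    · rw [if_neg hBB, ← map_zero (Ideal.Quotient.mk (locIdeal hM)), residue_eq_iff, hval,
        Subring.coe_zero]
      rwa [if_neg (hiff.not.2 hBB)] at h
  haveI := nontrivial_residue hM
  have hdet : (E * W).det ≠ 0 := fun h0 => by
    have h := (RingHom.map_det (Ideal.Quotient.mk (locIdeal hM)) (E * W)).symm
    rw [RingHom.mapMatrix_apply, hres, Matrix.det_one, h0, map_zero] at h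
    exact one_ne_zero h
  have hdetC : IsUnit (((E.map fun z : locSubring hM => (z : ℂ)) *
      (W.map fun z : locSubring hM => (z : ℂ))).det) := by
    rw [isUnit_iff_ne_zero, show ((E.map fun z : locSubring hM => (z : ℂ)) *
      (W.map fun z : locSubring hM => (z : ℂ))) = (locSubring hM).subtype.mapMatrix (E * W) by
        rw [RingHom.mapMatrix_apply, Matrix.map_mul]; rfl, ← RingHom.map_det]
    exact fun h0 => hdet (Subtype.ext h0)
  have hr := Matrix.rank_of_isUnit _ ((Matrix.isUnit_iff_isUnit_det _).2 hdetC)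
  rw [Nat.card_eq_fintype_card, Nat.card_eq_fintype_card, ← hr]
  exact (Matrix.rank_mul_le_left _ _).trans (Matrix.rank_le_card_width _)

end Cfsg.Agent.S4505
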