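import Cfsg.Statements.S4507
import Cfsg.Agent.Lib.Blocks.PrimeBlock.Galois

set_option autoImplicit false
open Cfsg

namespace Cfsg.Agent.S4507
open Cfsg.Agent.Blocks Cfsg.Agent.Blocks.PrimeBlock Cfsg.Agent.Characters

/-- Let G be a finite group whose order g is divisible by the prime p exactly once, g′ = g/p, and fix a maximal ideal M of the algebraic integers containing p. Call two irreducible characters p-conjugate when a field automorphism of ℂ fixing the g′-th roots of unity carries one to the other. Let B be a p-block of positive defect (its defect group is a Sylow p-subgroup). Then B contains a subset Y (the exceptional family) such that: Y is a full p-conjugacy class (its members are pairwise p-conjugate and every p-conjugate of a member of Y lies in Y); every member of B outside Y is p-conjugate only to itself; the size t of Y divides p − 1 and B has exactly t + (p − 1)/t members; and there are signs δ_χ = ±1 (χ ∈ B) such that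 for every p-regular element x and every θ ∈ Y, Σ_{χ ∈ B ∖ Y} δ_χ χ(x) + δ_θ θ(x) = 0. -/
theorem result {G : Type*} [Group G] [Finite G] (p : ℕ) [Fact p.Prime] (M : Ideal Cfsg.AlgInt) (hM : Cfsg.IsPModular p M) (hdiv : p ∣ Nat.card G) (hsq : ¬ p ^ 2 ∣ Nat.card G) (B : Set (Cfsg.IrrCharacter G)) (hB : Cfsg.IsPBlock M B) (hd : 0 < Cfsg.blockDefect p B) : ∃ Y : Set (Cfsg.IrrCharacter G), Y ⊆ B ∧ Y.Nonempty ∧ (∀ θ ∈ Y, ∀ ψ : Cfsg.IrrCharacter G, (∃ σ : ℂ ≃+* ℂ, σ (Complex.exp (2 * Real.pi * Complex.I / ((Nat.card G / p ^ (Nat.card G).factorization p) : ℕ))) = Complex.exp (2 * Real.pi * Complex.I / ((Nat.card G / p ^ (Nat.card G).factorization p) : ℕ)) ∧ (ψ : G → ℂ) = fun g => σ ((θ : G → ℂ) g)) ↔ ψ ∈ Y) ∧ (∀ χ ∈ B, χ ∉ Y → ∀ ψ : Cfsg.IrrCharacter G, (∃ σ : ℂ ≃+* ℂ, σ (Complex.exp (2 * Real.pi * Complex.I / ((Nat.card G / p ^ (Nat.card G).factorization p) : ℕ))) = Complex.exp (2 * Real.pi * Complex.I / ((Nat.card G / p ^ (Nat.card G).factorization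 p) : ℕ)) ∧ (ψ : G → ℂ) = fun g => σ ((χ : G → ℂ) g)) → ψ = χ) ∧ Nat.card Y ∣ p - 1 ∧ Nat.card B = Nat.card Y + (p - 1) / Nat.card Y ∧ ∃ δ : Cfsg.IrrCharacter G → ℤ, (∀ χ ∈ B, δ χ = 1 ∨ δ χ = -1) ∧ ∀ x : G, ¬ p ∣ orderOf x → ∀ θ ∈ Y, (∑ᶠ χ ∈ B \ Y, (δ χ : ℂ) * (χ : G → ℂ) x) + (δ θ : ℂ) * (θ : G → ℂ) x = 0 := by
  classical
  have hp : p.Prime := Fact.out
  have hf : (Nat.card G).factorization p = 1 := by
    refine le_antisymm ?_ ((hp.dvd_iff_one_le_factorization Nat.card_pos.ne').1 hdiv)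
    by_contra hlt
    exact hsq ((pow_dvd_pow p (show 2 ≤ (Nat.card G).factorization p by omega)).trans
      (Nat.ordProj_dvd _ _))
  obtain ⟨P⟩ : Nonempty (Sylow p G) := inferInstance
  have hP : Nat.card (P : Subgroup G) = p := by rw [P.card_eq_multiplicity, hf, pow_one]
  obtain ⟨g, K, h, u, D⟩ := exists_primeData P hP
  haveI := Fintype.ofFinite K
  obtain ⟨hBP, φ, hind⟩ := exists_full D hM hB hd
  obtain ⟨ζ, hζ, haut⟩ := exists_aut_weight D
  obtain ⟨θ, c, s, c₀, ε, hbd⟩ := exists_blockData D hM hB hBP hind hζ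
  rw [← index_eq_div D]
  set η := Complex.exp (2 * Real.pi * Complex.I / ((P : Subgroup G).index : ℂ))
  have hη : IsPrimitiveRoot η (P : Subgroup G).index :=
    Complex.isPrimitiveRoot_exp _ Subgroup.index_ne_zero_of_finite
  refine ⟨Set.range θ, by rintro _ ⟨J, rfl⟩; exact hbd.mem J, Set.range_nonempty θ, ?_,
    fun χ hχ hχY ψ => ?_, ?_, ?_, fun χ => if χ ∈ Set.range θ then s else c χ, fun χ hχ => ?_,
    fun x hx ψ hψ => ?_⟩
  · rintro _ ⟨J, rfl⟩ ψ
    constructor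
    · rintro ⟨σ, hσ, hψ⟩
      obtain ⟨w, hw⟩ := exists_weight_of_aut hζ σ
      exact ⟨(w : (ZMod p)ˣ ⧸ sgp D φ) * J,
        Subtype.ext ((aut_Y D hM hB hBP hind hζ hbd hη hσ hw J).trans hψ.symm)⟩
    · rintro ⟨J', rfl⟩
      obtain ⟨w, hw'⟩ := QuotientGroup.mk_surjective (J' / J)
      obtain ⟨σ, hσ, hw⟩ := haut w
      refine ⟨σ, hσ, ?_⟩
      have h1 := aut_Y D hM hB hBP hind hζ hbd hη hσ hw J
      rwa [hw', div_mul_cancel] at h1
  · rintro ⟨σ, hσ, hψ⟩
    exact Subtype.ext (hψ.trans (aut_X D hM hB hBP hind hbd hη hσ ⟨hχ, hχY⟩).symm)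
  · rw [card_range D hbd]
    exact Nat.div_dvd_of_dvd (card_sgp_dvd D φ)
  · rw [card_block D hbd, card_range D hbd,
      Nat.div_div_self (card_sgp_dvd D φ) (by have := hp.two_le; omega), add_comm]
  · show (if χ ∈ Set.range θ then s else c χ) = 1 ∨ (if χ ∈ Set.range θ then s else c χ) = -1
    split_ifs with h'
    · exact hbd.sign_Y
    · exact hbd.sign χ ⟨hχ, h'⟩
  · obtain ⟨J, rfl⟩ := hψ
    dsimp only
    rw [if_pos (Set.mem_range_self J), finsum_mem_congr rfl fun χ hχ => by rw [if_neg hχ.2]]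
    exact hbd.relation J x hx

end Cfsg.Agent.S4507
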