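import Cfsg.Statements.S4508
import Cfsg.Agent.BlockCharsA.SelfCentDegree
import Cfsg.Agent.S4495

set_option autoImplicit false
open Cfsg

namespace Cfsg.Agent.S4508

/-- Let the finite group G contain an element x of prime order p with C_G(x) = ⟨x⟩, and let t be the number of conjugacy classes of elements of order p. If G has an irreducible character of degree p − 1, then t is even or the commutator subgroup has even index. -/
theorem result {G : Type*} [Group G] [Finite G] (p : ℕ) (hp : p.Prime) (x : G) (hx : orderOf x = p) (hC : Subgroup.centralizer ({x} : Set G) = Subgroup.zpowers x) (t : ℕ) (ht : Nat.card {C : ConjClasses G // ∃ g ∈ C.carrier, orderOf g = p} = t) (χ : Cfsg.IrrCharacter G) (hχ : Cfsg.charDegree (χ : G → ℂ) + 1 = p) : Even t ∨ Even (commutator G).index := by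
  haveI := Fact.mk hp
  haveI := Fintype.ofFinite G
  by_cases ht1 : t = p - 1
  · rcases hp.eq_two_or_odd' with h2 | h2
    · exact Or.inr (by rw [(Cfsg.Agent.S4495.result p hp x hx hC t ht).2 ht1, h2]; decide)
    · exact Or.inl (ht1 ▸ Nat.Odd.sub_odd h2 odd_one)
  rcases Nat.even_or_odd t with h | h
  · exact Or.inl h
  have hte := Cfsg.Agent.BlockCharsA.SelfCentralizing.count_classes hx hC
  rw [ht] at hte
  refine Or.inr (Cfsg.Agent.BlockCharsA.SelfCentDegree.main hx hC ?_ hte h χ hχ)
  intro h2
  subst h2
  exact ht1 (Nat.eq_one_of_mul_eq_one_right hte)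

end Cfsg.Agent.S4508
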