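import Mathlib
import Cfsg.Statements.S4509
import Cfsg.Agent.BlockCharsA.SelfCentralizing

set_option autoImplicit false
open Cfsg

namespace Cfsg.Agent.S4509

open Cfsg.Agent.BlockCharsA.SelfCentralizing
open scoped commutatorElement

/-- Let the finite group G contain an element x of prime order p with C_G(x) = ⟨x⟩; let t be the number of conjugacy classes of elements of order p and 1 + n·p the number of subgroups of order p. Then G has a normal subgroup of order 1 + n·p if and only if either t = p − 1, or t < p − 1 and G″ ≠ G′. Moreover, if t = p − 1 then G′ has order 1 + n·p and G/G′ is cyclic of order p; and if t < p − 1 and G″ ≠ G′ then G″ has order 1 + n·p and G′ has order p·(1 + n·p). -/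
theorem result {G : Type*} [Group G] [Finite G] (p : ℕ) (hp : p.Prime) (x : G) (hx : orderOf x = p) (hC : Subgroup.centralizer ({x} : Set G) = Subgroup.zpowers x) (t : ℕ) (ht : Nat.card {C : ConjClasses G // ∃ g ∈ C.carrier, orderOf g = p} = t) (n : ℕ) (hn : Nat.card {H : Subgroup G // Nat.card H = p} = 1 + n * p) : ((∃ S : Subgroup G, S.Normal ∧ Nat.card S = 1 + n * p) ↔ (t = p - 1 ∨ (t < p - 1 ∧ derivedSeries G 2 ≠ derivedSeries G 1))) ∧ (t = p - 1 → Nat.card (commutator G) = 1 + n * p ∧ IsCyclic (G ⧸ commutator G) ∧ (commutator G).index = p) ∧ (t < p - 1 → derivedSeries G 2 ≠ derivedSeries G 1 → Nat.card (derivedSeries G 2) = 1 + n * p ∧ Nat.card (commutator G) = p * (1 + n * p)) := by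
  haveI := Fact.mk hp
  have hte := count_classes hx hC
  rw [ht] at hte
  have hpos : 0 < p - 1 := Nat.sub_pos_of_lt hp.one_lt
  obtain ⟨P, hP⟩ := exists_sylow hx hC
  set N := Subgroup.normalizer (Subgroup.zpowers x : Set G)
  set O := Cfsg.pPrimeCore p G
  have hO : ¬ p ∣ Nat.card O := Cfsg.Agent.Cores.pPrimeCore_not_dvd p
  have hN := card_normalizer (p := p) hx
  have hPcard : Nat.card P = p :=
    (congrArg (fun L : Subgroup G => Nat.card L) hP).trans (card_P hx)
  -- the number of subgroups of order `p`
  have hnp : Nat.card {H : Subgroup G // Nat.card H = p} = N.index := by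
    have hmult : p ^ (Nat.card G).factorization p = p := by rw [← P.card_eq_multiplicity, hPcard]
    rw [show N.index = (Subgroup.normalizer ((P : Subgroup G) : Set G)).index by rw [hP],
      show Subgroup.normalizer ((P : Subgroup G) : Set G) = Subgroup.normalizer (P : Set G) from rfl,
      ← Sylow.card_eq_index_normalizer P]
    exact Nat.card_congr
      { toFun := fun H => Sylow.ofCard H.1 (H.2.trans hmult.symm)
        invFun := fun Q => ⟨Q, by rw [Q.card_eq_multiplicity, hmult]⟩
        left_inv := fun H => rfl
        right_inv := fun Q => by ext : 1; rfl }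
  rw [hn] at hnp
  have hG : Nat.card G = p * eIdx x * (1 + n * p) := by rw [hnp, ← hN, N.card_mul_index]
  have hD2 : derivedSeries G 2 = ⁅commutator G, commutator G⁆ := by
    rw [derivedSeries_succ, derivedSeries_one]
  -- `e = 1`
  have hone : t = p - 1 → Nat.card (commutator G) = 1 + n * p ∧ IsCyclic (G ⧸ commutator G) ∧
      (commutator G).index = p := by
    intro he
    rw [he] at hte
    have he1 := Nat.eq_of_mul_eq_mul_left hpos (hte.trans (mul_one _).symm)
    have hi := (commutator_eq_pPrimeCore hx hC he1).2
    refine ⟨?_, isCyclic_of_card_dvd_prime (p := p) (by rw [← Subgroup.index_eq_card, hi]), hi⟩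
    refine Nat.eq_of_mul_eq_mul_right hp.pos ?_
    have := (commutator G).card_mul_index
    rw [hi, hG, he1, mul_one] at this
    rw [this, mul_comm]
  -- `e > 1`, soluble case
  have htwo : t < p - 1 → derivedSeries G 2 ≠ derivedSeries G 1 →
      Nat.card (derivedSeries G 2) = 1 + n * p ∧ Nat.card (commutator G) = p * (1 + n * p) := by
    intro hlt hne
    have he : eIdx x ≠ 1 := fun h => by rw [h, mul_one] at hte; omega
    have hd : p ∣ Nat.card (commutator G) := by
      by_contra h
      exact he ((eIdx_eq_one_iff hx hC).2 h)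
    have hxD := mem_of_dvd hx hC inferInstance hd
    rw [derivedSeries_one, hD2] at hne
    rw [hD2]
    set S := ⁅commutator G, commutator G⁆
    have hS : ¬ p ∣ Nat.card S := fun h => hne (le_antisymm
      (Subgroup.commutator_le_self _)
      ((Cfsg.Agent.S4496.result p hp x hx hC S).1 h))
    have hle := comm_quotient_card hx hC hS hxD fun a ha b hb =>
      Subgroup.commutator_mem_commutator ha hb
    have heq : commutator G = S ⊔ Subgroup.zpowers x := le_antisymm hle
      (sup_le (Subgroup.commutator_le_self _) (Subgroup.zpowers_le.2 hxD))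
    have hcardD : Nat.card (commutator G) = Nat.card S * p := by
      rw [heq]; exact card_sup_zpowers hx hC hS
    have hSeq : Nat.card S = 1 + n * p := by
      refine Nat.dvd_antisymm ?_ ?_
      · have := ((Cfsg.Agent.S4496.result p hp x hx hC S).2 hS).1
        rwa [hn] at this
      · -- `G = G' N = S N`
        have htop : N ⊔ commutator G = ⊤ := by
          have h := Sylow.normalizer_sup_eq_top' (N := commutator G) P
            (hP ▸ Subgroup.zpowers_le.2 hxD)
          rw [show ((P : Set G)) = ((P : Subgroup G) : Set G) from rfl, hP] at h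
          exact h
        have htop2 : N ⊔ S = ⊤ := by
          rw [eq_top_iff, ← htop, heq]
          exact sup_le le_sup_left (sup_le le_sup_right
            (Subgroup.le_normalizer.trans le_sup_left))
        have h1 := Cfsg.Agent.Cores.card_sup_dvd_mul N S
        rw [htop2, Subgroup.card_top, hG, ← hN] at h1
        exact Nat.dvd_of_mul_dvd_mul_left Nat.card_pos h1
    exact ⟨hSeq, by rw [hcardD, hSeq, mul_comm]⟩
  refine ⟨⟨?_, ?_⟩, hone, htwo⟩
  · rintro ⟨S, hSn, hScard⟩
    haveI := hSn
    have hle : t * eIdx x ≤ p - 1 := hte.le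
    rcases Nat.lt_or_ge t (p - 1) with hlt | hge
    · right
      refine ⟨hlt, fun heq => ?_⟩
      have hS : ¬ p ∣ Nat.card S := by
        rw [hScard]
        intro h
        exact hp.not_dvd_one ((Nat.dvd_add_left (dvd_mul_left p n)).1 h)
      -- `S ⊔ ⟨x⟩` is normal
      set T := S ⊔ Subgroup.zpowers x
      have hTn : T.Normal := by
        rw [← Subgroup.normalizer_eq_top_iff, eq_top_iff]
        have htop : (⊤ : Subgroup G) ≤ S ⊔ N := by
          refine le_of_eq (Subgroup.eq_top_of_card_eq _ ?_).symm
          have h1 := Cfsg.Agent.Cores.card_sup_mul_card_inf N S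
          rw [show N ⊓ S = ⊥ from eq_bot_iff.2 fun y hy => Subgroup.mem_bot.2
            (inf_normalizer hx hC hSn hS hy.2 hy.1), Subgroup.card_bot, mul_one, hN, hScard, ← hG] at h1
          rwa [sup_comm]
        refine htop.trans (sup_le (le_trans (le_sup_left (b := Subgroup.zpowers x)) Subgroup.le_normalizer) ?_)
        intro g hg
        have hmap : T.map (MulAut.conj g).toMonoidHom = T := by
          rw [Subgroup.map_sup]
          congr 1
          · refine Subgroup.eq_of_le_of_card_ge ?_ (by rw [Subgroup.card_map_of_injective (MulAut.conj g).injective])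
            rintro _ ⟨y, hy, rfl⟩
            exact hSn.conj_mem y hy g
          apply Subgroup.eq_of_le_of_card_ge
          · rintro _ ⟨y, hy, rfl⟩
            exact (Subgroup.mem_normalizer_iff.1 hg y).1 hy
          · rw [Subgroup.card_map_of_injective (MulAut.conj g).injective]
        rw [Subgroup.mem_normalizer_iff]
        intro y
        conv_rhs => rw [← hmap]
        simp [Subgroup.mem_map]
      haveI := hTn
      have hxT : x ∈ T := Subgroup.mem_sup_right (Subgroup.mem_zpowers x)
      have hd : p ∣ Nat.card T := card_P (p := p) hx ▸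
        Subgroup.card_dvd_of_le (Subgroup.zpowers_le.2 hxT)
      have hcle : commutator G ≤ T := (Cfsg.Agent.S4496.result p hp x hx hC T).1 hd
      have h2 : ⁅T, T⁆ ≤ S := by
        rw [Subgroup.commutator_le]
        intro a ha b hb
        obtain ⟨s, hs, u, hu, rfl⟩ := Subgroup.mem_sup_of_normal_left.1 ha
        obtain ⟨s', hs', u', hu', rfl⟩ := Subgroup.mem_sup_of_normal_left.1 hb
        rw [← QuotientGroup.eq_one_iff]
        have hcomm : (u : G ⧸ S) * (u' : G ⧸ S) = (u' : G ⧸ S) * (u : G ⧸ S) := by
          obtain ⟨i, rfl⟩ := Subgroup.mem_zpowers_iff.1 hu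
          obtain ⟨j, rfl⟩ := Subgroup.mem_zpowers_iff.1 hu'
          rw [← QuotientGroup.mk_mul, ← QuotientGroup.mk_mul, zpow_mul_comm]
        change QuotientGroup.mk' S ⁅s * u, s' * u'⁆ = 1
        rw [map_commutatorElement, commutatorElement_eq_one_iff_mul_comm]
        simpa [(QuotientGroup.eq_one_iff s).2 hs, (QuotientGroup.eq_one_iff s').2 hs'] using hcomm
      rw [derivedSeries_one, hD2] at heq
      have hsmall : commutator G ≤ S := heq ▸ (Subgroup.commutator_mono hcle hcle).trans h2
      have he : eIdx x ≠ 1 := fun h => by rw [h, mul_one] at hte; omega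
      exact he ((eIdx_eq_one_iff hx hC).2 fun h => hS (h.trans (Subgroup.card_dvd_of_le hsmall)))
    · left
      have := eIdx_pos (p := p) hx
      nlinarith
  · rintro (he | ⟨hlt, hne⟩)
    · exact ⟨commutator G, inferInstance, (hone he).1⟩
    · exact ⟨derivedSeries G 2, inferInstance, (htwo hlt hne).1⟩

end Cfsg.Agent.S4509
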