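import Mathlib
import Cfsg.Statements.S4510
import Cfsg.Agent.BlockCharsA.DegreeSum

set_option autoImplicit false
open Cfsg

namespace Cfsg.Agent.S4510

open Cfsg.Agent.Blocks Cfsg.Agent.Characters Cfsg.Agent.BlockCharsA.DegreeSum


/-- Let G be a finite group, p a prime, M a maximal ideal of the algebraic integers containing p, and call the defect of a conjugacy class the exponent of p in the order of the centralizer of its elements. Two irreducible characters lying in p-blocks of defect exactly d lie in the same block if and only if their central characters (class size times χ(x)/χ(1)) agree modulo the local ideal at M at every p-regular element x whose class has defect exactly d. -/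
theorem result {G : Type*} [Group G] [Finite G] (p : ℕ) [Fact p.Prime] (M : Ideal Cfsg.AlgInt) (hM : Cfsg.IsPModular p M) (d : ℕ) (χ ψ : Cfsg.IrrCharacter G) (hχ : Cfsg.blockDefect p (Cfsg.blockOf M (χ : G → ℂ)) = d) (hψ : Cfsg.blockDefect p (Cfsg.blockOf M (ψ : G → ℂ)) = d) : Cfsg.SameBlock M (χ : G → ℂ) (ψ : G → ℂ) ↔ ∀ x : G, ¬ p ∣ orderOf x → (Nat.card (Subgroup.centralizer ({x} : Set G))).factorization p = d → Cfsg.MemLocalIdeal M (Cfsg.centralChar (χ : G → ℂ) x - Cfsg.centralChar (ψ : G → ℂ) x) := by
  classical
  constructor
  · exact fun h x _ _ => h x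
  · intro h
    haveI : Finite (DefClass G p d) := inferInstanceAs (Finite {C : ConjClasses G // _})
    haveI := Fintype.ofFinite (DefClass G p d)
    have hB := isPBlock_blockOf M χ
    have hB' := isPBlock_blockOf M ψ
    have h1 := sum_defClass_cong hM hB hB hχ hχ (mem_blockOf_self hM χ)
    have h2 := sum_defClass_cong hM hB hB' hχ hψ (mem_blockOf_self hM ψ)
    have h3 := cong_trans hM (cong_symm hM h1) (cong_trans hM (cong_sum hM (s := Finset.univ)
      fun C _ => cong_mul_left hM (blockCoeff_ring hM hB C.1.out)
        (h C.1.out (defClass_out C).1 (defClass_out C).2)) h2)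
    rw [if_pos (mem_blockOf_self hM χ)] at h3
    by_contra hne
    rw [if_neg (show ψ ∉ Cfsg.blockOf M (χ : G → ℂ) from hne)] at h3
    exact not_cong_zero_one hM (cong_symm hM h3)

end Cfsg.Agent.S4510
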