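import Cfsg.Statements.S4512
import Cfsg.Agent.Lib.ZStar.KleinFour
import Cfsg.Agent.BlockCharsA.Rank

set_option autoImplicit false
open Cfsg Cfsg.Agent.Blocks Cfsg.Agent.Characters Cfsg.Agent.BlockCharsA
open scoped ComplexConjugate

namespace Cfsg.Agent.S4512

/-- If G is a finite group with a Sylow 2-subgroup that is a Klein four-group and a single conjugacy class of involutions, then its principal 2-block (relative to a maximal ideal M of the algebraic integers containing 2) has 2-regular rank 3: the restrictions of its irreducible characters to the elements of odd order span a space of dimension 3 (it has three irreducible Brauer characters). -/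
theorem result {G : Type*} [Group G] [Finite G] (M : Ideal Cfsg.AlgInt) (hM : Cfsg.IsPModular 2 M) (P : Sylow 2 G)
    (hP : Nat.card P = 4) (hexp : ∀ x : P, x * x = 1)
    (hone : ∀ s t : G, orderOf s = 2 → orderOf t = 2 → IsConj s t) :
    Cfsg.blockRank 2 (Cfsg.principalBlock M G) = 3 := by
  classical
  haveI := Fact.mk Nat.prime_two
  haveI := Fintype.ofFinite G
  haveI := Fintype.ofFinite (Cfsg.IrrCharacter G)
  have hnt : Nontrivial (P : Subgroup G) := Finite.one_lt_card_iff_nontrivial.1 (by rw [hP]; norm_num)
  have hK : IsKleinFour (P : Subgroup G) := ⟨hP, Monoid.exponent_eq_prime_iff Nat.prime_two |>.2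
    fun x hx => orderOf_eq_prime (by rw [sq]; exact hexp x) hx⟩
  obtain ⟨B, a, hmem, hcard, ha, hval, -, -, -⟩ := ZStar.KleinFour.principal P hK hone hM
  have hA : IntEl M (blockIdem (Cfsg.principalBlock M G)) :=
    intEl_blockIdem hM (isPBlock_principal M G)
  have h := Rank.blockRank_eq_trace hM hA
  have hk : ∀ y : G, blockKernelAt (Cfsg.principalBlock M G) y y =
      (Nat.card G : ℂ)⁻¹ * ∑ χ ∈ B, (χ : G → ℂ) y * conj ((χ : G → ℂ) y) := fun y => by
    rw [blockKernelAt_eq_sum, show B = Finset.univ.filter
      (fun χ => χ ∈ Cfsg.principalBlock M G) from Finset.ext fun χ => by simp [hmem],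
      Finset.sum_filter]
  set S := Finset.univ.filter fun y : G => 2 ∣ orderOf y
  have hsing : ∑ y ∈ S, blockKernelAt (Cfsg.principalBlock M G) y y = 1 := by
    rw [Finset.sum_congr rfl (g := fun _ => (Nat.card G : ℂ)⁻¹ * 4) fun y hy => ?_]
    · rw [Finset.sum_const, nsmul_eq_mul,
        ← ZStar.KleinFour.four_mul_card_singular P hK hone]
      have : (S.card : ℂ) ≠ 0 := by
        intro h0
        have h4 := ZStar.KleinFour.four_mul_card_singular P hK hone
        rw [Nat.cast_eq_zero.1 h0, mul_zero] at h4
        exact Nat.card_pos.ne h4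
      push_cast
      field_simp
      exact div_self this
    · rw [hk]
      congr 1
      rw [Finset.sum_congr rfl (g := fun _ => (1 : ℂ)) fun χ hχ => ?_]
      · simp [hcard]
      · rw [hval χ hχ y (Finset.mem_filter.1 hy).2, map_intCast]
        rcases ha χ hχ with e | e <;> simp [e]
  have htot : ∑ y : G, blockKernelAt (Cfsg.principalBlock M G) y y = 4 := by
    simp only [hk]
    rw [← Finset.mul_sum, Finset.sum_comm, Finset.mul_sum,
      Finset.sum_congr rfl (g := fun _ => (1 : ℂ)) fun χ _ => ?_]
    · simp [hcard]
    · have h1 := classInner_isIrr_self χ.2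
      rwa [classInner_def] at h1
  have e : (Cfsg.blockRank 2 (Cfsg.principalBlock M G) : ℂ) = 3 := by
    rw [h, ← Finset.sum_filter]
    rw [← Finset.sum_filter_add_sum_filter_not Finset.univ (fun y : G => 2 ∣ orderOf y)
      (fun y => blockKernelAt (Cfsg.principalBlock M G) y y), hsing] at htot
    linear_combination htot
  exact_mod_cast e

end Cfsg.Agent.S4512
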