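import Cfsg.Statements.S4513
import Cfsg.Agent.BlockCharsA.CentralDefect
import Cfsg.Agent.BlockCharsA.Subsection
import Cfsg.Agent.Lib.Blocks.FirstMain

set_option autoImplicit false
open Cfsg Cfsg.Agent.Blocks Cfsg.Agent.Characters Cfsg.Agent.BlockCharsA
open scoped ComplexConjugate

namespace Cfsg.Agent.S4513

/-- Blocks of defect one for p = 2. Let M be a maximal ideal of the algebraic integers containing 2, B a 2-block of the finite group G whose defect group is the subgroup generated by an involution x, C = C_G(x), b a block of C inducing B and θ a member of b taking the same value at x as at 1 (there is exactly one). Then B consists of exactly two irreducible characters, which agree on every element of odd order, and they can be labelled χ₁, χ₂ with signs ε₁, ε₂ = ±1, ε₁ε₂ = −1, such that χᵢ(x y) = εᵢ θ(y) for every element y of C of odd order. -/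
theorem result {G : Type*} [Group G] [Finite G] (M : Ideal Cfsg.AlgInt) (hM : Cfsg.IsPModular 2 M) (x : G) (hx : orderOf x = 2)
    (B : Set (Cfsg.IrrCharacter G)) (hB : Cfsg.IsPBlock M B) (hBD : Cfsg.IsDefectGroup 2 M B (Subgroup.zpowers x))
    (b : Set (Cfsg.IrrCharacter ↥(Subgroup.centralizer ({x} : Set G)))) (hb : Cfsg.IsInducedBlock M (Subgroup.centralizer ({x} : Set G)) b B)
    (θ : Cfsg.IrrCharacter ↥(Subgroup.centralizer ({x} : Set G))) (hθ : θ ∈ b)
    (hθx : ∀ z : ↥(Subgroup.centralizer ({x} : Set G)), (z : G) = x → (θ : ↥(Subgroup.centralizer ({x} : Set G)) → ℂ) z = (θ : ↥(Subgroup.centralizer ({x} : Set G)) → ℂ) 1) :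
    Nat.card B = 2 ∧ (∀ χ ∈ B, ∀ ψ ∈ B, ∀ g : G, ¬ 2 ∣ orderOf g → (χ : G → ℂ) g = (ψ : G → ℂ) g) ∧
      ∃ χ₁ ∈ B, ∃ χ₂ ∈ B, χ₁ ≠ χ₂ ∧ ∃ ε₁ ε₂ : ℤ, (ε₁ = 1 ∨ ε₁ = -1) ∧ (ε₂ = 1 ∨ ε₂ = -1) ∧ ε₁ * ε₂ = -1 ∧
        ∀ y : ↥(Subgroup.centralizer ({x} : Set G)), ¬ 2 ∣ orderOf y →
          (χ₁ : G → ℂ) (x * y) = (ε₁ : ℂ) * (θ : ↥(Subgroup.centralizer ({x} : Set G)) → ℂ) y ∧ (χ₂ : G → ℂ) (x * y) = (ε₂ : ℂ) * (θ : ↥(Subgroup.centralizer ({x} : Set G)) → ℂ) y := by
  classical
  haveI : Fact (Nat.Prime 2) := ⟨Nat.prime_two⟩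
  haveI := Fintype.ofFinite G
  haveI := Fintype.ofFinite (Subgroup.centralizer ({x} : Set G))
  haveI := Fintype.ofFinite (Cfsg.IrrCharacter (Subgroup.centralizer ({x} : Set G)))
  haveI := Fintype.ofFinite (Cfsg.IrrCharacter G)
  set P := Subgroup.zpowers x
  have hxH : x ∈ (Subgroup.centralizer ({x} : Set G)) := Subgroup.mem_centralizer_singleton_iff.2 rfl
  have hPH : P ≤ (Subgroup.centralizer ({x} : Set G)) := Subgroup.zpowers_le.2 hxH
  have hP : IsPGroup 2 P := isPGroup_defect hBD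
  have hxk : ∃ k : ℕ, orderOf x = 2 ^ k := ⟨1, by simpa using hx⟩
  have hxq : x ^ 2 = 1 := by rw [← hx, pow_orderOf_eq_one]
  have hPel : ∀ t ∈ P, t = 1 ∨ t = x := by
    intro t ht
    rw [mem_zpowers_iff_mem_range_orderOf, Finset.mem_image] at ht
    obtain ⟨i, hi, rfl⟩ := ht
    rw [Finset.mem_range, hx] at hi
    interval_cases i <;> simp
  have hNH : (Subgroup.centralizer ({x} : Set G)) = Subgroup.normalizer (P : Set G) := by
    refine le_antisymm ?_ fun n hn => ?_
    · exact le_trans (Subgroup.ext fun _ => mem_centralizer_zpowers).ge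
        (Subgroup.centralizer_le_normalizer _)
    · have h1 := (Subgroup.mem_normalizer_iff.1 hn x).1 (Subgroup.mem_zpowers x)
      refine Subgroup.mem_centralizer_singleton_iff.2 ?_
      rcases hPel _ h1 with h | h
      · rw [conj_eq_one_iff] at h
        rw [h, orderOf_one] at hx
        exact absurd hx (by norm_num)
      · calc n * x = n * x * n⁻¹ * n := by group
          _ = x * n := by rw [h]
  have huniq : ∀ (K : Subgroup G), K = Subgroup.normalizer (P : Set G) →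
      ∀ b₁ b₂ : Set (Cfsg.IrrCharacter K), Cfsg.IsInducedBlock M K b₁ B →
        Cfsg.IsInducedBlock M K b₂ B → b₁ = b₂ := by
    rintro K rfl b₁ b₂ h₁ h₂
    exact induced_normalizer_unique hM hBD h₁ h₂
  have hA : Rank.indSet M x B = b := Set.ext fun η => by
    refine ⟨fun h => ?_, fun h => ?_⟩
    · exact (ZStar.Principal.blockOf_eq_iff hM hb.1 η).1 (huniq (Subgroup.centralizer ({x} : Set G)) hNH _ _ h hb)
    · show Cfsg.IsInducedBlock M (Subgroup.centralizer ({x} : Set G)) _ B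
      rw [(ZStar.Principal.blockOf_eq_iff hM hb.1 η).2 h]
      exact hb
  -- the data of the local block
  have hB1 : Cfsg.blockDefect 2 B = 1 := by
    have := card_defectGroup hM hB hBD
    rw [Nat.card_zpowers, hx] at this
    exact (Nat.pow_right_injective le_rfl (show 2 ^ 1 = _ by rw [pow_one]; exact this)).symm
  set Z := P.subgroupOf (Subgroup.centralizer ({x} : Set G))
  have hZc : ∀ t ∈ Z, ∀ c : (Subgroup.centralizer ({x} : Set G)), Commute t c := fun t ht c => Subtype.ext (by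
    show (t : G) * c = c * t
    rcases hPel (t : G) ht with h | h
    · rw [h, one_mul, mul_one]
    · rw [h]; exact (Subgroup.mem_centralizer_singleton_iff.1 c.2).symm)
  haveI := CentralDefect.normal_of_central hZc
  have hZcard : Nat.card Z = 2 := by
    rw [Nat.card_congr (Subgroup.subgroupOfEquivOfLe hPH).toEquiv, Nat.card_zpowers, hx]
  have hb1 : Cfsg.blockDefect 2 b = 1 := by
    obtain ⟨D₀, hD₀⟩ := exists_defectGroup hM hb.1
    have h1 := normal_le_defect hM (isPGroup_subgroupOf hP hPH) hb.1 hD₀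
    obtain ⟨E, hE, hle⟩ := exists_defect_le_of_induced hM hb hD₀
    have h2 := Subgroup.card_le_of_le h1
    have h3 := Subgroup.card_le_of_le hle
    rw [card_defectGroup hM hb.2.1 hE, hB1, pow_one,
      ← Nat.card_congr (D₀.equivMapOfInjective _ (Subgroup.subtype_injective _)).toEquiv] at h3
    rw [hZcard] at h2
    have h4 := card_defectGroup hM hb.1 hD₀
    exact (Nat.pow_right_injective le_rfl (show 2 ^ 1 = 2 ^ Cfsg.blockDefect 2 b by rw [← h4, pow_one]; omega)).symm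
  have hθd : (Nat.card (Subgroup.centralizer ({x} : Set G))).factorization 2 =
      (Cfsg.charDegree (θ : (Subgroup.centralizer ({x} : Set G)) → ℂ)).factorization 2 + (Nat.card Z).factorization 2 := by
    have h1 := degree_factorization_eq hM hb.1 hθ
    have h2 : Cfsg.blockHeight 2 b (θ : (Subgroup.centralizer ({x} : Set G)) → ℂ) = 0 := by
      by_contra h
      have := Contrib.height_add_two_le hM hb.1 hθ h
      omega
    rw [hZcard, Nat.prime_two.factorization_self]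
    omega
  have hdata : CentralDefect.Data 2 M b Z θ := ⟨hM, hb.1, isPGroup_subgroupOf hP hPH, hZc, hθ,
    fun t ht => by
      rcases hPel (t : G) ht with h | h
      · rw [show t = 1 from Subtype.ext h]
      · exact hθx t h, hθd.le⟩
  have hreg : ∀ η ∈ b, ∀ y : (Subgroup.centralizer ({x} : Set G)), ¬ 2 ∣ orderOf y → (η : (Subgroup.centralizer ({x} : Set G)) → ℂ) y = (θ : (Subgroup.centralizer ({x} : Set G)) → ℂ) y := fun η hη =>
    (CentralDefect.member_eq hdata hθd hη (by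
      have h1 := degree_factorization_eq hM hb.1 hη
      rw [hθd, hZcard, Nat.prime_two.factorization_self, hb1] at h1
      omega)).1
  -- the integers
  have hn' : ∀ (χ : Cfsg.IrrCharacter G) (η : Cfsg.IrrCharacter (Subgroup.centralizer ({x} : Set G))), ∃ n : ℤ,
      Cfsg.classInner (ZStar.Principal.shift x (χ : G → ℂ)) (η : (Subgroup.centralizer ({x} : Set G)) → ℂ) = (n : ℂ) := by
    intro χ η
    obtain ⟨n, hn⟩ := classInner_char_nat (isCharacter_restrict (Subgroup.centralizer ({x} : Set G)) (irr_isCharacter χ))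
      (irr_isCharacter η)
    rw [Subsection.classInner_shift two_ne_zero hxq, hn]
    rcases mul_self_eq_one_iff.1 (by rw [← sq]; exact Subsection.eps_pow hxq η :
      Subsection.eps x η * Subsection.eps x η = 1) with h | h
    · exact ⟨n, by rw [h]; push_cast; ring⟩
    · exact ⟨-(n : ℤ), by rw [h]; push_cast; ring⟩
  choose n hn using hn'
  set a : Cfsg.IrrCharacter G → ℤ := fun χ => ∑ η ∈ Finset.univ.filter (· ∈ b), n χ η with ha
  have hval : ∀ χ ∈ B, ∀ y : (Subgroup.centralizer ({x} : Set G)), ¬ 2 ∣ orderOf y →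
      (χ : G → ℂ) (x * y) = (a χ : ℂ) * (θ : (Subgroup.centralizer ({x} : Set G)) → ℂ) y := fun χ hχ y hy => by
    have h := Rank.part_indSet hM hxk hB χ hy
    rw [if_pos hχ, hA, ZStar.Principal.blockPart_eq_sum_mul,
      ZStar.Principal.finsum_mem_eq_sum_filter] at h
    rw [← h]
    simp only [a, Int.cast_sum, Finset.sum_mul]
    refine Finset.sum_congr (by ext; simp) fun η hη => ?_
    rw [hn, hreg η (Finset.mem_filter.1 hη).2 y hy]
  have h1reg : ¬ 2 ∣ orderOf (1 : (Subgroup.centralizer ({x} : Set G))) := by simp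
  have hθ1 : (θ : (Subgroup.centralizer ({x} : Set G)) → ℂ) 1 ≠ 0 := irr_one_ne_zero θ.2
  have hH0 : (Nat.card (Subgroup.centralizer ({x} : Set G)) : ℂ) ≠ 0 := natCard_ne_zero
  have hsq : ∑ᶠ χ ∈ B, a χ ^ 2 = 2 := by
    have h := Rank.norm_indSet hM hxk hB h1reg
    rw [hA, CentralDefect.kernel_eq hdata h1reg h1reg, hZcard,
      ZStar.Principal.finsum_mem_eq_sum_filter,
      Finset.sum_congr rfl fun χ hχ => by
        rw [hval χ (Finset.mem_filter.1 hχ).2 1 h1reg, map_mul, map_intCast,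
          mul_mul_mul_comm, ← sq],
      ← Finset.sum_mul,
      ← mul_assoc ((Nat.card (Subgroup.centralizer ({x} : Set G)) : ℕ) : ℂ),
      mul_div_cancel₀ _ hH0] at h
    rw [ZStar.Principal.finsum_mem_eq_sum_filter]
    apply Int.cast_injective (α := ℂ)
    push_cast
    have hne : (θ : (Subgroup.centralizer ({x} : Set G)) → ℂ) 1 * conj ((θ : (Subgroup.centralizer ({x} : Set G)) → ℂ) 1) ≠ 0 :=
      mul_ne_zero hθ1 ((map_ne_zero _).2 hθ1)
    simpa using mul_right_cancel₀ hne h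
  have hx2 : 2 ∣ orderOf x := by rw [hx]
  have hcol : ∀ g : G, ¬ 2 ∣ orderOf g → ∑ᶠ χ ∈ B, (χ : G → ℂ) g * (a χ : ℂ) = 0 := by
    intro g hg
    have h := sum_block_reg_sing hM (intEl_blockIdem hM hB) hg hx2
    rw [ZStar.Principal.finsum_mem_eq_sum_filter] at h ⊢
    rw [Finset.sum_congr rfl fun χ hχ => by
      rw [← mul_one x, ← OneMemClass.coe_one (Subgroup.centralizer ({x} : Set G)), hval χ (Finset.mem_filter.1 hχ).2 1 h1reg, map_mul,
        map_intCast, ← mul_assoc], ← Finset.sum_mul] at h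
    exact (mul_eq_zero.1 h).resolve_right ((map_ne_zero _).2 hθ1)
  -- at most two members
  have hk : Nat.card B ≤ 2 := by
    have h1 := Contrib.sum_heights_le hM hB
    rw [hB1] at h1
    have h2 : Nat.card B ≤ ∑ᶠ χ ∈ B, 2 ^ (2 * Cfsg.blockHeight 2 B (χ : G → ℂ)) := by
      rw [ZStar.Principal.finsum_mem_eq_sum_filter, Nat.card_eq_fintype_card, ← Set.toFinset_card,
        Finset.card_eq_sum_ones]
      exact le_trans (le_of_eq (Finset.sum_congr (by ext; simp) fun _ _ => rfl))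
        (Finset.sum_le_sum fun χ _ => Nat.one_le_two_pow)
    norm_num at h1
    omega
  set S := Finset.univ.filter fun χ : Cfsg.IrrCharacter G => χ ∈ B
  have hScard : Nat.card B = S.card := by
    rw [Nat.card_eq_fintype_card, ← Set.toFinset_card]
    congr 1
    ext; simp [S]
  have hsqS : ∑ χ ∈ S, a χ ^ 2 = 2 := by
    rw [← hsq, ZStar.Principal.finsum_mem_eq_sum_filter]
  have hcolS : ∀ g : G, ¬ 2 ∣ orderOf g → ∑ χ ∈ S, (χ : G → ℂ) g * (a χ : ℂ) = 0 := fun g hg => by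
    rw [← hcol g hg, ZStar.Principal.finsum_mem_eq_sum_filter]
  have hnsq : ∀ z : ℤ, z ^ 2 ≠ 2 := fun z hz => by
    rcases le_or_gt z 1 with h | h
    · rcases le_or_gt (-1) z with h' | h'
      · interval_cases z <;> simp at hz
      · nlinarith
    · nlinarith
  have hS2 : S.card = 2 := by
    rcases (show S.card = 0 ∨ S.card = 1 ∨ S.card = 2 by omega) with h | h | h
    · rw [Finset.card_eq_zero.1 h, Finset.sum_empty] at hsqS
      exact absurd hsqS (by norm_num)
    · obtain ⟨c, hc⟩ := Finset.card_eq_one.1 h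
      rw [hc, Finset.sum_singleton] at hsqS
      exact absurd hsqS (hnsq _)
    · exact h
  obtain ⟨χ₁, χ₂, hne, hSeq⟩ := Finset.card_eq_two.1 hS2
  have hmem : ∀ χ, χ ∈ B ↔ χ = χ₁ ∨ χ = χ₂ := fun χ => by
    have := congrArg (χ ∈ ·) hSeq
    simpa [S] using this
  rw [hSeq, Finset.sum_pair hne] at hsqS
  have hcol2 : ∀ g : G, ¬ 2 ∣ orderOf g →
      (χ₁ : G → ℂ) g * (a χ₁ : ℂ) + (χ₂ : G → ℂ) g * (a χ₂ : ℂ) = 0 := fun g hg => by
    rw [← hcolS g hg, hSeq, Finset.sum_pair hne]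
  have ha12 : a χ₁ ≠ 0 ∧ a χ₂ ≠ 0 := by
    refine ⟨fun h => ?_, fun h => ?_⟩ <;> rw [h] at hsqS <;> norm_num at hsqS
    · exact hnsq _ hsqS
    · exact hnsq _ hsqS
  have hp1 : a χ₁ ^ 2 = 1 ∧ a χ₂ ^ 2 = 1 := by
    have u1 := sq_pos_of_ne_zero ha12.1
    have u2 := sq_pos_of_ne_zero ha12.2
    omega
  obtain ⟨d₁, hd₁⟩ : ∃ d : ℕ, (χ₁ : G → ℂ) 1 = (d : ℂ) := ⟨_, (charDegree_cast χ₁).symm⟩
  obtain ⟨d₂, hd₂⟩ : ∃ d : ℕ, (χ₂ : G → ℂ) 1 = (d : ℂ) := ⟨_, (charDegree_cast χ₂).symm⟩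
  have hd1pos : 0 < d₁ := Nat.pos_of_ne_zero fun h => irr_one_ne_zero χ₁.2 (by rw [hd₁, h]; simp)
  have hd2pos : 0 < d₂ := Nat.pos_of_ne_zero fun h => irr_one_ne_zero χ₂.2 (by rw [hd₂, h]; simp)
  have hopp : a χ₂ = - a χ₁ := by
    have h := hcol2 1 (by simp)
    rw [hd₁, hd₂] at h
    have h' : (d₁ : ℤ) * a χ₁ + (d₂ : ℤ) * a χ₂ = 0 := by exact_mod_cast h
    rcases sq_eq_one_iff.1 hp1.1 with e1 | e1 <;> rcases sq_eq_one_iff.1 hp1.2 with e2 | e2 <;>
      rw [e1, e2] at h' ⊢ <;> omega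
  have heq : ∀ g : G, ¬ 2 ∣ orderOf g → (χ₁ : G → ℂ) g = (χ₂ : G → ℂ) g := fun g hg => by
    have h := hcol2 g hg
    rw [hopp, Int.cast_neg, mul_neg, ← sub_eq_add_neg, ← sub_mul, mul_eq_zero] at h
    exact sub_eq_zero.1 (h.resolve_right (Int.cast_ne_zero.2 ha12.1))
  refine ⟨by rw [hScard, hS2], fun χ hχ ψ hψ g hg => ?_, χ₁, (hmem χ₁).2 (Or.inl rfl), χ₂,
    (hmem χ₂).2 (Or.inr rfl), hne, a χ₁, a χ₂, sq_eq_one_iff.1 hp1.1, sq_eq_one_iff.1 hp1.2,
    by rw [hopp, mul_neg, ← sq, hp1.1], fun y hy => ⟨hval χ₁ ((hmem χ₁).2 (Or.inl rfl)) y hy,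
      hval χ₂ ((hmem χ₂).2 (Or.inr rfl)) y hy⟩⟩
  rcases (hmem χ).1 hχ with rfl | rfl <;> rcases (hmem ψ).1 hψ with rfl | rfl <;>
    simp [heq g hg]

end Cfsg.Agent.S4513
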