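import Cfsg.Statements.S4517
import Cfsg.Agent.BlockCharsA.RealBlock

set_option autoImplicit false
open Cfsg Cfsg.Agent.Blocks Cfsg.Agent.Characters Cfsg.Agent.BlockCharsA
open scoped ComplexConjugate

namespace Cfsg.Agent.S4517

/-- Let G be a finite group, M a maximal ideal of the algebraic integers containing 2, and k a natural number coprime to the order of G with g ^ k = g⁻¹ for every element g of odd order (so that g ↦ g ^ k induces a field automorphism of the character values inverting the roots of unity of odd order). If B is a 2-block of full defect (its defect equals the exponent of 2 in the order of G) that is stable under χ ↦ χ ∘ (· ^ k), then B is the principal 2-block. -/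
theorem result {G : Type*} [Group G] [Finite G] (M : Ideal Cfsg.AlgInt) (hM : Cfsg.IsPModular 2 M) (k : ℕ) (hk : Nat.Coprime k (Nat.card G)) (hk₂ : ∀ g : G, Odd (orderOf g) → g ^ k = g⁻¹) (B : Set (Cfsg.IrrCharacter G)) (hB : Cfsg.IsPBlock M B) (hdef : Cfsg.blockDefect 2 B = (Nat.card G).factorization 2) (hstab : ∀ χ ∈ B, ∃ ψ ∈ B, ∀ g : G, (ψ : G → ℂ) g = (χ : G → ℂ) (g ^ k)) : B = Cfsg.principalBlock M G := by
  classical
  choose! t ht ht' using hstab
  obtain ⟨χ, hχ, h0⟩ := exists_height_zero hM hB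
  have hodd : ¬ 2 ∣ Cfsg.charDegree (χ : G → ℂ) := fun h => by
    have h1 := degree_factorization_eq hM hB hχ
    rw [hdef, h0, add_zero] at h1
    have := (Nat.prime_two.dvd_iff_one_le_factorization (charDegree_pos χ).ne').1 h
    omega
  have hval : ∀ ψ ∈ B, ∀ g : G, ¬ 2 ∣ orderOf g → (t ψ : G → ℂ) g = (ψ : G → ℂ) g⁻¹ :=
    fun ψ hψ g hg => by
      rw [ht' ψ hψ, hk₂ g (Nat.odd_iff.2 (by omega))]
  have hone : ∀ ψ ∈ B, (t ψ : G → ℂ) 1 = (ψ : G → ℂ) 1 := fun ψ hψ => by
    rw [ht' ψ hψ, one_pow]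
  refine RealBlock.eq_principal hM hB (fun g hg => RealBlock.coeff_inv B t ?_ ht
    (fun ψ hψ => hval ψ hψ g hg) hone) hχ hodd fun g hg => ?_
  · intro a ha b hb e
    refine Subtype.ext (funext fun x => ?_)
    obtain ⟨y, rfl⟩ := (powCoprime (G := G) hk.symm).surjective x
    show (a : G → ℂ) (y ^ k) = (b : G → ℂ) (y ^ k)
    rw [← ht' a ha, ← ht' b hb, e]
  · rw [← RealBlock.centralChar_inv_eq (χ : G → ℂ) (t χ : G → ℂ) g (hval χ hχ g hg) (hone χ hχ)]
    exact cong_symm hM (sameBlock_of_mem hM hB hχ (ht χ hχ) g)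

end Cfsg.Agent.S4517
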