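import Cfsg.Statements.S4518
import Cfsg.Agent.Lib.CharTheory.Clifford
import Cfsg.Agent.OddChar.PowTwist

set_option autoImplicit false
open Cfsg Cfsg.Agent.Characters Cfsg.Agent.CharTheory

namespace Cfsg.Agent.S4518

/-- Let N be a normal subgroup of the finite group G whose index is not divisible by the prime p, and let k be coprime to the order of G with k ^ (p ^ e) ≡ 1 modulo the order of G for some e (so g ↦ g ^ k induces a field automorphism of p-power order on character values). If an irreducible character χ of G satisfies χ (g ^ k) = χ g for all g, then every irreducible constituent θ of the restriction of χ to N satisfies θ (n ^ k) = θ n for all n. -/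
theorem result {G : Type*} [Group G] [Fintype G] (p : ℕ) [Fact p.Prime] (N : Subgroup G) [N.Normal] [Fintype N] (hidx : ¬ p ∣ N.index) (k e : ℕ) (hk : Nat.Coprime k (Nat.card G)) (hke : k ^ (p ^ e) ≡ 1 [MOD Nat.card G]) (χ : Cfsg.IrrCharacter G) (hχ : ∀ g : G, (χ : G → ℂ) (g ^ k) = (χ : G → ℂ) g) (θ : Cfsg.IrrCharacter N) (hθ : Cfsg.classInner (fun n : N => (χ : G → ℂ) n) (θ : N → ℂ) ≠ 0) : ∀ n : N, (θ : N → ℂ) (n ^ k) = (θ : N → ℂ) n := by
  classical
  haveI := Fintype.ofFinite (Cfsg.IrrCharacter N)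
  set T : Subgroup G :=
    { carrier := {g | Clifford.conjBy N g (θ : N → ℂ) = (θ : N → ℂ)}
      one_mem' := Clifford.conjBy_one N _
      mul_mem' := fun {a b} (ha : _ = _) (hb : _ = _) => by
        show Clifford.conjBy N (a * b) (θ : N → ℂ) = _
        rw [← Clifford.conjBy_conjBy, ha, hb]
      inv_mem' := fun {a} (ha : _ = _) => by
        show Clifford.conjBy N a⁻¹ (θ : N → ℂ) = _
        conv_lhs => rw [← ha]
        rw [Clifford.conjBy_conjBy, mul_inv_cancel, Clifford.conjBy_one] }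
  have hNT : N ≤ T := fun n hn => funext fun x =>
    char_isClassFunction (irr_isCharacter θ) x ⟨n, hn⟩
  have hkN : k.Coprime (Nat.card N) := hk.coprime_dvd_right N.card_subgroup_dvd_card
  let O := {φ : Cfsg.IrrCharacter N //
    Cfsg.classInner (fun n : N => (χ : G → ℂ) n) (φ : N → ℂ) ≠ 0}
  have hconjmem : ∀ g : G, Cfsg.classInner (fun n : N => (χ : G → ℂ) n)
      (Clifford.conjBy N g (θ : N → ℂ)) ≠ 0 := fun g => by
    rw [← Clifford.conjBy_restrict N (irr_isClassFunction χ) g, Clifford.classInner_conjBy]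
    exact hθ
  have hcard : Nat.card O = T.index := by
    rw [Subgroup.index_eq_card]
    refine (Nat.card_eq_of_bijective (Quotient.lift (fun g : G => (⟨⟨Clifford.conjBy N g⁻¹ (θ : N → ℂ),
      Clifford.isIrrCharacter_conjBy N g⁻¹ θ.2⟩, hconjmem g⁻¹⟩ : O)) ?_) ⟨?_, ?_⟩).symm
    · intro a b hab
      refine Subtype.ext (Subtype.ext ?_)
      show Clifford.conjBy N a⁻¹ (θ : N → ℂ) = Clifford.conjBy N b⁻¹ (θ : N → ℂ)
      have h : Clifford.conjBy N (a⁻¹ * b) (θ : N → ℂ) = (θ : N → ℂ) :=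
        QuotientGroup.leftRel_apply.1 hab
      conv_rhs => rw [← h]
      rw [Clifford.conjBy_conjBy, mul_inv_cancel_right]
    · intro x y e
      induction x using QuotientGroup.induction_on with | _ a => ?_
      induction y using QuotientGroup.induction_on with | _ b => ?_
      refine QuotientGroup.eq.2 ?_
      have e' : Clifford.conjBy N a⁻¹ (θ : N → ℂ) = Clifford.conjBy N b⁻¹ (θ : N → ℂ) :=
        congrArg (fun z : O => (z.1 : N → ℂ)) e
      show Clifford.conjBy N (a⁻¹ * b) (θ : N → ℂ) = _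
      rw [← Clifford.conjBy_conjBy, e', Clifford.conjBy_conjBy, inv_mul_cancel, Clifford.conjBy_one]
    · rintro ⟨φ, hφ⟩
      obtain ⟨g, hg⟩ := Clifford.exists_conjBy_eq N χ.2 θ.2 φ.2 hθ hφ
      exact ⟨QuotientGroup.mk g⁻¹, Subtype.ext (Subtype.ext (show
        Clifford.conjBy N g⁻¹⁻¹ (θ : N → ℂ) = _ by rw [inv_inv, hg]))⟩
  have hstab : ∀ φ : N → ℂ, Cfsg.classInner (fun n : N => (χ : G → ℂ) n) (fun n => φ (n ^ k)) =
      Cfsg.classInner (fun n : N => (χ : G → ℂ) n) φ := fun φ => by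
    rw [classInner_def, classInner_def]
    congr 1
    refine Fintype.sum_equiv (powCoprime (G := N) hkN.symm) _ _ fun n => ?_
    rw [powCoprime_apply, Subgroup.coe_pow, hχ]
  let f : Function.End O := fun φ => ⟨⟨_, OddChar.PowTwist.isIrr_comp_pow φ.1.2 hkN⟩,
    by rw [hstab]; exact φ.2⟩
  have hiter : ∀ (j : ℕ) (φ : O) (n : N), ((f ^ j) φ).1.1 n = φ.1.1 (n ^ k ^ j) := by
    intro j
    induction j with
    | zero => intro φ n; simp; rfl
    | succ j ih =>
      intro φ n
      rw [pow_succ']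
      show ((f ^ j) φ).1.1 (n ^ k) = _
      rw [ih, ← pow_mul, pow_succ']
  have hf : f ^ p ^ e = 1 := funext fun φ => Subtype.ext (Subtype.ext (funext fun n => by
    rw [hiter]
    conv_rhs => rw [show ((1 : Function.End O) φ) = φ from rfl, ← pow_one n]
    refine congrArg φ.1.1 (pow_eq_pow_iff_modEq.2 ?_)
    exact hke.of_dvd ((Subgroup.orderOf_coe n).symm ▸ orderOf_dvd_natCard (n : G))))
  have hmod := Equiv.Perm.card_fixedPoints_modEq hf
  rw [← Nat.card_eq_fintype_card, hcard] at hmod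
  obtain ⟨φ, hφ⟩ : ∃ φ : O, f φ = φ := by
    by_contra hno
    rw [Fintype.card_eq_zero_iff.2 ⟨fun x => hno ⟨x.1, x.2⟩⟩] at hmod
    exact hidx ((Nat.modEq_zero_iff_dvd.1 hmod).trans (Subgroup.index_dvd_of_le hNT))
  obtain ⟨g, hg⟩ := Clifford.exists_conjBy_eq N χ.2 φ.1.2 θ.2 φ.2 hθ
  intro n
  have h2 : ∀ m : N, (φ.1 : N → ℂ) (m ^ k) = (φ.1 : N → ℂ) m := fun m =>
    congrFun (congrArg (fun z : O => (z.1 : N → ℂ)) hφ) m
  rw [← hg, Clifford.conjBy_apply, Clifford.conjBy_apply, ← h2 ⟨g * n * g⁻¹, _⟩]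
  refine congrArg _ (Subtype.ext ?_)
  simp [conj_pow]

end Cfsg.Agent.S4518
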