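import Cfsg.Statements.S4519
import Cfsg.Agent.BlockCharsA.GaloisFixed

set_option autoImplicit false
open Cfsg

namespace Cfsg.Agent.S4519

/-- Let N be a normal subgroup of odd index in the finite group G, and let k be coprime to the order of G with k ^ (2 ^ e) ≡ 1 modulo the order of G for some e and g ^ k = g⁻¹ for every element g of odd order (so g ↦ g ^ k induces a field automorphism of 2-power order inverting the roots of unity of odd order). If an irreducible character θ of N satisfies θ (n ^ k) = θ n for all n, then there is exactly one irreducible character χ of G with θ a constituent of its restriction to N and χ (g ^ k) = χ g for all g; moreover, if θ is invariant under conjugation by G, that χ restricts to θ. -/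
theorem result {G : Type*} [Group G] [Fintype G] (N : Subgroup G) [hN : N.Normal] [Fintype N] (hidx : Odd N.index) (k e : ℕ) (hk : Nat.Coprime k (Nat.card G)) (hke : k ^ (2 ^ e) ≡ 1 [MOD Nat.card G]) (hk₂ : ∀ g : G, Odd (orderOf g) → g ^ k = g⁻¹) (θ : Cfsg.IrrCharacter N) (hθ : ∀ n : N, (θ : N → ℂ) (n ^ k) = (θ : N → ℂ) n) : ∃ χ : Cfsg.IrrCharacter G, (Cfsg.classInner (fun n : N => (χ : G → ℂ) n) (θ : N → ℂ) ≠ 0 ∧ (∀ g : G, (χ : G → ℂ) (g ^ k) = (χ : G → ℂ) g) ∧ ((∀ g : G, ∀ n : N, (θ : N → ℂ) ⟨g * n * g⁻¹, hN.conj_mem n n.2 g⟩ = (θ : N → ℂ) n) → ∀ n : N, (χ : G → ℂ) n = (θ : N → ℂ) n)) ∧ ∀ χ' : Cfsg.IrrCharacter G, Cfsg.classInner (fun n : N => (χ' : G → ℂ) n) (θ : N → ℂ) ≠ 0 → (∀ g : G, (χ' : G → ℂ) (g ^ k) = (χ' : G → ℂ) g) → χ' = χ := by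
  have h : Cfsg.Agent.BlockCharsA.GaloisFixed.Inverts N k := by
    refine ⟨hidx, hk, fun g => ?_⟩
    set o := orderOf g
    have ho : o ≠ 0 := (orderOf_pos g).ne'
    -- a power of odd order in the same coset
    obtain ⟨s, hs1, hs2⟩ := Nat.chineseRemainder (n := ordProj[2] o) (m := ordCompl[2] o)
      (Nat.Coprime.pow_left _ (Nat.coprime_ordCompl Nat.prime_two ho)) 0 1
    have hodd : Odd (orderOf (g ^ s)) := by
      refine Odd.of_dvd_nat ?_ (orderOf_dvd_of_pow_eq_one (n := ordCompl[2] o) ?_)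
      · rw [Nat.odd_iff, ← Nat.two_dvd_ne_zero]
        exact Nat.not_dvd_ordCompl Nat.prime_two ho
      · rw [← pow_mul, ← orderOf_dvd_iff_pow_eq_one]
        show o ∣ _
        conv_lhs => rw [← Nat.ordProj_mul_ordCompl_eq_self o 2]
        exact Nat.mul_dvd_mul_right (Nat.modEq_zero_iff_dvd.1 hs1) _
    have hmem : ((g : G ⧸ N)) ^ s = (g : G ⧸ N) := by
      conv_rhs => rw [← pow_one (g : G ⧸ N)]
      refine pow_eq_pow_iff_modEq.2 (hs2.of_dvd ?_)
      have h1 : orderOf (g : G ⧸ N) ∣ o :=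
        orderOf_map_dvd (QuotientGroup.mk' N) g
      rw [← Nat.ordProj_mul_ordCompl_eq_self o 2] at h1
      refine Nat.Coprime.dvd_of_dvd_mul_left ?_ h1
      refine Nat.Coprime.pow_right _ (Nat.coprime_two_right.2 (Odd.of_dvd_nat hidx ?_))
      rw [Subgroup.index_eq_card]
      exact orderOf_dvd_natCard _
    rw [← QuotientGroup.eq_one_iff, QuotientGroup.mk_mul, QuotientGroup.mk_pow, ← hmem,
      ← QuotientGroup.mk_pow, ← QuotientGroup.mk_pow, hk₂ _ hodd, QuotientGroup.mk_inv,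
      inv_mul_cancel]
  obtain ⟨χ, ⟨h1, h2, h3⟩, h4⟩ := Cfsg.Agent.BlockCharsA.GaloisFixed.main h θ hθ
  exact ⟨χ, ⟨h1, h2, fun hinv => h3 fun g => funext fun n => hinv g n⟩, h4⟩

end Cfsg.Agent.S4519
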