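import Cfsg.Statements.S4520
import Cfsg.Agent.S4517
import Cfsg.Agent.Lib.Blocks.InducedChars
import Cfsg.Agent.OddChar.PowTwist

set_option autoImplicit false
open Cfsg Cfsg.Agent.Blocks Cfsg.Agent.Characters Cfsg.Agent.BlockCharsA
open scoped ComplexConjugate
open Cfsg.Agent.BlockCharsA.RegularPart Cfsg.Agent.BlockCharsA.NormalSupport

namespace Cfsg.Agent.S4520

/-- Let N be a normal subgroup of odd index in the finite group G, M a maximal ideal of the algebraic integers containing 2, and k coprime to the order of G with k ^ (2 ^ e) ≡ 1 modulo the order of G for some e and g ^ k = g⁻¹ for every element g of odd order. Let θ be an irreducible character of N and χ an irreducible character of G over θ, both unchanged by composing with g ↦ g ^ k. Then χ lies in the principal 2-block of G if and only if θ lies in the principal 2-block of N. -/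
theorem result {G : Type*} [Group G] [Fintype G] (M : Ideal Cfsg.AlgInt) (hM : Cfsg.IsPModular 2 M) (N : Subgroup G) [N.Normal] [Fintype N] (hidx : Odd N.index) (k e : ℕ) (hk : Nat.Coprime k (Nat.card G)) (hke : k ^ (2 ^ e) ≡ 1 [MOD Nat.card G]) (hk₂ : ∀ g : G, Odd (orderOf g) → g ^ k = g⁻¹) (θ : Cfsg.IrrCharacter N) (hθ : ∀ n : N, (θ : N → ℂ) (n ^ k) = (θ : N → ℂ) n) (χ : Cfsg.IrrCharacter G) (hχ : ∀ g : G, (χ : G → ℂ) (g ^ k) = (χ : G → ℂ) g) (hover : Cfsg.classInner (fun n : N => (χ : G → ℂ) n) (θ : N → ℂ) ≠ 0) : χ ∈ Cfsg.principalBlock M G ↔ θ ∈ Cfsg.principalBlock M N := by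
  classical
  haveI : Fact (Nat.Prime 2) := ⟨Nat.prime_two⟩
  haveI := Fintype.ofFinite (Cfsg.IrrCharacter G)
  constructor
  · intro h
    obtain ⟨g, hg⟩ := constituents_conj_block (χ := trivIrr G) hM h
      ((constituent_trivIrr_iff (trivIrr G)).2 fun n _ => rfl) hover
    rw [show conjIrr g (trivIrr N) = trivIrr N from
      Subtype.ext (by rw [coe_conjIrr]; exact funext fun n => rfl)] at hg
    exact hg
  · intro hθ0
    set B := Cfsg.blockOf M (χ : G → ℂ)
    have hB : Cfsg.IsPBlock M B := isPBlock_blockOf M χ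
    -- a member of `B` trivial on `N`
    set Φ : G → ℂ := fun g => if g ∈ N then 1 else 0
    have hΦ : Cfsg.IsClassFunction G Φ := fun g h => by
      simp only [Φ]
      refine if_congr ⟨fun hx => ?_, fun hx => Subgroup.Normal.conj_mem inferInstance g hx h⟩ rfl rfl
      have := Subgroup.Normal.conj_mem (H := N) inferInstance _ hx h⁻¹
      simpa [mul_assoc] using this
    have hreg : regEl 2 Φ = push N (regEl 2 (trivIrr N : N → ℂ)) := el_ext fun g => by
      by_cases hg : g ∈ N
      · rw [coeff_regEl, coeff_push_mem _ hg, coeff_regEl]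
        simp [Φ, N.inv_mem hg, trivIrr, Subgroup.orderOf_mk]
      · rw [coeff_regEl, coeff_push_notMem _ hg]
        simp [Φ, hg]
    have hinv : IsInvEl (regEl 2 (trivIrr N : N → ℂ)) := fun g n => by
      rw [coeff_regEl, coeff_regEl]
      simp only [trivIrr]
      refine if_congr ?_ rfl rfl
      rw [← Subgroup.orderOf_coe, ← Subgroup.orderOf_coe n, orderOf_conj']
    have hne : omega (χ : G → ℂ) (regEl 2 Φ) ≠ 0 := by
      rw [hreg, omega_push_eq χ θ hover hinv]
      refine ne_zero_of_not_ideal hM ?_
      exact omega_regEl_unit hM (isPBlock_principal M N) (trivIrr_mem_principal hM) hθ0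
        (blockHeight_one _)
    have hsum : regEl 2 Φ = ∑ ψ : Cfsg.IrrCharacter G,
        Cfsg.classInner Φ (ψ : G → ℂ) • regEl 2 (ψ : G → ℂ) := el_ext fun x => by
      rw [coeff_regEl]
      conv_lhs => rw [classFun_eq_sum hΦ]
      simp only [MonoidAlgebra.coeff_sum, Finsupp.finsetSum_apply, MonoidAlgebra.coeff_smul,
        Finsupp.smul_apply, coeff_regEl]
      split
      · simp
      · simp [Finset.sum_apply]
    rw [hsum, omega_sum] at hne
    obtain ⟨ψ, -, hψ⟩ := Finset.exists_ne_zero_of_sum_ne_zero hne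
    rw [omega_smul, mul_ne_zero_iff] at hψ
    have hψB : ψ ∈ B := by
      by_contra hc
      exact hψ.2 (omega_regEl_eq_zero hM fun e => hc (sameBlock_symm hM e))
    have htriv : ∀ n ∈ N, (ψ : G → ℂ) n = (ψ : G → ℂ) 1 := by
      refine (constituent_trivIrr_iff ψ).1 fun h0 => hψ.1 ?_
      rw [classInner_def] at h0 ⊢
      have h1 := (mul_eq_zero.1 h0).resolve_left (inv_ne_zero natCard_ne_zero)
      refine mul_eq_zero_of_right _ ?_
      have h2 := congrArg conj h1
      rw [map_sum, map_zero] at h2
      refine Eq.trans ?_ h2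
      refine (Finset.sum_subset (s₁ := Finset.univ.filter fun g => g ∈ N) (Finset.subset_univ _)
        fun g _ hg => by simp [Φ, show g ∉ N from by simpa using hg]).symm.trans ?_
      rw [Finset.sum_subtype (Finset.univ.filter fun g => g ∈ N) (p := fun g => g ∈ N)
        (F := inferInstance) (fun g => by simp)]
      exact Finset.sum_congr rfl fun n _ => by simp [Φ, trivIrr]
    obtain ⟨φ, -, hφ, hirr⟩ := exists_deflate_quotient N (irr_isCharacter ψ) htriv
    obtain ⟨d, hd, -, hdvd⟩ := irr_degree_dvd_card (hirr ψ.2)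
    have hdeg : Cfsg.charDegree (ψ : G → ℂ) = d := by
      rw [Cfsg.charDegree, ← hφ 1, QuotientGroup.mk_one, hd]
      simp
    have hfull : Cfsg.blockDefect 2 B = (Nat.card G).factorization 2 := by
      have h1 := degree_factorization_eq hM hB hψB
      have h2 : d.factorization 2 = 0 := Nat.factorization_eq_zero_of_not_dvd fun h =>
        Nat.not_even_iff_odd.2 hidx (even_iff_two_dvd.2 (h.trans hdvd))
      have h3 := blockDefect_le 2 B
      rw [hdeg, h2] at h1
      omega
    rw [← S4517.result M hM k hk hk₂ B hB hfull fun ψ₁ hψ₁ => ?_]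
    · exact mem_blockOf_self hM χ
    · refine ⟨⟨_, OddChar.PowTwist.isIrr_comp_pow ψ₁.2 hk⟩, fun g => ?_, fun g => rfl⟩
      have hc : Subgroup.centralizer ({g ^ k} : Set G) = Subgroup.centralizer ({g} : Set G) := by
        ext c
        simp only [Subgroup.mem_centralizer_singleton_iff]
        refine ⟨fun h => ?_, fun h => (Commute.pow_right (show Commute c g from h) k).eq⟩
        obtain ⟨j, hj⟩ := exists_pow_eq_self_of_coprime
          (show k.Coprime (orderOf g) from hk.coprime_dvd_right (orderOf_dvd_natCard g))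
        have h2 := (show Commute c (g ^ k) from h).pow_right j
        rw [hj] at h2
        exact h2.eq
      have e : ∀ φ : G → ℂ, Cfsg.centralChar (fun x => φ (x ^ k)) g = Cfsg.centralChar φ (g ^ k) :=
        fun φ => by rw [Cfsg.centralChar, Cfsg.centralChar, one_pow, hc]
      show Cong M (Cfsg.centralChar (χ : G → ℂ) g) _
      rw [e, show Cfsg.centralChar (χ : G → ℂ) g = Cfsg.centralChar (χ : G → ℂ) (g ^ k) by
        rw [Cfsg.centralChar, Cfsg.centralChar, hχ, hc]]
      exact hψ₁ (g ^ k)

end Cfsg.Agent.S4520
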