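import Cfsg.Statements.S4521
import Cfsg.Agent.BlockCharsA.CommutingProduct

set_option autoImplicit false
set_option linter.style.haveILetI false
open Cfsg
open Cfsg.Agent.Blocks Cfsg.Agent.Characters Cfsg.Agent.BlockCharsA.CommutingProduct

namespace Cfsg.Agent.S4521

/-- Let the finite group G be generated by subgroups U₁ and U₂ that commute elementwise and whose intersection is a p-group, and let M be a maximal ideal of the algebraic integers containing the prime p. If the irreducible character χ of G has the irreducible constituents ψ₁ on U₁ and ψ₂ on U₂, then χ lies in the principal block of G if and only if ψ₁ and ψ₂ lie in the principal blocks of U₁ and U₂. -/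
theorem result {G : Type*} [Group G] [Fintype G] (p : ℕ) [Fact p.Prime] (M : Ideal Cfsg.AlgInt) (hM : Cfsg.IsPModular p M) (U₁ U₂ : Subgroup G) [Fintype U₁] [Fintype U₂] (hcomm : ∀ u ∈ U₁, ∀ v ∈ U₂, u * v = v * u) (hgen : U₁ ⊔ U₂ = ⊤) (hZ : IsPGroup p ↥(U₁ ⊓ U₂)) (χ : Cfsg.IrrCharacter G) (ψ₁ : Cfsg.IrrCharacter U₁) (ψ₂ : Cfsg.IrrCharacter U₂) (h₁ : Cfsg.classInner (fun u : U₁ => (χ : G → ℂ) u) (ψ₁ : U₁ → ℂ) ≠ 0) (h₂ : Cfsg.classInner (fun u : U₂ => (χ : G → ℂ) u) (ψ₂ : U₂ → ℂ) ≠ 0) : χ ∈ Cfsg.principalBlock M G ↔ (ψ₁ ∈ Cfsg.principalBlock M U₁ ∧ ψ₂ ∈ Cfsg.principalBlock M U₂) := by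
  have hcomm' : ∀ v ∈ U₂, ∀ u ∈ U₁, v * u = u * v := fun v hv u hu => (hcomm u hu v hv).symm
  have hgen' : U₂ ⊔ U₁ = ⊤ := by rw [sup_comm]; exact hgen
  haveI := normal_left hcomm hgen
  haveI := normal_left hcomm' hgen'
  have e1 := fun u => centralChar_factor hcomm hgen χ ψ₁ h₁ u
  have e2 := fun u => centralChar_factor hcomm' hgen' χ ψ₂ h₂ u
  have t1 := fun u => centralChar_factor hcomm hgen (trivIrr G) (trivIrr U₁)
    ((constituent_trivIrr_iff (trivIrr G)).2 fun _ _ => rfl) u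
  have t2 := fun u => centralChar_factor hcomm' hgen' (trivIrr G) (trivIrr U₂)
    ((constituent_trivIrr_iff (trivIrr G)).2 fun _ _ => rfl) u
  constructor
  · intro hχ
    refine ⟨fun u => ?_, fun u => ?_⟩
    · have h := hχ (u : G)
      rw [show Cfsg.centralChar (fun _ : G => (1 : ℂ)) (u : G) = _ from t1 u, e1] at h
      exact h
    · have h := hχ (u : G)
      rw [show Cfsg.centralChar (fun _ : G => (1 : ℂ)) (u : G) = _ from t2 u, e2] at h
      exact h
  · rintro ⟨k1, k2⟩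
    refine mem_principal_of_regular hM fun g hg => ?_
    obtain ⟨a, ha, b, hb, hra, -, rfl⟩ := exists_regular_factors hM.1 hcomm hgen hg
    rw [centralChar_mul hM hcomm hgen hZ ha hb hra, centralChar_mul hM hcomm hgen hZ ha hb hra,
      e1 ⟨a, ha⟩, e2 ⟨b, hb⟩, t1 ⟨a, ha⟩, t2 ⟨b, hb⟩]
    have c1 : Cong M (Cfsg.centralChar (trivIrr U₁ : U₁ → ℂ) ⟨a, ha⟩)
        (Cfsg.centralChar (ψ₁ : U₁ → ℂ) ⟨a, ha⟩) := k1 _
    have c2 : Cong M (Cfsg.centralChar (trivIrr U₂ : U₂ → ℂ) ⟨b, hb⟩)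
        (Cfsg.centralChar (ψ₂ : U₂ → ℂ) ⟨b, hb⟩) := k2 _
    exact cong_mul hM c1 c2 (centralChar_ring hM ψ₁ _) (centralChar_ring hM ψ₂ _)

end Cfsg.Agent.S4521
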