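import Cfsg.Statements.S4531
import Cfsg.Agent.Lib.Blocks.DihedralRank.Central
import Cfsg.Agent.Lib.Blocks.DihedralRank.Solvable

set_option autoImplicit false
open Cfsg

namespace Cfsg.Agent.S4531

/-- Let the finite group G have a 2-block B (relative to a maximal ideal M of the algebraic integers containing 2) of 2-regular rank three (three irreducible Brauer characters) whose defect group D is dihedral of order 2 ^ n with n ≥ 3 or semidihedral. Then the centre of G has odd order and G is not solvable. -/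
theorem result {G : Type*} [Group G] [Finite G] (M : Ideal Cfsg.AlgInt) (hM : Cfsg.IsPModular 2 M) (B : Set (Cfsg.IrrCharacter G)) (hB : Cfsg.IsPBlock M B) (D : Subgroup G) (hD : Cfsg.IsDefectGroup 2 M B D) (hD' : (∃ n : ℕ, 3 ≤ n ∧ Nonempty (D ≃* DihedralGroup (2 ^ (n - 1)))) ∨ Cfsg.IsQuasiDihedral D) (hl : Cfsg.blockRank 2 B = 3) : Odd (Nat.card (Subgroup.center G)) ∧ ¬ Group.IsSolvable G := by
  refine ⟨?_, fun hsolv => ?_⟩
  · by_contra hodd
    haveI : Fact (Nat.Prime 2) := ⟨Nat.prime_two⟩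
    rw [Nat.not_odd_iff_even, even_iff_two_dvd] at hodd
    obtain ⟨u, hu⟩ := exists_prime_orderOf_dvd_card' 2 hodd
    rw [← Subgroup.orderOf_coe] at hu
    have hZ : Subgroup.zpowers (u : G) ≤ Subgroup.center G := Subgroup.zpowers_le.2 u.2
    haveI : (Subgroup.zpowers (u : G)).Normal := ⟨fun t ht a => by
      rwa [Subgroup.mem_center_iff.1 (hZ ht) a, mul_inv_cancel_right]⟩
    have huD : (u : G) ∈ D := Cfsg.Agent.Blocks.normal_le_defect hM
      (IsPGroup.of_card (n := 1) (by rw [Nat.card_zpowers, hu, pow_one])) hB hD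
      (Subgroup.mem_zpowers _)
    have : Cfsg.blockRank 2 B ≤ 2 := by
      rcases hD' with ⟨n, hn, hdih⟩ | hQ
      · obtain ⟨r, hr⟩ := Cfsg.Agent.Blocks.Dihedral.exists_isDih hn hdih
        exact Cfsg.Agent.Blocks.DihedralRank.rank_le_two_dih hM hB hD hr u.2 huD hu
      · exact Cfsg.Agent.Blocks.DihedralRank.rank_le_two_quasi hM hB hD hQ u.2 huD hu
    omega
  · have hbig : Cfsg.Agent.Blocks.DihedralRank.BigCyclic D := by
      rcases hD' with ⟨n, hn, hdih⟩ | hQ
      · obtain ⟨r, hr⟩ := Cfsg.Agent.Blocks.Dihedral.exists_isDih hn hdih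
        exact Cfsg.Agent.Blocks.DihedralRank.bigCyclic_dih hr
      · exact Cfsg.Agent.Blocks.DihedralRank.bigCyclic_quasi hQ
    have := Cfsg.Agent.Blocks.DihedralRank.rank_le_two_solvable hM hB hD hbig
    omega

end Cfsg.Agent.S4531
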