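import Cfsg.Statements.S4540
import Cfsg.Agent.Lib.CharTheory.MajorContrib.Setup

set_option autoImplicit false
open Cfsg

namespace Cfsg.Agent.S4540

/-- Let B be a 2-block of the finite group G (relative to a maximal ideal M of the algebraic integers containing 2) of defect d with defect group D. Let z be an element of D commuting with every element of D, and let b be a block of the centralizer C of z with defect group D that induces B (a major subsection (z, b)). If b has 2-regular rank at most three, then 3·k(B) ≤ 3·k₀(B) + 2·Σ 2 ^ h(χ), where k(B) is the number of members of B, k₀(B) the number of members of height zero, and the sum runs over the members χ of B of positive height h(χ); this bound is at most 3·2 ^ d, so in particular B contains at most 2 ^ d irreducible characters. -/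
theorem result {G : Type*} [Group G] [Finite G] (M : Ideal Cfsg.AlgInt) (hM : Cfsg.IsPModular 2 M) (B : Set (Cfsg.IrrCharacter G)) (hB : Cfsg.IsPBlock M B) (D : Subgroup G) (hD : Cfsg.IsDefectGroup 2 M B D) (z : G) (hzD : z ∈ D) (hzc : ∀ d ∈ D, d * z = z * d) (b : Set (Cfsg.IrrCharacter ↥(Subgroup.centralizer ({z} : Set G)))) (hb : Cfsg.IsInducedBlock M (Subgroup.centralizer ({z} : Set G)) b B) (hbD : Cfsg.IsDefectGroup 2 M b (D.subgroupOf (Subgroup.centralizer ({z} : Set G)))) (hl : Cfsg.blockRank 2 b ≤ 3) : 3 * Nat.card B ≤ 3 * Nat.card {χ : Cfsg.IrrCharacter G // χ ∈ B ∧ Cfsg.blockHeight 2 B (χ : G → ℂ) = 0} + 2 * (∑ᶠ χ ∈ {χ : Cfsg.IrrCharacter G | χ ∈ B ∧ 1 ≤ Cfsg.blockHeight 2 B (χ : G → ℂ)}, 2 ^ Cfsg.blockHeight 2 B (χ : G → ℂ)) ∧ 3 * Nat.card {χ : Cfsg.IrrCharacter G // χ ∈ B ∧ Cfsg.blockHeight 2 B (χ : G → ℂ) = 0} + 2 * (∑ᶠ χ ∈ {χ : Cfsg.IrrCharacter G | χ ∈ B ∧ 1 ≤ Cfsg.blockHeight 2 B (χ : G → ℂ)}, 2 ^ Cfsg.blockHeight 2 B (χ : G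 → ℂ)) ≤ 3 * 2 ^ Cfsg.blockDefect 2 B := by
  classical
  haveI := Fintype.ofFinite (Cfsg.IrrCharacter G)
  obtain ⟨k, ζ, bs, n, e, w, hζ, htab⟩ :=
    Cfsg.Agent.CharTheory.MajorContrib.exists_table_of_defectGroup hM hB hD hzD hzc hb hbD
  rw [Cfsg.Agent.CharTheory.MajorContrib.card_filter_mem B]
  have hw := Cfsg.Agent.CharTheory.MajorContrib.weight_le_of_rank_le_three hM hB hζ htab rfl hl
  set h : Cfsg.IrrCharacter G → ℕ := fun χ => Cfsg.blockHeight 2 B (χ : G → ℂ) with hh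
  have h1 : Nat.card {χ : Cfsg.IrrCharacter G // χ ∈ B ∧ h χ = 0} =
      ((Finset.univ.filter (· ∈ B)).filter (fun χ => h χ = 0)).card := by
    rw [Nat.card_eq_fintype_card, Fintype.card_subtype, Finset.filter_filter]
  have h2 : ∑ᶠ χ ∈ {χ : Cfsg.IrrCharacter G | χ ∈ B ∧ 1 ≤ h χ}, 2 ^ h χ =
      ∑ χ ∈ (Finset.univ.filter (· ∈ B)).filter (fun χ => ¬ h χ = 0), 2 ^ h χ := by
    rw [finsum_mem_eq_toFinset_sum]
    refine Finset.sum_congr ?_ fun _ _ => rfl
    ext χ
    simp [Nat.one_le_iff_ne_zero]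
  rw [h1, h2]
  rw [Finset.sum_ite, Finset.sum_const, smul_eq_mul, ← Finset.mul_sum] at hw
  refine ⟨?_, by simpa [mul_comm] using hw⟩
  have h3 := Finset.card_filter_add_card_filter_not (s := Finset.univ.filter (· ∈ B)) (fun χ => h χ = 0)
  have h4 := Finset.card_nsmul_le_sum ((Finset.univ.filter (· ∈ B)).filter fun χ => ¬ h χ = 0)
    (fun χ => 2 ^ h χ) 2 fun χ hχ => Nat.le_self_pow (Finset.mem_filter.1 hχ).2 2
  rw [smul_eq_mul] at h4
  omega

end Cfsg.Agent.S4540
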