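import Cfsg.Statements.S4551
import Cfsg.Agent.BlockCharsA.PrincipalBijection

set_option autoImplicit false
set_option linter.style.haveILetI false
open Cfsg
open Cfsg.Agent.Blocks Cfsg.Agent.Characters Cfsg.Agent.BlockCharsA Cfsg.Agent.BlockCharsA.NormalSupport

namespace Cfsg.Agent.S4551

/-- Let N be a normal subgroup of the finite group G of index prime to p, P a Sylow p-subgroup of G with G = N·C_G(P), and M a maximal ideal of the algebraic integers containing p. Then restriction to N is a bijection from the principal p-block of G onto the principal p-block of N: every member of the principal block of G restricts to a member of the principal block of N, and every member of the principal block of N is the restriction of exactly one member of the principal block of G. -/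
theorem result {G : Type*} [Group G] [Finite G] (p : ℕ) [Fact p.Prime] (M : Ideal Cfsg.AlgInt) (hM : Cfsg.IsPModular p M) (N : Subgroup G) [N.Normal] (hidx : ¬ p ∣ N.index) (P : Sylow p G) (hsup : N ⊔ Subgroup.centralizer ((P : Subgroup G) : Set G) = ⊤) : (∀ χ ∈ Cfsg.principalBlock M G, ∃ θ ∈ Cfsg.principalBlock M ↥N, ∀ n : N, (χ : G → ℂ) n = (θ : N → ℂ) n) ∧ ∀ θ ∈ Cfsg.principalBlock M ↥N, ∃! χ : Cfsg.IrrCharacter G, χ ∈ Cfsg.principalBlock M G ∧ ∀ n : N, (χ : G → ℂ) n = (θ : N → ℂ) n := by
  classical
  haveI := Fintype.ofFinite G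
  haveI := Fintype.ofFinite N
  have hS : PrincipalRestrict.Setup p N P := by
    refine ⟨fun a ha => ?_, fun g => ?_, hidx⟩
    · obtain ⟨k, hk⟩ := P.isPGroup' ⟨a, ha⟩
      have hk' : a ^ p ^ k = 1 := by simpa using congrArg Subtype.val hk
      refine (QuotientGroup.eq_one_iff a).1 (orderOf_eq_one_iff.1 (Nat.eq_one_of_dvd_coprimes
        (Nat.Coprime.pow_left k (hM.1.coprime_iff_not_dvd.2 hidx))
        ((orderOf_map_dvd (QuotientGroup.mk' N) a).trans (orderOf_dvd_of_pow_eq_one hk')) ?_))
      rw [Subgroup.index_eq_card]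
      exact orderOf_dvd_natCard _
    · have hg : g ∈ N ⊔ Subgroup.centralizer ((P : Subgroup G) : Set G) :=
        hsup ▸ Subgroup.mem_top g
      obtain ⟨n, hn, c, hc, rfl⟩ := Subgroup.mem_sup_of_normal_left.1 hg
      refine ⟨c, hc, ?_⟩
      simpa [mul_assoc] using (inferInstance : N.Normal).conj_mem n hn c⁻¹
  refine ⟨fun χ hχ => ?_, fun θ hθ => ?_⟩
  · obtain ⟨θ, hθ⟩ := exists_under (N := N) χ
    exact ⟨θ, CoverOver.principal_under hM hχ hθ, PrincipalBijection.restrict_irr hM hS hχ hθ⟩
  · obtain ⟨χ, hχ, h⟩ := CoverOver.principal_over (G := G) hM hθ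
    have hres := PrincipalBijection.restrict_irr hM hS hχ h
    exact ⟨χ, ⟨hχ, hres⟩, fun χ' h' => PrincipalBijection.unique hM hS hχ h'.1 hres h'.2⟩

end Cfsg.Agent.S4551
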