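import Cfsg.Statements.S4553
import Mathlib
import Cfsg.Agent.BlockCharsA.CoverOver
import Cfsg.Agent.Lib.Blocks.InvariantCore
import Cfsg.Agent.BlocksChars.DerivedLength
import Cfsg.Agent.OddChar.PowTwist
import Cfsg.Agent.Lib.CharTheory.ExtendChar
import Cfsg.Agent.Lib.Cores.Residual
-- import your own Cfsg.Agent.* helpers here

set_option autoImplicit false
open Cfsg

namespace Cfsg.Agent.S4553

open Cfsg.Agent.Characters Cfsg.Agent.CharTheory Cfsg.Agent.CharTheory.ExtendChar

/-- The determinant of a character composed with a power map. -/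
theorem detChar_pow {G : Type*} [Group G] [Finite G] {η : G → ℂ} (hc : Cfsg.IsCharacter G η)
    (k : ℕ) (hψc : Cfsg.IsCharacter G fun g => η (g ^ k)) (z : G) :
    Cfsg.detChar (fun g => η (g ^ k)) z = Cfsg.detChar η (z ^ k) := by
  let m : Subgroup.zpowers z →* G :=
    { toFun := fun w => (w : G) ^ k
      map_one' := one_pow k
      map_mul' := fun a b => by
        obtain ⟨i, hi⟩ := a.2
        obtain ⟨j, hj⟩ := b.2
        simp only at hi hj
        show ((a : G) * b) ^ k = _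
        refine Commute.mul_pow ?_ k
        rw [← hi, ← hj]
        exact Commute.zpow_zpow_self z i j }
  have h1 := congrFun (detChar_comp (Subgroup.zpowers z).subtype hψc)
    ⟨z, Subgroup.mem_zpowers z⟩
  have h2 := congrFun (detChar_comp m hc) ⟨z, Subgroup.mem_zpowers z⟩
  rw [show (fun g => η (g ^ k)) ∘ (Subgroup.zpowers z).subtype = η ∘ m from rfl, h2] at h1
  exact h1.symm

/-- A homomorphism with values of `p`-power order kills the `p`-residual. -/
theorem residual_kills {G : Type*} [Group G] [Finite G] (p : ℕ) (A : ℕ) (f : G →* ℂˣ)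
    (hf : ∀ x ∈ Cfsg.pResidual p G, f x ^ p ^ A = 1) : ∀ x ∈ Cfsg.pResidual p G, f x = 1 := by
  suffices h : Cfsg.pResidual p G ≤ f.ker from fun x hx => MonoidHom.mem_ker.1 (h hx)
  refine (Subgroup.closure_le _).2 fun g hg => MonoidHom.mem_ker.2 ?_
  exact eq_one_of_pow_coprime (by rw [← map_pow, pow_orderOf_eq_one, map_one] : f g ^ orderOf g = 1)
    (hf g (Subgroup.subset_closure hg)) (Nat.Coprime.pow_right A hg)

/-- The number of characters of order dividing `p` of a nontrivial cyclic `p`-quotient. -/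
theorem card_torsion {G : Type*} [Group G] [Finite G] (p : ℕ) [Fact p.Prime] (N : Subgroup G)
    [N.Normal] (hcyc : IsCyclic (G ⧸ N)) {a : ℕ} (ha : N.index = p ^ a) (hN : N ≠ ⊤) :
    Nat.card {u : G →* ℂˣ // (∀ n : N, u n = 1) ∧ ∀ g, u g ^ p = 1} = p := by
  haveI : NeZero p := ⟨(Fact.out : p.Prime).ne_zero⟩
  obtain ⟨y, hy⟩ := hcyc.exists_generator
  have ha0 : a ≠ 0 := fun h => hN (Subgroup.index_eq_one.1 (by rw [ha, h, pow_zero]))
  have hord : p ∣ orderOf y := by
    rw [orderOf_eq_card_of_forall_mem_zpowers hy, ← Subgroup.index_eq_card, ha]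
    exact dvd_pow_self p ha0
  obtain ⟨g₀, rfl⟩ := QuotientGroup.mk'_surjective N y
  calc Nat.card {u : G →* ℂˣ // (∀ n : N, u n = 1) ∧ ∀ g, u g ^ p = 1}
      = Nat.card (rootsOfUnity p ℂ) := Nat.card_congr
        { toFun := fun u => ⟨u.1 g₀, (mem_rootsOfUnity p _).2 (u.2.2 g₀)⟩
          invFun := fun z => ⟨(monoidHomOfForallMemZpowers hy (g' := (z : ℂˣ))
              (dvd_trans (orderOf_dvd_of_pow_eq_one (show (z : ℂˣ) ^ p = 1 from (mem_rootsOfUnity p _).1 z.2)) hord)).comp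
              (QuotientGroup.mk' N), fun n => by
                rw [MonoidHom.comp_apply, show QuotientGroup.mk' N (n : G) = 1 from
                  (QuotientGroup.eq_one_iff (n : G)).2 n.2, map_one], fun g => by
                obtain ⟨i, hi⟩ := Subgroup.mem_zpowers_iff.1 (hy (QuotientGroup.mk' N g))
                rw [MonoidHom.comp_apply, ← hi, map_zpow, monoidHomOfForallMemZpowers_apply_gen,
                  ← zpow_natCast, ← zpow_mul, mul_comm, zpow_mul, zpow_natCast,
                  (mem_rootsOfUnity p _).1 z.2, one_zpow]⟩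
          left_inv := fun u => Subtype.ext (MonoidHom.ext fun g => by
            obtain ⟨i, hi⟩ := Subgroup.mem_zpowers_iff.1 (hy (QuotientGroup.mk' N g))
            rw [MonoidHom.comp_apply, ← hi, map_zpow, monoidHomOfForallMemZpowers_apply_gen]
            rw [← map_zpow] at hi
            have h1 : (g₀ ^ i)⁻¹ * g ∈ N := QuotientGroup.eq.1 hi
            have h2 := u.2.1 ⟨_, h1⟩
            rw [map_mul, map_inv, inv_mul_eq_one, map_zpow] at h2
            exact h2)
          right_inv := fun z => Subtype.ext (by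
            show (monoidHomOfForallMemZpowers hy (dvd_trans (orderOf_dvd_of_pow_eq_one
              (show (z : ℂˣ) ^ p = 1 from (mem_rootsOfUnity p _).1 z.2)) hord))
                (QuotientGroup.mk' N g₀) = (z : ℂˣ)
            exact monoidHomOfForallMemZpowers_apply_gen hy _) }
    _ = p := Complex.card_rootsOfUnity p

section Main

variable {G : Type*} [Group G] [Finite G] {p : ℕ} [Fact p.Prime] {N : Subgroup G} [hN : N.Normal]

/-- An invariant fixed character has exactly `p` fixed extensions, and these are all the fixed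
characters of `p'`-degree over it. -/
theorem card_fibre [Fintype N] (hNres : N = Cfsg.pResidual p G) (hcyc : IsCyclic (G ⧸ N))
    (hnt : N ≠ ⊤) {k e : ℕ} (hk : k.Coprime (Nat.card G))
    (he : e ≡ 1 [MOD p ^ (Nat.card G).factorization p])
    (he0 : Nat.card G ∣ e * p ^ (Nat.card G).factorization p)
    (hke : ∀ g : G, g ^ k = g ^ (e * p + 1))
    (θ : Cfsg.IrrCharacter N) (hθp : ¬ p ∣ Cfsg.charDegree (θ : N → ℂ))
    (hinv : ∀ g : G, Clifford.conjBy N g (θ : N → ℂ) = θ)
    (hfix : ∀ n : N, (θ : N → ℂ) (n ^ k) = (θ : N → ℂ) n) :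
    Nat.card {χ : Cfsg.IrrCharacter G // (∀ n : N, (χ : G → ℂ) n = (θ : N → ℂ) n) ∧
      ∀ g : G, (χ : G → ℂ) (g ^ k) = (χ : G → ℂ) g} = p := by
  classical
  haveI := Fintype.ofFinite G
  have hp : p.Prime := Fact.out
  set A := (Nat.card G).factorization p with hA
  obtain ⟨a, ha⟩ : ∃ a, N.index = p ^ a := hNres ▸ Cores.pResidual_index p
  have haA : p ^ a ∣ p ^ A := by
    refine pow_dvd_pow p ?_
    rw [hA]
    exact (hp.pow_dvd_iff_le_factorization Nat.card_pos.ne').1 (ha ▸ N.index_dvd_card)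
  obtain ⟨η, hη, hηN⟩ := exists_extension_cyclic N hcyc θ.2 hinv
  have hηc := isCharacter_of_isIrr hη
  have hres : (fun n : N => η n) = (θ : N → ℂ) := funext hηN
  have hσ := Cfsg.Agent.OddChar.PowTwist.isIrr_comp_pow hη hk
  obtain ⟨lam0, hl, hl1, hlN, hmul⟩ := extension_eq_linear_mul N θ.2 hη hηN hσ fun n => by
    show η ((n : G) ^ k) = _
    rw [show (n : G) ^ k = ((n ^ k : N) : G) from rfl, hηN, hfix]
  obtain ⟨L, hL⟩ := exists_hom hl hl1
  obtain ⟨μ, hμ⟩ := exists_hom (detChar_isLinear hηc).1 (detChar_isLinear hηc).2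
  set ν := μ ^ e with hν
  have hνN : ∀ x ∈ Cfsg.pResidual p G, ν x = 1 := by
    refine residual_kills p A ν fun x _ => ?_
    rw [hν, MonoidHom.pow_apply, ← pow_mul]
    obtain ⟨c, hc⟩ := he0
    rw [hc, pow_mul, ← map_pow, pow_card_eq_one', map_one, one_pow]
  have htriv : ∀ (u : G →* ℂˣ), (∀ n : N, u n = 1) → ∀ g, u g ^ p ^ a = 1 := by
    intro u hu g
    rw [← map_pow, ← ha]
    exact hu ⟨_, N.pow_index_mem g⟩
  have hue : ∀ (u : G →* ℂˣ), (∀ n : N, u n = 1) → ∀ g, u g ^ e = u g := by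
    intro u hu g
    conv_rhs => rw [← pow_one (u g)]
    exact pow_eq_pow_iff_modEq.2 (Nat.ModEq.of_dvd
      ((orderOf_dvd_of_pow_eq_one (htriv u hu g)).trans haA) he)
  -- the degree
  set d := Cfsg.charDegree (θ : N → ℂ) with hd
  have hη1 : η 1 = (d : ℂ) := by
    rw [hd, Blocks.charDegree_cast, ← hηN]; rfl
  -- the twist is a `p`-th power
  have hLd : ∀ g, L g ^ d = ν g ^ p := by
    intro g
    have h1 := detChar_pow hηc k (isCharacter_of_isIrr hσ) g
    rw [← hmul, detChar_mul_linear hηc hl hl1 hη1, ← hμ, ← hμ, ← hL, hke, map_pow,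
      ← Units.val_pow_eq_pow_val, ← Units.val_mul] at h1
    have h2 := Units.ext h1
    rw [pow_succ, mul_left_inj, pow_mul] at h2
    rw [h2, hν, MonoidHom.pow_apply]
  have hL1 : ∀ n : N, L n = 1 := fun n => Units.ext (by rw [hL, hlN, Units.val_one])
  obtain ⟨d', hd'⟩ := exists_pow_inverse (m := d) (n := p ^ a)
    ((hp.coprime_iff_not_dvd.2 hθp).symm.pow_right a)
  set s := ν ^ d' with hs
  have hs1 : ∀ n : N, s n = 1 := fun n => by
    rw [hs, MonoidHom.pow_apply, hνN _ (hNres ▸ n.2), one_pow]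
  have hLs : ∀ g, L g = s g ^ p := fun g => by
    conv_lhs => rw [← hd' (L g) (htriv L hL1 g), hLd]
    simp only [hs, hν, MonoidHom.pow_apply, ← pow_mul]
    congr 1
    ring
  -- injectivity of twisting
  have hq := Average.quotChar_self N hη (hres ▸ θ.2)
  have hinj : ∀ u w : G →* ℂˣ, (∀ n : N, u n = 1) → (∀ n : N, w n = 1) →
      (∀ g, (u g : ℂ) * η g = (w g : ℂ) * η g) → u = w := by
    intro u w hu hw h
    ext g
    have h1 : ∀ n : N, (u ((n : G) * g) : ℂ) = u g ∧ (w ((n : G) * g) : ℂ) = w g := fun n => by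
      rw [map_mul, map_mul, hu, hw, one_mul, one_mul]; exact ⟨rfl, rfl⟩
    have h2 : ∀ v : G →* ℂˣ, (∀ n : N, (v ((n : G) * g) : ℂ) = v g) →
        Average.quotChar N η (fun x => (v x : ℂ) * η x) g = (v g : ℂ) := by
      intro v hv
      have h3 := congrFun hq g
      rw [Average.quotChar_apply] at h3 ⊢
      simp only [hv, mul_assoc, ← Finset.mul_sum]
      rw [mul_left_comm, h3, mul_one]
    have h4 := h2 u fun n => (h1 n).1
    rw [show (fun x => (u x : ℂ) * η x) = fun x => (w x : ℂ) * η x from funext h,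
      h2 w fun n => (h1 n).2] at h4
    exact h4.symm
  -- the criterion
  have hcrit : ∀ u : G →* ℂˣ, (∀ n : N, u n = 1) →
      ((∀ g : G, (u (g ^ k) : ℂ) * η (g ^ k) = (u g : ℂ) * η g) ↔ ∀ g, (u g * s g) ^ p = 1) := by
    intro u hu
    have hval : ∀ g, (u (g ^ k) : ℂ) * η (g ^ k) = (((u ^ (p + 1) * L) g : ℂˣ) : ℂ) * η g := by
      intro g
      have h1 : η (g ^ k) = lam0 g * η g := (congrFun hmul g).symm
      rw [h1, ← hL, hke, map_pow, pow_succ, pow_mul, hue u hu, MonoidHom.mul_apply,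
        MonoidHom.pow_apply, pow_succ]
      simp only [Units.val_mul]
      ring
    constructor
    · intro h g
      have h2 := hinj (u ^ (p + 1) * L) u (fun n => by
        rw [MonoidHom.mul_apply, MonoidHom.pow_apply, hu, hL1, one_pow, one_mul]) hu
        fun x => by rw [← hval]; exact h x
      have h3 := DFunLike.congr_fun h2 g
      rw [MonoidHom.mul_apply, MonoidHom.pow_apply, hLs, pow_succ, mul_comm (u g ^ p), mul_assoc,
        ← mul_pow] at h3
      simpa using h3
    · intro h g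
      rw [hval, MonoidHom.mul_apply, MonoidHom.pow_apply, hLs, pow_succ, mul_comm (u g ^ p),
        mul_assoc, ← mul_pow, h g, mul_one]
  rw [← card_torsion p N hcyc ha hnt]
  refine (Nat.card_eq_of_bijective (fun u : {u : G →* ℂˣ // (∀ n : N, u n = 1) ∧ ∀ g, u g ^ p = 1} =>
    (⟨⟨fun g => ((u.1 * s⁻¹) g : ℂ) * η g, ?_⟩, ?_, ?_⟩ :
      {χ : Cfsg.IrrCharacter G // (∀ n : N, (χ : G → ℂ) n = (θ : N → ℂ) n) ∧
        ∀ g : G, (χ : G → ℂ) (g ^ k) = (χ : G → ℂ) g})) ⟨?_, ?_⟩).symm
  · have h := Basics.isIrr_mul_linear hη (hom_isLinear (u.1 * s⁻¹)).1 (hom_isLinear (u.1 * s⁻¹)).2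
    rwa [mul_comm] at h
  · intro n
    show ((u.1 * s⁻¹) n : ℂ) * η n = _
    rw [MonoidHom.mul_apply, MonoidHom.inv_apply, u.2.1, hs1, inv_one, one_mul, Units.val_one,
      one_mul, hηN]
  · refine (hcrit _ fun n => ?_).2 fun g => ?_
    · rw [MonoidHom.mul_apply, MonoidHom.inv_apply, u.2.1, hs1, inv_one, one_mul]
    · rw [MonoidHom.mul_apply, MonoidHom.inv_apply, inv_mul_cancel_right, u.2.2]
  · intro u w h
    have h1 := congrArg (fun x => ((x.1 : Cfsg.IrrCharacter G) : G → ℂ)) h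
    refine Subtype.ext (mul_right_cancel (hinj (u.1 * s⁻¹) (w.1 * s⁻¹) ?_ ?_ fun g => congrFun h1 g))
    all_goals intro n; rw [MonoidHom.mul_apply, MonoidHom.inv_apply, hs1, inv_one, mul_one]
    · exact u.2.1 n
    · exact w.2.1 n
  · rintro ⟨χ, hχN, hχk⟩
    obtain ⟨lam, hc, hc1, hcN, hcm⟩ := extension_eq_linear_mul N θ.2 hη hηN χ.2 hχN
    obtain ⟨u, hu⟩ := exists_hom hc hc1
    have hu1 : ∀ n : N, u n = 1 := fun n => Units.ext (by rw [hu, hcN, Units.val_one])
    have hχv : ∀ g, (χ : G → ℂ) g = (u g : ℂ) * η g := fun g => by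
      rw [hu]; exact (congrFun hcm g).symm
    refine ⟨⟨u * s, fun n => ?_, fun g => ?_⟩, Subtype.ext (Subtype.ext (funext fun g => ?_))⟩
    · rw [MonoidHom.mul_apply, hu1, hs1, one_mul]
    · exact (hcrit u hu1).1 (fun x => by rw [← hχv, ← hχv, hχk]) g
    · show (((u * s) * s⁻¹) g : ℂ) * η g = (χ : G → ℂ) g
      rw [MonoidHom.mul_apply, MonoidHom.mul_apply, MonoidHom.inv_apply, mul_inv_cancel_right, hχv]

/-- A character of `p'`-degree restricts irreducibly to an invariant character. -/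
theorem restrict_data [Fintype N] (hidx : ∃ a, N.index = p ^ a) (hcyc : IsCyclic (G ⧸ N))
    (χ : Cfsg.IrrCharacter G) (hχ : ¬ p ∣ Cfsg.charDegree (χ : G → ℂ)) :
    ∃ θ : Cfsg.IrrCharacter N, (∀ n : N, (χ : G → ℂ) n = (θ : N → ℂ) n) ∧
      ∀ g : G, Clifford.conjBy N g (θ : N → ℂ) = θ := by
  classical
  haveI := Fintype.ofFinite G
  obtain ⟨θ, hne⟩ := BlockCharsA.NormalSupport.exists_under (N := N) χ
  obtain ⟨hdvd, hidx'⟩ := BlocksChars.DerivedLength.over_data N θ χ hne
  obtain ⟨a, ha⟩ := hidx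
  have hinv : ∀ g : G, Clifford.conjBy N g (θ : N → ℂ) = θ := by
    intro g
    have hle : (N : Subgroup G) ≤ BlocksChars.ItoPSolvable.inertia N (θ : N → ℂ) := fun x hx => (show Clifford.conjBy N x (θ : N → ℂ) = θ from
      funext fun y => irr_isClassFunction θ y ⟨x, hx⟩)
    have hdiv := (Subgroup.index_dvd_of_le (K := _) hle).trans (dvd_of_eq ha)
    obtain ⟨i, -, hi⟩ := (Nat.dvd_prime_pow Fact.out).1 hdiv
    rcases Nat.eq_zero_or_pos i with rfl | hi0
    · rw [pow_zero, Subgroup.index_eq_one] at hi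
      exact (hi ▸ Subgroup.mem_top g : g ∈ BlocksChars.ItoPSolvable.inertia N (θ : N → ℂ))
    · exact absurd ((dvd_pow_self p hi0.ne').trans (hi ▸ hidx')) hχ
  obtain ⟨η, hη, hηN⟩ := exists_extension_cyclic N hcyc θ.2 hinv
  have hres : (fun n : N => η n) = (θ : N → ℂ) := funext hηN
  obtain ⟨hq, hmul⟩ := Average.gallagher N hη (hres ▸ θ.2) χ.2 (by rw [hres]; exact hne)
  have hker : ∀ x ∈ N, Average.quotChar N η (χ : G → ℂ) x = Average.quotChar N η (χ : G → ℂ) 1 :=
    fun x hx => by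
      have h := Average.quotChar_mul_left N η (χ : G → ℂ) ⟨x, hx⟩ 1
      rwa [mul_one] at h
  obtain ⟨ψ, -, hψ, hψi⟩ := exists_deflate_quotient N (isCharacter_of_isIrr hq) hker
  haveI := hcyc
  have h1 : Average.quotChar N η (χ : G → ℂ) 1 = 1 := by
    rw [← hψ]
    exact irr_degree_one_of_comm (fun a b => (IsCyclic.commGroup (α := G ⧸ N)).mul_comm a b) (hψi hq)
  refine ⟨θ, fun n => ?_, hinv⟩
  have h := congrFun hmul (n : G)
  rw [Pi.mul_apply, hker _ n.2, h1, one_mul, hηN] at h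
  exact h.symm

end Main

/-- Let G be a finite group, p a prime, P a Sylow p-subgroup, N the p-residual of G (the subgroup generated by the elements of order prime to p, the smallest normal subgroup with G/N a p-group), and M a maximal ideal of the algebraic integers containing p; suppose G/N is cyclic and nontrivial. Let k be a natural number with g ^ k = g ^ (1 + p) for every p-element g and g ^ k = g for every element g of order prime to p (so that χ (g ^ k) is the image of χ g under the field automorphism that raises p-power roots of unity to the power 1 + p and fixes the roots of unity of order prime to p). Then the number of members χ of the principal block of G of degree prime to p with χ (g ^ k) = χ g for all g equals p times the number of members θ of the principal block of N of degree prime to p that are invariant under conjugation by P and satisfy θ (n ^ k) = θ n for all n. -/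
theorem result {G : Type*} [Group G] [Finite G] (p : ℕ) [Fact p.Prime] (M : Ideal Cfsg.AlgInt) (hM : Cfsg.IsPModular p M) (P : Sylow p G) (N : Subgroup G) [hN : N.Normal] (hNres : N = Cfsg.pResidual p G) (hcyc : IsCyclic (G ⧸ N)) (hnt : N ≠ ⊤) (k : ℕ) (hk₁ : ∀ g : G, (∃ j : ℕ, orderOf g = p ^ j) → g ^ k = g ^ (1 + p)) (hk₂ : ∀ g : G, Nat.Coprime (orderOf g) p → g ^ k = g) : Nat.card {χ : Cfsg.IrrCharacter G // χ ∈ Cfsg.principalBlock M G ∧ ¬ p ∣ Cfsg.charDegree (χ : G → ℂ) ∧ ∀ g : G, (χ : G → ℂ) (g ^ k) = (χ : G → ℂ) g} = p * Nat.card {θ : Cfsg.IrrCharacter ↥N // θ ∈ Cfsg.principalBlock M ↥N ∧ ¬ p ∣ Cfsg.charDegree (θ : ↥N → ℂ) ∧ (∀ x ∈ (P : Subgroup G), ∀ n : ↥N, (θ : ↥N → ℂ) ⟨x * n * x⁻¹, hN.conj_mem n n.2 x⟩ = (θ : ↥N → ℂ) n) ∧ ∀ n : ↥N, (θ : ↥N → ℂ) (n ^ k) = (θ : ↥N → ℂ) n} := by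
  classical
  haveI := Fintype.ofFinite N
  haveI := Fintype.ofFinite G
  have hp : p.Prime := Fact.out
  set A := (Nat.card G).factorization p with hA
  set m := Nat.card G / p ^ A with hm
  have hcardG : p ^ A * m = Nat.card G := Nat.ordProj_mul_ordCompl_eq_self (Nat.card G) p
  have hcop : (p ^ A).Coprime m :=
    (Nat.coprime_ordCompl hp (Nat.card_pos (α := G)).ne').pow_left A
  obtain ⟨e, he1, he2⟩ := Nat.chineseRemainder hcop 1 0
  obtain ⟨f, hf1, hf2⟩ := Nat.chineseRemainder hcop 0 1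
  have hme : m ∣ e := Nat.modEq_zero_iff_dvd.1 he2
  have hpf : p ^ A ∣ f := Nat.modEq_zero_iff_dvd.1 hf1
  have he0 : Nat.card G ∣ e * p ^ A := by
    rw [← hcardG, mul_comm (p ^ A)]; exact Nat.mul_dvd_mul_right hme _
  have hef : e + f ≡ 1 [MOD Nat.card G] := by
    rw [← hcardG, ← Nat.modEq_and_modEq_iff_modEq_mul hcop]
    exact ⟨by simpa using he1.add hf1, by simpa using he2.add hf2⟩
  have hsplit : ∀ g : G, g ^ (e + f) = g := fun g => by
    conv_rhs => rw [← pow_one g]
    exact pow_eq_pow_iff_modEq.2 (hef.of_dvd (orderOf_dvd_natCard g))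
  have hke : ∀ g : G, g ^ k = g ^ (e * p + 1) := by
    intro g
    have h1 : ∃ j : ℕ, orderOf (g ^ e) = p ^ j := by
      obtain ⟨j, -, hj⟩ := (Nat.dvd_prime_pow hp).1 (orderOf_dvd_of_pow_eq_one (show (g ^ e) ^ p ^ A = 1 by
        rw [← pow_mul]; exact orderOf_dvd_iff_pow_eq_one.1 ((orderOf_dvd_natCard g).trans he0)))
      exact ⟨j, hj⟩
    have h2 : Nat.Coprime (orderOf (g ^ f)) p := by
      refine ((Nat.coprime_ordCompl hp (Nat.card_pos (α := G)).ne').symm).coprime_dvd_left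
        (orderOf_dvd_of_pow_eq_one ?_)
      rw [← pow_mul]
      exact orderOf_dvd_iff_pow_eq_one.1 ((orderOf_dvd_natCard g).trans
        (hcardG.symm.dvd.trans (Nat.mul_dvd_mul_right hpf m)))
    calc g ^ k = (g ^ e * g ^ f) ^ k := by rw [← pow_add, hsplit]
      _ = (g ^ e) ^ (1 + p) * g ^ f := by
          rw [((Commute.refl g).pow_pow e f).mul_pow, hk₁ _ h1, hk₂ _ h2]
      _ = g ^ (e * p + (e + f)) := by rw [← pow_mul, ← pow_add]; congr 1; ring
      _ = g ^ (e * p + 1) := by rw [pow_add, hsplit, pow_succ]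
  have hk : k.Coprime (Nat.card G) := by
    refine Nat.coprime_of_dvd fun r hr hrk hrG => ?_
    haveI := Fact.mk hr
    obtain ⟨x, hx⟩ := exists_prime_orderOf_dvd_card' r hrG
    have h := hke x
    rw [orderOf_dvd_iff_pow_eq_one.1 (hx.symm ▸ hrk), eq_comm, ← orderOf_dvd_iff_pow_eq_one, hx] at h
    refine hr.one_lt.ne' (Nat.dvd_one.1 ((Nat.dvd_add_right ?_).1 h))
    by_cases hrp : r = p
    · exact hrp ▸ dvd_mul_left p e
    · refine (dvd_trans ?_ hme).mul_right p
      rcases (Nat.Prime.dvd_mul hr).1 (hcardG.symm ▸ hrG) with h' | h'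
      · exact absurd ((Nat.prime_dvd_prime_iff_eq hr hp).1 (hr.dvd_of_dvd_pow h')) hrp
      · exact h'
  have hidx : ∃ a, N.index = p ^ a := hNres ▸ Cores.pResidual_index p
  -- invariance under a Sylow subgroup is invariance
  have hinvP : ∀ θ : Cfsg.IrrCharacter N, (∀ x ∈ (P : Subgroup G), ∀ n : N,
      (θ : N → ℂ) ⟨x * n * x⁻¹, hN.conj_mem n n.2 x⟩ = (θ : N → ℂ) n) →
      ∀ g : G, Clifford.conjBy N g (θ : N → ℂ) = θ := by
    intro θ h
    have hcl : ∀ x ∈ (P : Subgroup G) ⊔ N, Clifford.conjBy N x (θ : N → ℂ) = θ := by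
      intro x hx
      obtain ⟨u, hu, n, hn, rfl⟩ := Subgroup.mem_sup_of_normal_right.1 hx
      rw [← Clifford.conjBy_conjBy, show Clifford.conjBy N u (θ : N → ℂ) = θ from
        funext fun y => h u hu y]
      exact funext fun y => irr_isClassFunction θ y ⟨n, hn⟩
    have htop : (P : Subgroup G) ⊔ N = ⊤ := by
      obtain ⟨a, ha⟩ := hidx
      rw [← Subgroup.index_eq_one]
      exact Nat.eq_one_of_dvd_coprimes ((hp.coprime_iff_not_dvd.2 P.not_dvd_index).symm.pow_right a)
        (Subgroup.index_dvd_of_le le_sup_left) (ha ▸ Subgroup.index_dvd_of_le le_sup_right)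
    exact fun g => hcl g (htop ▸ Subgroup.mem_top g)
  have hdata : ∀ χ : {χ : Cfsg.IrrCharacter G // χ ∈ Cfsg.principalBlock M G ∧
      ¬ p ∣ Cfsg.charDegree (χ : G → ℂ) ∧ ∀ g : G, (χ : G → ℂ) (g ^ k) = (χ : G → ℂ) g},
      ∃ θ : {θ : Cfsg.IrrCharacter N // θ ∈ Cfsg.principalBlock M N ∧
        ¬ p ∣ Cfsg.charDegree (θ : N → ℂ) ∧ (∀ x ∈ (P : Subgroup G), ∀ n : N,
          (θ : N → ℂ) ⟨x * n * x⁻¹, hN.conj_mem n n.2 x⟩ = (θ : N → ℂ) n) ∧
        ∀ n : N, (θ : N → ℂ) (n ^ k) = (θ : N → ℂ) n},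
        ∀ n : N, (χ.1 : G → ℂ) n = (θ.1 : N → ℂ) n := by
    rintro ⟨χ, hB, hdeg, hfix⟩
    obtain ⟨θ, hres, hinv⟩ := restrict_data hidx hcyc χ hdeg
    have hd : Cfsg.charDegree (θ : N → ℂ) = Cfsg.charDegree (χ : G → ℂ) := by
      unfold Cfsg.charDegree; rw [← hres]; rfl
    refine ⟨⟨θ, BlockCharsA.CoverOver.principal_under hM hB (θ := θ) ?_, hd ▸ hdeg,
      fun x _ n => congrFun (hinv x) n, fun n => ?_⟩, hres⟩
    · rw [show (fun n : N => (χ : G → ℂ) n) = (θ : N → ℂ) from funext hres,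
        classInner_isIrr_self θ.2]
      exact one_ne_zero
    · rw [← hres, ← hres]; exact hfix n
  choose r hr using hdata
  haveI := Fintype.ofFinite {θ : Cfsg.IrrCharacter N // θ ∈ Cfsg.principalBlock M N ∧
        ¬ p ∣ Cfsg.charDegree (θ : N → ℂ) ∧ (∀ x ∈ (P : Subgroup G), ∀ n : N,
          (θ : N → ℂ) ⟨x * n * x⁻¹, hN.conj_mem n n.2 x⟩ = (θ : N → ℂ) n) ∧
        ∀ n : N, (θ : N → ℂ) (n ^ k) = (θ : N → ℂ) n}
  rw [Nat.card_congr (Equiv.sigmaFiberEquiv r).symm, Nat.card_sigma,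
    Finset.sum_congr rfl (g := fun _ => p) fun θ _ => ?_, Finset.sum_const, Finset.card_univ,
    smul_eq_mul, ← Nat.card_eq_fintype_card, mul_comm]
  obtain ⟨θ, hθB, hθd, hθP, hθk⟩ := θ
  have hinv := hinvP θ hθP
  refine Eq.trans (Nat.card_congr ?_) (card_fibre hNres hcyc hnt hk he1 he0 hke θ hθd hinv hθk)
  refine
    { toFun := fun x => ⟨x.1.1, fun n => by rw [hr x.1 n]; simp only [x.2], x.1.2.2.2⟩
      invFun := fun χ => ⟨⟨χ.1, ?_, ?_, χ.2.2⟩, ?_⟩
      left_inv := fun x => rfl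
      right_inv := fun χ => rfl }
  · obtain ⟨χ', hχ', hne⟩ := BlockCharsA.CoverOver.principal_over (G := G) hM hθB
    refine Blocks.mem_of_sameBlock hM (Blocks.isPBlock_principal M G) hχ'
      (Blocks.sameBlock_of_covers_same hM hidx hne (θ' := θ) ?_ (Blocks.sameBlock_refl hM _))
    rw [show (fun n : N => (χ.1 : G → ℂ) n) = (θ : N → ℂ) from funext χ.2.1,
      classInner_isIrr_self θ.2]
    exact one_ne_zero
  · have hd : Cfsg.charDegree (χ.1 : G → ℂ) = Cfsg.charDegree (θ : N → ℂ) := by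
      unfold Cfsg.charDegree; rw [← χ.2.1]; rfl
    exact hd ▸ hθd
  · refine Subtype.ext (Subtype.ext (funext fun n => ?_))
    rw [← hr _ n]; exact χ.2.1 n

end Cfsg.Agent.S4553
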