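import Cfsg.Statements.S4560
import Mathlib
import Cfsg.Agent.BlocksChars.AltVanish.Chars
-- import your own Cfsg.Agent.* helpers here

set_option autoImplicit false
open Cfsg

namespace Cfsg.Agent.S4560

open Cfsg.Agent.BlocksChars.AltVanish Equiv Finset

variable {n : ℕ}

/-- An even permutation with prescribed cycle lengths. -/
theorem exists_elt (m : Multiset ℕ) (hsum : m.sum ≤ n) (h2 : ∀ a ∈ m, 2 ≤ a)
    (heven : Even (m.sum + Multiset.card m)) :
    ∃ g : alternatingGroup (Fin n), orderOf g = m.lcm ∧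
      (fixSet (α := Fin n) g).card = n - m.sum ∧ (2 ∉ m → (swapSet (α := Fin n) g).card = 0) := by
  obtain ⟨g, hg⟩ := (Equiv.Perm.exists_with_cycleType_iff (Fin n)).2
    ⟨by simpa using hsum, h2⟩
  have hmem : g ∈ alternatingGroup (Fin n) := by
    rw [Equiv.Perm.mem_alternatingGroup, Equiv.Perm.sign_of_cycleType, hg, heven.neg_one_pow]
  refine ⟨⟨g, hmem⟩, ?_, ?_, fun hno => ?_⟩
  · rw [Subgroup.orderOf_mk, ← Equiv.Perm.lcm_cycleType, hg]
  · have e : fixSet (α := Fin n) (⟨g, hmem⟩ : alternatingGroup (Fin n)) = univ \ g.support := by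
      ext x
      simp [mem_fixSet, Subgroup.smul_def]
    rw [e, card_univ_sdiff, Fintype.card_fin, ← Equiv.Perm.sum_cycleType, hg]
  · rw [card_eq_zero, eq_empty_iff_forall_notMem]
    intro x hx
    rw [mem_swapSet] at hx
    obtain ⟨hx2, hx1⟩ : g (g x) = x ∧ g x ≠ x := by simpa [Subgroup.smul_def] using hx
    refine hno ?_
    rw [← hg, Equiv.Perm.cycleType_def, Multiset.mem_map]
    have hc : (g.cycleOf x).IsCycle := Equiv.Perm.isCycle_cycleOf g hx1
    have hmemf : g.cycleOf x ∈ g.cycleFactorsFinset :=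
      Equiv.Perm.cycleOf_mem_cycleFactorsFinset_iff.2 (Equiv.Perm.mem_support.2 hx1)
    refine ⟨g.cycleOf x, hmemf, ?_⟩
    have h3 : (g.cycleOf x) ^ 2 = 1 := by
      refine (hc.pow_eq_one_iff' (x := x) (by rwa [Equiv.Perm.cycleOf_apply_self])).2 ?_
      rw [Equiv.Perm.cycleOf_pow_apply_self, sq, Equiv.Perm.mul_apply, hx2]
    show (g.cycleOf x).support.card = 2
    rw [← hc.orderOf]
    exact orderOf_eq_prime h3 hc.ne_one

theorem fix_coe (x : alternatingGroup (Fin n)) :
    fixSet (α := Fin n) (x : Equiv.Perm (Fin n)) = fixSet (α := Fin n) x := by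
  ext i
  simp [mem_fixSet, Subgroup.smul_def]

theorem swap_coe (x : alternatingGroup (Fin n)) :
    swapSet (α := Fin n) (x : Equiv.Perm (Fin n)) = swapSet (α := Fin n) x := by
  ext i
  simp [mem_swapSet, Subgroup.smul_def]

theorem trans_alt (hn : 7 ≤ n) :
    MulAction.IsMultiplyPretransitive (alternatingGroup (Fin n)) (Fin n) 4 := by
  haveI := alternatingGroup.isMultiplyPretransitive (Fin n)
  exact MulAction.isMultiplyPretransitive_of_le (n := Nat.card (Fin n) - 2) (by simp; omega)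
    (Nat.sub_le _ _)

/-- A character of the alternating group that extends and vanishes at a given element. -/
theorem package (hn : 7 ≤ n) (x : alternatingGroup (Fin n))
    (h : (fixSet (α := Fin n) x).card = 1 ∨
      (2 ≤ 3 ∧ (swapSet (α := Fin n) x).card = 0 ∧
        ((fixSet (α := Fin n) x).card = 0 ∨ (fixSet (α := Fin n) x).card = 2))) :
    ∃ χ : Cfsg.IrrCharacter (alternatingGroup (Fin n)),
      (χ : alternatingGroup (Fin n) → ℂ) x = 0 ∧ ∃ ψ : Cfsg.IrrCharacter (Equiv.Perm (Fin n)),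
        ∀ y : alternatingGroup (Fin n), (ψ : Equiv.Perm (Fin n) → ℂ) y =
          (χ : alternatingGroup (Fin n) → ℂ) y := by
  have hA := trans_alt hn
  have hS := Equiv.Perm.isMultiplyPretransitive (Fin n) 4
  have hc : 4 ≤ Fintype.card (Fin n) := by simp; omega
  rcases h with h | ⟨-, hu, h | h⟩
  · refine ⟨⟨_, isIrr_chiA hA hc⟩, ?_, ⟨_, isIrr_chiA hS hc⟩, fun y => ?_⟩
    · show chiA (alternatingGroup (Fin n)) (Fin n) x = 0
      simp [chiA, h]
    · show chiA (Equiv.Perm (Fin n)) (Fin n) y = chiA (alternatingGroup (Fin n)) (Fin n) y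
      simp only [chiA, fix_coe]
  · refine ⟨⟨_, isIrr_chiB hA hc⟩, ?_, ⟨_, isIrr_chiB hS hc⟩, fun y => ?_⟩
    · show chiB (alternatingGroup (Fin n)) (Fin n) x = 0
      simp [chiB, h, hu]
    · show chiB (Equiv.Perm (Fin n)) (Fin n) y = chiB (alternatingGroup (Fin n)) (Fin n) y
      simp only [chiB, fix_coe, swap_coe]
  · refine ⟨⟨_, isIrr_chiC hA hc⟩, ?_, ⟨_, isIrr_chiC hS hc⟩, fun y => ?_⟩
    · show chiC (alternatingGroup (Fin n)) (Fin n) x = 0
      simp [chiC, h, hu]
      norm_num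
    · show chiC (Equiv.Perm (Fin n)) (Fin n) y = chiC (alternatingGroup (Fin n)) (Fin n) y
      simp only [chiC, fix_coe, swap_coe]

theorem exists_two_elt (hn : 7 ≤ n) : ∃ x : alternatingGroup (Fin n),
    (∃ j : ℕ, orderOf x = 2 ^ j) ∧ ((fixSet (α := Fin n) x).card = 1 ∨
      (2 ≤ 3 ∧ (swapSet (α := Fin n) x).card = 0 ∧
        ((fixSet (α := Fin n) x).card = 0 ∨ (fixSet (α := Fin n) x).card = 2))) := by
  have h2pow : ∀ m : Multiset ℕ, (∀ a ∈ m, a ∣ 2 ^ 3) → ∃ j, m.lcm = 2 ^ j := fun m hm => by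
    obtain ⟨j, -, hj⟩ := (Nat.dvd_prime_pow Nat.prime_two).1 (Multiset.lcm_dvd.2 hm)
    exact ⟨j, hj⟩
  rcases Nat.even_or_odd n with ⟨k, hk⟩ | ⟨k, hk⟩
  · -- multiset of fours and eights
    obtain ⟨a, f, hf, hna⟩ : ∃ a f, (f = 0 ∨ f = 2) ∧ n = 4 * a + f := by
      rcases Nat.even_or_odd k with ⟨a, ha⟩ | ⟨a, ha⟩
      · exact ⟨a, 0, Or.inl rfl, by omega⟩
      · exact ⟨a, 2, Or.inr rfl, by omega⟩
    obtain ⟨m, hsum, hm, he⟩ : ∃ m : Multiset ℕ, m.sum = 4 * a ∧
        (∀ b ∈ m, b = 4 ∨ b = 8) ∧ Even (m.sum + Multiset.card m) := by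
      rcases Nat.even_or_odd a with ha | ⟨c, hc⟩
      · refine ⟨Multiset.replicate a 4, by simp [mul_comm],
          fun b hb => Or.inl (Multiset.eq_of_mem_replicate hb), ?_⟩
        simp [Multiset.sum_replicate, parity_simps, ha]
      · obtain ⟨c, rfl⟩ : ∃ e, c = e + 1 := ⟨c - 1, by omega⟩
        refine ⟨8 ::ₘ Multiset.replicate (2 * c + 1) 4,
          by simp [Multiset.sum_replicate]; omega, fun b hb => ?_, ?_⟩
        · rcases Multiset.mem_cons.1 hb with h | h
          · exact Or.inr h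
          · exact Or.inl (Multiset.eq_of_mem_replicate h)
        · simp [Multiset.sum_replicate, parity_simps]
    obtain ⟨x, hord, hfix, hswap⟩ := exists_elt (n := n) m (by omega)
      (fun b hb => by rcases hm b hb with rfl | rfl <;> norm_num) he
    refine ⟨x, ?_, Or.inr ⟨by norm_num, hswap fun h => by simpa using hm 2 h, ?_⟩⟩
    · rw [hord]
      exact h2pow m fun b hb => by rcases hm b hb with rfl | rfl <;> norm_num
    · rw [hfix, hsum]
      omega
  · obtain ⟨m, hsum, hm, he⟩ : ∃ m : Multiset ℕ, m.sum = 2 * k ∧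
        (∀ b ∈ m, b = 2 ∨ b = 4) ∧ Even (m.sum + Multiset.card m) := by
      rcases Nat.even_or_odd k with ha | ⟨c, hc⟩
      · refine ⟨Multiset.replicate k 2, by simp [mul_comm],
          fun b hb => Or.inl (Multiset.eq_of_mem_replicate hb), ?_⟩
        simp [Multiset.sum_replicate, parity_simps, ha]
      · obtain ⟨c, rfl⟩ : ∃ e, c = e + 1 := ⟨c - 1, by omega⟩
        refine ⟨4 ::ₘ Multiset.replicate (2 * c + 1) 2,
          by simp [Multiset.sum_replicate]; omega, fun b hb => ?_, ?_⟩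
        · rcases Multiset.mem_cons.1 hb with h | h
          · exact Or.inr h
          · exact Or.inl (Multiset.eq_of_mem_replicate h)
        · simp [Multiset.sum_replicate, parity_simps]
    obtain ⟨x, hord, hfix, -⟩ := exists_elt (n := n) m (by omega)
      (fun b hb => by rcases hm b hb with rfl | rfl <;> norm_num) he
    refine ⟨x, ?_, Or.inl ?_⟩
    · rw [hord]
      exact h2pow m fun b hb => by rcases hm b hb with rfl | rfl <;> norm_num
    · rw [hfix, hsum]
      omega

theorem exists_three_elt (hn : 7 ≤ n) : ∃ x : alternatingGroup (Fin n),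
    orderOf x = 3 ∧ ((fixSet (α := Fin n) x).card = 1 ∨
      (2 ≤ 3 ∧ (swapSet (α := Fin n) x).card = 0 ∧
        ((fixSet (α := Fin n) x).card = 0 ∨ (fixSet (α := Fin n) x).card = 2))) := by
  obtain ⟨x, hord, hfix, hswap⟩ := exists_elt (n := n) (Multiset.replicate (n / 3) 3)
    (by simp [Multiset.sum_replicate]; omega)
    (fun b hb => by rw [Multiset.eq_of_mem_replicate hb]; norm_num)
    (by simp [Multiset.sum_replicate, parity_simps])
  have hl : (Multiset.replicate (n / 3) 3).lcm = 3 := Nat.dvd_antisymm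
    (Multiset.lcm_dvd.2 fun b hb => (Multiset.eq_of_mem_replicate hb).dvd)
    (Multiset.dvd_lcm (Multiset.mem_replicate.2 ⟨by omega, rfl⟩))
  refine ⟨x, hord.trans hl, ?_⟩
  have h2 : (2 : ℕ) ∉ Multiset.replicate (n / 3) 3 := fun h => by
    simpa using Multiset.eq_of_mem_replicate h
  simp [Multiset.sum_replicate] at hfix
  rw [hfix]
  rcases (by omega : n % 3 = 0 ∨ n % 3 = 1 ∨ n % 3 = 2) with h | h | h
  · exact Or.inr ⟨by norm_num, hswap h2, Or.inl (by omega)⟩
  · exact Or.inl (by omega)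
  · exact Or.inr ⟨by norm_num, hswap h2, Or.inr (by omega)⟩

/-- For n ≥ 7 the alternating group on n letters has an irreducible character that vanishes at some 2-element and is the restriction of an irreducible character of the symmetric group, and an irreducible character that vanishes at some element of order 3 and is the restriction of an irreducible character of the symmetric group. -/
theorem result (n : ℕ) (hn : 7 ≤ n) : (∃ χ : Cfsg.IrrCharacter (alternatingGroup (Fin n)), (∃ x : alternatingGroup (Fin n), (∃ j : ℕ, orderOf x = 2 ^ j) ∧ (χ : alternatingGroup (Fin n) → ℂ) x = 0) ∧ ∃ ψ : Cfsg.IrrCharacter (Equiv.Perm (Fin n)), ∀ x : alternatingGroup (Fin n), (ψ : Equiv.Perm (Fin n) → ℂ) x = (χ : alternatingGroup (Fin n) → ℂ) x) ∧ (∃ χ : Cfsg.IrrCharacter (alternatingGroup (Fin n)), (∃ y : alternatingGroup (Fin n), orderOf y = 3 ∧ (χ : alternatingGroup (Fin n) → ℂ) y = 0) ∧ ∃ ψ : Cfsg.IrrCharacter (Equiv.Perm (Fin n)), ∀ x : alternatingGroup (Fin n), (ψ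 : Equiv.Perm (Fin n) → ℂ) x = (χ : alternatingGroup (Fin n) → ℂ) x) := by
  obtain ⟨x, hx, hxc⟩ := exists_two_elt hn
  obtain ⟨y, hy, hyc⟩ := exists_three_elt hn
  obtain ⟨χ, hχ, ψ, hψ⟩ := package hn x hxc
  obtain ⟨χ', hχ', ψ', hψ'⟩ := package hn y hyc
  exact ⟨⟨χ, ⟨x, hx, hχ⟩, ψ, hψ⟩, ⟨χ', ⟨y, hy, hχ'⟩, ψ', hψ'⟩⟩

end Cfsg.Agent.S4560
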