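import Cfsg.Statements.S4563
import Cfsg.Agent.Lib.CharTheory.RamifiedComplement
import Cfsg.Agent.S0006

set_option autoImplicit false
open Cfsg

namespace Cfsg.Agent.S4563

open Cfsg.Agent.Characters Cfsg.Agent.CharTheory Cfsg.Agent.CharTheory.RamifiedComplement

theorem complement_of_induced {H : Type*} [Group H] [Fintype H] {Z : Subgroup H} [Z.Normal]
    {X : H → ℂ} {θ : Z → ℂ} {e : ℕ} (h : FR Z X θ e) (he2 : e ^ 2 = Z.index)
    (K : Subgroup H) [K.Normal] [Fintype K] (hZK : Z ≤ K) (f : K → ℂ) (hf : Cfsg.IsCharacter K f)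
    (hind : Cfsg.indFun K f = X) {p : ℕ} (hp : p.Prime) :
    ∃ (M : Subgroup H) (a u : ℕ), K ≤ M ∧ M.index = p ^ a ∧ K.index = p ^ a * u ∧ ¬ p ∣ u := by
  classical
  obtain ⟨S, n, a, b, m, hZS, hn, hm, hpm, ha, hb, hbn, ⟨u, hu, hpu⟩, hNK, hcop⟩ :=
    exists_sylow_data Z K hZK hp
  obtain ⟨r, k, he, hr, hk⟩ := exists_root hp (he2.trans hm) hpm
  set P : Subgroup H := K ⊓ S with hP
  haveI := Fintype.ofFinite P
  obtain ⟨φ, d, c, T, hd0, hφ, hφZ, hTN, hPT, hc, hcS, hcd, hdeg, hinv⟩ :=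
    orbit_data h K hZK hp S hZS hn he hr hk
  haveI := Fintype.ofFinite (Cfsg.IrrCharacter P)
  -- the restriction of `f` to `P`
  have hKP : P ≤ K := inf_le_left
  set g : P → ℂ := fun y => f ⟨y, hKP y.2⟩ with hg
  have hgchar : Cfsg.IsCharacter P g := isCharacter_comp (Subgroup.inclusion hKP) hf
  have hsum : (Nat.card K : ℂ) • (fun y : P => X y) =
      ∑ x : H, fun y : P => Clifford.conjBy K x f ⟨y, hKP y.2⟩ := by
    funext y
    rw [Pi.smul_apply, smul_eq_mul, Finset.sum_apply, ← hind]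
    exact Clifford.card_mul_indFun_coe K f ⟨y, hKP y.2⟩
  have hzero : ∀ ψ : Cfsg.IrrCharacter P,
      Cfsg.classInner (fun y : P => X y) (ψ : P → ℂ) = 0 → Cfsg.classInner g (ψ : P → ℂ) = 0 := by
    intro ψ hψ
    have h1 := congrArg (fun F : P → ℂ => Cfsg.classInner F (ψ : P → ℂ)) hsum
    simp only [classInner_smul_left, classInner_sum_left, hψ, mul_zero] at h1
    have hnat : ∀ x : H, ∃ w : ℕ, Cfsg.classInner
        (fun y : P => Clifford.conjBy K x f ⟨y, hKP y.2⟩) (ψ : P → ℂ) = (w : ℂ) := fun x =>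
      classInner_char_nat (isCharacter_comp (Subgroup.inclusion hKP)
        (Clifford.isCharacter_conjBy K x hf)) (irr_isCharacter ψ)
    choose w hw using hnat
    simp only [hw] at h1
    rw [← Nat.cast_sum, eq_comm, Nat.cast_eq_zero, Finset.sum_eq_zero_iff] at h1
    have h2 := hw 1
    rw [h1 1 (Finset.mem_univ _), Nat.cast_zero, Clifford.conjBy_one] at h2
    exact h2
  obtain ⟨A, hA⟩ : ∃ A : ℕ, g 1 = (A : ℂ) * d * θ 1 := by
    choose w hw using fun ψ : Cfsg.IrrCharacter P => classInner_char_nat hgchar (irr_isCharacter ψ)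
    refine ⟨∑ ψ, w ψ, ?_⟩
    rw [congrFun (classFun_eq_sum (char_isClassFunction hgchar)) 1, Finset.sum_apply, Nat.cast_sum,
      Finset.sum_mul, Finset.sum_mul]
    refine Finset.sum_congr rfl fun ψ _ => ?_
    rw [Pi.smul_apply, smul_eq_mul]
    by_cases h0 : Cfsg.classInner (fun y : P => X y) (ψ : P → ℂ) = 0
    · have hw0 := hzero ψ h0
      rw [hw0, zero_mul]
      rw [hw] at hw0
      rw [Nat.cast_eq_zero] at hw0
      rw [hw0, Nat.cast_zero, zero_mul, zero_mul]
    · rw [hw, hdeg ψ (by convert h0 using 2), mul_assoc]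
  have hdvd : e = K.index * (A * d) := by
    have h1 : X 1 = (K.index : ℂ) * f 1 := by rw [← hind, indFun_one]
    rw [h.X_one, show f 1 = g 1 from rfl, hA] at h1
    have h2 : ((e : ℕ) : ℂ) * θ 1 = ((K.index * (A * d) : ℕ) : ℂ) * θ 1 := by
      rw [h1]; push_cast; ring
    exact Nat.cast_injective (mul_right_cancel₀ h.theta_one_ne h2)
  have hle : d * r ≤ Z.relIndex P := by
    have h3 : p ^ a * d ∣ r := by
      have h4 : p ^ a * d ∣ r * k := ⟨u * A, by rw [← he, hdvd, hu]; ring⟩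
      refine Nat.Coprime.dvd_of_dvd_mul_right ?_ h4
      obtain ⟨i, -, hi⟩ := (Nat.dvd_prime_pow hp).1 (⟨c * d, by rw [← hbn, hb, ← hcd]; ring⟩ : p ^ a * d ∣ p ^ n)
      rw [hi]
      exact (hp.coprime_iff_not_dvd.2 hk).pow_left i
    have hr0 : 0 < r := Nat.pos_of_ne_zero fun h0 => h.pos (by rw [he, h0, zero_mul])
    have h5 : p ^ a * (d * r) ≤ p ^ a * Z.relIndex P := by
      calc p ^ a * (d * r) = p ^ a * d * r := by ring
        _ ≤ r * r := Nat.mul_le_mul_right r (Nat.le_of_dvd hr0 h3)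
        _ = p ^ a * Z.relIndex P := by rw [← sq, hr, ← hbn, hb]; ring
    exact Nat.le_of_mul_le_mul_left h5 (pow_pos hp.pos a)
  subst hb
  obtain ⟨M, hKM, hM⟩ := exists_complement K hp S T hbn hr hcd hle hcS ha hTN hPT hc hNK hcop
  exact ⟨M, a, u, hKM, hM, hu, hpu⟩


/-- Let χ be an irreducible character of the finite group H that is fully ramified over the normal subgroup Z: the restriction of χ to Z is e times an irreducible character of Z with e ^ 2 equal to the index of Z. If K is a proper normal subgroup of H containing Z and χ is induced from a character of K, then H/K is solvable; in particular, if K is solvable then so is H. -/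
theorem result {H : Type*} [Group H] [Fintype H] (Z : Subgroup H) [Z.Normal] (χ : Cfsg.IrrCharacter H) (hfr : ∃ (θ : Cfsg.IrrCharacter ↥Z) (e : ℕ), e ^ 2 = Z.index ∧ ∀ z : ↥Z, (χ : H → ℂ) z = (e : ℂ) * (θ : ↥Z → ℂ) z) (K : Subgroup H) [K.Normal] [Fintype K] (hZK : Z ≤ K) (hK : K ≠ ⊤) (φ : ↥K → ℂ) (hφ : Cfsg.IsCharacter ↥K φ) (hind : Cfsg.indFun K φ = (χ : H → ℂ)) : Group.IsSolvable (H ⧸ K) ∧ (Group.IsSolvable ↥K → Group.IsSolvable H) := by
  classical
  haveI := Fintype.ofFinite Z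
  obtain ⟨θ, e, he, hres⟩ := hfr
  have h := fr_of_ramified χ.2 θ.2 he hres
  have hsolv : Group.IsSolvable (H ⧸ K) := by
    refine Cfsg.Agent.S0006.result fun p hp => ?_
    obtain ⟨M, a, u, hKM, hM, hu, hpu⟩ := complement_of_induced h he K hZK φ hφ hind hp
    refine ⟨M.map (QuotientGroup.mk' K), ?_⟩
    rw [Subgroup.index_map_eq _ (QuotientGroup.mk'_surjective K)
      (by rw [QuotientGroup.ker_mk']; exact hKM), hM]
    congr 1
    rw [← Subgroup.index_eq_card, hu, Nat.factorization_mul (pow_ne_zero _ hp.ne_zero)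
      (fun h0 => hpu (by rw [h0]; exact dvd_zero p)), Finsupp.add_apply, hp.factorization_pow,
      Finsupp.single_eq_same, Nat.factorization_eq_zero_of_not_dvd hpu, add_zero]
  refine ⟨hsolv, fun hK => ?_⟩
  haveI := hsolv
  haveI := hK
  exact solvable_of_ker_le_range K.subtype (QuotientGroup.mk' K)
    (by rw [QuotientGroup.ker_mk', Subgroup.range_subtype])

end Cfsg.Agent.S4563
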