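import Cfsg.Statements.S4564
import Cfsg.Agent.Lib.CharTheory.RamifiedComplement

set_option autoImplicit false
open Cfsg

namespace Cfsg.Agent.S4564

open Cfsg.Agent.Characters Cfsg.Agent.CharTheory Cfsg.Agent.CharTheory.RamifiedComplement

theorem complement_of_cyclic {H : Type*} [Group H] [Fintype H] {Z : Subgroup H} [Z.Normal]
    {X : H → ℂ} {θ : Z → ℂ} {e : ℕ} (h : FR Z X θ e) (he2 : e ^ 2 = Z.index)
    (K : Subgroup H) [K.Normal] (hZK : Z ≤ K) {p : ℕ} (hp : p.Prime)
    (hcyc : ∀ L : Subgroup (H ⧸ K), IsPGroup p L → IsCyclic L) :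
    ∃ (M : Subgroup H) (a u : ℕ), K ≤ M ∧ M.index = p ^ a ∧ K.index = p ^ a * u ∧ ¬ p ∣ u := by
  classical
  obtain ⟨S, n, a, b, m, hZS, hn, hm, hpm, ha, hb, hbn, ⟨u, hu, hpu⟩, hNK, hcop⟩ :=
    exists_sylow_data Z K hZK hp
  obtain ⟨r, k, he, hr, hk⟩ := exists_root hp (he2.trans hm) hpm
  set P : Subgroup H := K ⊓ S with hP
  haveI := Fintype.ofFinite P
  obtain ⟨φ, d, c, T, hd0, hφ, hφZ, hTN, hPT, hc, hcS, hcd, hdeg, hinv⟩ :=
    orbit_data h K hZK hp S hZS hn he hr hk
  subst hb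
  set T' : Subgroup H := T ⊓ S with hT'
  have hPT' : P ≤ T' := le_inf hPT inf_le_right
  have hZP : Z ≤ P := le_inf hZK hZS
  set Pn := P.subgroupOf T' with hPn
  have hPnN : Pn.Normal := ⟨fun x hx t =>
    (Subgroup.mem_normalizer_iff.1 (hTN t.2.1) (x : H)).1 hx⟩
  haveI := Fintype.ofFinite T'
  let eT := Subgroup.subgroupOfEquivOfLe hPT'
  -- the quotient is cyclic
  have hker : ((QuotientGroup.mk' K).comp T'.subtype).ker = Pn := by
    ext t
    simp only [MonoidHom.mem_ker, MonoidHom.comp_apply, Subgroup.coe_subtype, QuotientGroup.mk'_apply,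
      QuotientGroup.eq_one_iff, Subgroup.mem_subgroupOf, Pn, P, Subgroup.mem_inf]
    exact ⟨fun h => ⟨h, t.2.2⟩, fun h => h.1⟩
  have hcycT : IsCyclic (T' ⧸ Pn) := by
    set f := (QuotientGroup.mk' K).comp T'.subtype
    have hpg : IsPGroup p f.range := by
      obtain ⟨i, -, hi⟩ := (Nat.dvd_prime_pow hp).1 (ha ▸ (show P.relIndex T' ∣ P.relIndex S from
        Dvd.intro _ (Subgroup.relIndex_mul_relIndex _ _ _ hPT' inf_le_right)) : P.relIndex T' ∣ p ^ a)
      refine IsPGroup.of_card (n := i) ?_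
      rw [← hi, ← Subgroup.index_ker, hker]
      rfl
    haveI := hcyc f.range hpg
    exact isCyclic_of_injective ((QuotientGroup.quotientMulEquivOfEq hker.symm).trans
      (QuotientGroup.quotientKerEquivRange f)).toMonoidHom (MulEquiv.injective _)
  obtain ⟨ψ, hψ, hψP⟩ := ExtendChar.exists_extension_cyclic Pn hcycT
    (Basics.isIrrCharacter_comp_equiv eT hφ) (fun t => funext fun x => by
      rw [Clifford.conjBy_apply]
      exact hinv (t : H) t.2.1 (x : T') x.2 ((Subgroup.mem_normalizer_iff.1 (hTN t.2.1) _).1 x.2))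
  have hfr := h.restrict (L := T') (hZP.trans hPT')
  have hψZ : ∀ z : Z.subgroupOf T', ψ z =
      (d : ℂ) * (θ ∘ Subgroup.subgroupOfEquivOfLe (hZP.trans hPT')) z := fun z => by
    have hz : ((z : T') : H) ∈ Z := z.2
    exact (hψP ⟨(z : T'), hZP hz⟩).trans (hφZ _ hz)
  obtain ⟨w, hw⟩ := classInner_char_nat hfr.char (isCharacter_of_isIrr hψ)
  have h1 := hfr.inner hψZ
  rw [hw] at h1
  have h2 : w * Z.relIndex T' = e * d := by exact_mod_cast h1
  have h3 : Z.relIndex T' * c = p ^ n := by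
    rw [← hcS, ← Subgroup.inf_relIndex_right T S, Subgroup.relIndex_mul_relIndex _ _ _ (hZP.trans hPT')
      inf_le_right, hn]
  have hr0 : 0 < r := Nat.pos_of_ne_zero fun h0 => h.pos (by rw [he, h0, zero_mul])
  have hc0 : 0 < c := Nat.pos_of_ne_zero fun h0 => by
    rw [h0, mul_zero] at h3; exact pow_ne_zero n hp.ne_zero h3.symm
  have hle : d * r ≤ Z.relIndex P := by
    have h4 : r * (w * r) = r * (k * (d * c)) := by
      calc r * (w * r) = w * Z.relIndex T' * c := by rw [mul_assoc w, h3, ← hr]; ring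
        _ = r * (k * (d * c)) := by rw [h2, he]; ring
    have h5 : r ∣ k * (d * c) := Dvd.intro_left w (Nat.eq_of_mul_eq_mul_left hr0 h4)
    have hrk : Nat.Coprime r k := Nat.Coprime.coprime_dvd_left (Dvd.intro_left r (sq r ▸ hr))
      ((hp.coprime_iff_not_dvd.2 hk).pow_left n)
    calc d * r ≤ d * (d * c) :=
          Nat.mul_le_mul_left d (Nat.le_of_dvd (Nat.mul_pos hd0 hc0) (hrk.dvd_of_dvd_mul_left h5))
      _ = Z.relIndex P := by rw [← hcd]; ring
  obtain ⟨M, hKM, hM⟩ := exists_complement K hp S T hbn hr hcd hle hcS ha hTN hPT hc hNK hcop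
  exact ⟨M, a, u, hKM, hM, hu, hpu⟩


/-- Let χ be an irreducible character of the finite group H that is fully ramified over the normal subgroup Z: the restriction of χ to Z is e times an irreducible character of Z with e ^ 2 equal to the index of Z. Let K be a normal subgroup of H containing Z and P a cyclic Sylow p-subgroup of H/K. Then P has a complement in H/K: a subgroup meeting P trivially whose product with P is the whole group. -/
theorem result {H : Type*} [Group H] [Finite H] (Z : Subgroup H) [Z.Normal] (χ : Cfsg.IrrCharacter H) (hfr : ∃ (θ : Cfsg.IrrCharacter ↥Z) (e : ℕ), e ^ 2 = Z.index ∧ ∀ z : ↥Z, (χ : H → ℂ) z = (e : ℂ) * (θ : ↥Z → ℂ) z) (K : Subgroup H) [K.Normal] (hZK : Z ≤ K) (p : ℕ) [Fact p.Prime] (P : Sylow p (H ⧸ K)) (hcyc : IsCyclic P) : ∃ M : Subgroup (H ⧸ K), M.IsComplement' (P : Subgroup (H ⧸ K)) := by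
  classical
  haveI := Fintype.ofFinite H
  haveI := Fintype.ofFinite Z
  obtain ⟨θ, e, he, hres⟩ := hfr
  have h := fr_of_ramified χ.2 θ.2 he hres
  have hcyc' : ∀ L : Subgroup (H ⧸ K), IsPGroup p L → IsCyclic L := by
    intro L hL
    obtain ⟨Q, hQ⟩ := hL.exists_le_sylow
    haveI := hcyc
    haveI : IsCyclic Q := isCyclic_of_surjective _ (P.equiv Q).surjective
    exact isCyclic_of_injective _ (Subgroup.inclusion_injective hQ)
  obtain ⟨M, a, u, hKM, hM, hu, hpu⟩ := complement_of_cyclic h he K hZK (Fact.out : p.Prime) hcyc'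
  have hu0 : u ≠ 0 := fun h0 => hpu (h0 ▸ dvd_zero p)
  have hP : Nat.card (P : Subgroup (H ⧸ K)) = p ^ a := by
    rw [P.card_eq_multiplicity]
    congr 1
    rw [← Subgroup.index_eq_card, hu, Nat.factorization_mul (pow_ne_zero _ (Fact.out : p.Prime).ne_zero) hu0,
      Finsupp.add_apply, (Fact.out : p.Prime).factorization_pow, Finsupp.single_eq_same,
      Nat.factorization_eq_zero_of_not_dvd hpu, add_zero]
  have hMi : (M.map (QuotientGroup.mk' K)).index = p ^ a := by
    rw [Subgroup.index_map_eq _ (QuotientGroup.mk'_surjective K)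
      (by rw [QuotientGroup.ker_mk']; exact hKM), hM]
  have hmul := (M.map (QuotientGroup.mk' K)).card_mul_index
  rw [hMi] at hmul
  refine ⟨M.map (QuotientGroup.mk' K), Subgroup.isComplement'_of_coprime (by rw [hP, hmul]) ?_⟩
  rw [hP]
  have hMc : Nat.card (M.map (QuotientGroup.mk' K)) = u :=
    Nat.eq_of_mul_eq_mul_right (pow_pos (Fact.out : p.Prime).pos a)
      (by rw [hmul, ← Subgroup.index_eq_card, hu, mul_comm])
  rw [hMc]
  exact (((Fact.out : p.Prime).coprime_iff_not_dvd.2 hpu).pow_left a).symm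

end Cfsg.Agent.S4564
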