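import Cfsg.Statements.S4565
import Cfsg.Agent.Lib.CharTheory.ExtendChar
import Cfsg.Agent.Lib.CharTheory.Average
import Cfsg.Agent.Lib.CharTheory.IndBasic

set_option autoImplicit false
open Cfsg
open Cfsg.Agent.Characters Cfsg.Agent.CharTheory
open scoped ComplexConjugate

namespace Cfsg.Agent.S4565

/-- Let χ be an irreducible character of the finite group H that is fully ramified over the normal subgroup Z: the restriction of χ to Z is e times an irreducible character of Z with e ^ 2 equal to the index of Z. If Z ≠ H, then H/Z has no cyclic subgroup that is its own centralizer. -/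
theorem result {H : Type*} [Group H] [Finite H] (Z : Subgroup H) [Z.Normal] (χ : Cfsg.IrrCharacter H) (hfr : ∃ (θ : Cfsg.IrrCharacter ↥Z) (e : ℕ), e ^ 2 = Z.index ∧ ∀ z : ↥Z, (χ : H → ℂ) z = (e : ℂ) * (θ : ↥Z → ℂ) z) (hZ : Z ≠ ⊤) (C : Subgroup (H ⧸ Z)) (hC : IsCyclic C) : Subgroup.centralizer (C : Set (H ⧸ Z)) ≠ C := by
  classical
  intro hCC
  haveI := Fintype.ofFinite H
  haveI := Fintype.ofFinite Z
  haveI := Fintype.ofFinite (Cfsg.IrrCharacter H)
  obtain ⟨θ, e, he, hres⟩ := hfr
  have he0 : (e : ℂ) ≠ 0 := by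
    refine Nat.cast_ne_zero.2 fun h => ?_
    subst h
    exact Subgroup.index_ne_zero_of_finite he.symm
  have hinv : ∀ g : H, Clifford.conjBy Z g (θ : Z → ℂ) = θ := fun g => funext fun z =>
    mul_left_cancel₀ he0 (((hres _).symm.trans (irr_isClassFunction χ (z : H) g)).trans (hres z))
  have hgen := hC.exists_generator
  obtain ⟨⟨c, hcC⟩, hc⟩ := hgen
  obtain ⟨g, rfl⟩ := QuotientGroup.mk_surjective c
  have hgC : ∀ y ∈ C, ∃ i : ℤ, (g : H ⧸ Z) ^ i = y := fun y hy => by
    obtain ⟨i, hi⟩ := Subgroup.mem_zpowers_iff.1 (hc ⟨y, hy⟩)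
    exact ⟨i, congrArg Subtype.val hi⟩
  have hcent : ∀ y : H ⧸ Z, Commute y (g : H ⧸ Z) → y ∈ C := by
    intro y hy
    rw [← hCC, Subgroup.mem_centralizer_iff]
    intro w hw
    obtain ⟨i, rfl⟩ := hgC w hw
    exact (hy.zpow_right i).eq.symm
  have hg1 : (g : H ⧸ Z) ≠ 1 := by
    intro h1
    apply hZ
    refine top_le_iff.1 fun y _ => ?_
    obtain ⟨i, hi⟩ := hgC _ (hcent (y : H ⧸ Z) (by rw [h1]; exact Commute.one_right _))
    rw [h1, one_zpow] at hi
    exact (QuotientGroup.eq_one_iff y).1 hi.symm
  have hgZ : g ∉ Z := fun h => hg1 ((QuotientGroup.eq_one_iff g).2 h)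
  -- `χ` vanishes off `Z`
  have hoff : ∀ x, x ∉ Z → (χ : H → ℂ) x = 0 := by
    intro x hx
    have h1 := classInner_isIrr_self χ.2
    rw [classInner_def, inv_mul_eq_iff_eq_mul₀ natCard_ne_zero, mul_one] at h1
    have h2 := congrArg Complex.re h1
    rw [Complex.re_sum, Complex.natCast_re] at h2
    simp only [Complex.mul_conj, Complex.ofReal_re] at h2
    have h3 : ∑ z ∈ Finset.univ.filter (fun y : H => y ∈ Z),
        Complex.normSq ((χ : H → ℂ) z) = (Nat.card H : ℝ) := by
      have h4 := classInner_isIrr_self θ.2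
      rw [classInner_def, inv_mul_eq_iff_eq_mul₀ natCard_ne_zero, mul_one] at h4
      have h5 := congrArg Complex.re h4
      rw [Complex.re_sum, Complex.natCast_re] at h5
      simp only [Complex.mul_conj, Complex.ofReal_re] at h5
      rw [Finset.sum_subtype (p := fun y : H => y ∈ Z) _ (fun y => by simp),
        ← Subgroup.index_mul_card Z, ← he, Nat.cast_mul, ← h5, Finset.mul_sum]
      refine Finset.sum_congr rfl fun z _ => ?_
      rw [hres z, map_mul, Complex.normSq_natCast]
      push_cast; ring
    rw [← Finset.sum_filter_add_sum_filter_not Finset.univ (fun y : H => y ∈ Z), h3,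
      add_eq_left] at h2
    exact Complex.normSq_eq_zero.1
      ((Finset.sum_eq_zero_iff_of_nonneg fun y _ => Complex.normSq_nonneg _).1 h2 x
        (Finset.mem_filter.2 ⟨Finset.mem_univ _, hx⟩))
  -- `χ` is the only character over `θ`
  have honly : ∀ X : Cfsg.IrrCharacter H, X ≠ χ →
      Cfsg.classInner (fun z : Z => (X : H → ℂ) z) (θ : Z → ℂ) = 0 := by
    intro X hX
    have h1 := Clifford.classInner_indFun_self Z θ.2 hinv
    have h2 : Cfsg.classInner (Cfsg.indFun Z (θ : Z → ℂ)) (χ : H → ℂ) = (e : ℂ) := by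
      rw [frobenius_reciprocity Z _ (irr_isClassFunction χ),
        show (fun z : Z => (χ : H → ℂ) z) = (e : ℂ) • (θ : Z → ℂ) from funext hres,
        classInner_smul_right, classInner_isIrr_self θ.2, Complex.conj_natCast, mul_one]
    have h3 : Cfsg.indFun Z (θ : Z → ℂ) = (e : ℂ) • (χ : H → ℂ) := by
      rw [← sub_eq_zero, ← classInner_self_eq_zero, classInner_sub_left, classInner_sub_right,
        classInner_sub_right, classInner_smul_right, classInner_smul_left, classInner_smul_left,
        classInner_smul_right, classInner_isIrr_self χ.2, h1, h2,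
        classInner_conj_symm (Cfsg.indFun Z (θ : Z → ℂ)) (χ : H → ℂ), h2, ← he,
        Complex.conj_natCast]
      push_cast; ring
    rw [classInner_conj_symm, ← frobenius_reciprocity Z _ (irr_isClassFunction X), h3,
      classInner_smul_left, classInner_isIrr_ne χ.2 X.2 (fun h => hX (Subtype.ext h.symm)), mul_zero,
      map_zero]
  -- the extension to the preimage of `C`
  set C' := C.comap (QuotientGroup.mk' Z)
  have hZC : Z ≤ C' := fun z hz => by
    show (z : H ⧸ Z) ∈ C
    rw [(QuotientGroup.eq_one_iff z).2 hz]; exact one_mem _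
  haveI := Fintype.ofFinite C'
  haveI := Fintype.ofFinite (Z.subgroupOf C')
  let en : Z.subgroupOf C' ≃* Z := Subgroup.subgroupOfEquivOfLe hZC
  have hcycC : IsCyclic (C' ⧸ Z.subgroupOf C') := by
    refine isCyclic_of_injective ((QuotientGroup.map _ Z C'.subtype le_rfl).codRestrict C fun q => by
      induction q using QuotientGroup.induction_on with | _ y => ?_
      exact y.2) ?_
    intro a b h
    induction a using QuotientGroup.induction_on with | _ a => ?_
    induction b using QuotientGroup.induction_on with | _ b => ?_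
    exact QuotientGroup.eq.2 (QuotientGroup.eq.1 (congrArg Subtype.val h) :)
  have hθ' := (isIrrCharacter_comp_mulEquiv en).2 θ.2
  obtain ⟨ψ, hψ, hψZ⟩ := ExtendChar.exists_extension_cyclic (Z.subgroupOf C') hcycC hθ'
    (fun y => funext fun w => congrFun (hinv (y : H)) (en w))
  have hψZ' : (fun w : Z.subgroupOf C' => ψ w) = (θ : Z → ℂ) ∘ en := funext hψZ
  let g' : C' := ⟨g, hcC⟩
  let f : C' → ℂ := fun y => if ((y : H) : H ⧸ Z) = g then ψ y else 0
  have hf : Cfsg.indFun C' f = 0 := by
    refine classFun_eq_zero (indFun_isClassFunction C' f) fun X hX => ?_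
    rw [frobenius_reciprocity C' f (char_isClassFunction (isCharacter_of_isIrr hX)), classInner_def]
    refine mul_eq_zero_of_right _ ?_
    by_cases hXχ : X = (χ : H → ℂ)
    · refine Finset.sum_eq_zero fun y _ => ?_
      simp only [f]
      split_ifs with hy
      · rw [hXχ, hoff _ fun h => hg1 (hy ▸ (QuotientGroup.eq_one_iff (y : H)).2 h), map_zero,
          mul_zero]
      · rw [zero_mul]
    · have hq := Average.isCharacter_quotChar (Z.subgroupOf C') (isCharacter_of_isIrr hψ)
        (isCharacter_restrict C' (isCharacter_of_isIrr hX))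
      have hq1 : Average.quotChar (Z.subgroupOf C') ψ (fun y : C' => X y) 1 = 0 := by
        rw [Average.quotChar_one, hψZ',
          show (fun w : Z.subgroupOf C' => X ((w : C') : H)) = (fun z : Z => X z) ∘ en from rfl,
          Basics.classInner_comp_equiv en]
        exact honly ⟨X, hX⟩ fun h => hXχ (congrArg Subtype.val h)
      have hq0 := congrFun (Basics.char_eq_zero_of_one hq hq1) g'
      rw [Average.quotChar_apply, Pi.zero_apply, mul_eq_zero] at hq0
      have h0 := hq0.resolve_left (inv_ne_zero natCard_ne_zero)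
      have h0' := congrArg conj h0
      rw [map_sum, map_zero] at h0'
      refine Eq.trans ?_ h0'
      simp only [f, ite_mul, zero_mul, ← Finset.sum_filter]
      refine Finset.sum_bij' (fun y hy => (⟨y * g'⁻¹, ?_⟩ : Z.subgroupOf C'))
        (fun w _ => (w : C') * g') (fun _ _ => Finset.mem_univ _) ?_ ?_ ?_ ?_
      · rw [Subgroup.mem_subgroupOf, ← QuotientGroup.eq_one_iff]
        push_cast
        rw [QuotientGroup.mk_mul, QuotientGroup.mk_inv, (Finset.mem_filter.1 hy).2, mul_inv_cancel]
      · intro w _
        refine Finset.mem_filter.2 ⟨Finset.mem_univ _, ?_⟩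
        push_cast
        rw [QuotientGroup.mk_mul, (QuotientGroup.eq_one_iff ((w : C') : H)).2 w.2, one_mul]
      · exact fun y _ => inv_mul_cancel_right y g'
      · exact fun w _ => Subtype.ext (mul_inv_cancel_right (w : C') g')
      · intro y _
        simp only [inv_mul_cancel_right, map_mul, Complex.conj_conj]
        ring
  have hzero : ∀ w : Z.subgroupOf C', ψ ((w : C') * g') = 0 := by
    intro w
    set y := (w : C') * g'
    have hy : ((y : H) : H ⧸ Z) = g := by
      simp only [y]
      push_cast
      rw [QuotientGroup.mk_mul, (QuotientGroup.eq_one_iff ((w : C') : H)).2 w.2, one_mul]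
    have h1 := IndBasic.card_mul_indFun C' f (y : H)
    rw [hf, Pi.zero_apply, mul_zero] at h1
    have hterm : ∀ x : H, Cfsg.extendByZero C' f (x⁻¹ * (y : H) * x) =
        if x ∈ C' then ψ y else 0 := by
      intro x
      by_cases hx : x ∈ C'
      · rw [if_pos hx, IndBasic.extendByZero_of_mem _ _
          (C'.mul_mem (C'.mul_mem (C'.inv_mem hx) y.2) hx)]
        have hq : ((x⁻¹ * (y : H) * x : H) : H ⧸ Z) = g := by
          rw [QuotientGroup.mk_mul, QuotientGroup.mk_mul, QuotientGroup.mk_inv, hy]
          obtain ⟨i, hi⟩ := hgC _ hx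
          rw [show QuotientGroup.mk' Z x = (x : H ⧸ Z) from rfl] at hi
          rw [← hi]
          group
        simp only [f, if_pos hq]
        have h2 := char_isClassFunction (isCharacter_of_isIrr hψ) y (⟨x, hx⟩ : C')⁻¹
        rw [inv_inv] at h2
        exact h2
      · rw [if_neg hx]
        by_cases hm : x⁻¹ * (y : H) * x ∈ C'
        · rw [IndBasic.extendByZero_of_mem _ _ hm]
          refine if_neg fun hq => hx ?_
          refine hcent (x : H ⧸ Z) ?_
          replace hq : ((x⁻¹ * (y : H) * x : H) : H ⧸ Z) = g := hq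
          rw [QuotientGroup.mk_mul, QuotientGroup.mk_mul, QuotientGroup.mk_inv, hy, mul_assoc,
            inv_mul_eq_iff_eq_mul] at hq
          exact hq.symm
        · exact IndBasic.extendByZero_of_notMem _ _ hm
    rw [Finset.sum_congr rfl fun x _ => hterm x, ← Finset.sum_filter, Finset.sum_const,
      nsmul_eq_mul] at h1
    exact (mul_eq_zero.1 h1.symm).resolve_left
      (Nat.cast_ne_zero.2 (Finset.card_ne_zero.2 ⟨1, by simp⟩))
  have h1 := congrFun (Average.quotChar_self (Z.subgroupOf C') hψ (hψZ' ▸ hθ')) g'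
  rw [Average.quotChar_apply, Finset.sum_eq_zero fun w _ => by rw [hzero w, zero_mul],
    mul_zero] at h1
  exact zero_ne_one h1

end Cfsg.Agent.S4565
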