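import Mathlib
import Cfsg.Statements.S4566
import Cfsg.Agent.Lib.Characters.Inner

set_option autoImplicit false
open Cfsg

namespace Cfsg.Agent.S4566

open scoped ComplexConjugate

/-- A central element multiplies an irreducible character by a scalar of norm one. -/
theorem central_scalar {G : Type*} [Group G] [Finite G] (χ : Cfsg.IrrCharacter G) {z : G}
    (hz : z ∈ Subgroup.center G) :
    ∃ ω : ℂ, ω * conj ω = 1 ∧ ∀ g : G, (χ : G → ℂ) (g * z) = ω * (χ : G → ℂ) g := by
  obtain ⟨n, ρ, hρ, he⟩ := χ.2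
  haveI := hρ
  haveI := Cfsg.Agent.Characters.nontrivial_of_isIrreducible ρ
  obtain ⟨c, hc⟩ := Cfsg.Agent.Characters.schur_scalar ρ (ρ z) (fun g v => by
    have := congrArg (fun x => ρ x v) (Subgroup.mem_center_iff.1 hz g)
    simpa [map_mul, Module.End.mul_apply] using this.symm)
  refine ⟨c, ?_, fun g => ?_⟩
  · obtain ⟨v, hv⟩ := exists_ne (0 : Fin n → ℂ)
    have hpow : ∀ k : ℕ, ρ (z ^ k) v = c ^ k • v := by
      intro k
      induction k with
      | zero => simp
      | succ k ih =>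
        rw [pow_succ', map_mul, Module.End.mul_apply, ih, map_smul, hc, LinearMap.smul_apply,
          LinearMap.id_apply, smul_smul, pow_succ]
    have h1 := hpow (orderOf z)
    rw [pow_orderOf_eq_one, map_one, Module.End.one_apply] at h1
    have h2 : c ^ orderOf z = 1 :=
      smul_left_injective ℂ hv (show c ^ orderOf z • v = (1 : ℂ) • v by rw [one_smul, ← h1])
    rw [Complex.mul_conj', Complex.norm_eq_one_of_pow_eq_one h2 (orderOf_pos z).ne']
    simp
  · rw [← he]
    simp [Representation.character, map_mul, hc, Module.End.mul_eq_comp]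


/-- Let N be a central subgroup of the finite group G, ψ a faithful irreducible (hence degree-one) character of N, and χ an irreducible character of G whose restriction to N contains ψ. If g ∈ G and some x ∈ G has commutator x⁻¹ g⁻¹ x g in N but different from 1, then χ g = 0. -/
theorem result {G : Type*} [Group G] [Fintype G] (N : Subgroup G) [Fintype N] (hN : N ≤ Subgroup.center G) (ψ : Cfsg.IrrCharacter ↥N) (hfaith : ∀ n : ↥N, (ψ : ↥N → ℂ) n = (ψ : ↥N → ℂ) 1 → n = 1) (χ : Cfsg.IrrCharacter G) (hover : Cfsg.classInner (fun n : ↥N => (χ : G → ℂ) n) (ψ : ↥N → ℂ) ≠ 0) (g x : G) (hcomm : x⁻¹ * g⁻¹ * x * g ∈ N) (hne : x⁻¹ * g⁻¹ * x * g ≠ 1) : (χ : G → ℂ) g = 0 := by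
  set z := x⁻¹ * g⁻¹ * x * g
  have hzc : z ∈ Subgroup.center G := hN hcomm
  obtain ⟨ω, hω, hχ⟩ := central_scalar χ hzc
  have hzn : (⟨z, hcomm⟩ : N) ∈ Subgroup.center N := Subgroup.mem_center_iff.2 fun a =>
    Subtype.ext (Subgroup.mem_center_iff.1 hzc a)
  obtain ⟨μ, hμ, hψ⟩ := central_scalar ψ hzn
  have hne1 : μ ≠ 1 := fun h => hne (congrArg Subtype.val (hfaith ⟨z, hcomm⟩ (by
    have := hψ 1
    rwa [one_mul, h, one_mul] at this)))
  have heq : ω = μ := by
    by_contra hωμ
    apply hover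
    have h1 : ∑ n : N, (χ : G → ℂ) n * conj ((ψ : N → ℂ) n) =
        ω * conj μ * ∑ n : N, (χ : G → ℂ) n * conj ((ψ : N → ℂ) n) := by
      rw [Finset.mul_sum]
      refine (Fintype.sum_equiv (Equiv.mulRight (⟨z, hcomm⟩ : N)) _ _ fun n => ?_).symm
      simp only [Equiv.coe_mulRight, Subgroup.coe_mul, hχ, hψ, map_mul]
      ring
    have h2 : ω * conj μ ≠ 1 := fun h => hωμ (by
      have h4 := congrArg (· * μ) h
      simp only [mul_assoc, one_mul, mul_comm (conj μ), hμ, mul_one] at h4
      exact h4)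
    have h3 : ∑ n : N, (χ : G → ℂ) n * conj ((ψ : N → ℂ) n) = 0 := by
      by_contra h3
      exact h2 (mul_right_cancel₀ h3 (show ω * conj μ * _ = 1 * _ by rw [one_mul]; exact h1.symm))
    simp [Cfsg.classInner, h3]
  have hg : (χ : G → ℂ) g = (χ : G → ℂ) (x⁻¹ * g * x) := by
    have := Cfsg.Agent.Characters.irr_isClassFunction χ g x⁻¹
    simpa using this.symm
  have hgz : g = x⁻¹ * g * x * z := by simp [z]; group
  have h := hχ (x⁻¹ * g * x)
  rw [← hgz, ← hg, heq] at h
  by_contra h0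
  exact hne1 (mul_right_cancel₀ h0 (show μ * _ = 1 * _ by rw [one_mul]; exact h.symm))

end Cfsg.Agent.S4566
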