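import Cfsg.Statements.S4567
import Cfsg.Agent.Lib.Characters.Counting
import Cfsg.Agent.Lib.Characters.Kernel

set_option autoImplicit false
open Cfsg
open Cfsg.Agent.Characters
open scoped ComplexConjugate

namespace Cfsg.Agent.S4567

variable {G : Type*} [Group G]

theorem central_mul [Fintype G] {χ : G → ℂ} (h : Cfsg.IsIrrCharacter G χ) {z : G}
    (hz : z ∈ Subgroup.center G) (g : G) : χ (z * g) * χ 1 = χ z * χ g := by
  have h1 := sum_mul_conjugates h g z
  have e : ∀ x : G, x * z * x⁻¹ = z := fun x => by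
    rw [Subgroup.mem_center_iff.1 hz x, mul_inv_cancel_right]
  simp only [e, Finset.sum_const, Finset.card_univ, nsmul_eq_mul] at h1
  rw [← Nat.card_eq_fintype_card] at h1
  have h0 := irr_one_ne_zero h
  have hG : (Nat.card G : ℂ) ≠ 0 := natCard_ne_zero
  rw [Subgroup.mem_center_iff.1 hz g] at h1
  field_simp at h1
  linear_combination h1

/-- The special elements relative to `N`. -/
def Special (N : Subgroup G) (g : G) : Prop := ∀ x : G, x⁻¹ * g⁻¹ * x * g ∈ N → x * g = g * x

theorem special_mul_central (N : Subgroup G) (hN : N ≤ Subgroup.center G) {g n : G} (hn : n ∈ N)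
    (h : Special N g) : Special N (n * g) := by
  intro x hx
  have hc := Subgroup.mem_center_iff.1 (hN hn)
  have e : x⁻¹ * (n * g)⁻¹ * x * (n * g) = x⁻¹ * g⁻¹ * x * g := by
    rw [mul_inv_rev]
    calc x⁻¹ * (g⁻¹ * n⁻¹) * x * (n * g) = x⁻¹ * g⁻¹ * (n⁻¹ * (x * n)) * g := by group
      _ = _ := by rw [hc x]; group
  rw [e] at hx
  rw [← mul_assoc, hc x, mul_assoc, h x hx, ← mul_assoc]

theorem special_conj (N : Subgroup G) [N.Normal] {g : G} (y : G) (h : Special N g) :
    Special N (y * g * y⁻¹) := by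
  intro x hx
  have h1 : (y⁻¹ * x * y)⁻¹ * g⁻¹ * (y⁻¹ * x * y) * g ∈ N := by
    have := ‹N.Normal›.conj_mem _ hx y⁻¹
    simpa [mul_assoc] using this
  have h2 := congrArg (fun w => y * w * y⁻¹) (h _ h1)
  simpa [mul_assoc] using h2

/-- Let N be a central subgroup of the finite group G and ψ a faithful irreducible (hence degree-one) character of N. Call a coset g N special when every x ∈ G whose commutator x⁻¹ g⁻¹ x g lies in N actually commutes with g (this depends only on the coset). Then the number of irreducible characters of G whose restriction to N contains ψ equals the number of conjugacy classes of G/N consisting of special cosets. -/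
theorem result {G : Type*} [Group G] [Fintype G] (N : Subgroup G) [N.Normal] [Fintype N] (hN : N ≤ Subgroup.center G) (ψ : Cfsg.IrrCharacter ↥N) (hfaith : ∀ n : ↥N, (ψ : ↥N → ℂ) n = (ψ : ↥N → ℂ) 1 → n = 1) : Nat.card {χ : Cfsg.IrrCharacter G // Cfsg.classInner (fun n : ↥N => (χ : G → ℂ) n) (ψ : ↥N → ℂ) ≠ 0} = Nat.card {C : ConjClasses (G ⧸ N) // ∃ g : G, ConjClasses.mk (g : G ⧸ N) = C ∧ ∀ x : G, x⁻¹ * g⁻¹ * x * g ∈ N → x * g = g * x} := by
  classical
  haveI := Fintype.ofFinite (Cfsg.IrrCharacter G)
  haveI := Fintype.ofFinite (G ⧸ N)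
  have hcomm : ∀ a b : N, a * b = b * a := fun a b =>
    Subtype.ext (Subgroup.mem_center_iff.1 (hN b.2) a)
  have hψ1 : (ψ : N → ℂ) 1 = 1 := irr_degree_one_of_comm hcomm ψ.2
  have hψmul : ∀ a b : N, (ψ : N → ℂ) (a * b) = (ψ : N → ℂ) a * (ψ : N → ℂ) b :=
    char_mul_of_degree_one (irr_isCharacter ψ) hψ1
  let over' : Cfsg.IrrCharacter G → Prop := fun χ =>
    Cfsg.classInner (fun n : N => (χ : G → ℂ) n) (ψ : N → ℂ) ≠ 0
  have hrel : ∀ (χ : Cfsg.IrrCharacter G) (g : G),
      ∑ n : N, conj ((ψ : N → ℂ) n) * (χ : G → ℂ) (n * g) =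
        if over' χ then (Nat.card N : ℂ) * (χ : G → ℂ) g else 0 := by
    intro χ g
    have h1 := irr_one_ne_zero χ.2
    have hc : ∀ (n : N) (x : G), (χ : G → ℂ) (n * x) =
        (χ : G → ℂ) n * (χ : G → ℂ) x / (χ : G → ℂ) 1 := fun n x =>
      eq_div_of_mul_eq h1 (central_mul χ.2 (hN n.2) x)
    have hS : ∑ n : N, conj ((ψ : N → ℂ) n) * (χ : G → ℂ) (n * g) =
        (∑ n : N, (χ : G → ℂ) n * conj ((ψ : N → ℂ) n)) * ((χ : G → ℂ) g / (χ : G → ℂ) 1) := by
      rw [Finset.sum_mul]
      exact Finset.sum_congr rfl fun n _ => by rw [hc]; ring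
    by_cases ho : over' χ
    · rw [if_pos ho]
      have hne : ∑ n : N, (χ : G → ℂ) n * conj ((ψ : N → ℂ) n) ≠ 0 := fun h0 =>
        ho (by rw [classInner_def, h0, mul_zero])
      have hval : ∀ m : N, (χ : G → ℂ) m * conj ((ψ : N → ℂ) m) = (χ : G → ℂ) 1 := by
        intro m
        have h2 : ∑ n : N, (χ : G → ℂ) n * conj ((ψ : N → ℂ) n) =
            (χ : G → ℂ) m * conj ((ψ : N → ℂ) m) / (χ : G → ℂ) 1 *
              ∑ n : N, (χ : G → ℂ) n * conj ((ψ : N → ℂ) n) := by
          rw [Finset.mul_sum]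
          refine (Fintype.sum_equiv (Equiv.mulLeft m) _ _ fun n => ?_).symm
          rw [Equiv.coe_mulLeft, hψmul, map_mul, Subgroup.coe_mul, hc m (n : G)]
          ring
        have h3 := (mul_eq_right₀ hne).1 h2.symm
        rwa [div_eq_one_iff_eq h1] at h3
      rw [hS, Finset.sum_congr rfl fun m _ => hval m, Finset.sum_const, Finset.card_univ,
        nsmul_eq_mul, ← Nat.card_eq_fintype_card]
      field_simp
    · rw [if_neg ho, hS]
      have h0 : ∑ n : N, (χ : G → ℂ) n * conj ((ψ : N → ℂ) n) = 0 := by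
        have := not_not.1 ho
        rw [classInner_def] at this
        exact (mul_eq_zero.1 this).resolve_left (inv_ne_zero natCard_ne_zero)
      rw [h0, zero_mul]
  let cz : G → ℂ := fun g => (Nat.card (Subgroup.centralizer ({g} : Set G)) : ℂ)
  have hpt : ∀ g : G, (Nat.card N : ℂ) *
      ∑ χ : Cfsg.IrrCharacter G, (if over' χ then (χ : G → ℂ) g * conj ((χ : G → ℂ) g) else 0) =
      if Special N g then cz g else 0 := by
    intro g
    have h : (Nat.card N : ℂ) *
        ∑ χ : Cfsg.IrrCharacter G, (if over' χ then (χ : G → ℂ) g * conj ((χ : G → ℂ) g) else 0) =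
        ∑ n : N, conj ((ψ : N → ℂ) n) * (if IsConj ((n : G) * g) g then cz g else 0) := by
      calc _ = ∑ χ : Cfsg.IrrCharacter G,
            (∑ n : N, conj ((ψ : N → ℂ) n) * (χ : G → ℂ) (n * g)) * conj ((χ : G → ℂ) g) := by
            rw [Finset.mul_sum]
            refine Finset.sum_congr rfl fun χ _ => ?_
            rw [hrel]
            split_ifs <;> ring
        _ = _ := by
            simp only [Finset.sum_mul]
            rw [Finset.sum_comm]
            refine Finset.sum_congr rfl fun n _ => ?_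
            simp only [cz]
            have h2 := congrArg (fun z => conj ((ψ : N → ℂ) n) * z) (second_orthogonality ((n : G) * g) g)
            convert h2 using 1
            · simp only [Finset.mul_sum]
              exact Finset.sum_congr rfl fun χ _ => by ring
            · congr
    rw [h]
    by_cases hs : Special N g
    · rw [if_pos hs, Finset.sum_eq_single (1 : N)]
      · rw [hψ1, map_one, one_mul, OneMemClass.coe_one, one_mul, if_pos (IsConj.refl g)]
      · intro n _ hn
        rw [if_neg, mul_zero]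
        intro hcj
        obtain ⟨x, hx⟩ := isConj_iff.1 hcj.symm
        apply hn
        refine Subtype.ext ?_
        have hnc := Subgroup.mem_center_iff.1 (hN n.2)
        have e : x⁻¹ * g⁻¹ * x * g = (n : G) := by
          have e1 : (n : G) = x * g * x⁻¹ * g⁻¹ := by rw [hx]; group
          calc x⁻¹ * g⁻¹ * x * g
              = g⁻¹ * (g * x⁻¹ * g⁻¹ * x) * g := by group
            _ = g⁻¹ * (x⁻¹ * (n : G) * x) * g := by rw [e1]; group
            _ = g⁻¹ * (n : G) * g := by
                rw [mul_assoc x⁻¹ (n : G) x, ← hnc x, inv_mul_cancel_left]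
            _ = _ := by rw [mul_assoc g⁻¹ (n : G) g, ← hnc g, inv_mul_cancel_left]
        have hxg := hs x (by rw [e]; exact n.2)
        rw [← e]
        calc x⁻¹ * g⁻¹ * x * g = x⁻¹ * g⁻¹ * (x * g) := by group
          _ = ((1 : N) : G) := by rw [hxg, OneMemClass.coe_one]; group
      · exact fun h => (h (Finset.mem_univ _)).elim
    · rw [if_neg hs]
      simp only [Special, not_forall] at hs
      obtain ⟨x, hxN, hx⟩ := hs
      let m : N := ⟨_, hxN⟩
      have hm : (ψ : N → ℂ) m ≠ 1 := fun h1 => by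
        have h2 : x⁻¹ * g⁻¹ * x * g = 1 := congrArg Subtype.val (hfaith m (h1.trans hψ1.symm))
        exact hx (by
          calc x * g = g * x * (x⁻¹ * g⁻¹ * x * g) := by group
            _ = g * x := by rw [h2, mul_one])
      have hmc := Subgroup.mem_center_iff.1 (hN hxN)
      have hmg : x * g * x⁻¹ = (x⁻¹ * g⁻¹ * x * g) * g := by
        calc x * g * x⁻¹ = g * (x * (x⁻¹ * g⁻¹ * x * g) * x⁻¹) := by group
          _ = g * (x⁻¹ * g⁻¹ * x * g) := by rw [hmc x, mul_inv_cancel_right]
          _ = _ := hmc g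
      have hconj : ∀ n : N, IsConj (((m * n : N) : G) * g) g ↔ IsConj ((n : G) * g) g := by
        intro n
        have hnc := Subgroup.mem_center_iff.1 (hN n.2)
        have e : ((m * n : N) : G) * g = x * ((n : G) * g) * x⁻¹ := by
          calc ((m * n : N) : G) * g = (x⁻¹ * g⁻¹ * x * g) * ((n : G) * g) := mul_assoc _ _ _
            _ = (n : G) * ((x⁻¹ * g⁻¹ * x * g) * g) := by
                rw [← mul_assoc _ (n : G) g, hnc, mul_assoc]
            _ = (n : G) * (x * g * x⁻¹) := by rw [hmg]
            _ = _ := by rw [← mul_assoc x, hnc x]; group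
        have e1 : IsConj ((n : G) * g) (((m * n : N) : G) * g) := isConj_iff.2 ⟨x, e.symm⟩
        exact ⟨fun h => e1.trans h, fun h => e1.symm.trans h⟩
      set S := ∑ n : N, conj ((ψ : N → ℂ) n) * (if IsConj ((n : G) * g) g then cz g else 0)
      have hS : conj ((ψ : N → ℂ) m) * S = S := by
        rw [Finset.mul_sum]
        refine Fintype.sum_equiv (Equiv.mulLeft m) _ _ fun n => ?_
        rw [Equiv.coe_mulLeft, hψmul, map_mul, mul_assoc]
        simp only [hconj]
      by_contra h0
      exact hm ((map_eq_one_iff _ (starRingEnd ℂ).injective).1 ((mul_eq_right₀ h0).1 hS))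
  have hcz : ∀ g : G, Special N g → cz g =
      (Nat.card N : ℂ) * Nat.card (Subgroup.centralizer ({(g : G ⧸ N)} : Set (G ⧸ N))) := by
    intro g hs
    have e : Subgroup.centralizer ({g} : Set G) =
        (Subgroup.centralizer ({(g : G ⧸ N)} : Set (G ⧸ N))).comap (QuotientGroup.mk' N) := by
      ext x
      rw [Subgroup.mem_comap, Subgroup.mem_centralizer_singleton_iff,
        Subgroup.mem_centralizer_singleton_iff, QuotientGroup.mk'_apply, ← QuotientGroup.mk_mul,
        ← QuotientGroup.mk_mul]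
      refine ⟨fun h => by rw [h], fun h => ?_⟩
      have hsp := hs x
      have h1 := QuotientGroup.eq.1 h
      have h2 := QuotientGroup.eq.1 h.symm
      simp only [mul_inv_rev] at h1 h2
      simp only [← mul_assoc] at h1 h2
      first | exact hsp h2 | exact (hsp h2).symm | exact hsp h1 | exact (hsp h1).symm
    simp only [cz, e]
    set K := Subgroup.centralizer ({(g : G ⧸ N)} : Set (G ⧸ N))
    have h1 := (K.comap (QuotientGroup.mk' N)).card_mul_index
    rw [Subgroup.index_comap_of_surjective K (QuotientGroup.mk'_surjective N),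
      ← Subgroup.card_mul_index N, Subgroup.index_eq_card N, ← K.card_mul_index, ← mul_assoc] at h1
    rw [Nat.eq_of_mul_eq_mul_right (Nat.pos_of_ne_zero Subgroup.index_ne_zero_of_finite) h1]
    push_cast
    rfl
  let P : ConjClasses (G ⧸ N) → Prop := fun C =>
    ∃ g : G, ConjClasses.mk (g : G ⧸ N) = C ∧ ∀ x : G, x⁻¹ * g⁻¹ * x * g ∈ N → x * g = g * x
  have hP : ∀ g : G, P (ConjClasses.mk (g : G ⧸ N)) ↔ Special N g := by
    refine fun g => ⟨fun ⟨g', hg', hs⟩ => ?_, fun h => ⟨g, rfl, h⟩⟩
    obtain ⟨q, hq⟩ := isConj_iff.1 (ConjClasses.mk_eq_mk_iff_isConj.1 hg')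
    obtain ⟨y, rfl⟩ := QuotientGroup.mk_surjective q
    have h1 : g * (y * g' * y⁻¹)⁻¹ ∈ N := by
      rw [← QuotientGroup.eq_one_iff]
      simp only [QuotientGroup.mk_mul, QuotientGroup.mk_inv, ← hq]
      group
    have := special_mul_central N hN h1 (special_conj N y hs)
    rwa [inv_mul_cancel_right] at this
  have hR := sum_card_centralizer (G := G ⧸ N) P
  have hfib : ∑ g : G, (if Special N g then cz g else 0) =
      (Nat.card N : ℂ) ^ 2 * ((Nat.card (G ⧸ N) : ℂ) * Nat.card {C // P C}) := by
    rw [← hR, ← Finset.sum_fiberwise_of_maps_to (g := fun g : G => (g : G ⧸ N)) (t := Finset.univ)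
      (fun _ _ => Finset.mem_univ _), Finset.mul_sum]
    refine Finset.sum_congr rfl fun q _ => ?_
    induction q using QuotientGroup.induction_on with | _ a => ?_
    rw [Finset.sum_congr rfl (g := fun _ => if P (ConjClasses.mk (a : G ⧸ N)) then
      (Nat.card N : ℂ) * Nat.card (Subgroup.centralizer ({(a : G ⧸ N)} : Set (G ⧸ N))) else 0)
      fun g hg => ?_, Finset.sum_const, nsmul_eq_mul]
    · have hcard : (Finset.univ.filter fun g : G => (g : G ⧸ N) = a).card = Nat.card N := by
        rw [Nat.card_eq_fintype_card, ← Finset.card_univ]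
        refine (Finset.card_bij (fun (n : N) _ => (n : G) * a) (fun n _ => Finset.mem_filter.2
          ⟨Finset.mem_univ _, ?_⟩) (fun n _ n' _ h => by exact Subtype.ext (mul_right_cancel h))
          fun b hb => ?_).symm
        · rw [QuotientGroup.mk_mul, (QuotientGroup.eq_one_iff (n : G)).2 n.2, one_mul]
        · refine ⟨⟨b * a⁻¹, ?_⟩, Finset.mem_univ _, inv_mul_cancel_right b a⟩
          rw [← QuotientGroup.eq_one_iff, QuotientGroup.mk_mul, QuotientGroup.mk_inv,
            (Finset.mem_filter.1 hb).2, mul_inv_cancel]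
      rw [hcard]
      split_ifs <;> ring
    · have hga := (Finset.mem_filter.1 hg).2
      simp only [← hga]
      by_cases hs : Special N g
      · rw [if_pos hs, if_pos ((hP g).2 hs), hcz g hs]
      · rw [if_neg hs, if_neg (mt (hP g).1 hs)]
  have hsum : ∑ g : G, ∑ χ : Cfsg.IrrCharacter G,
      (if over' χ then (χ : G → ℂ) g * conj ((χ : G → ℂ) g) else 0) =
      (Nat.card G : ℂ) * Nat.card {χ // over' χ} := by
    rw [Finset.sum_comm, Nat.card_eq_fintype_card (α := {χ // over' χ}), Fintype.card_subtype,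
      Finset.card_filter, Nat.cast_sum, Finset.mul_sum]
    refine Finset.sum_congr rfl fun χ _ => ?_
    by_cases ho : over' χ
    · simp only [if_pos ho, Nat.cast_one, mul_one]
      have h2 := classInner_isIrr_self χ.2
      rwa [classInner_def, inv_mul_eq_iff_eq_mul₀ natCard_ne_zero, mul_one] at h2
    · simp [ho]
  have htot : (Nat.card N : ℂ) * ((Nat.card G : ℂ) * Nat.card {χ // over' χ}) =
      (Nat.card N : ℂ) ^ 2 * ((Nat.card (G ⧸ N) : ℂ) * Nat.card {C // P C}) := by
    rw [← hfib, ← hsum, Finset.mul_sum]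
    exact Finset.sum_congr rfl fun g _ => hpt g
  have hG : (Nat.card G : ℂ) = Nat.card (G ⧸ N) * Nat.card N := by
    rw [← Nat.cast_mul, ← Subgroup.card_eq_card_quotient_mul_card_subgroup]
  rw [hG] at htot
  have hne : (Nat.card N : ℂ) ^ 2 * (Nat.card (G ⧸ N) : ℂ) ≠ 0 :=
    mul_ne_zero (pow_ne_zero _ natCard_ne_zero) natCard_ne_zero
  have : (Nat.card {χ // over' χ} : ℂ) = Nat.card {C // P C} :=
    mul_left_cancel₀ hne (by linear_combination htot)
  exact_mod_cast this

end Cfsg.Agent.S4567
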