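import Cfsg.Statements.S4570
import Cfsg.Agent.S4569
import Cfsg.Agent.Lib.Blocks.FreeTwo.Cases
-- import your own Cfsg.Agent.* helpers here

set_option autoImplicit false
open Cfsg

namespace Cfsg.Agent.S4570

open Cfsg.Agent.Blocks Cfsg.Agent.Blocks.Star Cfsg.Agent.Blocks.EightNine Cfsg.Agent.Blocks.FreeTwo
open Cfsg.Agent.Characters Cfsg.Agent.BlockCharsA
open Cfsg.Agent.BlockCharsA.BrauerPairs Cfsg.Agent.BlockCharsA.PairConj
open Cfsg.Agent.BlockCharsA.PairLocal Cfsg.Agent.BlockCharsA.PairFusion
open Cfsg.Agent.BlockCharsA.PairPrincipal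

/-- The case of a Sylow subgroup through the involution. -/
theorem aux {G : Type*} [Group G] [Finite G] {M : Ideal Cfsg.AlgInt} (hM : Cfsg.IsPModular 2 M)
    (Q : Sylow 2 G) (hab : ∀ a ∈ (Q : Subgroup G), ∀ b ∈ (Q : Subgroup G), a * b = b * a) {x : G}
    (hxQ : x ∈ (Q : Subgroup G)) (hx : orderOf x = 2)
    (hl : Cfsg.blockRank 2 (Cfsg.principalBlock M ↥(Subgroup.centralizer ({x} : Set G))) = 1) :
    (Nat.card (Q : Subgroup G) = 8 → Nat.card (Cfsg.principalBlock M G) = 8) ∧
      (Nat.card (Q : Subgroup G) = 16 →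
        Nat.card (Cfsg.principalBlock M G) = 8 ∨ Nat.card (Cfsg.principalBlock M G) = 16) := by
  classical
  haveI : Fact (Nat.Prime 2) := ⟨Nat.prime_two⟩
  haveI := Fintype.ofFinite G
  haveI := Fintype.ofFinite (Cfsg.IrrCharacter G)
  haveI := Fintype.ofFinite (Q : Subgroup G)
  have hmax := isMaximal_prin hM Q
  set R := inertR (Q : Subgroup G) (prin M (Q : Subgroup G)) with hR
  set e := Nat.card R with he
  set xv : (Q : Subgroup G) := ⟨x, hxQ⟩
  -- the stabiliser of `x`
  have hCle : (Q : Subgroup G) ≤ Subgroup.centralizer ({x} : Set G) := fun y hy =>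
    Subgroup.mem_centralizer_singleton_iff.2 (hab y hy x hxQ)
  have hxfree : ∀ t ∈ Subgroup.normalizer ((Q : Subgroup G) : Set G), t * x * t⁻¹ = x →
      t ∈ Subgroup.centralizer ((Q : Subgroup G) : Set G) := by
    set C := Subgroup.centralizer ({x} : Set G) with hC
    set Q' : Sylow 2 C := Q.subtype hCle
    have habC : ∀ a ∈ (Q' : Subgroup C), ∀ b ∈ (Q' : Subgroup C), a * b = b * a :=
      fun a ha b hb => Subtype.ext (hab a ha b hb)
    have h1 : Nat.card (inertR (Q' : Subgroup C) (prin M (Q' : Subgroup C))) = 1 := by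
      by_contra h
      exact blockRank_ne_one hM (isMaximal_prin hM Q') habC h hl
    rw [card_inertR_prin hM, Subgroup.relIndex_eq_one] at h1
    intro t ht htx
    have htC : t ∈ C := Subgroup.mem_centralizer_singleton_iff.2 (mul_inv_eq_iff_eq_mul.1 htx)
    have htN : (⟨t, htC⟩ : C) ∈ Subgroup.normalizer ((Q' : Subgroup C) : Set C) :=
      Subgroup.mem_normalizer_iff.2 fun y => Subgroup.mem_normalizer_iff.1 ht (y : G)
    intro y hy
    exact congrArg Subtype.val (h1 htN ⟨y, hCle hy⟩ hy)
  have hRx : ∀ β ∈ R, β xv = xv → β = 1 := by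
    intro β hβ hβx
    obtain ⟨t, ht, htv⟩ := inertR_exists hβ
    rw [stab_prin hM] at ht
    have h := hxfree t ht (by rw [← htv xv, hβx])
    refine MulEquiv.ext fun w => Subtype.ext ?_
    rw [htv w, ← h w w.2, mul_inv_cancel_right]
    rfl
  have hinjR : Function.Injective fun β : R => (β : MulAut (Q : Subgroup G)) xv := by
    intro β γ h
    refine Subtype.ext (inv_mul_eq_one.1 (hRx _ (mul_mem (inv_mem β.2) γ.2) ?_))
    rw [MulAut.mul_apply, show (γ : MulAut (Q : Subgroup G)) xv = (β : MulAut _) xv from h.symm]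
    exact (β : MulAut (Q : Subgroup G)).symm_apply_apply xv
  -- square roots of one
  let Om : Subgroup (Q : Subgroup G) :=
    { carrier := {v | v * v = 1}
      one_mem' := one_mul 1
      mul_mem' := fun {a b} (ha : a * a = 1) (hb : b * b = 1) => by
        show a * b * (a * b) = 1
        have : b * a = a * b := Subtype.ext (hab b b.2 a a.2)
        calc a * b * (a * b) = a * (b * a) * b := by simp [mul_assoc]
          _ = a * a * (b * b) := by rw [this]; simp [mul_assoc]
          _ = 1 := by rw [ha, hb, mul_one]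
      inv_mem' := fun {a} (ha : a * a = 1) => by
        show a⁻¹ * a⁻¹ = 1
        rw [← mul_inv_rev, ha, inv_one] }
  have hxv : xv * xv = 1 := Subtype.ext (by
    show x * x = 1
    rw [← pow_two, ← hx, pow_orderOf_eq_one])
  have hxv1 : xv ≠ 1 := fun h => by
    have : x = 1 := congrArg Subtype.val h
    simp [this] at hx
  have heOm : e + 1 ≤ Nat.card Om := by
    let f : R → Om := fun β => ⟨(β : MulAut (Q : Subgroup G)) xv, by
      show (β : MulAut (Q : Subgroup G)) xv * (β : MulAut (Q : Subgroup G)) xv = 1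
      rw [← map_mul, hxv, map_one]⟩
    have hf : Function.Injective (fun o : Option R => o.elim (1 : Om) f) := by
      have hne : ∀ β, f β ≠ 1 := fun β h => hxv1 ((β : MulAut (Q : Subgroup G)).injective
        ((congrArg Subtype.val h).trans (map_one (β : MulAut (Q : Subgroup G))).symm))
      rintro (_ | β) (_ | γ) h
      · rfl
      · exact absurd h.symm (hne γ)
      · exact absurd h (hne β)
      · exact congrArg some (hinjR (congrArg Subtype.val h))
    haveI := Fintype.ofFinite R
    haveI := Fintype.ofFinite Om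
    have := Fintype.card_le_of_injective _ hf
    rwa [Fintype.card_option, ← Nat.card_eq_fintype_card, ← Nat.card_eq_fintype_card] at this
  have hOmd : Nat.card Om ∣ Nat.card (Q : Subgroup G) := Subgroup.card_subgroup_dvd_card Om
  have helOm : Nat.card Om = Nat.card (Q : Subgroup G) → ∀ y ∈ (Q : Subgroup G), y * y = 1 :=
    fun h y hy => congrArg Subtype.val
      ((Subgroup.eq_top_of_card_eq Om h) ▸ Subgroup.mem_top _ : (⟨y, hy⟩ : (Q : Subgroup G)) ∈ Om)
  have heodd := odd_inertR hM Q hab
  rw [← hR, ← he] at heodd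
  have he0 : 0 < e := Nat.card_pos
  have hQ1 : (Q : Subgroup G) ≠ ⊥ := fun h => hxv1 (Subtype.ext (Subgroup.mem_bot.1 (h ▸ hxQ)))
  -- no inertial action
  have hone : e = 1 → Nat.card (Cfsg.principalBlock M G) = Nat.card (Q : Subgroup G) := by
    intro he1
    have hfr : Frees (Q : Subgroup G) (prin M (Q : Subgroup G)) := by
      intro t ht v _ _ _
      haveI : Subsingleton R := (Nat.card_eq_one_iff_unique.1 he1).1
      exact mem_centralizer_of_inertAct ht
        (congrArg Subtype.val (Subsingleton.elim (⟨_, inertAct_mem ht⟩ : R) 1))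
    obtain ⟨n, hn, hk, hl1, hle, -⟩ := free_counts hM hmax hab hQ1 hfr
    rw [← hR, ← he, he1, mul_one] at hn
    rw [← hR, ← he, he1] at hle
    have : 0 < Nat.card (Q : Subgroup G) := Nat.card_pos
    omega
  -- the fixed points
  let F : Subgroup G :=
    { carrier := {f | f ∈ (Q : Subgroup G) ∧
        ∀ t ∈ Subgroup.normalizer ((Q : Subgroup G) : Set G), t * f * t⁻¹ = f}
      one_mem' := ⟨one_mem _, fun t _ => by simp⟩
      mul_mem' := fun {a b} ha hb => ⟨mul_mem ha.1 hb.1, fun t ht => by
        rw [show t * (a * b) * t⁻¹ = t * a * t⁻¹ * (t * b * t⁻¹) by group, ha.2 t ht, hb.2 t ht]⟩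
      inv_mem' := fun {a} ha => ⟨inv_mem ha.1, fun t ht => by
        rw [show t * a⁻¹ * t⁻¹ = (t * a * t⁻¹)⁻¹ by group, ha.2 t ht]⟩ }
  have hFP : F ≤ (Q : Subgroup G) := fun f hf => hf.1
  have hfix : ∀ t ∈ Subgroup.normalizer ((Q : Subgroup G) : Set G), ∀ f ∈ F, t * f * t⁻¹ = f :=
    fun t ht f hf => hf.2 t ht
  have hprime : e.Prime → ∃ n : ℕ,
      Nat.card (Q : Subgroup G) = Nat.card F + n * e ∧ Nat.card F ∣ Nat.card (Q : Subgroup G) ∧
      Nat.card F < Nat.card (Q : Subgroup G) ∧
      (Nat.card F = 1 → Frees (Q : Subgroup G) (prin M (Q : Subgroup G))) ∧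
      (∀ l : ℕ, (∀ (H : Type _) [Group H] [Finite H] (P : Sylow 2 H),
        Nat.card F * Nat.card (P : Subgroup H) = Nat.card (Q : Subgroup G) →
        (∀ a ∈ (P : Subgroup H), ∀ b ∈ (P : Subgroup H), a * b = b * a) →
        Frees (P : Subgroup H) (prin M (P : Subgroup H)) →
        Nat.card (inertR (P : Subgroup H) (prin M (P : Subgroup H))) = e →
        Cfsg.blockRank 2 (Cfsg.principalBlock M H) = l) →
        Nat.card (Cfsg.principalBlock M G) = Nat.card F * l + n) := by
    intro hep
    haveI : Fact e.Prime := ⟨hep⟩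
    have hfree : ∀ t ∈ Subgroup.normalizer ((Q : Subgroup G) : Set G), ∀ v ∈ (Q : Subgroup G),
        v ∉ F → t * v * t⁻¹ = v → t ∈ Subgroup.centralizer ((Q : Subgroup G) : Set G) := by
      intro t ht v hv hvF htv
      have hts : t ∈ stab (Q : Subgroup G) (prin M (Q : Subgroup G)) := by rw [stab_prin hM]; exact ht
      refine mem_centralizer_of_inertAct hts ?_
      by_contra hne
      refine hvF ⟨hv, fun s hs => ?_⟩
      have hss : s ∈ stab (Q : Subgroup G) (prin M (Q : Subgroup G)) := by rw [stab_prin hM]; exact hs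
      obtain ⟨i, hi⟩ := (mem_powers_iff_mem_zpowers.2 (mem_zpowers_of_prime_card (G := R) rfl
        (g' := ⟨_, inertAct_mem hss⟩) (g := ⟨_, inertAct_mem hts⟩)
        fun h => hne (congrArg Subtype.val h)))
      have hpow : ∀ j : ℕ, ((inertAct (Q : Subgroup G) (prin M (Q : Subgroup G)) ⟨t, hts⟩) ^ j)
          (⟨v, hv⟩ : (Q : Subgroup G)) = ⟨v, hv⟩ := by
        intro j
        induction j with
        | zero => rfl
        | succ j ih => rw [pow_succ, MulAut.mul_apply, show inertAct (Q : Subgroup G)
            (prin M (Q : Subgroup G)) ⟨t, hts⟩ (⟨v, hv⟩ : (Q : Subgroup G)) = ⟨v, hv⟩ from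
              Subtype.ext htv, ih]
      have hi' := congrArg Subtype.val hi
      simp only [SubgroupClass.coe_pow] at hi'
      have h2 := hpow i
      rw [hi'] at h2
      exact congrArg Subtype.val h2
    have hxF : x ∉ F := fun h => by
      have hle : Subgroup.normalizer ((Q : Subgroup G) : Set G) ≤
          Subgroup.centralizer ((Q : Subgroup G) : Set G) :=
        fun t ht => hxfree t ht (h.2 t ht)
      have : e = 1 := by
        rw [he, hR, card_inertR_prin hM, Subgroup.relIndex_eq_one]; exact hle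
      exact hep.ne_one this
    have hlt : Nat.card F < Nat.card (Q : Subgroup G) := by
      refine lt_of_le_of_ne (Subgroup.card_le_of_le hFP) fun h => hxF ?_
      rw [eq_of_le_of_card_le hFP h.ge]; exact hxQ
    have hdvd : e ∣ Nat.card {v : (Q : Subgroup G) | (v : G) ∉ F} := by
      refine dvd_card_stable hM _ _ (fun β hβ v hv h => hv ?_) fun β hβ v hv hβv => ?_
      · obtain ⟨t, ht, htv⟩ := inertR_exists hβ
        rw [stab_prin hM] at ht
        have h' := hfix t⁻¹ (inv_mem ht) _ h
        rw [htv v] at h'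
        have h'' : (v : G) = t * (v : G) * t⁻¹ := by
          rw [← h']; group
        rw [h'', ← htv v]; exact h
      · obtain ⟨t, ht, htv⟩ := inertR_exists hβ
        rw [stab_prin hM] at ht
        have hC := hfree t ht v v.2 hv (by rw [← htv v, hβv])
        refine MulEquiv.ext fun w => Subtype.ext ?_
        rw [htv w, ← hC w w.2, mul_inv_cancel_right]
        rfl
    obtain ⟨n, hn⟩ := hdvd
    have hsum : Nat.card (Q : Subgroup G) = Nat.card F + n * e := by
      rw [mul_comm n, ← hn]
      have h1 := Fintype.card_subtype_compl (fun v : (Q : Subgroup G) => (v : G) ∈ F)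
      have h2 : Fintype.card {v : (Q : Subgroup G) // (v : G) ∈ F} = Nat.card F := by
        rw [← Nat.card_eq_fintype_card]
        exact Nat.card_congr (Subgroup.subgroupOfEquivOfLe hFP).toEquiv
      have h3 := Fintype.card_subtype_le (fun v : (Q : Subgroup G) => (v : G) ∈ F)
      simp only [← Nat.card_eq_fintype_card] at h1 h2 h3
      rw [Set.coe_ofPred]
      omega
    refine ⟨n, hsum, Subgroup.card_dvd_of_le hFP, hlt, fun hF1 => ?_, fun l hl' => ?_⟩
    · intro t ht v hv hv1 htv
      rw [stab_prin hM] at ht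
      exact hfree t ht v hv (fun h => hv1 (by
        rw [Subgroup.eq_bot_of_card_eq F hF1, Subgroup.mem_bot] at h; exact h)) htv
    · rw [card_eq_fixed hM Q hab hFP hfix hfree hsum]
      obtain ⟨H, _, _, P, hc, habP, hfP, heP, hrk⟩ := exists_free_quotient hM Q hab hFP hfix hfree
        (fun h => hxF (h hxQ))
      rw [hrk, hl' H P hc habP hfP heP]
  refine ⟨fun h8 => ?_, fun h16 => ?_⟩
  · have he7 : e ≤ 7 := by
      have := Nat.le_of_dvd (by omega) hOmd
      omega
    obtain he1 | he3 | he5 | he7' : e = 1 ∨ e = 3 ∨ e = 5 ∨ e = 7 := by omega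
    · rw [hone he1, h8]
    · obtain ⟨n, hn, hd, hlt, -, hk⟩ := hprime (he3 ▸ by norm_num)
      rw [h8] at hd hn hlt
      rw [he3] at hn
      obtain ⟨i, hi, hF⟩ := (Nat.dvd_prime_pow Nat.prime_two (m := 3)).1 hd
      have hF2 : Nat.card F = 2 := by interval_cases i <;> omega
      rw [hk 3 fun H _ _ P hc habP hfP heP => rank_three_four hM P habP hfP
        (by rw [hF2, h8] at hc; omega) (heP.trans he3)]
      omega
    · obtain ⟨n, hn, hd, hlt, -, hk⟩ := hprime (he5 ▸ by norm_num)
      rw [h8] at hd hn hlt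
      rw [he5] at hn
      obtain ⟨i, hi, hF⟩ := (Nat.dvd_prime_pow Nat.prime_two (m := 3)).1 hd
      interval_cases i <;> omega
    · obtain ⟨n, hn, hd, hlt, hfr, -⟩ := hprime (he7' ▸ by norm_num)
      rw [h8] at hd hn hlt
      rw [he7'] at hn
      obtain ⟨i, hi, hF⟩ := (Nat.dvd_prime_pow Nat.prime_two (m := 3)).1 hd
      exact (rank_seven_eight hM Q hab (hfr (by interval_cases i <;> omega)) h8 he7').1
  · have he15 : e ≤ 15 := by
      have := Nat.le_of_dvd (by omega) hOmd
      omega
    obtain ⟨j, hj, hOm⟩ := (Nat.dvd_prime_pow Nat.prime_two (m := 4)).1 (h16 ▸ hOmd)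
    have hel : 8 ≤ e → ∀ y ∈ (Q : Subgroup G), y * y = 1 := fun h => helOm (by
      interval_cases j <;> omega)
    obtain he1 | he3 | he5 | he7 | he9 | he11 | he13 | he15' :
        e = 1 ∨ e = 3 ∨ e = 5 ∨ e = 7 ∨ e = 9 ∨ e = 11 ∨ e = 13 ∨ e = 15 := by omega
    · exact Or.inr ((hone he1).trans h16)
    · obtain ⟨n, hn, hd, hlt, hfr, hk⟩ := hprime (he3 ▸ by norm_num)
      rw [h16] at hd hn hlt
      rw [he3] at hn
      obtain ⟨i, hi, hF⟩ := (Nat.dvd_prime_pow Nat.prime_two (m := 4)).1 hd
      rcases (show Nat.card F = 1 ∨ Nat.card F = 4 by interval_cases i <;> omega) with hF1 | hF4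
      · left
        obtain ⟨m, hm, hk', -, -, h3⟩ := free_counts hM hmax hab hQ1 (hfr hF1)
        rw [← hR, ← he] at hm h3
        rw [h16, he3] at hm
        rcases h3 (by omega) with h | ⟨h, -⟩
        · omega
        · rw [h16] at h; norm_num at h
      · right
        rw [hk 3 fun H _ _ P hc habP hfP heP => rank_three_four hM P habP hfP
          (by rw [hF4, h16] at hc; omega) (heP.trans he3)]
        omega
    · obtain ⟨n, hn, hd, hlt, hfr, -⟩ := hprime (he5 ▸ by norm_num)
      rw [h16] at hd hn hlt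
      rw [he5] at hn
      obtain ⟨i, hi, hF⟩ := (Nat.dvd_prime_pow Nat.prime_two (m := 4)).1 hd
      have hfr' := hfr (by interval_cases i <;> omega)
      have hdv : e ∣ Nat.card {v : (Q : Subgroup G) | v * v = 1 ∧ v ≠ 1} := by
        refine dvd_card_stable hM _ _ (fun β _ v hv => ⟨by rw [← map_mul, hv.1, map_one], fun h =>
          hv.2 (β.injective (h.trans (map_one β).symm))⟩) fun β hβ v hv h => ?_
        exact hfr'.eq_one hβ hv.2 h
      have hcount : Nat.card {v : (Q : Subgroup G) | v * v = 1 ∧ v ≠ 1} + 1 = Nat.card Om := by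
        haveI := Fintype.ofFinite Om
        rw [← Nat.card_congr (show {v : Om // v ≠ 1} ≃ {v : (Q : Subgroup G) | v * v = 1 ∧ v ≠ 1} from
          { toFun := fun v => ⟨v.1.1, v.1.2, fun h => v.2 (Subtype.ext h)⟩
            invFun := fun v => ⟨⟨v.1, v.2.1⟩, fun h => v.2.2 (congrArg Subtype.val h)⟩
            left_inv := fun _ => rfl
            right_inv := fun _ => rfl }), Nat.card_eq_fintype_card,
          Fintype.card_subtype_compl, Fintype.card_subtype_eq, Nat.card_eq_fintype_card]
        have : 0 < Fintype.card Om := Fintype.card_pos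
        omega
      have helQ : ∀ y ∈ (Q : Subgroup G), y * y = 1 := helOm (by
        obtain ⟨c, hc⟩ := hdv
        rw [he5] at hc
        interval_cases j <;> omega)
      haveI : Fact (Nat.Prime 5) := ⟨by norm_num⟩
      exact Or.inl ((card_cases hM Q helQ hfr' (isCyclic_of_prime_card he5) hQ1).2 he5 h16)
    · obtain ⟨n, hn, hd, hlt, -, hk⟩ := hprime (he7 ▸ by norm_num)
      rw [h16] at hd hn hlt
      rw [he7] at hn
      obtain ⟨i, hi, hF⟩ := (Nat.dvd_prime_pow Nat.prime_two (m := 4)).1 hd
      have hF2 : Nat.card F = 2 := by interval_cases i <;> omega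
      right
      rw [hk 7 fun H _ _ P hc habP hfP heP => (rank_seven_eight hM P habP hfP
        (by rw [hF2, h16] at hc; omega) (heP.trans he7)).2]
      omega
    · refine Or.inr (Cfsg.Agent.S4569.result M hM Q h16 (fun y => Subtype.ext ?_) ?_).1
      · show ((y ^ 2 : (Q : Subgroup G)) : G) = 1
        rw [SubgroupClass.coe_pow, pow_two]
        exact hel (by omega) y y.2
      · rw [← card_inertR_prin hM, ← hR, ← he, he9]
    · obtain ⟨n, hn, hd, hlt, -, -⟩ := hprime (he11 ▸ by norm_num)
      rw [h16] at hd hn hlt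
      rw [he11] at hn
      obtain ⟨i, hi, hF⟩ := (Nat.dvd_prime_pow Nat.prime_two (m := 4)).1 hd
      interval_cases i <;> omega
    · obtain ⟨n, hn, hd, hlt, -, -⟩ := hprime (he13 ▸ by norm_num)
      rw [h16] at hd hn hlt
      rw [he13] at hn
      obtain ⟨i, hi, hF⟩ := (Nat.dvd_prime_pow Nat.prime_two (m := 4)).1 hd
      interval_cases i <;> omega
    · have helQ := hel (by omega)
      have hfr : Frees (Q : Subgroup G) (prin M (Q : Subgroup G)) := by
        haveI := Fintype.ofFinite R
        intro t ht v hv hv1 htv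
        have himg : (Finset.univ.image fun β : R => (β : MulAut (Q : Subgroup G)) xv) =
            Finset.univ.erase 1 := by
          refine Finset.eq_of_subset_of_card_le (fun w hw => ?_) ?_
          · obtain ⟨β, -, rfl⟩ := Finset.mem_image.1 hw
            exact Finset.mem_erase.2 ⟨fun h => hxv1 ((β : MulAut (Q : Subgroup G)).injective
              (h.trans (map_one (β : MulAut (Q : Subgroup G))).symm)), Finset.mem_univ _⟩
          · rw [Finset.card_image_of_injective _ hinjR, Finset.card_univ,
              Finset.card_erase_of_mem (Finset.mem_univ _), Finset.card_univ,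
              ← Nat.card_eq_fintype_card, ← Nat.card_eq_fintype_card, h16, ← he, he15']
        have hvm : (⟨v, hv⟩ : (Q : Subgroup G)) ∈
            (Finset.univ.erase 1 : Finset (Q : Subgroup G)) :=
          Finset.mem_erase.2 ⟨fun h => hv1 (congrArg Subtype.val h), Finset.mem_univ _⟩
        rw [← himg, Finset.mem_image] at hvm
        obtain ⟨β, -, hβ⟩ := hvm
        refine mem_centralizer_of_inertAct ht ?_
        have h1 := hRx ((β : MulAut (Q : Subgroup G))⁻¹ *
          inertAct (Q : Subgroup G) (prin M (Q : Subgroup G)) ⟨t, ht⟩ * β)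
          (mul_mem (mul_mem (inv_mem β.2) (inertAct_mem ht)) β.2) (by
            rw [MulAut.mul_apply, MulAut.mul_apply, hβ,
              show inertAct (Q : Subgroup G) (prin M (Q : Subgroup G)) ⟨t, ht⟩
                (⟨v, hv⟩ : (Q : Subgroup G)) = ⟨v, hv⟩ from Subtype.ext htv, ← hβ]
            exact (β : MulAut (Q : Subgroup G)).symm_apply_apply xv)
        have h2 := congrArg (fun z => (β : MulAut (Q : Subgroup G)) * z *
          ((β : MulAut (Q : Subgroup G)))⁻¹) h1
        simpa [mul_assoc] using h2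
      exact Or.inr (((card_cases hM Q helQ hfr (isCyclic_fifteen he15') hQ1).1
        (by rw [← hR, ← he, he15', h16])).trans h16)

/-- Let G be a finite group with a commutative Sylow 2-subgroup P and M a maximal ideal of the algebraic integers containing 2, and suppose some involution x of G has the property that the principal 2-block of its centralizer has 2-regular rank one. If P has order 8 then the principal 2-block of G contains exactly 8 irreducible characters, and if P has order 16 it contains 8 or 16. -/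
theorem result {G : Type*} [Group G] [Finite G] (M : Ideal Cfsg.AlgInt) (hM : Cfsg.IsPModular 2 M) (P : Sylow 2 G) (hab : IsMulCommutative P) (x : G) (hx : orderOf x = 2) (hl : Cfsg.blockRank 2 (Cfsg.principalBlock M ↥(Subgroup.centralizer ({x} : Set G))) = 1) : (Nat.card P = 8 → Nat.card (Cfsg.principalBlock M G) = 8) ∧ (Nat.card P = 16 → Nat.card (Cfsg.principalBlock M G) = 8 ∨ Nat.card (Cfsg.principalBlock M G) = 16) := by
  haveI : Fact (Nat.Prime 2) := ⟨Nat.prime_two⟩
  have hp : IsPGroup 2 (Subgroup.zpowers x) :=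
    IsPGroup.of_card (n := 1) (by rw [Nat.card_zpowers, hx]; norm_num)
  obtain ⟨Q, hQ⟩ := hp.exists_le_sylow
  let ψ : (Q : Subgroup G) ≃* (P : Subgroup G) := Q.equiv P
  have habQ : ∀ a ∈ (Q : Subgroup G), ∀ b ∈ (Q : Subgroup G), a * b = b * a := fun a ha b hb =>
    congrArg Subtype.val (ψ.injective (by
      rw [map_mul, map_mul]
      exact hab.is_comm.comm (ψ ⟨a, ha⟩) (ψ ⟨b, hb⟩)) : (⟨a, ha⟩ : (Q : Subgroup G)) * ⟨b, hb⟩ =
      ⟨b, hb⟩ * ⟨a, ha⟩)
  have h := aux hM Q habQ (hQ (Subgroup.mem_zpowers x)) hx hl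
  rwa [Nat.card_congr ψ.toEquiv] at h

end Cfsg.Agent.S4570
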