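import Cfsg.Statements.S4574
import Cfsg.Agent.Lib.Characters.Galois
import Cfsg.Agent.Lib.Blocks.Defect

set_option autoImplicit false
open Cfsg Cfsg.Agent.Characters Polynomial

namespace Cfsg.Agent.S4574

/-- Let χ be an irreducible character of the finite group G, of degree d, and let Z(χ) be the set of elements g with |χ g| = d (the centre of χ). Then χ vanishes on at least (d ^ 2 - 1) · |Z(χ)| elements of G, with equality when every value |χ g| is 0, 1 or d. -/
theorem result {G : Type*} [Group G] [Fintype G] [DecidableEq G] (χ : G → ℂ) (hχ : Cfsg.IsIrrCharacter G χ) : (Cfsg.charDegree χ ^ 2 - 1) * (Finset.univ.filter (fun g : G => ‖χ g‖ = (Cfsg.charDegree χ : ℝ))).card ≤ (Finset.univ.filter (fun g : G => χ g = 0)).card ∧ ((∀ g : G, ‖χ g‖ = 0 ∨ ‖χ g‖ = 1 ∨ ‖χ g‖ = (Cfsg.charDegree χ : ℝ)) → (Cfsg.charDegree χ ^ 2 - 1) * (Finset.univ.filter (fun g : G => ‖χ g‖ = (Cfsg.charDegree χ : ℝ))).card = (Finset.univ.filter (fun g : G => χ g = 0)).card) := by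
  classical
  obtain ⟨n, ρ, hρ, rfl⟩ := hχ
  have hn : Module.finrank ℂ (Fin n → ℂ) = n := Module.finrank_fin_fun ℂ
  have hn0 : 0 < n := by
    have := finrank_pos_of_isIrreducible ρ
    rwa [hn] at this
  have hdeg : Cfsg.charDegree ρ.character = n := by
    simp [Cfsg.charDegree, ρ.char_one, hn]
  rw [hdeg]
  have hinvpow : ∀ (g : G) (k : ℕ), k.Coprime (Nat.card G) →
      ∃ m : ℕ, m.Coprime (Nat.card G) ∧ (g ^ k) ^ m = g := by
    intro g k hk
    by_cases h1 : Nat.card G = 1
    · haveI := (Nat.card_eq_one_iff_unique.1 h1).1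
      exact ⟨1, Nat.coprime_one_left _, Subsingleton.elim _ _⟩
    obtain ⟨m, hm⟩ := Nat.exists_mul_mod_eq_one_of_coprime hk
      (lt_of_le_of_ne Nat.card_pos (Ne.symm h1))
    refine ⟨m, ?_, ?_⟩
    · refine Nat.Coprime.coprime_dvd_left (dvd_mul_left m k) ?_
      rw [Nat.Coprime, Nat.gcd_comm, Nat.gcd_rec, hm.2, Nat.gcd_one_left]
    · conv_rhs => rw [← pow_one g]
      rw [← pow_mul, pow_eq_pow_iff_modEq]
      refine Nat.ModEq.of_dvd (orderOf_dvd_natCard g) ?_
      rw [Nat.ModEq, hm.2, Nat.mod_eq_of_lt (lt_of_le_of_ne Nat.card_pos (Ne.symm h1))]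
  have hzero : ∀ (g : G) (k : ℕ), k.Coprime (Nat.card G) → ρ.character g = 0 →
      ρ.character (g ^ k) = 0 := by
    intro g k hk h0
    obtain ⟨P, hP⟩ := exists_poly_values ρ g Nat.card_pos pow_card_eq_one'
      (Complex.isPrimitiveRoot_exp (Nat.card G) Nat.card_pos.ne')
    set ζ := Complex.exp (2 * Real.pi * Complex.I / (Nat.card G : ℕ))
    have hζ : IsPrimitiveRoot ζ (Nat.card G) :=
      Complex.isPrimitiveRoot_exp (Nat.card G) Nat.card_pos.ne'
    have h1 := hP 1
    rw [pow_one, pow_one, h0] at h1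
    rw [hP k, aeval_eq_rat_of_primitive Nat.card_pos hζ (hζ.pow_of_coprime k hk) P (q := 0)
      (by rw [← h1]; simp), Rat.cast_zero]
  have hcen : ∀ (g : G) (k : ℕ), ‖ρ.character g‖ = (n : ℝ) → ‖ρ.character (g ^ k)‖ = (n : ℝ) := by
    intro g k hg
    obtain ⟨w, hw⟩ := rep_apply_eq_smul_of_norm_eq ρ g (by rw [hg, hn])
    have e1 : ∀ j : ℕ, ρ.character (g ^ j) = w ^ j * (n : ℂ) := fun j => by
      rw [Representation.character, map_pow, hw,
        show (w • (LinearMap.id : (Fin n → ℂ) →ₗ[ℂ] (Fin n → ℂ))) = w • (1 : Module.End ℂ (Fin n → ℂ))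
          from rfl, _root_.smul_pow, one_pow, map_smul, LinearMap.trace_one, hn, smul_eq_mul]
    have hw1 : ‖w‖ = 1 := by
      have h := congrArg norm (e1 1)
      rw [pow_one, pow_one, hg, norm_mul, Complex.norm_natCast] at h
      exact (mul_eq_right₀ (Nat.cast_ne_zero.2 hn0.ne')).1 h.symm
    rw [e1, norm_mul, norm_pow, hw1, one_pow, one_mul, Complex.norm_natCast]
  set Z := Finset.univ.filter (fun g : G => ‖ρ.character g‖ = (n : ℝ)) with hZ
  set O := Finset.univ.filter (fun g : G => ρ.character g = 0) with hO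
  set S := Finset.univ.filter (fun g : G => ρ.character g ≠ 0 ∧ ‖ρ.character g‖ ≠ (n : ℝ)) with hS
  have hSclosed : ∀ g ∈ S, ∀ k : ℕ, k.Coprime (Nat.card G) → g ^ k ∈ S := by
    intro g hg k hk
    obtain ⟨m, hm, hgm⟩ := hinvpow g k hk
    simp only [hS, Finset.mem_filter, Finset.mem_univ, true_and] at hg ⊢
    exact ⟨fun h => hg.1 (hgm ▸ hzero _ m hm h), fun h => hg.2 (hgm ▸ hcen _ m h)⟩
  have hmean := card_le_sum_norm_sq ρ S hSclosed fun g hg => (Finset.mem_filter.1 hg).2.1
  have hdisj : ∀ g : G, g ∈ Z → g ∉ O := fun g hg h0 => by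
    simp only [hZ, hO, Finset.mem_filter, Finset.mem_univ, true_and] at hg h0
    rw [h0, norm_zero] at hg
    exact hn0.ne' (Nat.cast_eq_zero.1 hg.symm)
  have htotal : (n : ℝ) ^ 2 * Z.card + ∑ g ∈ S, ‖ρ.character g‖ ^ 2 = (Nat.card G : ℝ) := by
    have h1 := classInner_isIrr_self (G := G) (χ := ρ.character) ⟨n, ρ, hρ, rfl⟩
    rw [classInner_def, inv_mul_eq_one₀ natCard_ne_zero] at h1
    have h2 : ∑ g : G, ‖ρ.character g‖ ^ 2 = (Nat.card G : ℝ) := by
      apply Complex.ofReal_injective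
      push_cast
      rw [h1]
      exact Finset.sum_congr rfl fun g _ => (Complex.mul_conj' _).symm
    rw [← h2, ← Finset.sum_filter_add_sum_filter_not Finset.univ
      (fun g : G => ‖ρ.character g‖ = (n : ℝ)) (fun g => ‖ρ.character g‖ ^ 2)]
    congr 1
    · rw [Finset.sum_congr rfl fun g hg => by rw [(Finset.mem_filter.1 hg).2],
        Finset.sum_const, nsmul_eq_mul, mul_comm]
    · refine Finset.sum_subset (fun g hg => ?_) fun g hg hg' => ?_
      · simp only [hS, Finset.mem_filter, Finset.mem_univ, true_and] at hg ⊢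
        exact hg.2
      · simp only [hS, Finset.mem_filter, Finset.mem_univ, true_and, not_and, not_not] at hg hg'
        by_contra h
        exact hg (hg' fun e => h (by simp [e]))
  have hpart : Z.card + S.card + O.card = Nat.card G := by
    rw [Nat.card_eq_fintype_card, ← Finset.card_univ,
      ← Finset.card_filter_add_card_filter_not (s := Finset.univ)
        (fun g : G => ‖ρ.character g‖ = (n : ℝ)), add_assoc]
    congr 1
    rw [← Finset.card_union_of_disjoint (Finset.disjoint_left.2 fun g hg h0 => by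
      simp only [hS, hO, Finset.mem_filter, Finset.mem_univ, true_and] at hg h0
      exact hg.1 h0)]
    congr 1
    ext g
    simp only [hS, hO, Finset.mem_filter, Finset.mem_univ, true_and, Finset.mem_union]
    refine ⟨?_, fun h => (em (ρ.character g = 0)).elim Or.inr fun h0 => Or.inl ⟨h0, h⟩⟩
    rintro (⟨-, h⟩ | h)
    · exact h
    · exact fun e => hdisj g (by simp [hZ, e]) (by simp [hO, h])
  have hpartR : (Z.card : ℝ) + S.card + O.card = (Nat.card G : ℝ) := by exact_mod_cast hpart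
  have hsq : 1 ≤ n ^ 2 := Nat.one_le_pow _ _ hn0
  refine ⟨?_, fun hall => ?_⟩
  · suffices (((n ^ 2 - 1) * Z.card : ℕ) : ℝ) ≤ (O.card : ℝ) by exact_mod_cast this
    rw [Nat.cast_mul, Nat.cast_sub hsq]
    push_cast
    nlinarith [hmean, htotal, hpartR]
  · have he : ∑ g ∈ S, ‖ρ.character g‖ ^ 2 = (S.card : ℝ) := by
      rw [Finset.sum_congr rfl (g := fun _ => (1 : ℝ)) fun g hg => ?_]
      · simp
      simp only [hS, Finset.mem_filter, Finset.mem_univ, true_and] at hg
      rcases hall g with h | h | h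
      · exact absurd (norm_eq_zero.1 h) hg.1
      · rw [h, one_pow]
      · exact absurd h hg.2
    suffices (((n ^ 2 - 1) * Z.card : ℕ) : ℝ) = (O.card : ℝ) by exact_mod_cast this
    rw [Nat.cast_mul, Nat.cast_sub hsq]
    push_cast
    nlinarith [htotal, hpartR, he]

end Cfsg.Agent.S4574
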