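import Cfsg.Statements.S4580
import Cfsg.Agent.BlockCharsA.RealBlock
import Cfsg.Agent.Lib.CharTheory.ExtendChar
import Cfsg.Agent.Lib.FrobeniusSchur.Basic

set_option autoImplicit false
open Cfsg Cfsg.Agent.Blocks Cfsg.Agent.Characters Cfsg.Agent.BlockCharsA
open scoped ComplexConjugate

namespace Cfsg.Agent.S4580

/-- Let N be a normal subgroup of the finite group G, M a maximal ideal of the algebraic integers containing 2, and θ a real-valued irreducible character of N of odd degree that extends to G (some irreducible character of G restricts to θ). Then θ has an extension to G lying in the principal 2-block of G. -/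
theorem result {G : Type*} [Group G] [Finite G] (N : Subgroup G) [N.Normal] (M : Ideal Cfsg.AlgInt) (hM : Cfsg.IsPModular 2 M) (θ : Cfsg.IrrCharacter N) (hreal : ∀ n : N, ((θ : N → ℂ) n).im = 0) (hodd : Odd (Cfsg.charDegree (θ : N → ℂ))) (hext : ∃ η : Cfsg.IrrCharacter G, ∀ n : N, (η : G → ℂ) n = (θ : N → ℂ) n) :
    ∃ η : Cfsg.IrrCharacter G, (∀ n : N, (η : G → ℂ) n = (θ : N → ℂ) n) ∧ η ∈ Cfsg.principalBlock M G := by
  classical
  haveI := Fintype.ofFinite G
  haveI := Fintype.ofFinite N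
  haveI : Fact (Nat.Prime 2) := ⟨Nat.prime_two⟩
  obtain ⟨η, hη⟩ := hext
  obtain ⟨lam, hlc, hl1, hlN, hlam⟩ := CharTheory.ExtendChar.extension_eq_linear_mul N θ.2 η.2 hη
    (FrobeniusSchur.conjIrr η).2 fun n => by
      show conj ((η : G → ℂ) n) = _
      rw [hη]; exact Complex.conj_eq_iff_im.2 (hreal n)
  set L : G →* ℂˣ := linearOfDegreeOne hlc hl1
  set N₀ := Nat.card G
  have hN0 : N₀ ≠ 0 := Nat.card_pos.ne'
  have hLpow : ∀ g, (L g : ℂ) ^ N₀ = 1 := fun g => by
    rw [← Units.val_pow_eq_pow_val, ← map_pow, pow_card_eq_one', map_one, Units.val_one]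
  set s := N₀.factorization 2
  set m := N₀ / 2 ^ s
  have hsm : 2 ^ s * m = N₀ := Nat.ordProj_mul_ordCompl_eq_self N₀ 2
  obtain ⟨i, hi⟩ : Odd m := Nat.odd_iff.2 (by
    have : ¬ 2 ∣ m := Nat.not_dvd_ordCompl Nat.prime_two hN0
    omega)
  have hpow : ∀ g, ((L g : ℂ) ^ m) ^ 2 ^ s = 1 := fun g => by
    rw [← pow_mul, mul_comm, hsm, hLpow]
  have hLconj : ∀ g, conj (L g : ℂ) = (L g : ℂ)⁻¹ := fun g =>
    eq_inv_of_mul_eq_one_right (by
      rw [Complex.mul_conj', linear_norm_eq_one, Complex.ofReal_one, one_pow])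
  let η' : Cfsg.IrrCharacter G := ⟨_, isIrrCharacter_mul_linear η.2 (L ^ (i + 1))⟩
  have hval : ∀ g, (η' : G → ℂ) g = (L g : ℂ) ^ (i + 1) * (η : G → ℂ) g := fun g => by simp [η']
  have hext' : ∀ n : N, (η' : G → ℂ) n = (θ : N → ℂ) n := fun n => by
    rw [hval, hη, show (L n : ℂ) = 1 from hlN n, one_pow, one_mul]
  have hinv : ∀ g, (η' : G → ℂ) g⁻¹ = ((L g : ℂ) ^ m)⁻¹ * (η' : G → ℂ) g := fun g => by
    have h0 : (L g : ℂ) ≠ 0 := Units.ne_zero _
    rw [char_inv (irr_isCharacter η'), hval, map_mul, map_pow, hLconj,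
      show conj ((η : G → ℂ) g) = lam g * (η : G → ℂ) g from (congrFun hlam g).symm,
      show lam g = (L g : ℂ) from rfl, hi, inv_pow]
    field_simp
    ring
  have hodd' : ¬ 2 ∣ Cfsg.charDegree (η' : G → ℂ) := by
    have h : Cfsg.charDegree (η' : G → ℂ) = Cfsg.charDegree (θ : N → ℂ) := by
      rw [Cfsg.charDegree, Cfsg.charDegree]
      congr 2
      exact hext' 1
    rw [h]
    exact fun h => Nat.not_even_iff_odd.2 hodd (even_iff_two_dvd.2 h)
  have hcong : ∀ g, Cong M (Cfsg.centralChar (η' : G → ℂ) g⁻¹)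
      (Cfsg.centralChar (η' : G → ℂ) g) := fun g => by
    have hμ : Cong M (((L g : ℂ) ^ m)⁻¹) 1 := cong_one_of_pow_prime_pow hM (k := s)
      (by rw [inv_pow, hpow, inv_one])
    have e : Cfsg.centralChar (η' : G → ℂ) g⁻¹ =
        ((L g : ℂ) ^ m)⁻¹ * Cfsg.centralChar (η' : G → ℂ) g := by
      rw [← RealBlock.centralChar_inv_eq (η' : G → ℂ)
        (fun x => (η' : G → ℂ) x⁻¹) g rfl (by simp)]
      simp only [Cfsg.centralChar, hinv g, inv_one]
      ring
    rw [e]
    have := cong_mul_left hM (omega_classSum (irr_isClassFunction η') g ▸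
      omega_ring hM η' (central_classSum g) (intEl_classSum hM g)) hμ
    rwa [mul_one, mul_comm] at this
  refine ⟨η', hext', ?_⟩
  rw [← RealBlock.eq_principal hM (isPBlock_blockOf M η') (fun g _ => ?_)
    (mem_blockOf_self hM η') hodd' fun g _ => hcong g]
  · exact mem_blockOf_self hM η'
  · refine RealBlock.coeff_inv _ FrobeniusSchur.conjIrr (fun a _ b _ e => Subtype.ext
      (funext fun x => (starRingEnd ℂ).injective (congrFun (congrArg Subtype.val e) x)))
      (fun ψ hψ x => ?_) (fun ψ _ => (char_inv (irr_isCharacter ψ) g).symm) fun ψ _ => ?_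
    · rw [RealBlock.centralChar_inv_eq (ψ : G → ℂ) _ x
        (show (FrobeniusSchur.conjIrr ψ : G → ℂ) x = _ from (char_inv (irr_isCharacter ψ) x).symm)
        (by simp [← charDegree_cast])]
      exact cong_trans hM (cong_symm hM (hcong x)) (hψ x⁻¹)
    · simp [← charDegree_cast]

end Cfsg.Agent.S4580
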