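import Cfsg.Statements.S4582
import Cfsg.Agent.BlockCharsA.TateReal

set_option autoImplicit false
open Cfsg

namespace Cfsg.Agent.S4582

/-- Let N be a normal subgroup of the finite group G, P a Sylow 2-subgroup of G and Q = P ∩ N. Suppose that P/QP' and Q/Q' are elementary abelian (every square of an element of P lies in the subgroup generated by Q and the derived subgroup of P, and every square of an element of Q lies in the derived subgroup of Q), and that the commutator factor group N/N' has odd order. Then P/P' is elementary abelian. -/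
theorem result {G : Type*} [Group G] [Finite G] (N : Subgroup G) [N.Normal] (P : Sylow 2 G)
    (hP : ∀ x ∈ (P : Subgroup G), x ^ 2 ∈ ((P : Subgroup G) ⊓ N) ⊔ ⁅(P : Subgroup G), (P : Subgroup G)⁆)
    (hQ : ∀ x ∈ (P : Subgroup G) ⊓ N, x ^ 2 ∈ ⁅(P : Subgroup G) ⊓ N, (P : Subgroup G) ⊓ N⁆)
    (hodd : Odd (Nat.card (Abelianization N))) :
    ∀ x ∈ (P : Subgroup G), x ^ 2 ∈ ⁅(P : Subgroup G), (P : Subgroup G)⁆ := by
  classical
  haveI := Fintype.ofFinite G
  set P' : Subgroup G := (P : Subgroup G) with hP'def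
  -- it is enough to test on linear characters
  suffices key : ∀ lam : P' →* ℂˣ, ∀ x : P', lam (x ^ 2) = 1 by
    intro x hx
    have hmem : (⟨x, hx⟩ : P') ^ 2 ∈ commutator P' := by
      rw [← QuotientGroup.eq_one_iff]
      by_contra h
      haveI : NeZero (Monoid.exponent (Abelianization P') : ℂ) :=
        ⟨Nat.cast_ne_zero.2 Monoid.exponent_ne_zero_of_finite⟩
      obtain ⟨μ, hμ⟩ := CommGroup.exists_apply_ne_one_of_hasEnoughRootsOfUnity
        (Abelianization P') ℂ (a := Abelianization.of ((⟨x, hx⟩ : P') ^ 2)) h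
      exact hμ (key (μ.comp Abelianization.of) ⟨x, hx⟩)
    have h2 : ((commutator P').map P'.subtype) = ⁅P', P'⁆ := by
      rw [commutator_def, Subgroup.map_commutator]
      congr 1 <;> simp [← MonoidHom.range_eq_map]
    exact h2 ▸ ⟨(⟨x, hx⟩ : P') ^ 2, hmem, rfl⟩
  intro lam x
  have hcomm : ∀ (ν : P' →* ℂˣ) (c : P'), (c : G) ∈ ⁅P', P'⁆ → ν c = 1 := by
    intro ν c hc
    have h2 : ((commutator P').map P'.subtype) = ⁅P', P'⁆ := by
      rw [commutator_def, Subgroup.map_commutator]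
      congr 1 <;> simp [← MonoidHom.range_eq_map]
    rw [← h2] at hc
    obtain ⟨d, hd, hdc⟩ := hc
    obtain rfl : d = c := Subtype.ext hdc
    have hk : commutator P' ≤ ν.ker := by
      rw [← Abelianization.ker_of P']
      intro w hw
      have : Abelianization.lift ν (Abelianization.of w) = 1 := by
        rw [MonoidHom.mem_ker.mp hw, map_one]
      simpa using this
    exact hk hd
  have hsq : ∀ q : P', (q : G) ∈ N → lam q ^ 2 = 1 := by
    intro q hq
    rw [← map_pow]
    refine hcomm lam _ (Subgroup.commutator_mono (inf_le_left : P' ⊓ N ≤ P') (inf_le_left : P' ⊓ N ≤ P') ?_)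
    exact hQ (q : G) ⟨q.2, hq⟩
  -- inside `P N`
  set M : Subgroup G := P' ⊔ N with hM
  have hPM : P' ≤ M := le_sup_left
  have hNM : N ≤ M := le_sup_right
  haveI := Fintype.ofFinite M
  set e : P'.subgroupOf M ≃* P' := Subgroup.subgroupOfEquivOfLe hPM with he
  have hrel : Odd ((P'.subgroupOf M ⊓ N.subgroupOf M).relIndex (N.subgroupOf M)) := by
    rw [Subgroup.inf_relIndex_right, Subgroup.relIndex_subgroupOf hNM]
    have h1 : P'.relIndex (P' ⊔ N) = P'.relIndex N := by
      have hx : (P' ⊓ N).relIndex P' ≠ 0 := Subgroup.index_ne_zero_of_finite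
      refine mul_left_cancel₀ hx ?_
      rw [Subgroup.relIndex_mul_relIndex _ _ _ inf_le_left le_sup_left,
        ← Subgroup.relIndex_mul_relIndex (P' ⊓ N) N (P' ⊔ N) inf_le_right le_sup_right,
        Subgroup.inf_relIndex_right, Subgroup.relIndex_sup_right, Subgroup.inf_relIndex_left, mul_comm]
    rw [← h1]
    have h2 : P'.relIndex M ∣ P'.index := Subgroup.relIndex_dvd_index_of_le hPM
    exact (Nat.not_even_iff_odd.mp fun hev => P.not_dvd_index (even_iff_two_dvd.mp hev)).of_dvd_nat h2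
  have hab : Odd (Nat.card (Abelianization (N.subgroupOf M))) := by
    rw [Nat.card_congr (Subgroup.subgroupOfEquivOfLe hNM).abelianizationCongr.toEquiv]
    exact hodd
  obtain ⟨μ, hμ2, hμQ⟩ := Cfsg.Agent.BlockCharsA.TateReal.exists_real_extension (N.subgroupOf M)
    (P'.subgroupOf M) (P.isPGroup'.of_equiv e.symm)
    (by rw [← Subgroup.subgroupOf_sup hNM hPM, sup_comm, ← hM, Subgroup.subgroupOf_self])
    hrel hab (lam.comp e.toMonoidHom)
    (fun q hq => hsq (e q) (Subgroup.mem_subgroupOf.mp hq))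
  have hx := hP (x : G) x.2
  obtain ⟨q, hq, c, hc, hqc⟩ : ∃ q ∈ P' ⊓ N, ∃ c ∈ ⁅P', P'⁆, q * c = (x : G) ^ 2 := by
    have hnorm : P' ⊓ N ≤ Subgroup.normalizer ((⁅P', P'⁆ : Subgroup G) : Set G) := by
      intro w hw
      have hn : ∀ u ∈ P', ∀ d ∈ ⁅P', P'⁆, u * d * u⁻¹ ∈ ⁅P', P'⁆ := by
        intro u hu d hd
        have h := Subgroup.map_commutator P' P' (MulAut.conj u).toMonoidHom
        have hmap : P'.map (MulAut.conj u).toMonoidHom ≤ P' := by
          rintro _ ⟨v, hv, rfl⟩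
          exact P'.mul_mem (P'.mul_mem hu hv) (P'.inv_mem hu)
        exact (h.trans_le (Subgroup.commutator_mono hmap hmap)) ⟨d, hd, rfl⟩
      rw [Subgroup.mem_normalizer_iff]
      refine fun d => ⟨hn w hw.1 d, fun hd => ?_⟩
      have := hn w⁻¹ (P'.inv_mem hw.1) _ hd
      simpa [mul_assoc] using this
    have hx' : (x : G) ^ 2 ∈ ((P' ⊓ N) ⊔ ⁅P', P'⁆ : Subgroup G) := hx
    rw [← SetLike.mem_coe, Subgroup.coe_mul_of_left_le_normalizer_right _ _ hnorm] at hx'
    obtain ⟨q, hq, c, hc, hqc⟩ := hx'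
    exact ⟨q, hq, c, hc, hqc⟩
  have hcP : c ∈ P' := by
    have := (P'.inv_mem hq.1)
    have h3 : c = q⁻¹ * (x : G) ^ 2 := by rw [← hqc, inv_mul_cancel_left]
    rw [h3]
    exact P'.mul_mem this (P'.pow_mem x.2 2)
  have hxeq : x ^ 2 = ⟨q, hq.1⟩ * ⟨c, hcP⟩ := Subtype.ext hqc.symm
  set μ' : P' →* ℂˣ := μ.comp e.symm.toMonoidHom with hμ'
  have h1 : μ' (x ^ 2) = 1 := by
    rw [map_pow]
    exact hμ2 _
  rw [hxeq, map_mul, hcomm μ' ⟨c, hcP⟩ hc, mul_one] at h1
  rw [hxeq, map_mul, hcomm lam ⟨c, hcP⟩ hc, mul_one]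
  have h2 := hμQ (e.symm ⟨q, hq.1⟩) (Subgroup.mem_subgroupOf.mpr hq.2)
  have h3 : μ (e.symm ⟨q, hq.1⟩) = 1 := h1
  rw [h3, MonoidHom.comp_apply] at h2
  simpa using h2.symm

end Cfsg.Agent.S4582
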