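import Cfsg.Statements.S4583
import Cfsg.Agent.Lib.Blocks.InducedChars
import Cfsg.Agent.Lib.Blocks.Covering
import Cfsg.Agent.Lib.Characters.Kernel

set_option autoImplicit false
set_option linter.style.haveILetI false
set_option maxHeartbeats 800000
open Cfsg
open Cfsg.Agent.Blocks Cfsg.Agent.Characters Cfsg.Agent.CharTheory Cfsg.Agent.BlockCharsA.RegularPart
open scoped ComplexConjugate

namespace Cfsg.Agent.S4583

/-- Let N be a normal subgroup of the finite group G, p a prime, M a maximal ideal of the algebraic integers containing p, and P a Sylow p-subgroup of G. Let θ be an irreducible character of N of degree prime to p lying in the principal p-block of N, and suppose θ extends to the subgroup NP (some irreducible character of NP restricts to θ). Then some irreducible character χ of G of degree prime to p in the principal p-block of G lies over θ (θ is a constituent of the restriction of χ to N). -/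
theorem result {G : Type*} [Group G] [Finite G] (N : Subgroup G) [N.Normal] (p : ℕ) [Fact p.Prime] (M : Ideal Cfsg.AlgInt) (hM : Cfsg.IsPModular p M) (P : Sylow p G)
    (θ : Cfsg.IrrCharacter N) (hθ : θ ∈ Cfsg.principalBlock M N) (hdeg : ¬ p ∣ Cfsg.charDegree (θ : N → ℂ))
    (hext : ∃ η : Cfsg.IrrCharacter ↥(N ⊔ (P : Subgroup G)), ∀ n : N, (η : ↥(N ⊔ (P : Subgroup G)) → ℂ) (Subgroup.inclusion le_sup_left n) = (θ : N → ℂ) n) :
    ∃ χ : Cfsg.IrrCharacter G, χ ∈ Cfsg.principalBlock M G ∧ ¬ p ∣ Cfsg.charDegree (χ : G → ℂ) ∧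
      haveI := Fintype.ofFinite N; Cfsg.classInner (fun n : N => (χ : G → ℂ) n) (θ : N → ℂ) ≠ 0 := by
  classical
  haveI := Fintype.ofFinite G
  letI := Fintype.ofFinite N
  set H := N ⊔ (P : Subgroup G) with hH
  haveI := Fintype.ofFinite H
  haveI := Fintype.ofFinite (Cfsg.IrrCharacter G)
  haveI := Fintype.ofFinite (Cfsg.IrrCharacter H)
  obtain ⟨η, hη⟩ := hext
  have hidx : ¬ p ∣ H.index := fun h =>
    P.not_dvd_index (h.trans (Subgroup.index_dvd_of_le le_sup_right))
  have hreg : ∀ g ∈ H, ¬ p ∣ orderOf g → g ∈ N := by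
    intro g hg hr
    obtain ⟨n, hn, u, hu, rfl⟩ := Subgroup.mem_sup_of_normal_left.1 (by rwa [hH] at hg)
    obtain ⟨k, hk⟩ := P.isPGroup' ⟨u, hu⟩
    have hk' : u ^ p ^ k = 1 := by simpa using congrArg Subtype.val hk
    have h1 : ((n * u : G) : G ⧸ N) = (u : G ⧸ N) := by
      rw [QuotientGroup.mk_mul, (QuotientGroup.eq_one_iff n).2 hn, one_mul]
    refine (QuotientGroup.eq_one_iff _).1 (orderOf_eq_one_iff.1 (Nat.eq_one_of_dvd_coprimes
      (Nat.Coprime.pow_left k (hM.1.coprime_iff_not_dvd.2 hr)) ?_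
      (orderOf_map_dvd (QuotientGroup.mk' N) (n * u))))
    show orderOf ((n * u : G) : G ⧸ N) ∣ p ^ k
    rw [h1, orderOf_dvd_iff_pow_eq_one, ← QuotientGroup.mk_pow, hk', QuotientGroup.mk_one]
  set z : MonoidAlgebra ℂ G := regEl p (trivIrr G : G → ℂ) with hz
  have hzc : IsCentralEl z := central_regEl (irr_isClassFunction _)
  have hzi : IntEl M z := intEl_regEl hM (irr_isCharacter _)
  have hzv : ∀ u, z.coeff u = if p ∣ orderOf u then 0 else 1 := fun u => by
    rw [hz, coeff_regEl]; rfl
  -- the value on the extension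
  have hS : ¬ Cfsg.MemLocalIdeal M (∑ h : H, (η : H → ℂ) h * z.coeff h) := by
    have h1 := omega_regEl_unit hM (isPBlock_principal M N) (trivIrr_mem_principal hM) hθ
      (blockHeight_one _)
    rw [omega, evalChar_eq_sum] at h1
    intro hI
    apply h1
    have e : (regEl p (trivIrr N : N → ℂ)) = restrEl N z := by
      rw [hz, restrEl_regEl]; rfl
    rw [e, ← charDegree_cast θ, div_eq_mul_inv]
    refine ideal_mul_right hM ?_ (ring_inv_natCast hM hdeg)
    convert hI using 1
    refine Fintype.sum_of_injective (Subgroup.inclusion le_sup_left)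
      (Subgroup.inclusion_injective _) _ _ (fun h hh => ?_) (fun m => ?_)
    · rw [hzv, if_pos, mul_zero]
      by_contra hr
      exact hh ⟨⟨h, hreg h h.2 hr⟩, Subtype.ext rfl⟩
    · rw [coeff_restrEl, hη, mul_comm]; rfl
  -- the same sum through the induced character
  set c : G → ℂ := fun g => conj (z.coeff g) with hc
  have hcc : Cfsg.IsClassFunction G c := fun g x => by simp only [hc]; rw [hzc g x]
  have hfr := frobenius_reciprocity H (η : H → ℂ) hcc
  have hI := classFun_eq_sum (indFun_isClassFunction H (η : H → ℂ))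
  have hev : ∑ χ : Cfsg.IrrCharacter G, Cfsg.classInner (Cfsg.indFun H (η : H → ℂ)) (χ : G → ℂ) *
      ((χ : G → ℂ) 1 * omega (χ : G → ℂ) z) = (H.index : ℂ) * ∑ h : H, (η : H → ℂ) h * z.coeff h := by
    rw [classInner_def, classInner_def] at hfr
    simp only [hc, Complex.conj_conj] at hfr
    have h1 : ∑ g : G, Cfsg.indFun H (η : H → ℂ) g * z.coeff g =
        (H.index : ℂ) * ∑ h : H, (η : H → ℂ) h * z.coeff h := by
      rw [← Subgroup.index_mul_card H, Nat.cast_mul, mul_inv, mul_comm (H.index : ℂ)⁻¹,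
        mul_assoc] at hfr
      have h2 := mul_left_cancel₀ (inv_ne_zero natCard_ne_zero) hfr
      rw [inv_mul_eq_iff_eq_mul₀ (Nat.cast_ne_zero.2 Subgroup.index_ne_zero_of_finite)] at h2
      exact h2
    rw [← h1]
    conv_rhs =>
      arg 2
      intro g
      rw [hI]
    simp only [Finset.sum_apply, Pi.smul_apply, smul_eq_mul, Finset.sum_mul]
    rw [Finset.sum_comm]
    refine Finset.sum_congr rfl fun χ _ => ?_
    rw [omega, mul_div_cancel₀ _ (irr_one_ne_zero χ.2), evalChar_eq_sum, Finset.mul_sum]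
    exact Finset.sum_congr rfl fun g _ => by ring
  obtain ⟨χ, hχ⟩ : ∃ χ : Cfsg.IrrCharacter G, ¬ Cfsg.MemLocalIdeal M
      (Cfsg.classInner (Cfsg.indFun H (η : H → ℂ)) (χ : G → ℂ) *
        ((χ : G → ℂ) 1 * omega (χ : G → ℂ) z)) := by
    by_contra hno
    push Not at hno
    have h1 := ideal_sum hM (s := Finset.univ) fun χ _ => hno χ
    rw [hev] at h1
    refine ((ideal_mul_iff hM (ring_natCast hM _) ?_).1 h1).elim
      (fun h => hidx ((ideal_natCast_iff hM _).1 h)) hS
    exact ring_sum hM fun h _ => ring_mul hM (irr_value_ring hM η h) (hzi _)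
  obtain ⟨a, ha⟩ := classInner_char_nat (isCharacter_indFun H (irr_isCharacter η)) (irr_isCharacter χ)
  rw [ha] at hχ
  have hω := omega_ring hM χ hzc hzi
  refine ⟨χ, ?_, ?_, ?_⟩
  · by_contra hne
    apply hχ
    rw [hz, omega_regEl_eq_zero hM (χ := trivIrr G) (ψ := χ) (fun h => hne (mem_of_sameBlock hM (isPBlock_principal M G) (trivIrr_mem_principal hM) h)), mul_zero, mul_zero]
    exact ideal_zero hM
  · intro hd
    apply hχ
    rw [← charDegree_cast χ]
    exact ideal_mul_left hM (ring_natCast hM _)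
      (ideal_mul_right hM ((ideal_natCast_iff hM _).2 hd) hω)
  · have ha0 : a ≠ 0 := fun h => hχ (by rw [h, Nat.cast_zero, zero_mul]; exact ideal_zero hM)
    have hχH : Cfsg.classInner (fun h : H => (χ : G → ℂ) h) (η : H → ℂ) ≠ 0 := by
      rw [classInner_conj_symm (η : H → ℂ), ← frobenius_reciprocity H (η : H → ℂ)
        (irr_isClassFunction χ), ha, Complex.conj_natCast]
      exact Nat.cast_ne_zero.2 ha0
    have hexp : (fun n : N => (χ : G → ℂ) n) = ∑ ψ : Cfsg.IrrCharacter H,
        Cfsg.classInner (fun h : H => (χ : G → ℂ) h) (ψ : H → ℂ) •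
          ((ψ : H → ℂ) ∘ Subgroup.inclusion (le_sup_left : N ≤ H)) := by
      funext n
      have := congrFun (classFun_eq_sum (classFun_restrict H (irr_isClassFunction χ)))
        (Subgroup.inclusion le_sup_left n)
      simpa [Finset.sum_apply] using this
    show Cfsg.classInner (fun n : N => (χ : G → ℂ) n) (θ : N → ℂ) ≠ 0
    rw [hexp, classInner_sum_left]
    simp only [classInner_smul_left]
    choose b hb using fun ψ : Cfsg.IrrCharacter H =>
      classInner_char_nat (isCharacter_restrict H (irr_isCharacter χ)) (irr_isCharacter ψ)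
    choose d hd using fun ψ : Cfsg.IrrCharacter H =>
      classInner_char_nat (isCharacter_comp (Subgroup.inclusion (le_sup_left : N ≤ H))
        (irr_isCharacter ψ)) (irr_isCharacter θ)
    simp only [Function.comp_def] at hd ⊢
    simp only [hb, hd, ← Nat.cast_mul, ← Nat.cast_sum, Nat.cast_ne_zero]
    intro h0
    rcases mul_eq_zero.1 (Finset.sum_eq_zero_iff.1 h0 η (Finset.mem_univ _)) with h | h
    · exact hχH (by rw [hb, h, Nat.cast_zero])
    · have h2 := hd η
      rw [h, Nat.cast_zero, show (fun n : N => (η : H → ℂ) (Subgroup.inclusion le_sup_left n)) =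
        (θ : N → ℂ) from funext hη, classInner_isIrr_self θ.2] at h2
      exact one_ne_zero h2

end Cfsg.Agent.S4583
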