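import Mathlib
import Cfsg.Statements.S4584
import Cfsg.Agent.BlockCharsA.SmallPGroup

set_option autoImplicit false
open Cfsg

namespace Cfsg.Agent.S4584

open Cfsg.Agent.BlockCharsA.SmallPGroup

theorem card_strictMono {G : Type*} [Group G] [Finite G] {H K : Subgroup G} (h : H < K) :
    Nat.card H < Nat.card K := by
  by_contra hh
  push Not at hh
  exact h.ne (Subgroup.eq_of_le_of_card_ge h.le hh)


/-- Let p be a prime and P a group of order p^4. Then the derived subgroup P' has order p if and only if the centre Z(P) has index p^2 in P. -/
theorem result {P : Type*} [Group P] [Finite P] (p : ℕ) [Fact p.Prime] (hP : Nat.card P = p ^ 4) :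
    Nat.card (commutator P) = p ↔ (Subgroup.center P).index = p ^ 2 := by
  have hp := (Fact.out : p.Prime)
  have hpg : IsPGroup p P := IsPGroup.of_card hP
  haveI : Nontrivial P := Finite.one_lt_card_iff_nontrivial.1
    (by rw [hP]; exact Nat.one_lt_pow (by norm_num) hp.one_lt)
  constructor
  · intro h
    have hc : commutator P ≤ Subgroup.center P := le_center_of_card_dvd hpg _ (dvd_of_eq h)
    obtain ⟨i, hi, hZ⟩ := (Nat.dvd_prime_pow hp).1 (hP ▸ (Subgroup.center P).index_dvd_card)
    have hnc : ¬ ∀ a b : P, a * b = b * a := fun hc' => by
      have : commutator P = ⊥ := by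
        rw [commutator_def, eq_bot_iff, Subgroup.commutator_le]
        exact fun a _ b _ => Subgroup.mem_bot.2 (commutatorElement_eq_one_iff_mul_comm.2 (hc' a b))
      rw [this, Subgroup.card_bot] at h
      exact hp.ne_one h.symm
    have hZc : Nat.card (Subgroup.center P) * p ^ i = p ^ 4 := by
      rw [← hZ, (Subgroup.center P).card_mul_index, hP]
    have h2 : 2 ≤ i := by
      by_contra hlt
      apply hnc
      haveI : IsCyclic (P ⧸ Subgroup.center P) := by
        have : Nat.card (P ⧸ Subgroup.center P) ∣ p := by
          rw [← Subgroup.index_eq_card, hZ]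
          calc p ^ i ∣ p ^ 1 := pow_dvd_pow p (by omega)
            _ = p := pow_one p
        exact isCyclic_of_card_dvd_prime this
      intro a b
      exact commutative_of_cyclic_center_quotient (QuotientGroup.mk' (Subgroup.center P))
        (by rw [QuotientGroup.ker_mk']) a b
    have h4 : i ≠ 4 := by
      rintro rfl
      have : Nat.card (Subgroup.center P) = 1 := by
        refine mul_right_cancel₀ (pow_ne_zero 4 hp.ne_zero) (hZc.trans (one_mul _).symm)
      exact (Subgroup.nontrivial_iff_ne_bot _).1 hpg.center_nontrivial (Subgroup.card_eq_one.1 this)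
    have h3 : i ≠ 3 := by
      rintro rfl
      have hZp : Nat.card (Subgroup.center P) = p := by
        refine mul_right_cancel₀ (pow_ne_zero 3 hp.ne_zero) (hZc.trans (by ring))
      -- centralizers of noncentral elements are maximal
      have hC : ∀ x : P, p ^ 3 ≤ Nat.card (Subgroup.centralizer ({x} : Set P)) := fun x => by
        have h5 := (Subgroup.centralizer ({x} : Set P)).card_mul_index
        have h6 := index_centralizer_le x
        rw [h] at h6
        rw [hP] at h5
        by_contra hlt
        push Not at hlt
        have := Nat.mul_lt_mul_of_lt_of_le hlt h6 hp.pos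
        rw [h5, ← pow_succ] at this
        exact lt_irrefl _ this
      obtain ⟨x, hx⟩ : ∃ x, x ∉ Subgroup.center P := by
        by_contra hh
        push Not at hh
        exact hnc fun a b => (Subgroup.mem_center_iff.1 (hh a) b).symm
      set A := Subgroup.centralizer ({x} : Set P)
      have hAne : A ≠ ⊤ := fun e => hx <| by
        rw [Subgroup.mem_center_iff]
        exact fun g => Subgroup.mem_centralizer_singleton_iff.1 (e ▸ Subgroup.mem_top g : g ∈ A)
      obtain ⟨j, hj, hAj⟩ := (Nat.dvd_prime_pow hp).1 (hP ▸ A.card_subgroup_dvd_card)
      have hA3 : Nat.card A = p ^ 3 := by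
        have h7 : 3 ≤ j := (Nat.pow_le_pow_iff_right hp.one_lt).1 (hAj ▸ hC x)
        have : j ≠ 4 := fun e => hAne (Subgroup.card_eq_iff_eq_top A |>.1 (by rw [hAj, e, hP]))
        rw [hAj, show j = 3 by omega]
      have hxA : x ∈ A := Subgroup.mem_centralizer_singleton_iff.2 rfl
      have hAab : ∀ a b : A, a * b = b * a := by
        intro a b
        haveI : IsCyclic (A ⧸ Subgroup.center A) := by
          refine isCyclic_of_card_dvd_prime (p := p) ?_
          let Z2 : Subgroup A := Subgroup.closure (((Subgroup.center P).subgroupOf A : Set A) ∪ {⟨x, hxA⟩})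
          have hle : Z2 ≤ Subgroup.center A := by
            rw [Subgroup.closure_le]
            rintro z (hz | rfl)
            · exact Subgroup.mem_center_iff.2 fun g => Subtype.ext
                (Subgroup.mem_center_iff.1 (Subgroup.mem_subgroupOf.1 hz) g)
            · exact Subgroup.mem_center_iff.2 fun g => Subtype.ext
                (Subgroup.mem_centralizer_singleton_iff.1 g.2)
          have hZA : Subgroup.center P ≤ A := fun z hz =>
            Subgroup.mem_centralizer_singleton_iff.2 (Subgroup.mem_center_iff.1 hz x).symm
          have hlt : (Subgroup.center P).subgroupOf A < Subgroup.center A := by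
            refine lt_of_lt_of_le ?_ hle
            refine lt_of_le_of_ne (fun z hz => Subgroup.subset_closure (Or.inl hz)) fun e => hx ?_
            have : (⟨x, hxA⟩ : A) ∈ (Subgroup.center P).subgroupOf A :=
              e ▸ Subgroup.subset_closure (Or.inr rfl)
            exact Subgroup.mem_subgroupOf.1 this
          have hcZ : Nat.card ((Subgroup.center P).subgroupOf A) = p := by
            rw [Nat.card_congr (Subgroup.subgroupOfEquivOfLe hZA).toEquiv, hZp]
          obtain ⟨k, hk, hZk⟩ := (Nat.dvd_prime_pow hp).1 (hA3 ▸ (Subgroup.center A).card_subgroup_dvd_card)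
          have h8 := card_strictMono hlt
          rw [hcZ, hZk] at h8
          nth_rewrite 1 [← pow_one p] at h8
          have h9 : 1 < k := (Nat.pow_lt_pow_iff_right hp.one_lt).1 h8
          have h10 := (Subgroup.center A).card_mul_index
          rw [hA3, hZk, Subgroup.index_eq_card] at h10
          refine Nat.dvd_of_mul_dvd_mul_left (pow_pos hp.pos k) ?_
          rw [h10, ← pow_succ]
          exact pow_dvd_pow p (by omega)
        exact commutative_of_cyclic_center_quotient (QuotientGroup.mk' (Subgroup.center A))
          (by rw [QuotientGroup.ker_mk']) a b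
      obtain ⟨t, ht⟩ : ∃ t, t ∉ A := by
        by_contra hh
        push Not at hh
        exact hAne ((Subgroup.eq_top_iff' A).2 hh)
      have hle : A ⊓ Subgroup.centralizer ({t} : Set P) ≤ Subgroup.center P := by
        intro a ha
        rw [Subgroup.mem_center_iff]
        have hsub : A ≤ Subgroup.centralizer ({a} : Set P) := fun g hg =>
          Subgroup.mem_centralizer_singleton_iff.2 (congrArg Subtype.val (hAab ⟨g, hg⟩ ⟨a, ha.1⟩))
        have htC : t ∈ Subgroup.centralizer ({a} : Set P) :=
          Subgroup.mem_centralizer_singleton_iff.2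
            (Subgroup.mem_centralizer_singleton_iff.1 ha.2).symm
        have hlt : A < Subgroup.centralizer ({a} : Set P) :=
          lt_of_le_of_ne hsub fun e => ht (e ▸ htC)
        have h8 := card_strictMono hlt
        obtain ⟨k, hk, hCk⟩ := (Nat.dvd_prime_pow hp).1
          (hP ▸ (Subgroup.centralizer ({a} : Set P)).card_subgroup_dvd_card)
        rw [hA3, hCk] at h8
        have h9 : 3 < k := (Nat.pow_lt_pow_iff_right hp.one_lt).1 h8
        have htop := (Subgroup.card_eq_iff_eq_top (Subgroup.centralizer ({a} : Set P))).1
          (by rw [hCk, hP, show k = 4 by omega])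
        exact fun g => Subgroup.mem_centralizer_singleton_iff.1 (htop ▸ Subgroup.mem_top g)
      have h11 := Subgroup.card_le_of_le (hle)
      rw [hZp] at h11
      have hAi : A.index = p := by
        refine Nat.eq_of_mul_eq_mul_left (Nat.card_pos (α := A)) ?_
        rw [A.card_mul_index, hA3, hP]; ring
      have h12 : (Subgroup.centralizer ({t} : Set P)).index ≤ p := h ▸ index_centralizer_le t
      have h13 := Subgroup.index_inf_le (H := A) (K := Subgroup.centralizer ({t} : Set P))
      rw [hAi] at h13
      have h14 := (A ⊓ Subgroup.centralizer ({t} : Set P)).card_mul_index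
      have h15 : (A ⊓ Subgroup.centralizer ({t} : Set P)).index ≤ p * p :=
        h13.trans (Nat.mul_le_mul_left p h12)
      rw [hP] at h14
      have h16 := Nat.mul_le_mul h11 h15
      rw [h14] at h16
      have h17 : p ^ 4 > p * (p * p) := by
        calc p * (p * p) = p ^ 3 := by ring
          _ < p ^ 4 := Nat.pow_lt_pow_right hp.one_lt (by norm_num)
      omega
    rw [hZ, show i = 2 by omega]
  · intro h
    rcases (Nat.dvd_prime hp).1 (card_commutator_dvd_of_index_sq le_rfl h) with h1 | h1
    · exfalso
      have hcomm := Subgroup.card_eq_one.1 h1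
      have : Subgroup.center P = ⊤ := (Subgroup.eq_top_iff' _).2 fun a => Subgroup.mem_center_iff.2
        fun b => commutatorElement_eq_one_iff_mul_comm.1 (Subgroup.mem_bot.1
          (hcomm ▸ Subgroup.commutator_mem_commutator (Subgroup.mem_top b) (Subgroup.mem_top a)))
      rw [this, Subgroup.index_top] at h
      exact absurd h (Nat.one_lt_pow two_ne_zero hp.one_lt).ne
    · exact h1

end Cfsg.Agent.S4584
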