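import Mathlib
import Cfsg.Statements.S4585
import Cfsg.Agent.BlockCharsA.SmallPGroup

set_option autoImplicit false
open Cfsg

namespace Cfsg.Agent.S4585

open Cfsg.Agent.BlockCharsA.SmallPGroup

/-- Let p be a prime and P a group of order p^4. Then P' has index p^2 in P if and only if P has maximal nilpotency class, that is, nilpotency class exactly 3. -/
theorem result {P : Type*} [Group P] [Finite P] (p : ℕ) [Fact p.Prime] (hP : Nat.card P = p ^ 4) :
    (commutator P).index = p ^ 2 ↔ Group.nilpotencyClass P = 3 := by
  have hp := (Fact.out : p.Prime)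
  have hpg : IsPGroup p P := IsPGroup.of_card hP
  haveI := hpg.isNilpotent
  constructor
  · intro h
    have hcard : Nat.card (commutator P) = p ^ 2 := by
      refine mul_right_cancel₀ (pow_ne_zero 2 hp.ne_zero) ?_
      rw [← pow_add, ← hP, ← (commutator P).card_mul_index, h]
    have hnot : ¬ Group.nilpotencyClass P ≤ 2 := by
      rw [class_le_two_iff]
      intro hc
      have := card_commutator_dvd_of_index_sq hc h
      rw [hcard] at this
      nth_rewrite 2 [← pow_one p] at this
      exact absurd ((Nat.pow_dvd_pow_iff_le_right hp.one_lt).1 this) (by norm_num)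
    have h3 : Group.nilpotencyClass P ≤ 3 := by
      rw [← lowerCentralSeries_eq_bot_iff_nilpotencyClass_le, Subgroup.lowerCentralSeries_succ,
        Subgroup.lowerCentralSeries_succ, Subgroup.top_lowerCentralSeries_one]
      haveI : Group.IsNilpotent (⊤ : Subgroup P) := Group.isNilpotent_top.2 inferInstance
      set X := ⁅commutator P, (⊤ : Subgroup P)⁆
      haveI hXn : X.Normal := Subgroup.commutator_normal _ _
      have hlt : X < commutator P := Cfsg.Agent.Coprime.commutator_lt_of_isNilpotent le_top
        (fun e => by
          rw [e, Subgroup.card_bot] at hcard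
          exact (Nat.one_lt_pow two_ne_zero hp.one_lt).ne hcard)
        (by rw [Subgroup.normalizer_eq_top_iff.mpr (inferInstance : (commutator P).Normal)])
      have hd : Nat.card X ∣ p := by
        obtain ⟨i, hi, hXi⟩ := (Nat.dvd_prime_pow hp).1 (hcard ▸ Subgroup.card_dvd_of_le hlt.le)
        have : i ≠ 2 := fun e => hlt.ne (Subgroup.eq_of_le_of_card_ge hlt.le (by rw [hcard, hXi, e]))
        rw [hXi]
        calc p ^ i ∣ p ^ 1 := pow_dvd_pow p (by omega)
          _ = p := pow_one p
      have hc := le_center_of_card_dvd hpg X hd
      rw [Subgroup.commutator_eq_bot_iff_le_centralizer]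
      intro q hq
      rw [Subgroup.mem_centralizer_iff]
      exact fun g _ => Subgroup.mem_center_iff.1 (hc hq) g
    omega
  · intro h
    have hnc : ¬ commutator P ≤ Subgroup.center P := fun hc => by
      have := class_le_two_iff.2 hc
      omega
    have hnd : ¬ Nat.card (commutator P) ∣ p := fun hd => hnc (le_center_of_card_dvd hpg _ hd)
    obtain ⟨i, hi, hXi⟩ := (Nat.dvd_prime_pow hp).1 (hP ▸ (commutator P).index_dvd_card)
    have h4 := (commutator P).card_mul_index
    rw [hP, hXi] at h4
    have hi2 : 2 ≤ i := by
      by_contra hlt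
      apply hnc
      haveI : IsCyclic (P ⧸ commutator P) := by
        refine isCyclic_of_card_dvd_prime (p := p) ?_
        rw [← Subgroup.index_eq_card, hXi]
        calc p ^ i ∣ p ^ 1 := pow_dvd_pow p (by omega)
          _ = p := pow_one p
      obtain ⟨g0, hg⟩ := IsCyclic.exists_generator (α := P ⧸ commutator P)
      induction g0 using QuotientGroup.induction_on with
      | _ g =>
        have hsup : Subgroup.zpowers g ⊔ commutator P = ⊤ := by
          rw [Subgroup.eq_top_iff']
          intro a
          obtain ⟨k, hk⟩ := Subgroup.mem_zpowers_iff.1 (hg (a : P ⧸ commutator P))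
          rw [← QuotientGroup.mk_zpow, QuotientGroup.eq] at hk
          have : a = g ^ k * ((g ^ k)⁻¹ * a) := by group
          rw [this]
          exact Subgroup.mul_mem_sup (Subgroup.zpow_mem_zpowers g k) hk
        have htop : Subgroup.zpowers g = ⊤ := frattini_nongenerating (eq_top_iff.2
          (hsup ▸ sup_le_sup_left (Cfsg.Agent.Coprime.commutator_le_frattini P) _))
        rw [commutator_def, Subgroup.commutator_le]
        intro a _ b _
        obtain ⟨m, rfl⟩ := Subgroup.mem_zpowers_iff.1 (htop ▸ Subgroup.mem_top a)
        obtain ⟨n, rfl⟩ := Subgroup.mem_zpowers_iff.1 (htop ▸ Subgroup.mem_top b)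
        rw [commutatorElement_eq_one_iff_mul_comm.2 (zpow_mul_comm g m n)]
        exact one_mem _
    have : i < 3 := by
      by_contra hge
      refine hnd (Nat.dvd_of_mul_dvd_mul_right (pow_pos hp.pos i) ?_)
      rw [h4, ← pow_succ']
      exact pow_dvd_pow p (by omega)
    rw [hXi, show i = 2 by omega]

end Cfsg.Agent.S4585
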