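import Mathlib
import Cfsg.Statements.S4586

set_option autoImplicit false
open Cfsg

namespace Cfsg.Agent.S4586

open scoped commutatorElement


/-- Let p be a prime, P a finite p-group and N a normal subgroup of P of index p. For x ∈ P write c(x) for the number of elements n of N whose commutator x n x⁻¹ n⁻¹ lies in the derived subgroup N' (so c(x)/#N' is the order of the centralizer of x acting on N/N'). Then [P : P'] = p² if and only if c(x) = p·#N' for every x ∈ P outside N, and also if and only if c(x) = p·#N' for some x ∈ P outside N. -/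
theorem result {P : Type*} [Group P] [Finite P] (p : ℕ) [Fact p.Prime] (hP : IsPGroup p P) (N : Subgroup P) [N.Normal] (hN : N.index = p) :
    ((commutator P).index = p ^ 2 ↔ ∀ x : P, x ∉ N →
        Nat.card {n : N // x * n * x⁻¹ * (n : P)⁻¹ ∈ (commutator N).map N.subtype} = p * Nat.card (commutator N)) ∧
    ((commutator P).index = p ^ 2 ↔ ∃ x : P, x ∉ N ∧
        Nat.card {n : N // x * n * x⁻¹ * (n : P)⁻¹ ∈ (commutator N).map N.subtype} = p * Nat.card (commutator N)) := by
  have hp := (Fact.out : p.Prime)
  set K := (commutator N).map N.subtype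
  haveI hK : K.Normal := by simp only [K]; infer_instance
  have hKle : K ≤ commutator P := by
    simp only [K]
    rw [Subgroup.map_subtype_commutator]
    exact Subgroup.commutator_mono le_top le_top
  have hKc : Nat.card K = Nat.card (commutator N) :=
    Nat.card_congr (Subgroup.equivMapOfInjective _ _ N.subtype_injective).symm.toEquiv
  -- the key count
  have key : ∀ x : P, x ∉ N →
      ((commutator P).index = p ^ 2 ↔
        Nat.card {n : N // x * n * x⁻¹ * (n : P)⁻¹ ∈ K} = p * Nat.card (commutator N)) := by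
    intro x hx
    set f := QuotientGroup.mk' K
    have hNab : ∀ a b : N, f a * f b = f b * f a := by
      intro a b
      rw [← commutatorElement_eq_one_iff_mul_comm, ← map_commutatorElement,
        QuotientGroup.mk'_apply, QuotientGroup.eq_one_iff]
      exact ⟨⁅a, b⁆, Subgroup.commutator_mem_commutator (Subgroup.mem_top _) (Subgroup.mem_top _),
        by simp [map_commutatorElement]⟩
    have hconj : ∀ n : N, x * (n : P) * x⁻¹ ∈ N := fun n => (inferInstance : N.Normal).conj_mem _ n.2 x
    let ψ : N →* P ⧸ K := MonoidHom.mk' (fun n => f (x * n * x⁻¹) * (f (n : P))⁻¹) (by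
      intro a b
      have e : x * ((a * b : N) : P) * x⁻¹ = (x * a * x⁻¹) * (x * b * x⁻¹) := by
        simp [mul_assoc]
      rw [e, Subgroup.coe_mul, map_mul f (x * a * x⁻¹), map_mul f (a : P), mul_inv_rev]
      have c1 : ∀ u v : N, f u * (f (v : P))⁻¹ = (f (v : P))⁻¹ * f u := fun u v => by
        have h2 := hNab u v⁻¹
        rw [Subgroup.coe_inv, map_inv] at h2
        exact h2
      have c2 : ∀ u v : N, (f (u : P))⁻¹ * (f (v : P))⁻¹ = (f (v : P))⁻¹ * (f (u : P))⁻¹ := fun u v => by
        rw [← mul_inv_rev, ← mul_inv_rev, hNab v u]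
      have c1' : f (x * b * x⁻¹) * (f (a : P))⁻¹ = (f (a : P))⁻¹ * f (x * b * x⁻¹) :=
        c1 ⟨_, hconj b⟩ a
      calc f (x * a * x⁻¹) * f (x * b * x⁻¹) * ((f (b : P))⁻¹ * (f (a : P))⁻¹)
          = f (x * a * x⁻¹) * (f (x * b * x⁻¹) * (f (a : P))⁻¹) * (f (b : P))⁻¹ := by
            rw [c2 b a]; simp [mul_assoc]
        _ = f (x * a * x⁻¹) * ((f (a : P))⁻¹ * f (x * b * x⁻¹)) * (f (b : P))⁻¹ := by rw [c1']
        _ = _ := by simp [mul_assoc])
    have hψ : ∀ n : N, ψ n = f (x * n * x⁻¹ * (n : P)⁻¹) := fun n => by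
      simp [ψ, mul_assoc]
    have hker : {n : N // x * n * x⁻¹ * (n : P)⁻¹ ∈ K} ≃ ψ.ker :=
      Equiv.subtypeEquivRight fun n => by
        rw [MonoidHom.mem_ker, hψ, QuotientGroup.mk'_apply, QuotientGroup.eq_one_iff]
    set R := ψ.range.comap f
    have hRle : R ≤ commutator P := by
      rintro r ⟨n, hn⟩
      rw [hψ, QuotientGroup.mk'_apply, QuotientGroup.mk'_apply, QuotientGroup.eq] at hn
      have h1 : x * n * x⁻¹ * (n : P)⁻¹ ∈ commutator P :=
        Subgroup.commutator_mem_commutator (Subgroup.mem_top x) (Subgroup.mem_top (n : P))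
      have := Subgroup.mul_mem _ h1 (hKle hn)
      rwa [mul_inv_cancel_left] at this
    have hKR : K ≤ R := fun k hk => ⟨1, by
      rw [map_one]; exact ((QuotientGroup.eq_one_iff k).2 hk).symm⟩
    have hRN : R ≤ N := by
      rintro r ⟨n, hn⟩
      rw [hψ, QuotientGroup.mk'_apply, QuotientGroup.mk'_apply, QuotientGroup.eq] at hn
      have h1 : x * n * x⁻¹ * (n : P)⁻¹ ∈ N := N.mul_mem (hconj n) (N.inv_mem n.2)
      have := Subgroup.mul_mem _ h1 (Subgroup.map_subtype_le _ hn)
      rwa [mul_inv_cancel_left] at this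
    -- `N` and `x` generate
    have hgen : N ⊔ Subgroup.zpowers x = ⊤ := by
      have hd := Subgroup.index_dvd_of_le (le_sup_left : N ≤ N ⊔ Subgroup.zpowers x)
      rw [hN] at hd
      rcases (Nat.dvd_prime hp).1 hd with h1 | h1
      · exact Subgroup.index_eq_one.1 h1
      · exfalso
        apply hx
        have : N = N ⊔ Subgroup.zpowers x := Subgroup.eq_of_le_of_card_ge le_sup_left
          (le_of_eq (mul_right_cancel₀ (Subgroup.index_ne_zero_of_finite (H := N))
            (by conv_lhs => rw [hN, ← h1, Subgroup.card_mul_index]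
                rw [N.card_mul_index])))
        rw [this]; exact Subgroup.mem_sup_right (Subgroup.mem_zpowers x)
    have hnorm : ∀ u : P, (∀ r ∈ R, u * r * u⁻¹ ∈ R) → u ∈ Subgroup.normalizer (R : Set P) := by
      intro u hu
      rw [Subgroup.mem_normalizer_iff]
      intro r
      refine ⟨hu r, fun hr => ?_⟩
      let φ : R → R := fun r => ⟨u * r * u⁻¹, hu r r.2⟩
      have hinj : Function.Injective φ := fun a b h =>
        Subtype.ext (mul_left_cancel (mul_right_cancel (congrArg Subtype.val h)))
      obtain ⟨⟨r', hr'⟩, he⟩ := Finite.injective_iff_surjective.1 hinj ⟨_, hr⟩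
      have := mul_left_cancel (mul_right_cancel (congrArg Subtype.val he))
      exact this ▸ hr'
    have hRn : R.Normal := by
      rw [← Subgroup.normalizer_eq_top_iff, eq_top_iff, ← hgen, sup_le_iff, Subgroup.zpowers_le]
      refine ⟨fun u hu => hnorm u fun r hr => ?_, hnorm x fun r hr => ?_⟩
      · obtain ⟨n, hn⟩ := hr
        refine ⟨n, ?_⟩
        rw [map_mul, map_mul, map_inv]
        have := hNab ⟨u, hu⟩ ⟨r, hRN ⟨n, hn⟩⟩
        simp only at this
        rw [this, mul_inv_cancel_right, hn]
      · obtain ⟨n, hn⟩ := hr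
        refine ⟨⟨_, hconj n⟩, ?_⟩
        rw [map_mul, map_mul, map_inv, ← hn, hψ, hψ]
        simp only [map_mul, map_inv]
        group
    have hcomm : commutator P ≤ R := by
      set g := QuotientGroup.mk' R
      have hS : Subgroup.closure (g '' ((N : Set P) ∪ {x})) = ⊤ := by
        rw [← MonoidHom.map_closure, Subgroup.closure_union, Subgroup.closure_eq,
          ← Subgroup.zpowers_eq_closure, hgen]
        exact Subgroup.map_top_of_surjective g (QuotientGroup.mk'_surjective R)
      have hxn : ∀ n ∈ N, g x * g n = g n * g x := fun n hn => by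
        rw [← commutatorElement_eq_one_iff_mul_comm, ← map_commutatorElement,
          QuotientGroup.mk'_apply, QuotientGroup.eq_one_iff]
        exact ⟨⟨n, hn⟩, hψ _⟩
      have hnn : ∀ a ∈ N, ∀ b ∈ N, g a * g b = g b * g a := fun a ha b hb => by
        rw [← commutatorElement_eq_one_iff_mul_comm, ← map_commutatorElement,
          QuotientGroup.mk'_apply, QuotientGroup.eq_one_iff]
        exact hKR ⟨⁅(⟨a, ha⟩ : N), ⟨b, hb⟩⁆, Subgroup.commutator_mem_commutator (Subgroup.mem_top _)
          (Subgroup.mem_top _), by simp [map_commutatorElement]⟩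
      have hc : Subgroup.closure (g '' ((N : Set P) ∪ {x})) ≤
          Subgroup.centralizer (Subgroup.closure (g '' ((N : Set P) ∪ {x})) : Set (P ⧸ R)) := by
        rw [Subgroup.centralizer_closure, Subgroup.closure_le]
        rintro _ ⟨a, ha, rfl⟩
        rw [SetLike.mem_coe, Subgroup.mem_centralizer_iff]
        rintro _ ⟨b, hb, rfl⟩
        rcases ha with ha | rfl <;> rcases hb with hb | rfl
        exacts [hnn b hb a ha, hxn a ha, (hxn b hb).symm, rfl]
      rw [hS] at hc
      rw [commutator_def, Subgroup.commutator_le]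
      intro a _ b _
      rw [← QuotientGroup.eq_one_iff]
      change g ⁅a, b⁆ = 1
      rw [map_commutatorElement, commutatorElement_eq_one_iff_mul_comm]
      exact Subgroup.mem_centralizer_iff.1 (hc (Subgroup.mem_top (g b))) _ (Subgroup.mem_top (g a))
    have hReq : R = commutator P := le_antisymm hRle hcomm
    -- counting
    have h1 : Nat.card ψ.range * Nat.card K = Nat.card (commutator P) := by
      rw [← hReq]
      have h2 : R.map f = ψ.range :=
        Subgroup.map_comap_eq_self_of_surjective (QuotientGroup.mk'_surjective K) _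
      have h3 := Subgroup.relIndex_ker (K := R) f
      rw [QuotientGroup.ker_mk', h2] at h3
      have h4 := Subgroup.card_mul_index (K.subgroupOf R)
      rw [Nat.card_congr (Subgroup.subgroupOfEquivOfLe hKR).toEquiv] at h4
      change Nat.card K * K.relIndex R = _ at h4
      rw [h3] at h4
      rw [mul_comm, h4]
    have h5 : Nat.card ψ.ker * Nat.card ψ.range = Nat.card N := by
      rw [← Subgroup.index_ker, ψ.ker.card_mul_index]
    rw [Nat.card_congr hker]
    have h6 := (commutator P).card_mul_index
    have h7 := N.card_mul_index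
    rw [hN] at h7
    have hr0 : Nat.card ψ.range ≠ 0 := Nat.card_pos.ne'
    have hK0 : Nat.card K ≠ 0 := Nat.card_pos.ne'
    constructor
    · intro he
      refine mul_right_cancel₀ hr0 ?_
      rw [h5, ← hKc]
      refine mul_right_cancel₀ hp.ne_zero ?_
      rw [h7, ← h6, he, ← h1]; ring
    · intro he
      refine mul_left_cancel₀ (Nat.card_pos (α := commutator P)).ne' ?_
      rw [h6, ← h7, ← h5, he, ← hKc, ← h1]; ring
  obtain ⟨x₀, hx₀⟩ : ∃ x, x ∉ N := by
    by_contra h
    push Not at h
    rw [(Subgroup.eq_top_iff' N).2 h, Subgroup.index_top] at hN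
    exact hp.ne_one hN.symm
  exact ⟨⟨fun h x hx => (key x hx).1 h, fun h => (key x₀ hx₀).2 (h x₀ hx₀)⟩,
    ⟨fun h => ⟨x₀, hx₀, (key x₀ hx₀).1 h⟩, fun ⟨x, hx, h⟩ => (key x hx).2 h⟩⟩

end Cfsg.Agent.S4586
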