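import Cfsg.Statements.S4587
import Mathlib
import Cfsg.Agent.BlocksChars.SmallCentralizer.Normal
-- import your own Cfsg.Agent.* helpers here

set_option autoImplicit false
open Cfsg

namespace Cfsg.Agent.S4587

open Cfsg.Agent.BlocksChars.SmallCentralizer

theorem relIndex_eq {H : Type*} [Group H] (P : Subgroup H) :
    ⁅P, P⁆.relIndex P = (commutator P).index := by
  rw [← Subgroup.map_subtype_commutator, Subgroup.relIndex, Subgroup.subgroupOf,
    Subgroup.comap_map_eq_self_of_injective P.subtype_injective]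

variable {H : Type*} [Group H] [Finite H] {p : ℕ} [Fact p.Prime]

theorem index_commutator_eq (P Q : Sylow p H) :
    (commutator (P : Subgroup H)).index = (commutator (Q : Subgroup H)).index := by
  have h : (commutator (P : Subgroup H)).map (P.equiv Q).toMonoidHom = commutator (Q : Subgroup H) := by
    rw [_root_.commutator, Subgroup.map_commutator,
      Subgroup.map_top_of_surjective _ (P.equiv Q).surjective]
    rfl
  rw [← h]
  exact (Subgroup.index_map_equiv _ (P.equiv Q)).symm

theorem comm_transfer (P Q : Sylow p H) (h : ∀ a b : (Q : Subgroup H), a * b = b * a) :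
    ∀ a b : (P : Subgroup H), a * b = b * a := fun a b =>
  (P.equiv Q).injective (by rw [map_mul, map_mul, h])

/-- Any element of `C(x)` of `p`-power order sits in a Sylow of the centralizer and one of `H`. -/
theorem exists_pair (x : H) (hx : ∃ k, orderOf x = p ^ k) :
    ∃ (R : Sylow p (Subgroup.centralizer ({x} : Set H))) (Q : Sylow p H) (hxQ : x ∈ (Q : Subgroup H)),
      Nat.card (Subgroup.centralizer ({(⟨x, hxQ⟩ : (Q : Subgroup H))} : Set (Q : Subgroup H))) =
        Nat.card R := by
  set C := Subgroup.centralizer ({x} : Set H) with hC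
  have hxC : x ∈ C := Subgroup.mem_centralizer_singleton_iff.2 rfl
  obtain ⟨k, hk⟩ := hx
  have hp : IsPGroup p (Subgroup.zpowers (⟨x, hxC⟩ : C)) :=
    IsPGroup.of_card (n := k) (by rw [Nat.card_zpowers, ← Subgroup.orderOf_coe]; exact hk)
  obtain ⟨R, hR⟩ := hp.exists_le_sylow
  obtain ⟨Q, hQ⟩ := (R.2.map C.subtype).exists_le_sylow
  have hxQ : x ∈ (Q : Subgroup H) := hQ ⟨⟨x, hxC⟩, hR (Subgroup.mem_zpowers _), rfl⟩
  refine ⟨R, Q, hxQ, ?_⟩
  set K := Subgroup.centralizer ({(⟨x, hxQ⟩ : (Q : Subgroup H))} : Set (Q : Subgroup H)) with hK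
  have hKC : ∀ y : K, ((y : (Q : Subgroup H)) : H) ∈ C := fun y =>
    Subgroup.mem_centralizer_singleton_iff.2
      (congrArg Subtype.val (Subgroup.mem_centralizer_singleton_iff.1 y.2) :)
  let f : K →* C :=
    { toFun := fun y => ⟨_, hKC y⟩
      map_one' := rfl
      map_mul' := fun _ _ => rfl }
  have hf : Function.Injective f := fun a b e =>
    Subtype.ext (Subtype.ext (congrArg Subtype.val e :))
  refine le_antisymm ?_ ?_
  · obtain ⟨R', hR'⟩ := ((Q.2.to_subgroup K).of_surjective f.rangeRestrict
      f.rangeRestrict_surjective).exists_le_sylow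
    rw [Nat.card_congr (MonoidHom.ofInjective hf).toEquiv, R.card_eq_multiplicity,
      ← R'.card_eq_multiplicity]
    exact Subgroup.card_le_of_le hR'
  · refine Nat.card_le_card_of_injective
      (fun r : R => (⟨⟨((r : C) : H), hQ ⟨r, r.2, rfl⟩⟩, ?_⟩ : K)) ?_
    · exact Subgroup.mem_centralizer_singleton_iff.2
        (Subtype.ext (Subgroup.mem_centralizer_singleton_iff.1 (r : C).2))
    · exact fun a b e => Subtype.ext (Subtype.ext
        (congrArg (fun w : K => ((w : (Q : Subgroup H)) : H)) e))

/-- Let G be a finite group, p a prime and P a Sylow p-subgroup of order at least p². Assume that G has no nontrivial normal subgroup of order prime to p, that the derived subgroup P' of P contains no nontrivial normal subgroup of G, and that G is not almost simple (there is no non-abelian simple normal subgroup of G with trivial centralizer). Then [P : P'] = p² if and only if some p-element x of G has centralizer whose order has p-part exactly p². -/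
theorem result {G : Type*} [Group G] [Finite G] (p : ℕ) [Fact p.Prime] (P : Sylow p G) (hbig : p ^ 2 ∣ Nat.card G) (hcore : Cfsg.pPrimeCore p G = ⊥)
    (hcore' : (⁅(P : Subgroup G), (P : Subgroup G)⁆).normalCore = ⊥) (hnas : ¬ ∃ S : Subgroup G, S.Normal ∧ IsSimpleGroup S ∧ ¬ IsMulCommutative S ∧ Subgroup.centralizer (S : Set G) = ⊥) :
    (⁅(P : Subgroup G), (P : Subgroup G)⁆).relIndex (P : Subgroup G) = p ^ 2 ↔
      ∃ x : G, (∃ k : ℕ, orderOf x = p ^ k) ∧ (Nat.card (Subgroup.centralizer ({x} : Set G))).factorization p = 2 := by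
  have hp : p.Prime := Fact.out
  rw [relIndex_eq]
  constructor
  · intro hidx
    by_cases hab : ∀ a b : (P : Subgroup G), a * b = b * a
    · refine ⟨1, ⟨0, by rw [orderOf_one, pow_zero]⟩, ?_⟩
      have h0 : commutator (P : Subgroup G) = ⊥ := by
        rw [_root_.commutator, eq_bot_iff, Subgroup.commutator_le]
        intro a _ b _
        rw [Subgroup.mem_bot, commutatorElement_eq_one_iff_mul_comm]
        exact hab a b
      rw [h0, Subgroup.index_bot, P.card_eq_multiplicity] at hidx
      rw [show Subgroup.centralizer ({1} : Set G) = ⊤ from eq_top_iff.2 fun g _ =>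
        Subgroup.mem_centralizer_singleton_iff.2 (by rw [mul_one, one_mul]), Subgroup.card_top]
      exact Nat.pow_right_injective hp.two_le hidx
    obtain ⟨M, hM, hcomm, hMi⟩ := exists_normal_abelian P hcore hcore' hnas hidx hab
    haveI := hM
    obtain ⟨⟨x, hxP⟩, hxM⟩ : ∃ x : (P : Subgroup G), x ∉ M.subgroupOf (P : Subgroup G) := by
      by_contra hall
      push Not at hall
      rw [(eq_top_iff.2 fun g _ => hall g : M.subgroupOf (P : Subgroup G) = ⊤), Subgroup.index_top] at hMi
      exact hp.ne_one hMi.symm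
    have hxord : ∃ k, orderOf x = p ^ k := by
      obtain ⟨k, hk⟩ := (IsPGroup.iff_orderOf.1 P.2) ⟨x, hxP⟩
      exact ⟨k, by rw [← hk, Subgroup.orderOf_mk]⟩
    obtain ⟨R, Q, hxQ, hcard⟩ := exists_pair x hxord
    refine ⟨x, hxord, ?_⟩
    -- the structure at `Q`
    obtain ⟨RP, hRP⟩ := Cfsg.Agent.GroupStructure3.PronormalOvergroup.sylow_inf_normal P M
    obtain ⟨RQ, hRQ⟩ := Cfsg.Agent.GroupStructure3.PronormalOvergroup.sylow_inf_normal Q M
    set A := M.subgroupOf (Q : Subgroup G) with hA
    have hcA : ∀ T : Sylow p G, ∀ S : Sylow p M,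
        (S : Subgroup M).map M.subtype = (T : Subgroup G) ⊓ M →
        Nat.card (M.subgroupOf (T : Subgroup G)) = Nat.card S := by
      intro T S hS
      rw [← Subgroup.card_subtype, Subgroup.subgroupOf_map_subtype, inf_comm, ← hS,
        Subgroup.card_subtype]
    have hAi : A.index = p := by
      have e1 := A.index_mul_card
      have e2 := (M.subgroupOf (P : Subgroup G)).index_mul_card
      rw [hA, hcA Q RQ hRQ, RQ.card_eq_multiplicity, Q.card_eq_multiplicity] at e1
      rw [hMi, hcA P RP hRP, RP.card_eq_multiplicity, P.card_eq_multiplicity, ← e1] at e2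
      exact (Nat.eq_of_mul_eq_mul_right (pow_pos hp.pos _) e2).symm
    have hQidx : (commutator (Q : Subgroup G)).index = p ^ 2 := index_commutator_eq Q P ▸ hidx
    have hAc : ∀ a ∈ A, ∀ b ∈ A, a * b = b * a := by
      intro a ha b hb
      obtain ⟨a', ha', hae⟩ : ((a : G)) ∈ (RQ : Subgroup M).map M.subtype := by
        rw [hRQ]; exact ⟨a.2, ha⟩
      obtain ⟨b', hb', hbe⟩ : ((b : G)) ∈ (RQ : Subgroup M).map M.subtype := by
        rw [hRQ]; exact ⟨b.2, hb⟩
      have h1 : ∀ u v : (RP : Subgroup M), u * v = v * u := fun u v => by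
        have hu : ((u : M) : G) ∈ (P : Subgroup G) ⊓ M := hRP ▸ ⟨u, u.2, rfl⟩
        have hv : ((v : M) : G) ∈ (P : Subgroup G) ⊓ M := hRP ▸ ⟨v, v.2, rfl⟩
        exact Subtype.ext (Subtype.ext (hcomm _ hu _ hv))
      have h2 := comm_transfer RQ RP h1 ⟨a', ha'⟩ ⟨b', hb'⟩
      refine Subtype.ext ?_
      rw [Subgroup.coe_mul, Subgroup.coe_mul, ← hae, ← hbe]
      exact congrArg (fun w : (RQ : Subgroup M) => ((w : M) : G)) h2
    have hAne : A ≠ ⊥ := by
      intro e
      have e1 := A.index_mul_card
      rw [hAi, e, Subgroup.card_bot, mul_one, Q.card_eq_multiplicity] at e1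
      haveI : IsCyclic (P : Subgroup G) :=
        isCyclic_of_prime_card (p := p) (P.card_eq_multiplicity.trans e1.symm)
      exact hab fun a b => (IsCyclic.commGroup (α := (P : Subgroup G))).mul_comm a b
    have hfin := card_centralizer_eq (X := (Q : Subgroup G)) Q.2 hQidx A hAc hAi hAne
      (x := ⟨x, hxQ⟩) hxM
    rw [hfin, R.card_eq_multiplicity] at hcard
    exact (Nat.pow_right_injective hp.two_le hcard).symm
  · rintro ⟨x, hx, hcx⟩
    obtain ⟨R, Q, hxQ, hcard⟩ := exists_pair x hx
    rw [R.card_eq_multiplicity, hcx] at hcard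
    rw [index_commutator_eq P Q]
    refine le_antisymm (index_commutator_le_of_centralizer _ hcard.le) (le_index_commutator Q.2 ?_)
    rw [Q.card_eq_multiplicity]
    refine pow_dvd_pow p ?_
    exact (hp.pow_dvd_iff_le_factorization Nat.card_pos.ne').1 hbig

end Cfsg.Agent.S4587
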