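import Cfsg.Statements.S4588
import Cfsg.Agent.S4916
import Cfsg.Agent.BlockCharsA.SmallCent.Main

set_option autoImplicit false
set_option linter.style.haveILetI false
open Cfsg

namespace Cfsg.Agent.S4588

open Cfsg.Agent.BlockCharsA.SmallCent Cfsg.Agent.Characters

/-- Let G be a finite group, p a prime and M a maximal ideal of the algebraic integers containing p. If some p-element x of G (possibly x = 1) has centralizer whose order has p-part at most p², then the principal p-block of G contains at most p² irreducible characters of degree prime to p. -/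
theorem result {G : Type*} [Group G] [Finite G] (p : ℕ) [Fact p.Prime] (M : Ideal Cfsg.AlgInt) (hM : Cfsg.IsPModular p M)
    (hx : ∃ x : G, (∃ k : ℕ, orderOf x = p ^ k) ∧ (Nat.card (Subgroup.centralizer ({x} : Set G))).factorization p ≤ 2) :
    Nat.card {χ : Cfsg.IrrCharacter G // χ ∈ Cfsg.principalBlock M G ∧ ¬ p ∣ Cfsg.charDegree (χ : G → ℂ)} ≤ p ^ 2 := by
  classical
  have hp : p.Prime := Fact.out
  haveI := Fintype.ofFinite G
  obtain ⟨x, ⟨k, hk⟩, hd⟩ := hx
  by_cases hx1 : x = 1
  · subst hx1
    by_cases hdvd : p ∣ Nat.card G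
    · obtain ⟨P⟩ : Nonempty (Sylow p G) := inferInstance
      haveI : Nontrivial (P : Subgroup G) := by
        rw [← Finite.one_lt_card_iff_nontrivial]
        exact lt_of_lt_of_le hp.one_lt (Nat.le_of_dvd Nat.card_pos (P.dvd_card_of_dvd_card hdvd))
      haveI := P.2.center_nontrivial
      obtain ⟨j, hj, hjc⟩ := (P.2.to_subgroup (Subgroup.center (P : Subgroup G))).nontrivial_iff_card.1
        inferInstance
      obtain ⟨z, hz⟩ := exists_prime_orderOf_dvd_card' p (hjc.symm ▸ dvd_pow_self p hj.ne' :
        p ∣ Nat.card (Subgroup.center (P : Subgroup G)))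
      have hzo : orderOf (((z : (P : Subgroup G))) : G) = p := by
        rw [Subgroup.orderOf_coe, Subgroup.orderOf_coe, hz]
      refine card_le_of_ne_one hM (k := 1) (by rw [pow_one, hzo]) (fun h => ?_) ?_
      · rw [h, orderOf_one] at hzo
        exact hp.ne_one hzo.symm
      · refine le_trans ((Nat.factorization_le_iff_dvd Nat.card_pos.ne' Nat.card_pos.ne').2
          (Subgroup.card_subgroup_dvd_card _) p) (le_trans (le_of_eq ?_) hd)
        rw [show Subgroup.centralizer ({1} : Set G) = ⊤ from eq_top_iff.2 fun g _ =>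
          Subgroup.mem_centralizer_singleton_iff.2 (by simp), Subgroup.card_top]
    · have h1 := (Cfsg.Agent.S4916.result p M hM).2 hdvd
      calc Nat.card {χ : Cfsg.IrrCharacter G //
            χ ∈ Cfsg.principalBlock M G ∧ ¬ p ∣ Cfsg.charDegree (χ : G → ℂ)}
          ≤ Nat.card Unit := Nat.card_le_card_of_injective (fun _ => ()) fun a b _ =>
            Subtype.ext (Subtype.ext ((h1 _ a.2.1 a.2.2).trans (h1 _ b.2.1 b.2.2).symm))
        _ ≤ p ^ 2 := by rw [Nat.card_unique]; exact Nat.one_le_pow _ _ hp.pos
  · exact card_le_of_ne_one hM hk hx1 hd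

end Cfsg.Agent.S4588
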