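import Cfsg.Statements.S4593
import Cfsg.Agent.Lib.ZStar.CentralWeaklyClosed
import Cfsg.Agent.Lib.Cores.Basic

set_option autoImplicit false
open Cfsg

namespace Cfsg.Agent.S4593

/-- Let G be a finite group with trivial centre and no nontrivial normal subgroup of odd order, whose Sylow 2-subgroups are abelian, and let P be a Sylow 2-subgroup. Every automorphism of G of 2-power order that fixes P elementwise is inner. -/
theorem result {G : Type*} [Group G] [Finite G] (hZ : Subgroup.center G = ⊥) (hcore : Cfsg.pPrimeCore 2 G = ⊥) (P : Sylow 2 G) (hab : IsMulCommutative (P : Subgroup G))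
    (α : MulAut G) (h2 : ∃ j : ℕ, orderOf α = 2 ^ j) (hfix : ∀ x ∈ (P : Subgroup G), α x = x) :
    ∃ g : G, ∀ x : G, α x = g * x * g⁻¹ := by
  classical
  obtain ⟨j, hj⟩ := h2
  haveI : Fact (Nat.Prime 2) := ⟨Nat.prime_two⟩
  let φ : Subgroup.zpowers α →* MulAut G := (Subgroup.zpowers α).subtype
  let Γ := G ⋊[φ] Subgroup.zpowers α
  haveI : Finite Γ := Finite.of_equiv _ SemidirectProduct.equivProd.symm
  have hA : ∀ b : Subgroup.zpowers α, ∀ x ∈ (P : Subgroup G), φ b x = x := by
    intro b x hx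
    have h1 : Subgroup.zpowers α ≤ MulAction.stabilizer (MulAut G) x :=
      Subgroup.zpowers_le.mpr (hfix x hx)
    exact h1 b.2
  have hAcard : Nat.card (Subgroup.zpowers α) = 2 ^ j := by rw [Nat.card_zpowers, hj]
  -- the Sylow subgroup
  let S₀ : Subgroup Γ :=
    { carrier := {γ | γ.left ∈ (P : Subgroup G)}
      one_mem' := one_mem (P : Subgroup G)
      mul_mem' := fun {a b} ha hb => by
        show (a * b).left ∈ (P : Subgroup G)
        rw [SemidirectProduct.mul_left, hA _ _ hb]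
        exact mul_mem ha hb
      inv_mem' := fun {a} ha => by
        show (a⁻¹).left ∈ (P : Subgroup G)
        rw [SemidirectProduct.inv_left, hA _ _ (inv_mem ha)]
        exact inv_mem ha }
  have hS₀card : Nat.card S₀ = Nat.card (P : Subgroup G) * 2 ^ j := by
    rw [← hAcard, ← Nat.card_prod]
    exact Nat.card_congr
      { toFun := fun γ => (⟨γ.1.left, γ.2⟩, γ.1.right)
        invFun := fun x => ⟨⟨x.1, x.2⟩, x.1.2⟩
        left_inv := fun _ => rfl
        right_inv := fun _ => rfl }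
  obtain ⟨i, hi⟩ := P.isPGroup'.exists_card_eq
  have hS₀p : IsPGroup 2 S₀ := IsPGroup.of_card (n := i + j) (by rw [hS₀card, hi, pow_add])
  have hS₀idx : ¬ 2 ∣ S₀.index := by
    have h1 := S₀.card_mul_index
    rw [Nat.card_congr (SemidirectProduct.equivProd (φ := φ)), Nat.card_prod, hAcard, hS₀card,
      ← (P : Subgroup G).card_mul_index] at h1
    have h2 : S₀.index = (P : Subgroup G).index := by
      refine Nat.eq_of_mul_eq_mul_left (show 0 < Nat.card (P : Subgroup G) * 2 ^ j from
        Nat.mul_pos Nat.card_pos (pow_pos (by norm_num) j)) ?_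
      rw [h1]; ring
    rw [h2]
    exact P.not_dvd_index
  let S : Sylow 2 Γ := hS₀p.toSylow hS₀idx
  haveI hSab : IsMulCommutative (S : Subgroup Γ) := ⟨⟨fun a b => by
    obtain ⟨a, ha⟩ := a
    obtain ⟨b, hb⟩ := b
    refine Subtype.ext (SemidirectProduct.ext ?_ ?_)
    · show (a * b).left = (b * a).left
      rw [SemidirectProduct.mul_left, SemidirectProduct.mul_left, hA _ _ hb, hA _ _ ha]
      exact congrArg Subtype.val (hab.is_comm.comm (⟨a.left, ha⟩ : (P : Subgroup G)) ⟨b.left, hb⟩)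
    · show (a * b).right = (b * a).right
      rw [SemidirectProduct.mul_right, SemidirectProduct.mul_right]
      exact mul_comm' _ _⟩⟩
  -- the odd core is trivial
  have hO : Cfsg.oddCore Γ = ⊥ := by
    have hodd : Odd (Nat.card (Cfsg.oddCore Γ)) :=
      Nat.coprime_two_right.1 (Cores.pPrimeCore_card_coprime 2)
    have hle : Cfsg.oddCore Γ ≤ (SemidirectProduct.rightHom : Γ →* Subgroup.zpowers α).ker := by
      intro x hx
      rw [MonoidHom.mem_ker, ← orderOf_eq_one_iff]
      refine Nat.eq_one_of_dvd_coprimes ((Nat.coprime_two_right.2 hodd).pow_right j)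
        ((orderOf_map_dvd _ x).trans (Subgroup.orderOf_dvd_natCard _ hx)) ?_
      rw [← hAcard]; exact orderOf_dvd_natCard _
    set N := (Cfsg.oddCore Γ).comap (SemidirectProduct.inl : G →* Γ) with hN
    haveI : N.Normal := Subgroup.Normal.comap inferInstance _
    have hmap : N.map (SemidirectProduct.inl : G →* Γ) = Cfsg.oddCore Γ := by
      refine Subgroup.map_comap_eq_self ?_
      rwa [SemidirectProduct.range_inl_eq_ker_rightHom]
    have hN1 : Odd (Nat.card N) := by
      rw [← Subgroup.card_map_of_injective (f := (SemidirectProduct.inl : G →* Γ)) (K := N)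
        SemidirectProduct.inl_injective, hmap]
      exact hodd
    have h1 : N = ⊥ := le_bot_iff.1 (hcore ▸ (Cores.le_oddCore hN1 : N ≤ Cfsg.oddCore G))
    rw [← hmap, h1, Subgroup.map_bot]
  -- an element of `S` over `α` fixed by the normalizer
  let a₀ : Γ := SemidirectProduct.inr ⟨α, Subgroup.mem_zpowers α⟩
  have ha₀ : a₀ ∈ (S : Subgroup Γ) := one_mem (P : Subgroup G)
  have cl : ∀ a b : Γ, a * (a⁻¹ * b) = b := fun a b => mul_inv_cancel_left a b
  have cr : ∀ a b : Γ, a⁻¹ * (a * b) = b := fun a b => inv_mul_cancel_left a b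
  let N := Subgroup.normalizer ((S : Subgroup Γ) : Set Γ)
  have hNmem : ∀ n ∈ N, ∀ s ∈ (S : Subgroup Γ), n * s * n⁻¹ ∈ (S : Subgroup Γ) :=
    fun n hn s hs => (Subgroup.mem_normalizer_iff.1 hn s).1 hs
  let C := (Subgroup.centralizer ((S : Subgroup Γ) : Set Γ)).subgroupOf N
  have hCodd : Odd (Nat.card (N ⧸ C)) := by
    rw [← Subgroup.index_eq_card, ← Nat.not_even_iff_odd, even_iff_two_dvd]
    intro h
    refine S.not_dvd_index (((h.trans ?_ : 2 ∣ (S : Subgroup Γ).relIndex N)).trans (Subgroup.relIndex_dvd_index_of_le ?_))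
    · exact Subgroup.relIndex_dvd_of_le_left (K := Subgroup.centralizer ((S : Subgroup Γ) : Set Γ)) N
        (S : Subgroup Γ).le_centralizer
    · exact (Subgroup.le_normalizer : (S : Subgroup Γ) ≤ N)
  let f : N ⧸ C → (S : Subgroup Γ) := Quotient.lift
    (fun n : N => (⟨(n : Γ) * a₀ * (n : Γ)⁻¹, hNmem n n.2 a₀ ha₀⟩ : (S : Subgroup Γ)))
    fun a b hab' => Subtype.ext (by
      replace hab' : (a : N)⁻¹ * b ∈ C := QuotientGroup.leftRel_apply.1 hab'
      have h1 : a₀ * ((a : Γ)⁻¹ * b) = ((a : Γ)⁻¹ * b) * a₀ :=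
        Subgroup.mem_centralizer_iff.1 hab' a₀ ha₀
      show (a : Γ) * a₀ * (a : Γ)⁻¹ = (b : Γ) * a₀ * (b : Γ)⁻¹
      calc (a : Γ) * a₀ * (a : Γ)⁻¹ = (a : Γ) * (a₀ * ((a : Γ)⁻¹ * b)) * (b : Γ)⁻¹ := by
            simp only [mul_assoc, mul_inv_cancel, mul_one]
        _ = _ := by rw [h1]; simp only [mul_assoc, cl])
  letI : CommGroup (S : Subgroup Γ) :=
    { (inferInstance : Group (S : Subgroup Γ)) with mul_comm := fun a b => hSab.is_comm.comm a b }
  haveI := Fintype.ofFinite (N ⧸ C)
  obtain ⟨m, hm⟩ : ∃ m : ℕ, Fintype.card (N ⧸ C) * m ≡ 1 [MOD 2 ^ j] := by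
    rw [← Nat.card_eq_fintype_card]
    rcases j.eq_zero_or_pos with rfl | hj0
    · exact ⟨1, Nat.modEq_one⟩
    · obtain ⟨m, -, hm⟩ := Nat.exists_mul_mod_eq_one_of_coprime
        ((Nat.coprime_two_right.2 hCodd).pow_right j) (Nat.one_lt_two_pow hj0.ne')
      exact ⟨m, by rw [Nat.ModEq, hm, Nat.one_mod_eq_one.2 (Nat.one_lt_two_pow hj0.ne').ne']⟩
  set w : (S : Subgroup Γ) := (∏ q : N ⧸ C, f q) ^ m with hw
  have hfix' : ∀ n ∈ N, n * (w : Γ) * n⁻¹ = (w : Γ) := by
    intro n hn
    let c : (S : Subgroup Γ) →* (S : Subgroup Γ) :=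
      MonoidHom.mk' (fun s => ⟨n * (s : Γ) * n⁻¹, hNmem n hn s s.2⟩) fun a b => Subtype.ext (by
        show n * ((a : Γ) * b) * n⁻¹ = n * a * n⁻¹ * (n * b * n⁻¹)
        simp only [mul_assoc, cr])
    have h1 : c w = w := by
      rw [hw, map_pow, map_prod]
      congr 1
      refine Fintype.prod_bijective (fun q => (⟨n, hn⟩ : N) • q)
        (MulAction.bijective (⟨n, hn⟩ : N)) _ _ fun q => ?_
      induction q using Quotient.inductionOn with
      | _ b =>
        refine Subtype.ext ?_
        show n * ((b : Γ) * a₀ * (b : Γ)⁻¹) * n⁻¹ = (n * b) * a₀ * (n * (b : Γ))⁻¹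
        simp only [mul_assoc, mul_inv_rev]
    exact congrArg Subtype.val h1
  have hwr : (w : Γ).right = ⟨α, Subgroup.mem_zpowers α⟩ := by
    let r : (S : Subgroup Γ) →* Subgroup.zpowers α :=
      SemidirectProduct.rightHom.comp (S : Subgroup Γ).subtype
    letI : CommGroup (Subgroup.zpowers α) := IsCyclic.commGroup
    have h1 : ∀ q : N ⧸ C, r (f q) = ⟨α, Subgroup.mem_zpowers α⟩ := by
      intro q
      induction q using Quotient.inductionOn with
      | _ b =>
        show SemidirectProduct.rightHom ((b : Γ) * a₀ * (b : Γ)⁻¹) = _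
        rw [map_mul, map_mul, map_inv, mul_comm, inv_mul_cancel_left]
        rfl
    show r w = _
    rw [hw, map_pow, map_prod, Finset.prod_congr rfl (fun q _ => h1 q), Finset.prod_const,
      Finset.card_univ, ← pow_mul]
    refine Subtype.ext ?_
    rw [Subgroup.coe_pow]
    conv_rhs => rw [← pow_one α]
    rw [pow_eq_pow_iff_modEq, hj]
    exact hm
  have hcen : (w : Γ) ∈ Subgroup.center Γ := by
    refine ZStar.CentralWeaklyClosed.mem_center hO S w w.2
      (fun s hs => congrArg Subtype.val (hSab.is_comm.comm w ⟨s, hs⟩)) fun v hv g hg => ?_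
    have hvS : v ∈ (S : Subgroup Γ) := Subgroup.zpowers_le.2 w.2 hv
    obtain ⟨n, hn, he⟩ := S.conj_eq_normalizer_conj_of_mem v g⁻¹ hvS (by rwa [inv_inv])
    rw [inv_inv] at he
    obtain ⟨k, rfl⟩ := Subgroup.mem_zpowers_iff.1 hv
    have h3 : n⁻¹ * (w : Γ) * n = w := by
      have := hfix' n⁻¹ (inv_mem hn)
      rwa [inv_inv] at this
    have h4 : Commute n (w : Γ) := by
      show n * (w : Γ) = w * n
      conv_lhs => rw [← h3]
      simp only [mul_assoc, cl]
    rw [he, mul_assoc, ← (h4.zpow_right k).eq, inv_mul_cancel_left]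
    exact Subgroup.mem_zpowers _
  refine ⟨(w : Γ).left⁻¹, fun x => ?_⟩
  have h := congrArg SemidirectProduct.left
    (Subgroup.mem_center_iff.1 hcen (SemidirectProduct.inl x : Γ))
  rw [SemidirectProduct.mul_left, SemidirectProduct.mul_left, SemidirectProduct.left_inl,
    SemidirectProduct.right_inl, map_one, MulAut.one_apply, hwr] at h
  change x * (w : Γ).left = (w : Γ).left * α x at h
  rw [inv_inv, mul_assoc, h, inv_mul_cancel_left]

end Cfsg.Agent.S4593
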