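import Cfsg.Statements.S4601
import Mathlib
import Cfsg.Agent.BlocksChars.Palfy.Split
import Cfsg.Agent.Lib.Coprime.Action
import Cfsg.Agent.Lib.PLocal.PSolvable
import Cfsg.Agent.Lib.Hall.MinimalNormal
-- import your own Cfsg.Agent.* helpers here

set_option autoImplicit false
open Cfsg

namespace Cfsg.Agent.S4601

open Subgroup Cfsg.Agent.BlocksChars.Palfy Cfsg.Agent.Coprime
open scoped Pointwise

theorem relIndex_dvd_index {G : Type*} [Group G] [Finite G] (C N : Subgroup G) [N.Normal] :
    C.relIndex N ∣ C.index := by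
  have h1 : (C ⊓ N).index = C.relIndex N * N.index := by
    rw [← relIndex_mul_index (inf_le_right : C ⊓ N ≤ N), inf_relIndex_right]
  have h2 : (C ⊓ N).index = N.relIndex C * C.index := by
    rw [← relIndex_mul_index (inf_le_left : C ⊓ N ≤ C), inf_relIndex_left]
  obtain ⟨m, hm⟩ := relIndex_dvd_index_of_normal N C
  refine ⟨m, Nat.eq_of_mul_eq_mul_left
    (Nat.pos_of_ne_zero (Subgroup.index_ne_zero_of_finite (H := N.subgroupOf C))) ?_⟩
  show N.relIndex C * C.index = N.relIndex C * (C.relIndex N * m)
  rw [← h2, h1, hm]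
  ring

/-- A Sylow subgroup of a subgroup of index prime to `p`, seen in the group. -/
theorem sylow_of_subgroup {G : Type*} [Group G] [Finite G] {p : ℕ} [Fact p.Prime] {L : Subgroup G}
    (hL : ¬ p ∣ L.index) (S : Sylow p L) : ∃ P : Sylow p G, (P : Subgroup G) = (S : Subgroup L).map L.subtype := by
  obtain ⟨P, hP⟩ := (S.2.map L.subtype).exists_le_sylow
  refine ⟨P, (Subgroup.eq_of_le_of_card_ge hP ?_).symm⟩
  rw [card_map_of_injective L.subtype_injective, P.card_eq_multiplicity, S.card_eq_multiplicity,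
    ← L.index_mul_card, Nat.factorization_mul Subgroup.index_ne_zero_of_finite Nat.card_pos.ne',
    Finsupp.add_apply, Nat.factorization_eq_zero_of_not_dvd hL, zero_add]

theorem conj_sylow {G : Type*} [Group G] [Finite G] {p : ℕ} [Fact p.Prime] {N : Subgroup G}
    (S S' : Sylow p N) :
    ∃ k ∈ N, MulAut.conj k • (S : Subgroup N).map N.subtype = (S' : Subgroup N).map N.subtype := by
  obtain ⟨k, rfl⟩ := MulAction.exists_smul_eq N S S'
  refine ⟨k, k.2, ?_⟩
  rw [Sylow.coe_subgroup_smul, conj_smul_eq_map, conj_smul_eq_map, map_map, map_map]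
  rfl

theorem main : ∀ (n : ℕ) (G : Type*) [Group G] [Finite G], Nat.card G = n → ∀ (p q : ℕ)
    [Fact p.Prime] [Fact q.Prime], p ≠ q → (Cfsg.IsPSolvable p G ∨ Cfsg.IsPSolvable q G) →
    (∀ y : G, (∃ k : ℕ, orderOf y = q ^ k) → ¬ p ∣ (Subgroup.centralizer ({y} : Set G)).index) →
    ∃ (P : Sylow p G) (Q : Sylow q G),
      (P : Subgroup G) ≤ Subgroup.normalizer ((Q : Subgroup G) : Set G) := by
  intro n
  induction n using Nat.strong_induction_on with
  | _ n ih =>
  intro G _ _ hn p q hp hq hpq hsolv h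
  rcases subsingleton_or_nontrivial G with hG | hG
  · obtain ⟨P⟩ : Nonempty (Sylow p G) := inferInstance
    obtain ⟨Q⟩ : Nonempty (Sylow q G) := inferInstance
    exact ⟨P, Q, fun x _ => Subsingleton.elim (1 : G) x ▸ one_mem _⟩
  obtain ⟨N, hNn, -, hN, hmin⟩ := Hall.exists_minimal_normal (⊤ : Subgroup G) top_ne_bot
  haveI := hNn
  -- the quotient
  have hlt : Nat.card (G ⧸ N) < n := by
    have h1 := Subgroup.card_eq_card_quotient_mul_card_subgroup N
    have h2 := (Subgroup.one_lt_card_iff_ne_bot N).2 hN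
    rw [← hn, h1]
    exact lt_mul_of_one_lt_right Nat.card_pos h2
  obtain ⟨P', Q', hPQ'⟩ := ih _ hlt (G ⧸ N) rfl p q hpq
    (hsolv.imp (fun hh => PLocal.PSolvable.quotient hh N) fun hh => PLocal.PSolvable.quotient hh N)
    (fun z hz => by
      obtain ⟨k, hk⟩ := hz
      obtain ⟨g, rfl⟩ := QuotientGroup.mk'_surjective N z
      obtain ⟨S, hS⟩ : ∃ S : Sylow q G, zpowers (QuotientGroup.mk' N g) ≤
          (S : Subgroup G).map (QuotientGroup.mk' N) := by
        have hpg : IsPGroup q (zpowers (QuotientGroup.mk' N g)) :=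
          IsPGroup.of_card (n := k) (by rw [Nat.card_zpowers, hk])
        obtain ⟨T, hT⟩ := hpg.exists_le_sylow
        obtain ⟨S, rfl⟩ := Sylow.mapSurjective_surjective (QuotientGroup.mk'_surjective N) q T
        exact ⟨S, hT⟩
      obtain ⟨y, hy, hyg⟩ := hS (mem_zpowers _)
      have hyq : ∃ k : ℕ, orderOf y = q ^ k := by
        obtain ⟨j, hj⟩ := IsPGroup.iff_orderOf.1 S.2 ⟨y, hy⟩
        exact ⟨j, by rw [← hj, Subgroup.orderOf_mk]⟩
      refine fun hd => h y hyq (hd.trans ?_)
      refine (index_dvd_of_le ?_).trans (index_map_dvd _ (QuotientGroup.mk'_surjective N))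
      rintro _ ⟨c, hc, rfl⟩
      rw [mem_centralizer_singleton_iff, ← hyg, ← map_mul, ← map_mul,
        (mem_centralizer_singleton_iff.1 hc)])
  obtain ⟨P, rfl⟩ := Sylow.mapSurjective_surjective (QuotientGroup.mk'_surjective N) p P'
  obtain ⟨Q, rfl⟩ := Sylow.mapSurjective_surjective (QuotientGroup.mk'_surjective N) q Q'
  set K := (Q : Subgroup G) ⊔ N with hKdef
  have hPK : (P : Subgroup G) ≤ normalizer (K : Set G) := by
    intro a ha
    have h1 := hPQ' ⟨a, ha, rfl⟩
    rw [Sylow.coe_mapSurjective] at h1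
    rw [mem_normalizer_iff]
    intro x
    have hK : K = ((Q : Subgroup G).map (QuotientGroup.mk' N)).comap (QuotientGroup.mk' N) := by
      rw [comap_map_eq, QuotientGroup.ker_mk']
    rw [hK, mem_comap, mem_comap, map_mul, map_mul, map_inv]
    exact mem_normalizer_iff.1 h1 _
  by_cases hpN : p ∣ Nat.card N
  swap
  · -- `p ∤ |N|`: Frattini
    set M := normalizer (K : Set G) with hM
    have hKM : K ≤ M := le_normalizer
    haveI : (K.subgroupOf M).Normal := normal_in_normalizer
    have hQK : (Q : Subgroup G) ≤ K := le_sup_left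
    have hQM : (Q : Subgroup G) ≤ M := hQK.trans hKM
    let QM : Sylow q M := Q.subtype hQM
    have hfr := Sylow.normalizer_sup_eq_top' QM (N := K.subgroupOf M) (fun x hx => hQK hx)
    set Hn : Subgroup M := normalizer ((QM : Subgroup M) : Set M) with hHn
    have hidx : ¬ p ∣ Hn.index := by
      have h1 : Hn.index = Hn.relIndex (K.subgroupOf M) := by
        have e1 := relIndex_mul_index (inf_le_right : Hn ⊓ K.subgroupOf M ≤ K.subgroupOf M)
        have e2 := relIndex_mul_index (inf_le_left : Hn ⊓ K.subgroupOf M ≤ Hn)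
        rw [inf_relIndex_right] at e1
        have e3 : (K.subgroupOf M).relIndex Hn = (K.subgroupOf M).index := by
          have hfr' : Hn ⊔ K.subgroupOf M = ⊤ := hfr
          rw [← relIndex_sup_right (H := Hn) (K := K.subgroupOf M), hfr', relIndex_top_right]
        rw [inf_relIndex_left, e3, ← e1, mul_comm (Hn.relIndex _)] at e2
        exact Nat.eq_of_mul_eq_mul_left (Nat.pos_of_ne_zero Subgroup.index_ne_zero_of_finite) e2
      rw [h1]
      intro hd
      have h2 : p ∣ Nat.card K := by
        rw [← Nat.card_congr (subgroupOfEquivOfLe hKM).toEquiv]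
        exact hd.trans (index_dvd_card _)
      have h3 : Nat.card K ∣ Nat.card (Q : Subgroup G) * Nat.card N := by
        have e4 := relIndex_mul_relIndex (⊥ : Subgroup G) N K bot_le le_sup_right
        rw [relIndex_bot_left, relIndex_bot_left, hKdef, relIndex_sup_right] at e4
        rw [← hKdef] at e4
        rw [← e4, mul_comm]
        exact Nat.mul_dvd_mul_right (index_dvd_card (N.subgroupOf (Q : Subgroup G))) _
      rcases (Fact.out : p.Prime).dvd_mul.1 (h2.trans h3) with h4 | h4
      · obtain ⟨j, hj⟩ := Q.2.exists_card_eq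
        rw [hj] at h4
        exact hpq ((Nat.prime_dvd_prime_iff_eq Fact.out Fact.out).1
          ((Fact.out : p.Prime).dvd_of_dvd_pow h4))
      · exact hpN h4
    have hMi : ¬ p ∣ M.index := fun hd => P.not_dvd_index (hd.trans (index_dvd_of_le hPK))
    have hNQ : ¬ p ∣ (normalizer ((Q : Subgroup G) : Set G)).index := by
      refine fun hd => ?_
      have hle : Hn.map M.subtype ≤ normalizer ((Q : Subgroup G) : Set G) := by
        rintro _ ⟨a, ha, rfl⟩
        rw [mem_normalizer_iff]
        intro x
        constructor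
        · intro hx
          exact (mem_normalizer_iff.1 ha ⟨x, hQM hx⟩).1 hx
        · intro hx
          have hxM : x ∈ M := by
            have := M.mul_mem (M.mul_mem (M.inv_mem a.2) (hQM hx)) a.2
            simpa [mul_assoc] using this
          exact (mem_normalizer_iff.1 ha ⟨x, hxM⟩).2 hx
      have h5 := hd.trans (index_dvd_of_le hle)
      rw [index_map_subtype] at h5
      exact ((Fact.out : p.Prime).dvd_mul.1 h5).elim hidx hMi
    obtain ⟨P1, hP1⟩ := exists_sylow_le _ hNQ
    exact ⟨P1, Q, hP1⟩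
  -- `p ∣ |N|`
  have hqN : ¬ q ∣ Nat.card N := by
    intro hqd
    have hcore : ∀ r : ℕ, ∀ [Fact r.Prime], Cfsg.IsPSolvable r G → IsPGroup r N ∨ ¬ r ∣ Nat.card N := by
      intro r _ hr
      haveI : Nontrivial N := (nontrivial_iff_ne_bot N).2 hN
      rcases PLocal.PSolvable.exists_core_ne_bot (PLocal.PSolvable.subgroup hr N) with h0 | h0
      · left
        haveI : (Cfsg.pCore r N).Characteristic := Cores.pCore_characteristic r
        rcases hmin ((Cfsg.pCore r N).map N.subtype) inferInstance (map_subtype_le _) with h1 | h1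
        · exact absurd ((map_eq_bot_iff_of_injective _ N.subtype_injective).1 h1) h0
        · rw [← h1]
          exact PLocal.Cores.isPGroup_pCore.map _
      · right
        haveI : (Cfsg.pPrimeCore r N).Characteristic := Cores.pPrimeCore_characteristic r
        rcases hmin ((Cfsg.pPrimeCore r N).map N.subtype) inferInstance (map_subtype_le _) with h1 | h1
        · exact absurd ((map_eq_bot_iff_of_injective _ N.subtype_injective).1 h1) h0
        · rw [← h1, card_map_of_injective N.subtype_injective]
          exact PLocal.Cores.not_dvd_card_pPrimeCore (Fact.out : r.Prime).ne_one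
    have hnot : ∀ r s : ℕ, r.Prime → s.Prime → r ≠ s → s ∣ Nat.card N → ∀ _ : IsPGroup r N,
        ∀ [Fact r.Prime], False := by
      intro r s hr hs hrs hd hg _
      obtain ⟨j, hj⟩ := hg.exists_card_eq
      rw [hj] at hd
      exact hrs ((Nat.prime_dvd_prime_iff_eq hs hr).1 (hs.dvd_of_dvd_pow hd)).symm
    rcases hsolv with hs | hs
    · rcases hcore p hs with h1 | h1
      · exact hnot p q Fact.out Fact.out hpq hqd h1
      · exact h1 hpN
    · rcases hcore q hs with h1 | h1
      · exact hnot q p Fact.out Fact.out (Ne.symm hpq) hpN h1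
      · exact h1 hqd
  have hcopN : ∀ A : Subgroup G, IsPGroup q A → (Nat.card A).Coprime (Nat.card N) := by
    intro A hA
    obtain ⟨j, hj⟩ := hA.exists_card_eq
    rw [hj]
    exact Nat.Coprime.pow_left j ((Fact.out : q.Prime).coprime_iff_not_dvd.2 hqN)
  have hleN : ∀ A : Subgroup G, A ≤ normalizer (N : Set G) := fun A =>
    (normalizer_eq_top_iff.2 hNn).symm ▸ le_top
  have hsolA : ∀ A : Subgroup G, IsPGroup q A → Group.IsSolvable A ∨ Group.IsSolvable N :=
    fun A hA => Or.inl (isSolvable_of_isPGroup hA)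
  -- a `q`-element normalizing a Sylow subgroup of `N` centralizes it
  have hcent : ∀ (S : Sylow p N) (y : G), (∃ k : ℕ, orderOf y = q ^ k) →
      y ∈ normalizer (((S : Subgroup N).map N.subtype : Subgroup G) : Set G) →
      ∀ x ∈ (S : Subgroup N).map N.subtype, x * y = y * x := by
    intro S y hyq hyS
    obtain ⟨k, hk⟩ := hyq
    set C := centralizer ({y} : Set G) with hC
    obtain ⟨S1, hS1⟩ := exists_sylow_le (p := p) (C.subgroupOf N)
      (fun hd => h y ⟨k, hk⟩ (hd.trans (relIndex_dvd_index C N)))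
    have hA : IsPGroup q (zpowers y) := IsPGroup.of_card (n := k) (by rw [Nat.card_zpowers, hk])
    have h1 : zpowers y ≤ normalizer (((S1 : Subgroup N).map N.subtype : Subgroup G) : Set G) := by
      rw [zpowers_le, mem_normalizer_iff]
      intro x
      constructor
      · rintro ⟨z, hz, rfl⟩
        have := mem_centralizer_singleton_iff.1 (hS1 hz)
        exact ⟨z, hz, by rw [← this, mul_inv_cancel_right]⟩
      · rintro ⟨z, hz, hzx⟩
        have := mem_centralizer_singleton_iff.1 (hS1 hz)
        refine ⟨z, hz, ?_⟩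
        simp only [Subgroup.coe_subtype] at hzx this ⊢
        have h9 : x = y⁻¹ * (z : G) * y := by rw [hzx]; group
        rw [h9, mul_assoc, this, inv_mul_cancel_left]
    obtain ⟨n0, hn0, heq⟩ := conj_sylow S1 S
    obtain ⟨c, hc, hceq⟩ := exists_centralizer_conj_eq (hleN _) (hcopN _ hA)
      (hsolA _ hA) h1 (zpowers_le.2 hyS) hn0 heq
    intro x hx
    rw [← hceq, mem_conj_smul] at hx
    obtain ⟨z, hz, hzx⟩ := hx
    have hyz := mem_centralizer_singleton_iff.1 (hS1 hz)
    have hyc := mem_centralizer_iff.1 hc.2 y (mem_zpowers y)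
    simp only [Subgroup.coe_subtype] at hzx hyz
    have h9 : x = c * (z : G) * c⁻¹ := by rw [hzx]; group
    have hyc' : y * c⁻¹ = c⁻¹ * y := by
      rw [eq_inv_mul_iff_mul_eq, ← mul_assoc, ← hyc, mul_inv_cancel_right]
    rw [h9]
    calc c * (z : G) * c⁻¹ * y = c * ((z : G) * y) * c⁻¹ := by rw [mul_assoc _ c⁻¹ y, ← hyc']; group
      _ = (c * y) * (z : G) * c⁻¹ := by rw [hyz]; group
      _ = y * (c * (z : G) * c⁻¹) := by rw [← hyc]; group
  -- an invariant Sylow subgroup of `N`
  obtain ⟨S⟩ : Nonempty (Sylow p N) := inferInstance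
  obtain ⟨k0, hk0, hQS⟩ := exists_conj_invariant (hleN _) (hcopN _ Q.2)
    (hsolA _ Q.2) (H := (S : Subgroup N).map N.subtype) fun a _ => by
      have htop := Sylow.normalizer_sup_eq_top S
      have ha : a ∈ N ⊔ normalizer (((S : Subgroup N).map N.subtype : Subgroup G) : Set G) := by
        rw [sup_comm, htop]; trivial
      rw [← SetLike.mem_coe, normal_mul] at ha
      obtain ⟨k, hk, m, hm, rfl⟩ := ha
      refine ⟨k, hk, ?_⟩
      dsimp only
      rw [conj_smul_mul, conj_smul_eq_self_iff.2 hm]
  obtain ⟨S0, hS0⟩ : ∃ S0 : Sylow p N, (S0 : Subgroup N).map N.subtype =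
      MulAut.conj k0 • (S : Subgroup N).map N.subtype :=
    ⟨(⟨k0, hk0⟩ : N) • S, by
      rw [Sylow.coe_subgroup_smul, conj_smul_eq_map, conj_smul_eq_map, map_map, map_map]; rfl⟩
  rw [← hS0] at hQS
  set W := (S0 : Subgroup N).map N.subtype with hW
  set L := normalizer (W : Set G) with hL
  have hLi : ¬ p ∣ L.index := by
    have hfr : L ⊔ N = ⊤ := Sylow.normalizer_sup_eq_top S0
    have e1 := relIndex_mul_index (inf_le_right : L ⊓ N ≤ N)
    have e2 := relIndex_mul_index (inf_le_left : L ⊓ N ≤ L)
    rw [inf_relIndex_right] at e1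
    have e3 : N.relIndex L = N.index := by
      rw [← relIndex_sup_right (H := L) (K := N), hfr, relIndex_top_right]
    rw [inf_relIndex_left, e3, ← e1, mul_comm (L.relIndex _)] at e2
    rw [Nat.eq_of_mul_eq_mul_left (Nat.pos_of_ne_zero Subgroup.index_ne_zero_of_finite) e2]
    refine fun hd => S0.not_dvd_index (hd.trans (index_dvd_of_le ?_))
    intro x hx
    exact le_normalizer ⟨x, hx, rfl⟩
  have hyS : ∀ y : G, (∃ k : ℕ, orderOf y = q ^ k) → y ∈ L → ∀ x ∈ W, x * y = y * x :=
    fun y hy hyL => hcent S0 y hy hyL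
  by_cases hLtop : L = ⊤
  · -- the Sylow subgroup of `N` is normal, hence `N` itself
    have hWn : W.Normal := normalizer_eq_top_iff.1 hLtop
    have hWN : W = N := (hmin W hWn (map_subtype_le _)).resolve_left fun hbot => by
      have h1 := (map_eq_bot_iff_of_injective _ N.subtype_injective).1 hbot
      have h2 := S0.card_eq_multiplicity
      rw [h1, card_bot, eq_comm, Nat.pow_eq_one] at h2
      exact h2.elim (Fact.out : p.Prime).ne_one
        ((Fact.out : p.Prime).factorization_pos_of_dvd Nat.card_pos.ne' hpN).ne'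
    refine ⟨P, Q, fun a ha => mem_normalizer_iff.2 fun x => ?_⟩
    have key : ∀ b ∈ normalizer (K : Set G), ∀ z ∈ (Q : Subgroup G), b * z * b⁻¹ ∈ (Q : Subgroup G) := by
      intro b hb z hz
      obtain ⟨j, hj⟩ := IsPGroup.iff_orderOf.1 Q.2 ⟨z, hz⟩
      rw [Subgroup.orderOf_mk] at hj
      have hw : b * z * b⁻¹ ∈ K := (mem_normalizer_iff.1 hb z).1 (le_sup_left (b := N) hz)
      rw [hKdef, ← SetLike.mem_coe, mul_normal] at hw
      obtain ⟨u, hu, v, hv, huv⟩ := hw
      obtain ⟨i, hi⟩ := IsPGroup.iff_orderOf.1 Q.2 ⟨u, hu⟩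
      rw [Subgroup.orderOf_mk] at hi
      have hcomm : Commute u v := (hyS u ⟨i, hi⟩ (hLtop ▸ mem_top u) v (hWN.symm ▸ hv)).symm
      have hv1 : v = 1 := by
        have e1 : (b * z * b⁻¹) ^ q ^ (j + i) = 1 := by
          rw [conj_pow, pow_add, pow_mul, ← hj, pow_orderOf_eq_one, one_pow, mul_one, mul_inv_cancel]
        have e2 : u ^ q ^ (j + i) = 1 := by
          rw [pow_add, mul_comm, pow_mul, ← hi, pow_orderOf_eq_one, one_pow]
        simp only at huv
        rw [← huv, hcomm.mul_pow, e2, one_mul] at e1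
        rw [← orderOf_eq_one_iff]
        refine Nat.eq_one_of_dvd_coprimes ?_ (orderOf_dvd_of_pow_eq_one e1)
          (Subgroup.orderOf_dvd_natCard N hv)
        exact Nat.Coprime.pow_left _ ((Fact.out : q.Prime).coprime_iff_not_dvd.2 hqN)
      simp only at huv
      rw [← huv, hv1, mul_one]
      exact hu
    constructor
    · exact key a (hPK ha) x
    · intro hx
      have := key a⁻¹ (inv_mem (hPK ha)) _ hx
      simpa [mul_assoc] using this
  · -- induction
    have hQL : (Q : Subgroup G) ≤ L := hQS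
    have hLq : ¬ q ∣ L.index := fun hd => Q.not_dvd_index (hd.trans (index_dvd_of_le hQL))
    have hlt' : Nat.card L < n := hn ▸ lt_of_le_of_ne L.card_le_card_group fun e =>
      hLtop (eq_top_of_card_eq L e)
    obtain ⟨PL, QL, hPQ⟩ := ih _ hlt' L rfl p q hpq
      (hsolv.imp (fun hh => PLocal.PSolvable.subgroup hh L) fun hh => PLocal.PSolvable.subgroup hh L)
      (fun y hy => by
        obtain ⟨k, hk⟩ := hy
        have hyq : ∃ k : ℕ, orderOf (y : G) = q ^ k := ⟨k, by rw [Subgroup.orderOf_coe, hk]⟩
        set C := centralizer ({(y : G)} : Set G) with hC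
        have hWC : W ≤ C := fun x hx => mem_centralizer_singleton_iff.2 (hyS y hyq y.2 x hx)
        have hWp : IsPGroup p W := S0.2.map _
        obtain ⟨P2, hP2⟩ := (hWp.comap_of_injective C.subtype C.subtype_injective).exists_le_sylow
        obtain ⟨P3, hP3⟩ := sylow_of_subgroup (h (y : G) hyq) P2
        have hWP3 : W ≤ (P3 : Subgroup G) := fun x hx =>
          hP3 ▸ ⟨⟨x, hWC hx⟩, hP2 hx, rfl⟩
        have hPN : (P3 : Subgroup G).subgroupOf N = S0 := by
          refine S0.is_maximal' (P3.2.comap_of_injective N.subtype N.subtype_injective) ?_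
          intro x hx
          exact hWP3 ⟨x, hx, rfl⟩
        have hP3L : (P3 : Subgroup G) ≤ L := by
          have hWeq : W = (P3 : Subgroup G) ⊓ N := by
            rw [hW, ← hPN, subgroupOf_map_subtype]
          intro a ha
          rw [hL, hWeq, mem_normalizer_iff]
          intro x
          constructor
          · rintro ⟨hx1, hx2⟩
            exact ⟨(P3 : Subgroup G).mul_mem ((P3 : Subgroup G).mul_mem ha hx1)
              ((P3 : Subgroup G).inv_mem ha), hNn.conj_mem x hx2 a⟩
          · rintro ⟨hx1, hx2⟩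
            refine ⟨?_, ?_⟩
            · have := (P3 : Subgroup G).mul_mem ((P3 : Subgroup G).mul_mem ((P3 : Subgroup G).inv_mem ha) hx1) ha
              simp [mul_assoc] at this
              exact this
            · have := hNn.conj_mem _ hx2 a⁻¹
              simpa [mul_assoc] using this
        have hle : (P3 : Subgroup G).subgroupOf L ≤ centralizer ({y} : Set L) := by
          intro a ha
          have : (a : G) ∈ C := by
            have hm : (a : G) ∈ (P3 : Subgroup G) := ha
            rw [hP3] at hm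
            obtain ⟨c, -, hc⟩ := hm
            exact hc ▸ c.2
          exact mem_centralizer_singleton_iff.2 (Subtype.ext (mem_centralizer_singleton_iff.1 this))
        intro hd
        exact (P3.subtype hP3L).not_dvd_index (hd.trans (index_dvd_of_le hle)))
    obtain ⟨P1, hP1⟩ := sylow_of_subgroup hLi PL
    obtain ⟨Q1, hQ1⟩ := sylow_of_subgroup hLq QL
    refine ⟨P1, Q1, ?_⟩
    rw [hP1, hQ1]
    exact (map_mono hPQ).trans (le_normalizer_map _)

/-- Let p and q be primes and G a finite group that is p-solvable or q-solvable, in which no q-element has conjugacy class size divisible by p. Then some Sylow p-subgroup of G normalizes some Sylow q-subgroup of G. -/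
theorem result {G : Type*} [Group G] [Finite G] (p q : ℕ) [Fact p.Prime] [Fact q.Prime] (hsolv : Cfsg.IsPSolvable p G ∨ Cfsg.IsPSolvable q G)
    (h : ∀ y : G, (∃ k : ℕ, orderOf y = q ^ k) → ¬ p ∣ (Subgroup.centralizer ({y} : Set G)).index) :
    ∃ (P : Sylow p G) (Q : Sylow q G), (P : Subgroup G) ≤ Subgroup.normalizer ((Q : Subgroup G) : Set G) := by
  by_cases hpq : p = q
  · subst hpq
    obtain ⟨P⟩ : Nonempty (Sylow p G) := inferInstance
    exact ⟨P, P, Subgroup.le_normalizer⟩
  · exact main (Nat.card G) G rfl p q hpq hsolv h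

end Cfsg.Agent.S4601
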