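import Cfsg.Statements.S4602
import Cfsg.Agent.Lib.PLocal.PSolvable
import Cfsg.Agent.Lib.Coprime.Sylow
import Cfsg.Agent.Lib.Cores.Basic

set_option autoImplicit false
open Cfsg

namespace Cfsg.Agent.S4602

/-- Let G be a finite p-solvable group and q a prime different from p. Some Sylow p-subgroup of G normalizes some Sylow q-subgroup of G if and only if q does not divide the order of G/O_{p'}(G), the quotient by the largest normal subgroup of order prime to p. -/
theorem result {G : Type*} [Group G] [Finite G] (p q : ℕ) [Fact p.Prime] [Fact q.Prime] (hpq : p ≠ q) (hsolv : Cfsg.IsPSolvable p G) :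
    (∃ (P : Sylow p G) (Q : Sylow q G), (P : Subgroup G) ≤ Subgroup.normalizer ((Q : Subgroup G) : Set G)) ↔ ¬ q ∣ (Cfsg.pPrimeCore p G).index := by
  set O := Cfsg.pPrimeCore p G
  haveI : O.Normal := Cfsg.Agent.Cores.pPrimeCore_normal p
  have hp := (Fact.out : p.Prime)
  have hq := (Fact.out : q.Prime)
  constructor
  · rintro ⟨P, Q, hPQ⟩ hdvd
    let π := QuotientGroup.mk' O
    have hπ : Function.Surjective π := QuotientGroup.mk'_surjective O
    set R := Cfsg.pCore p (G ⧸ O)
    have hRP : R ≤ (P : Subgroup G).map π :=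
      Cfsg.Agent.Cores.pCore_le_sylow (P.mapSurjective hπ)
    have hRp : IsPGroup p R := Cfsg.Agent.Cores.pCore_isPGroup p
    have hQp : IsPGroup q ((Q : Subgroup G).map π) := Q.isPGroup'.map π
    have hdisj : Disjoint R ((Q : Subgroup G).map π) :=
      IsPGroup.disjoint_of_ne p q hpq _ _ hRp hQp
    have hCR : Subgroup.centralizer (R : Set (G ⧸ O)) ≤ R :=
      Cfsg.Agent.PLocal.PSolvable.centralizer_pCore_le
        (Cfsg.Agent.Cores.pPrimeCore_quotient_self p)
        (Cfsg.Agent.PLocal.PSolvable.subgroup (Cfsg.Agent.PLocal.PSolvable.quotient hsolv O) _)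
    have hQO : (Q : Subgroup G) ≤ O := by
      intro y hy
      rw [← QuotientGroup.eq_one_iff]
      have hyQ : π y ∈ (Q : Subgroup G).map π := ⟨y, hy, rfl⟩
      refine Subgroup.mem_bot.1 (hdisj.le_bot ⟨hCR ?_, hyQ⟩)
      rw [Subgroup.mem_centralizer_iff]
      intro r hr
      obtain ⟨u, hu, rfl⟩ := hRP hr
      have h1 : π u * π y * (π u)⁻¹ * (π y)⁻¹ ∈ R := by
        rw [mul_assoc (π u * π y), mul_assoc (π u), ← mul_assoc (π y)]
        exact R.mul_mem hr ((inferInstance : R.Normal).conj_mem _ (R.inv_mem hr) _)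
      have h2 : π u * π y * (π u)⁻¹ * (π y)⁻¹ ∈ (Q : Subgroup G).map π := by
        refine Subgroup.mul_mem _ ?_ (Subgroup.inv_mem _ hyQ)
        rw [← map_mul, ← map_inv, ← map_mul]
        exact ⟨_, (Subgroup.mem_normalizer_iff.1 (hPQ hu) y).1 hy, rfl⟩
      have h3 := Subgroup.mem_bot.1 (hdisj.le_bot ⟨h1, h2⟩)
      rwa [mul_inv_eq_one, mul_inv_eq_iff_eq_mul] at h3
    exact Q.not_dvd_index (hdvd.trans (Subgroup.index_dvd_of_le hQO))
  · intro hnd
    obtain ⟨P⟩ : Nonempty (Sylow p G) := inferInstance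
    have hcop : (Nat.card P).Coprime (Nat.card O) := by
      obtain ⟨n, hn⟩ := P.isPGroup'.exists_card_eq
      rw [show Nat.card P = p ^ n from hn]
      exact Nat.Coprime.pow_left n (Cfsg.Agent.Cores.pPrimeCore_card_coprime p).symm
    haveI : Group.IsNilpotent P := P.isPGroup'.isNilpotent
    obtain ⟨Q, hQ⟩ := Cfsg.Agent.Coprime.exists_invariant_sylow q (A := (P : Subgroup G)) (K := O)
      (by rw [Subgroup.normalizer_eq_top]; exact le_top) hcop (Or.inl inferInstance)
    set Qg := (Q : Subgroup O).map O.subtype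
    have hidx : ¬ q ∣ Qg.index := by
      rw [← Subgroup.relIndex_mul_index (Subgroup.map_subtype_le (Q : Subgroup O)), Subgroup.relIndex,
        Subgroup.subgroupOf, Subgroup.comap_map_eq_self_of_injective O.subtype_injective]
      exact fun h => (hq.dvd_mul.1 h).elim Q.not_dvd_index hnd
    exact ⟨P, (Q.isPGroup'.map O.subtype).toSylow hidx, hQ⟩

end Cfsg.Agent.S4602
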