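import Mathlib
import Cfsg.Statements.S4604
import Cfsg.Agent.S0876
import Cfsg.Agent.Lib.Blocks.GroupAlgebra
import Cfsg.Agent.BlockCharsA.DefectZeroVanish

set_option autoImplicit false
open Cfsg

namespace Cfsg.Agent.S4604

open Cfsg.Agent.Characters Cfsg.Agent.Blocks

/-- The Frobenius congruence for character values. -/
theorem pow_cong {G : Type*} [Group G] [Finite G] {p : ℕ} (hp : p.Prime) (χ : Cfsg.IrrCharacter G)
    (g : G) (k : ℕ) : ∃ γ : Cfsg.AlgInt,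
      (χ : G → ℂ) g ^ p ^ k - (χ : G → ℂ) (g ^ p ^ k) = (p : ℂ) * (γ : ℂ) := by
  obtain ⟨χ, d, ρ, -, rfl⟩ := χ
  obtain ⟨w, hw, hsum⟩ := exists_rootsOfUnity_sum ρ g
  haveI := Fact.mk hp
  have h1 := hsum 1
  simp only [pow_one] at h1
  let v : Fin (Module.finrank ℂ (Fin d → ℂ)) → Cfsg.AlgInt := fun i =>
    ⟨w i, isIntegral_of_pow_eq_one (orderOf_pos g).ne' (hw i)⟩
  have h2 : (Ideal.Quotient.mk (Ideal.span {(p : Cfsg.AlgInt)})) ((∑ i, v i) ^ p ^ k) =
      (Ideal.Quotient.mk (Ideal.span {(p : Cfsg.AlgInt)})) (∑ i, v i ^ p ^ k) := by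
    by_cases hu : IsUnit (p : Cfsg.AlgInt)
    · haveI : Subsingleton (Cfsg.AlgInt ⧸ Ideal.span {(p : Cfsg.AlgInt)}) :=
        Ideal.Quotient.subsingleton_iff.2 (Ideal.span_singleton_eq_top.2 hu)
      exact Subsingleton.elim _ _
    haveI := CharP.quotient Cfsg.AlgInt p hu
    rw [map_pow, map_sum, map_sum, sum_pow_char_pow]
    simp only [map_pow]
  rw [Ideal.Quotient.eq, Ideal.mem_span_singleton] at h2
  obtain ⟨γ, hγ⟩ := h2
  refine ⟨γ, ?_⟩
  have h3 := congrArg (fun z : Cfsg.AlgInt => (z : ℂ)) hγ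
  simp only [AddSubgroupClass.coe_sub, SubmonoidClass.coe_pow, AddSubmonoidClass.coe_finsetSum,
    MulMemClass.coe_mul] at h3
  show ρ.character g ^ p ^ k - ρ.character (g ^ p ^ k) = _
  rw [h1, hsum]
  simpa [v] using h3


/-- Let G be a finite group, p a prime and p^a the p-part of the order of G. Let x, y ∈ G and let x′, y′ be their p-regular parts: x′ has order prime to p, commutes with x·x′⁻¹, and x·x′⁻¹ has p-power order (likewise for y). Then x′ and y′ are conjugate in G if and only if for every irreducible character χ of G the algebraic integer χ(x)^(p^a) − χ(y)^(p^a) is p times an algebraic integer. -/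
theorem result {G : Type*} [Group G] [Finite G] (p : ℕ) [Fact p.Prime] (x y x' y' : G)
    (hx : (∃ k : ℕ, orderOf (x * x'⁻¹) = p ^ k) ∧ Commute (x * x'⁻¹) x' ∧ ¬ p ∣ orderOf x')
    (hy : (∃ k : ℕ, orderOf (y * y'⁻¹) = p ^ k) ∧ Commute (y * y'⁻¹) y' ∧ ¬ p ∣ orderOf y') :
    IsConj x' y' ↔ ∀ χ : Cfsg.IrrCharacter G, ∃ γ : Cfsg.AlgInt,
      (χ : G → ℂ) x ^ (p ^ (Nat.card G).factorization p) - (χ : G → ℂ) y ^ (p ^ (Nat.card G).factorization p) = (p : ℂ) * (γ : ℂ) := by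
  classical
  have hp : p.Prime := Fact.out
  set q := (Nat.card G).factorization p with hq
  have hsame : ∀ x x' : G, (∃ k : ℕ, orderOf (x * x'⁻¹) = p ^ k) → Commute (x * x'⁻¹) x' →
      x ^ p ^ q = x' ^ p ^ q := by
    intro x x' ⟨k, hk⟩ hc
    have hkq : k ≤ q := (hp.pow_dvd_iff_le_factorization Nat.card_pos.ne').1
      (hk ▸ orderOf_dvd_natCard _)
    have h1 : (x * x'⁻¹) ^ p ^ q = 1 :=
      orderOf_dvd_iff_pow_eq_one.1 (hk ▸ pow_dvd_pow p hkq)
    conv_lhs => rw [show x = x * x'⁻¹ * x' by group]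
    rw [hc.mul_pow, h1, one_mul]
  constructor
  · intro h χ
    obtain ⟨c, hc⟩ := isConj_iff.1 h
    obtain ⟨γ₁, h₁⟩ := pow_cong hp χ x q
    obtain ⟨γ₂, h₂⟩ := pow_cong hp χ y q
    refine ⟨γ₁ - γ₂, ?_⟩
    rw [hsame x x' hx.1 hx.2.1] at h₁
    rw [hsame y y' hy.1 hy.2.1, ← hc, conj_pow, irr_isClassFunction χ] at h₂
    rw [AddSubgroupClass.coe_sub, mul_sub, ← h₁, ← h₂]
    ring
  · intro h
    obtain ⟨M, hM⟩ := Cfsg.Agent.BlockCharsA.DefectZeroVanish.exists_modular hp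
    have hpart : ∀ x x' : G, (∃ k : ℕ, orderOf (x * x'⁻¹) = p ^ k) → Commute (x * x'⁻¹) x' →
        ¬ p ∣ orderOf x' → Cfsg.IsPPart p x (x * x'⁻¹) :=
      fun x x' h1 h2 h3 => ⟨x', by group, h2, h1, h3⟩
    have h' := (Cfsg.Agent.S0876.result p M hM x y _ _ (hpart x x' hx.1 hx.2.1 hx.2.2)
      (hpart y y' hy.1 hy.2.1 hy.2.2)).2 fun χ => ?_
    · simpa [mul_assoc] using h'
    obtain ⟨γ, hγ⟩ := h χ
    let A : Cfsg.AlgInt := ⟨(χ : G → ℂ) x, char_value_isIntegral (irr_isCharacter χ) x⟩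
    let B : Cfsg.AlgInt := ⟨(χ : G → ℂ) y, char_value_isIntegral (irr_isCharacter χ) y⟩
    haveI := hM.2.1.isPrime
    have hne : ¬ IsUnit (p : Cfsg.AlgInt) := fun hu =>
      (isMaximal_of_pm hM).ne_top (Ideal.eq_top_of_isUnit_mem _ hM.2.2 hu)
    have hm : A - B ∈ M := by
      haveI : IsDomain (Cfsg.AlgInt ⧸ M) := Ideal.Quotient.isDomain M
      haveI : CharP (Cfsg.AlgInt ⧸ M) p := (CharP.charP_iff_prime_eq_zero hp).2 (by
        rw [← map_natCast (Ideal.Quotient.mk M), Ideal.Quotient.eq_zero_iff_mem]; exact hM.2.2)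
      have h2 : A ^ p ^ q - B ^ p ^ q ∈ M := by
        rw [show A ^ p ^ q - B ^ p ^ q = (p : Cfsg.AlgInt) * γ from Subtype.ext (by simpa [A, B] using hγ)]
        exact M.mul_mem_right _ hM.2.2
      rw [← Ideal.Quotient.eq_zero_iff_mem, map_sub, map_pow, map_pow, ← sub_pow_char_pow] at h2
      rw [← Ideal.Quotient.eq_zero_iff_mem, map_sub]
      exact eq_zero_of_pow_eq_zero h2
    exact (ideal_coe_iff hM (A - B)).2 hm

end Cfsg.Agent.S4604
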