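import Cfsg.Statements.S4608
import Cfsg.Agent.BlockCharsA.CyclicNilpotent.Trace
import Cfsg.Agent.Lib.Blocks.FiveTraces.Corner
import Cfsg.Agent.Lib.Blocks.FiveTraces.EightBlock

set_option autoImplicit false
open Cfsg

namespace Cfsg.Agent.S4608

open Cfsg.Agent.Blocks Cfsg.Agent.Characters Cfsg.Agent.BlockCharsA
open Cfsg.Agent.BlockCharsA.PairCorr Cfsg.Agent.BlockCharsA.PairMax
open Cfsg.Agent.Blocks.Lattice Cfsg.Agent.BlockCharsA.TwoChars Cfsg.Agent.Blocks.Star

/-- Sums of five positive squares exceed five by `0`, `3`, `6` or at least `8`. -/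
theorem square_sum_cases {ι : Type*} (s : Finset ι) (d : ι → ℕ) (h0 : ∀ i ∈ s, d i ≠ 0) :
    ∑ i ∈ s, d i ^ 2 = s.card ∨ ∑ i ∈ s, d i ^ 2 = s.card + 3 ∨ ∑ i ∈ s, d i ^ 2 = s.card + 6 ∨
      s.card + 8 ≤ ∑ i ∈ s, d i ^ 2 := by
  classical
  induction s using Finset.induction_on with
  | empty => simp
  | insert a s ha ih =>
    rw [Finset.sum_insert ha, Finset.card_insert_of_notMem ha]
    have hih := ih fun i hi => h0 i (Finset.mem_insert_of_mem hi)
    have h := h0 a (Finset.mem_insert_self a s)
    rcases (by omega : d a = 1 ∨ d a = 2 ∨ 3 ≤ d a) with h1 | h1 | h1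
    · rw [h1]; omega
    · rw [h1]; omega
    · have : 3 ^ 2 ≤ d a ^ 2 := Nat.pow_le_pow_left h1 2
      omega

/-- Let G be a finite group, p a prime, M a maximal ideal of the algebraic integers containing p, and B a p-block of G with defect group D. If B has p-regular rank one and exactly five irreducible characters, then D is cyclic of order 5, or D has order 8 and is non-abelian (dihedral or quaternion). -/
theorem result {G : Type*} [Group G] [Finite G] (p : ℕ) [Fact p.Prime] (M : Ideal Cfsg.AlgInt) (hM : Cfsg.IsPModular p M) (B : Set (Cfsg.IrrCharacter G)) (hB : Cfsg.IsPBlock M B) (D : Subgroup G) (hD : Cfsg.IsDefectGroup p M B D)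
    (hl : Cfsg.blockRank p B = 1) (hk : Nat.card B = 5) :
    (Nat.card D = 5) ∨ (Nat.card D = 8 ∧ ¬ IsMulCommutative D) := by
  classical
  haveI := Fintype.ofFinite G
  haveI := Fintype.ofFinite (Cfsg.IrrCharacter G)
  haveI : IsAlgClosed (Res hM) := isAlgClosed_residue (splitsAll_loc hM)
  haveI : Module.Finite (Res hM) (MonoidAlgebra (Res hM) G) :=
    Module.Finite.of_basis (MonoidAlgebra.basis G (Res hM))
  have hcard := card_defectGroup hM hB hD
  -- the order of the defect group
  obtain ⟨hlo, hhi⟩ := RankOneSmall.pow_defect_bounds hM hB hl 14 fun eB _ =>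
    FiveTraces.cornerBound_five _ _ hk.le
  obtain ⟨φ, d, -, hdφ, hsq⟩ := RankOne.exists_decomposition hM hB hl
  rw [ZStar.Principal.finsum_mem_eq_sum_filter] at hsq
  have h1reg : Cfsg.IsPRegular p (1 : G) := by simp [Cfsg.IsPRegular, hM.1.ne_one]
  have hdpos : ∀ χ ∈ Finset.univ.filter (fun χ : Cfsg.IrrCharacter G => χ ∈ B), d χ ≠ 0 :=
    fun χ hχ h => irr_one_ne_zero χ.2 (by
      rw [hdφ χ (Finset.mem_filter.1 hχ).2 1 h1reg, h, Nat.cast_zero, zero_mul])
  have hBc : (Finset.univ.filter (fun χ : Cfsg.IrrCharacter G => χ ∈ B)).card = 5 := by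
    rw [← hk, Nat.card_eq_fintype_card, Fintype.card_subtype]
  have hcases := square_sum_cases _ d hdpos
  rw [hBc, hsq] at hcases
  rw [hk] at hlo
  rw [← hcard] at hlo hhi hcases
  have hdne : Cfsg.blockDefect p B ≠ 0 := fun h => by
    rw [hcard, h, pow_zero] at hlo
    omega
  have hpp : IsPrimePow (Nat.card D) := by
    rw [hcard]
    exact hM.1.isPrimePow.pow hdne
  have hn : Nat.card D = 5 ∨ Nat.card D = 8 ∨ Nat.card D = 11 ∨ Nat.card D = 13 := by
    generalize Nat.card D = n at hlo hhi hcases hpp
    interval_cases n <;> first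
      | omega
      | (rw [isPrimePow_nat_iff] at hpp
         obtain ⟨q, i, hq, hi, he⟩ := hpp
         have hq' := Nat.Prime.pow_minFac hq hi.ne'
         rw [he] at hq'
         norm_num at hq'
         subst hq'
         rcases (by omega : i = 1 ∨ i = 2 ∨ i = 3 ∨ 4 ≤ i) with rfl | rfl | rfl | h4 <;>
           first
             | (norm_num at he; done)
             | (have := Nat.pow_le_pow_right (show 0 < 2 by norm_num) h4; omega)
             | (norm_num at hq; done))
  -- cyclic defect groups have five elements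
  have hcyc : IsCyclic D → Nat.card D = 5 := fun hc => by
    rw [hcard, ← hk]
    exact RankOneSmall.pow_defect_eq_card' hM hB hl
      (Or.inr fun eB heB => CyclicNilpotent.oneGenRadical hM hB hD hc eB heB)
  have hprime : (Nat.card D).Prime → Nat.card D = 5 := fun hp => by
    haveI := Fact.mk hp
    exact hcyc (isCyclic_of_prime_card rfl)
  rcases hn with h | h | h | h
  · exact Or.inl h
  · refine Or.inr ⟨h, fun hcomm => ?_⟩
    have hp2 : p = 2 := by
      have h1 := Nat.Prime.pow_minFac hM.1 hdne
      rw [← hcard, h] at h1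
      norm_num at h1
      exact h1.symm
    subst hp2
    letI : CommGroup D := { (inferInstance : Group D) with mul_comm := fun a b => hcomm.is_comm.comm a b }
    have hnc : ¬ IsCyclic D := fun hc => by have := hcyc hc; omega
    obtain ⟨c, hmax⟩ := exists_maximal_on hM hB hD
    exact FiveTraces.Eight.card_ne_five hM hmax
      (fun x hx y hy => congrArg Subtype.val (mul_comm (⟨x, hx⟩ : D) ⟨y, hy⟩)) h
      (fun z => FiveTraces.Eight.exists_involution h hnc z) hl hk
  · have := hprime (by rw [h]; norm_num); omega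
  · have := hprime (by rw [h]; norm_num); omega

end Cfsg.Agent.S4608
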