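import Cfsg.Statements.S4609
import Cfsg.Agent.Lib.Blocks.ThreeChars.Main
import Cfsg.Agent.Lib.Blocks.QuotientDefect
import Cfsg.Agent.Lib.Coprime.PGroup
import Cfsg.Agent.Solvable.Basics

set_option autoImplicit false
set_option linter.style.haveILetI false
open Cfsg

namespace Cfsg.Agent.S4609

open Cfsg.Agent.Characters Cfsg.Agent.Blocks Cfsg.Agent.BlockCharsA
open Cfsg.Agent.BlockCharsA.PairCorr Cfsg.Agent.Blocks.ThreeChars
open scoped commutatorElement

universe u

/-- A block with normal defect group and at most three characters of height zero has a cyclic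
defect group, at most three characters, and its prime is at most three. -/
theorem normal_case {G : Type u} [Group G] [Finite G] {p : ℕ} {M : Ideal Cfsg.AlgInt}
    (hM : Cfsg.IsPModular p M) {b : Set (Cfsg.IrrCharacter G)} (hb : Cfsg.IsPBlock M b)
    {D : Subgroup G} [D.Normal] (hD : Cfsg.IsDefectGroup p M b D) (hD1 : D ≠ ⊥)
    (h0 : Nat.card {ψ : Cfsg.IrrCharacter G // ψ ∈ b ∧ Cfsg.blockHeight p b (ψ : G → ℂ) = 0} ≤ 3) :
    IsCyclic D ∧ p ≤ 3 ∧ Nat.card D ≤ 2 * (p - 1) + 1 := by
  classical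
  haveI := fact_prime_of_pm hM
  have hDp := isPGroup_defect hD
  haveI := hDp.isNilpotent
  set Φ : Subgroup G := (frattini D).map D.subtype with hΦ
  haveI : Φ.Normal := ConjAct.normal_of_characteristic_of_normal
  have hΦD : Φ ≤ D := Subgroup.map_subtype_le _
  have hΦp : IsPGroup p Φ := (hDp.to_subgroup _).map _
  obtain ⟨Bbar, hBbar, hsub, hdef⟩ := exists_block_quotient hM hΦp hb
  set π := QuotientGroup.mk' Φ
  set A := D.map π with hA
  haveI : A.Normal := Subgroup.Normal.map ‹D.Normal› π (QuotientGroup.mk'_surjective Φ)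
  have hAdef : Cfsg.IsDefectGroup p M Bbar A := (hdef A).2 ⟨D, hD, rfl⟩
  have hab : ∀ x ∈ A, ∀ y ∈ A, x * y = y * x := by
    rintro _ ⟨a, ha, rfl⟩ _ ⟨c, hc, rfl⟩
    rw [← map_mul, ← map_mul]
    refine QuotientGroup.eq.2 ⟨⁅(⟨c, hc⟩ : D)⁻¹, (⟨a, ha⟩ : D)⁻¹⁆,
      Coprime.commutator_le_frattini D (Subgroup.commutator_mem_commutator (Subgroup.mem_top _)
        (Subgroup.mem_top _)), ?_⟩
    simp [commutatorElement_def, mul_assoc]
  have hexp : ∀ x ∈ A, x ^ p = 1 := by
    rintro _ ⟨a, ha, rfl⟩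
    rw [← map_pow]
    exact (QuotientGroup.eq_one_iff _).2 ⟨⟨a, ha⟩ ^ p, Solvable.Basics.pow_mem_frattini hDp _, rfl⟩
  have hidx : A.index = D.index :=
    Subgroup.index_map_eq D (QuotientGroup.mk'_surjective Φ)
      ((QuotientGroup.ker_mk' Φ).le.trans hΦD)
  have hk : Nat.card Bbar ≤ 3 := by
    refine le_trans (Nat.card_le_card_of_injective
      (fun χ => (⟨inflIrr χ.1, hsub χ.1 χ.2, ?_⟩ :
        {ψ : Cfsg.IrrCharacter G // ψ ∈ b ∧ Cfsg.blockHeight p b (ψ : G → ℂ) = 0}))
      fun χ χ' h => ?_) h0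
    · have e1 : Cfsg.charDegree (inflIrr χ.1 : G → ℂ) = Cfsg.charDegree (χ.1 : G ⧸ Φ → ℂ) := rfl
      have h1 := degree_factorization_eq hM hb (hsub χ.1 χ.2)
      have h2 := degree_factorization_eq hM hBbar χ.2
      rw [height_zero_of_comm_normal_defect hM hBbar hAdef hab χ.2, add_zero] at h2
      have h3 := factorization_index_add A p
      rw [card_defectGroup hM hBbar hAdef, hM.1.factorization_pow, Finsupp.single_eq_same, hidx] at h3
      have h4 := factorization_index_add D p
      rw [card_defectGroup hM hb hD, hM.1.factorization_pow, Finsupp.single_eq_same] at h4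
      rw [e1] at h1
      omega
    · have e1 : inflIrr χ.1 = inflIrr χ'.1 := congrArg Subtype.val h
      refine Subtype.ext (Subtype.ext (funext fun q => ?_))
      obtain ⟨g, rfl⟩ := QuotientGroup.mk_surjective q
      exact congrFun (congrArg Subtype.val e1) g
  have hA3 := card_le_three hM hBbar hAdef hab hexp hk
  -- the quotient is generated by one element
  have hgen : ∀ x : D, (∀ d : D, ∃ i : ℤ, π d = π x ^ i) → Subgroup.zpowers x = ⊤ := by
    intro x hx
    refine frattini_nongenerating (top_le_iff.1 fun d _ => ?_)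
    obtain ⟨i, hi⟩ := hx d
    rw [← map_zpow] at hi
    obtain ⟨f, hf, hfe⟩ := QuotientGroup.eq.1 hi.symm
    rw [show d = x ^ i * f from Subtype.ext (by
      rw [Subgroup.coe_mul, SubgroupClass.coe_zpow, show ((f : D) : G) = _ from hfe,
        mul_inv_cancel_left])]
    exact Subgroup.mul_mem_sup (Subgroup.zpow_mem _ (Subgroup.mem_zpowers x) i) hf
  obtain ⟨j, hj⟩ := IsPGroup.iff_card.1 (isPGroup_defect hAdef)
  have hj1 : j = 1 := by
    rcases j with _ | _ | j
    · exfalso
      have hA1 : A = ⊥ := Subgroup.card_eq_one.1 (by rw [hj, pow_zero])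
      have h1 := hgen 1 fun d => ⟨0, by
        rw [zpow_zero, ← Subgroup.mem_bot, ← hA1]
        exact Subgroup.mem_map_of_mem π d.2⟩
      rw [Subgroup.zpowers_one_eq_bot] at h1
      haveI : Subsingleton D := subsingleton_of_bot_eq_top h1 |> Subgroup.subsingleton_iff.1
      exact hD1 (Subgroup.eq_bot_of_subsingleton D)
    · rfl
    · have h1 : 2 ^ 2 ≤ p ^ (j + 1 + 1) :=
        (Nat.pow_le_pow_left hM.1.two_le 2).trans (Nat.pow_le_pow_right hM.1.pos (by omega))
      omega
  rw [hj1, pow_one] at hj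
  haveI : IsCyclic A := isCyclic_of_prime_card hj
  obtain ⟨⟨_, x, hx, rfl⟩, hgx⟩ := IsCyclic.exists_generator (α := A)
  have htop := hgen ⟨x, hx⟩ fun d => by
    obtain ⟨i, hi⟩ := Subgroup.mem_zpowers_iff.1 (hgx ⟨π d, Subgroup.mem_map_of_mem π d.2⟩)
    exact ⟨i, (congrArg (fun q : A => (q : G ⧸ Φ)) hi).symm.trans (by simp)⟩
  haveI hcyc : IsCyclic D := ⟨⟨⟨x, hx⟩, fun d => show d ∈ Subgroup.zpowers (⟨x, hx⟩ : D) by rw [htop]; exact Subgroup.mem_top d⟩⟩
  refine ⟨hcyc, hj ▸ hA3, ?_⟩
  have hDab : ∀ a ∈ D, ∀ c ∈ D, a * c = c * a := fun a ha c hc => by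
    letI := IsCyclic.commGroup (α := D)
    exact congrArg Subtype.val (mul_comm (⟨a, ha⟩ : D) ⟨c, hc⟩)
  have hkb : Nat.card b ≤ 3 := by
    refine le_trans (Nat.card_le_card_of_injective
      (fun χ => (⟨χ.1, χ.2, height_zero_of_comm_normal_defect hM hb hD hDab χ.2⟩ :
        {ψ : Cfsg.IrrCharacter G // ψ ∈ b ∧ Cfsg.blockHeight p b (ψ : G → ℂ) = 0}))
      fun χ χ' h => Subtype.ext (congrArg
        (fun z : {ψ : Cfsg.IrrCharacter G // ψ ∈ b ∧ Cfsg.blockHeight p b (ψ : G → ℂ) = 0} => z.1) h)) h0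
  obtain ⟨e, hmax⟩ := exists_maximal_on hM hb hD
  refine (card_le_cyclic hM hmax).trans (Nat.add_le_add_right (Nat.mul_le_mul_right _ ?_) 1)
  omega

/-- Let G be a finite group, p a prime, M a maximal ideal of the algebraic integers containing p, and B a p-block of G with defect group D containing exactly three irreducible characters. Suppose the number of height-zero characters of B equals the number of height-zero characters of its Brauer correspondent b, the block of N_G(D) with defect group D inducing B (as the Alperin–McKay conjecture predicts). Then D has order 3. -/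
theorem result {G : Type*} [Group G] [Finite G] (p : ℕ) [Fact p.Prime] (M : Ideal Cfsg.AlgInt) (hM : Cfsg.IsPModular p M) (B : Set (Cfsg.IrrCharacter G)) (hB : Cfsg.IsPBlock M B) (D : Subgroup G) (hD : Cfsg.IsDefectGroup p M B D) (hk : Nat.card B = 3)
    (b : Set (Cfsg.IrrCharacter (Subgroup.normalizer (D : Set G)))) (hbB : Cfsg.IsInducedBlock M (Subgroup.normalizer (D : Set G)) b B)
    (hbD : Cfsg.IsDefectGroup p M b (D.subgroupOf (Subgroup.normalizer (D : Set G))))
    (hAM : Nat.card {χ : Cfsg.IrrCharacter G // χ ∈ B ∧ Cfsg.blockHeight p B (χ : G → ℂ) = 0} =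
           Nat.card {ψ : Cfsg.IrrCharacter (Subgroup.normalizer (D : Set G)) // ψ ∈ b ∧ Cfsg.blockHeight p b (ψ : Subgroup.normalizer (D : Set G) → ℂ) = 0}) :
    Nat.card D = 3 := by
  classical
  have hB' := hB
  have hne2 : Nat.card D ≠ 2 := fun h => by
    have := (S4607.result p M hM B hB D hD).2 h
    omega
  have hD1 : D ≠ ⊥ := fun h => by
    have h1 := card_defectGroup hM hB hD
    rw [h, Subgroup.card_bot] at h1
    have h2 : Cfsg.blockDefect p B = 0 := by
      rcases Nat.pow_eq_one.1 h1.symm with h3 | h3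
      · exact absurd h3 hM.1.ne_one
      · exact h3
    have := ((S4733.result p M hM B hB).2.1.1 h2).1
    omega
  set N := Subgroup.normalizer (D : Set G)
  have hDN : D ≤ N := Subgroup.le_normalizer
  haveI : (D.subgroupOf N).Normal := Subgroup.normal_in_normalizer
  have hcard : Nat.card (D.subgroupOf N) = Nat.card D :=
    Nat.card_congr (Subgroup.subgroupOfEquivOfLe hDN).toEquiv
  obtain ⟨-, hp3, hle⟩ := normal_case hM hbB.1 hbD (fun h => hD1 (Subgroup.card_eq_one.1
      (by rw [← hcard, h, Subgroup.card_bot]))) (by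
    rw [← hAM, ← hk]
    exact Nat.card_le_card_of_injective
      (fun χ => (⟨χ.1, χ.2.1⟩ : B))
      fun χ χ' h => Subtype.ext (congrArg (fun z : B => (z : Cfsg.IrrCharacter G)) h))
  rw [hcard] at hle
  obtain ⟨m, hm⟩ := IsPGroup.iff_card.1 (isPGroup_defect hD)
  have hm0 : m ≠ 0 := fun h => hD1 (Subgroup.card_eq_one.1 (by rw [hm, h, pow_zero]))
  have hm1 : m = 1 := by
    by_contra h
    have h1 : p ^ 2 ≤ p ^ m := Nat.pow_le_pow_right hM.1.pos (by omega)
    have := hM.1.two_le
    rcases (show p = 2 ∨ p = 3 by omega) with rfl | rfl <;> simp at h1 hle <;> omega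
  rw [hm1, pow_one] at hm
  have := hM.1.two_le
  omega

end Cfsg.Agent.S4609
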