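import Cfsg.Statements.S4611
import Cfsg.Agent.BlocksChars.PrincipalPSolvable
import Cfsg.Agent.Lib.PLocal.SolvableSeparable

set_option autoImplicit false
set_option linter.style.haveILetI false
open Cfsg
open Cfsg.Agent.Blocks Cfsg.Agent.Characters Cfsg.Agent.BlocksChars Cfsg.Agent.Cores

namespace Cfsg.Agent.S4611

/-- Let G be a finite solvable group and π a nonempty set of primes, each dividing the order of G; fix for each p in π a maximal ideal M p of the algebraic integers containing p. Then the only irreducible character lying in the principal p-block for every p in π is the principal character if and only if G is generated by the subgroups O_{p'}(G), p in π (the largest normal subgroups of order prime to p). -/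
theorem result {G : Type*} [Group G] [Finite G] [Group.IsSolvable G] (π : Set ℕ) (hπ : ∀ p ∈ π, p.Prime ∧ p ∣ Nat.card G) (hne : π.Nonempty) (M : ℕ → Ideal Cfsg.AlgInt) (hM : ∀ p ∈ π, Cfsg.IsPModular p (M p)) :
    (∀ χ : Cfsg.IrrCharacter G, (∀ p ∈ π, χ ∈ Cfsg.principalBlock (M p) G) → (χ : G → ℂ) = fun _ => 1) ↔
      ⨆ p ∈ π, Cfsg.pPrimeCore p G = ⊤ := by
  classical
  haveI := Fintype.ofFinite G
  constructor
  · intro h
    by_contra hne
    set K := ⨆ p ∈ π, Cfsg.pPrimeCore p G with hK
    haveI : K.Normal := by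
      refine Subgroup.normal_iff_map_conj_eq.2 fun x => ?_
      rw [hK, Subgroup.map_iSup]
      refine iSup_congr fun p => ?_
      rw [Subgroup.map_iSup]
      refine iSup_congr fun _ => ?_
      exact Subgroup.normal_iff_map_conj_eq.1 (pPrimeCore_normal p G) x
    haveI := Fintype.ofFinite (G ⧸ K)
    obtain ⟨q, hq⟩ : ∃ q : G ⧸ K, q ≠ 1 := by
      haveI : Nontrivial (G ⧸ K) := QuotientGroup.nontrivial_iff.2 hne
      exact exists_ne 1
    obtain ⟨φ, hφ, hφq⟩ := exists_irr_ne hq
    set χ : Cfsg.IrrCharacter G := ⟨φ ∘ QuotientGroup.mk' K,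
      isIrrCharacter_comp_surjective _ (QuotientGroup.mk'_surjective K) hφ⟩
    have hmem : ∀ p ∈ π, χ ∈ Cfsg.principalBlock (M p) G := by
      intro p hp
      haveI : Fact p.Prime := ⟨(hπ p hp).1⟩
      refine (PrincipalPSolvable.principal_iff_trivial (hM p hp)
        (Cfsg.Agent.PLocal.SolvableSeparable.isPSolvable_of_isSolvable p G) χ).2 fun n hn => ?_
      show φ (n : G ⧸ K) = φ ((1 : G) : G ⧸ K)
      rw [(QuotientGroup.eq_one_iff n).2 (le_iSup₂ (f := fun p _ => Cfsg.pPrimeCore p G) p hp hn),
        QuotientGroup.mk_one]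
    have h1 := h χ hmem
    apply hφq
    obtain ⟨g, rfl⟩ := QuotientGroup.mk'_surjective K q
    have e1 := congrFun h1 g
    have e2 := congrFun h1 1
    simp only [χ, Function.comp_apply, map_one] at e1 e2
    rw [e1, e2]
  · intro htop χ hχ
    have hker : ∀ g : G, (χ : G → ℂ) g = (χ : G → ℂ) 1 := by
      intro g
      have hle : ⨆ p ∈ π, Cfsg.pPrimeCore p G ≤ charKernel (χ : G → ℂ) (irr_isCharacter χ) :=
        iSup₂_le fun p hp n hn => by
          haveI : Fact p.Prime := ⟨(hπ p hp).1⟩
          exact mem_charKernel.2 (PrincipalPSolvable.trivial_of_mem (hM p hp) (hχ p hp) n hn)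
      exact mem_charKernel.1 (hle (htop ▸ Subgroup.mem_top g))
    by_contra hne
    have h := classInner_irr χ (trivIrr G)
    rw [if_neg fun e => hne (by rw [e]; rfl), classInner_def, mul_eq_zero] at h
    have h0 := h.resolve_left (inv_ne_zero natCard_ne_zero)
    simp [trivIrr, hker, irr_one_ne_zero χ.2] at h0

end Cfsg.Agent.S4611
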