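import Cfsg.Statements.S4613
import Cfsg.Agent.Lib.SylowRigid.Linear
import Cfsg.Agent.Lib.SylowRigid.Two
import Cfsg.Agent.Lib.SylowRigid.Symp
import Cfsg.Agent.Lib.SylowRigid.Unitary
import Cfsg.Agent.Lib.SylowRigid.Orth
import Cfsg.Agent.Lib.SylowRigid.RankOne
import Cfsg.Agent.Lib.SylowRigid.Chevalley
import Cfsg.Agent.Lib.SylowRigid.TwistedExc
import Cfsg.Agent.Lib.Suzuki.LieEquiv

set_option autoImplicit false
open Cfsg

namespace Cfsg.Agent.S4613

/-- Let G be a finite simple group of Lie type in characteristic p and α an automorphism of G of order prime to p that fixes some Sylow p-subgroup of G elementwise. Then α is the identity. -/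
theorem result {G : Type*} [Group G] [Finite G] [IsSimpleGroup G] (p : ℕ) [Fact p.Prime] (hG : Cfsg.IsLieTypeChar p G) (α : MulAut G) (hα : ¬ p ∣ orderOf α) (U : Sylow p G) (hfix : ∀ x ∈ (U : Subgroup G), α x = x) : α = 1 := by
  classical
  open Cfsg.Agent.SylowRigid in
  exact by
    suffices h : Rigid p (U : Subgroup G) from h α hα hfix
    rcases hG with ⟨F, _, _, _, n, hn, -, ⟨e⟩⟩ | ⟨F, _, _, _, m, hm, hex, ⟨e⟩⟩ |
      ⟨F, _, _, _, n, q, hF, hn, hex, ⟨e⟩⟩ | ⟨F, _, _, _, m, hm, hodd, ⟨e⟩⟩ |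
      ⟨F, _, _, _, m, hm, ⟨e⟩⟩ | ⟨F, _, _, _, m, a, b, hm, hab, ⟨e⟩⟩ |
      ⟨F, _, _, _, h⟩ | ⟨F, _, _, _, q, hq, h⟩ | ⟨rfl, h⟩ | ⟨rfl, h⟩ | ⟨rfl, h⟩
    · rcases (show n = 2 ∨ 3 ≤ n by omega) with rfl | hn3
      · haveI := (MulEquiv.isSimpleGroup_congr e).1 inferInstance
        exact rigid_transfer e (fun Q => Two.rigid Q) U
      · exact rigid_transfer e (fun Q => Linear.rigid_ge_three hn3 Q) U
    · exact rigid_transfer e (fun Q => Symp.rigid hm hex Q) U
    · exact rigid_transfer e (fun Q => Unitary.rigid hF hn hex Q) U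
    · exact rigid_transfer e (fun Q => Orth.rigid_odd hm hodd Q) U
    · exact rigid_transfer e (fun Q => Orth.rigid_plus hm Q) U
    · exact rigid_transfer e (fun Q => Orth.rigid_minus hm hab Q) U
    · rcases h with ⟨-, ⟨e⟩⟩ | ⟨⟨e⟩⟩ | ⟨⟨e⟩⟩ | ⟨⟨e⟩⟩ | ⟨⟨e⟩⟩
      all_goals
        haveI := (MulEquiv.isSimpleGroup_congr e).1 inferInstance
        exact rigid_transfer e (fun Q => SylowRigid.Chevalley.rigid p _ (by simp) Q) U
    · rcases h with ⟨hF, ⟨e⟩⟩ | ⟨hF, ⟨e⟩⟩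
      · haveI := (MulEquiv.isSimpleGroup_congr e).1 inferInstance
        exact rigid_transfer e (fun Q => TwistedExc.twistedE6 hq hF Q) U
      · haveI := (MulEquiv.isSimpleGroup_congr e).1 inferInstance
        exact rigid_transfer e (fun Q => TwistedExc.twistedD4 hq hF Q) U
    · obtain ⟨F, _, _, m, hm, hF, ⟨e⟩⟩ := h
      haveI := Suzuki.charTwo hF
      obtain ⟨e'⟩ := Suzuki.lieEquiv (F := F) hm hF
      exact rigid_transfer (e.trans e'.symm) (fun Q => rigid_suzuki hm hF Q) U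
    · obtain ⟨F, _, _, m, hm, hF, ⟨e⟩⟩ := h
      haveI := Suzuki.charTwo hF
      haveI := (MulEquiv.isSimpleGroup_congr e).1 inferInstance
      exact rigid_transfer e (fun Q => TwistedExc.twistedF4 hF Q) U
    · obtain ⟨K, _, _, m, hm, hK, ⟨e⟩⟩ := h
      haveI := Cfsg.Agent.Chevalley.Twist.G2.charThree hK
      exact rigid_transfer e (fun Q => rigid_ree hm hK Q) U

end Cfsg.Agent.S4613
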