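import Cfsg.Statements.S4614
import Cfsg.Agent.Lib.CharTheory.OneSubsection.Main
import Cfsg.Agent.Lib.CharTheory.Blocks.Degrees
import Cfsg.Agent.Lib.Blocks.SectionRoots
import Cfsg.Agent.Lib.Blocks.RealBlocks
import Cfsg.Agent.BlockCharsA.CanonicalExt

set_option autoImplicit false
set_option linter.style.haveILetI false
open Cfsg

namespace Cfsg.Agent.S4614

open Cfsg.Agent.Blocks Cfsg.Agent.Characters Cfsg.Agent.BlockCharsA

/-- Three powers of a prime whose squares add up to a power of it. -/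
theorem eq_three {p a b n i j : ℕ} (hp : p.Prime) (ha : a = p ^ i) (hb : b = p ^ j)
    (h : p ^ n = 1 + a ^ 2 + b ^ 2) : p ^ n = 3 := by
  subst ha hb
  have h2 := hp.two_le
  have hn : 2 ≤ p ^ n := by
    have : 0 < (p ^ i) ^ 2 := by positivity
    omega
  have hn0 : n ≠ 0 := by rintro rfl; simp at hn
  have hdn : p ∣ p ^ n := dvd_pow_self p hn0
  rcases Nat.eq_zero_or_pos i with rfl | hi <;> rcases Nat.eq_zero_or_pos j with rfl | hj
  · simpa using h
  · exfalso
    simp only [pow_zero, one_pow] at h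
    have hd : p ∣ (p ^ j) ^ 2 := (dvd_pow_self p hj.ne').pow two_ne_zero
    rw [h] at hdn
    have h22 : p ∣ 1 + 1 := (Nat.dvd_add_left hd).1 hdn
    obtain rfl : p = 2 := le_antisymm (Nat.le_of_dvd (by norm_num) h22) h2
    obtain ⟨c, hc⟩ : 4 ∣ (2 ^ j) ^ 2 := by
      rw [← pow_mul]; exact dvd_trans (by norm_num) (pow_dvd_pow 2 (show 2 ≤ j * 2 by omega))
    rcases Nat.lt_or_ge n 2 with hn2 | hn2
    · have hc0 : 0 < (2 ^ j) ^ 2 := by positivity
      have : (2 : ℕ) ^ n = 2 := by rw [show n = 1 by omega]; rfl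
      omega
    · obtain ⟨d, hd4⟩ : 4 ∣ 2 ^ n := dvd_trans (by norm_num) (pow_dvd_pow 2 hn2)
      omega
  · exfalso
    simp only [pow_zero, one_pow] at h
    have hd : p ∣ (p ^ i) ^ 2 := (dvd_pow_self p hi.ne').pow two_ne_zero
    rw [h, show 1 + (p ^ i) ^ 2 + 1 = (1 + 1) + (p ^ i) ^ 2 by omega] at hdn
    have h22 : p ∣ 1 + 1 := (Nat.dvd_add_left hd).1 hdn
    obtain rfl : p = 2 := le_antisymm (Nat.le_of_dvd (by norm_num) h22) h2
    obtain ⟨c, hc⟩ : 4 ∣ (2 ^ i) ^ 2 := by
      rw [← pow_mul]; exact dvd_trans (by norm_num) (pow_dvd_pow 2 (show 2 ≤ i * 2 by omega))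
    rcases Nat.lt_or_ge n 2 with hn2 | hn2
    · have hc0 : 0 < (2 ^ i) ^ 2 := by positivity
      have : (2 : ℕ) ^ n = 2 := by rw [show n = 1 by omega]; rfl
      omega
    · obtain ⟨d, hd4⟩ : 4 ∣ 2 ^ n := dvd_trans (by norm_num) (pow_dvd_pow 2 hn2)
      omega
  · exfalso
    have hd : p ∣ (p ^ i) ^ 2 + (p ^ j) ^ 2 :=
      dvd_add ((dvd_pow_self p hi.ne').pow two_ne_zero) ((dvd_pow_self p hj.ne').pow two_ne_zero)
    rw [h, add_assoc] at hdn
    exact hp.not_dvd_one ((Nat.dvd_add_left hd).1 hdn)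

/-- The odd case of the arithmetic. -/
theorem eq_three_int {q a b d₁ d₂ e₁ e₂ : ℤ} (he₁ : e₁ = 1 ∨ e₁ = -1) (he₂ : e₂ = 1 ∨ e₂ = -1)
    (hA : q = 1 + a ^ 2 + b ^ 2) (hC : 1 + d₁ * a + d₂ * b = 0) (hE : e₁ * a + e₂ * b = 0) :
    q = 3 := by
  have hba : b = a ∨ b = -a := by
    rcases he₁ with rfl | rfl <;> rcases he₂ with rfl | rfl <;> omega
  have hu : a = 1 ∨ a = -1 := Int.isUnit_iff.1 <| isUnit_of_dvd_one <| by
    rcases hba with rfl | rfl
    · exact ⟨-(d₁ + d₂), by linear_combination hC⟩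
    · exact ⟨-(d₁ - d₂), by linear_combination hC⟩
  rcases hba with rfl | rfl <;> rcases hu with rfl | rfl <;> simpa using hA

/-- The even case of the arithmetic. -/
theorem eq_one_exp {n : ℕ} {a b : ℤ} (h : ((2 ^ n : ℕ) : ℤ) = 1 + a ^ 2 + b ^ 2) : n ≤ 1 := by
  by_contra hn
  have h4 : ((2 ^ n : ℕ) : ZMod 4) = 0 := by
    rw [ZMod.natCast_eq_zero_iff]
    exact dvd_trans (by norm_num) (pow_dvd_pow 2 (show 2 ≤ n by omega))
  have h' := congrArg (Int.cast (R := ZMod 4)) h
  rw [Int.cast_natCast, h4] at h'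
  push_cast at h'
  exact (show ∀ u v : ZMod 4, (0 : ZMod 4) ≠ 1 + u ^ 2 + v ^ 2 by decide) _ _ h'

/-- Let G be a finite group, p a prime and M a maximal ideal of the algebraic integers containing p. If the principal p-block of G contains exactly three irreducible characters, then a Sylow p-subgroup of G has order 3 (so p = 3). -/
theorem result {G : Type*} [Group G] [Finite G] (p : ℕ) [Fact p.Prime] (M : Ideal Cfsg.AlgInt) (hM : Cfsg.IsPModular p M) (hk : Nat.card (Cfsg.principalBlock M G) = 3) (D : Sylow p G) : Nat.card (D : Subgroup G) = 3 := by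
  classical
  haveI := Fintype.ofFinite G
  haveI := Fintype.ofFinite (Cfsg.IrrCharacter G)
  have hp : p.Prime := Fact.out
  have hB := isPBlock_principal M G
  set B := Cfsg.principalBlock M G with hBdef
  have htB : trivIrr G ∈ B := trivIrr_mem_principal hM
  set n := (Nat.card G).factorization p with hn
  have hDn : Nat.card (D : Subgroup G) = p ^ n := D.card_eq_multiplicity
  rw [hDn]
  -- the three members
  set F := Finset.univ.filter (fun χ : Cfsg.IrrCharacter G => χ ∈ B) with hF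
  have hF3 : F.card = 3 := by
    rw [← hk, Nat.card_eq_fintype_card, hF]
    exact (Fintype.card_subtype _).symm
  have htF : trivIrr G ∈ F := Finset.mem_filter.2 ⟨Finset.mem_univ _, htB⟩
  obtain ⟨χ₁, χ₂, h12, hE⟩ := Finset.card_eq_two.1
    (show (F.erase (trivIrr G)).card = 2 by rw [Finset.card_erase_of_mem htF, hF3])
  have hmem : ∀ χ, χ ∈ B ∧ χ ≠ trivIrr G ↔ χ = χ₁ ∨ χ = χ₂ := fun χ => by
    have := Finset.ext_iff.1 hE χ
    simpa [hF, and_comm] using this
  obtain ⟨h1B, h1t⟩ := (hmem χ₁).2 (Or.inl rfl)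
  obtain ⟨h2B, h2t⟩ := (hmem χ₂).2 (Or.inr rfl)
  have hsum : ∀ f : Cfsg.IrrCharacter G → ℂ, ∑ χ, (if χ ∈ B then f χ else 0) =
      f (trivIrr G) + (f χ₁ + f χ₂) := fun f => by
    rw [← Finset.sum_filter, ← hF, ← Finset.add_sum_erase F f htF, hE, Finset.sum_pair h12]
  have hsumR : ∀ f : Cfsg.IrrCharacter G → ℝ, ∑ᶠ χ ∈ B, f χ =
      f (trivIrr G) + (f χ₁ + f χ₂) := fun f => by
    rw [finsum_mem_def, finsum_eq_sum_of_fintype]
    simp only [Set.indicator_apply]
    rw [← Finset.sum_filter, ← hF, ← Finset.add_sum_erase F f htF, hE, Finset.sum_pair h12]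
  have htv : ∀ g : G, (trivIrr G : G → ℂ) g = 1 := fun g => by simp [trivIrr]
  have hpG : p ∣ Nat.card G := by
    by_contra h
    exact h1t (Subtype.ext ((CharTheory.Blocks.eq_triv_of_mem_principal hM h h1B).trans
      (funext fun g => (htv g).symm)))
  have hsub : ∀ x : G, x ≠ 1 → (∃ k : ℕ, orderOf x = p ^ k) →
      ∃ b, Cfsg.IsInducedBlock M (Subgroup.centralizer ({x} : Set G)) b B := fun x _ hx => by
    obtain ⟨y, hy⟩ := OneSubsection.exists_conj_mem D hx
    exact OneSubsection.exists_subsection hM hB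
      ((Cfsg.Agent.S4652.result p M hM (D : Subgroup G)).2 ⟨D, rfl⟩) hx hy
  -- the rank is one or two
  set l := Cfsg.blockRank p B with hl
  have hl0 : 0 < l := NilpotentAbelian.blockRank_pos hM hB
  have hl3 : l < 3 := by
    have hcl : SectionSum.IsClosed' M B := fun χ hχ θ hθ => by
      rwa [block_eq_blockOf hM hB hχ]
    have h := SectionSum.card_sub_rank_eq hM hcl
    rw [hk, ← hl] at h
    obtain ⟨x₀, hx₀⟩ := exists_prime_orderOf_dvd_card' p hpG
    have hx1 : x₀ ≠ 1 := fun e => hp.ne_one (by rw [← hx₀, e, orderOf_one])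
    have hx : ∃ k : ℕ, orderOf x₀ = p ^ k := ⟨1, by rw [hx₀, pow_one]⟩
    obtain ⟨b, hb⟩ := hsub x₀ hx1 hx
    have hr : 0 < Cfsg.blockRank p (SectionSum.indU M x₀ B) :=
      lt_of_lt_of_le (NilpotentAbelian.blockRank_pos hM hb.1)
        (OneSubsection.blockRank_mono (OneSubsection.induced_subset_indU hM hb))
    have hpos : (0 : ℤ) < (Nat.card G : ℤ) * (((3 : ℕ) : ℤ) - (l : ℤ)) := by
      rw [h]
      refine Finset.sum_pos' (fun z _ => by positivity) ⟨x₀,
        Finset.mem_filter.2 ⟨Finset.mem_univ _, hx, hx1⟩, ?_⟩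
      have : 0 < Nat.card (Subgroup.centralizer ({x₀} : Set G)) := Nat.card_pos
      positivity
    have := (pos_iff_pos_of_mul_pos hpos).1 (Int.natCast_pos.2 Nat.card_pos)
    omega
  by_cases hl1 : l = 1
  · -- nilpotent principal block
    obtain ⟨N, hNn, hNc, hidx⟩ := Transfer.NormalPComplement.hasNormalPComplement_iff_exists.1
      ((PairNilpotent.principal_nilpotent_iff hM).1 ((Cfsg.Agent.S4646.result p M hM).2 hl1))
    haveI := hNn
    have hN : ¬ p ∣ Nat.card N := hp.coprime_iff_not_dvd.1 hNc.symm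
    have hdeg : ∀ χ ∈ B, ∃ i, Cfsg.charDegree (χ : G → ℂ) = p ^ i := by
      intro χ hχ
      obtain ⟨φ, -, hφ, hirr⟩ := exists_deflate_quotient N (irr_isCharacter χ)
        ((sameBlock_one_iff hM hN hidx χ).1 hχ)
      obtain ⟨m, hm, -, hdvd⟩ := irr_degree_dvd_card (hirr χ.2)
      obtain ⟨k, hk'⟩ := hidx
      rw [← Subgroup.index_eq_card, hk'] at hdvd
      obtain ⟨i, -, hi⟩ := (Nat.dvd_prime_pow hp).1 hdvd
      refine ⟨i, ?_⟩
      rw [← hi]
      have h1 : ((Cfsg.charDegree (χ : G → ℂ) : ℕ) : ℂ) = (m : ℂ) := by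
        rw [charDegree_cast, ← hm, ← hφ 1, QuotientGroup.mk_one]
      exact_mod_cast h1
    have h := norm_principal_pnilpotent hM hN hidx (y := (1 : G))
      (by rw [orderOf_one]; exact hp.not_dvd_one)
    rw [hsumR, htv] at h
    simp only [← charDegree_cast, Complex.norm_natCast, norm_one, ← hn] at h
    obtain ⟨i, hi⟩ := hdeg χ₁ h1B
    obtain ⟨j, hj⟩ := hdeg χ₂ h2B
    refine eq_three hp hi hj ?_
    rw [one_pow, ← add_assoc] at h
    exact_mod_cast h.symm
  have hl2 : l = 2 := by omega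
  have hone := OneSubsection.one_class hM hB (by rw [hk, ← hl, hl2]) hsub
  -- a central element of the Sylow group
  have hn0 : n ≠ 0 := (hp.factorization_pos_of_dvd Nat.card_pos.ne' hpG).ne'
  haveI : Nontrivial (D : Subgroup G) := Finite.one_lt_card_iff_nontrivial.1
    (hDn ▸ Nat.one_lt_pow hn0 hp.one_lt)
  haveI := D.2.center_nontrivial
  obtain ⟨z, hz⟩ := exists_ne (1 : Subgroup.center (D : Subgroup G))
  set x : G := ((z : (D : Subgroup G)) : G) with hxdef
  have hx1 : x ≠ 1 := fun e => hz (Subtype.ext (Subtype.ext e))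
  have hx : ∃ k : ℕ, orderOf x = p ^ k := by
    obtain ⟨k, hk'⟩ := IsPGroup.iff_orderOf.1 D.2 (z : (D : Subgroup G))
    exact ⟨k, by rw [hxdef, Subgroup.orderOf_coe, hk']⟩
  have hDC : (D : Subgroup G) ≤ Subgroup.centralizer ({x} : Set G) := fun g hg =>
    Subgroup.mem_centralizer_singleton_iff.2
      (congrArg Subtype.val (Subgroup.mem_center_iff.1 z.2 ⟨g, hg⟩))
  obtain ⟨b, hb⟩ := hsub x hx1 hx
  have hb0 := (third_main hM ⟨_, hb⟩).1 hb
  subst hb0
  obtain ⟨K, hKn, hKc, hKidx⟩ := Transfer.NormalPComplement.hasNormalPComplement_iff_exists.1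
    ((PairNilpotent.principal_nilpotent_iff hM).1 ((Cfsg.Agent.S4646.result p M hM).2 (show Cfsg.blockRank p
      (Cfsg.principalBlock M (Subgroup.centralizer ({x} : Set G))) = 1 by
      have hle := OneSubsection.blockRank_mono (p := p) (OneSubsection.induced_subset_indU hM hb)
      rw [(hone x x hx1 hx1 hx hx).2] at hle
      exact le_antisymm hle (NilpotentAbelian.blockRank_pos hM hb.1))))
  haveI := hKn
  have hK : ¬ p ∣ Nat.card K := hp.coprime_iff_not_dvd.1 hKc.symm
  have h1reg : ¬ p ∣ orderOf (1 : Subgroup.centralizer ({x} : Set G)) := by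
    rw [orderOf_one]; exact hp.not_dvd_one
  have hfac : (Nat.card (Subgroup.centralizer ({x} : Set G))).factorization p = n := by
    refine le_antisymm ?_ ?_
    · exact (hp.pow_dvd_iff_le_factorization Nat.card_pos.ne').1
        ((Nat.ordProj_dvd _ p).trans (Subgroup.card_subgroup_dvd_card _))
    · exact (hp.pow_dvd_iff_le_factorization Nat.card_pos.ne').1
        (hDn ▸ Subgroup.card_dvd_of_le hDC)
  -- integer values
  have hval : ∀ χ : Cfsg.IrrCharacter G, ∃ a : ℤ, (χ : G → ℂ) x = (a : ℂ) := by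
    intro χ
    refine CanonicalExt.exists_int_of_pow_invariant (irr_isCharacter χ) x fun k hk' => ?_
    have hko : k.Coprime (orderOf x) := hk'.coprime_dvd_right (orderOf_dvd_natCard x)
    have hxk1 : x ^ k ≠ 1 := fun e => hx1 (orderOf_eq_one_iff.1
      (Nat.eq_one_of_dvd_coprimes hko (orderOf_dvd_of_pow_eq_one e) dvd_rfl))
    have hxk : ∃ j : ℕ, orderOf (x ^ k) = p ^ j := by
      obtain ⟨j, hj⟩ := hx
      exact ⟨j, by rw [Nat.Coprime.orderOf_pow hko.symm, hj]⟩
    obtain ⟨g, hg⟩ := isConj_iff.1 (hone x (x ^ k) hx1 hxk1 hx hxk).1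
    rw [← hg, irr_isClassFunction χ]
  obtain ⟨a, ha⟩ := hval χ₁
  obtain ⟨c, hc⟩ := hval χ₂
  set d₁ := Cfsg.charDegree (χ₁ : G → ℂ) with hd1
  set d₂ := Cfsg.charDegree (χ₂ : G → ℂ) with hd2
  have hA : ((p ^ n : ℕ) : ℤ) = 1 + a ^ 2 + c ^ 2 := by
    have h := norm_section_eq hM hx (y := (1 : Subgroup.centralizer ({x} : Set G))) h1reg
    rw [norm_principal_pnilpotent hM hK hKidx h1reg, hfac] at h
    simp only [Subgroup.coe_one, mul_one] at h
    rw [hsumR, htv, ha, hc] at h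
    simp only [norm_one, one_pow, Complex.norm_intCast, sq_abs, ← add_assoc] at h
    exact_mod_cast h.symm
  have hC : 1 + (d₁ : ℤ) * a + (d₂ : ℤ) * c = 0 := by
    have h := CharTheory.Blocks.sum_degree_mul_eq_zero hM hB (y := x) (by
      obtain ⟨j, hj⟩ := hx
      rw [hj]
      exact dvd_pow_self p fun e => hx1 (orderOf_eq_one_iff.1 (by rw [hj, e, pow_zero])))
    rw [hsum, htv, htv, ha, hc, ← charDegree_cast, ← charDegree_cast, ← hd1, ← hd2, one_mul,
      ← add_assoc] at h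
    exact_mod_cast h
  by_cases hp2 : p = 2
  · -- a Sylow group of order two gives rank one
    subst hp2
    have hn1 : n = 1 := by have := eq_one_exp hA; omega
    haveI : Fact (Nat.card (D : Subgroup G) = 2) := ⟨by rw [hDn, hn1, pow_one]⟩
    have hcyc : IsCyclic (D : Subgroup G) := isCyclic_of_prime_card (by rw [hDn, hn1, pow_one])
    exact absurd ((Cfsg.Agent.S4646.result 2 M hM).1 ((PairNilpotent.principal_nilpotent_iff hM).2
      ⟨D, _, inferInstance,
      IsCyclic.isComplement' ((Nat.minFac_eq_two_iff _).2 hpG) hcyc⟩)) hl1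
  -- both nontrivial members are real
  have hstar : ∀ χ, χ ∈ B → χ ≠ trivIrr G → starIrr χ ∈ B ∧ starIrr χ ≠ trivIrr G := by
    intro χ hχ hne
    have ht : starIrr (trivIrr G) = trivIrr G :=
      Subtype.ext (funext fun g => by rw [coe_starIrr, htv, map_one])
    refine ⟨?_, fun e => hne (by rw [← starIrr_starIrr χ, e, ht])⟩
    have := sameBlock_starIrr (χ := trivIrr G) (ψ := χ) hχ
    rw [ht] at this
    exact this
  have hfix : starIrr χ₁ = χ₁ := by
    rcases (hmem _).1 (hstar χ₁ h1B h1t) with h | h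
    · exact h
    exfalso
    have hac : c = a := by
      have e := congrArg (fun φ : Cfsg.IrrCharacter G => (φ : G → ℂ) x) h
      simp only [coe_starIrr, ha, hc, map_intCast, Int.cast_inj] at e
      exact e.symm
    have hdd : d₂ = d₁ := by
      have e := congrArg (fun φ : Cfsg.IrrCharacter G => (φ : G → ℂ) 1) h
      simp only [coe_starIrr, ← charDegree_cast, Complex.conj_natCast, Nat.cast_inj] at e
      exact e.symm
    rw [hac, hdd] at hC
    generalize (d₁ : ℤ) * a = u at hC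
    omega
  have hfix2 : starIrr χ₂ = χ₂ := by
    rcases (hmem _).1 (hstar χ₂ h2B h2t) with h | h
    · exact absurd (by rw [← starIrr_starIrr χ₂, h, hfix]) h12.symm
    · exact h
  have hnu : ∀ χ : Cfsg.IrrCharacter G, starIrr χ = χ →
      ∃ e : ℤ, (e = 1 ∨ e = -1) ∧ FrobeniusSchur.nu (χ : G → ℂ) = (e : ℂ) := by
    intro χ h
    rcases FrobeniusSchur.nu_of_real χ (fun g => Complex.conj_eq_iff_im.1
      (congrFun (congrArg Subtype.val h) g)) with e | e
    · exact ⟨1, Or.inl rfl, by rw [e, Int.cast_one]⟩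
    · exact ⟨-1, Or.inr rfl, by rw [e, Int.cast_neg, Int.cast_one]⟩
  obtain ⟨e₁, he₁, hn₁⟩ := hnu χ₁ hfix
  obtain ⟨e₂, he₂, hn₂⟩ := hnu χ₂ hfix2
  have hE' : e₁ * a + e₂ * c = 0 := by
    have h := sum_nu_section_eq_one hM hp2 hx hK hKidx
    rw [hsum, show FrobeniusSchur.nu (trivIrr G : G → ℂ) = 1 by simp [FrobeniusSchur.nu, trivIrr],
      htv, hn₁, hn₂, ha, hc, one_mul, add_eq_left] at h
    exact_mod_cast h
  have h3 := eq_three_int he₁ he₂ hA hC hE'
  exact_mod_cast h3

end Cfsg.Agent.S4614
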