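import Mathlib
import Cfsg.Statements.S4620
import Cfsg.Agent.Lib.Cores.Basic

set_option autoImplicit false
open scoped Pointwise
open Cfsg

namespace Cfsg.Agent.S4620

open scoped commutatorElement

variable {H : Type*} [Group H]

/-- A minimal nontrivial normal subgroup below any nontrivial normal subgroup. -/
theorem exists_minimal [Finite H] {K : Subgroup H} (hK : K.Normal) (hK1 : K ≠ ⊥) :
    ∃ N : Subgroup H, N.Normal ∧ N ≠ ⊥ ∧ N ≤ K ∧
      ∀ L : Subgroup H, L.Normal → L ≠ ⊥ → L ≤ N → L = N := by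
  classical
  have hex : ∃ m, ∃ N : Subgroup H, N.Normal ∧ N ≠ ⊥ ∧ N ≤ K ∧ Nat.card N = m :=
    ⟨_, K, hK, hK1, le_rfl, rfl⟩
  obtain ⟨N, hn, h1, hle, hc⟩ := Nat.find_spec hex
  refine ⟨N, hn, h1, hle, fun L hLn hL1 hLle => Subgroup.eq_of_le_of_card_ge hLle ?_⟩
  rw [hc]
  exact Nat.find_le ⟨L, hLn, hL1, hLle.trans hle, rfl⟩

/-- A Sylow subgroup meets every normal subgroup of order divisible by `p`. -/
theorem sylow_inf_ne_bot [Finite H] {p : ℕ} [Fact p.Prime] (R : Sylow p H) (K : Subgroup H)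
    [hK : K.Normal] (h : p ∣ Nat.card K) : (R : Subgroup H) ⊓ K ≠ ⊥ := by
  obtain ⟨k, hk⟩ := exists_prime_orderOf_dvd_card' p h
  obtain ⟨S, hS⟩ := (IsPGroup.of_card (n := 1)
    (show Nat.card (Subgroup.zpowers (k : H)) = p ^ 1 by
      rw [Nat.card_zpowers, Subgroup.orderOf_coe, hk, pow_one])).exists_le_sylow
  obtain ⟨g, hg⟩ := MulAction.exists_smul_eq H S R
  intro hbot
  have hmem : g * (k : H) * g⁻¹ ∈ (R : Subgroup H) ⊓ K := by
    refine ⟨?_, hK.conj_mem _ k.2 g⟩
    rw [SetLike.mem_coe, ← hg, Sylow.coe_subgroup_smul]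
    exact Subgroup.smul_mem_pointwise_smul (k : H) (MulAut.conj g) _ (hS (Subgroup.mem_zpowers _))
  rw [hbot, Subgroup.mem_bot, mul_inv_eq_one, mul_eq_left] at hmem
  have : k = 1 := Subtype.ext hmem
  rw [this, orderOf_one] at hk
  exact (Fact.out : p.Prime).ne_one hk.symm

/-- If two normal subgroups meet trivially their elements commute. -/
theorem commute_of_inf_bot {A B : Subgroup H} (hA : A.Normal) (hB : B.Normal) (h : A ⊓ B = ⊥)
    {a b : H} (ha : a ∈ A) (hb : b ∈ B) : a * b = b * a := by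
  rw [← commutatorElement_eq_one_iff_mul_comm, ← Subgroup.mem_bot, ← h]
  haveI := hA
  haveI := hB
  exact Subgroup.commutator_le_inf A B (Subgroup.commutator_mem_commutator ha hb)


/-- Let H be a finite group with no nontrivial normal p-subgroup and no nontrivial normal subgroup of order prime to p, whose Sylow p-subgroup P is nontrivial and a trivial-intersection set (P meets its conjugates by elements outside N_H(P) trivially). Then H has a unique minimal normal subgroup N; N is non-abelian simple with trivial centralizer in H (so H embeds in Aut(N)), and a Sylow p-subgroup of N is again a nontrivial trivial-intersection set in N. -/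
theorem result {H : Type*} [Group H] [Finite H] (p : ℕ) [Fact p.Prime] (hOp : Cfsg.pCore p H = ⊥) (hOp' : Cfsg.pPrimeCore p H = ⊥) (P : Sylow p H) (hP1 : (P : Subgroup H) ≠ ⊥)
    (hTI : ∀ g : H, g ∉ Subgroup.normalizer ((P : Subgroup H) : Set H) → (P : Subgroup H) ⊓ (MulAut.conj g • (P : Subgroup H)) = ⊥) :
    ∃ N : Subgroup H, N.Normal ∧ N ≠ ⊥ ∧ (∀ K : Subgroup H, K.Normal → K ≠ ⊥ → N ≤ K) ∧
      IsSimpleGroup N ∧ ¬ IsMulCommutative N ∧ Subgroup.centralizer (N : Set H) = ⊥ ∧
      ∀ Q : Sylow p N, (Q : Subgroup N) ≠ ⊥ ∧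
        ∀ n : N, n ∉ Subgroup.normalizer ((Q : Subgroup N) : Set N) → (Q : Subgroup N) ⊓ (MulAut.conj n • (Q : Subgroup N)) = ⊥ := by
  have hp := (Fact.out : p.Prime)
  -- every Sylow subgroup is a TI set
  have hTI' : ∀ (R : Sylow p H) (g : H), (R : Subgroup H) ⊓ MulAut.conj g • (R : Subgroup H) ≠ ⊥ →
      g ∈ Subgroup.normalizer ((R : Subgroup H) : Set H) := by
    intro R g hne
    obtain ⟨a, ha⟩ := MulAction.exists_smul_eq H P R
    rw [← ha, Sylow.coe_subgroup_smul] at hne ⊢
    rw [smul_smul, ← map_mul] at hne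
    have hne' : (P : Subgroup H) ⊓ MulAut.conj (a⁻¹ * (g * a)) • (P : Subgroup H) ≠ ⊥ := by
      intro h0
      apply hne
      have := congrArg (MulAut.conj a • ·) h0
      simpa [Subgroup.smul_inf, smul_smul, ← map_mul] using this
    have hn := by_contra fun hn => hne' (hTI _ hn)
    have e : MulAut.conj g • MulAut.conj a • (P : Subgroup H) = MulAut.conj a • (P : Subgroup H) := by
      have h2 : MulAut.conj (a⁻¹ * (g * a)) • (P : Subgroup H) = (P : Subgroup H) := by
        ext y
        rw [Subgroup.mem_pointwise_smul_iff_inv_smul_mem]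
        rw [Subgroup.mem_normalizer_iff''] at hn
        simpa [mul_assoc] using (hn y).symm
      have h3 := congrArg (MulAut.conj a • ·) h2
      simpa [smul_smul, ← map_mul] using h3
    rw [Subgroup.mem_normalizer_iff]
    intro y
    conv_rhs => rw [← e]
    exact (Subgroup.smul_mem_pointwise_smul_iff (a := MulAut.conj g)
      (S := MulAut.conj a • (P : Subgroup H)) (x := y)).symm
  -- something centralizing a nontrivial part of a Sylow subgroup normalizes it
  have hcent : ∀ (R : Sylow p H) (D : Subgroup H), D ≠ ⊥ → D ≤ R → ∀ g : H,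
      (∀ d ∈ D, g * d = d * g) → g ∈ Subgroup.normalizer ((R : Subgroup H) : Set H) := by
    intro R D hD hle g hg
    refine hTI' R g fun h0 => hD (le_bot_iff.1 fun d hd => h0 ▸ Subgroup.mem_inf.2 ⟨hle hd, ?_⟩)
    rw [Subgroup.mem_pointwise_smul_iff_inv_smul_mem]
    have : g⁻¹ * d * g = d := by rw [mul_assoc, ← hg d hd, inv_mul_cancel_left]
    simpa [this] using hle hd
  have hdvd : ∀ K : Subgroup H, K.Normal → K ≠ ⊥ → p ∣ Nat.card K := by
    intro K hK hK1
    by_contra h
    haveI := hK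
    exact hK1 (le_bot_iff.1 (hOp' ▸ Cfsg.Agent.Cores.le_pPrimeCore
      (Nat.Coprime.symm ((Fact.out : p.Prime).coprime_iff_not_dvd.2 h))))
  have hcoreK : ∀ K : Subgroup H, K.Normal → Cfsg.pCore p K = ⊥ := by
    intro K hK
    haveI := hK
    have := Cfsg.Agent.Cores.map_pCore_subtype_eq_inf p K
    rw [hOp, bot_inf_eq, Subgroup.map_eq_bot_iff_of_injective _ K.subtype_injective] at this
    exact this
  haveI : Nontrivial H := by
    obtain ⟨x, hx, hx1⟩ := Subgroup.ne_bot_iff_exists_ne_one.1 hP1 |>.elim fun x hx =>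
      (⟨(x : H), x.2, fun e => hx (Subtype.ext e)⟩ : ∃ y, y ∈ (P : Subgroup H) ∧ y ≠ 1)
    exact ⟨⟨x, 1, hx1⟩⟩
  obtain ⟨N, hNn, hN1, -, hNmin⟩ := exists_minimal (K := (⊤ : Subgroup H)) inferInstance top_ne_bot
  haveI := hNn
  -- uniqueness
  have huniq : ∀ K : Subgroup H, K.Normal → K ≠ ⊥ → N ≤ K := by
    intro K hK hK1
    haveI := hK
    by_cases h : N ⊓ K = ⊥
    · exfalso
      have hD := sylow_inf_ne_bot P N (hdvd N hNn hN1)
      have hKN : K ≤ Subgroup.normalizer ((P : Subgroup H) : Set H) := fun g hg =>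
        hcent P _ hD inf_le_left g fun d hd => (commute_of_inf_bot hNn hK h hd.2 hg).symm
      haveI : (((P : Subgroup H) ⊓ K).subgroupOf K).Normal := ⟨fun n hn g => by
        rw [Subgroup.mem_subgroupOf] at hn ⊢
        exact ⟨(Subgroup.mem_normalizer_iff.1 (hKN g.2) _).1 hn.1, hK.conj_mem _ hn.2 _⟩⟩
      have hle : ((P : Subgroup H) ⊓ K).subgroupOf K ≤ Cfsg.pCore p K :=
        Cfsg.Agent.Cores.le_pCore ((P.2.to_le inf_le_left).comap_subtype)
      rw [hcoreK K hK, le_bot_iff, Subgroup.subgroupOf_eq_bot,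
        disjoint_iff, inf_assoc, inf_idem] at hle
      exact sylow_inf_ne_bot P K (hdvd K hK hK1) (by simpa using hle)
    · exact inf_eq_left.1 (hNmin (N ⊓ K) inferInstance h inf_le_left)
  have hnc : ¬ IsMulCommutative N := by
    intro hc
    obtain ⟨Q⟩ : Nonempty (Sylow p N) := inferInstance
    haveI : (Q : Subgroup N).Normal := ⟨fun n hn g => by
      rwa [mul_comm' g n, mul_inv_cancel_right]⟩
    have := Cfsg.Agent.Cores.le_pCore Q.2
    rw [hcoreK N hNn, le_bot_iff] at this
    exact Q.ne_bot_of_dvd_card (hdvd N hNn hN1) this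
  have hC : Subgroup.centralizer (N : Set H) = ⊥ := by
    by_contra h
    have hle := huniq (Subgroup.centralizer (N : Set H)) inferInstance h
    exact hnc ⟨⟨fun a b => Subtype.ext (Subgroup.mem_centralizer_iff.1 (hle b.2) _ a.2)⟩⟩
  have hpN := hdvd N hNn hN1
  have hNp' : Cfsg.pPrimeCore p N = ⊥ := by
    have := Cfsg.Agent.Cores.map_pPrimeCore_subtype_eq_inf p N
    rw [hOp', bot_inf_eq, Subgroup.map_eq_bot_iff_of_injective _ N.subtype_injective] at this
    exact this
  haveI : Nontrivial N := (Subgroup.nontrivial_iff_ne_bot N).2 hN1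
  -- Sylow subgroups of `N` extend
  obtain ⟨S, hSn, hS1, -, hSmin⟩ :=
    exists_minimal (K := (⊤ : Subgroup N)) inferInstance top_ne_bot
  have hsimple : IsSimpleGroup N := by
    have hS : S = ⊤ := by
      by_contra hSt
      set T := S.map N.subtype
      have hTN : T ≤ N := Subgroup.map_subtype_le S
      obtain ⟨g, hg⟩ : ∃ g : H, ¬ MulAut.conj g • T ≤ T := by
        by_contra hall
        push Not at hall
        have hTn : T.Normal := ⟨fun n hn g => hall g
          (by simpa using Subgroup.smul_mem_pointwise_smul n (MulAut.conj g) T hn)⟩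
        have hT1 : T ≠ ⊥ := fun e => hS1 ((Subgroup.map_eq_bot_iff_of_injective _ N.subtype_injective).1 e)
        apply hSt
        have hTeq : T = N := hNmin T hTn hT1 hTN
        rw [Subgroup.eq_top_iff']
        intro a
        obtain ⟨b, hb, he⟩ := (show (a : H) ∈ T from hTeq.symm ▸ a.2)
        exact Subtype.ext he ▸ hb
      set T' := (MulAut.conj g • T).subgroupOf N
      have hT'N : MulAut.conj g • T ≤ N := by
        intro y hy
        rw [Subgroup.mem_pointwise_smul_iff_inv_smul_mem] at hy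
        have := hNn.conj_mem _ (hTN hy) g
        simpa [mul_assoc] using this
      haveI hT'n : T'.Normal := ⟨fun n hn m => by
        rw [Subgroup.mem_subgroupOf, Subgroup.mem_pointwise_smul_iff_inv_smul_mem] at hn ⊢
        obtain ⟨s, hs, hse⟩ := hn
        let m' : N := ⟨g⁻¹ * m * g, by simpa using hNn.conj_mem _ m.2 g⁻¹⟩
        refine ⟨m' * s * m'⁻¹, hSn.conj_mem _ hs _, ?_⟩
        rw [map_mul, map_mul, map_inv, hse]
        simp [m', mul_assoc]⟩
      haveI := hSn
      have hdisj : S ⊓ T' = ⊥ := by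
        by_contra h
        have hle : S ≤ T' := inf_eq_left.1 (hSmin _ inferInstance h inf_le_left)
        have hle' : T ≤ MulAut.conj g • T := by
          rintro _ ⟨s, hs, rfl⟩
          exact hle hs
        exact hg (Subgroup.eq_of_le_of_card_ge hle'
          (le_of_eq (Nat.card_congr (Subgroup.equivSMul (MulAut.conj g) T).toEquiv.symm))).ge
      have hT'1 : T' ≠ ⊥ := by
        intro e
        rw [Subgroup.subgroupOf_eq_bot, disjoint_iff, inf_eq_left.2 hT'N] at e
        have := congrArg ((MulAut.conj g)⁻¹ • ·) e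
        simp only [inv_smul_smul, Subgroup.smul_bot] at this
        exact hS1 ((Subgroup.map_eq_bot_iff_of_injective _ N.subtype_injective).1 this)
      have hd : ∀ K : Subgroup N, K.Normal → K ≠ ⊥ → p ∣ Nat.card K := by
        intro K hK hK1
        by_contra h
        haveI := hK
        exact hK1 (le_bot_iff.1 (hNp' ▸ Cfsg.Agent.Cores.le_pPrimeCore
          (Nat.Coprime.symm (hp.coprime_iff_not_dvd.2 h))))
      obtain ⟨Q⟩ : Nonempty (Sylow p N) := inferInstance
      obtain ⟨R, hR⟩ := (Q.2.map N.subtype).exists_le_sylow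
      have hD := sylow_inf_ne_bot Q S (hd S hSn hS1)
      have hD' : ((Q : Subgroup N) ⊓ S).map N.subtype ≠ ⊥ := fun e =>
        hD ((Subgroup.map_eq_bot_iff_of_injective _ N.subtype_injective).1 e)
      have hTR : ∀ t ∈ T', (t : H) ∈ Subgroup.normalizer ((R : Subgroup H) : Set H) := fun t ht =>
        hcent R _ hD' ((Subgroup.map_mono inf_le_left).trans hR) _ (by
          rintro _ ⟨d, hd, rfl⟩
          exact congrArg Subtype.val (commute_of_inf_bot hSn hT'n hdisj hd.2 ht).symm)
      set E := (R : Subgroup H).subgroupOf N ⊓ T'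
      haveI : (E.subgroupOf T').Normal := ⟨fun e he t => by
        rw [Subgroup.mem_subgroupOf] at he ⊢
        exact ⟨(Subgroup.mem_normalizer_iff.1 (hTR t t.2) _).1 he.1, T'.mul_mem (T'.mul_mem t.2 he.2) (T'.inv_mem t.2)⟩⟩
      have hEle : E.subgroupOf T' ≤ Cfsg.pCore p T' :=
        Cfsg.Agent.Cores.le_pCore (((R.2.comap_subtype (K := N)).to_le inf_le_left).comap_subtype)
      have hT'core : Cfsg.pCore p T' = ⊥ := by
        have := Cfsg.Agent.Cores.map_pCore_subtype_eq_inf p T'
        rw [hcoreK N hNn, bot_inf_eq, Subgroup.map_eq_bot_iff_of_injective _ T'.subtype_injective] at this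
        exact this
      rw [hT'core, le_bot_iff, Subgroup.subgroupOf_eq_bot, disjoint_iff, inf_assoc, inf_idem] at hEle
      apply sylow_inf_ne_bot Q T' (hd T' hT'n hT'1)
      refine le_bot_iff.1 fun y hy => hEle ▸ ⟨?_, hy.2⟩
      exact hR ⟨y, hy.1, rfl⟩
    refine { eq_bot_or_eq_top_of_normal := fun K hK => ?_ }
    refine or_iff_not_imp_left.2 fun hK1 => ?_
    rw [← hS]
    exact hSmin K hK hK1 (hS ▸ le_top)
  refine ⟨N, hNn, hN1, huniq, hsimple, hnc, hC, fun Q => ⟨Q.ne_bot_of_dvd_card hpN, fun n hn => ?_⟩⟩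
  obtain ⟨R, hR⟩ := (Q.2.map N.subtype).exists_le_sylow
  have hQ : (R : Subgroup H).subgroupOf N = (Q : Subgroup N) :=
    Q.3 (R.2.comap_subtype) fun y hy => hR ⟨y, hy, rfl⟩
  by_contra hne
  apply hn
  have hnR : (n : H) ∈ Subgroup.normalizer ((R : Subgroup H) : Set H) := by
    refine hTI' R n fun h0 => hne (le_bot_iff.1 fun y hy => ?_)
    have : (y : H) ∈ (⊥ : Subgroup H) := h0 ▸ ⟨hR ⟨y, hy.1, rfl⟩, by
      obtain ⟨z, hz, rfl⟩ := hy.2
      exact ⟨(z : H), hR ⟨z, hz, rfl⟩, rfl⟩⟩
    exact Subgroup.mem_bot.2 (Subtype.ext (Subgroup.mem_bot.1 this))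
  rw [← hQ, Subgroup.mem_normalizer_iff]
  exact fun y => (Subgroup.mem_normalizer_iff.1 hnR y)

end Cfsg.Agent.S4620
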