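import Cfsg.Statements.S4623
import Cfsg.Agent.BlockCharsA.SymSylowGens

set_option autoImplicit false
open Cfsg

namespace Cfsg.Agent.S4623

/-- For every prime p and every n, a Sylow p-subgroup P of the symmetric group on n letters has P/P' elementary abelian (the p-th power of every element of P lies in the derived subgroup of P), and the same holds for a Sylow p-subgroup of the alternating group on n letters. -/
theorem result (p : ℕ) [Fact p.Prime] (n : ℕ) (P : Sylow p (Equiv.Perm (Fin n))) (Q : Sylow p (alternatingGroup (Fin n))) :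
    (∀ x : (P : Subgroup (Equiv.Perm (Fin n))), x ^ p ∈ commutator (P : Subgroup (Equiv.Perm (Fin n)))) ∧
    (∀ x : (Q : Subgroup (alternatingGroup (Fin n))), x ^ p ∈ commutator (Q : Subgroup (alternatingGroup (Fin n)))) := by
  classical
  have hpp : p.Prime := Fact.out
  obtain ⟨P₀, T, E, hgen, hord, hcomm, hE⟩ := Cfsg.Agent.BlockCharsA.SymSylow.exists_gens p n
  have hP₀ := Cfsg.Agent.BlockCharsA.SymSylow.closure_top_of_gen p _ _ hgen hord
  refine ⟨fun x => Cfsg.Agent.BlockCharsA.SymSylow.pow_mem_commutator p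
    (Cfsg.Agent.BlockCharsA.SymSylow.closure_top_map p (P₀.equiv P) hP₀) x, ?_⟩
  set B : Subgroup (Equiv.Perm (Fin n)) := (P₀ : Subgroup (Equiv.Perm (Fin n))) with hB
  have hidx : ¬ p ∣ (B.subgroupOf (alternatingGroup (Fin n))).index := by
    have hx : (B ⊓ (alternatingGroup (Fin n))).relIndex B ≠ 0 := Subgroup.index_ne_zero_of_finite
    have h1 : B.relIndex (B ⊔ (alternatingGroup (Fin n))) = B.relIndex (alternatingGroup (Fin n)) := by
      refine mul_left_cancel₀ hx ?_
      rw [Subgroup.relIndex_mul_relIndex _ _ _ inf_le_left le_sup_left,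
        ← Subgroup.relIndex_mul_relIndex (B ⊓ (alternatingGroup (Fin n))) (alternatingGroup (Fin n)) (B ⊔ (alternatingGroup (Fin n))) inf_le_right le_sup_right,
        Subgroup.inf_relIndex_right, Subgroup.relIndex_sup_right, Subgroup.inf_relIndex_left,
        mul_comm]
    intro h
    have h' : p ∣ B.relIndex (B ⊔ (alternatingGroup (Fin n))) := by rw [h1]; exact h
    exact P₀.not_dvd_index (h'.trans (Subgroup.relIndex_dvd_index_of_le le_sup_left))
  set Q₀ : Sylow p (alternatingGroup (Fin n)) := IsPGroup.toSylow (P₀.isPGroup'.comap_subtype (K := (alternatingGroup (Fin n)))) hidx with hQ₀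
  have hgenA : ∃ S, B ⊓ (alternatingGroup (Fin n)) = Subgroup.closure S ∧ ∀ s ∈ S, s ^ p = 1 := by
    rcases hpp.eq_two_or_odd' with rfl | hodd
    · obtain ⟨S, h1, h2⟩ := Cfsg.Agent.BlockCharsA.SymSylow.gens_inf_ker Equiv.Perm.sign T E hord
        hcomm (fun e he => hE rfl e he)
      exact ⟨S, by rw [← h1, hgen]; rfl, h2⟩
    · refine ⟨T ∪ E, ?_, hord⟩
      rw [hgen, inf_eq_left, Subgroup.closure_le]
      intro s hs
      have h := congrArg Equiv.Perm.sign (hord s hs)
      rw [map_pow, map_one] at h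
      show Equiv.Perm.sign s = 1
      rcases Int.units_eq_one_or (Equiv.Perm.sign s) with h1 | h1
      · exact h1
      · rw [h1, hodd.neg_one_pow] at h
        exact absurd h (by decide)
  obtain ⟨S, hS, hSord⟩ := hgenA
  have e : (Q₀ : Subgroup (alternatingGroup (Fin n))) ≃* (B ⊓ (alternatingGroup (Fin n)) : Subgroup (Equiv.Perm (Fin n))) :=
    (MulEquiv.subgroupCongr (Subgroup.inf_subgroupOf_right B (alternatingGroup (Fin n))).symm).trans
      (Subgroup.subgroupOfEquivOfLe inf_le_right)
  have hQ₀' := Cfsg.Agent.BlockCharsA.SymSylow.closure_top_map p e.symm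
    (Cfsg.Agent.BlockCharsA.SymSylow.closure_top_of_gen p _ _ hS hSord)
  exact fun x => Cfsg.Agent.BlockCharsA.SymSylow.pow_mem_commutator p
    (Cfsg.Agent.BlockCharsA.SymSylow.closure_top_map p (Q₀.equiv Q) hQ₀') x

end Cfsg.Agent.S4623
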