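import Cfsg.Statements.S4624
import Cfsg.Agent.Lib.Classical.SylowWreathGL
import Cfsg.Agent.Lib.Classical.Symplectic

set_option autoImplicit false
open Cfsg

namespace Cfsg.Agent.S4624

/-- Let F be a finite field of odd order and n ≥ 1. A Sylow 2-subgroup P of the symplectic group Sp_{2n}(F) has P/P' elementary abelian: the square of every element of P lies in the derived subgroup of P. -/
theorem result {F : Type*} [Field F] [Fintype F] (hF : Odd (Fintype.card F)) (n : ℕ) (hn : 1 ≤ n) (P : Sylow 2 (Matrix.symplecticGroup (Fin n) F)) :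
    ∀ x : (P : Subgroup (Matrix.symplecticGroup (Fin n) F)), x ^ 2 ∈ commutator (P : Subgroup (Matrix.symplecticGroup (Fin n) F)) := by
  classical
  open Classical.WreathSq Matrix in
  exact by
    have hq1 := Fintype.one_lt_card (α := F)
    obtain ⟨R⟩ : Nonempty (Sylow 2 (SpecialLinearGroup (Fin 2) F)) := inferInstance
    obtain ⟨T⟩ : Nonempty (Sylow 2 (Equiv.Perm (Fin n))) := inferInstance
    let ρ : (R : Subgroup (SpecialLinearGroup (Fin 2) F)) →* Matrix (Fin 2) (Fin 2) F :=
      { toFun := fun r => r.1.1, map_one' := rfl, map_mul' := fun _ _ => rfl }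
    have hρ : Function.Injective ρ := fun x y h => Subtype.ext (Subtype.ext h)
    let e : Fin 2 × Fin n ≃ Fin n ⊕ Fin n :=
      ((finTwoEquiv.prodCongr (Equiv.refl _)).trans (Equiv.boolProdEquivSum _))
    let J₂ : Matrix (Fin 2) (Fin 2) F := !![0, -1; 1, 0]
    have hJ : Matrix.reindexAlgEquiv F F e (blockMono (fun _ => J₂) 1) = Matrix.J (Fin n) F := by
      ext x y
      rcases x with i | i <;> rcases y with j | j <;>
        simp [e, J₂, blockMono, Matrix.J, Matrix.one_apply, finTwoEquiv, eq_comm] <;>
        split_ifs <;> simp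
    have hmem : ∀ w : Wr (R : Subgroup (SpecialLinearGroup (Fin 2) F)) (Fin n)
        (T : Subgroup (Equiv.Perm (Fin n))),
        Matrix.reindexAlgEquiv F F e (wrMono ρ w) ∈ symplecticGroup (Fin n) F := by
      intro w
      rw [SymplecticGroup.mem_iff, ← hJ, Matrix.coe_reindexAlgEquiv, Matrix.transpose_reindex,
        ← Matrix.coe_reindexAlgEquiv F F e, ← map_mul, ← map_mul]
      congr 1
      rw [wrMono_apply, blockMono_transpose, blockMono_mul, blockMono_mul, mul_one, mul_inv_cancel]
      congr 1
      funext i
      set A : Matrix (Fin 2) (Fin 2) F := ρ (w.left i) with hA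
      have hdet : A.det = 1 := (w.left i).1.2
      rw [Matrix.det_fin_two] at hdet
      simp only [Equiv.Perm.coe_inv, Equiv.apply_symm_apply]
      rw [← hA]
      ext a b
      fin_cases a <;> fin_cases b <;>
        simp [J₂, Matrix.mul_apply, Fin.sum_univ_two] <;>
        first | ring1 | linear_combination hdet | linear_combination (-1 : F) * hdet
    let φ := MonoidHom.codRestrict
      ((Matrix.reindexAlgEquiv F F e).toRingEquiv.toMonoidHom.comp
        (wrMono (T := (T : Subgroup (Equiv.Perm (Fin n)))) ρ)) (symplecticGroup (Fin n) F) hmem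
    have hφ : Function.Injective φ := fun x y h => wrMono_injective ρ hρ
      ((Matrix.reindexAlgEquiv F F e).injective (congrArg Subtype.val h))
    obtain ⟨g⟩ := equiv_sylow φ hφ (by
      rw [SemidirectProduct.card, Nat.card_fun, Nat.card_eq_fintype_card (α := Fin n),
        Fintype.card_fin, R.card_eq_multiplicity, T.card_eq_multiplicity, ← pow_mul, ← pow_add,
        Classical.GL2.natCard_SL_two, fac_SL_two hF hq1, Classical.Symplectic.natCard_sp,
        fac_sp hF hq1, Nat.card_perm, Nat.card_eq_fintype_card, Fintype.card_fin, mul_comm]) P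
    exact sqComm_congr g (sqComm_wr (sqComm_SL2_sylow hF R) (sqComm_perm_sylow T))

end Cfsg.Agent.S4624
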