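import Cfsg.Statements.S4626
import Cfsg.Agent.Lib.Blocks.Defect
import Cfsg.Agent.Lib.CharTheory.DegreeIndex
import Cfsg.Agent.Lib.Blocks.Covering

set_option autoImplicit false
open Cfsg Cfsg.Agent.Blocks Cfsg.Agent.Characters Cfsg.Agent.CharTheory

namespace Cfsg.Agent.S4626

/-- Let G be a finite group, p a prime, M a maximal ideal of the algebraic integers containing p, P a Sylow p-subgroup of G and N a normal subgroup of index prime to p containing the centralizer C_G(P). Then every irreducible character of G whose kernel contains N lies in the principal p-block of G. -/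
theorem result {G : Type*} [Group G] [Finite G] (p : ℕ) [Fact p.Prime] (M : Ideal Cfsg.AlgInt) (hM : Cfsg.IsPModular p M) (P : Sylow p G) (N : Subgroup G) [N.Normal] (hidx : ¬ p ∣ N.index)
    (hC : Subgroup.centralizer ((P : Subgroup G) : Set G) ≤ N) (χ : Cfsg.IrrCharacter G) (hker : ∀ n ∈ N, (χ : G → ℂ) n = (χ : G → ℂ) 1) :
    χ ∈ Cfsg.principalBlock M G := by
  classical
  haveI := Fintype.ofFinite G
  haveI := Fintype.ofFinite N
  intro g
  have hone : (χ : G → ℂ) 1 ≠ 0 := irr_one_ne_zero χ.2
  have hd : ¬ p ∣ Cfsg.charDegree (χ : G → ℂ) := fun h => hidx (h.trans (by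
    refine DegreeIndex.ramification_dvd_index N (θ := fun _ => (1 : ℂ)) isIrrCharacter_one
      (fun _ => rfl) χ.2 ?_ (charDegree_pos χ).ne'
    rw [classInner_def, Finset.sum_congr rfl fun n _ => by rw [hker n n.2, map_one, mul_one],
      Finset.sum_const, Finset.card_univ, nsmul_eq_mul, ← Nat.card_eq_fintype_card,
      inv_mul_cancel_left₀ natCard_ne_zero, charDegree_cast]))
  unfold Cfsg.centralChar
  set K := (Subgroup.centralizer ({g} : Set G)).index with hK
  rw [div_one, mul_one]
  by_cases hp : p ∣ K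
  · have hrw : (K : ℂ) - (K : ℂ) * (χ : G → ℂ) g / (χ : G → ℂ) 1 =
        (K : ℂ) * (1 - (χ : G → ℂ) g * ((Cfsg.charDegree (χ : G → ℂ) : ℕ) : ℂ)⁻¹) := by
      rw [charDegree_cast]; ring
    rw [hrw]
    exact ideal_mul_right hM ((ideal_natCast_iff hM K).2 hp) (ring_sub hM (ring_one hM)
      (ring_mul hM (ring_of_isIntegral hM (char_value_isIntegral (irr_isCharacter χ) g))
        (ring_inv_natCast hM hd)))
  · obtain ⟨R, hR⟩ : ∃ R : Sylow p G, (R : Subgroup G) ≤ Subgroup.centralizer ({g} : Set G) := by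
      obtain ⟨Q⟩ : Nonempty (Sylow p (Subgroup.centralizer ({g} : Set G))) := inferInstance
      obtain ⟨R, hR⟩ := (Q.2.map (Subgroup.centralizer ({g} : Set G)).subtype).exists_le_sylow
      refine ⟨R, le_of_eq_of_le ?_ (Subgroup.map_subtype_le (Q : Subgroup _))⟩
      refine (Subgroup.eq_of_le_of_card_ge hR ?_).symm
      rw [Subgroup.card_subtype, Q.card_eq_multiplicity, R.card_eq_multiplicity,
        ← (Subgroup.centralizer ({g} : Set G)).card_mul_index,
        Nat.factorization_mul Nat.card_pos.ne' Subgroup.index_ne_zero_of_finite, Finsupp.add_apply,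
        Nat.factorization_eq_zero_of_not_dvd hp, add_zero]
    obtain ⟨c, hc⟩ := MulAction.exists_smul_eq G P R
    have hg : c⁻¹ * g * c ∈ N := hC (Subgroup.mem_centralizer_iff.2 fun x hx => by
      have hm : c * x * c⁻¹ ∈ R := by
        rw [← hc, ← SetLike.mem_coe, Sylow.coe_smul]; exact ⟨x, hx, rfl⟩
      have := Subgroup.mem_centralizer_singleton_iff.1 (hR hm)
      calc x * (c⁻¹ * g * c) = c⁻¹ * ((c * x * c⁻¹) * g) * c := by group
        _ = c⁻¹ * (g * (c * x * c⁻¹)) * c := by rw [this]
        _ = c⁻¹ * g * c * x := by group)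
    have hgN : g ∈ N := by
      have := ‹N.Normal›.conj_mem _ hg c
      simpa [mul_assoc] using this
    rw [hker g hgN, mul_div_assoc, div_self hone, mul_one, sub_self]
    exact ideal_zero hM

end Cfsg.Agent.S4626
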