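import Cfsg.Statements.S4627
import Cfsg.Agent.Lib.Classical.SylowWreathGL

set_option autoImplicit false
open Cfsg

namespace Cfsg.Agent.S4627

/-- Let F be a finite field of odd order q and m ≥ 1. If 4 divides q + 1, or if 4 divides q − 1 and m is a power of 2, then a Sylow 2-subgroup P of SL_{2m}(F) has P/P' elementary abelian: the square of every element of P lies in the derived subgroup of P. -/
theorem result {F : Type*} [Field F] [Fintype F] (hF : Odd (Fintype.card F)) (m : ℕ) (hm : 1 ≤ m)
    (hq : 4 ∣ Fintype.card F + 1 ∨ (4 ∣ Fintype.card F - 1 ∧ ∃ j : ℕ, m = 2 ^ j)) (P : Sylow 2 (Matrix.SpecialLinearGroup (Fin (2 * m)) F)) :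
    ∀ x : (P : Subgroup (Matrix.SpecialLinearGroup (Fin (2 * m)) F)), x ^ 2 ∈ commutator (P : Subgroup (Matrix.SpecialLinearGroup (Fin (2 * m)) F)) := by
  classical
  open Classical.WreathSq Matrix in
  exact by
    have hq1 := Fintype.one_lt_card (α := F)
    obtain ⟨A, R, χ, c, hc, hχ, hcA, hcR, hQ⟩ := exists_block (F := F) hF
    obtain ⟨T⟩ : Nonempty (Sylow 2 (Equiv.Perm (Fin m))) := inferInstance
    haveI : Nonempty (Fin m) := ⟨⟨0, hm⟩⟩
    let X := (prodDet (ι := Fin m) (T := (T : Subgroup (Equiv.Perm (Fin m)))) χ).ker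
    have hA : (∀ a : A, a ^ 2 = 1) ∨
        MulAction.IsPretransitive (T : Subgroup (Equiv.Perm (Fin m))) (Fin m) := by
      rcases hq with h4 | ⟨-, j, hj⟩
      · refine Or.inl fun a => ?_
        have hA2 : Nat.card A = 2 := by
          obtain ⟨k, hk⟩ := h4
          rw [hcA, show Fintype.card F - 1 = 2 * (2 * k - 1) by omega,
            Nat.factorization_mul two_ne_zero (by omega), Finsupp.add_apply,
            Nat.Prime.factorization_self Nat.prime_two,
            Nat.factorization_eq_zero_of_not_dvd (show ¬ 2 ∣ 2 * k - 1 by omega)]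
          norm_num
        rw [← hA2]
        exact pow_card_eq_one'
      · exact Or.inr (Cfsg.Agent.Perm.Basic.sylow_isPretransitive (f := j) (by simp [hj]) T)
    let e : Fin 2 × Fin m ≃ Fin (2 * m) := finProdFinEquiv
    let φ : X →* Matrix.SpecialLinearGroup (Fin (2 * m)) F :=
      { toFun := fun x => ⟨Matrix.reindexAlgEquiv F F e (wrMono (blockRep R) x.1), by
          rw [Matrix.coe_reindexAlgEquiv, Matrix.det_reindex_self, det_wrMono]
          have h : ∏ i, χ (x.1.left i) = 1 := x.2
          have h' := congrArg (fun a : A => ((a : Fˣ) : F)) h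
          simp only [SubmonoidClass.coe_finsetProd, Units.coe_prod, OneMemClass.coe_one,
            Units.val_one, hχ] at h'
          exact h'⟩
        map_one' := Subtype.ext (by simp)
        map_mul' := fun x y => Subtype.ext (by
          show Matrix.reindexAlgEquiv F F e (wrMono (blockRep R) (x.1 * y.1)) =
            Matrix.reindexAlgEquiv F F e _ * Matrix.reindexAlgEquiv F F e _
          rw [map_mul, map_mul]) }
    have hφ : Function.Injective φ := fun x y h => Subtype.ext
      (wrMono_injective _ (blockRep_injective R)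
        ((Matrix.reindexAlgEquiv F F e).injective (congrArg Subtype.val h)))
    obtain ⟨g⟩ := equiv_sylow φ hφ (by
      have h1 := index_prodDet (ι := Fin m) (T := (T : Subgroup (Equiv.Perm (Fin m))))
        (χ := χ) (fun a => ⟨c a, hc a⟩)
      rw [hcA, hcR, T.card_eq_multiplicity, Fintype.card_fin, ← pow_mul, ← pow_add, Nat.card_perm,
        Nat.card_eq_fintype_card (α := Fin m), Fintype.card_fin] at h1
      have h2 := (fac_GL hF hq1 m).1
      rw [← Classical.Linear.natCard_GL_fin (F := F) (2 * m)] at h2
      haveI : Nonempty (Fin (2 * m)) := ⟨⟨0, by omega⟩⟩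
      rw [Classical.Linear.natCard_GL_eq_mul, Nat.factorization_mul (by omega) Nat.card_pos.ne',
        Finsupp.add_apply] at h2
      refine Nat.eq_of_mul_eq_mul_right (pow_pos two_pos _) (h1.trans ?_)
      rw [← pow_add]
      congr 1
      rw [mul_comm _ m]
      omega) P
    exact sqComm_congr g (sqComm_ker c hc hQ (sqComm_perm_sylow T) hA)

end Cfsg.Agent.S4627
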