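import Cfsg.Statements.S4628
import Cfsg.Agent.Lib.Classical.SylowWreathGL

set_option autoImplicit false
open Cfsg

namespace Cfsg.Agent.S4628

/-- Let F be a finite field of odd order q with 4 dividing q + 1, and m ≥ 1. Then a Sylow 2-subgroup P of SL_{2m+1}(F) has P/P' elementary abelian: the square of every element of P lies in the derived subgroup of P. -/
theorem result {F : Type*} [Field F] [Fintype F] (hF : Odd (Fintype.card F)) (hq : 4 ∣ Fintype.card F + 1) (m : ℕ) (hm : 1 ≤ m) (P : Sylow 2 (Matrix.SpecialLinearGroup (Fin (2 * m + 1)) F)) :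
    ∀ x : (P : Subgroup (Matrix.SpecialLinearGroup (Fin (2 * m + 1)) F)), x ^ 2 ∈ commutator (P : Subgroup (Matrix.SpecialLinearGroup (Fin (2 * m + 1)) F)) := by
  classical
  open Classical.WreathSq Matrix in
  exact by
    have hq1 := Fintype.one_lt_card (α := F)
    obtain ⟨A, R, χ, c, hc, hχ, hcA, hcR, hQ⟩ := exists_block (F := F) hF
    obtain ⟨T⟩ : Nonempty (Sylow 2 (Equiv.Perm (Fin m))) := inferInstance
    haveI : Nonempty (Fin m) := ⟨⟨0, hm⟩⟩
    have hv1 : (Fintype.card F - 1).factorization 2 = 1 := by
      obtain ⟨k, hk⟩ := hq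
      rw [show Fintype.card F - 1 = 2 * (2 * k - 1) by omega,
        Nat.factorization_mul two_ne_zero (by omega), Finsupp.add_apply,
        Nat.Prime.factorization_self Nat.prime_two,
        Nat.factorization_eq_zero_of_not_dvd (show ¬ 2 ∣ 2 * k - 1 by omega)]
    have hA : ∀ a : A, a ^ 2 = 1 := fun a => by
      have hA2 : Nat.card A = 2 := by rw [hcA, hv1, pow_one]
      rw [← hA2]
      exact pow_card_eq_one'
    have hR : SqComm R := by
      intro r
      have hr : r * (c (χ r))⁻¹ ∈ χ.ker := by
        rw [MonoidHom.mem_ker, map_mul, map_inv, hc, mul_inv_cancel]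
      rw [← mem_sqSet, show r = χ.ker.subtype ⟨_, hr⟩ * c (χ r) by simp]
      refine mul_mem (map_mem_sqSet _ hQ _) ?_
      rw [mem_sqSet, ← map_pow, hA, map_one]
      exact one_mem _
    let W := Wr R (Fin m) (T : Subgroup (Equiv.Perm (Fin m)))
    let d : W →* F := (Units.coeHom F).comp ((Subgroup.subtype A).comp (prodDet χ))⁻¹
    let e : (Fin 2 × Fin m) ⊕ Fin 1 ≃ Fin (2 * m + 1) :=
      (finProdFinEquiv.sumCongr (Equiv.refl _)).trans finSumFinEquiv
    let φ : W →* Matrix.SpecialLinearGroup (Fin (2 * m + 1)) F :=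
      { toFun := fun w => ⟨Matrix.reindexAlgEquiv F F e
          (Matrix.fromBlocks (wrMono (blockRep R) w) 0 0 (Matrix.diagonal fun _ => d w)), by
          rw [Matrix.coe_reindexAlgEquiv, Matrix.det_reindex_self, Matrix.det_fromBlocks_zero₂₁,
            det_wrMono, Matrix.det_diagonal, Fin.prod_univ_one]
          have h : ∏ i, (blockRep R (w.left i)).det = (((prodDet χ w : A) : Fˣ) : F) := by
            rw [prodDet_apply, SubmonoidClass.coe_finsetProd, Units.coe_prod]
            exact Finset.prod_congr rfl fun i _ => by rw [hχ]; rfl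
          rw [h]
          show _ * ((((prodDet χ w : A) : Fˣ)⁻¹ : Fˣ) : F) = 1
          exact Units.mul_inv _⟩
        map_one' := Subtype.ext (by simp)
        map_mul' := fun x y => Subtype.ext (by
          show Matrix.reindexAlgEquiv F F e _ =
            Matrix.reindexAlgEquiv F F e _ * Matrix.reindexAlgEquiv F F e _
          rw [← map_mul, Matrix.fromBlocks_multiply]
          simp [Matrix.diagonal_mul_diagonal, map_mul]) }
    have hφ : Function.Injective φ := fun x y h => by
      have h' := (Matrix.reindexAlgEquiv F F e).injective (congrArg Subtype.val h)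
      exact wrMono_injective _ (blockRep_injective R) (Matrix.fromBlocks_inj.1 h').1
    obtain ⟨g⟩ := equiv_sylow φ hφ (by
      rw [SemidirectProduct.card, Nat.card_fun, hcR, T.card_eq_multiplicity,
        Nat.card_eq_fintype_card (α := Fin m), Fintype.card_fin, ← pow_mul, ← pow_add, Nat.card_perm,
        Nat.card_eq_fintype_card (α := Fin m), Fintype.card_fin]
      have h2 := (fac_GL hF hq1 m).2
      rw [← Classical.Linear.natCard_GL_fin (F := F) (2 * m + 1)] at h2
      rw [Classical.Linear.natCard_GL_eq_mul, Nat.factorization_mul (by omega) Nat.card_pos.ne',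
        Finsupp.add_apply] at h2
      congr 1
      rw [mul_comm _ m]
      omega) P
    exact sqComm_congr g (sqComm_wr hR (sqComm_perm_sylow T))

end Cfsg.Agent.S4628
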