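import Cfsg.Statements.S4633
import Cfsg.Agent.Lib.Blocks.InertialIndex
import Cfsg.Agent.Lib.Blocks.HarrisKnorr
import Cfsg.Agent.BlockCharsA.BrauerPairs
import Cfsg.Agent.Lib.CharTheory.BrauerSuzuki.Complement

set_option autoImplicit false
open Cfsg
set_option linter.style.haveILetI false

namespace Cfsg.Agent.S4633
open Cfsg.Agent.Blocks Cfsg.Agent.BlockCharsA.BrauerPairs
/-- Let B be a block of the finite group G relative to a maximal ideal M of the algebraic integers containing the prime p, with a nontrivial cyclic defect group P. Let c be a block of C_G(P) inducing B and T the stabilizer of c in N_G(P) (the elements of N_G(P) conjugating c to itself); T contains C_G(P). Then T/C_G(P) is cyclic of order dividing p − 1, and it acts freely on the non-identity elements of P: an element of T fixing some non-identity element of P under conjugation lies in C_G(P). -/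
theorem result {G : Type*} [Group G] [Finite G] (p : ℕ) [Fact p.Prime] (M : Ideal Cfsg.AlgInt) (hM : Cfsg.IsPModular p M) (B : Set (Cfsg.IrrCharacter G)) (hB : Cfsg.IsPBlock M B) (P : Subgroup G) (hPD : Cfsg.IsDefectGroup p M B P) (hP1 : P ≠ ⊥) (hcyc : IsCyclic P) (c : Set (Cfsg.IrrCharacter (Subgroup.centralizer (P : Set G)))) (hc : Cfsg.IsInducedBlock M (Subgroup.centralizer (P : Set G)) c B) (T : Subgroup G) (hT : ∀ g : G, g ∈ T ↔ (g ∈ Subgroup.normalizer (P : Set G) ∧ Cfsg.StabilizesBlock (Subgroup.centralizer (P : Set G)) c g)) [hn : ((Subgroup.centralizer (P : Set G)).subgroupOf T).Normal] : IsCyclic (T ⧸ (Subgroup.centralizer (P : Set G)).subgroupOf T) ∧ (Subgroup.centralizer (P : Set G)).relIndex T ∣ p - 1 ∧ ∀ g ∈ T, ∀ x ∈ P, x ≠ 1 → g * x * g⁻¹ = x → g ∈ Subgroup.centralizer (P : Set G) := by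
  classical
  haveI := Fintype.ofFinite G
  haveI := Fintype.ofFinite (Subgroup.centralizer (P : Set G))
  haveI := hcyc
  haveI := hn
  have hPp := isPGroup_defect hPD
  obtain ⟨⟨x, hxP⟩, hx⟩ := IsCyclic.exists_generator (α := P)
  have hgen : ∀ z ∈ P, ∃ i : ℤ, x ^ i = z := fun z hz => by
    obtain ⟨i, hi⟩ := Subgroup.mem_zpowers_iff.1 (hx ⟨z, hz⟩)
    exact ⟨i, congrArg Subtype.val hi⟩
  have hPC : P ≤ Subgroup.centralizer (P : Set G) := fun z hz =>
    Subgroup.mem_centralizer_iff.2 fun w hw => by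
      obtain ⟨i, rfl⟩ := hgen z hz
      obtain ⟨j, rfl⟩ := hgen w hw
      rw [← zpow_add, ← zpow_add, add_comm]
  -- the defect group of the local block
  have hcP : Cfsg.IsDefectGroup p M c (P.subgroupOf (Subgroup.centralizer (P : Set G))) := by
    obtain ⟨Q, hQ⟩ := exists_defectGroup hM hc.1
    haveI : (P.subgroupOf (Subgroup.centralizer (P : Set G))).Normal :=
      normal_subgroupOf (centralizer_le_normalizer' P)
    have hle := normal_le_defect hM (isPGroup_subgroupOf hPp hPC) hc.1 hQ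
    obtain ⟨E, hE, hQE⟩ := exists_defect_le_of_induced hM hc hQ
    rwa [Subgroup.eq_of_le_of_card_ge hle ?_]
    rw [Nat.card_congr (Subgroup.subgroupOfEquivOfLe hPC).toEquiv,
      card_defectGroup hM hc.2.1 hPD, ← card_defectGroup hM hc.2.1 hE,
      ← Subgroup.card_map_of_injective (Subgroup.centralizer (P : Set G)).subtype_injective]
    exact Subgroup.card_le_of_le hQE
  have hNC : ∀ g ∈ Subgroup.normalizer (P : Set G), g ∈ Subgroup.normalizer ((Subgroup.centralizer (P : Set G)) : Set G) :=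
    fun g hg => normalizer_le_normalizer_centralizer P hg
  -- the inertial index
  have hidx : ¬ p ∣ (Subgroup.centralizer (P : Set G)).relIndex T := by
    refine (InertialIndex.defectGroup_iff_index hM hPp (sup_eq_right.2 hPC).symm hcP hc
      fun g => (hT g).trans (and_congr_right fun hg => ⟨fun h θ hθ θ' hh => ?_,
        fun h => ⟨hNC g hg, fun θ hθ => ?_⟩⟩)).1 hPD
    · obtain ⟨θ'', hθ'', hconj⟩ := h.2 θ hθ
      suffices θ' = θ'' from this ▸ hθ''
      refine Subtype.ext (funext fun k' => ?_)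
      have hk : g⁻¹ * (k' : G) * g ∈ (Subgroup.centralizer (P : Set G)) := by
        simpa using (Subgroup.mem_normalizer_iff.1
          ((Subgroup.normalizer ((Subgroup.centralizer (P : Set G)) : Set G)).inv_mem h.1) (k' : G)).1 k'.2
      rw [hh ⟨_, hk⟩ k' (by simp [mul_assoc]), hconj ⟨_, hk⟩ k' (by simp [mul_assoc])]
    · set e := conjK (hNC g hg)
      exact ⟨⟨(θ : (Subgroup.centralizer (P : Set G)) → ℂ) ∘ e.symm,
        (Cfsg.Agent.Characters.isIrrCharacter_comp_mulEquiv e.symm).2 θ.2⟩,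
        h θ hθ _ fun k k' hkk => congrArg (θ : (Subgroup.centralizer (P : Set G)) → ℂ) ((MulEquiv.symm_apply_eq _).2
          (Subtype.ext hkk)),
        fun k k' hkk => congrArg (θ : (Subgroup.centralizer (P : Set G)) → ℂ) ((MulEquiv.symm_apply_eq _).2 (Subtype.ext hkk))⟩
  -- the element of order `p`
  obtain ⟨k, hk⟩ := IsPGroup.iff_orderOf.1 hPp ⟨x, hxP⟩
  rw [← Subgroup.orderOf_coe] at hk
  change orderOf x = p ^ k at hk
  have hk0 : k ≠ 0 := by
    intro h
    rw [h, pow_zero, orderOf_eq_one_iff] at hk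
    refine hP1 ((Subgroup.eq_bot_iff_forall P).2 fun z hz => ?_)
    obtain ⟨i, rfl⟩ := hgen z hz
    rw [hk, one_zpow]
  have hp := hM.1
  set y := x ^ p ^ (k - 1) with hy
  have hyo : orderOf y = p := by
    rw [hy, orderOf_pow_of_dvd (pow_ne_zero _ hp.ne_zero) (hk ▸ pow_dvd_pow p (Nat.sub_le k 1)),
      hk, Nat.pow_div (Nat.sub_le k 1) hp.pos, Nat.sub_sub_self (Nat.one_le_iff_ne_zero.2 hk0),
      pow_one]
  set Om := Subgroup.zpowers y with hOm
  -- elements of `T` centralizing `y` centralize `P`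
  have key : ∀ g ∈ T, g * y * g⁻¹ = y → g ∈ (Subgroup.centralizer (P : Set G)) := by
    intro g hg hgy
    obtain ⟨r, hr⟩ := hgen _ ((Subgroup.mem_normalizer_iff.1 ((hT g).1 hg).1 x).1 hxP)
    have hr1 : (p : ℤ) ∣ r - 1 := by
      have h1 : x ^ (r * (p ^ (k - 1) : ℕ)) = x ^ ((p ^ (k - 1) : ℕ) : ℤ) := by
        rw [zpow_mul, hr, conj_zpow, zpow_natCast, ← hy, hgy]
      rw [zpow_eq_zpow_iff_modEq, hk, Int.modEq_iff_dvd] at h1
      have hkk : k = (k - 1) + 1 := (Nat.sub_add_cancel (Nat.one_le_iff_ne_zero.2 hk0)).symm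
      rw [hkk] at h1
      simp only [Nat.add_sub_cancel, pow_succ'] at h1
      push_cast at h1
      rw [← one_sub_mul] at h1
      have h2 := (mul_dvd_mul_iff_right (pow_ne_zero _ (Int.natCast_ne_zero.2 hp.ne_zero))).1 h1
      simpa using dvd_neg.2 h2
    have hpow : ∀ m : ℕ, g ^ m * x * (g ^ m)⁻¹ = x ^ (r ^ m) := by
      intro m
      induction m with
      | zero => simp
      | succ m ih =>
        rw [pow_succ', mul_inv_rev, pow_succ' r, zpow_mul, hr, conj_zpow, ← ih]
        group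
    have hfix : g ^ p ^ k ∈ (Subgroup.centralizer (P : Set G)) := by
      have h3 : x ^ (r ^ p ^ k) = x := by
        conv_rhs => rw [← zpow_one x]
        rw [zpow_eq_zpow_iff_modEq, hk, Int.modEq_iff_dvd]
        have := dvd_sub_pow_of_dvd_sub hr1 k
        rw [one_pow] at this
        push_cast
        exact dvd_trans (pow_dvd_pow _ k.le_succ) ((dvd_sub_comm).1 this)
      refine Subgroup.mem_centralizer_iff.2 fun w hw => ?_
      obtain ⟨i, rfl⟩ := hgen w hw
      have hc' : Commute x (g ^ p ^ k) := by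
        have := hpow (p ^ k)
        rw [h3, mul_inv_eq_iff_eq_mul] at this
        exact this.symm
      exact hc'.zpow_left i
    have h4 : (QuotientGroup.mk (⟨g, hg⟩ : T) : T ⧸ (Subgroup.centralizer (P : Set G)).subgroupOf T) ^ p ^ k = 1 := by
      rw [← QuotientGroup.mk_pow, QuotientGroup.eq_one_iff]
      exact Subgroup.mem_subgroupOf.2 hfix
    have h5 : (QuotientGroup.mk (⟨g, hg⟩ : T) : T ⧸ (Subgroup.centralizer (P : Set G)).subgroupOf T) = 1 :=
      orderOf_eq_one_iff.1 (Nat.eq_one_of_dvd_coprimes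
        (Nat.Coprime.pow_left k (hp.coprime_iff_not_dvd.2 hidx))
        (orderOf_dvd_of_pow_eq_one h4) (by
          rw [Subgroup.relIndex, Subgroup.index_eq_card]; exact orderOf_dvd_natCard _))
    exact Subgroup.mem_subgroupOf.1 ((QuotientGroup.eq_one_iff _).1 h5)
  have hTOm : T ≤ Subgroup.normalizer (Om : Set G) := by
    intro g hg
    refine HarrisKnorr.mem_normalizer_of_conj_mem fun z hz => ?_
    have hyP : y ∈ P := P.pow_mem hxP _
    have hconjP : g * y * g⁻¹ ∈ P := (Subgroup.mem_normalizer_iff.1 ((hT g).1 hg).1 y).1 hyP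
    have heq : Subgroup.zpowers (⟨g * y * g⁻¹, hconjP⟩ : P) = Subgroup.zpowers ⟨y, hyP⟩ :=
      Cfsg.Agent.CharTheory.BrauerSuzuki.subgroup_eq_of_card _ _ (by
        rw [Nat.card_zpowers, Nat.card_zpowers, ← Subgroup.orderOf_coe, ← Subgroup.orderOf_coe]
        exact MulEquiv.orderOf_eq (MulAut.conj g) y)
    have hmem : (⟨g * y * g⁻¹, hconjP⟩ : P) ∈ Subgroup.zpowers (⟨y, hyP⟩ : P) :=
      heq ▸ Subgroup.mem_zpowers _
    obtain ⟨i, hi⟩ := Subgroup.mem_zpowers_iff.1 hmem
    obtain ⟨j, rfl⟩ := Subgroup.mem_zpowers_iff.1 hz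
    rw [← conj_zpow]
    exact Subgroup.zpow_mem _ (Subgroup.mem_zpowers_iff.2 ⟨i, congrArg Subtype.val hi⟩) j
  let φ : T →* (ZMod (Nat.card Om))ˣ :=
    (IsCyclic.mulAutMulEquiv Om).toMonoidHom.comp
      (Om.normalizerMonoidHom.comp (Subgroup.inclusion hTOm))
  have hker : φ.ker = (Subgroup.centralizer (P : Set G)).subgroupOf T := by
    ext t
    simp only [φ, MonoidHom.mem_ker, MonoidHom.comp_apply, MulEquiv.toMonoidHom_eq_coe,
      MonoidHom.coe_coe, EmbeddingLike.map_eq_one_iff]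
    rw [← MonoidHom.mem_ker, Subgroup.normalizerMonoidHom_ker, Subgroup.mem_subgroupOf,
      Subgroup.mem_subgroupOf]
    refine ⟨fun h => key _ t.2 ?_, fun h => Subgroup.centralizer_le ?_ h⟩
    · rw [mul_inv_eq_iff_eq_mul]
      exact (Subgroup.mem_centralizer_iff.1 h y (Subgroup.mem_zpowers y)).symm
    · exact Subgroup.zpowers_le.2 (P.pow_mem hxP _)
  have e : (T ⧸ (Subgroup.centralizer (P : Set G)).subgroupOf T) ≃* φ.range :=
    (QuotientGroup.quotientMulEquivOfEq hker.symm).trans (QuotientGroup.quotientKerEquivRange φ)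
  have hcard : Nat.card Om = p := by rw [hOm, Nat.card_zpowers, hyo]
  haveI : IsCyclic (ZMod (Nat.card Om))ˣ := by
    rw [hcard]; exact ZMod.isCyclic_units_prime hp
  refine ⟨isCyclic_of_surjective e.symm.toMonoidHom e.symm.surjective, ?_, fun g hg z hz hz1 hgz => ?_⟩
  · rw [Subgroup.relIndex, Subgroup.index_eq_card, Nat.card_congr e.toEquiv]
    refine φ.range.card_subgroup_dvd_card.trans (dvd_of_eq ?_)
    rw [hcard, Nat.card_eq_fintype_card, ZMod.card_units]
  · refine key g hg ?_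
    have hyz : y ∈ Subgroup.zpowers z := by
      obtain ⟨j, hj⟩ := IsPGroup.iff_orderOf.1 hPp ⟨z, hz⟩
      rw [← Subgroup.orderOf_coe] at hj
      change orderOf z = p ^ j at hj
      have hyP : y ∈ P := P.pow_mem hxP _
      have hj0 : j ≠ 0 := fun h => hz1 (by rw [h, pow_zero, orderOf_eq_one_iff] at hj; exact hj)
      have heq : Subgroup.zpowers ((⟨z, hz⟩ : P) ^ p ^ (j - 1)) = Subgroup.zpowers (⟨y, hyP⟩ : P) :=
        Cfsg.Agent.CharTheory.BrauerSuzuki.subgroup_eq_of_card _ _ (by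
          rw [Nat.card_zpowers, Nat.card_zpowers, ← Subgroup.orderOf_coe, ← Subgroup.orderOf_coe]
          show orderOf (z ^ p ^ (j - 1)) = orderOf y
          rw [hyo, orderOf_pow_of_dvd (pow_ne_zero _ hp.ne_zero) (hj ▸ pow_dvd_pow p (Nat.sub_le j 1)),
            hj, Nat.pow_div (Nat.sub_le j 1) hp.pos,
            Nat.sub_sub_self (Nat.one_le_iff_ne_zero.2 hj0), pow_one])
      have hmem : (⟨y, hyP⟩ : P) ∈ Subgroup.zpowers ((⟨z, hz⟩ : P) ^ p ^ (j - 1)) :=
        heq ▸ Subgroup.mem_zpowers _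
      obtain ⟨i, hi⟩ := Subgroup.mem_zpowers_iff.1 hmem
      exact Subgroup.mem_zpowers_iff.2 ⟨((p ^ (j - 1) : ℕ) : ℤ) * i, by
        rw [zpow_mul, zpow_natCast]; exact congrArg Subtype.val hi⟩
    obtain ⟨i, hi⟩ := Subgroup.mem_zpowers_iff.1 hyz
    rw [← hi, ← conj_zpow, hgz]

end Cfsg.Agent.S4633
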