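import Cfsg.Statements.S4634
import Cfsg.Agent.BlockCharsA.CyclicDefect.Frobenius
import Cfsg.Agent.Lib.Blocks.InducedPairs

set_option autoImplicit false
open Cfsg
open Cfsg.Agent.BlockCharsA.CyclicDefect Cfsg.Agent.BlockCharsA.PairLocal
  Cfsg.Agent.CharTheory.CyclicCofactor

namespace Cfsg.Agent.S4634

/-- Let B be a block of the finite group G relative to a maximal ideal M of the algebraic integers containing the prime p, with a nontrivial cyclic defect group P, let c be a block of C_G(P) inducing B, T the stabilizer of c in N_G(P) and e the index of C_G(P) in T. Let F be any finite group of order #P · e having a cyclic subgroup Q of order #P that is its own centralizer (F is then the semidirect product of Q by a cyclic group of order e acting faithfully). Then there is a perfect isometry from the set of all irreducible characters of F onto B whose signs agree on all the characters of F that do not contain Q in their kernel. -/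
theorem result {G : Type*} [Group G] [Finite G] (p : ℕ) [Fact p.Prime] (M : Ideal Cfsg.AlgInt) (hM : Cfsg.IsPModular p M) (B : Set (Cfsg.IrrCharacter G)) (hB : Cfsg.IsPBlock M B) (P : Subgroup G) (hPD : Cfsg.IsDefectGroup p M B P) (hP1 : P ≠ ⊥) (hcyc : IsCyclic P) (c : Set (Cfsg.IrrCharacter (Subgroup.centralizer (P : Set G)))) (hc : Cfsg.IsInducedBlock M (Subgroup.centralizer (P : Set G)) c B) (T : Subgroup G) (hT : ∀ g : G, g ∈ T ↔ (g ∈ Subgroup.normalizer (P : Set G) ∧ Cfsg.StabilizesBlock (Subgroup.centralizer (P : Set G)) c g)) (e : ℕ) (he : (Subgroup.centralizer (P : Set G)).relIndex T = e) (F : Type*) [Group F] [Finite F] (hF : Nat.card F = Nat.card P * e) (Q : Subgroup F) (hQ : IsCyclic Q) (hQcard : Nat.card Q = Nat.card P) (hQC : Subgroup.centralizer (Q : Set F) = Q) : ∃ (I : Cfsg.IrrCharacter F → Cfsg.IrrCharacter G) (ε : Cfsg.IrrCharacter F → ℤ), Cfsg.IsPerfectIsometry p M (Set.univ : Set (Cfsg.IrrCharacter F)) B I ε ∧ ∀ η η' : Cfsg.IrrCharacter F, (∃ x ∈ Q,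 (η : F → ℂ) x ≠ (η : F → ℂ) 1) → (∃ x ∈ Q, (η' : F → ℂ) x ≠ (η' : F → ℂ) 1) → ε η = ε η' := by
  classical
  obtain rfl : T = stab P c := by
    ext g
    exact (hT g).trans mem_stab.symm
  have hmax := Cfsg.Agent.Blocks.InducedPairs.isMaximal_of_induced hM hPD (comm_of_cyclic hcyc) hc
  haveI : NeZero (Nat.card P) := ⟨Nat.card_pos.ne'⟩
  obtain ⟨k, hk⟩ := IsPGroup.iff_card.1 hmax.1.1.1
  have hdvd := (structure_theorem hM hmax hcyc hP1 he).1
  obtain ⟨hS, hSe, hd⟩ := exists_cycData hM hmax hcyc hP1 he rfl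
  obtain ⟨c', hmax', hstab, he'⟩ := exists_frobenius_pair hM (hQcard.trans hk)
    (hQcard.symm ▸ hF) hdvd hQC
  have hQ1 : Q ≠ ⊥ := fun h => hP1 (Subgroup.eq_bot_of_card_eq _ (by
    rw [← hQcard, h, Subgroup.card_bot]))
  obtain ⟨-, -, hd'⟩ := exists_cycData hM hmax' hQ hQ1 he' hQcard
  obtain ⟨R, hR⟩ := exists_reps hS
  obtain ⟨d⟩ := hd R hR
  obtain ⟨d'⟩ := hd' R hR
  obtain ⟨I, ε, hI, hY, hX⟩ := exists_isometry hM hS hR d d'
  refine ⟨I, ε, hI, fun η η' hη hη' => ?_⟩
  have hR0 : R.Nonempty := by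
    rw [← Finset.card_pos]
    have h := card_reps hS hR
    have h1 : 1 < Nat.card P :=
      Finite.one_lt_card_iff_nontrivial.2 ((Subgroup.nontrivial_iff_ne_bot P).2 hP1)
    by_contra h0
    rw [Nat.le_zero.1 (not_lt.1 h0), zero_mul] at h
    omega
  rcases Nat.lt_or_ge 1 e with he1 | he1
  · rcases range_eq_nontrivial hM hmax' hQ hQ1 hQC hstab he' he1 hQcard hS hSe hR d' hη hη'
      with rfl | ⟨⟨s, rfl⟩, ⟨t, rfl⟩⟩
    · rfl
    · rw [(hY s).2, (hY t).2]
  · have he0 : (canon (Nat.card P) e).card = 1 := le_antisymm (hSe.trans_le he1)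
      (Finset.card_pos.2 ⟨1, hS.one_mem⟩)
    have key : ∀ θ, ε θ = d'.δ₀ * d.δ₀ := by
      intro θ
      by_cases h : θ ∈ Set.range d'.Ψ
      · obtain ⟨t, rfl⟩ := h
        exact (hY t).2
      · obtain ⟨h1, h2⟩ := hX θ ⟨Set.mem_univ _, h⟩
        rw [h2, d'.sign_single hM he0 hR0 ⟨Set.mem_univ _, h⟩, d.sign_single hM he0 hR0 h1,
          neg_mul_neg]
    rw [key η, key η']

end Cfsg.Agent.S4634
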