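import Cfsg.Statements.S4635
import Cfsg.Agent.BlockCharsA.CyclicDefect.Cyc
import Cfsg.Agent.BlockCharsA.CyclicDefect.Correspondent

set_option autoImplicit false
open Cfsg
open Cfsg.Agent.BlockCharsA.CyclicDefect Cfsg.Agent.BlockCharsA.PairLocal
  Cfsg.Agent.CharTheory.CyclicCofactor

namespace Cfsg.Agent.S4635

/-- Let B be a block of the finite group G relative to a maximal ideal M of the algebraic integers containing the prime p, with a nontrivial cyclic defect group P; let Z be the subgroup of order p of P and H = N_G(Z), which contains N_G(P). Let c be the block of H with defect group P that induces B. Then B and c contain the same number of irreducible characters, have the same p-regular rank, and there is a perfect isometry from c onto B. -/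
theorem result {G : Type*} [Group G] [Finite G] (p : ℕ) [Fact p.Prime] (M : Ideal Cfsg.AlgInt) (hM : Cfsg.IsPModular p M) (B : Set (Cfsg.IrrCharacter G)) (hB : Cfsg.IsPBlock M B) (P : Subgroup G) (hPD : Cfsg.IsDefectGroup p M B P) (hP1 : P ≠ ⊥) (hcyc : IsCyclic P) (Z : Subgroup G) (hZ : Z ≤ P) (hZcard : Nat.card Z = p) (H : Subgroup G) (hH : H = Subgroup.normalizer (Z : Set G)) (c : Set (Cfsg.IrrCharacter H)) (hcD : Cfsg.IsDefectGroup p M c (P.subgroupOf H)) (hc : Cfsg.IsInducedBlock M H c B) : Nat.card c = Nat.card B ∧ Cfsg.blockRank p c = Cfsg.blockRank p B ∧ ∃ (I : Cfsg.IrrCharacter H → Cfsg.IrrCharacter G) (ε : Cfsg.IrrCharacter H → ℤ), Cfsg.IsPerfectIsometry p M c B I ε := by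
  classical
  subst hH
  have hP : IsPGroup p P := Cfsg.Agent.Blocks.isPGroup_defect hPD
  have hN : Subgroup.normalizer (P : Set G) ≤ Subgroup.normalizer (Z : Set G) := fun x hx =>
    Cfsg.Agent.Blocks.CyclicSubpairs.mem_normalizer_of_cyclic hcyc hZ hx
  have hPH : P ≤ Subgroup.normalizer (Z : Set G) := Subgroup.le_normalizer.trans hN
  obtain ⟨f, a, hmax, hmax', hrel⟩ := exists_matching_maximal hM hP hZ
    (Cfsg.Agent.Blocks.centralizer_le_normalizer' Z) le_rfl hN hcD hc
  haveI : NeZero (Nat.card P) := ⟨Nat.card_pos.ne'⟩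
  have hcard : Nat.card (P.subgroupOf (Subgroup.normalizer (Z : Set G))) = Nat.card P :=
    Nat.card_congr (Subgroup.subgroupOfEquivOfLe hPH).toEquiv
  have hcyc' : IsCyclic (P.subgroupOf (Subgroup.normalizer (Z : Set G))) :=
    (Subgroup.subgroupOfEquivOfLe hPH).isCyclic.2 hcyc
  have hP1' : P.subgroupOf (Subgroup.normalizer (Z : Set G)) ≠ ⊥ := fun h =>
    hP1 (Subgroup.eq_bot_of_card_eq _ (by rw [← hcard, h, Subgroup.card_bot]))
  obtain ⟨hS, hSe, hd⟩ := exists_cycData hM hmax hcyc hP1 rfl rfl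
  obtain ⟨-, -, hd'⟩ := exists_cycData hM hmax' hcyc' hP1' hrel hcard
  obtain ⟨R, hR⟩ := exists_reps hS
  obtain ⟨d⟩ := hd R hR
  obtain ⟨d'⟩ := hd' R hR
  obtain ⟨I, ε, hI, -, -⟩ := exists_isometry hM hS hR d d'
  refine ⟨Nat.card_congr (hI.1.equiv I), ?_, I, ε, hI⟩
  rw [(structure_theorem hM hmax' hcyc' hP1' hrel).2.1, (structure_theorem hM hmax hcyc hP1 rfl).2.1]

end Cfsg.Agent.S4635
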