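import Mathlib
import Cfsg.Statements.S4636

set_option autoImplicit false
open scoped Pointwise
open Cfsg

namespace Cfsg.Agent.S4636

/-- In a cyclic finite group a subgroup of order `p` is the only one. -/
theorem unique_order_p {G : Type*} [Group G] [Finite G] {P : Subgroup G} (hcyc : IsCyclic P)
    {A B : Subgroup G} (hA : A ≤ P) (hB : B ≤ P) (h : Nat.card A = Nat.card B) : A = B := by
  haveI := hcyc
  letI : CommGroup P := IsCyclic.commGroup
  have key : ∀ C : Subgroup P, Nat.card C = Nat.card A →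
      C = (powMonoidHom (Nat.card A) : P →* P).ker := by
    intro C hC
    refine Subgroup.eq_of_le_of_card_ge (fun c hc => ?_) ?_
    · rw [MonoidHom.mem_ker, powMonoidHom_apply, ← hC]
      exact congrArg Subtype.val (pow_card_eq_one' (x := (⟨c, hc⟩ : C)))
    · rw [IsCyclic.card_powMonoidHom_ker, hC]
      exact Nat.gcd_le_right _ Nat.card_pos
  have hs : A.subgroupOf P = B.subgroupOf P := by
    rw [key _ (Nat.card_congr (Subgroup.subgroupOfEquivOfLe hA).toEquiv),
      key _ ((Nat.card_congr (Subgroup.subgroupOfEquivOfLe hB).toEquiv).trans h.symm)]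
  rw [← Subgroup.map_subgroupOf_eq_of_le hA, hs, Subgroup.map_subgroupOf_eq_of_le hB]


/-- Let P be a nontrivial cyclic p-subgroup of the finite group G and Z its subgroup of order p. For every x outside N_G(Z), P meets its conjugate xPx⁻¹ trivially; consequently N_G(Q) ≤ N_G(Z) for every nontrivial subgroup Q of P. -/
theorem result {G : Type*} [Group G] [Finite G] (p : ℕ) [Fact p.Prime] (P : Subgroup G) (hP : IsPGroup p P) (hP1 : P ≠ ⊥) (hcyc : IsCyclic P) (Z : Subgroup G) (hZ : Z ≤ P) (hZcard : Nat.card Z = p) : (∀ x : G, x ∉ Subgroup.normalizer (Z : Set G) → P ⊓ MulAut.conj x • P = ⊥) ∧ ∀ Q : Subgroup G, Q ≤ P → Q ≠ ⊥ → Subgroup.normalizer (Q : Set G) ≤ Subgroup.normalizer (Z : Set G) := by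
  have hmin : ∀ Q : Subgroup G, Q ≤ P → Q ≠ ⊥ → Z ≤ Q := by
    intro Q hQ hQ1
    obtain ⟨n, hn⟩ := IsPGroup.iff_card.1 (hP.to_le hQ)
    have hn0 : n ≠ 0 := by
      rintro rfl
      exact hQ1 (Subgroup.card_eq_one.1 (by simpa using hn))
    have : p ∣ Nat.card Q := hn ▸ dvd_pow_self p hn0
    obtain ⟨q, hq⟩ := exists_prime_orderOf_dvd_card' p this
    have hle : Subgroup.zpowers (q : G) ≤ Q := Subgroup.zpowers_le.2 q.2
    have : Z = Subgroup.zpowers (q : G) := unique_order_p hcyc hZ (hle.trans hQ) (by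
      rw [hZcard, Nat.card_zpowers, Subgroup.orderOf_coe, hq])
    exact this ▸ hle
  have hnorm : ∀ x : G, MulAut.conj x • Z ≤ P → x ∈ Subgroup.normalizer (Z : Set G) := by
    intro x hle
    have hc : Nat.card ↥(MulAut.conj x • Z) = Nat.card Z :=
      Nat.card_congr (Subgroup.equivSMul (MulAut.conj x) Z).toEquiv.symm
    have h := unique_order_p hcyc hle hZ hc
    refine (Subgroup.mem_normalizer_iff).2 fun y => ?_
    conv_rhs => rw [← h]
    exact (Subgroup.smul_mem_pointwise_smul_iff (a := MulAut.conj x) (S := Z) (x := y)).symm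
  have hconjle : ∀ (x : G) (Q : Subgroup G), Q ≤ P → Q ≠ ⊥ → MulAut.conj x • Q ≤ P →
      x ∈ Subgroup.normalizer (Z : Set G) := fun x Q hQ hQ1 hx =>
    hnorm x ((Subgroup.pointwise_smul_le_pointwise_smul_iff.2 (hmin Q hQ hQ1)).trans hx)
  refine ⟨fun x hx => by_contra fun hne => hx ?_, fun Q hQ hQ1 x hx => hconjle x Q hQ hQ1 ?_⟩
  · refine hconjle x ((MulAut.conj x)⁻¹ • (P ⊓ MulAut.conj x • P)) ?_ ?_ ?_
    · exact Subgroup.pointwise_smul_subset_iff.2 (by simp)
    · intro h0
      apply hne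
      have := congrArg (MulAut.conj x • ·) h0
      simpa using this
    · simp
  · intro y hy
    rw [Subgroup.mem_pointwise_smul_iff_inv_smul_mem] at hy
    have hy' : x⁻¹ * y * x ∈ Q := by simpa using hy
    exact hQ ((Subgroup.mem_normalizer_iff''.1 hx y).2 hy')

end Cfsg.Agent.S4636
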