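import Cfsg.Statements.S4638
import Cfsg.Agent.Lib.Blocks.Star.KleinTable
import Cfsg.Agent.Lib.Blocks.Star.PerfectCriterion
import Cfsg.Agent.Lib.Blocks.Star.Correspondent

set_option autoImplicit false
open Cfsg

namespace Cfsg.Agent.S4638
open Cfsg.Agent Cfsg.Agent.Blocks Cfsg.Agent.Blocks.Star Cfsg.Agent.BlockCharsA

/-- Let B be a block of the finite group G relative to a maximal ideal M of the algebraic integers containing 2, with a Klein four defect group P, and let c be its Brauer correspondent: the block of N_G(P) with defect group P that induces B. Then there is a perfect isometry from c onto B. -/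
theorem result {G : Type*} [Group G] [Finite G] (M : Ideal Cfsg.AlgInt) (hM : Cfsg.IsPModular 2 M) (B : Set (Cfsg.IrrCharacter G)) (hB : Cfsg.IsPBlock M B) (P : Subgroup G) (hPD : Cfsg.IsDefectGroup 2 M B P) (hV : IsKleinFour P) (c : Set (Cfsg.IrrCharacter (Subgroup.normalizer (P : Set G)))) (hcD : Cfsg.IsDefectGroup 2 M c (P.subgroupOf (Subgroup.normalizer (P : Set G)))) (hc : Cfsg.IsInducedBlock M (Subgroup.normalizer (P : Set G)) c B) : ∃ (I : Cfsg.IrrCharacter (Subgroup.normalizer (P : Set G)) → Cfsg.IrrCharacter G) (ε : Cfsg.IrrCharacter (Subgroup.normalizer (P : Set G)) → ℤ), Cfsg.IsPerfectIsometry 2 M c B I ε := by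
  classical
  haveI := Fintype.ofFinite G
  haveI := Fintype.ofFinite (Cfsg.IrrCharacter G)
  haveI := Fintype.ofFinite (Cfsg.IrrCharacter (Subgroup.normalizer (P : Set G)))
  obtain ⟨f, a, hmax, hamax, hstab⟩ := exists_matching_pairs hM hB hPD hcD hc
  let σ : P ≃* P.subgroupOf (Subgroup.normalizer (P : Set G)) :=
    (Subgroup.subgroupOfEquivOfLe Subgroup.le_normalizer).symm
  have hV' : IsKleinFour (P.subgroupOf (Subgroup.normalizer (P : Set G))) :=
    { card_four := (Nat.card_congr σ.toEquiv.symm).trans hV.card_four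
      exponent_two := (Monoid.exponent_eq_of_mulEquiv σ).symm.trans hV.exponent_two }
  have hr : Nat.card (inertR (P.subgroupOf (Subgroup.normalizer (P : Set G))) a) =
      Nat.card (inertR P f) := by
    rw [card_inertR, card_inertR, relIndex_eq_of_stab hstab]
  obtain ⟨q, hq⟩ := klein_signs hM hmax hV
  obtain ⟨q', hq'⟩ := klein_signs hM hamax hV'
  have hσ1 : ∀ v, σ v = 1 ↔ v = 1 := fun v => map_eq_one_iff σ σ.injective
  have hcB : (Finset.univ.filter fun χ => χ ∈ B).card = 4 := by
    rw [← Fintype.card_subtype, ← Nat.card_eq_fintype_card]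
    exact (KleinFourBlock.invariants hM hmax hV _ rfl).2.1
  have hcc : (Finset.univ.filter fun η => η ∈ c).card = 4 := by
    rw [← Fintype.card_subtype, ← Nat.card_eq_fintype_card]
    exact (KleinFourBlock.invariants hM hamax hV' _ rfl).2.1
  obtain ⟨v₁, hv₁⟩ : ∃ v : P, v ≠ 1 := by
    haveI : Nontrivial P := Finite.one_lt_card_iff_nontrivial.1 (by rw [hV.card_four]; norm_num)
    exact exists_ne 1
  obtain ⟨I, hI, τ, hτ, hIτ⟩ : ∃ I : Cfsg.IrrCharacter (Subgroup.normalizer (P : Set G)) →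
      Cfsg.IrrCharacter G, Set.BijOn I c B ∧ ∃ τ : P → ℤ, (∀ v, τ v = 1 ∨ τ v = -1) ∧
        ∀ η ∈ c, ∀ v : P, v ≠ 1 →
          q (I η) v₁ * q' η (σ v₁) * q (I η) v = τ v * q' η (σ v) := by
    obtain ⟨χ₀, hχ₀⟩ := block_nonempty hM hB
    rcases KleinFourBlock.inertial_index hM hmax hV with h1 | h1 <;> rw [← card_inertR] at h1
    · -- trivial inertial quotient: rows labelled by two normalized columns
      haveI := hV
      obtain ⟨v₂, hv₂, hv₂'⟩ : ∃ v : P, v ≠ 1 ∧ v ≠ v₁ := by
        haveI := Fintype.ofFinite P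
        have h4 : Fintype.card P = 4 := by rw [← Nat.card_eq_fintype_card]; exact hV.card_four
        by_contra hcon
        push Not at hcon
        have hsub : (Finset.univ : Finset P) ⊆ {1, v₁} := fun v _ => by
          rcases eq_or_ne v 1 with rfl | hv
          · simp
          · simp [hcon v hv]
        have := (Finset.card_le_card hsub).trans Finset.card_le_two
        rw [Finset.card_univ, h4] at this
        omega
      set v₃ := v₁ * v₂ with hv₃def
      have hv₃ : v₃ ≠ 1 := fun h => hv₂' (by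
        rw [eq_inv_of_mul_eq_one_right h, IsKleinFour.inv_eq_self])
      have h31 : v₁ ≠ v₃ := fun h => hv₂ (by simpa [hv₃def] using h.symm)
      have h32 : v₂ ≠ v₃ := fun h => hv₁ (by simpa [hv₃def] using h.symm)
      have hB1 := bij_of_orth _ hcB (fun χ => q χ v₁) (fun χ => q χ v₂) (fun χ => q χ v₃)
        (fun χ h => (hq χ (Finset.mem_filter.1 h).2 v₁ hv₁).2)
        (fun χ h => (hq χ (Finset.mem_filter.1 h).2 v₂ hv₂).2)
        (fun χ h => (hq χ (Finset.mem_filter.1 h).2 v₃ hv₃).2)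
        (klein_orth hM hmax hV h1 (fun χ hχ v hv => (hq χ hχ v hv).1) hv₁ hv₂ (Ne.symm hv₂'))
        (klein_orth hM hmax hV h1 (fun χ hχ v hv => (hq χ hχ v hv).1) hv₁ hv₃ h31)
        (klein_orth hM hmax hV h1 (fun χ hχ v hv => (hq χ hχ v hv).1) hv₂ hv₃ h32)
      have hs : ∀ {v : P}, v ≠ 1 → σ v ≠ 1 := fun hv h => hv ((hσ1 _).1 h)
      have hB2 := bij_of_orth _ hcc (fun η => q' η (σ v₁)) (fun η => q' η (σ v₂))
        (fun η => q' η (σ v₃))
        (fun η h => (hq' η (Finset.mem_filter.1 h).2 _ (hs hv₁)).2)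
        (fun η h => (hq' η (Finset.mem_filter.1 h).2 _ (hs hv₂)).2)
        (fun η h => (hq' η (Finset.mem_filter.1 h).2 _ (hs hv₃)).2)
        (klein_orth hM hamax hV' (hr.trans h1) (fun η hη v hv => (hq' η hη v hv).1) (hs hv₁) (hs hv₂)
          (σ.injective.ne (Ne.symm hv₂')))
        (klein_orth hM hamax hV' (hr.trans h1) (fun η hη v hv => (hq' η hη v hv).1) (hs hv₁) (hs hv₃)
          (σ.injective.ne h31))
        (klein_orth hM hamax hV' (hr.trans h1) (fun η hη v hv => (hq' η hη v hv).1) (hs hv₂) (hs hv₃)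
          (σ.injective.ne h32))
      simp only [Finset.coe_filter, Finset.mem_univ, true_and] at hB1 hB2
      haveI : Nonempty (Cfsg.IrrCharacter G) := ⟨χ₀⟩
      let L := fun χ : Cfsg.IrrCharacter G => (q χ v₁ * q χ v₂, q χ v₁ * q χ v₃)
      let L' := fun η : Cfsg.IrrCharacter (Subgroup.normalizer (P : Set G)) =>
        (q' η (σ v₁) * q' η (σ v₂), q' η (σ v₁) * q' η (σ v₃))
      refine ⟨Function.invFunOn L B ∘ L', ?_, fun _ => 1, fun _ => Or.inl rfl, ?_⟩
      · exact ((hB1.invOn_invFunOn (f := L)).symm.bijOn hB1.surjOn.mapsTo_invFunOn hB1.mapsTo).comp hB2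
      intro η hη v hv
      set χ := Function.invFunOn L B (L' η) with hχ
      have hLχ : L χ = L' η := Function.invFunOn_eq (hB1.surjOn (hB2.mapsTo hη))
      have hχB : χ ∈ B := Function.invFunOn_mem (hB1.surjOn (hB2.mapsTo hη))
      obtain ⟨e2, e3⟩ := Prod.mk.injEq _ _ _ _ ▸ hLχ
      show q χ v₁ * q' η (σ v₁) * q χ v = 1 * q' η (σ v)
      have ha := (hq χ hχB v₁ hv₁).2
      have hb := (hq' η hη (σ v₁) (hs hv₁)).2
      rcases eq_or_ne v v₁ with rfl | hv1'
      · rcases ha with h | h <;> rw [h] <;> ring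
      rcases KleinFourBlock.eq_or_eq_mul hv₁ hv₂ hv₂' hv hv1' with rfl | h
      · rcases ha with h | h <;> rcases hb with h' | h' <;> rw [h, h'] at e2 ⊢ <;> linarith
      · rw [h, ← hv₃def]
        rcases ha with h | h <;> rcases hb with h' | h' <;> rw [h, h'] at e3 ⊢ <;> linarith
    · -- one orbit
      haveI : Nonempty (Cfsg.IrrCharacter G) := ⟨χ₀⟩
      obtain ⟨I, hI⟩ := (Set.toFinite c).exists_bijOn_of_encard_eq
        (t := B) (by
          rw [Set.encard_eq_coe_toFinset_card, Set.encard_eq_coe_toFinset_card,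
            Set.toFinset_card, Set.toFinset_card, ← Nat.card_eq_fintype_card,
            ← Nat.card_eq_fintype_card, Nat.card_coe_set_eq, Nat.card_coe_set_eq]
          rw [← Nat.card_coe_set_eq, ← Nat.card_coe_set_eq,
            (KleinFourBlock.invariants hM hmax hV _ rfl).2.1,
            (KleinFourBlock.invariants hM hamax hV' _ rfl).2.1])
      refine ⟨I, hI, fun _ => 1, fun _ => Or.inl rfl, fun η hη v hv => ?_⟩
      have hχB := hI.mapsTo hη
      have e1 : q (I η) v = q (I η) v₁ := by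
        refine Int.cast_injective (α := ℂ) ?_
        rw [← (hq _ hχB v hv).1, ← (hq _ hχB v₁ hv₁).1]
        exact klein_const hM hmax hV h1 _ hv hv₁
      have e2 : q' η (σ v) = q' η (σ v₁) := by
        refine Int.cast_injective (α := ℂ) ?_
        have hs : ∀ {v : P}, v ≠ 1 → σ v ≠ 1 := fun hv h => hv ((hσ1 _).1 h)
        rw [← (hq' η hη _ (hs hv)).1, ← (hq' η hη _ (hs hv₁)).1]
        exact klein_const hM hamax hV' (hr.trans h1) _ (hs hv) (hs hv₁)
      rw [e1, e2]
      rcases (hq _ hχB v₁ hv₁).2 with h | h <;> rw [h] <;> ring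
  refine ⟨I, fun η => q (I η) v₁ * q' η (σ v₁), isPerfectIsometry_of_columns hM hmax
    (KleinFourBlock.comm_of_klein hV) (frees_of_klein hM hmax hV) hamax
    (KleinFourBlock.comm_of_klein hV') (frees_of_klein hM hamax hV') I _ hI (fun η hη => ?_) σ τ
    σ.surjective hσ1 hτ fun η hη v hv => ?_⟩
  · rcases (hq _ (hI.mapsTo hη) v₁ hv₁).2 with h | h <;>
      rcases (hq' η hη (σ v₁) (fun h => hv₁ ((hσ1 _).1 h))).2 with h' | h' <;> rw [h, h'] <;> simp
  · rw [(hq _ (hI.mapsTo hη) v hv).1, (hq' η hη (σ v) (fun h => hv ((hσ1 _).1 h))).1]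
    exact_mod_cast hIτ η hη v hv

end Cfsg.Agent.S4638
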