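import Cfsg.Statements.S4649
import Cfsg.Agent.BlockCharsA.CyclicNilpotent.Trace
import Cfsg.Agent.Lib.Blocks.CyclicSubpairs
import Cfsg.Agent.Lib.Blocks.OrbitCount

set_option autoImplicit false
open Cfsg

namespace Cfsg.Agent.S4649

open Cfsg.Agent.Blocks Cfsg.Agent.Characters Cfsg.Agent.BlockCharsA
open Cfsg.Agent.BlockCharsA.BrauerPairs Cfsg.Agent.BlockCharsA.PairStab
open Cfsg.Agent.BlockCharsA.PairMax Cfsg.Agent.BlockCharsA.PairConj
open Cfsg.Agent.BlockCharsA.PairLocal Cfsg.Agent.BlockCharsA.PairFusion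
open Cfsg.Agent.BlockCharsA.PairCorr Cfsg.Agent.BlockCharsA.PairReceptive

universe u

/-- With a cyclic defect group and rank one the inertial group centralizes the defect group. -/
theorem mem_centralizer_of_rank_one {G : Type u} [Group G] [Finite G] {p : ℕ} {M : Ideal Cfsg.AlgInt}
    (hM : Cfsg.IsPModular p M) {B : Set (Cfsg.IrrCharacter G)} {P : Subgroup G}
    {c : Set (Cfsg.IrrCharacter (Subgroup.centralizer (P : Set G)))}
    (hmax : Cfsg.IsMaximalBrauerPair p M B P c) (hcyc : IsCyclic P)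
    (hl : Cfsg.blockRank p B = 1) {w : G} (hw : w ∈ stab P c) :
    w ∈ Subgroup.centralizer (P : Set G) := by
  classical
  haveI := fact_prime_of_pm hM
  haveI := Fintype.ofFinite G
  haveI := Fintype.ofFinite P
  have hD := isDefectGroup_of_maximal hM hmax
  have hB := hmax.1.2.1
  have hab : ∀ x ∈ P, ∀ y ∈ P, x * y = y * x := fun x hx y hy => by
    letI := hcyc.commGroup
    exact congrArg Subtype.val (mul_comm (⟨x, hx⟩ : P) ⟨y, hy⟩)
  have hk : Nat.card P = Nat.card B := by
    rw [card_defectGroup hM hB hD]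
    exact RankOneSmall.pow_defect_eq_card' hM hB hl
      (Or.inr fun eB heB => CyclicNilpotent.oneGenRadical hM hB hD hcyc eB heB)
  -- representatives of the orbits
  let st : Setoid P :=
    { r := fun t s => ∃ v ∈ stab P c, v * (t : G) * v⁻¹ = (s : G)
      iseqv :=
        { refl := fun t => ⟨1, Subgroup.one_mem _, by simp⟩
          symm := by
            rintro t s ⟨v, hv, h⟩
            exact ⟨v⁻¹, Subgroup.inv_mem _ hv, by rw [← h]; group⟩
          trans := by
            rintro t s r ⟨v, hv, h⟩ ⟨v', hv', h'⟩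
            exact ⟨v' * v, Subgroup.mul_mem _ hv' hv, by rw [← h', ← h]; group⟩ } }
  let rep : P → P := fun t => (Quotient.mk st t).out
  set R : Finset P := Finset.univ.image rep
  have hcov : ∀ s : P, ∃ r ∈ R, ∃ v ∈ stab P c, v * (r : G) * v⁻¹ = (s : G) := fun s =>
    ⟨rep s, Finset.mem_image_of_mem _ (Finset.mem_univ _), Quotient.mk_out (s := st) s⟩
  have hsep : ∀ r ∈ R, ∀ r' ∈ R, ∀ v ∈ stab P c, v * (r : G) * v⁻¹ = (r' : G) → r = r' := by
    intro r hr r' hr' v hv h
    obtain ⟨t, -, rfl⟩ := Finset.mem_image.1 hr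
    obtain ⟨t', -, rfl⟩ := Finset.mem_image.1 hr'
    have h1 : Quotient.mk st (rep t) = Quotient.mk st (rep t') := Quotient.sound ⟨v, hv, h⟩
    simp only [rep, Quotient.out_eq] at h1
    simp only [rep, h1]
  have hex : ∀ t : P, ∃ f, Cfsg.SubpairLE p M (Subgroup.zpowers (t : G)) f P c := fun t => by
    obtain ⟨f, -, hf⟩ :=
      exists_subpair hM _ (Subgroup.zpowers (t : G)) P c rfl hmax.1.1 (Subgroup.zpowers_le.2 t.2)
    exact ⟨f, hf⟩
  choose f hf using hex
  have hrank : ∀ t : P, Cfsg.blockRank p (f t) = 1 := by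
    intro t
    rcases eq_or_ne t 1 with rfl | ht
    · obtain ⟨b, hb, -, hr, -⟩ := NilpotentAbelian.exists_of_pair hM
        ((block_of_subpairLE hM (hf 1)).2 hmax.1) (Subgroup.zpowers_le.2
          (mem_centralizer_zpowers.2 (Subgroup.mem_centralizer_singleton_iff.2 rfl)))
        (LocalBlock.centralizer_eq_zpowers ((1 : P) : G))
      have htop : Subgroup.centralizer ({((1 : P) : G)} : Set G) = ⊤ :=
        eq_top_iff.2 fun z _ => Subgroup.mem_centralizer_singleton_iff.2 (by simp)
      rw [← hr, ← hl, ← NilpotentAbelian.pullSet_top hM htop hb, NilpotentAbelian.blockRank_pullSet]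
    · exact (CyclicSubpairs.isNilpotent_local hM hmax hcyc
        (fun h => ht (Subtype.ext (Subgroup.zpowers_eq_bot.1 h))) (hf t)).2
  have hk' := OrbitCount.card_eq_sum_orbit hM hmax hab f hf R hcov hsep
  rw [Finset.sum_congr rfl fun r _ => hrank r, ← Finset.card_eq_sum_ones, ← hk,
    Nat.card_eq_fintype_card] at hk'
  have hR : R = Finset.univ := Finset.eq_univ_of_card _ hk'.symm
  intro q hq
  have hN := (mem_stab.1 hw).1
  have hmem : w * q * w⁻¹ ∈ P := (Subgroup.mem_normalizer_iff.1 hN q).1 hq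
  have h := hsep ⟨q, hq⟩ (hR ▸ Finset.mem_univ _) ⟨_, hmem⟩ (hR ▸ Finset.mem_univ _) w hw rfl
  exact eq_mul_inv_iff_mul_eq.1 (congrArg Subtype.val h)

/-- A block with cyclic defect group, of a finite group relative to a maximal ideal M of the algebraic integers containing the prime p, is nilpotent if and only if its p-regular rank is 1 (it has a unique irreducible Brauer character). -/
theorem result {G : Type*} [Group G] [Finite G] (p : ℕ) [Fact p.Prime] (M : Ideal Cfsg.AlgInt) (hM : Cfsg.IsPModular p M) (B : Set (Cfsg.IrrCharacter G)) (hB : Cfsg.IsPBlock M B) (P : Subgroup G) (hPD : Cfsg.IsDefectGroup p M B P) (hcyc : IsCyclic P) : Cfsg.IsNilpotentBlock p M B ↔ Cfsg.blockRank p B = 1 := by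
  haveI := Fintype.ofFinite G
  have hab : ∀ x ∈ P, ∀ y ∈ P, x * y = y * x := fun x hx y hy => by
    letI := hcyc.commGroup
    exact congrArg Subtype.val (mul_comm (⟨x, hx⟩ : P) ⟨y, hy⟩)
  obtain ⟨c, hmax⟩ := exists_maximal_on hM hB hPD
  refine ⟨fun hnil => (NilpotentAbelian.blockRank_eq_one hM hPD hab hnil).1, fun hl => ?_⟩
  exact (PairNilpotent.nilpotent_iff_inertial hM hmax hab).2 fun x hxN hxst =>
    mem_centralizer_of_rank_one hM hmax hcyc hl (mem_stab.2 ⟨hxN, hxst⟩)

end Cfsg.Agent.S4649
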