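import Cfsg.Statements.S4639
import Cfsg.Agent.Lib.Blocks.Star.FreeLattice
import Cfsg.Agent.Lib.Blocks.InducedPairs
import Cfsg.Agent.S4649

set_option autoImplicit false
open Cfsg

namespace Cfsg.Agent.S4639

/-- Let B be a block of the finite group G relative to a maximal ideal M of the algebraic integers containing the prime p, with a nontrivial commutative defect group P. Let c be a block of C_G(P) inducing B, T the stabilizer of c in N_G(P) and e the index of C_G(P) in T. Suppose that T/C_G(P) is commutative (all commutators of elements of T lie in C_G(P)) and acts freely on the non-identity elements of P (an element of T fixing a non-identity element of P under conjugation lies in C_G(P)). Then B has at most e + (#P − 1)/e irreducible characters and p-regular rank at most e; equality holds in the first bound exactly when it holds in the second; and both equalities hold when e ≤ 3. -/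
theorem result {G : Type*} [Group G] [Finite G] (p : ℕ) [Fact p.Prime] (M : Ideal Cfsg.AlgInt) (hM : Cfsg.IsPModular p M) (B : Set (Cfsg.IrrCharacter G)) (hB : Cfsg.IsPBlock M B) (P : Subgroup G) (hPD : Cfsg.IsDefectGroup p M B P) (hP1 : P ≠ ⊥) (hPab : ∀ x ∈ P, ∀ y ∈ P, x * y = y * x) (c : Set (Cfsg.IrrCharacter (Subgroup.centralizer (P : Set G)))) (hc : Cfsg.IsInducedBlock M (Subgroup.centralizer (P : Set G)) c B) (T : Subgroup G) (hT : ∀ g : G, g ∈ T ↔ (g ∈ Subgroup.normalizer (P : Set G) ∧ Cfsg.StabilizesBlock (Subgroup.centralizer (P : Set G)) c g)) (e : ℕ) (he : (Subgroup.centralizer (P : Set G)).relIndex T = e) (hEab : ∀ g ∈ T, ∀ h ∈ T, g * h * g⁻¹ * h⁻¹ ∈ Subgroup.centralizer (P : Set G)) (hfree : ∀ g ∈ T, ∀ x ∈ P, x ≠ 1 → g * x * g⁻¹ = x → g ∈ Subgroup.centralizer (P : Set G)) : Nat.card B ≤ e + (Nat.card P - 1) / e ∧ Cfsg.blockRank p B ≤ e ∧ (Nat.card B = e + (Nat.card P - 1) / e ↔ Cfsg.blockRank p B = e) ∧ (e ≤ 3 → Nat.card B = e + (Nat.card P - 1) / e ∧ Cfsg.blockRank p B = e) := by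
  classical
  haveI := Fintype.ofFinite G
  haveI := Fintype.ofFinite (Cfsg.IrrCharacter G)
  have hmax := Cfsg.Agent.Blocks.InducedPairs.isMaximal_of_induced hM hPD hPab hc
  have hTs := Cfsg.Agent.BlockCharsA.PairLocal.eq_stab hT
  subst hTs
  have hF : Cfsg.Agent.Blocks.Star.Frees P c := fun x hx v hv hv1 h => hfree x hx v hv hv1 h
  obtain ⟨n, hn, hk, hl1, hle, h3⟩ :=
    Cfsg.Agent.Blocks.Star.free_counts hM hmax hPab hP1 hF
  have hr : Nat.card (Cfsg.Agent.Blocks.Star.inertR P c) = e :=
    Cfsg.Agent.Blocks.Star.card_inertR.trans he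
  rw [hr] at hn hle h3
  have he0 : 0 < e := hr ▸ Nat.card_pos
  rw [hn, Nat.mul_div_cancel _ he0, hk]
  refine ⟨by omega, hle, by omega, fun he3 => ?_⟩
  rcases h3 he3 with h | ⟨hprime, hone⟩
  · exact ⟨by omega, h⟩
  -- prime order and rank one: the inertial quotient is trivial
  haveI := Fact.mk hprime
  have hcyc : IsCyclic P := isCyclic_of_prime_card rfl
  have hcen : ∀ w ∈ Cfsg.Agent.BlockCharsA.PairLocal.stab P c,
      w ∈ Subgroup.centralizer (P : Set G) := fun w hw =>
    Cfsg.Agent.S4649.mem_centralizer_of_rank_one hM hmax hcyc hone hw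
  have he1 : e = 1 := he ▸ Subgroup.relIndex_eq_one.2 hcen
  subst he1
  exact ⟨by omega, hone⟩

end Cfsg.Agent.S4639
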