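import Cfsg.Statements.S4640
import Cfsg.Agent.BlockCharsA.AbelianIndex

set_option autoImplicit false
set_option linter.style.haveILetI false
open Cfsg
open Cfsg.Agent.Blocks Cfsg.Agent.Characters Cfsg.Agent.BlockCharsA.NormalSupport Cfsg.Agent.BlockCharsA.CoveringDefect
open Cfsg.Agent.BlockCharsA

namespace Cfsg.Agent.S4640

/-- Let N be a normal subgroup of the finite group G of index a power of the prime p, M a maximal ideal of the algebraic integers containing p, b a block of N stabilized by every element of G, and B a block of G covering b (some member of B has a member of b as a constituent of its restriction to N). Suppose that B has a commutative defect group P. Then G = NP and P ∩ N is a defect group of b; every member of B restricts to a member of b; every member of b is the restriction of exactly [G : N] members of B; B contains exactly [G : N] times as many irreducible characters as b; and B and b have the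 same p-regular rank. -/
theorem result {G : Type*} [Group G] [Fintype G] (p : ℕ) [Fact p.Prime] (M : Ideal Cfsg.AlgInt) (hM : Cfsg.IsPModular p M) (N : Subgroup G) [N.Normal] [Fintype N] (hNi : ∃ k : ℕ, N.index = p ^ k) (b : Set (Cfsg.IrrCharacter N)) (hb : Cfsg.IsPBlock M b) (hstab : ∀ g : G, Cfsg.StabilizesBlock N b g) (B : Set (Cfsg.IrrCharacter G)) (hB : Cfsg.IsPBlock M B) (hcov : ∃ χ ∈ B, ∃ θ ∈ b, Cfsg.classInner (fun n : N => (χ : G → ℂ) n) (θ : N → ℂ) ≠ 0) (P : Subgroup G) (hPD : Cfsg.IsDefectGroup p M B P) (hPab : ∀ x ∈ P, ∀ y ∈ P, x * y = y * x) : N ⊔ P = ⊤ ∧ Cfsg.IsDefectGroup p M b ((P ⊓ N).subgroupOf N) ∧ (∀ χ ∈ B, ∃ θ ∈ b, ∀ n : N, (χ : G → ℂ) n = (θ : N → ℂ) n) ∧ (∀ θ ∈ b, Nat.card {χ : Cfsg.IrrCharacter G // χ ∈ B ∧ ∀ n : N, (χ : G → ℂ) n = (θ : N → ℂ) n} = N.index) ∧ Nat.card B = N.index * Nat.card b ∧ Cfsg.blockRank p B = Cfsg.blockRank p b := by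
  classical
  haveI := Fintype.ofFinite (G ⧸ N)
  have hinv : ∀ (g : G), ∀ θ ∈ b, conjIrr g θ ∈ b := by
    intro g θ hθ
    obtain ⟨θ', hθ', h⟩ := (hstab g⁻¹).2 θ hθ
    have e : conjIrr g θ = θ' := Subtype.ext (funext fun n =>
      (h ⟨g * n * g⁻¹, (inferInstance : N.Normal).conj_mem (n : G) n.2 g⟩ n
        (by simp [mul_assoc])).symm)
    rwa [e]
  have hie : IsInvEl (blockIdem b) := isInvEl_blockIdem hinv
  obtain ⟨χ₀, hχ₀, θ₀, hθ₀, hcov₀⟩ := hcov
  have huniq : ∀ B' : Set (Cfsg.IrrCharacter G), Cfsg.IsPBlock M B' →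
      (∃ ψ ∈ B', ∃ θ ∈ b, Cfsg.classInner (fun n : N => (ψ : G → ℂ) n) (θ : N → ℂ) ≠ 0) →
      B' = B := by
    rintro B' hB' ⟨ψ, hψ, θ, hθ, h⟩
    exact block_eq_of_mem hM hB' hB (mem_of_sameBlock hM hB' hψ
      (sameBlock_of_covers_same hM hNi h hcov₀ (sameBlock_of_mem hM hb hθ hθ₀))) hχ₀
  have hover : ∀ (ψ : Cfsg.IrrCharacter G) (θ : Cfsg.IrrCharacter N), θ ∈ b →
      Cfsg.classInner (fun n : N => (ψ : G → ℂ) n) (θ : N → ℂ) ≠ 0 → ψ ∈ B := by
    intro ψ θ hθ h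
    rw [← huniq _ (isPBlock_blockOf M ψ) ⟨ψ, mem_blockOf_self hM ψ, θ, hθ, h⟩]
    exact mem_blockOf_self hM ψ
  have hunder : ∀ (ψ : Cfsg.IrrCharacter G) (θ : Cfsg.IrrCharacter N), ψ ∈ B →
      Cfsg.classInner (fun n : N => (ψ : G → ℂ) n) (θ : N → ℂ) ≠ 0 → θ ∈ b := by
    intro ψ θ hψ h
    obtain ⟨g, hg⟩ := constituents_conj_block hM (sameBlock_of_mem hM hB hχ₀ hψ) hcov₀ h
    exact mem_of_sameBlock hM hb (hinv g θ₀ hθ₀) hg
  obtain ⟨h1, h2, -⟩ := maximal_covering hM hb hinv hB ⟨χ₀, hχ₀, θ₀, hθ₀, hcov₀⟩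
    (fun B' hB' h => le_of_eq (by rw [huniq B' hB' h])) hPD
  obtain ⟨k, hk⟩ := hNi
  have hidx : (P ⊔ N).index = 1 := by
    obtain ⟨j, -, hj⟩ := (Nat.dvd_prime_pow hM.1).1
      (hk ▸ Subgroup.index_dvd_of_le (le_sup_right : N ≤ P ⊔ N))
    rw [hj]
    rcases Nat.eq_zero_or_pos j with rfl | hj0
    · rfl
    · exact absurd (hj ▸ dvd_pow_self p hj0.ne') h1
  have htop : N ⊔ P = ⊤ := by rw [sup_comm, ← Subgroup.index_eq_one, hidx]
  have hsurj : ∀ q : G ⧸ N, ∃ u ∈ P, (u : G ⧸ N) = q := by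
    intro q
    induction q using QuotientGroup.induction_on with | _ g => ?_
    have hg : g ∈ N ⊔ P := htop ▸ Subgroup.mem_top g
    obtain ⟨n, hn, u, hu, rfl⟩ := Subgroup.mem_sup_of_normal_left.1 hg
    exact ⟨u, hu, by rw [QuotientGroup.mk_mul, (QuotientGroup.eq_one_iff n).2 hn, one_mul]⟩
  have hcomm : ∀ a c : G ⧸ N, a * c = c * a := by
    intro a c
    obtain ⟨x, hx, rfl⟩ := hsurj a
    obtain ⟨y, hy, rfl⟩ := hsurj c
    rw [← QuotientGroup.mk_mul, ← QuotientGroup.mk_mul, hPab x hx y hy]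
  have hidem : blockIdem B = push N (blockIdem b) :=
    central_omega_ext (central_blockIdem _) (central_push hie) fun ψ => by
      obtain ⟨η, hη⟩ := exists_under (N := N) ψ
      rw [omega_push_eq ψ η hη hie]
      by_cases h : η ∈ b
      · rw [omega_blockIdem_mem h, omega_blockIdem_mem (hover ψ η h hη)]
      · rw [omega_blockIdem_notMem h, omega_blockIdem_notMem fun hψ => h (hunder ψ η hψ hη)]
  obtain ⟨g₀, hg₀, hs⟩ : ∃ g, Cfsg.IsDefectClass M B g ∧ IsSylCent p g P := hPD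
  have hg₀N : g₀ ∈ N := by
    by_contra h
    exact hg₀.2.1 (by rw [← coeff_blockIdem, hidem, coeff_push_notMem _ h]; exact ideal_zero hM)
  have hr : ∀ χ ∈ B, ∀ g : G, ∃ r : MonoidAlgebra ℂ G, IsCentralEl r ∧ Supp (g : G ⧸ N) r ∧
      omega (χ : G → ℂ) r ≠ 0 := by
    intro χ hχ g
    obtain ⟨u, hu, hug⟩ := hsurj (g : G ⧸ N)
    refine ⟨classSum (u * g₀), central_classSum _, fun a ha => ?_, ne_zero_of_not_ideal hM
      (AbelianDefectExt.omega_unit hM hB hPab hg₀ hs hχ hu)⟩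
    rw [coeff_classSum, if_neg fun hc => ha ?_]
    obtain ⟨c, rfl⟩ := isConj_iff.1 hc
    rw [QuotientGroup.mk_mul, QuotientGroup.mk_mul, QuotientGroup.mk_mul, QuotientGroup.mk_inv,
      (QuotientGroup.eq_one_iff g₀).2 hg₀N, mul_one, hcomm, inv_mul_cancel_left, hug]
  have hres : ∀ χ ∈ B, ∃ θ ∈ b, ∀ n : N, (χ : G → ℂ) n = (θ : N → ℂ) n := by
    intro χ hχ
    obtain ⟨θ, hθ⟩ := exists_under (N := N) χ
    exact ⟨θ, hunder χ θ hχ hθ, AbelianIndex.restrict_eq hcomm χ (hr χ hχ) hθ⟩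
  have hext : ∀ (χ : Cfsg.IrrCharacter G) (θ : Cfsg.IrrCharacter N), θ ∈ b →
      (∀ n : N, (χ : G → ℂ) n = (θ : N → ℂ) n) → χ ∈ B := fun χ θ hθ h =>
    hover χ θ hθ (by rw [funext h, classInner_isIrr_self θ.2]; exact one_ne_zero)
  have hexist : ∀ θ ∈ b, ∃ χ ∈ B, ∀ n : N, (χ : G → ℂ) n = (θ : N → ℂ) n := by
    intro θ hθ
    obtain ⟨χ, hχ⟩ := exists_over (N := N) θ
    exact ⟨χ, hover χ θ hθ hχ, AbelianIndex.restrict_eq hcomm χ (hr χ (hover χ θ hθ hχ)) hχ⟩
  have hcount : ∀ θ ∈ b, Nat.card {χ : Cfsg.IrrCharacter G //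
      χ ∈ B ∧ ∀ n : N, (χ : G → ℂ) n = (θ : N → ℂ) n} = N.index := by
    intro θ hθ
    obtain ⟨χ, hχ, hχθ⟩ := hexist θ hθ
    rw [← AbelianIndex.card_extensions hcomm χ (hr χ hχ) hχθ]
    exact Nat.card_congr (Equiv.subtypeEquivRight fun ψ => ⟨fun h => h.2, fun h => ⟨hext ψ θ hθ h, h⟩⟩)
  refine ⟨htop, h2, hres, hcount, ?_, ?_⟩
  · haveI := Fintype.ofFinite b
    choose θf hθf hθr using fun χ : B => hres χ.1 χ.2
    rw [mul_comm, ← Nat.card_congr (Equiv.sigmaFiberEquiv fun χ : B => (⟨θf χ, hθf χ⟩ : b))]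
    rw [Nat.card_sigma, Finset.sum_eq_card_nsmul (b := N.index), Finset.card_univ,
      ← Nat.card_eq_fintype_card, smul_eq_mul]
    intro θ _
    rw [← hcount θ.1 θ.2]
    refine Nat.card_congr ((Equiv.subtypeSubtypeEquivSubtypeExists _ _).trans
      (Equiv.subtypeEquivRight fun χ => ⟨?_, ?_⟩))
    · rintro ⟨hχ, h⟩
      exact ⟨hχ, fun n => by rw [hθr ⟨χ, hχ⟩, ← congrArg Subtype.val h]⟩
    · rintro ⟨hχ, h⟩
      exact ⟨hχ, Subtype.ext (Subtype.ext (funext fun n => by rw [← hθr ⟨χ, hχ⟩, h]))⟩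
  · let E : (N → ℂ) →ₗ[ℂ] (G → ℂ) :=
      { toFun := fun f g => if h : g ∈ N then f ⟨g, h⟩ else 0
        map_add' := fun f f' => funext fun g => by
          simp only [Pi.add_apply]; split <;> simp
        map_smul' := fun a f => funext fun g => by
          simp only [Pi.smul_apply, RingHom.id_apply]; split <;> simp }
    have hE : Function.Injective E := fun f f' h => funext fun n => by
      have := congrFun h n
      simpa [E] using this
    have hregN : ∀ g : G, Cfsg.IsPRegular p g → g ∈ N := by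
      intro g hg
      have h3 : orderOf (g : G ⧸ N) ∣ p ^ k := by
        rw [← hk, Subgroup.index_eq_card]; exact orderOf_dvd_natCard _
      have h4 : orderOf (g : G ⧸ N) ∣ orderOf g := orderOf_map_dvd (QuotientGroup.mk' N) g
      exact (QuotientGroup.eq_one_iff g).1 (orderOf_eq_one_iff.1 (Nat.eq_one_of_dvd_coprimes
        (Nat.Coprime.pow_left k (hM.1.coprime_iff_not_dvd.2 hg)) h3 h4))
    have hEreg : ∀ (χ : Cfsg.IrrCharacter G) (θ : Cfsg.IrrCharacter N),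
        (∀ n : N, (χ : G → ℂ) n = (θ : N → ℂ) n) →
        Cfsg.pRegularPart p (χ : G → ℂ) = E (Cfsg.pRegularPart p (θ : N → ℂ)) := by
      intro χ θ h
      funext g
      simp only [E, LinearMap.coe_mk, AddHom.coe_mk, Cfsg.pRegularPart]
      by_cases hg : g ∈ N
      · rw [dif_pos hg, ← h ⟨g, hg⟩]
        refine if_congr ?_ rfl rfl
        simp only [Cfsg.IsPRegular, Subgroup.orderOf_mk]
      · rw [dif_neg hg, if_neg fun hr => hg (hregN g hr)]
    have himg : (fun χ : Cfsg.IrrCharacter G => Cfsg.pRegularPart p (χ : G → ℂ)) '' B =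
        E '' ((fun θ : Cfsg.IrrCharacter N => Cfsg.pRegularPart p (θ : N → ℂ)) '' b) := by
      ext f
      constructor
      · rintro ⟨χ, hχ, rfl⟩
        obtain ⟨θ, hθ, h⟩ := hres χ hχ
        exact ⟨_, ⟨θ, hθ, rfl⟩, (hEreg χ θ h).symm⟩
      · rintro ⟨f', ⟨θ, hθ, rfl⟩, rfl⟩
        obtain ⟨χ, hχ, h⟩ := hexist θ hθ
        exact ⟨χ, hχ, hEreg χ θ h⟩
    unfold Cfsg.blockRank
    rw [himg, Submodule.span_image]
    exact (Submodule.equivMapOfInjective E hE _).finrank_eq.symm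

end Cfsg.Agent.S4640
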