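import Cfsg.Statements.S4650
import Cfsg.Agent.Lib.Blocks.LocalNilpotent

set_option autoImplicit false
open Cfsg

namespace Cfsg.Agent.S4650
open Cfsg.Agent Cfsg.Agent.Blocks

/-- Let B be a block of the finite group G relative to a maximal ideal M of the algebraic integers containing the prime p, with a nontrivial commutative defect group P; let c be a block of C_G(P) inducing B and T the stabilizer of c in N_G(P). Then T/C_G(P) acts freely on the non-identity elements of P (an element of T fixing a non-identity element of P under conjugation lies in C_G(P)) if and only if, for every nontrivial subgroup Q of P, the block of C_G(Q) induced by c inside C_G(Q) is a nilpotent block of C_G(Q). -/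
theorem result {G : Type*} [Group G] [Finite G] (p : ℕ) [Fact p.Prime] (M : Ideal Cfsg.AlgInt) (hM : Cfsg.IsPModular p M) (B : Set (Cfsg.IrrCharacter G)) (hB : Cfsg.IsPBlock M B) (P : Subgroup G) (hPD : Cfsg.IsDefectGroup p M B P) (hPab : ∀ x ∈ P, ∀ y ∈ P, x * y = y * x) (hP1 : P ≠ ⊥) (c : Set (Cfsg.IrrCharacter (Subgroup.centralizer (P : Set G)))) (hc : Cfsg.IsInducedBlock M (Subgroup.centralizer (P : Set G)) c B) (T : Subgroup G) (hT : ∀ g : G, g ∈ T ↔ (g ∈ Subgroup.normalizer (P : Set G) ∧ Cfsg.StabilizesBlock (Subgroup.centralizer (P : Set G)) c g)) : (∀ g ∈ T, ∀ x ∈ P, x ≠ 1 → g * x * g⁻¹ = x → g ∈ Subgroup.centralizer (P : Set G)) ↔ ∀ Q : Subgroup G, Q ≤ P → Q ≠ ⊥ → ∀ f : Set (Cfsg.IrrCharacter (Subgroup.centralizer (Q : Set G))), Cfsg.IsInducedBlockIn M (Subgroup.centralizer (Q : Set G)) (Subgroup.centralizer (P : Set G)) c f → Cfsg.IsNilpotentBlock p M f := by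
  have hmax := InducedPairs.isMaximal_of_induced hM hPD hPab hc
  have hTs := BlockCharsA.PairLocal.eq_stab hT
  subst hTs
  constructor
  · intro hfree Q hQP hQ1 f hf
    have hle := InducedPairs.subpairLE_of_inducedIn hM (isPGroup_defect hPD) hPab hQP hf
    refine (LocalNilpotent.isNilpotent_iff hM hmax hPab hle).2 fun x hx hxQ => ?_
    obtain ⟨q, hq, hq1⟩ := Q.bot_or_exists_ne_one.resolve_left hQ1
    exact hfree x hx q (hQP hq) hq1 (by rw [← hxQ q hq, mul_inv_cancel_right])
  · intro h g hg x hx hx1 hfix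
    have hQP : Subgroup.zpowers x ≤ P := Subgroup.zpowers_le.2 hx
    obtain ⟨f, -, hle⟩ := BlockCharsA.BrauerPairs.exists_subpair hM _ (Subgroup.zpowers x) P c rfl hmax.1.1 hQP
    have hnil := h _ hQP (fun h0 => hx1 (Subgroup.zpowers_eq_bot.1 h0)) f
      (LocalNilpotent.inducedIn_of_subpairLE hM hmax hPab hle)
    refine (LocalNilpotent.isNilpotent_iff hM hmax hPab hle).1 hnil g hg ?_
    exact Blocks.mem_centralizer_zpowers.2
      (Subgroup.mem_centralizer_singleton_iff.2 (mul_inv_eq_iff_eq_mul.1 hfix))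

end Cfsg.Agent.S4650
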