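import Mathlib
import Cfsg.Statements.S4664
import Cfsg.Agent.Lib.Blocks.Orthogonality

set_option autoImplicit false
open Cfsg

namespace Cfsg.Agent.S4664

open Cfsg.Agent.Blocks Cfsg.Agent.Characters
open scoped ComplexConjugate


/-- Fix a prime p and a maximal ideal M of the algebraic integers containing p, and let B be a p-block of the finite group G. Let m be the p'-part of the order of G and η = exp(2πi/m). Then every coefficient of the idempotent of B lies in the cyclotomic field ℚ(η). -/
theorem result {G : Type*} [Group G] [Fintype G] (p : ℕ) [Fact p.Prime] (M : Ideal Cfsg.AlgInt) (hM : Cfsg.IsPModular p M) (B : Set (Cfsg.IrrCharacter G)) (hB : Cfsg.IsPBlock M B) (g : G) : Cfsg.blockCoeff B g ∈ IntermediateField.adjoin ℚ ({Complex.exp (2 * Real.pi * Complex.I / ((Nat.card G / p ^ (Nat.card G).factorization p : ℕ) : ℂ))} : Set ℂ) := by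
  classical
  set n := Nat.card G / p ^ (Nat.card G).factorization p with hn
  set K := IntermediateField.adjoin ℚ
    ({Complex.exp (2 * Real.pi * Complex.I / (n : ℂ))} : Set ℂ) with hK
  by_cases hg : p ∣ orderOf g
  · rw [blockCoeff_eq_zero_of_singular hM (intEl_blockIdem hM hB) hg]
    exact zero_mem _
  haveI := Fintype.ofFinite (Cfsg.IrrCharacter G)
  have hord : orderOf g ∣ n := by
    have h1 : orderOf g ∣ p ^ (Nat.card G).factorization p * n := by
      rw [hn, Nat.ordProj_mul_ordCompl_eq_self]; exact orderOf_dvd_natCard g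
    exact (Nat.Coprime.pow_right _ (hM.1.coprime_iff_not_dvd.2 hg).symm).dvd_of_dvd_mul_left h1
  have hn0 : n ≠ 0 := (Nat.ordCompl_pos p Nat.card_pos.ne').ne'
  have hz : Complex.exp (2 * Real.pi * Complex.I / (n : ℂ)) ∈ K :=
    IntermediateField.subset_adjoin ℚ _ rfl
  have hval : ∀ (χ : Cfsg.IrrCharacter G) (h : G), orderOf h ∣ n → (χ : G → ℂ) h ∈ K := by
    rintro ⟨χ, d, ρ, -, rfl⟩ h hh
    obtain ⟨w, hw, hsum⟩ := exists_rootsOfUnity_sum ρ h
    have h1 := hsum 1
    simp only [pow_one] at h1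
    show ρ.character h ∈ K
    rw [h1]
    refine sum_mem fun i _ => ?_
    have hwn : w i ^ n = 1 := by
      obtain ⟨c, hc⟩ := hh
      rw [hc, pow_mul, hw, one_pow]
    haveI : NeZero n := ⟨hn0⟩
    obtain ⟨j, -, hj⟩ := (Complex.isPrimitiveRoot_exp n hn0).eq_pow_of_pow_eq_one hwn
    rw [← hj]
    exact pow_mem hz j
  rw [blockCoeff_eq_sum]
  refine mul_mem (inv_mem (natCast_mem _ _)) (sum_mem fun χ _ => ?_)
  split
  · rw [← char_inv (irr_isCharacter χ)]
    exact mul_mem (hval χ 1 (by simp)) (hval χ g⁻¹ (by rwa [orderOf_inv]))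
  · exact zero_mem _

end Cfsg.Agent.S4664
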