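import Mathlib
import Cfsg.Statements.S4665
import Cfsg.Agent.Lib.Characters.Inner

set_option autoImplicit false
open Cfsg

namespace Cfsg.Agent.S4665

open scoped ComplexConjugate


/-- Fix a prime p, a maximal ideal M of the algebraic integers containing p, and a p-block B of the finite group G, and let p^a be the p-part of the order of G. Let χ be an integer combination of the irreducible characters in B. If the function that agrees with χ on p-regular elements and vanishes on p-singular elements is again an integer combination of the irreducible characters in B, then p^a divides χ(1). -/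
theorem result {G : Type*} [Group G] [Fintype G] (p : ℕ) [Fact p.Prime] (M : Ideal Cfsg.AlgInt) (hM : Cfsg.IsPModular p M) (B : Set (Cfsg.IrrCharacter G)) (hB : Cfsg.IsPBlock M B) (χ : G → ℂ) (hχ : (∃ n : Cfsg.IrrCharacter G → ℤ, ∀ g : G, χ g = ∑ᶠ ψ ∈ B, (n ψ : ℂ) * (ψ : G → ℂ) g)) (h0 : (∃ n : Cfsg.IrrCharacter G → ℤ, ∀ g : G, Cfsg.pRegularPart p χ g = ∑ᶠ ψ ∈ B, (n ψ : ℂ) * (ψ : G → ℂ) g)) : ∃ k : ℤ, χ 1 = (p ^ (Nat.card G).factorization p : ℂ) * k := by
  classical
  obtain ⟨m, hm⟩ := h0
  obtain ⟨P⟩ : Nonempty (Sylow p G) := inferInstance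
  rw [show ((p : ℂ) ^ (Nat.card G).factorization p) = (Nat.card P : ℂ) by
    rw [P.card_eq_multiplicity]; push_cast; rfl]
  haveI := Fintype.ofFinite P
  haveI := Fintype.ofFinite (Cfsg.IrrCharacter G)
  set one : P → ℂ := fun _ => 1
  have h1 : Cfsg.classInner (fun y : P => Cfsg.pRegularPart p χ y) one =
      χ 1 / (Nat.card P : ℂ) := by
    have hval : ∀ y : P, Cfsg.pRegularPart p χ (y : G) = if y = 1 then χ 1 else 0 := by
      intro y
      rcases eq_or_ne y 1 with rfl | hy
      · simp [Cfsg.pRegularPart, Cfsg.IsPRegular, (Fact.out : p.Prime).ne_one]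
      · obtain ⟨k, hk⟩ := IsPGroup.iff_orderOf.1 P.2 y
        have hk0 : k ≠ 0 := by
          rintro rfl
          exact hy (orderOf_eq_one_iff.1 (by simpa using hk))
        simp [Cfsg.pRegularPart, Cfsg.IsPRegular, hy, hk, dvd_pow_self p hk0]
    simp [Cfsg.classInner, hval, one, div_eq_inv_mul]
    try exact Or.inl (Fintype.card_congr (Equiv.refl _))
  have hint : ∀ ψ : Cfsg.IrrCharacter G, ∃ k : ℤ,
      Cfsg.classInner (fun y : P => (ψ : G → ℂ) y) one = k := fun ψ => by
    obtain ⟨k, hk⟩ := Cfsg.Agent.Characters.classInner_char_nat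
      (Cfsg.Agent.Characters.isCharacter_restrict (P : Subgroup G) (Cfsg.Agent.Characters.irr_isCharacter ψ))
      (Cfsg.Agent.Characters.isCharacter_one (G := P))
    refine ⟨k, ?_⟩
    rw [show ((k : ℤ) : ℂ) = (k : ℂ) from Int.cast_natCast k]
    exact hk
  choose c hc using hint
  refine ⟨∑ ψ ∈ B.toFinite.toFinset, m ψ * c ψ, ?_⟩
  have h2 : (fun y : P => Cfsg.pRegularPart p χ y) =
      ∑ ψ ∈ B.toFinite.toFinset, (m ψ : ℂ) • (fun y : P => (ψ : G → ℂ) y) := by
    funext y
    rw [hm, finsum_mem_eq_finite_toFinset_sum _ B.toFinite]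
    simp
  rw [h2, Cfsg.Agent.Characters.classInner_sum_left] at h1
  simp only [Cfsg.Agent.Characters.classInner_smul_left, hc] at h1
  have hne : (Nat.card P : ℂ) ≠ 0 := Nat.cast_ne_zero.2 Nat.card_pos.ne'
  push_cast
  rw [h1, mul_div_cancel₀ _ hne]

end Cfsg.Agent.S4665
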