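import Mathlib
import Cfsg.Statements.S4666
import Cfsg.Agent.BlockCharsA.RegularPart

set_option autoImplicit false
open Cfsg

namespace Cfsg.Agent.S4666

open Cfsg.Agent.Blocks Cfsg.Agent.Characters Cfsg.Agent.BlockCharsA.RegularPart


/-- Fix a prime p and a maximal ideal M of the algebraic integers containing p, and a p-block B of the finite group G of defect d. For every integer combination χ of the irreducible characters in B, p^d times the function that agrees with χ on p-regular elements and vanishes elsewhere is again an integer combination of the irreducible characters in B. -/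
theorem result {G : Type*} [Group G] [Fintype G] (p : ℕ) [Fact p.Prime] (M : Ideal Cfsg.AlgInt) (hM : Cfsg.IsPModular p M) (B : Set (Cfsg.IrrCharacter G)) (hB : Cfsg.IsPBlock M B) (χ : G → ℂ) (hχ : (∃ n : Cfsg.IrrCharacter G → ℤ, ∀ g : G, χ g = ∑ᶠ ψ ∈ B, (n ψ : ℂ) * (ψ : G → ℂ) g)) : (∃ n : Cfsg.IrrCharacter G → ℤ, ∀ g : G, (p ^ Cfsg.blockDefect p B : ℂ) * Cfsg.pRegularPart p χ g = ∑ᶠ ψ ∈ B, (n ψ : ℂ) * (ψ : G → ℂ) g) := by
  classical
  haveI := Fintype.ofFinite (Cfsg.IrrCharacter G)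
  obtain ⟨n, hn⟩ := hχ
  choose z hz using fun ψ ξ : Cfsg.IrrCharacter G => exists_coeff hM ψ ξ
  set a := (Nat.card G).factorization p
  set d := Cfsg.blockDefect p B
  have hda : d ≤ a := blockDefect_le p B
  have hdiv : ∀ ψ : Cfsg.IrrCharacter G, ∀ ξ ∈ B, (p : ℤ) ^ (a - d) ∣ z ψ ξ := fun ψ ξ hξ =>
    (pow_dvd_pow _ (by have := degree_factorization_eq hM hB hξ; omega)).trans (hz ψ ξ).2.2
  refine ⟨fun ξ => ∑ ψ : Cfsg.IrrCharacter G,
    if ψ ∈ B then n ψ * (z ψ ξ / (p : ℤ) ^ (a - d)) else 0, fun g => ?_⟩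
  have hsum : ∀ f : Cfsg.IrrCharacter G → ℂ, ∑ᶠ ψ ∈ B, f ψ =
      ∑ ψ : Cfsg.IrrCharacter G, if ψ ∈ B then f ψ else 0 := fun f => by
    rw [finsum_mem_def, finsum_eq_sum_of_fintype]; simp only [Set.indicator_apply]
  have hψ : ∀ ψ ∈ B, ((p : ℂ) ^ d) * hat p 1 (ψ : G → ℂ) g =
      ∑ ξ : Cfsg.IrrCharacter G,
        if ξ ∈ B then ((z ψ ξ / (p : ℤ) ^ (a - d) : ℤ) : ℂ) * (ξ : G → ℂ) g else 0 := by
    intro ψ hψB
    have hc : Cfsg.IsClassFunction G (hat p ((p ^ a : ℕ) : ℂ) (ψ : G → ℂ)) :=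
      hat_isClassFunction (irr_isClassFunction ψ)
    have h1 := congrFun (classFun_eq_sum hc) g
    simp only [Finset.sum_apply, Pi.smul_apply, smul_eq_mul] at h1
    have hhat : ((p ^ a : ℕ) : ℂ) * hat p 1 (ψ : G → ℂ) g =
        hat p ((p ^ a : ℕ) : ℂ) (ψ : G → ℂ) g := by
      simp only [hat]; split <;> simp
    apply mul_left_cancel₀ (pow_ne_zero (a - d)
      (Nat.cast_ne_zero.2 (Fact.out : p.Prime).ne_zero : (p : ℂ) ≠ 0))
    rw [← mul_assoc, ← pow_add, Nat.sub_add_cancel hda, ← Nat.cast_pow, hhat, h1, Finset.mul_sum]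
    refine Finset.sum_congr rfl fun ξ _ => ?_
    by_cases hξ : ξ ∈ B
    · rw [if_pos hξ, (hz ψ ξ).1, ← mul_assoc]
      congr 1
      rw [show (p : ℂ) ^ (a - d) = (((p : ℤ) ^ (a - d) : ℤ) : ℂ) by push_cast; rfl,
        ← Int.cast_mul, Int.mul_ediv_cancel' (hdiv ψ ξ hξ)]
    · rw [if_neg hξ, ratio_eq_zero hM fun e => hξ (mem_of_sameBlock hM hB hψB e)]; simp
  rw [pRegularPart_eq, hsum, hat]
  calc (p : ℂ) ^ d * (if p ∣ orderOf g then 0 else 1 * χ g)
      = ∑ ψ : Cfsg.IrrCharacter G,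
          if ψ ∈ B then (n ψ : ℂ) * ((p : ℂ) ^ d * hat p 1 (ψ : G → ℂ) g) else 0 := by
        rw [hn g, hsum]
        by_cases h : p ∣ orderOf g
        · simp [hat, h]
        · simp only [hat, if_neg h, one_mul, Finset.mul_sum]
          exact Finset.sum_congr rfl fun ψ _ => by split <;> ring
    _ = ∑ ψ : Cfsg.IrrCharacter G, ∑ ξ : Cfsg.IrrCharacter G, if ψ ∈ B then (if ξ ∈ B then
          (n ψ : ℂ) * ((z ψ ξ / (p : ℤ) ^ (a - d) : ℤ) : ℂ) * (ξ : G → ℂ) g else 0) else 0 := by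
        refine Finset.sum_congr rfl fun ψ _ => ?_
        by_cases h : ψ ∈ B
        · simp only [if_pos h]
          rw [hψ ψ h, Finset.mul_sum]
          exact Finset.sum_congr rfl fun ξ _ => by split <;> ring
        · simp [h]
    _ = _ := by
        rw [Finset.sum_comm]
        refine Finset.sum_congr rfl fun ξ _ => ?_
        by_cases h : ξ ∈ B
        · simp only [if_pos h]
          rw [Int.cast_sum, Finset.sum_mul]
          exact Finset.sum_congr rfl fun ψ _ => by split <;> push_cast <;> ring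
        · simp [h]

end Cfsg.Agent.S4666
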