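import Mathlib
import Cfsg.Statements.S4667
import Cfsg.Agent.Lib.Blocks.RegularSum

set_option autoImplicit false
open Cfsg

namespace Cfsg.Agent.S4667

open Cfsg.Agent.Blocks Cfsg.Agent.Characters
open scoped ComplexConjugate


/-- Fix a prime p and a maximal ideal M of the algebraic integers containing p, and a p-block B of the finite group G. The p-regular rank of B (the number of irreducible Brauer characters in B) times the order of G equals the sum over the p-regular elements x of G of Σ_{χ ∈ B} χ(x) χ(x⁻¹) (written with the restriction of χ to p-regular elements, which vanishes at p-singular x). -/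
theorem result {G : Type*} [Group G] [Fintype G] (p : ℕ) [Fact p.Prime] (M : Ideal Cfsg.AlgInt) (hM : Cfsg.IsPModular p M) (B : Set (Cfsg.IrrCharacter G)) (hB : Cfsg.IsPBlock M B) : (Nat.card G : ℂ) * (Cfsg.blockRank p B : ℂ) = ∑ x : G, ∑ᶠ χ ∈ B, Cfsg.pRegularPart p (χ : G → ℂ) x * (χ : G → ℂ) x⁻¹ := by
  classical
  haveI := Fintype.ofFinite (Cfsg.IrrCharacter G)
  have hint := intEl_blockIdem hM hB
  let F : Finset (Cfsg.IrrCharacter G) := Finset.univ.filter (· ∈ B)
  let hat : (G → ℂ) → G → ℂ := fun f x => if p ∣ orderOf x then 0 else f x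
  have hhat : ∀ f : G → ℂ, Cfsg.pRegularPart p f = hat f := fun f => by
    funext x
    by_cases h : p ∣ orderOf x <;> simp [Cfsg.pRegularPart, Cfsg.IsPRegular, hat, h]
  let T : (G → ℂ) →ₗ[ℂ] (G → ℂ) :=
    { toFun := fun f => ∑ χ ∈ F, Cfsg.classInner (hat f) (χ : G → ℂ) • (χ : G → ℂ)
      map_add' := fun f g => by
        rw [← Finset.sum_add_distrib]
        refine Finset.sum_congr rfl fun χ _ => ?_
        rw [show hat (f + g) = hat f + hat g by
          funext x; simp only [hat, Pi.add_apply]; split <;> simp, classInner_add_left, add_smul]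
      map_smul' := fun c f => by
        rw [RingHom.id_apply, Finset.smul_sum]
        refine Finset.sum_congr rfl fun χ _ => ?_
        rw [show hat (c • f) = c • hat f by
          funext x; simp only [hat, Pi.smul_apply]; split <;> simp, classInner_smul_left, smul_smul] }
  have hTsing : ∀ (f : G → ℂ) (x : G), p ∣ orderOf x → T f x = 0 := by
    intro f x hx
    have : T f x = (Nat.card G : ℂ)⁻¹ * ∑ y : G, hat f y *
        ∑ χ ∈ F, (χ : G → ℂ) x * conj ((χ : G → ℂ) y) := by
      simp only [T, LinearMap.coe_mk, AddHom.coe_mk, Finset.sum_apply, Pi.smul_apply, smul_eq_mul,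
        classInner_def, Finset.mul_sum, Finset.sum_mul]
      rw [Finset.sum_comm]
      exact Finset.sum_congr rfl fun y _ => Finset.sum_congr rfl fun χ _ => by ring
    rw [this]
    refine mul_eq_zero_of_right _ (Finset.sum_eq_zero fun y _ => ?_)
    by_cases hy : p ∣ orderOf y
    · simp [hat, hy]
    · refine mul_eq_zero_of_right _ ?_
      have h := sum_block_reg_sing hM hint hy hx
      rw [finsum_mem_eq_sum_of_inter_support_eq (t := F)] at h
      · have h2 := congrArg (fun z : ℂ => conj z) h
        simp only [map_sum, map_zero, map_mul, Complex.conj_conj] at h2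
        rw [← h2]
        exact Finset.sum_congr rfl fun χ _ => mul_comm _ _
      · simp [F]
  set W := Submodule.span ℂ ((fun χ : Cfsg.IrrCharacter G =>
    Cfsg.pRegularPart p (χ : G → ℂ)) '' B) with hW
  have hgen : ∀ χ ∈ B, T (hat (χ : G → ℂ)) = hat (χ : G → ℂ) := by
    intro χ hχ
    have hc : Cfsg.IsClassFunction G (hat (χ : G → ℂ)) := fun g h => by
      simp only [hat, irr_isClassFunction χ g h, show orderOf (h * g * h⁻¹) = orderOf g by
        simpa using orderOf_injective (MulAut.conj h).toMonoidHom (MulAut.conj h).injective g]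
    have hhh : hat (hat (χ : G → ℂ)) = hat (χ : G → ℂ) := by
      funext x; simp only [hat]; split <;> rfl
    conv_rhs => rw [classFun_eq_sum hc]
    show ∑ ψ ∈ F, Cfsg.classInner (hat (hat (χ : G → ℂ))) (ψ : G → ℂ) • (ψ : G → ℂ) = _
    rw [hhh]
    refine Finset.sum_subset (Finset.subset_univ F) fun ψ _ hψ => ?_
    have h0 := regSum_eq_zero_of_not_sameBlock hM (χ := χ) (ψ := ψ)
      fun e => hψ (Finset.mem_filter.2 ⟨Finset.mem_univ _, mem_of_sameBlock hM hB hχ e⟩)
    rw [regSum_eq_sum] at h0
    rw [classInner_def, show ∑ y : G, hat (χ : G → ℂ) y * conj ((ψ : G → ℂ) y) = 0 by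
      rw [← h0]; exact Finset.sum_congr rfl fun y _ => by
        by_cases h : p ∣ orderOf y <;> simp [hat, h]]
    simp
  have hproj : LinearMap.IsProj W T := by
    refine ⟨fun f => ?_, fun f hf => ?_⟩
    · have : T f = ∑ χ ∈ F, Cfsg.classInner (hat f) (χ : G → ℂ) •
          Cfsg.pRegularPart p (χ : G → ℂ) := by
        funext x
        simp only [Finset.sum_apply, Pi.smul_apply, hhat, smul_eq_mul]
        by_cases hx : p ∣ orderOf x
        · rw [hTsing f x hx]; simp [hat, hx]
        · simp [T, hat, hx]
      rw [this]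
      exact Submodule.sum_mem _ fun χ hχ => Submodule.smul_mem _ _
        (Submodule.subset_span ⟨χ, (Finset.mem_filter.1 hχ).2, rfl⟩)
    · induction hf using Submodule.span_induction with
      | mem f hf =>
        obtain ⟨χ, hχ, rfl⟩ := hf
        simp only [hhat]
        exact hgen χ hχ
      | zero => exact map_zero T
      | add f g _ _ hf hg => rw [map_add, hf, hg]
      | smul c f _ hf => rw [map_smul, hf]
  have ht := hproj.trace
  rw [LinearMap.trace_eq_matrix_trace ℂ (Pi.basisFun ℂ G), Matrix.trace] at ht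
  rw [Cfsg.blockRank, ← ht, Finset.mul_sum]
  refine Finset.sum_congr rfl fun x _ => ?_
  rw [Matrix.diag_apply, LinearMap.toMatrix_eq_toMatrix', LinearMap.toMatrix'_apply,
    finsum_mem_eq_sum_of_inter_support_eq (t := F) _ (by simp [F])]
  simp only [T, LinearMap.coe_mk, AddHom.coe_mk, Finset.sum_apply, Pi.smul_apply, smul_eq_mul,
    Finset.mul_sum]
  refine Finset.sum_congr rfl fun χ _ => ?_
  have hG : (Nat.card G : ℂ) ≠ 0 := natCard_ne_zero
  rw [hhat, classInner_def, Finset.sum_eq_single x (fun y _ hy => by simp [hat, hy]) (by simp),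
    char_inv (irr_isCharacter χ)]
  simp only [hat, Pi.single_eq_same]
  by_cases hx : p ∣ orderOf x
  · simp [hx]
  · simp only [if_neg hx]
    field_simp

end Cfsg.Agent.S4667
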