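import Mathlib
import Cfsg.Statements.S4668
import Cfsg.Agent.BlockCharsA.NormalSupport
import Cfsg.Agent.Lib.Blocks.Orthogonality
import Cfsg.Agent.Lib.Coprime.PGroup

set_option autoImplicit false
open Cfsg

namespace Cfsg.Agent.S4668

open Cfsg.Agent.Blocks


/-- Fix a prime p and a maximal ideal M of the algebraic integers containing p. Let Q₀ < Q₁ < ⋯ < Q_m be a strictly increasing chain of p-subgroups of the finite group G and N the intersection of their normalizers. Then every block idempotent of N is supported on C_G(Q_m): for every p-block E of N, the idempotent coefficient of E vanishes at every element of N outside C_G(Q_m). -/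
theorem result {G : Type*} [Group G] [Fintype G] (p : ℕ) [Fact p.Prime] (M : Ideal Cfsg.AlgInt) (hM : Cfsg.IsPModular p M) (m : ℕ) (Q : Fin (m + 1) → Subgroup G) (hQ : StrictMono Q) (hQp : ∀ i, IsPGroup p (Q i)) (N : Subgroup G) (hN : ∀ g : G, g ∈ N ↔ ∀ i, g ∈ Subgroup.normalizer (Q i : Set G)) (E : Set (Cfsg.IrrCharacter N)) (hE : Cfsg.IsPBlock M E) (n : N) (hn : (n : G) ∉ Subgroup.centralizer (Q (Fin.last m) : Set G)) : Cfsg.blockCoeff E n = 0 := by
  classical
  -- a singular element has coefficient zero
  by_cases hsing : p ∣ orderOf n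
  · exact blockCoeff_eq_zero_of_singular hM (intEl_blockIdem hM hE) hsing
  by_contra hne
  apply hn
  -- `n` centralises the traces of all members of the chain on `N`
  have hfix : ∀ i, (n : G) ∈ Subgroup.centralizer ((Q i ⊓ N : Subgroup G) : Set G) := by
    intro i
    set R := (Q i ⊓ N).subgroupOf N
    haveI : R.Normal := ⟨fun r hr x => by
      rw [Subgroup.mem_subgroupOf] at hr ⊢
      exact ⟨(Subgroup.mem_normalizer_iff.1 ((hN x).1 x.2 i) r).1 hr.1, (x * r * x⁻¹).2⟩⟩
    have hR : IsPGroup p R := ((hQp i).to_le (inf_le_left (b := N))).comap_of_injective N.subtype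
      Subtype.val_injective
    have hc : n ∈ Subgroup.centralizer (R : Set N) := by
      by_contra h
      exact hne (Cfsg.Agent.BlockCharsA.NormalSupport.blockCoeff_eq_zero hM hR le_rfl hE h)
    intro x hx
    exact congrArg Subtype.val (hc ⟨x, hx.2⟩ (show (⟨x, hx.2⟩ : N) ∈ R from hx))
  have hself : ∀ i, ∀ x ∈ Q i, ∀ j, i ≤ j → x ∈ Subgroup.normalizer (Q j : Set G) :=
    fun i x hx j hij => Subgroup.le_normalizer (hQ.monotone hij hx)
  have key : ∀ i : Fin (m + 1), (n : G) ∈ Subgroup.centralizer (Q i : Set G) := by
    intro i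
    induction i using Fin.induction with
    | zero =>
      have h0 : Q 0 ≤ N := fun x hx => (hN x).2 fun j => hself 0 x hx j (Fin.zero_le j)
      have := hfix 0
      rwa [inf_eq_left.2 h0] at this
    | succ i ih =>
      set U := Q i.succ
      set Z := Subgroup.zpowers (n : G)
      have hcop : (Nat.card Z).Coprime p := by
        rw [Nat.card_zpowers, Subgroup.orderOf_coe]
        exact Nat.Coprime.symm ((Nat.Prime.coprime_iff_not_dvd hM.1).2 hsing)
      have hPQ : Q i.castSucc ≤ Subgroup.centralizer (Z : Set G) := by
        intro x hx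
        rw [Subgroup.mem_centralizer_iff]
        intro z hz
        obtain ⟨k, rfl⟩ := Subgroup.mem_zpowers_iff.1 hz
        exact ((show Commute (n : G) x from (ih x hx).symm).zpow_left k).eq
      have hPU : Q i.castSucc ≤ Subgroup.normalizer (U : Set G) :=
        fun x hx => hself _ x hx _ (Fin.castSucc_lt_succ.le)
      have hZU : Z ≤ Subgroup.normalizer (U : Set G) := by
        rw [Subgroup.zpowers_le]
        exact (hN n).1 n.2 i.succ
      have hC : U ⊓ Subgroup.centralizer (Q i.castSucc : Set G) ≤
          Subgroup.centralizer (Z : Set G) := by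
        rintro x ⟨hxU, hxC⟩
        have hxN : x ∈ N := (hN x).2 fun j => by
          rcases le_or_gt j i.castSucc with hj | hj
          · have hfixj : ∀ y ∈ Q j, x * y * x⁻¹ = y := fun y hy => by
              rw [← hxC y (hQ.monotone hj hy), mul_inv_cancel_right]
            rw [Subgroup.mem_normalizer_iff]
            refine fun y => ⟨fun hy => by rw [hfixj y hy]; exact hy, fun hy => ?_⟩
            have h1 := hfixj _ hy
            have h2 : x * y * x⁻¹ = y := mul_left_cancel (mul_right_cancel h1)
            rwa [h2] at hy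
          · exact hself _ x hxU j (Fin.castSucc_lt_iff_succ_le.1 hj)
        rw [Subgroup.mem_centralizer_iff]
        intro z hz
        obtain ⟨k, rfl⟩ := Subgroup.mem_zpowers_iff.1 hz
        exact ((show Commute (n : G) x from
          (hfix i.succ x ⟨hxU, hxN⟩).symm).zpow_left k).eq
      exact Cfsg.Agent.Coprime.le_centralizer_of_pxq (hQp i.castSucc) hcop (hQp i.succ) hPQ hPU hZU hC
        (Subgroup.mem_zpowers _)
  exact key (Fin.last m)

end Cfsg.Agent.S4668
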