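import Cfsg.Statements.S4672
import Cfsg.Agent.BlockCharsA.CoveringDefect

set_option autoImplicit false
set_option linter.style.haveILetI false
open Cfsg
open Cfsg.Agent.Blocks Cfsg.Agent.Characters Cfsg.Agent.BlockCharsA.NormalSupport Cfsg.Agent.BlockCharsA.CoveringDefect

namespace Cfsg.Agent.S4672

/-- Fix a prime p and a maximal ideal M of the algebraic integers containing p. Let N be a normal subgroup of the finite group G of p-power index and c a p-block of N stable under conjugation by G. Then the idempotent of c is a block idempotent of G: there is a p-block B of G whose idempotent coefficients agree with those of c on N and vanish off N; and for every defect group P of such a block B, G = NP and P ∩ N is a defect group of c. -/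
theorem result {G : Type*} [Group G] [Fintype G] (p : ℕ) [Fact p.Prime] (M : Ideal Cfsg.AlgInt) (hM : Cfsg.IsPModular p M) (N : Subgroup G) [N.Normal] (hN : ∃ k : ℕ, N.index = p ^ k) (c : Set (Cfsg.IrrCharacter N)) (hc : Cfsg.IsPBlock M c) (hst : ∀ x : G, Cfsg.StabilizesBlock N c x) : (∃ B : Set (Cfsg.IrrCharacter G), Cfsg.IsPBlock M B ∧ ∀ g : G, Cfsg.blockCoeff B g = Cfsg.subgroupBlockCoeff N c g) ∧ ∀ B : Set (Cfsg.IrrCharacter G), Cfsg.IsPBlock M B → (∀ g : G, Cfsg.blockCoeff B g = Cfsg.subgroupBlockCoeff N c g) → ∀ P : Subgroup G, Cfsg.IsDefectGroup p M B P → N ⊔ P = ⊤ ∧ Cfsg.IsDefectGroup p M c ((P ⊓ N).subgroupOf N) := by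
  classical
  haveI := Fintype.ofFinite N
  have hinv : ∀ (g : G), ∀ θ ∈ c, conjIrr g θ ∈ c := by
    intro g θ hθ
    obtain ⟨θ', hθ', h⟩ := (hst g⁻¹).2 θ hθ
    have e : conjIrr g θ = θ' := Subtype.ext (funext fun n =>
      (h ⟨g * n * g⁻¹, (inferInstance : N.Normal).conj_mem (n : G) n.2 g⟩ n
        (by simp [mul_assoc])).symm)
    rwa [e]
  have hie : IsInvEl (blockIdem c) := isInvEl_blockIdem hinv
  have hmem : ∀ (χ : Cfsg.IrrCharacter G) (η η' : Cfsg.IrrCharacter N), η ∈ c →
      Cfsg.classInner (fun n : N => (χ : G → ℂ) n) (η : N → ℂ) ≠ 0 →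
      Cfsg.classInner (fun n : N => (χ : G → ℂ) n) (η' : N → ℂ) ≠ 0 → η' ∈ c := by
    intro χ η η' hη h h'
    obtain ⟨g, hg⟩ := constituents_conj_block hM (sameBlock_refl hM (χ : G → ℂ)) h h'
    exact mem_of_sameBlock hM hc (hinv g η hη) hg
  refine ⟨?_, fun B hB hcoe P hP => ?_⟩
  · obtain ⟨θ, hθ⟩ := block_nonempty hM hc
    obtain ⟨χ, hχ⟩ := exists_over (N := N) θ
    have e : blockIdem (Cfsg.blockOf M (χ : G → ℂ)) = push N (blockIdem c) :=
      central_omega_ext (central_blockIdem _) (central_push hie) fun ψ => by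
        obtain ⟨η, hη⟩ := exists_under (N := N) ψ
        rw [omega_push_eq ψ η hη hie]
        by_cases h : η ∈ c
        · rw [omega_blockIdem_mem h, omega_blockIdem_mem]
          exact sameBlock_of_covers_same hM hN hχ hη (sameBlock_of_mem hM hc hθ h)
        · rw [omega_blockIdem_notMem h, omega_blockIdem_notMem]
          intro hψ
          obtain ⟨g, hg⟩ := constituents_conj_block hM hψ hχ hη
          exact h (mem_of_sameBlock hM hc (hinv g θ hθ) hg)
    refine ⟨_, isPBlock_blockOf M χ, fun g => ?_⟩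
    rw [← coeff_blockIdem, e]
    unfold Cfsg.subgroupBlockCoeff
    by_cases hg : g ∈ N
    · rw [dif_pos hg, coeff_push_mem _ hg, coeff_blockIdem]
    · rw [dif_neg hg, coeff_push_notMem _ hg]
  · have e : blockIdem B = push N (blockIdem c) := el_ext fun g => by
      rw [coeff_blockIdem, hcoe]
      unfold Cfsg.subgroupBlockCoeff
      by_cases hg : g ∈ N
      · rw [dif_pos hg, coeff_push_mem _ hg, coeff_blockIdem]
      · rw [dif_neg hg, coeff_push_notMem _ hg]
    obtain ⟨χ, hχ⟩ := block_nonempty hM hB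
    obtain ⟨η, hη⟩ := exists_under (N := N) χ
    have hηc : η ∈ c := by
      by_contra h
      have h1 := omega_blockIdem_mem hχ
      rw [e, omega_push_eq χ η hη hie, omega_blockIdem_notMem h] at h1
      exact zero_ne_one h1
    have huniq : ∀ B' : Set (Cfsg.IrrCharacter G), Cfsg.IsPBlock M B' →
        (∃ ψ ∈ B', ∃ θ ∈ c, Cfsg.classInner (fun n : N => (ψ : G → ℂ) n) (θ : N → ℂ) ≠ 0) →
        B' = B := by
      rintro B' hB' ⟨ψ, hψ, θ, hθ, h⟩
      exact block_eq_of_mem hM hB' hB (mem_of_sameBlock hM hB' hψ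
        (sameBlock_of_covers_same hM hN h hη (sameBlock_of_mem hM hc hθ hηc))) hχ
    obtain ⟨h1, h2, -⟩ := maximal_covering hM hc hinv hB ⟨χ, hχ, η, hηc, hη⟩
      (fun B' hB' h => le_of_eq (by rw [huniq B' hB' h])) hP
    refine ⟨?_, h2⟩
    rw [sup_comm, ← Subgroup.index_eq_one]
    obtain ⟨k, hk⟩ := hN
    obtain ⟨j, -, hj⟩ := (Nat.dvd_prime_pow hM.1).1
      (hk ▸ Subgroup.index_dvd_of_le (le_sup_right : N ≤ P ⊔ N))
    rw [hj]
    rcases Nat.eq_zero_or_pos j with rfl | hj0
    · rfl
    · exact absurd (hj ▸ dvd_pow_self p hj0.ne') h1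

end Cfsg.Agent.S4672
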