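import Cfsg.Statements.S4673
import Cfsg.Agent.BlockCharsA.CoveringStab
import Cfsg.Agent.Lib.CharTheory.Basics

set_option autoImplicit false
set_option linter.style.haveILetI false
open Cfsg
open Cfsg.Agent.Blocks Cfsg.Agent.Characters Cfsg.Agent.CharTheory Cfsg.Agent.BlockCharsA.NormalSupport Cfsg.Agent.BlockCharsA.CoveringDefect

namespace Cfsg.Agent.S4673

/-- Fix a prime p and a maximal ideal M of the algebraic integers containing p. Let N ≤ L be normal subgroups of the finite group G with L/N a p-group, let B be a p-block of G covering the p-block c of N (some member of B has a constituent in c on restriction to N), and suppose that N contains a defect group of B. Then the stabilizer T of c in G satisfies T ∩ L = N. -/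
theorem result {G : Type*} [Group G] [Fintype G] (p : ℕ) [Fact p.Prime] (M : Ideal Cfsg.AlgInt) (hM : Cfsg.IsPModular p M) (N L : Subgroup G) [N.Normal] [L.Normal] [Fintype N] (hNL : N ≤ L) (hLN : ∃ k : ℕ, (N.subgroupOf L).index = p ^ k) (B : Set (Cfsg.IrrCharacter G)) (hB : Cfsg.IsPBlock M B) (c : Set (Cfsg.IrrCharacter N)) (hc : Cfsg.IsPBlock M c) (hcov : (∃ χ ∈ B, ∃ θ ∈ c, Cfsg.classInner (fun n : N => (χ : G → ℂ) n) (θ : N → ℂ) ≠ 0)) (hD : ∃ D : Subgroup G, Cfsg.IsDefectGroup p M B D ∧ D ≤ N) (T : Subgroup G) (hT : ∀ x : G, x ∈ T ↔ Cfsg.StabilizesBlock N c x) : T ⊓ L = N := by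
  classical
  haveI := Fintype.ofFinite L
  refine le_antisymm (fun x hx => ?_) (le_inf (fun x hx => (hT x).2 ⟨?_, fun θ hθ => ?_⟩) hNL)
  swap
  · exact Subgroup.le_normalizer hx
  swap
  · refine ⟨θ, hθ, fun k k' hk => ?_⟩
    refine Eq.trans ?_ (char_isClassFunction (irr_isCharacter θ) k ⟨x, hx⟩)
    exact congrArg _ (Subtype.ext hk)
  obtain ⟨hxT, hxL⟩ := Subgroup.mem_inf.1 hx
  obtain ⟨D, hD, hDN⟩ := hD
  obtain ⟨χ, hχ, θ, hθ, hχθ⟩ := hcov
  obtain ⟨ψ₀, hψ₀⟩ := exists_under (N := L) χ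
  obtain ⟨cL, -, hcL, -, ⟨χ', hχ', ψ, hψ, hχψ⟩, hdef, -⟩ :=
    exists_conj_defect hM hB (isPBlock_blockOf M ψ₀) ⟨χ, hχ, ψ₀, mem_blockOf_self hM ψ₀, hψ₀⟩ hD
  let eN : N.subgroupOf L ≃* N := Subgroup.subgroupOfEquivOfLe hNL
  haveI := Fintype.ofFinite (N.subgroupOf L)
  obtain ⟨θ'', hθ''⟩ := exists_under (N := N.subgroupOf L) ψ
  let θN : Cfsg.IrrCharacter N :=
    ⟨(θ'' : N.subgroupOf L → ℂ) ∘ eN.symm, Basics.isIrrCharacter_comp_equiv eN.symm θ''.2⟩
  have hcomp : ((θN : N → ℂ) ∘ eN) = (θ'' : N.subgroupOf L → ℂ) := funext fun n => by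
    show (θ'' : N.subgroupOf L → ℂ) (eN.symm (eN n)) = _
    rw [MulEquiv.symm_apply_apply]
  have hχθN : Cfsg.classInner (fun n : N => (χ' : G → ℂ) n) (θN : N → ℂ) ≠ 0 := by
    have h := Clifford.classInner_restrict_ne_zero (N.subgroupOf L)
      (isCharacter_restrict L (irr_isCharacter χ')) ψ.2 (irr_isCharacter θ'') hχψ hθ''
    rw [← Basics.classInner_comp_equiv eN, hcomp]
    exact h
  obtain ⟨g, hg⟩ := constituents_conj_block hM (sameBlock_of_mem hM hB hχ' hχ) hχθN hχθ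
  -- `y = g x⁻¹ g⁻¹` fixes the block of `θN`
  have h1 : Cfsg.SameBlock M (conjIrr x⁻¹ θ : N → ℂ) (θ : N → ℂ) := by
    obtain ⟨θ', hθ', h⟩ := ((hT x).1 hxT).2 θ hθ
    have e : conjIrr x⁻¹ θ = θ' := Subtype.ext (funext fun n =>
      (h ⟨x⁻¹ * n * x⁻¹⁻¹, (inferInstance : N.Normal).conj_mem (n : G) n.2 x⁻¹⟩ n
        (by simp [mul_assoc])).symm)
    rw [e]
    exact sameBlock_of_mem hM hc hθ' hθ
  have h2 : Cfsg.SameBlock M (conjIrr (g * x⁻¹ * g⁻¹) θN : N → ℂ) (θN : N → ℂ) := by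
    have h3 := sameBlock_conjIrr g⁻¹ (sameBlock_trans hM
      (sameBlock_trans hM (sameBlock_conjIrr x⁻¹ hg) h1) (sameBlock_symm hM hg))
    rw [conjIrr_conjIrr, conjIrr_conjIrr, conjIrr_conjIrr, mul_inv_cancel, conjIrr_one,
      ← mul_assoc] at h3
    exact h3
  have hyL : g * x⁻¹ * g⁻¹ ∈ L := (inferInstance : L.Normal).conj_mem _ (inv_mem hxL) g
  have hidx : ∃ k : ℕ, (N.subgroupOf L).index = p ^ k := hLN
  have hsame : Cfsg.SameBlock M (conjIrr (⟨_, hyL⟩ : L) θ'' : N.subgroupOf L → ℂ)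
      (θ'' : N.subgroupOf L → ℂ) := by
    have h3 := sameBlock_comp_mulEquiv eN h2
    rw [hcomp] at h3
    convert h3 using 1
    funext n
    show Clifford.conjBy (N.subgroupOf L) (⟨_, hyL⟩ : L) (θ'' : N.subgroupOf L → ℂ) n =
      Clifford.conjBy N (g * x⁻¹ * g⁻¹) (θN : N → ℂ) (eN n)
    simp only [Clifford.conjBy_apply]
    exact congrArg (θ'' : N.subgroupOf L → ℂ) (Subtype.ext (Subtype.ext rfl))
  have hy := BlockCharsA.CoveringStab.mem_of_stab hM hidx hcL hdef (fun l hl => by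
    exact hDN (Subgroup.mem_inf.1 hl).1) hψ hθ'' hsame
  have hy' : g * x⁻¹ * g⁻¹ ∈ N := hy
  have h4 := (inferInstance : N.Normal).conj_mem _ hy' g⁻¹
  simpa [mul_assoc] using h4

end Cfsg.Agent.S4673
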