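import Cfsg.Statements.S4674
import Cfsg.Agent.Lib.Blocks.HarrisKnorr

set_option autoImplicit false
open Cfsg

namespace Cfsg.Agent.S4674
open Cfsg.Agent.Blocks Cfsg.Agent.Blocks.HarrisKnorr Cfsg.Agent.BlockCharsA.Transport Cfsg.Agent.Characters Cfsg.Agent.CharTheory
/-- Fix a prime p and a maximal ideal M of the algebraic integers containing p. Let N be a normal subgroup of the finite group G, Q a p-subgroup of N, H = N_G(Q) and L = H ∩ N = N_N(Q). Let d be a p-block of N with defect group Q and e the p-block of L with defect group Q that induces d inside N (its Brauer correspondent). Then block induction from H to G is a bijection from the p-blocks of H covering e onto the p-blocks of G covering d: every block of H covering e induces exactly one block of G, and that block covers d; and every block of G covering d is induced by exactly one block of H covering e. -/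
theorem result {G : Type*} [Group G] [Fintype G] (p : ℕ) [Fact p.Prime] (M : Ideal Cfsg.AlgInt) (hM : Cfsg.IsPModular p M) (N : Subgroup G) [N.Normal] [Fintype N] (Q : Subgroup G) (hQ : IsPGroup p Q) (hQN : Q ≤ N) [Fintype ↥(Subgroup.normalizer (Q : Set G) ⊓ N)] (d : Set (Cfsg.IrrCharacter N)) (hd : Cfsg.IsPBlock M d) (hdQ : Cfsg.IsDefectGroup p M d (Q.subgroupOf N)) (e : Set (Cfsg.IrrCharacter ↥(Subgroup.normalizer (Q : Set G) ⊓ N))) (he : Cfsg.IsPBlock M e) (heQ : Cfsg.IsDefectGroup p M e (Q.subgroupOf (Subgroup.normalizer (Q : Set G) ⊓ N))) (hed : Cfsg.IsInducedBlockIn M N (Subgroup.normalizer (Q : Set G) ⊓ N) e d) : (∀ c : Set (Cfsg.IrrCharacter ↥(Subgroup.normalizer (Q : Set G))), Cfsg.IsPBlock M c → (∃ ψ ∈ c, ∃ ξ ∈ e, Cfsg.classInner (fun l : ↥(Subgroup.normalizer (Q : Set G) ⊓ N) => (ψ : ↥(Subgroup.normalizer (Q : Set G)) → ℂ) (Subgroup.inclusion inf_le_left l)) (ξ : ↥(Subgroup.normalizer (Q : Set G) ⊓ N) → ℂ) ≠ 0) → ∃! B : Set (Cfsg.IrrCharacter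 G), Cfsg.IsInducedBlock M (Subgroup.normalizer (Q : Set G)) c B ∧ (∃ χ ∈ B, ∃ θ ∈ d, Cfsg.classInner (fun n : N => (χ : G → ℂ) n) (θ : N → ℂ) ≠ 0)) ∧ (∀ B : Set (Cfsg.IrrCharacter G), Cfsg.IsPBlock M B → (∃ χ ∈ B, ∃ θ ∈ d, Cfsg.classInner (fun n : N => (χ : G → ℂ) n) (θ : N → ℂ) ≠ 0) → ∃! c : Set (Cfsg.IrrCharacter ↥(Subgroup.normalizer (Q : Set G))), (Cfsg.IsPBlock M c ∧ ∃ ψ ∈ c, ∃ ξ ∈ e, Cfsg.classInner (fun l : ↥(Subgroup.normalizer (Q : Set G) ⊓ N) => (ψ : ↥(Subgroup.normalizer (Q : Set G)) → ℂ) (Subgroup.inclusion inf_le_left l)) (ξ : ↥(Subgroup.normalizer (Q : Set G) ⊓ N) → ℂ) ≠ 0) ∧ Cfsg.IsInducedBlock M (Subgroup.normalizer (Q : Set G)) c B) := by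
  classical
  obtain ⟨ξe, hξe⟩ := block_nonempty hM he
  obtain ⟨L, hL⟩ : ∃ L, L = Subgroup.normalizer (Q : Set G) := ⟨_, rfl⟩
  subst hL
  set ι := infEquiv N (Subgroup.normalizer (Q : Set G))
  haveI : Fintype (N.subgroupOf (Subgroup.normalizer (Q : Set G))) := Fintype.ofFinite _
  haveI : Fintype (Subgroup.normalizer (Q : Set G)) := Fintype.ofFinite _
  set ξ₀ := irrIso ι ξe with hξ₀
  have heK : pullSet ι.symm e =
      Cfsg.blockOf M (ξ₀ : N.subgroupOf (Subgroup.normalizer (Q : Set G)) → ℂ) := by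
    refine block_eq_blockOf hM (isPBlock_pullSet hM _ he) ?_
    show irrIso ι.symm (irrIso ι ξe) ∈ e
    have : irrIso ι.symm (irrIso ι ξe) = ξe := Subtype.ext (funext fun k => by
      simp [irrIso_apply])
    rwa [this]
  have hQL : Q ≤ Subgroup.normalizer (Q : Set G) := Subgroup.le_normalizer
  have heKQ : Cfsg.IsDefectGroup p M
      (Cfsg.blockOf M (ξ₀ : N.subgroupOf (Subgroup.normalizer (Q : Set G)) → ℂ))
      ((Q.subgroupOf (Subgroup.normalizer (Q : Set G))).subgroupOf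
        (N.subgroupOf (Subgroup.normalizer (Q : Set G)))) := by
    rw [← heK]
    have h := isDefectGroup_iso ι.symm heQ
    have he' : (Q.subgroupOf (Subgroup.normalizer (Q : Set G) ⊓ N)).map ι.symm.toMonoidHom =
        (Q.subgroupOf (Subgroup.normalizer (Q : Set G))).subgroupOf
          (N.subgroupOf (Subgroup.normalizer (Q : Set G))) := by
      ext x
      rw [Subgroup.mem_map_equiv]
      exact Iff.rfl
    rwa [he'] at h
  have hind : ∀ η ∈ Cfsg.blockOf M (ξ₀ : N.subgroupOf (Subgroup.normalizer (Q : Set G)) → ℂ),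
      Cfsg.IsInducedBlock M ((Subgroup.normalizer (Q : Set G)).subgroupOf N)
      (Cfsg.blockOf M (irrIso (swap N (Subgroup.normalizer (Q : Set G))) η :
        (Subgroup.normalizer (Q : Set G)).subgroupOf N → ℂ)) d := by
    intro η hη
    obtain ⟨θ, hθ⟩ := block_nonempty hM hd
    refine isInduced_of_omega hM (isPBlock_blockOf M _) hd
      (show irrIso (swap N (Subgroup.normalizer (Q : Set G))) ξ₀ ∈ _ from
        sameBlock_iso (swap N _) (sameBlock_symm hM hη)) hθ fun h => ?_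
    rw [omega_restrEl_classSum]
    have hsum : Cfsg.inducedCentralChar ((Subgroup.normalizer (Q : Set G)).subgroupOf N)
        (irrIso (swap N (Subgroup.normalizer (Q : Set G))) ξ₀ :
          (Subgroup.normalizer (Q : Set G)).subgroupOf N → ℂ) h =
        Cfsg.inducedCentralCharIn N (Subgroup.normalizer (Q : Set G) ⊓ N)
          (ξe : ↥(Subgroup.normalizer (Q : Set G) ⊓ N) → ℂ) (h : G) := by
      rw [Cfsg.inducedCentralChar, Cfsg.inducedCentralCharIn]
      refine finsum_mem_eq_of_bijOn ((swap N _).trans ι) ⟨fun k hk => ?_,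
        ((swap N _).trans ι).injective.injOn, fun l hl => ?_⟩ fun k _ => ?_
      · obtain ⟨c, hc⟩ := isConj_iff.1 (show IsConj h (k : N) from hk).symm
        exact ⟨c, congrArg Subtype.val hc⟩
      · refine ⟨((swap N _).trans ι).symm l, ?_, MulEquiv.apply_symm_apply _ l⟩
        obtain ⟨c, hc⟩ := hl
        exact (isConj_iff.2 ⟨c, Subtype.ext hc⟩).symm
      · simp [hξ₀, irrIso_apply, MulEquiv.trans_apply]
    rw [hsum]
    exact hed.2.2 ξe hξe θ hθ h
  have hcov : ∀ c : Set (Cfsg.IrrCharacter ↥(Subgroup.normalizer (Q : Set G))),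
      (∃ ψ ∈ c, ∃ ξ ∈ e, Cfsg.classInner
        (fun l : ↥(Subgroup.normalizer (Q : Set G) ⊓ N) =>
          (ψ : ↥(Subgroup.normalizer (Q : Set G)) → ℂ) (Subgroup.inclusion inf_le_left l))
        (ξ : ↥(Subgroup.normalizer (Q : Set G) ⊓ N) → ℂ) ≠ 0) ↔
      (∃ ψ ∈ c, ∃ η ∈ Cfsg.blockOf M (ξ₀ : N.subgroupOf (Subgroup.normalizer (Q : Set G)) → ℂ),
        Cfsg.classInner (fun k : N.subgroupOf (Subgroup.normalizer (Q : Set G)) =>
          (ψ : Subgroup.normalizer (Q : Set G) → ℂ) k)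
          (η : N.subgroupOf (Subgroup.normalizer (Q : Set G)) → ℂ) ≠ 0) := by
    intro c
    rw [← heK]
    refine exists_congr fun ψ => and_congr_right fun _ => ⟨?_, ?_⟩
    · rintro ⟨ξ, hξ, h⟩
      refine ⟨irrIso ι ξ, ?_, ?_⟩
      · show irrIso ι.symm (irrIso ι ξ) ∈ e
        have : irrIso ι.symm (irrIso ι ξ) = ξ := Subtype.ext (funext fun k => by
          simp [irrIso_apply])
        rwa [this]
      · rw [← Cfsg.Agent.CharTheory.Basics.classInner_comp_equiv ι] at h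
        exact h
    · rintro ⟨η, hη, h⟩
      refine ⟨irrIso ι.symm η, hη, ?_⟩
      rw [← Cfsg.Agent.CharTheory.Basics.classInner_comp_equiv ι.symm] at h
      exact h
  refine ⟨fun c hc hce => ?_, fun B hB hBd => ?_⟩
  · obtain ⟨ψ, hψ, η, hη, hψη⟩ := (hcov c).1 hce
    obtain ⟨B, hB⟩ := inducedBlockDefined_of_brauer hM hQ hQL (centralizer_le_normalizer' Q)
      le_rfl hc
    exact ⟨B, ⟨hB, covers_of_induced hM hψ hψη hB hd (hind η hη)⟩,
      fun B' hB' => isInduced_unique hM hB'.1 hB⟩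
  · obtain ⟨c, hc, hce⟩ := exists_correspondent hM rfl hQ hQN hd hdQ ξ₀
      (hind ξ₀ (mem_blockOf_self hM ξ₀)) hB hBd
    refine ⟨c, ⟨⟨hc.1, (hcov c).2 hce⟩, hc⟩, ?_⟩
    rintro c' ⟨⟨-, hc'e⟩, hc'⟩
    have heb := isPBlock_blockOf M ξ₀
    obtain ⟨D, hD, hDQ⟩ := exists_defect_inf hM hQL hQN heb heKQ hc.1 hce
    obtain ⟨D', hD', hDQ'⟩ := exists_defect_inf hM hQL hQN heb heKQ hc'.1 ((hcov c').1 hc'e)
    exact correspondent_unique hM rfl hc' hc hD' hDQ' hD hDQ

end Cfsg.Agent.S4674
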