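import Cfsg.Statements.S4679
import Cfsg.Agent.BlockCharsA.PairLocal

set_option autoImplicit false
open Cfsg

namespace Cfsg.Agent.S4679

open Cfsg.Agent.BlockCharsA.PairLocal Cfsg.Agent.BlockCharsA.PairConj

/-- Fix a prime p and a maximal ideal M of the algebraic integers containing p, a p-block B of the finite group G with maximal Brauer pair (P, e), its fusion system F on P, a Brauer pair (Q, f) ≤ (P, e), and let T be the stabilizer of f in N_G(Q). Then Q is fully normalized in F if and only if N_P(Q) is a defect group of the block of T whose idempotent is that of f. -/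
theorem result {G : Type*} [Group G] [Fintype G] (p : ℕ) [Fact p.Prime] (M : Ideal Cfsg.AlgInt) (hM : Cfsg.IsPModular p M) (B : Set (Cfsg.IrrCharacter G)) (P : Subgroup G) (e : Set (Cfsg.IrrCharacter (Subgroup.centralizer (P : Set G)))) (hmax : Cfsg.IsMaximalBrauerPair p M B P e) (F : Cfsg.FusionSystem P) (hF : Cfsg.IsBlockFusionSystemOn p M B P e F) (Q : Subgroup G) (f : Set (Cfsg.IrrCharacter (Subgroup.centralizer (Q : Set G)))) (hQP : Q ≤ P) (hf : Cfsg.IsPBlock M f) (hle : Cfsg.SubpairLE p M Q f P e) (T : Subgroup G) (hT : ∀ y : G, y ∈ T ↔ y ∈ Subgroup.normalizer (Q : Set G) ∧ Cfsg.StabilizesBlock (Subgroup.centralizer (Q : Set G)) f y) : F.IsFullyNormalized Q ↔ ∃ F' : Set (Cfsg.IrrCharacter T), Cfsg.IsPBlock M F' ∧ (∀ t : T, Cfsg.blockCoeff F' t = Cfsg.subgroupBlockCoeff (Subgroup.centralizer (Q : Set G)) f (t : G)) ∧ Cfsg.IsDefectGroup p M F' ((P ⊓ Subgroup.normalizer (Q : Set G)).subgroupOf T) := by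
  have hQf : Cfsg.IsBrauerPairOf p M B Q f :=
    (BlockCharsA.BrauerPairs.block_of_subpairLE hM hle).2 hmax.1
  have hTS : T = stab Q f := eq_stab hT
  subst hTS
  obtain ⟨F₁, hF₁, hFf⟩ := exists_block_stab hM hQf.1 _ rfl
  have key := defect_iff_largest hM centralizer_le_stab le_rfl hF₁ hFf hmax hle
  rw [inf_stab_eq hM hmax.1.1 hle] at key
  have hconj : ∀ x, Cfsg.SubpairLE p M (cj Q x) (Cfsg.conjBlock Q x f) P e →
      P ⊓ cj (stab Q f) x = P ⊓ Subgroup.normalizer (cj Q x : Set G) := fun x hx => by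
    rw [← stab_conj, inf_stab_eq hM hmax.1.1 hx]
  constructor
  · intro h
    refine ⟨F₁, hF₁, fun t => by rw [hFf, BlockCharsA.BrauerPairs.coeff_elF],
      key.2 fun x hx => ?_⟩
    rw [hconj x hx]
    exact h.2 _ ((isConj_iff hM hF hle _).2 ⟨x, rfl, hx⟩)
  · rintro ⟨F', -, hF'c, hD⟩
    have : F' = F₁ := set_eq_of_blockCoeff fun t => by
      rw [hF'c, hFf, BlockCharsA.BrauerPairs.coeff_elF]
    subst this
    refine ⟨hQP, fun Q' hQ' => ?_⟩
    obtain ⟨x, rfl, hx⟩ := (isConj_iff hM hF hle _).1 hQ'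
    show Nat.card ↥(P ⊓ Subgroup.normalizer (cj Q x : Set G)) ≤ _
    rw [← hconj x hx]
    exact key.1 hD x hx

end Cfsg.Agent.S4679
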