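import Cfsg.Statements.S4680
import Cfsg.Agent.BlockCharsA.PairLocal

set_option autoImplicit false
open Cfsg

namespace Cfsg.Agent.S4680

open Cfsg.Agent.BlockCharsA.PairLocal Cfsg.Agent.BlockCharsA.PairConj

/-- Fix a prime p and a maximal ideal M of the algebraic integers containing p, a p-block B of the finite group G with maximal Brauer pair (P, e), its fusion system F on P, and a Brauer pair (Q, f) ≤ (P, e). Then Q is centric in F if and only if Z(Q) is a defect group of f as a block of C_G(Q). -/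
theorem result {G : Type*} [Group G] [Fintype G] (p : ℕ) [Fact p.Prime] (M : Ideal Cfsg.AlgInt) (hM : Cfsg.IsPModular p M) (B : Set (Cfsg.IrrCharacter G)) (P : Subgroup G) (e : Set (Cfsg.IrrCharacter (Subgroup.centralizer (P : Set G)))) (hmax : Cfsg.IsMaximalBrauerPair p M B P e) (F : Cfsg.FusionSystem P) (hF : Cfsg.IsBlockFusionSystemOn p M B P e F) (Q : Subgroup G) (f : Set (Cfsg.IrrCharacter (Subgroup.centralizer (Q : Set G)))) (hQP : Q ≤ P) (hf : Cfsg.IsPBlock M f) (hle : Cfsg.SubpairLE p M Q f P e) : F.IsCentric Q ↔ Cfsg.IsDefectGroup p M f ((Q ⊓ Subgroup.centralizer (Q : Set G)).subgroupOf (Subgroup.centralizer (Q : Set G))) := by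
  haveI := Fact.mk hM.1
  constructor
  · intro h
    have hQf : Cfsg.IsBrauerPairOf p M B Q f :=
      (BlockCharsA.BrauerPairs.block_of_subpairLE hM hle).2 hmax.1
    obtain ⟨x, hx, hcard, -⟩ :=
      exists_conj_defect hM le_rfl centralizer_le_stab hf coeff_self hmax hQf
    have hle' : P ⊓ cj (Subgroup.centralizer (Q : Set G)) x ≤
        cj (Q ⊓ Subgroup.centralizer (Q : Set G)) x := by
      intro y hy
      have hy' := h.2 _ ((isConj_iff hM hF hle _).2 ⟨x, rfl, hx⟩)
        (show y ∈ P ⊓ Subgroup.centralizer (cj Q x : Set G) by rwa [← cj_centralizer])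
      rw [Blocks.mem_map_conj_iff] at hy' ⊢
      exact ⟨hy', Blocks.mem_map_conj_iff.1 hy.2⟩
    have hPC : Q ⊓ Subgroup.centralizer (Q : Set G) ≤ P ⊓ Subgroup.centralizer (Q : Set G) :=
      inf_le_inf_right _ hQP
    have hc := hcard.trans ((Subgroup.card_le_of_le hle').trans_eq (Blocks.card_map_conj _ x))
    have hD := isDefectGroup_of_card hM le_rfl centralizer_le_stab hf coeff_self hmax.1.1 hle
      (hcard.trans ((Subgroup.card_le_of_le hle').trans
        ((Blocks.card_map_conj _ x).trans_le (Subgroup.card_le_of_le hPC))))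
    suffices Q ⊓ Subgroup.centralizer (Q : Set G) = P ⊓ Subgroup.centralizer (Q : Set G) by
      rwa [this]
    refine Blocks.eq_of_le_of_card_le hPC (le_trans ?_ hc)
    exact (card_inf_le hM le_rfl centralizer_le_stab hf coeff_self hmax.1.1 hle).2
  · intro hD
    refine ⟨hQP, fun Q' hQ' => ?_⟩
    obtain ⟨x, rfl, hx⟩ := (isConj_iff hM hF hle _).1 hQ'
    have h1 : cj (Q ⊓ Subgroup.centralizer (Q : Set G)) x ≤
        P ⊓ cj (Subgroup.centralizer (Q : Set G)) x :=
      le_inf ((Subgroup.map_mono inf_le_left).trans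
        (BlockCharsA.BrauerPairs.subpairLE_facts hM hx).1) (Subgroup.map_mono inf_le_right)
    have h2 := card_inf_conj_le hM le_rfl centralizer_le_stab hf coeff_self hmax.1.1 hx
    rw [← Blocks.card_defectGroup hM hf hD,
      Nat.card_congr (Subgroup.subgroupOfEquivOfLe (inf_le_right :
        Q ⊓ Subgroup.centralizer (Q : Set G) ≤ _)).toEquiv] at h2
    replace h2 := h2.trans_eq (Blocks.card_map_conj (Q ⊓ Subgroup.centralizer (Q : Set G)) x).symm
    intro y hy
    have hy' : y ∈ P ⊓ cj (Subgroup.centralizer (Q : Set G)) x := by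
      rwa [cj_centralizer]
    rw [← Blocks.eq_of_le_of_card_le h1 h2] at hy'
    exact Subgroup.map_mono inf_le_left hy'

end Cfsg.Agent.S4680
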