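import Cfsg.Statements.S4689
import Cfsg.Agent.BlockCharsA.PairCorr
import Cfsg.Agent.Lib.Blocks.Star.Nilpotent

set_option autoImplicit false
open Cfsg

namespace Cfsg.Agent.S4689

/-- Fix a prime p and a maximal ideal M of the algebraic integers containing p, and a nilpotent p-block B of the finite group G. Then B has p-regular rank one (a single irreducible Brauer character), and some χ₀ ∈ B restricts to that Brauer character: every χ ∈ B agrees on the p-regular elements with a natural-number multiple of χ₀. -/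
theorem result {G : Type*} [Group G] [Fintype G] (p : ℕ) [Fact p.Prime] (M : Ideal Cfsg.AlgInt) (hM : Cfsg.IsPModular p M) (B : Set (Cfsg.IrrCharacter G)) (hnil : Cfsg.IsNilpotentBlock p M B) : Cfsg.blockRank p B = 1 ∧ ∃ χ₀ ∈ B, ∀ χ ∈ B, ∃ d : ℕ, ∀ x : G, Cfsg.pRegularPart p (χ : G → ℂ) x = (d : ℂ) * Cfsg.pRegularPart p (χ₀ : G → ℂ) x := by
  classical
  obtain ⟨D, hD⟩ := Cfsg.Agent.Blocks.exists_defectGroup hM hnil.1
  obtain ⟨e, hmax⟩ := Cfsg.Agent.BlockCharsA.PairCorr.exists_maximal_on hM hnil.1 hD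
  obtain ⟨χ₀, hχ₀, Φ, hΦ⟩ := Cfsg.Agent.Blocks.Star.exists_bijection hM hnil hmax
  have key : ∀ χ ∈ B, ∃ d : ℕ, ∀ x : G, Cfsg.pRegularPart p (χ : G → ℂ) x =
      (d : ℂ) * Cfsg.pRegularPart p (χ₀ : G → ℂ) x := by
    intro χ hχ
    obtain ⟨ζ, hζ⟩ := Φ.surjective ⟨χ, hχ⟩
    refine ⟨Cfsg.charDegree (ζ : D → ℂ), fun x => ?_⟩
    by_cases hx : Cfsg.IsPRegular p x
    · simp only [Cfsg.pRegularPart, if_pos hx]
      rw [Cfsg.Agent.Blocks.charDegree_cast, ← (hΦ ζ).2 x hx, hζ]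
    · simp only [Cfsg.pRegularPart, if_neg hx, mul_zero]
  refine ⟨?_, χ₀, hχ₀, key⟩
  have hne : Cfsg.pRegularPart p (χ₀ : G → ℂ) ≠ 0 := by
    intro h
    have h1 := congrFun h 1
    have hreg : Cfsg.IsPRegular p (1 : G) := by
      simp [Cfsg.IsPRegular, (Fact.out : p.Prime).ne_one]
    simp only [Cfsg.pRegularPart, if_pos hreg, Pi.zero_apply] at h1
    exact Cfsg.Agent.Characters.irr_one_ne_zero χ₀.2 h1
  rw [Cfsg.blockRank, show Submodule.span ℂ
      ((fun χ : Cfsg.IrrCharacter G => Cfsg.pRegularPart p (χ : G → ℂ)) '' B) =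
      ℂ ∙ Cfsg.pRegularPart p (χ₀ : G → ℂ) from ?_]
  · exact finrank_span_singleton hne
  · refine le_antisymm (Submodule.span_le.2 ?_) (Submodule.span_mono ?_)
    · rintro _ ⟨χ, hχ, rfl⟩
      obtain ⟨d, hd⟩ := key χ hχ
      exact Submodule.mem_span_singleton.2 ⟨(d : ℂ), funext fun x => (hd x).symm⟩
    · exact Set.singleton_subset_iff.2 ⟨χ₀, hχ₀, rfl⟩

end Cfsg.Agent.S4689
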