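import Cfsg.Statements.S4694
import Cfsg.Agent.BlockCharsA.PairLocal
import Cfsg.Agent.BlockCharsA.Weight

set_option autoImplicit false
set_option linter.style.haveILetI false
open Cfsg

namespace Cfsg.Agent.S4694

/-- Fix a prime p and a maximal ideal M of the algebraic integers containing p, a p-block B of the finite group G and a Brauer pair (Q, e) of B. Let T be the stabilizer of e in N_G(Q) and suppose that (Q, e) carries a weight: the block of T whose idempotent is that of e contains an irreducible character χ that is constant on the cosets of Q and whose degree has p-part equal to the p-part of the index of Q in T. Then Z(Q) is a defect group of e as a block of C_G(Q), and Q is the largest normal p-subgroup of T: every p-subgroup of T normalized by T lies in Q. -/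
theorem result {G : Type*} [Group G] [Fintype G] (p : ℕ) [Fact p.Prime] (M : Ideal Cfsg.AlgInt) (hM : Cfsg.IsPModular p M) (B : Set (Cfsg.IrrCharacter G)) (Q : Subgroup G) (e : Set (Cfsg.IrrCharacter (Subgroup.centralizer (Q : Set G)))) (hQe : Cfsg.IsBrauerPairOf p M B Q e) (T : Subgroup G) (hT : ∀ y : G, y ∈ T ↔ y ∈ Subgroup.normalizer (Q : Set G) ∧ Cfsg.StabilizesBlock (Subgroup.centralizer (Q : Set G)) e y) (F' : Set (Cfsg.IrrCharacter T)) (hF' : Cfsg.IsPBlock M F') (hF'e : ∀ t : T, Cfsg.blockCoeff F' t = Cfsg.subgroupBlockCoeff (Subgroup.centralizer (Q : Set G)) e (t : G)) (χ : Cfsg.IrrCharacter T) (hχ : χ ∈ F') (hχQ : ∀ q : G, q ∈ Q → ∀ t : T, ∀ t' : T, (t' : G) = q * (t : G) → (χ : T → ℂ) t' = (χ : T → ℂ) t) (hdeg : (Cfsg.charDegree (χ : T → ℂ)).factorization p + (Nat.card Q).factorization p = (Nat.card T).factorization p) : Cfsg.IsDefectGroup p M e ((Q ⊓ Subgroup.centralizer (Q : Set G)).subgroupOf (Subgroup.centralizer (Q : Set G))) ∧ ∀ R : Subgroup G, R ≤ T → IsPGroup p R → (∀ t ∈ T, t ∈ Subgroup.normalizer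 (R : Set G)) → R ≤ Q := by
  classical
  haveI := Fact.mk hM.1
  haveI : Finite G := inferInstance
  haveI := Fintype.ofFinite T
  have hQp : IsPGroup p Q := hQe.1.1
  have hTN : T ≤ Subgroup.normalizer (Q : Set G) := fun y hy => ((hT y).1 hy).1
  have hCT : (Subgroup.centralizer (Q : Set G)) ≤ T := fun c hc => (hT c).2
    ⟨Blocks.centralizer_le_normalizer' Q hc, BlockCharsA.PairStab.stabilizes_self e hc⟩
  have hQT : Q ≤ T := fun q hq => (hT q).2
    ⟨Subgroup.le_normalizer hq, BlockCharsA.PairStab.stabilizes_centralizer e hq⟩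
  haveI hQn : (Q.subgroupOf T).Normal := Blocks.normal_subgroupOf hTN
  haveI hCn : ((Subgroup.centralizer (Q : Set G)).subgroupOf T).Normal := Blocks.normal_subgroupOf
    (hTN.trans (BlockCharsA.BrauerPairs.normalizer_le_normalizer_centralizer Q))
  have hcardQ : Nat.card (Q.subgroupOf T) = Nat.card Q :=
    Nat.card_congr (Subgroup.subgroupOfEquivOfLe hQT).toEquiv
  have hkerT : ∀ t ∈ Q.subgroupOf T, (χ : T → ℂ) t = (χ : T → ℂ) 1 := fun t ht =>
    hχQ (t : G) ht 1 t (by simp)
  refine ⟨?_, fun R hRT hRp hRn => ?_⟩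
  · -- a constituent on `Q (Subgroup.centralizer (Q : Set G))(Q)`
    set N := Q.subgroupOf T ⊔ (Subgroup.centralizer (Q : Set G)).subgroupOf T with hN
    haveI : Fintype N := Fintype.ofFinite N
    obtain ⟨ψ, hψ⟩ := BlockCharsA.NormalSupport.exists_under (N := N) χ
    obtain ⟨cψ, hcψ⟩ : ∃ c : ℕ, (ψ : N → ℂ) 1 = (c : ℂ) :=
      ⟨_, (Blocks.charDegree_cast ψ).symm⟩
    have hdiv := S0887.result N (χ : T → ℂ) χ.2 (ψ : N → ℂ) ψ.2 hψ
      (Cfsg.charDegree (χ : T → ℂ)) (Cfsg.charDegree (ψ : N → ℂ))
      (Blocks.charDegree_cast χ).symm (Blocks.charDegree_cast ψ).symm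
    -- trivial on `Q`
    set Q' := (Q.subgroupOf T).subgroupOf N
    haveI : Q'.Normal := Subgroup.normal_subgroupOf
    have hψQ : ∀ x ∈ Q', (ψ : N → ℂ) x = (ψ : N → ℂ) 1 :=
      BlockCharsA.Weight.constituent_trivial χ ψ hψ fun x hx => hkerT _ hx
    obtain ⟨φ, -, hφ, hirr⟩ := Characters.exists_deflate_quotient Q'
      (Characters.irr_isCharacter ψ) hψQ
    let ι : (Subgroup.centralizer (Q : Set G)) →* N :=
      { toFun := fun c => ⟨⟨c, hCT c.2⟩, Subgroup.mem_sup_right c.2⟩
        map_one' := rfl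
        map_mul' := fun _ _ => rfl }
    let f : (Subgroup.centralizer (Q : Set G)) →* N ⧸ Q' := (QuotientGroup.mk' Q').comp ι
    have hsurj : Function.Surjective f := by
      intro a
      obtain ⟨n, rfl⟩ := QuotientGroup.mk'_surjective Q' a
      obtain ⟨q, hq, c, hc, hqc⟩ := Subgroup.mem_sup_of_normal_right.1 n.2
      refine ⟨⟨(c : G), hc⟩, ?_⟩
      show ((ι ⟨(c : G), hc⟩ : N) : N ⧸ Q') = (n : N ⧸ Q')
      rw [QuotientGroup.eq]
      show (c : T)⁻¹ * (n : T) ∈ Q.subgroupOf T
      rw [← hqc, ← mul_assoc]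
      simpa using hQn.conj_mem q hq c⁻¹
    let θ : Cfsg.IrrCharacter (Subgroup.centralizer (Q : Set G)) :=
      ⟨φ ∘ f, Characters.isIrrCharacter_comp_surjective f hsurj (hirr ψ.2)⟩
    have hθval : ∀ c : (Subgroup.centralizer (Q : Set G)), (θ : (Subgroup.centralizer (Q : Set G)) → ℂ) c = (ψ : N → ℂ) (ι c) := fun c => hφ (ι c)
    have hker : f.ker = (Q ⊓ (Subgroup.centralizer (Q : Set G))).subgroupOf (Subgroup.centralizer (Q : Set G)) := by
      ext c
      show ((ι c : N) : N ⧸ Q') = 1 ↔ _
      rw [QuotientGroup.eq_one_iff]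
      exact ⟨fun h => ⟨h, c.2⟩, fun h => h.1⟩
    have hθe : θ ∈ e := by
      set z := BlockCharsA.NormalSupport.res N (Blocks.blockIdem F')
      have hsupp : ∀ t : T, (t : G) ∉ (Subgroup.centralizer (Q : Set G)) → Cfsg.blockCoeff F' t = 0 := fun t ht => by
        rw [hF'e, Cfsg.subgroupBlockCoeff, dif_neg ht]
      have hpush : BlockCharsA.NormalSupport.push N z = Blocks.blockIdem F' :=
        BlockCharsA.NormalSupport.push_res fun t ht => by
          rw [Blocks.coeff_blockIdem]
          exact hsupp t fun h => ht (Subgroup.mem_sup_right h)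
      have h1 := BlockCharsA.NormalSupport.omega_push_eq χ ψ hψ (z := z)
        (BlockCharsA.NormalSupport.isInvEl_res (Blocks.central_blockIdem F'))
      rw [hpush, Blocks.omega_blockIdem_mem hχ] at h1
      by_contra hne
      have h2 := Blocks.omega_blockIdem_notMem (A := e) hne
      haveI := Fintype.ofFinite (Subgroup.centralizer (Q : Set G))
      refine one_ne_zero (α := ℂ) ?_
      rw [h1, ← h2, Blocks.omega, Blocks.omega, hθval 1, map_one]
      congr 1
      rw [Blocks.evalChar_eq_sum, Blocks.evalChar_eq_sum]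
      refine (Fintype.sum_of_injective ι ?_ _ _ ?_ fun c => ?_).symm
      · intro a b h
        exact Subtype.ext (congrArg (fun x : N => ((x : T) : G)) h)
      · intro n hn
        rw [BlockCharsA.NormalSupport.coeff_res, Blocks.coeff_blockIdem, hsupp, zero_mul]
        exact fun h => hn ⟨⟨((n : T) : G), h⟩, Subtype.ext (Subtype.ext rfl)⟩
      · rw [hθval, BlockCharsA.NormalSupport.coeff_res, Blocks.coeff_blockIdem,
          Blocks.coeff_blockIdem, hF'e, Cfsg.subgroupBlockCoeff,
          dif_pos (show (((ι c : N) : T) : G) ∈ (Subgroup.centralizer (Q : Set G)) from c.2)]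
        rfl
    set Z := (Q ⊓ (Subgroup.centralizer (Q : Set G))).subgroupOf (Subgroup.centralizer (Q : Set G))
    haveI : Z.Normal := hker ▸ MonoidHom.normal_ker f
    refine BlockCharsA.Weight.isDefectGroup_central hM hQe.1.2
      (Blocks.isPGroup_subgroupOf (hQp.to_le inf_le_left) inf_le_right)
      (fun t ht x => Subtype.ext (x.2 (t : G) ht.1)) hθe (fun t ht => ?_) ?_
    · show φ (f t) = φ (f 1)
      rw [show f t = 1 from MonoidHom.mem_ker.1 (hker.ge ht), map_one]
    · have hd : Cfsg.charDegree (θ : (Subgroup.centralizer (Q : Set G)) → ℂ) = Cfsg.charDegree (ψ : N → ℂ) := by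
        rw [Cfsg.charDegree, Cfsg.charDegree, hθval, map_one]
      have hq : Nat.card ((Subgroup.centralizer (Q : Set G)) ⧸ Z) = Nat.card (N ⧸ Q') := by
        rw [show Z = f.ker from hker.symm]
        exact Nat.card_congr (QuotientGroup.quotientKerEquivOfSurjective f hsurj).toEquiv
      have h1 := BlockCharsA.Weight.factorization_card_quotient Z p
      have h2 := BlockCharsA.Weight.factorization_card_quotient Q' p
      have h3 : Nat.card Q' = Nat.card Q :=
        (Nat.card_congr (Subgroup.subgroupOfEquivOfLe le_sup_left).toEquiv).trans hcardQ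
      have h4 := Blocks.factorization_index_add N p
      have h5 : (Cfsg.charDegree (χ : T → ℂ)).factorization p ≤
          (Cfsg.charDegree (ψ : N → ℂ)).factorization p + N.index.factorization p := by
        obtain ⟨k, hk⟩ := hdiv.1
        have hk0 : k ≠ 0 := fun h => (Blocks.charDegree_pos χ).ne' (by rw [hk, h, mul_zero])
        have hki : k ∣ N.index := by
          have := hdiv.2
          rwa [hk, Nat.mul_div_cancel_left _ (Blocks.charDegree_pos ψ)] at this
        have := (Nat.factorization_le_iff_dvd hk0 Subgroup.index_ne_zero_of_finite).2 hki p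
        rw [hk, Nat.factorization_mul (Blocks.charDegree_pos ψ).ne' hk0, Finsupp.add_apply]
        omega
      rw [hd]
      rw [hq] at h1
      rw [h3] at h2
      omega
  · obtain ⟨φ, -, hφ, hirr⟩ := Characters.exists_deflate_quotient (Q.subgroupOf T)
      (Characters.irr_isCharacter χ) hkerT
    haveI : (R.subgroupOf T).Normal := Blocks.normal_subgroupOf hRn
    haveI : ((R.subgroupOf T).map (QuotientGroup.mk' (Q.subgroupOf T))).Normal :=
      Subgroup.Normal.map inferInstance _ (QuotientGroup.mk'_surjective _)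
    have hbot := BlockCharsA.Weight.eq_bot_of_defectZero hM.1 ⟨φ, hirr χ.2⟩ ?_
      ((R.subgroupOf T).map (QuotientGroup.mk' (Q.subgroupOf T)))
      ((Blocks.isPGroup_subgroupOf hRp hRT).map _)
    · intro r hr
      have h : ((⟨r, hRT hr⟩ : T) : T ⧸ Q.subgroupOf T) ∈
          (R.subgroupOf T).map (QuotientGroup.mk' (Q.subgroupOf T)) := ⟨⟨r, hRT hr⟩, hr, rfl⟩
      rw [hbot, Subgroup.mem_bot, QuotientGroup.eq_one_iff] at h
      exact h
    · rw [hM.1.pow_dvd_iff_le_factorization (Blocks.charDegree_pos _).ne']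
      have hd : Cfsg.charDegree φ = Cfsg.charDegree (χ : T → ℂ) := by
        rw [Cfsg.charDegree, Cfsg.charDegree, ← hφ 1, QuotientGroup.mk_one]
      have h2 := BlockCharsA.Weight.factorization_card_quotient (Q.subgroupOf T) p
      show _ ≤ (Cfsg.charDegree φ).factorization p
      rw [hd]
      rw [hcardQ] at h2
      omega

end Cfsg.Agent.S4694
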