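import Cfsg.Statements.S4697
import Cfsg.Agent.Lib.CharTheory.CyclicCofactor.AbelianRank

set_option autoImplicit false
open Cfsg

namespace Cfsg.Agent.S4697

/-- Let p be a prime, M a maximal ideal of the algebraic integers containing p, and B a p-block of the finite group G with an abelian defect group D of order p^d. If D has rank 2 (its least number of generators is 2) then B contains at most p^d irreducible characters; if D has rank 3 then the number k of irreducible characters in B satisfies k^3 ≤ p^(5d). -/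
theorem result {G : Type*} [Group G] [Finite G] (p : ℕ) [Fact p.Prime] (M : Ideal Cfsg.AlgInt) (hM : Cfsg.IsPModular p M) (B : Set (Cfsg.IrrCharacter G)) (hB : Cfsg.IsPBlock M B) (D : Subgroup G) (hBD : Cfsg.IsDefectGroup p M B D) (hab : IsMulCommutative D) (d : ℕ) (hDd : Nat.card D = p ^ d) : (Group.rank D = 2 → Nat.card B ≤ p ^ d) ∧ (Group.rank D = 3 → Nat.card B ^ 3 ≤ p ^ (5 * d)) := by
  classical
  have hd : d = Cfsg.blockDefect p B := Nat.pow_right_injective (Fact.out : p.Prime).two_le
    (hDd.symm.trans (Cfsg.Agent.Blocks.card_defectGroup hM hB hBD))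
  subst hd
  have hgens : ∀ r, Group.rank D = r →
      ∃ f : Fin r → D, Subgroup.closure (Set.range f) = ⊤ := by
    intro r hr
    obtain ⟨S, hS, hgen⟩ := Group.rank_spec D
    refine ⟨fun i => ((S.equivFinOfCardEq (hS.trans hr)).symm i : D), ?_⟩
    rw [← hgen]
    congr 1
    ext x
    exact ⟨by rintro ⟨i, rfl⟩; exact Finset.coe_mem _,
      fun hx => ⟨S.equivFinOfCardEq (hS.trans hr) ⟨x, hx⟩, by simp⟩⟩
  refine ⟨fun h2 => ?_, fun h3 => ?_⟩
  · obtain ⟨f, hf⟩ := hgens 2 h2
    exact CharTheory.CyclicCofactor.card_le_of_two_gen hM hB hBD hab f hf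
  · obtain ⟨f, hf⟩ := hgens 3 h3
    exact CharTheory.CyclicCofactor.card_cube_le_of_three_gen hM hB hBD hab f hf

end Cfsg.Agent.S4697
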