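import Mathlib
import Cfsg.Statements.S4699

/-
Cyclic trivial-intersection Sylow subgroups and the degree of faithful irreducible
representations in the same characteristic.  Let `x` generate `P` and `X = ρ x - 1`.  If
`X ^ (|P| - p) = 0`, a trace over `P` of any endomorphism is divisible on the left by `X ^ p`.
The sum `f` of `ρ y - 1` over the conjugates `y` of `x` under `N = N_G(P)` commutes with `N` and
has lowest term `X ^ e` with `1 ≤ e < p`; its relative trace to `G` is `f` plus a trace over `P`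
and, by Schur, is zero or injective, both impossible.
-/

set_option autoImplicit false
open Cfsg

namespace Cfsg.Agent.S4699

open Finset

/-- Left translation of representatives. -/
lemma sum_out_mul {K M : Type*} [Group K] [Finite K] [AddCommMonoid M] (H : Subgroup K)
    [Fintype (K ⧸ H)] (b : K → M) (hb : ∀ k, ∀ h ∈ H, b (k * h) = b k) (k : K) :
    ∑ c : K ⧸ H, b (k * c.out) = ∑ c : K ⧸ H, b c.out := by
  refine Fintype.sum_bijective (fun c => k • c) (MulAction.bijective k) _ _ fun c => ?_
  have h1 : (((k • c).out : K) : K ⧸ H) = ((k * c.out : K) : K ⧸ H) := by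
    rw [QuotientGroup.out_eq']
    conv_lhs => rw [← QuotientGroup.out_eq' c]
    rfl
  have h2 := QuotientGroup.eq.1 h1
  have h3 := hb (k • c).out _ h2
  rw [mul_inv_cancel_left] at h3
  exact h3

/-- A sum of binomial coefficients below `p` cannot vanish for all lower indices. -/
lemma exists_choose_sum_ne {ι : Type*} [Fintype ι] {F : Type*} [Field F] (p : ℕ) [Fact p.Prime]
    [CharP F p] (k : ι → ℕ) (hk : ∀ i, ¬ p ∣ k i) (hι : ¬ p ∣ Fintype.card ι) :
    ∃ j, 1 ≤ j ∧ j < p ∧ (∑ i, ((k i).choose j : F)) ≠ 0 := by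
  classical
  have hp := (Fact.out : p.Prime).pos
  by_contra hcon
  simp only [not_exists, not_and, not_ne_iff] at hcon
  have key : ∀ d c, c + d = p → 1 ≤ c → (((univ.filter fun i => k i % p = c).card : ℕ) : F) = 0 := by
    intro d
    induction d using Nat.strong_induction_on with
    | h d ih =>
      intro c hcd hc
      by_cases hcp : c < p
      swap
      · rw [filter_eq_empty_iff.2 fun i _ => ?_, card_empty, Nat.cast_zero]
        have := Nat.mod_lt (k i) hp
        omega
      have hmod : ∀ i, ((k i).choose c : F) = (((k i % p).choose c : ℕ) : F) := fun i => by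
        rw [CharP.natCast_eq_natCast F p]
        have h := Choose.choose_modEq_choose_mod_mul_choose_div_nat (p := p) (n := k i) (k := c)
        rwa [Nat.mod_eq_of_lt hcp, Nat.div_eq_of_lt hcp, Nat.choose_zero_right, mul_one] at h
      have h0 := hcon c hc hcp
      rw [sum_congr rfl fun i _ => hmod i,
        ← sum_fiberwise_of_maps_to (g := fun i => k i % p) (t := range p)
          (fun i _ => mem_range.2 (Nat.mod_lt _ hp)),
        sum_eq_single c] at h0
      · rw [sum_congr rfl (g := fun _ => (1 : F)) fun i hi => by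
          rw [(mem_filter.1 hi).2, Nat.choose_self, Nat.cast_one]] at h0
        simpa using h0
      · intro c' hc' hne
        rw [sum_congr rfl (g := fun _ => (((c'.choose c : ℕ)) : F)) fun i hi => by
          rw [(mem_filter.1 hi).2]]
        rw [sum_const, nsmul_eq_mul]
        rcases lt_or_gt_of_ne hne with h | h
        · rw [Nat.choose_eq_zero_of_lt h, Nat.cast_zero, mul_zero]
        · rw [ih (p - c') (by have := mem_range.1 hc'; omega) c'
            (by have := mem_range.1 hc'; omega) (by omega), zero_mul]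
      · intro h
        exact absurd (mem_range.2 hcp) h
  apply hι
  rw [← CharP.cast_eq_zero_iff F p, ← card_univ,
    card_eq_sum_card_fiberwise (f := fun i => k i % p) (t := range p)
      (fun i _ => mem_range.2 (Nat.mod_lt _ hp)), Nat.cast_sum]
  refine sum_eq_zero fun c hc => ?_
  have hc' := mem_range.1 hc
  rcases Nat.eq_zero_or_pos c with rfl | hpos
  · rw [filter_eq_empty_iff.2 fun i _ h => hk i (Nat.dvd_of_mod_eq_zero h), card_empty,
      Nat.cast_zero]
  · exact key (p - c) c (by omega) hpos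

section Trace

variable {F V : Type*} [Field F] [AddCommGroup V] [Module F V]

/-- Traces over a cyclic group of order `q` are left multiples of `X ^ r`. -/
lemma trace_eq (p n : ℕ) [Fact p.Prime] [CharP F p] (u v : Module.End F V) (huv : u * v = 1)
    (hvu : v * u = 1) (r : ℕ) (hr : r ≤ p ^ n) (hX : (u - 1) ^ (p ^ n - r) = 0)
    (θ : Module.End F V) :
    ∃ η : Module.End F V, ∑ i ∈ range (p ^ n), u ^ i * θ * v ^ i = (u - 1) ^ r * η := by
  set q := p ^ n with hq
  have hq1 : 1 ≤ q := Nat.one_le_pow _ _ (Fact.out : p.Prime).pos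
  let L : Module.End F V → Module.End F (Module.End F V) := LinearMap.mulLeft F
  let R : Module.End F V → Module.End F (Module.End F V) := LinearMap.mulRight F
  let T : Module.End F (Module.End F V) := L u * R v
  have hpoly : (∑ i ∈ range q, (Polynomial.X : Polynomial F) ^ i) =
      ((Polynomial.X : Polynomial F) - 1) ^ (q - 1) := by
    have hne : (Polynomial.X : Polynomial F) - 1 ≠ 0 := by
      simpa using Polynomial.X_sub_C_ne_zero (1 : F)
    apply mul_right_cancel₀ hne
    rw [geom_sum_mul, ← pow_succ, Nat.sub_add_cancel hq1, hq, sub_pow_char_pow, one_pow]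
  have hT := congrArg (Polynomial.aeval T) hpoly
  simp only [map_sum, map_pow, map_sub, Polynomial.aeval_X, map_one] at hT
  have hTi : ∀ i : ℕ, (T ^ i) θ = u ^ i * θ * v ^ i := by
    intro i
    induction i with
    | zero => simp
    | succ i ih =>
      rw [pow_succ' T, Module.End.mul_apply, ih, pow_succ' u, pow_succ v]
      show L u (R v _) = _
      simp [L, R, mul_assoc]
  have hcom : Commute (L (u - 1)) (-R (u - 1)) :=
    (show Commute (L (u - 1)) (R (u - 1)) from
      LinearMap.commute_mulLeft_right (u - 1) (u - 1)).neg_right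
  have hT1 : T - 1 = R v * (L (u - 1) + -R (u - 1)) := by
    refine LinearMap.ext fun η => ?_
    show L u (R v η) - η = R v (L (u - 1) η + -R (u - 1) η)
    simp only [L, R, LinearMap.mulLeft_apply, LinearMap.mulRight_apply]
    have h : η = η * u * v := by rw [mul_assoc, huv, mul_one]
    conv_lhs => arg 2; rw [h]
    noncomm_ring
  have hxv : Commute (u - 1) v := by
    show (u - 1) * v = v * (u - 1)
    rw [sub_mul, mul_sub, huv, hvu, one_mul, mul_one]
  have hcR : Commute (R v) (L (u - 1) + -R (u - 1)) := by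
    refine (show Commute (R v) (L (u - 1)) from
      (LinearMap.commute_mulLeft_right (u - 1) v).symm).add_right
      (Commute.neg_right (a := R v) (b := R (u - 1)) ?_)
    refine LinearMap.ext fun η => ?_
    simp only [L, R, Module.End.mul_apply, LinearMap.mulRight_apply, mul_assoc, hxv.eq]
  let S : Submodule F (Module.End F V) :=
    LinearMap.range (L ((u - 1) ^ r))
  suffices h : ∑ i ∈ range q, u ^ i * θ * v ^ i ∈ S by
    obtain ⟨η, hη⟩ := h
    exact ⟨η, hη.symm⟩
  rw [← sum_congr rfl (fun i _ => hTi i), ← LinearMap.sum_apply, hT, hT1, hcR.mul_pow,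
    Module.End.mul_apply]
  have hR : ∀ η ∈ S, (R v ^ (q - 1)) η ∈ S := by
    rintro _ ⟨η, rfl⟩
    refine ⟨η * v ^ (q - 1), ?_⟩
    simp [L, R, LinearMap.pow_mulRight, mul_assoc]
  refine hR _ ?_
  rw [hcom.add_pow, LinearMap.sum_apply]
  refine Submodule.sum_mem _ fun j hj => ?_
  have hj' := mem_range.1 hj
  rw [Module.End.mul_apply, Module.End.mul_apply]
  by_cases hjr : r ≤ j
  · refine ⟨(u - 1) ^ (j - r) * ((-R (u - 1)) ^ (q - 1 - j)) ((↑((q - 1).choose j) :
      Module.End F (Module.End F V)) θ), ?_⟩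
    simp only [L, LinearMap.pow_mulLeft, LinearMap.mulLeft_apply]
    rw [← mul_assoc, ← pow_add, Nat.add_sub_cancel' hjr]
  · have hz : (-R (u - 1)) ^ (q - 1 - j) = 0 := by
      have h0 : (u - 1) ^ (q - 1 - j) = 0 := pow_eq_zero_of_le (by omega) hX
      rw [neg_pow (R (u - 1))]
      rw [show R (u - 1) ^ (q - 1 - j) = R ((u - 1) ^ (q - 1 - j)) from
        LinearMap.pow_mulRight F _ _ _, h0, show R 0 = 0 from LinearMap.mulRight_zero_eq_zero .., mul_zero]
    rw [hz, LinearMap.zero_apply, map_zero]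
    exact zero_mem _

end Trace

theorem result {G : Type*} [Group G] [Finite G] (p : ℕ) [Fact p.Prime] (P : Sylow p G) (hcyc : IsCyclic P) (n : ℕ) (hn : 2 ≤ n) (hPn : Nat.card P = p ^ n) (hTI : ∀ Q : Sylow p G, Q ≠ P → (P : Subgroup G) ⊓ (Q : Subgroup G) = ⊥) (F : Type*) [Field F] [Finite F] [CharP F p] (V : Type*) [AddCommGroup V] [Module F V] [FiniteDimensional F V] (ρ : Representation F G V) (hfaith : Function.Injective ρ) (hirr : ρ.IsIrreducible) : p ^ n - (p - 1) ≤ Module.finrank F V := by
  classical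
  have hp : p.Prime := Fact.out
  obtain ⟨⟨x, hxP⟩, hxgen⟩ := IsCyclic.exists_generator (α := P)
  have hord : orderOf x = p ^ n := by
    rw [← hPn, ← orderOf_eq_card_of_forall_mem_zpowers hxgen]
    exact (Subgroup.orderOf_mk x hxP).symm
  have hpow : ∀ y ∈ (P : Subgroup G), ∃ k < p ^ n, x ^ k = y := by
    intro y hy
    obtain ⟨k, hk⟩ := (mem_powers_iff_mem_zpowers).2 (hxgen ⟨y, hy⟩)
    refine ⟨k % orderOf x, hord ▸ Nat.mod_lt _ (by rw [hord]; exact pow_pos hp.pos n), ?_⟩
    rw [pow_mod_orderOf]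
    exact congrArg Subtype.val hk
  set u := ρ x with hu
  have hexp : p ≤ p ^ (n - 1) := Nat.le_self_pow (by omega) p
  have hlt : p ^ (n - 1) < p ^ n := Nat.pow_lt_pow_right hp.one_lt (by omega)
  have hXe : ∀ e, e ≤ p ^ (n - 1) → (u - 1) ^ e ≠ 0 := by
    intro e he h0
    have h : (u - 1) ^ p ^ (n - 1) = 0 := pow_eq_zero_of_le he h0
    haveI : Nontrivial V := by
      by_contra hV
      rw [not_nontrivial_iff_subsingleton] at hV
      exact absurd (hfaith (Subsingleton.elim (ρ x) (ρ 1)))
        (fun h => by rw [h, orderOf_one] at hord; have := Nat.one_lt_pow (n := n) (by omega) hp.one_lt; omega)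
    haveI : Nontrivial (Module.End F V) := inferInstance
    haveI : CharP (Module.End F V) p :=
      charP_of_injective_algebraMap' F p
    rw [sub_pow_char_pow_of_commute _ _ (Commute.one_right u), one_pow, sub_eq_zero, hu,
      ← map_pow, ← map_one ρ] at h
    have := orderOf_dvd_of_pow_eq_one (hfaith h)
    rw [hord] at this
    exact absurd (Nat.le_of_dvd (pow_pos hp.pos _) this) (by omega)
  haveI : Nontrivial V := by
    by_contra hV
    rw [not_nontrivial_iff_subsingleton] at hV
    exact hXe 1 (Nat.one_le_pow _ _ hp.pos) (Subsingleton.elim _ _)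
  haveI : Nontrivial (Module.End F V) := inferInstance
  haveI : CharP (Module.End F V) p :=
      charP_of_injective_algebraMap' F p
  have hXq : (u - 1) ^ p ^ n = 0 := by
    rw [sub_pow_char_pow_of_commute _ _ (Commute.one_right u), one_pow, sub_eq_zero, hu,
      ← map_pow, ← hord, pow_orderOf_eq_one, map_one]
  suffices hmain : (u - 1) ^ (p ^ n - p) ≠ 0 by
    by_contra hle
    apply hmain
    have hnil : IsNilpotent (u - 1) := ⟨_, hXq⟩
    have hc := LinearMap.aeval_self_charpoly (u - 1)
    rw [hnil.charpoly_eq_X_pow_finrank, map_pow, Polynomial.aeval_X] at hc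
    exact pow_eq_zero_of_le (by omega) hc
  intro hsmall
  have hpq : p ≤ p ^ n := Nat.le_self_pow (by omega) p
  -- the element `f`
  set N : Subgroup G := Subgroup.normalizer ((P : Subgroup G) : Set G) with hN
  set P' : Subgroup N := (P : Subgroup G).subgroupOf N
  haveI : Fintype (G ⧸ N) := Fintype.ofFinite _
  haveI : Fintype (N ⧸ P') := Fintype.ofFinite _
  haveI : Fintype (P : Subgroup G) := Fintype.ofFinite _
  let b₀ : N → Module.End F V := fun h => ρ ((h : G) * x * (h : G)⁻¹) - 1
  have hb₀ : ∀ k, ∀ h ∈ P', b₀ (k * h) = b₀ k := by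
    intro k h hh
    have hc : (h : G) * x = x * (h : G) := by
      obtain ⟨i, -, hi⟩ := hpow _ (Subgroup.mem_subgroupOf.1 hh)
      rw [← hi]
      exact (Commute.pow_self x i).eq
    simp only [b₀, Subgroup.coe_mul]
    congr 2
    rw [mul_inv_rev, mul_assoc (k : G), hc]
    group
  set f : Module.End F V := ∑ c : N ⧸ P', b₀ c.out with hf
  have hconj : ∀ g : G, ∀ a : G, ρ g * (ρ a - 1) * ρ g⁻¹ = ρ (g * a * g⁻¹) - 1 := by
    intro g a
    rw [mul_sub, sub_mul, mul_one, ← map_mul, ← map_mul, ← map_mul, mul_inv_cancel, map_one]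
  have hfN : ∀ k : N, ρ (k : G) * f * ρ (k : G)⁻¹ = f := by
    intro k
    rw [hf, mul_sum, sum_mul]
    refine Eq.trans (sum_congr rfl fun c _ => ?_) (sum_out_mul P' b₀ hb₀ k)
    simp only [b₀, hconj, Subgroup.coe_mul, mul_inv_rev, mul_assoc]
  -- lowest term of `f`
  have hk : ∀ c : N ⧸ P', ∃ k < p ^ n, x ^ k = (c.out : G) * x * (c.out : G)⁻¹ := fun c =>
    hpow _ ((Subgroup.mem_normalizer_iff.1 c.out.2 x).1 hxP)
  choose k hk1 hk2 using hk
  have hkp : ∀ c, ¬ p ∣ k c := by
    rintro c ⟨m, hm⟩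
    have h1 : (x ^ k c) ^ p ^ (n - 1) = 1 := by
      rw [← pow_mul, hm, mul_comm p m, mul_assoc, ← pow_succ', Nat.sub_add_cancel (by omega),
        mul_comm, pow_mul, ← hord, pow_orderOf_eq_one, one_pow]
    rw [hk2, conj_pow, conj_eq_one_iff] at h1
    have := orderOf_dvd_of_pow_eq_one h1
    rw [hord] at this
    exact absurd (Nat.le_of_dvd (pow_pos hp.pos _) this) (by omega)
  have hcard : ¬ p ∣ Fintype.card (N ⧸ P') := by
    rw [← Nat.card_eq_fintype_card]
    intro h
    apply P.not_dvd_index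
    rw [← Subgroup.relIndex_mul_index (Subgroup.le_normalizer (H := (P : Subgroup G)))]
    exact dvd_mul_of_dvd_left h _
  have hex := exists_choose_sum_ne (F := F) p k hkp hcard
  set e := Nat.find hex with he
  obtain ⟨he1, hep, hes⟩ := Nat.find_spec hex
  have hlow : ∀ j, 1 ≤ j → j < e → (∑ c, ((k c).choose j : F)) = 0 := by
    intro j hj1 hje
    by_contra h
    exact Nat.find_min hex hje ⟨hj1, by omega, h⟩
  set s : F := ∑ c, ((k c).choose e : F) with hs
  obtain ⟨g₀, hg₀⟩ : ∃ g₀, f = s • (u - 1) ^ e + (u - 1) ^ (e + 1) * g₀ := by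
    let S : Submodule F (Module.End F V) :=
      LinearMap.range (LinearMap.mulLeft F ((u - 1) ^ (e + 1)))
    suffices h : f - s • (u - 1) ^ e ∈ S by
      obtain ⟨g₀, h⟩ := h
      refine ⟨g₀, ?_⟩
      rw [LinearMap.mulLeft_apply] at h
      rw [h]
      abel
    have hterm : ∀ c : N ⧸ P', b₀ c.out =
        ∑ j ∈ range (p ^ n), ((k c).choose (j + 1) : F) • (u - 1) ^ (j + 1) := by
      intro c
      have hb : ∀ j, ((k c).choose j : F) • (u - 1) ^ j =
          (u - 1) ^ j * 1 ^ (k c - j) * ((k c).choose j : Module.End F V) := fun j => by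
        rw [one_pow, mul_one, (Nat.cast_commute _ _).symm.eq, Algebra.smul_def, map_natCast]
      have h1 : b₀ c.out = ρ (x ^ k c) - 1 := by rw [hk2]
      rw [h1, map_pow, ← hu, show u = (u - 1) + 1 by abel, (Commute.one_right (u - 1)).add_pow,
        sum_range_succ', add_sub_assoc]
      simp only [add_sub_cancel_right]
      have h0 : (u - 1) ^ 0 * 1 ^ (k c - 0) * ((k c).choose 0 : Module.End F V) - 1 = 0 := by
        simp
      rw [h0, add_zero]
      refine Eq.trans ?_ (sum_subset (range_subset_range.2 (hk1 c).le) fun j _ hj => ?_)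
      · exact sum_congr rfl fun j _ => (hb _).symm
      · rw [mem_range, not_lt] at hj
        rw [Nat.choose_eq_zero_of_lt (by omega), Nat.cast_zero, zero_smul]
    rw [hf, sum_congr rfl (fun c _ => hterm c), sum_comm]
    simp only [← sum_smul]
    rw [← add_sum_erase (range (p ^ n)) _ (mem_range.2 (show e - 1 < p ^ n by omega)),
      Nat.sub_add_cancel he1, ← hs, add_sub_cancel_left]
    refine Submodule.sum_mem _ fun j hj => ?_
    rw [mem_erase] at hj
    rcases lt_or_gt_of_ne hj.1 with h | h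
    · rw [hlow (j + 1) (by omega) (by omega), zero_smul]
      exact zero_mem _
    · refine Submodule.smul_mem _ _ ⟨(u - 1) ^ (j - e), ?_⟩
      rw [LinearMap.mulLeft_apply, ← pow_add]
      congr 1
      omega
  -- relative trace
  let b : G → Module.End F V := fun g => ρ g * f * ρ g⁻¹
  have hb : ∀ g, ∀ h ∈ N, b (g * h) = b g := by
    intro g h hh
    simp only [b, map_mul, mul_inv_rev]
    rw [show ρ g * ρ h * f * (ρ h⁻¹ * ρ g⁻¹) = ρ g * (ρ h * f * ρ h⁻¹) * ρ g⁻¹ by noncomm_ring,
      hfN ⟨h, hh⟩]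
  have hbc : ∀ (g : G) (c : G ⧸ N), (g : G ⧸ N) = c → b c.out = b g := by
    intro g c hgc
    have h1 : (c.out : G ⧸ N) = (g : G ⧸ N) := by rw [QuotientGroup.out_eq', hgc]
    have h2 := hb c.out _ (QuotientGroup.eq.1 h1)
    rw [mul_inv_cancel_left] at h2
    exact h2.symm
  set ψ : Module.End F V := ∑ c : G ⧸ N, b c.out with hψ
  have hψG : ∀ g : G, ρ g * ψ = ψ * ρ g := by
    intro g
    have h : ρ g * ψ * ρ g⁻¹ = ψ := by
      rw [hψ, mul_sum, sum_mul]
      refine Eq.trans (sum_congr rfl fun c _ => ?_) (sum_out_mul N b hb g)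
      simp only [b, map_mul, mul_inv_rev]
      noncomm_ring
    conv_rhs => rw [← h, mul_assoc, ← map_mul, inv_mul_cancel, map_one, mul_one]
  -- the other terms form a trace over `P`
  obtain ⟨θ, hθ⟩ : ∃ θ, ψ = f + ∑ h : (P : Subgroup G), ρ (h : G) * θ * ρ (h : G)⁻¹ := by
    have hfree : ∀ (h : (P : Subgroup G)) (c : G ⧸ N), c ≠ ((1 : G) : G ⧸ N) → h • c = c →
        h = 1 := by
      intro h c hc hhc
      obtain ⟨g, rfl⟩ := QuotientGroup.mk_surjective c
      have hgN : g ∉ N := by
        intro hg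
        exact hc ((QuotientGroup.eq).2 (by simpa using hg))
      have hfix : (((h : G) * g : G) : G ⧸ N) = (g : G ⧸ N) := hhc
      have h1 : g⁻¹ * (h : G) * g ∈ N := by
        have h1 := N.inv_mem (QuotientGroup.eq.1 hfix)
        rw [mul_inv_rev, inv_inv] at h1
        simpa [mul_assoc] using h1
      obtain ⟨m, hm⟩ := (P.isPGroup' h)
      have h2 : g⁻¹ * (h : G) * g ∈ (P : Subgroup G) := by
        have hm' : (h : G) ^ p ^ m = 1 := by simpa using congrArg Subtype.val hm
        have hpg : IsPGroup p (Subgroup.zpowers (g⁻¹ * (h : G) * g)) := by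
          rintro ⟨_, i, rfl⟩
          refine ⟨m, Subtype.ext ?_⟩
          simp only [SubmonoidClass.coe_pow, OneMemClass.coe_one]
          rw [← zpow_natCast, ← zpow_mul, mul_comm, zpow_mul, zpow_natCast,
            show g⁻¹ * (h : G) * g = g⁻¹ * (h : G) * g⁻¹⁻¹ by rw [inv_inv], conj_pow, hm',
            mul_one, mul_inv_cancel, one_zpow]
        obtain ⟨Q, hQ⟩ := hpg.exists_le_sylow
        have hle : Subgroup.zpowers (g⁻¹ * (h : G) * g) ≤ (P : Subgroup G) :=
          hpg.inf_normalizer_sylow P ▸ le_inf le_rfl (Subgroup.zpowers_le.2 h1) |>.trans inf_le_right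
        exact hle (Subgroup.mem_zpowers _)
      have hne : g • P ≠ P := fun e => hgN (Sylow.smul_eq_iff_mem_normalizer.1 e)
      have h3 : (h : G) ∈ (P : Subgroup G) ⊓ ((g • P : Sylow p G) : Subgroup G) := by
        refine ⟨h.2, ⟨g⁻¹ * (h : G) * g, h2, ?_⟩⟩
        show g * (g⁻¹ * (h : G) * g) * g⁻¹ = h
        group
      rw [hTI _ hne, Subgroup.mem_bot] at h3
      exact Subtype.ext h3
    have hfix1 : ∀ h : (P : Subgroup G), h • ((1 : G) : G ⧸ N) = ((1 : G) : G ⧸ N) := fun h =>
      QuotientGroup.eq.2 (by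
        simpa using N.inv_mem (Subgroup.le_normalizer (H := (P : Subgroup G)) h.2))
    haveI : Fintype (MulAction.orbitRel.Quotient (P : Subgroup G) (G ⧸ N)) := Fintype.ofFinite _
    let mk : G ⧸ N → MulAction.orbitRel.Quotient (P : Subgroup G) (G ⧸ N) := Quotient.mk''
    have hmk : ∀ (h : (P : Subgroup G)) c, mk (h • c) = mk c := fun h c =>
      Quotient.sound' ⟨h, rfl⟩
    have hout : ∀ o, mk o.out = o := fun o => Quotient.out_eq' o
    set R := (univ : Finset (MulAction.orbitRel.Quotient (P : Subgroup G) (G ⧸ N))).erase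
      (mk ((1 : G) : G ⧸ N)) with hR
    have hR1 : ∀ o ∈ R, o.out ≠ ((1 : G) : G ⧸ N) := fun o ho h => by
      rw [hR, mem_erase] at ho
      exact ho.1 (by rw [← h, hout])
    have hb1 : b ((1 : G) : G ⧸ N).out = f := by
      rw [hbc 1 _ rfl]
      simp [b]
    refine ⟨∑ o ∈ R, b o.out.out, ?_⟩
    rw [hψ, ← add_sum_erase univ _ (mem_univ (((1 : G) : G ⧸ N))), hb1]
    congr 1
    simp only [mul_sum, sum_mul]
    rw [← sum_product' univ R (fun (h : (P : Subgroup G)) o =>
      ρ (h : G) * b o.out.out * ρ (h : G)⁻¹)]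
    symm
    refine sum_bij (fun a _ => a.1 • a.2.out) ?_ ?_ ?_ ?_
    · rintro ⟨h, o⟩ ho
      rw [mem_erase]
      refine ⟨fun h1 => hR1 o (mem_product.1 ho).2 ?_, mem_univ _⟩
      rw [← inv_smul_eq_iff.2 h1.symm, hfix1]
    · rintro ⟨h, o⟩ ho ⟨h', o'⟩ ho' hh
      have ho2 : o = o' := by
        have h1 := congrArg mk hh
        rwa [hmk, hmk, hout, hout] at h1
      subst ho2
      have := hfree (h'⁻¹ * h) o.out (hR1 o (mem_product.1 ho).2)
        (by rw [mul_smul, show h • o.out = h' • o.out from hh, inv_smul_smul])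
      rw [inv_mul_eq_one] at this
      simp [this]
    · intro c hc
      rw [mem_erase] at hc
      obtain ⟨h, hh⟩ := Quotient.exact' (hout (mk c))
      refine ⟨(h⁻¹, mk c), mem_product.2 ⟨mem_univ _, mem_erase.2 ⟨fun h1 => hc.1 ?_, mem_univ _⟩⟩,
        ?_⟩
      · obtain ⟨h', hh'⟩ := Quotient.exact' h1
        rw [← hh']
        exact hfix1 h'
      · show h⁻¹ • (mk c).out = c
        rw [← show h • c = (mk c).out from hh, inv_smul_smul]
    · rintro ⟨h, o⟩ _
      rw [hbc ((h : G) * o.out.out) (h • o.out)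
        (by conv_rhs => rw [← QuotientGroup.out_eq' o.out]
            rfl)]
      simp only [b, map_mul, mul_inv_rev]
      noncomm_ring
  obtain ⟨η, hη⟩ : ∃ η, ∑ h : (P : Subgroup G), ρ (h : G) * θ * ρ (h : G)⁻¹ = (u - 1) ^ p * η := by
    obtain ⟨η, hη⟩ := trace_eq p n u (ρ x⁻¹) (by rw [hu, ← map_mul, mul_inv_cancel, map_one])
      (by rw [hu, ← map_mul, inv_mul_cancel, map_one]) p hpq hsmall θ
    refine ⟨η, ?_⟩
    rw [← hη]
    symm
    refine sum_bij (fun i _ => (⟨x ^ i, Subgroup.pow_mem _ hxP i⟩ : (P : Subgroup G)))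
      (fun i _ => mem_univ _) ?_ ?_ ?_
    · intro i hi j hj hij
      exact pow_injOn_Iio_orderOf (by simpa [hord] using hi) (by simpa [hord] using hj)
        (congrArg Subtype.val hij)
    · intro h _
      obtain ⟨i, hi, hi2⟩ := hpow _ h.2
      exact ⟨i, mem_range.2 hi, Subtype.ext hi2⟩
    · intro i _
      simp only [map_pow, ← inv_pow]
      rfl
  rw [hη, hg₀] at hθ
  -- Schur's lemma
  let K : Subrepresentation ρ :=
    { toSubmodule := LinearMap.ker ψ
      apply_mem_toSubmodule := fun g v hv => by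
        rw [LinearMap.mem_ker] at hv ⊢
        have h := LinearMap.congr_fun (hψG g) v
        simp only [Module.End.mul_apply] at h
        rw [← h, hv, map_zero] }
  haveI := hirr
  rcases IsSimpleOrder.eq_bot_or_eq_top K with hK | hK
  · have hinj : Function.Injective ψ :=
      LinearMap.ker_eq_bot.1 (congrArg Subrepresentation.toSubmodule hK)
    have hsurj : Function.Surjective ψ := LinearMap.injective_iff_surjective.1 hinj
    obtain ⟨ζ, hζ⟩ : ∃ ζ, ψ = (u - 1) * ζ := by
      refine ⟨s • (u - 1) ^ (e - 1) + (u - 1) ^ e * g₀ + (u - 1) ^ (p - 1) * η, ?_⟩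
      rw [hθ, mul_add, mul_add, mul_smul_comm, ← mul_assoc, ← mul_assoc, ← pow_succ', ← pow_succ',
        ← pow_succ', Nat.sub_add_cancel he1, Nat.sub_add_cancel hp.one_le]
    have hXs : Function.Surjective ⇑(u - 1) := by
      intro w
      obtain ⟨v, hv⟩ := hsurj w
      exact ⟨ζ v, by rw [← hv, hζ]; rfl⟩
    have h0 := (hXs.iterate (p ^ n))
    rw [← Module.End.coe_pow, hXq] at h0
    obtain ⟨v, hv⟩ := exists_ne (0 : V)
    obtain ⟨w, hw⟩ := h0 v
    exact hv hw.symm
  · have hψ0 : ψ = 0 := LinearMap.ker_eq_top.1 (congrArg Subrepresentation.toSubmodule hK)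
    rw [hψ0] at hθ
    obtain ⟨ζ, hζ⟩ : ∃ ζ, (u - 1) ^ e = (u - 1) ^ (e + 1) * ζ := by
      refine ⟨s⁻¹ • (-(g₀ + (u - 1) ^ (p - (e + 1)) * η)), ?_⟩
      rw [mul_smul_comm, eq_inv_smul_iff₀ hes, mul_neg, mul_add, ← mul_assoc, ← pow_add,
        show e + 1 + (p - (e + 1)) = p by omega, eq_neg_iff_add_eq_zero, ← add_assoc]
      exact hθ.symm
    have hit : ∀ j, (u - 1) ^ e = (u - 1) ^ (e + j) * ζ ^ j := by
      intro j
      induction j with
      | zero => simp
      | succ j ih =>
        calc (u - 1) ^ e = (u - 1) ^ (e + j) * ζ ^ j := ih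
          _ = (u - 1) ^ j * ((u - 1) ^ e) * ζ ^ j := by rw [← pow_add, add_comm e j]
          _ = (u - 1) ^ j * ((u - 1) ^ (e + 1) * ζ) * ζ ^ j := by rw [← hζ]
          _ = _ := by rw [← mul_assoc, ← pow_add, mul_assoc, ← pow_succ']; ring_nf
    exact hXe e (by omega) (by rw [hit (p ^ n), pow_eq_zero_of_le (by omega) hXq, zero_mul])

end Cfsg.Agent.S4699
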