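import Cfsg.Statements.S4702
import Cfsg.Agent.Lib.Perm.Zassenhaus.SharpThree
import Cfsg.Agent.Lib.Perm.Zassenhaus.Main
import Cfsg.Agent.S0265

set_option autoImplicit false
open Cfsg

namespace Cfsg.Agent.S4702

/-- Let G be a triply transitive permutation group on a finite set of odd size m ≥ 3 in which only the identity fixes three or more points. Then m = 2^a + 1 for some a ≥ 1 and G is isomorphic to SL(2, 2^a). -/
theorem result {α : Type*} [Fintype α] [DecidableEq α] (hm : 3 ≤ Fintype.card α) (hodd : Odd (Fintype.card α)) (G : Subgroup (Equiv.Perm α)) (h3 : MulAction.IsMultiplyPretransitive G α 3) (hfix : ∀ g : G, 3 ≤ Nat.card (MulAction.fixedBy α g) → g = 1) : ∃ a : ℕ, 1 ≤ a ∧ Fintype.card α = 2 ^ a + 1 ∧ ∃ (F : Type) (_ : Field F) (_ : Fintype F), Fintype.card F = 2 ^ a ∧ Nonempty (G ≃* Matrix.SpecialLinearGroup (Fin 2) F) := by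
  classical
  have hsharp : ∀ t : Fin 3 ↪ α, MulAction.stabilizer G t = ⊥ := fun t =>
    (Perm.Sharp.stabilizer_embedding_eq_bot_iff t).2 fun g hg => hfix g (by
      have : Function.Injective (fun i : Fin 3 => (⟨t i, hg i⟩ : MulAction.fixedBy α g)) :=
        fun i j e => t.injective (congrArg Subtype.val e)
      have h' := Nat.card_le_card_of_injective _ this
      rwa [Nat.card_fin] at h')
  obtain ⟨x, b, F, p, s, hp, hF, hFp, hexp, hsx, hs, hcard⟩ :=
    Perm.Zassenhaus.exists_frame inferInstance h3 hsharp (by rwa [Nat.card_eq_fintype_card])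
  haveI := Fact.mk hp
  have hcF : Fintype.card α = Nat.card F + 1 := by
    rw [← Nat.card_eq_fintype_card]; exact hF.card_F
  obtain ⟨k, hk⟩ := IsPGroup.iff_card.mp hFp
  have hk0 : 1 ≤ k := by
    rcases k with _ | k
    · rw [hk, pow_zero] at hcF; omega
    · omega
  have hp2 : p = 2 := by
    rw [hcF, hk] at hodd
    have he : Even (p ^ k) := by
      rcases hodd with ⟨j, hj⟩
      exact ⟨j, by omega⟩
    exact (hp.even_iff.mp (Nat.even_pow.mp he).1)
  subst hp2
  have hinv := hF.inverted_char_two hsx hs (fun u hu => by rw [← pow_two]; exact hexp u hu) hcard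
  obtain ⟨K, i1, i2, hK, hpgl, -⟩ := hF.iso_of_inverted hsx hs hinv (Or.inl hcard)
  obtain ⟨e⟩ := hpgl hcard
  rw [Nat.card_eq_fintype_card, hcF, hk] at hK
  have hK' : Fintype.card K = 2 ^ k := by omega
  have h2 : ringChar K = 2 := by
    haveI := ringChar.charP K
    have hd : ringChar K ∣ 2 ^ k := by
      rw [← hK']
      exact (CharP.cast_eq_zero_iff K (ringChar K) _).mp (Nat.cast_card_eq_zero K)
    have hpr : (ringChar K).Prime := CharP.char_is_prime K _
    exact (Nat.prime_dvd_prime_iff_eq hpr Nat.prime_two).mp (hpr.dvd_of_dvd_pow hd)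
  haveI : CharP K 2 := h2 ▸ ringChar.charP K
  have hinj : Function.Injective
      (Matrix.SpecialLinearGroup.toPGL : Matrix.SpecialLinearGroup (Fin 2) K →* Matrix.ProjGenLinGroup (Fin 2) K) := by
    rw [← MonoidHom.ker_eq_bot_iff, Matrix.SpecialLinearGroup.toPGL_ker, Subgroup.eq_bot_iff_forall]
    intro A hA
    obtain ⟨r, hr, hrA⟩ := Matrix.SpecialLinearGroup.mem_center_iff.mp hA
    rw [Fintype.card_fin] at hr
    have hr1 : r = 1 := by
      rcases sq_eq_one_iff.mp hr with h | h
      · exact h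
      · rw [h, CharTwo.neg_eq]
    apply Subtype.ext
    rw [← hrA, hr1, map_one]
    rfl
  haveI : Finite (Matrix.ProjGenLinGroup (Fin 2) K) := Finite.of_equiv G e.toEquiv
  have hbij := (Nat.bijective_iff_injective_and_card _).mpr
    ⟨hinj, (Cfsg.Agent.S0265.result (F := K) 2).symm⟩
  exact ⟨k, hk0, by rw [hcF, hk], K, i1, i2, hK', ⟨e.trans (MulEquiv.ofBijective _ hbij).symm⟩⟩

end Cfsg.Agent.S4702
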