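import Cfsg.Statements.S4708
import Cfsg.Agent.BlockCharsA.CoverOver

set_option autoImplicit false
set_option linter.style.haveILetI false
open Cfsg
open Cfsg.Agent.Blocks Cfsg.Agent.Characters Cfsg.Agent.BlockCharsA Cfsg.Agent.BlockCharsA.NormalSupport

namespace Cfsg.Agent.S4708

/-- Let p be a prime, M a maximal ideal of the algebraic integers containing p, G a finite group and H a normal subgroup. Write λ(X) for the sum of the squares of the degrees of the irreducible characters in the principal p-block of a group X. Then λ(H) ≤ λ(G) ≤ [G : H]·λ(H). -/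
theorem result {G : Type*} [Group G] [Finite G] (p : ℕ) [Fact p.Prime] (M : Ideal Cfsg.AlgInt) (hM : Cfsg.IsPModular p M) (H : Subgroup G) [H.Normal] : (∑ᶠ θ ∈ Cfsg.principalBlock M H, Cfsg.charDegree (θ : H → ℂ) ^ 2) ≤ (∑ᶠ χ ∈ Cfsg.principalBlock M G, Cfsg.charDegree (χ : G → ℂ) ^ 2) ∧ (∑ᶠ χ ∈ Cfsg.principalBlock M G, Cfsg.charDegree (χ : G → ℂ) ^ 2) ≤ H.index * ∑ᶠ θ ∈ Cfsg.principalBlock M H, Cfsg.charDegree (θ : H → ℂ) ^ 2 := by
  classical
  haveI := Fintype.ofFinite G
  haveI := Fintype.ofFinite H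
  haveI := Fintype.ofFinite (Cfsg.IrrCharacter G)
  haveI := Fintype.ofFinite (Cfsg.IrrCharacter H)
  set B := Cfsg.principalBlock M G
  set b := Cfsg.principalBlock M H
  rw [finsum_mem_eq_toFinset_sum _ b, finsum_mem_eq_toFinset_sum _ B]
  choose a ha using fun (χ : Cfsg.IrrCharacter G) (θ : Cfsg.IrrCharacter H) =>
    classInner_char_nat (isCharacter_restrict H (irr_isCharacter χ)) (irr_isCharacter θ)
  have hdec : ∀ χ ∈ B, Cfsg.charDegree (χ : G → ℂ) =
      ∑ θ ∈ b.toFinset, a χ θ * Cfsg.charDegree (θ : H → ℂ) := by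
    intro χ hχ
    have h := congrFun (classFun_eq_sum (classFun_restrict H (irr_isClassFunction χ))) 1
    simp only [Finset.sum_apply, Pi.smul_apply, smul_eq_mul, OneMemClass.coe_one, ha,
      ← charDegree_cast, ← Nat.cast_mul, ← Nat.cast_sum, Nat.cast_inj] at h
    rw [h]
    refine (Finset.sum_subset (Finset.subset_univ _) fun θ _ hθ => ?_).symm
    by_contra hne
    refine hθ (Set.mem_toFinset.2 (CoverOver.principal_under hM hχ ?_))
    rw [ha, Nat.cast_ne_zero]
    exact fun h0 => hne (by rw [h0, zero_mul])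
  constructor
  · have hover : ∀ θ ∈ b.toFinset, ∃ χ ∈ B.toFinset, a χ θ ≠ 0 := fun θ hθ => by
      obtain ⟨χ, hχ, h⟩ := CoverOver.principal_over (G := G) hM (Set.mem_toFinset.1 hθ)
      exact ⟨χ, Set.mem_toFinset.2 hχ, fun h0 => h (by rw [ha, h0, Nat.cast_zero])⟩
    calc ∑ θ ∈ b.toFinset, Cfsg.charDegree (θ : H → ℂ) ^ 2
        ≤ ∑ θ ∈ b.toFinset, ∑ χ ∈ B.toFinset, (a χ θ * Cfsg.charDegree (θ : H → ℂ)) ^ 2 := by
          refine Finset.sum_le_sum fun θ hθ => ?_
          obtain ⟨χ, hχ, hne⟩ := hover θ hθ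
          exact le_trans (Nat.pow_le_pow_left (Nat.le_mul_of_pos_left _ (Nat.pos_of_ne_zero hne)) 2)
            (Finset.single_le_sum (f := fun χ => (a χ θ * Cfsg.charDegree (θ : H → ℂ)) ^ 2)
              (fun _ _ => Nat.zero_le _) hχ)
      _ = ∑ χ ∈ B.toFinset, ∑ θ ∈ b.toFinset, (a χ θ * Cfsg.charDegree (θ : H → ℂ)) ^ 2 :=
          Finset.sum_comm
      _ ≤ ∑ χ ∈ B.toFinset, Cfsg.charDegree (χ : G → ℂ) ^ 2 := by
          refine Finset.sum_le_sum fun χ hχ => ?_
          rw [hdec χ (Set.mem_toFinset.1 hχ)]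
          exact Finset.sum_sq_le_sq_sum_of_nonneg fun _ _ => Nat.zero_le _
  · have hind : ∀ θ : Cfsg.IrrCharacter H, ∑ χ ∈ B.toFinset,
        a χ θ * Cfsg.charDegree (χ : G → ℂ) ≤ H.index * Cfsg.charDegree (θ : H → ℂ) := by
      intro θ
      have h := congrFun (classFun_eq_sum (indFun_isClassFunction H (θ : H → ℂ))) 1
      have e : ∀ χ : Cfsg.IrrCharacter G,
          Cfsg.classInner (Cfsg.indFun H (θ : H → ℂ)) (χ : G → ℂ) = (a χ θ : ℂ) := fun χ => by
        rw [frobenius_reciprocity H (θ : H → ℂ) (irr_isClassFunction χ), classInner_conj_symm,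
          ha, Complex.conj_natCast]
      simp only [Finset.sum_apply, Pi.smul_apply, smul_eq_mul, indFun_one, e, ← charDegree_cast,
        ← Nat.cast_mul, ← Nat.cast_sum, Nat.cast_inj] at h
      rw [h]
      exact Finset.sum_le_sum_of_subset (Finset.subset_univ _)
    calc ∑ χ ∈ B.toFinset, Cfsg.charDegree (χ : G → ℂ) ^ 2
        = ∑ χ ∈ B.toFinset, ∑ θ ∈ b.toFinset,
            Cfsg.charDegree (θ : H → ℂ) * (a χ θ * Cfsg.charDegree (χ : G → ℂ)) := by
          refine Finset.sum_congr rfl fun χ hχ => ?_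
          rw [sq]
          nth_rw 1 [hdec χ (Set.mem_toFinset.1 hχ)]
          rw [Finset.sum_mul]
          exact Finset.sum_congr rfl fun θ _ => by ring
      _ = ∑ θ ∈ b.toFinset, Cfsg.charDegree (θ : H → ℂ) *
            ∑ χ ∈ B.toFinset, a χ θ * Cfsg.charDegree (χ : G → ℂ) := by
          rw [Finset.sum_comm]; simp only [Finset.mul_sum]
      _ ≤ ∑ θ ∈ b.toFinset, Cfsg.charDegree (θ : H → ℂ) *
            (H.index * Cfsg.charDegree (θ : H → ℂ)) :=
          Finset.sum_le_sum fun θ _ => Nat.mul_le_mul le_rfl (hind θ)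
      _ = _ := by
          rw [Finset.mul_sum]
          exact Finset.sum_congr rfl fun θ _ => by ring

end Cfsg.Agent.S4708
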