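import Cfsg.Statements.S4712
import Cfsg.Agent.Lib.Blocks.BrauerChar.PRational

set_option autoImplicit false
open Cfsg

namespace Cfsg.Agent.S4712

open Cfsg.Agent.Blocks.BrauerChar in
/-- Let p be an odd prime, M a maximal ideal of the algebraic integers containing p, G a finite group of order n with p-part p^a, and B a p-block of G. Call an irreducible character χ p-rational when χ(g^k) = χ(g) for every g and every k coprime to n with k ≡ 1 modulo n/p^a (χ is fixed by the Galois automorphisms fixing the roots of unity of order prime to p). Then the number of p-rational irreducible characters in B is at least the p-regular rank of B (the number of irreducible Brauer characters in B). -/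
theorem result {G : Type*} [Group G] [Finite G] (p : ℕ) [Fact p.Prime] (hodd : p ≠ 2) (M : Ideal Cfsg.AlgInt) (hM : Cfsg.IsPModular p M) (B : Set (Cfsg.IrrCharacter G)) (hB : Cfsg.IsPBlock M B) : Cfsg.blockRank p B ≤ Nat.card {χ : Cfsg.IrrCharacter G // χ ∈ B ∧ ∀ k : ℕ, Nat.Coprime k (Nat.card G) → k ≡ 1 [MOD Nat.card G / p ^ (Nat.card G).factorization p] → ∀ g : G, (χ : G → ℂ) (g ^ k) = (χ : G → ℂ) g} := by
  classical
  set n := Nat.card G with hn
  have hn0 : n ≠ 0 := Nat.card_pos.ne'
  set q := p ^ n.factorization p with hq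
  set r := n / q with hr
  have hp := hM.1
  have hcop : Nat.Coprime q r :=
    Nat.Coprime.pow_left _ ((hp.coprime_iff_not_dvd).2 (Nat.not_dvd_ordCompl hp hn0))
  have hqr : q * r = n := Nat.ordProj_mul_ordCompl_eq_self n p
  haveI : NeZero q := ⟨pow_ne_zero _ hp.ne_zero⟩
  haveI := ZMod.isCyclic_units_of_prime_pow p hp hodd (n.factorization p)
  obtain ⟨γ, hγ⟩ := IsCyclic.exists_generator (α := (ZMod q)ˣ)
  obtain ⟨k₀, hk₀q, hk₀r⟩ := Nat.chineseRemainder hcop ((γ : ZMod q).val) 1
  have hk₀γ : (k₀ : ZMod q) = γ := by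
    rw [(ZMod.natCast_eq_natCast_iff k₀ _ q).2 hk₀q, ZMod.natCast_zmod_val]
  have hcopk : Nat.Coprime k₀ n := by
    rw [← hqr]
    refine Nat.Coprime.mul_right ((ZMod.isUnit_iff_coprime k₀ q).1 (hk₀γ ▸ γ.isUnit)) ?_
    exact (Nat.ModEq.gcd_eq hk₀r).trans (Nat.gcd_one_left r)
  have hfix : ∀ g : G, ¬ p ∣ orderOf g → g ^ k₀ = g := fun g hg => by
    have hd : orderOf g ∣ r :=
      (Nat.Coprime.pow_right _ ((hp.coprime_iff_not_dvd).2 hg).symm).dvd_of_dvd_mul_left
        (by rw [hqr]; exact orderOf_dvd_natCard g)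
    conv_rhs => rw [← pow_one g]
    exact pow_eq_pow_iff_modEq.2 (hk₀r.of_dvd hd)
  refine (rank_le_card_fixed hM hB hcopk hfix).trans_eq
    (Nat.card_congr (Equiv.subtypeEquivRight fun χ => and_congr_right fun _ => ?_))
  refine ⟨fun h k hk hkr g => ?_, fun h g => h k₀ hcopk hk₀r g⟩
  have hku : Nat.Coprime k q := hk.coprime_dvd_right (hqr ▸ dvd_mul_right q r)
  obtain ⟨i, hi⟩ := (mem_powers_iff_mem_zpowers).2 (hγ (ZMod.unitOfCoprime k hku))
  have hiter : ∀ (i : ℕ) (g : G), (χ : G → ℂ) (g ^ k₀ ^ i) = (χ : G → ℂ) g := fun i => by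
    induction i with
    | zero => intro g; rw [pow_zero, pow_one]
    | succ i ih => intro g; rw [pow_succ', pow_mul, ih, h]
  have hmod : k ≡ k₀ ^ i [MOD n] := by
    rw [← hqr]
    refine (Nat.modEq_and_modEq_iff_modEq_mul hcop).1 ⟨?_, ?_⟩
    · rw [← ZMod.natCast_eq_natCast_iff, Nat.cast_pow, hk₀γ]
      have := congrArg (Units.val) hi
      simp only [Units.val_pow_eq_pow_val, ZMod.coe_unitOfCoprime] at this
      exact this.symm
    · exact hkr.trans (by simpa using (hk₀r.pow i).symm)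
  rw [show g ^ k = g ^ k₀ ^ i from pow_eq_pow_iff_modEq.2 (hmod.of_dvd (orderOf_dvd_natCard g)),
    hiter]

end Cfsg.Agent.S4712
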