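import Cfsg.Statements.S4717
import Cfsg.Agent.BlockCharsA.LocalBlock

set_option autoImplicit false
open Cfsg Cfsg.Agent.Blocks Cfsg.Agent.Characters Cfsg.Agent.BlockCharsA

namespace Cfsg.Agent.S4717

/-- Let p be a prime, M a maximal ideal of the algebraic integers containing p, and r a natural number; say that a finite group X has deficiency class r when X has no non-principal p-block of defect ≥ r. If G has deficiency class r then so does the centralizer of every p-element of G; conversely, if r > 0 and the centralizer of every element of order p has deficiency class r, then G has deficiency class r. -/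
theorem result {G : Type*} [Group G] [Finite G] (p : ℕ) [Fact p.Prime] (M : Ideal Cfsg.AlgInt) (hM : Cfsg.IsPModular p M) (r : ℕ) : ((∀ B' : Set (Cfsg.IrrCharacter G), Cfsg.IsPBlock M B' → B' ≠ Cfsg.principalBlock M G → Cfsg.blockDefect p B' < r) → ∀ y : G, (∃ k : ℕ, orderOf y = p ^ k) → (∀ B' : Set (Cfsg.IrrCharacter ↥(Subgroup.centralizer ({y} : Set G))), Cfsg.IsPBlock M B' → B' ≠ Cfsg.principalBlock M ↥(Subgroup.centralizer ({y} : Set G)) → Cfsg.blockDefect p B' < r)) ∧ (0 < r → (∀ y : G, orderOf y = p → (∀ B' : Set (Cfsg.IrrCharacter ↥(Subgroup.centralizer ({y} : Set G))), Cfsg.IsPBlock M B' → B' ≠ Cfsg.principalBlock M ↥(Subgroup.centralizer ({y} : Set G)) → Cfsg.blockDefect p B' < r)) → (∀ B' : Set (Cfsg.IrrCharacter G), Cfsg.IsPBlock M B' → B' ≠ Cfsg.principalBlock M G → Cfsg.blockDefect p B' < r)) := by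
  classical
  haveI := Fintype.ofFinite G
  refine ⟨fun h y hy b hb hne => ?_, fun hr h B hB hne => ?_⟩
  · obtain ⟨B, hind⟩ := LocalBlock.inducedBlockDefined hM hy hb
    obtain ⟨D, hD⟩ := exists_defectGroup hM hb
    obtain ⟨E, hE, hle⟩ := exists_defect_le_of_induced hM hind hD
    have hBne : B ≠ Cfsg.principalBlock M G := fun e =>
      hne ((third_main hM ⟨B, hind⟩).1 (e ▸ hind))
    refine lt_of_le_of_lt ((Nat.pow_le_pow_iff_right hM.1.one_lt).1 ?_) (h B hind.2.1 hBne)
    rw [← card_defectGroup hM hb hD, ← card_defectGroup hM hind.2.1 hE]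
    refine le_trans (le_of_eq ?_) (Subgroup.card_le_of_le hle)
    exact (Nat.card_congr (D.equivMapOfInjective _ (Subgroup.subtype_injective _)).toEquiv)
  · by_contra hd
    push Not at hd
    obtain ⟨D, hD⟩ := exists_defectGroup hM hB
    have hDp := isPGroup_defect hD
    have hcard := card_defectGroup hM hB hD
    haveI : Nontrivial D := Finite.one_lt_card_iff_nontrivial.1 (by
      rw [hcard]; exact Nat.one_lt_pow (by omega) hM.1.one_lt)
    haveI : Nontrivial (Subgroup.center D) := hDp.center_nontrivial
    obtain ⟨w, hw⟩ := exists_prime_orderOf_dvd_card' (G := Subgroup.center D) p (by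
      obtain ⟨t, ht⟩ := (hDp.to_subgroup (Subgroup.center D)).exists_card_eq
      rw [ht]
      refine dvd_pow_self p fun h0 => ?_
      have := Finite.one_lt_card (α := Subgroup.center D)
      rw [ht, h0, pow_zero] at this
      exact lt_irrefl 1 this)
    obtain ⟨b, hind, hle⟩ := LocalBlock.exists_induced hM hB hD (z := ((w : D) : G)) (w : D).2
      fun t ht => congrArg Subtype.val (Subgroup.mem_center_iff.1 w.2 ⟨t, ht⟩)
    have hbne : b ≠ Cfsg.principalBlock M _ := fun e => hne (by
      refine isInduced_unique hM hind ?_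
      exact (third_main hM ⟨B, hind⟩).2 e)
    have := h ((w : D) : G) (by rw [Subgroup.orderOf_coe, Subgroup.orderOf_coe, hw]) b hind.1 hbne
    omega

end Cfsg.Agent.S4717
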