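import Cfsg.Statements.S4718
import Cfsg.Agent.BlockCharsA.Contrib

set_option autoImplicit false
universe u
open Cfsg Cfsg.Agent.Blocks Cfsg.Agent.Characters Cfsg.Agent.BlockCharsA

namespace Cfsg.Agent.S4718

/-- Boundedness of the denominators in representations of a rational as a short sum of unit
fractions. -/
theorem exists_bound : ∀ (k : ℕ) (q : ℚ), ∃ N : ℕ, ∀ s : Multiset ℕ, s.card ≤ k →
    (∀ c ∈ s, 0 < c) → (s.map fun c : ℕ => (1 : ℚ) / (c : ℚ)).sum = q → ∀ c ∈ s, c ≤ N := by
  intro k
  induction k with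
  | zero =>
    intro q
    exact ⟨0, fun s hs _ _ c hc => absurd hc (by rw [Multiset.card_eq_zero.1 (Nat.le_zero.1 hs)]; simp)⟩
  | succ k ih =>
    intro q
    choose N hN using fun j : ℕ => ih (q - 1 / j)
    set m := ⌈((k + 1 : ℕ) : ℚ) / q⌉₊
    refine ⟨max m ((Finset.range (m + 1)).sup N), fun s hs hpos hsum c hc => ?_⟩
    obtain ⟨a, ha, ham⟩ : ∃ a ∈ s, a ≤ m := by
      by_contra hcon
      push Not at hcon
      have hq : 0 < q := by
        rw [← hsum]
        obtain ⟨t, rfl⟩ := Multiset.exists_cons_of_mem hc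
        rw [Multiset.map_cons, Multiset.sum_cons]
        exact add_pos_of_pos_of_nonneg (one_div_pos.2 (Nat.cast_pos.2 (hpos c hc)))
          (Multiset.sum_nonneg fun x hx => by
            obtain ⟨y, -, rfl⟩ := Multiset.mem_map.1 hx
            positivity)
      have hle : (s.map fun c : ℕ => (1 : ℚ) / (c : ℚ)).sum ≤ s.card • ((1 : ℚ) / ((m + 1 : ℕ) : ℚ)) := by
        refine (Multiset.sum_le_card_nsmul _ _ fun x hx => ?_).trans (by rw [Multiset.card_map])
        obtain ⟨y, hy, rfl⟩ := Multiset.mem_map.1 hx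
        exact one_div_le_one_div_of_le (Nat.cast_pos.2 m.succ_pos) (Nat.cast_le.2 (hcon y hy))
      rw [hsum, nsmul_eq_mul, ← mul_div_assoc, mul_one, le_div_iff₀ (Nat.cast_pos.2 m.succ_pos)] at hle
      have h1 : ((k + 1 : ℕ) : ℚ) ≤ q * m := by
        rw [← div_le_iff₀' hq]; exact Nat.le_ceil _
      have h2 : (s.card : ℚ) ≤ ((k + 1 : ℕ) : ℚ) := Nat.cast_le.2 hs
      push_cast at hle h1 h2
      linarith
    rcases eq_or_ne c a with rfl | hne
    · exact le_max_of_le_left ham
    · refine le_max_of_le_right (le_trans ?_ (Finset.le_sup (Finset.mem_range.2 (Nat.lt_succ_of_le ham))))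
      obtain ⟨t, rfl⟩ := Multiset.exists_cons_of_mem ha
      rw [Multiset.card_cons] at hs
      rw [Multiset.map_cons, Multiset.sum_cons] at hsum
      exact hN a t (by omega) (fun x hx => hpos x (Multiset.mem_cons_of_mem hx)) (by linarith) c
        ((Multiset.mem_cons.1 hc).resolve_left hne)

/-- Let p be a prime and a a natural number. There is a bound N such that every finite group whose Sylow p-subgroups have order p^a and whose only p-block (relative to a maximal ideal of the algebraic integers containing p) is the principal block has order at most N. -/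
theorem result (p : ℕ) [Fact p.Prime] (a : ℕ) : ∃ N : ℕ, ∀ (G : Type u) [Group G] [Finite G] (M : Ideal Cfsg.AlgInt), Cfsg.IsPModular p M → (Nat.card G).factorization p = a → (∀ B : Set (Cfsg.IrrCharacter G), Cfsg.IsPBlock M B → B = Cfsg.principalBlock M G) → Nat.card G ≤ N := by
  classical
  obtain ⟨N, hN⟩ := exists_bound (p ^ (2 * a) + 4) 1
  refine ⟨N, fun G _ _ M hM ha hone => ?_⟩
  haveI := Fintype.ofFinite G
  haveI := Fintype.ofFinite (ConjClasses G)
  haveI := Fintype.ofFinite (Cfsg.IrrCharacter G)
  have hB := isPBlock_principal M G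
  have hall : ∀ χ : Cfsg.IrrCharacter G, χ ∈ Cfsg.principalBlock M G := fun χ => by
    rw [← hone _ (isPBlock_blockOf M χ)]; exact mem_blockOf_self hM χ
  have hk : Nat.card (ConjClasses G) ≤ p ^ (2 * a) + 4 := by
    rw [← card_irrCharacter]
    have h1 := Contrib.sum_heights_le hM hB
    have h2 : Nat.card (Cfsg.IrrCharacter G) ≤ ∑ᶠ χ ∈ Cfsg.principalBlock M G,
        p ^ (2 * Cfsg.blockHeight p (Cfsg.principalBlock M G) (χ : G → ℂ)) := by
      rw [ZStar.Principal.finsum_mem_eq_sum_filter, Nat.card_eq_fintype_card, ← Finset.card_univ,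
        Finset.card_eq_sum_ones]
      refine le_trans (le_of_eq ?_) (Finset.sum_le_sum fun χ _ => Nat.one_le_pow _ _ hM.1.pos)
      exact Finset.sum_congr (by ext χ; simp [hall χ]) fun _ _ => rfl
    have h3 := Nat.pow_le_pow_right hM.1.pos
      (Nat.mul_le_mul_left 2 (blockDefect_le p (Cfsg.principalBlock M G)))
    rw [ha] at h3
    omega
  set f : ConjClasses G → ℕ := fun C =>
    Nat.card (Subgroup.centralizer ({C.out} : Set G))
  have hsum : ∑ C : ConjClasses G, (1 : ℚ) / (f C : ℚ) = 1 := by
    have h1 : Nat.card G = ∑ C : ConjClasses G, (Subgroup.centralizer ({C.out} : Set G)).index := by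
      rw [Nat.card_eq_fintype_card, ← Finset.card_univ,
        Finset.card_eq_sum_card_fiberwise (f := ConjClasses.mk (α := G))
          (t := Finset.univ) fun _ _ => Finset.mem_univ _]
      refine Finset.sum_congr rfl fun C _ => ?_
      rw [← card_filter_isConj]
      refine congrArg Finset.card (Finset.ext fun x => ?_)
      simp only [Finset.mem_filter, Finset.mem_univ, true_and]
      rw [← ConjClasses.mk_eq_mk_iff_isConj,
        show ConjClasses.mk C.out = C from Quotient.out_eq C, eq_comm]
    have hG : (Nat.card G : ℚ) ≠ 0 := Nat.cast_ne_zero.2 Nat.card_pos.ne'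
    have h2 : ∑ C : ConjClasses G, (1 : ℚ) / (f C : ℚ) = (∑ C : ConjClasses G,
        ((Subgroup.centralizer ({C.out} : Set G)).index : ℚ)) / (Nat.card G : ℚ) := by
      rw [Finset.sum_div]
      refine Finset.sum_congr rfl fun C _ => ?_
      rw [← Subgroup.index_mul_card (Subgroup.centralizer ({C.out} : Set G)), Nat.cast_mul,
        div_mul_eq_div_div, div_self]
      exact Nat.cast_ne_zero.2 Subgroup.index_ne_zero_of_finite
    rw [h2, ← Nat.cast_sum, ← h1, div_self hG]
  have h := hN (Finset.univ.val.map f)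
    (by rw [Multiset.card_map]; exact le_trans (le_of_eq (Nat.card_eq_fintype_card (α := ConjClasses G)).symm) hk)
    (fun c hc => by
      obtain ⟨C, -, rfl⟩ := Multiset.mem_map.1 hc
      exact Nat.card_pos)
    (by rw [Multiset.map_map]; exact hsum) (f (ConjClasses.mk 1))
    (Multiset.mem_map_of_mem _ (Finset.mem_univ _))
  refine le_trans (le_of_eq ?_) h
  have : (ConjClasses.mk (1 : G)).out = 1 := by
    have := ConjClasses.mk_eq_mk_iff_isConj.1 (Quotient.out_eq (ConjClasses.mk (1 : G)))
    exact isConj_one_left.1 this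
  show Nat.card G = Nat.card (Subgroup.centralizer ({(ConjClasses.mk (1 : G)).out} : Set G))
  rw [this, show Subgroup.centralizer ({(1 : G)} : Set G) = ⊤ by
    ext; simp [Subgroup.mem_centralizer_singleton_iff], Subgroup.card_top]

end Cfsg.Agent.S4718
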