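import Cfsg.Statements.S4719
import Mathlib
import Cfsg.Agent.BlocksChars.InvolutionBound
import Cfsg.Agent.BlockCharsA.LocalBlock
import Cfsg.Agent.Lib.Blocks.InducedChars
import Cfsg.Agent.Lib.Blocks.PQuotient
import Cfsg.Agent.Lib.Characters.Inner
import Cfsg.Agent.Lib.Characters.Counting
import Cfsg.Agent.S4494
-- import your own Cfsg.Agent.* helpers here

set_option autoImplicit false
universe u
open Cfsg

namespace Cfsg.Agent.S4719

open Cfsg.Agent.Blocks Cfsg.Agent.Characters Cfsg.Agent.BlocksChars.InvolutionBound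

universe v

/-- Landau: bounded length and denominator bound the terms. -/
theorem landau_aux : ∀ k B : ℕ, ∃ N : ℕ, ∀ s : Multiset ℕ, Multiset.card s ≤ k → (∀ n ∈ s, 0 < n) →
    ∀ a b : ℕ, 0 < a → 0 < b → b ≤ B → (s.map fun n : ℕ => (n : ℚ)⁻¹).sum = (a : ℚ) / b →
      ∀ n ∈ s, n ≤ N := by
  intro k
  induction k with
  | zero =>
    exact fun B => ⟨0, fun s hs _ _ _ _ _ _ _ n hn => by
      rw [Multiset.card_eq_zero.1 (Nat.le_zero.1 hs)] at hn; simp at hn⟩
  | succ k ih =>
    intro B
    obtain ⟨N, hN⟩ := ih (B * ((k + 1) * B))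
    refine ⟨(k + 1) * B + N, fun s hs hpos a b ha hb hbB hsum => ?_⟩
    have hb' : (0 : ℚ) < b := by exact_mod_cast hb
    have ha' : (1 : ℚ) ≤ a := by exact_mod_cast ha
    obtain ⟨m, hm, hmle⟩ : ∃ m ∈ s, m ≤ (k + 1) * B := by
      by_contra hcon
      push Not at hcon
      have hBpos : (0 : ℚ) < ((k + 1) * B : ℕ) := by
        exact_mod_cast Nat.mul_pos k.succ_pos (lt_of_lt_of_le hb hbB)
      have h0 : s ≠ 0 := fun h => by
        rw [h, Multiset.map_zero, Multiset.sum_zero] at hsum
        exact (div_pos (by linarith) hb').ne hsum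
      have hlt : (s.map fun n : ℕ => (n : ℚ)⁻¹).sum <
          (s.map fun _ : ℕ => (((k + 1) * B : ℕ) : ℚ)⁻¹).sum :=
        Multiset.sum_lt_sum_of_nonempty h0 fun n hn =>
          (inv_lt_inv₀ (by exact_mod_cast hpos n hn) hBpos).2 (by exact_mod_cast hcon n hn)
      rw [Multiset.map_const', Multiset.sum_replicate, nsmul_eq_mul, hsum,
        div_lt_iff₀ hb'] at hlt
      have h1 : ((Multiset.card s : ℕ) : ℚ) * (((k + 1) * B : ℕ) : ℚ)⁻¹ * b ≤ 1 := by
        rw [mul_right_comm, ← div_eq_mul_inv, div_le_one hBpos]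
        exact_mod_cast Nat.mul_le_mul hs hbB
      linarith
    intro n hn
    by_cases hnm : n = m
    · subst hnm; exact le_trans hmle (Nat.le_add_right _ _)
    have hmem : n ∈ s.erase m := Multiset.mem_erase_of_ne hnm |>.2 hn
    have hm0 := hpos m hm
    have hm0' : (0 : ℚ) < m := by exact_mod_cast hm0
    have hrest : ((s.erase m).map fun n : ℕ => (n : ℚ)⁻¹).sum =
        ((a : ℚ) * m - b) / ((b * m : ℕ) : ℚ) := by
      rw [← Multiset.cons_erase hm, Multiset.map_cons, Multiset.sum_cons] at hsum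
      rw [eq_sub_of_add_eq' hsum, Nat.cast_mul]
      field_simp
    have hpos' : (0 : ℚ) < ((s.erase m).map fun n : ℕ => (n : ℚ)⁻¹).sum := by
      refine lt_of_lt_of_le (inv_pos.2 (by exact_mod_cast hpos n hn : (0 : ℚ) < n))
        (Multiset.single_le_sum (fun x hx => ?_) _ (Multiset.mem_map_of_mem _ hmem))
      obtain ⟨y, hy, rfl⟩ := Multiset.mem_map.1 hx
      positivity
    have hlt : b < a * m := by
      rw [hrest] at hpos'
      have := (div_pos_iff_of_pos_right (by exact_mod_cast Nat.mul_pos hb hm0)).1 hpos'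
      exact_mod_cast (sub_pos.1 this)
    refine le_trans (hN (s.erase m) ?_ (fun y hy => hpos y (Multiset.mem_of_mem_erase hy))
      (a * m - b) (b * m) (by omega) (Nat.mul_pos hb hm0) (Nat.mul_le_mul hbB hmle) ?_ n hmem)
      (Nat.le_add_left _ _)
    · rw [Multiset.card_erase_of_mem hm, Nat.pred_le_iff]; exact hs
    · rw [hrest, Nat.cast_sub hlt.le, Nat.cast_mul a m]

/-- Landau: a bound on the order from the number of classes. -/
theorem landau (k : ℕ) : ∃ N : ℕ, ∀ (G : Type v) [Group G] [Finite G],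
    Nat.card (ConjClasses G) ≤ k → Nat.card G ≤ N := by
  obtain ⟨N, hN⟩ := landau_aux k 1
  refine ⟨N, fun G _ _ hk => ?_⟩
  classical
  haveI := Fintype.ofFinite G
  haveI := Fintype.ofFinite (ConjClasses G)
  let f : ConjClasses G → ℕ := fun C => Nat.card (Subgroup.centralizer ({Quotient.out C} : Set G))
  have hone : Nat.card (Subgroup.centralizer ({(Quotient.out (ConjClasses.mk (1 : G)))} : Set G)) =
      Nat.card G := by
    have h : IsConj (1 : G) (Quotient.out (ConjClasses.mk (1 : G))) :=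
      ConjClasses.mk_eq_mk_iff_isConj.1 (Quotient.out_eq _).symm
    rw [isConj_one_right.1 h, show Subgroup.centralizer ({(1 : G)} : Set G) = ⊤ from
      eq_top_iff.2 fun g _ => Subgroup.mem_centralizer_singleton_iff.2 (by simp), Subgroup.card_top]
  rw [← hone]
  refine hN ((Finset.univ : Finset (ConjClasses G)).val.map f) ?_ ?_ 1 1 one_pos one_pos le_rfl ?_ _
    (Multiset.mem_map_of_mem f (Finset.mem_univ _))
  · rwa [Multiset.card_map, Finset.card_val, Finset.card_univ, ← Nat.card_eq_fintype_card]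
  · intro n hn
    obtain ⟨C, -, rfl⟩ := Multiset.mem_map.1 hn
    exact Nat.card_pos
  · rw [Multiset.map_map, Nat.cast_one, div_one]
    show ∑ C : ConjClasses G, ((f C : ℕ) : ℚ)⁻¹ = 1
    have hG : (Nat.card G : ℚ) ≠ 0 := Nat.cast_ne_zero.2 Nat.card_pos.ne'
    have hterm : ∀ C : ConjClasses G, ((f C : ℕ) : ℚ)⁻¹ =
        ((C.carrier.toFinset.card : ℕ) : ℚ) / Nat.card G := fun C => by
      have h := card_carrier_mul_card_centralizer (Quotient.out C)
      rw [show ConjClasses.mk (Quotient.out C) = C from Quotient.out_eq C] at h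
      have hf : ((f C : ℕ) : ℚ) ≠ 0 := Nat.cast_ne_zero.2 Nat.card_pos.ne'
      rw [eq_div_iff hG, inv_mul_eq_iff_eq_mul₀ hf, ← Nat.card_eq_card_toFinset, ← h, Nat.cast_mul,
        mul_comm]
    rw [Finset.sum_congr rfl fun C _ => hterm C, ← Finset.sum_div, ← Nat.cast_sum,
      sum_conjClasses_card_eq_card, Nat.card_eq_fintype_card, div_self]
    exact Nat.cast_ne_zero.2 Fintype.card_pos.ne'

/-- No non-principal block of defect at least `r`. -/
def Deficient (G : Type v) [Group G] (M : Ideal Cfsg.AlgInt) (r : ℕ) : Prop :=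
  ∀ B : Set (Cfsg.IrrCharacter G), Cfsg.IsPBlock M B → B ≠ Cfsg.principalBlock M G →
    Cfsg.blockDefect 2 B < r

theorem deficient_centralizer {G : Type v} [Group G] [Finite G] {M : Ideal Cfsg.AlgInt}
    (hM : Cfsg.IsPModular 2 M) {r : ℕ} (h : Deficient G M (r + 1)) {x : G} (hx : orderOf x = 2) :
    Deficient (Subgroup.centralizer ({x} : Set G)) M (r + 1) := by
  intro b hb hne
  haveI := Fintype.ofFinite G
  have hdef := Cfsg.Agent.BlockCharsA.LocalBlock.inducedBlockDefined hM ⟨1, by rw [hx, pow_one]⟩ hb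
  obtain ⟨B, hind⟩ := id hdef
  have hB : B ≠ Cfsg.principalBlock M G := fun e => hne ((third_main hM hdef).1 (e ▸ hind))
  obtain ⟨D, hD⟩ := exists_defectGroup hM hb
  obtain ⟨E, hE, hle⟩ := exists_defect_le_of_induced hM hind hD
  have h1 := Subgroup.card_le_of_le hle
  rw [Subgroup.card_map_of_injective (Subgroup.subtype_injective _), card_defectGroup hM hb hD,
    card_defectGroup hM hind.2.1 hE] at h1
  exact lt_of_le_of_lt ((Nat.pow_le_pow_iff_right (le_refl 2)).1 h1) (h B hind.2.1 hB)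

theorem deficient_quotient {C : Type v} [Group C] [Finite C] {M : Ideal Cfsg.AlgInt}
    (hM : Cfsg.IsPModular 2 M) {r : ℕ} (h : Deficient C M (r + 1)) (Z : Subgroup C) [Z.Normal]
    (hZ : Z ≤ Subgroup.center C) (hcard : Nat.card Z = 2) : Deficient (C ⧸ Z) M r := by
  intro B hB hne
  have hP : IsPGroup 2 Z := IsPGroup.of_card (n := 1) (by rw [hcard, pow_one])
  have hC : ∃ k : ℕ, (Subgroup.centralizer (Z : Set C)).index = 2 ^ k := by
    refine ⟨0, ?_⟩
    rw [pow_zero, Subgroup.index_eq_one, eq_top_iff]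
    exact fun g _ z hz => (Subgroup.mem_center_iff.1 (hZ hz) g).symm
  obtain ⟨χ, hχ, hmin⟩ : ∃ χ ∈ B, (Cfsg.charDegree (χ : C ⧸ Z → ℂ)).factorization 2 =
      sInf ((fun ψ : Cfsg.IrrCharacter (C ⧸ Z) => (Cfsg.charDegree (ψ : C ⧸ Z → ℂ)).factorization 2) '' B) := by
    obtain ⟨χ, hχ⟩ := block_nonempty hM hB
    exact Nat.sInf_mem ⟨_, Set.mem_image_of_mem _ hχ⟩
  set θ : Cfsg.IrrCharacter C :=
    ⟨_, isIrrCharacter_comp_surjective _ (QuotientGroup.mk'_surjective Z) χ.2⟩ with hθ
  set b := Cfsg.blockOf M (θ : C → ℂ) with hb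
  have hbne : b ≠ Cfsg.principalBlock M C := by
    intro e
    refine hne ?_
    have h1 : Cfsg.SameBlock M (fun _ : C => (1 : ℂ)) (θ : C → ℂ) := by
      have : θ ∈ Cfsg.principalBlock M C := e ▸ mem_blockOf_self hM θ
      exact this
    have h2 : Cfsg.SameBlock M ((trivIrr (C ⧸ Z) : Cfsg.IrrCharacter (C ⧸ Z)) : C ⧸ Z → ℂ)
        (χ : C ⧸ Z → ℂ) := (sameBlock_inflate_iff hM hP hC _ χ).2 h1
    exact block_eq_of_mem hM hB (isPBlock_principal M _) hχ h2
  have h1 := h b (isPBlock_blockOf M θ) hbne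
  have hle : (Nat.card C).factorization 2 - (Cfsg.charDegree (θ : C → ℂ)).factorization 2 ≤
      Cfsg.blockDefect 2 b :=
    by
    rw [Cfsg.blockDefect]
    have hmem : (Cfsg.charDegree (θ : C → ℂ)).factorization 2 ∈
        (fun ψ : Cfsg.IrrCharacter C => (Cfsg.charDegree (ψ : C → ℂ)).factorization 2) '' b :=
      ⟨θ, mem_blockOf_self hM θ, rfl⟩
    exact Nat.sub_le_sub_left (Nat.sInf_le hmem) _
  have hdeg : Cfsg.charDegree (θ : C → ℂ) = Cfsg.charDegree (χ : C ⧸ Z → ℂ) := by
    simp [hθ, Cfsg.charDegree, map_one]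
  have hfac : (Nat.card C).factorization 2 = (Nat.card (C ⧸ Z)).factorization 2 + 1 := by
    rw [Subgroup.card_eq_card_quotient_mul_card_subgroup Z, hcard,
      Nat.factorization_mul Nat.card_pos.ne' two_ne_zero, Finsupp.add_apply,
      Nat.Prime.factorization_self Nat.prime_two]
  have hχle : (Cfsg.charDegree (χ : C ⧸ Z → ℂ)).factorization 2 ≤ (Nat.card (C ⧸ Z)).factorization 2 :=
    (Nat.factorization_le_iff_dvd (charDegree_pos χ).ne' Nat.card_pos.ne').2
      (char_degree_dvd_card χ) 2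
  show (Nat.card (C ⧸ Z)).factorization 2 - _ < r
  rw [← hmin]
  rw [hdeg] at hle
  omega

/-- The theorem with the Sylow `2`-subgroup replaced by its order. -/
theorem bound (r : ℕ) : ∀ a : ℕ, ∃ N : ℕ, ∀ (G : Type v) [Group G] [Finite G] (M : Ideal Cfsg.AlgInt),
    Cfsg.IsPModular 2 M → (Nat.card G).factorization 2 ≤ a → Deficient G M r →
    (∃ E : Subgroup G, IsMulCommutative E ∧ (∀ x ∈ E, x * x = 1) ∧ Nat.card E = 2 ^ (r + 1)) →
    Nat.card G ≤ N := by
  induction r with
  | zero =>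
    intro a
    obtain ⟨N, hN⟩ := landau.{v} (2 ^ (2 * a) + 4)
    refine ⟨N, fun G _ _ M hM ha hdef _ => hN G ?_⟩
    haveI := Fintype.ofFinite G
    haveI : Fact (Nat.Prime 2) := ⟨Nat.prime_two⟩
    have hall : ∀ χ : Cfsg.IrrCharacter G, χ ∈ Cfsg.principalBlock M G := fun χ => by
      by_contra hn
      exact Nat.not_lt_zero _ (hdef _ (isPBlock_blockOf M χ) fun e => hn (e ▸ mem_blockOf_self hM χ))
    have h := Cfsg.Agent.S4494.result 2 M hM _ (isPBlock_principal M G)
    have hd : 2 ^ (2 * Cfsg.blockDefect 2 (Cfsg.principalBlock M G)) ≤ 2 ^ (2 * a) :=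
      Nat.pow_le_pow_right two_pos (Nat.mul_le_mul_left 2 ((blockDefect_le 2 _).trans ha))
    rw [← card_irrCharacter, ← Nat.card_congr (Equiv.subtypeUnivEquiv hall)]
    change Nat.card (Cfsg.principalBlock M G) ≤ _
    omega
  | succ r ih =>
    intro a
    obtain ⟨N, hN⟩ := ih a
    obtain ⟨F, hF⟩ := exists_bound.{v} a (2 * N)
    refine ⟨F, fun G _ _ M hM ha hdef ⟨E, hEc, hE2, hEcard⟩ => ?_⟩
    have hinv : ∀ t ∈ E, t ≠ 1 → orderOf t = 2 := fun t ht ht1 =>
      orderOf_eq_prime (by rw [pow_two]; exact hE2 t ht) ht1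
    have hcent : ∀ t ∈ E, t ≠ 1 → Nat.card (Subgroup.centralizer ({t} : Set G)) ≤ 2 * N := by
      intro t ht ht1
      set C := Subgroup.centralizer ({t} : Set G) with hC
      have htC : t ∈ C := Subgroup.mem_centralizer_singleton_iff.2 rfl
      set Z : Subgroup C := Subgroup.zpowers (⟨t, htC⟩ : C) with hZ
      have hZc : Z ≤ Subgroup.center C := Subgroup.zpowers_le.2 (Subgroup.mem_center_iff.2 fun g =>
        Subtype.ext (Subgroup.mem_centralizer_singleton_iff.1 g.2))
      haveI : Z.Normal := ⟨fun z hz g => by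
        rwa [Subgroup.mem_center_iff.1 (hZc hz) g, mul_inv_cancel_right]⟩
      have hZcard : Nat.card Z = 2 := by
        rw [Nat.card_zpowers, Subgroup.orderOf_mk, hinv t ht ht1]
      have hEC : E ≤ C := fun e he => Subgroup.mem_centralizer_singleton_iff.2
        (congrArg Subtype.val (hEc.is_comm.comm (⟨e, he⟩ : E) ⟨t, ht⟩) :)
      set E' := (E.subgroupOf C).map (QuotientGroup.mk' Z) with hE'
      have hq : Nat.card (C ⧸ Z) ≤ N := by
        refine hN _ M hM ?_ (deficient_quotient hM (deficient_centralizer hM hdef (hinv t ht ht1))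
          Z hZc hZcard) ⟨E', ⟨⟨?_⟩⟩, ?_, ?_⟩
        · refine le_trans ?_ ha
          exact (Nat.factorization_le_iff_dvd Nat.card_pos.ne' Nat.card_pos.ne').2
            ((Subgroup.card_quotient_dvd_card Z).trans (Subgroup.card_subgroup_dvd_card C)) 2
        · rintro ⟨_, u, hu, rfl⟩ ⟨_, w, hw, rfl⟩
          refine Subtype.ext ?_
          show QuotientGroup.mk' Z u * QuotientGroup.mk' Z w = _ * _
          rw [← map_mul, ← map_mul]
          congr 1
          exact Subtype.ext (congrArg Subtype.val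
            (hEc.is_comm.comm (⟨u, hu⟩ : E) ⟨w, hw⟩) :)
        · rintro _ ⟨u, hu, rfl⟩
          rw [← map_mul, show u * u = 1 from Subtype.ext (hE2 u hu), map_one]
        · have hsub : Z ≤ E.subgroupOf C := Subgroup.zpowers_le.2 ht
          have h1 := Subgroup.card_eq_card_quotient_mul_card_subgroup (Z.subgroupOf (E.subgroupOf C))
          rw [Nat.card_congr (Subgroup.subgroupOfEquivOfLe hsub).toEquiv,
            Nat.card_congr (Subgroup.subgroupOfEquivOfLe hEC).toEquiv, hEcard, hZcard] at h1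
          have h2 : Nat.card E' = Nat.card (E.subgroupOf C ⧸ Z.subgroupOf (E.subgroupOf C)) := by
            have h3 := ((QuotientGroup.mk' Z).comp (E.subgroupOf C).subtype)
            rw [← Subgroup.index_eq_card,
              show Z.subgroupOf (E.subgroupOf C) =
                ((QuotientGroup.mk' Z).comp (E.subgroupOf C).subtype).ker by
                rw [← MonoidHom.comap_ker, QuotientGroup.ker_mk']; rfl,
              Subgroup.index_ker, MonoidHom.range_comp, Subgroup.range_subtype]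
          rw [h2, pow_succ]
          rw [pow_succ 2 (r + 1), pow_succ] at h1
          omega
      rw [Subgroup.card_eq_card_quotient_mul_card_subgroup Z, hZcard, mul_comm]
      exact Nat.mul_le_mul_left 2 hq
    haveI : Nontrivial E := Finite.one_lt_card_iff_nontrivial.1 (by
      rw [hEcard]; exact Nat.one_lt_two_pow (by omega))
    obtain ⟨⟨x, hxE⟩, hx1⟩ := exists_ne (1 : E)
    have hx1' : x ≠ 1 := fun e => hx1 (Subtype.ext e)
    obtain ⟨y, hyE, hy⟩ : ∃ y ∈ E, y ∉ Subgroup.zpowers x := by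
      by_contra hcon
      push Not at hcon
      have h1 := Subgroup.card_le_of_le (show E ≤ Subgroup.zpowers x from hcon)
      rw [hEcard, Nat.card_zpowers, hinv x hxE hx1'] at h1
      have h2 : 2 ^ 2 ≤ 2 ^ (r + 1 + 1) := Nat.pow_le_pow_right two_pos (by omega)
      omega
    have hy1 : y ≠ 1 := fun e => hy (e ▸ one_mem _)
    have hxy : x ≠ y := fun e => hy (e ▸ Subgroup.mem_zpowers x)
    have hxy1 : x * y ≠ 1 := fun e => hy (by
      rw [show y = x⁻¹ from eq_inv_of_mul_eq_one_right e]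
      exact inv_mem (Subgroup.mem_zpowers x))
    exact hF G x y ha ⟨hinv x hxE hx1', hinv y hyE hy1,
      (congrArg Subtype.val (hEc.is_comm.comm (⟨x, hxE⟩ : E) ⟨y, hyE⟩) :), hxy, hcent x hxE hx1',
      hcent y hyE hy1, hcent _ (mul_mem hxE hyE) hxy1⟩

/-- For every natural number a there is a bound N with the following property. Let G be a finite group with Sylow 2-subgroups of order 2^a and r ≥ 0 such that G has no non-principal 2-block (relative to a maximal ideal of the algebraic integers containing 2) of defect ≥ r, and suppose a Sylow 2-subgroup of G contains an elementary abelian subgroup of order 2^(r+1). Then the order of G is at most N. -/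
theorem result (a : ℕ) : ∃ N : ℕ, ∀ (G : Type u) [Group G] [Finite G] (M : Ideal Cfsg.AlgInt) (r : ℕ) (P : Sylow 2 G), Cfsg.IsPModular 2 M → Nat.card P = 2 ^ a → (∀ B : Set (Cfsg.IrrCharacter G), Cfsg.IsPBlock M B → B ≠ Cfsg.principalBlock M G → Cfsg.blockDefect 2 B < r) → (∃ E : Subgroup G, E ≤ (P : Subgroup G) ∧ IsMulCommutative E ∧ (∀ x ∈ E, x * x = 1) ∧ Nat.card E = 2 ^ (r + 1)) → Nat.card G ≤ N := by
  classical
  let N : ℕ → ℕ := fun r => Classical.choose (bound.{u} r a)
  refine ⟨∑ r ∈ Finset.range (a + 1), N r, fun G _ _ M r P hM hP hdef ⟨E, _, hEc, hE2, hEcard⟩ => ?_⟩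
  haveI : Fact (Nat.Prime 2) := ⟨Nat.prime_two⟩
  have ha : (Nat.card G).factorization 2 = a := by
    have h := P.card_eq_multiplicity
    rw [hP] at h
    exact (Nat.pow_right_injective (le_refl 2) h).symm
  have hr : r < a + 1 := by
    have h1 : 2 ^ (r + 1) ∣ Nat.card G := hEcard ▸ Subgroup.card_subgroup_dvd_card E
    have := (Nat.prime_two.pow_dvd_iff_le_factorization Nat.card_pos.ne').1 h1
    omega
  exact (Classical.choose_spec (bound.{u} r a) G M hM ha.le hdef ⟨E, hEc, hE2, hEcard⟩).trans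
    (Finset.single_le_sum (f := N) (fun _ _ => Nat.zero_le _) (Finset.mem_range.2 hr))

end Cfsg.Agent.S4719
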