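import Cfsg.Statements.S4720
import Mathlib
import Cfsg.Agent.BlocksChars.SectionOrth
-- import your own Cfsg.Agent.* helpers here

set_option autoImplicit false
open Cfsg

namespace Cfsg.Agent.S4720

open Cfsg.Agent.Blocks Cfsg.Agent.Characters Cfsg.Agent.BlocksChars
open scoped ComplexConjugate

open scoped Classical in
theorem sum_extend_conj {G : Type*} [Group G] [Finite G] {P N : Subgroup G} [Fintype P] [Fintype N]
    (hNN : N ≤ Subgroup.normalizer (P : Set G)) (η : P → ℂ) (u : P) :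
    ∑ x : N, conj (Cfsg.extendByZero P η ((x : G) * (u : G) * (x : G)⁻¹)) =
      ∑ v : P, conj (η v) * (if ∃ n ∈ N, n * (u : G) * n⁻¹ = (v : G) then
        (Nat.card ↥(N ⊓ Subgroup.centralizer ({(u : G)} : Set G)) : ℂ) else 0) := by
  have hmem : ∀ x : N, (x : G) * (u : G) * (x : G)⁻¹ ∈ P := fun x =>
    (Subgroup.mem_normalizer_iff.1 (hNN x.2) u).1 u.2
  have hext : ∀ x : N, Cfsg.extendByZero P η ((x : G) * (u : G) * (x : G)⁻¹) =
      η ⟨_, hmem x⟩ := fun x =>
    Subtype.val_injective.extend_apply η 0 ⟨_, hmem x⟩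
  simp only [hext]
  rw [← Finset.sum_fiberwise Finset.univ (fun x : N => (⟨_, hmem x⟩ : P))]
  refine Finset.sum_congr rfl fun v _ => ?_
  rw [Finset.sum_congr rfl (g := fun _ => conj (η v)) fun x hx => by rw [(Finset.mem_filter.1 hx).2],
    Finset.sum_const, nsmul_eq_mul, mul_comm]
  congr 1
  split_ifs with h
  · obtain ⟨n, hn, hnv⟩ := h
    norm_cast
    rw [← Fintype.card_subtype, ← Nat.card_eq_fintype_card]
    refine Nat.card_congr
      { toFun := fun x => ⟨n⁻¹ * (x.1 : G), N.mul_mem (N.inv_mem hn) x.1.2, ?_⟩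
        invFun := fun c => ⟨⟨n * (c : G), N.mul_mem hn c.2.1⟩, ?_⟩
        left_inv := fun x => by ext; simp
        right_inv := fun c => by ext; simp }
    · refine Subgroup.mem_centralizer_singleton_iff.2 ?_
      have e : (x.1 : G) * u * (x.1 : G)⁻¹ = n * u * n⁻¹ := by
        rw [hnv]; exact congrArg Subtype.val x.2
      calc n⁻¹ * (x.1 : G) * u = n⁻¹ * ((x.1 : G) * u * (x.1 : G)⁻¹) * (x.1 : G) := by group
        _ = n⁻¹ * (n * u * n⁻¹) * (x.1 : G) := by rw [e]
        _ = u * (n⁻¹ * (x.1 : G)) := by group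
    · refine Subtype.ext ?_
      show n * (c : G) * u * (n * (c : G))⁻¹ = v
      have := Subgroup.mem_centralizer_singleton_iff.1 c.2.2
      rw [← hnv, mul_assoc n, this]
      group
  · rw [Finset.card_eq_zero.2, Nat.cast_zero]
    refine Finset.eq_empty_of_forall_notMem fun y hy => h ⟨(y : G), SetLike.coe_mem y, ?_⟩
    exact congrArg Subtype.val (Finset.mem_filter.1 hy).2

/-- Let p be a prime, M a maximal ideal of the algebraic integers containing p, P a p-subgroup of the finite group G, N a subgroup with P ≤ N ≤ N_G(P), and U a nonempty subset of P normalized by N such that an element of U and an element of P that are conjugate in G are already conjugate in N, and such that λ(C_G(y)) = w·#C_N(y) for every y ∈ U with one rational number w, where λ(X) denotes the sum of the squares of the degrees of the irreducible characters in the principal p-block of X. For a complex function θ on P and χ in the principal block of G put a_χ(θ)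 = #P⁻¹ Σ_{y ∈ P} χ(y) θ(y⁻¹). Then for generalized characters θ, η of P with θ vanishing outside U, Σ_χ a_χ(θ)·conj(a_χ(η)) = (w/#P²)·Σ_{y ∈ P} θ(y)·conj(Σ_{x ∈ N} η(x y x⁻¹)) (η extended by zero off P; the conjugates lie in P), the first sum over the principal p-block of G. -/
theorem result {G : Type*} [Group G] [Finite G] (p : ℕ) [Fact p.Prime] (M : Ideal Cfsg.AlgInt) (hM : Cfsg.IsPModular p M) (P : Subgroup G) (hP : IsPGroup p P) (N : Subgroup G) (hPN : P ≤ N) (hNN : N ≤ Subgroup.normalizer (P : Set G)) (U : Set G) (hUne : U.Nonempty) (hUP : U ⊆ (P : Set G)) (hUN : ∀ n ∈ N, ∀ u ∈ U, n * u * n⁻¹ ∈ U) (hfus : ∀ u ∈ U, ∀ g : G, g * u * g⁻¹ ∈ (P : Set G) → ∃ n ∈ N, n * u * n⁻¹ = g * u * g⁻¹) (w : ℚ) (hw : ∀ y ∈ U, ((∑ᶠ ψ ∈ Cfsg.principalBlock M ↥(Subgroup.centralizer ({y} : Set G)), Cfsg.charDegree (ψ : ↥(Subgroup.centralizer ({y} : Set G)) → ℂ) ^ 2) : ℚ) = w * Nat.card ↥(N ⊓ Subgroup.centralizer ({y} : Set G))) (θ η : ↥P → ℂ) (hθ : Cfsg.IsGeneralizedCharacter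 ↥P θ) (hη : Cfsg.IsGeneralizedCharacter ↥P η) (hθU : ∀ y : ↥P, (y : G) ∉ U → θ y = 0) : ∑ᶠ χ ∈ Cfsg.principalBlock M G, ((Nat.card ↥P : ℂ)⁻¹ * ∑ᶠ y : ↥P, (χ : G → ℂ) (y : G) * θ y⁻¹) * (starRingEnd ℂ) ((Nat.card ↥P : ℂ)⁻¹ * ∑ᶠ y : ↥P, (χ : G → ℂ) (y : G) * η y⁻¹) = ((w : ℂ) / ((Nat.card ↥P : ℂ) ^ 2)) * ∑ᶠ y : ↥P, θ y * (starRingEnd ℂ) (∑ᶠ x : ↥N, Cfsg.extendByZero P η ((x : G) * (y : G) * (x : G)⁻¹)) := by
  classical
  haveI := Fintype.ofFinite G
  haveI : Fintype P := Fintype.ofFinite P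
  haveI : Fintype N := Fintype.ofFinite N
  haveI := Fintype.ofFinite (Cfsg.IrrCharacter G)
  set B := Cfsg.principalBlock M G with hBdef
  have hBb : Cfsg.IsPBlock M B := isPBlock_principal M G
  have hord := fun y : P => SectionOrth.exists_orderOf_eq hP y
  have hcoef : ∀ (φ : P → ℂ), Cfsg.IsGeneralizedCharacter P φ → ∀ χ : Cfsg.IrrCharacter G,
      (Nat.card P : ℂ)⁻¹ * ∑ᶠ y : P, (χ : G → ℂ) (y : G) * φ y⁻¹ =
        (Nat.card P : ℂ)⁻¹ * ∑ y : P, conj ((χ : G → ℂ) (y : G)) * φ y := by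
    intro φ hφ χ
    rw [finsum_eq_sum_of_fintype, ← Equiv.sum_comp (Equiv.inv P)]
    congr 1
    refine Finset.sum_congr rfl fun y _ => ?_
    simp only [Equiv.inv_apply, inv_inv, Subgroup.coe_inv, char_inv (irr_isCharacter χ)]
  simp only [hcoef θ hθ, hcoef η hη]
  rw [finsum_mem_def, finsum_eq_sum_of_fintype, finsum_eq_sum_of_fintype]
  simp only [Set.indicator_apply, finsum_eq_sum_of_fintype, map_sum, map_mul, map_inv₀, map_natCast,
    Complex.conj_conj]
  set S : P → P → ℂ := fun v u =>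
    ∑ χ : Cfsg.IrrCharacter G, if χ ∈ B then (χ : G → ℂ) v * conj ((χ : G → ℂ) u) else 0 with hS
  have hL : (∑ χ : Cfsg.IrrCharacter G, if χ ∈ B then
      (Nat.card P : ℂ)⁻¹ * (∑ y : P, conj ((χ : G → ℂ) y) * θ y) *
        ((Nat.card P : ℂ)⁻¹ * ∑ y : P, (χ : G → ℂ) y * conj (η y)) else 0) =
      (Nat.card P : ℂ)⁻¹ * (Nat.card P : ℂ)⁻¹ *
        ∑ u : P, θ u * ∑ v : P, conj (η v) * S v u := by
    simp only [hS, Finset.mul_sum]
    conv_rhs => arg 2; ext u; rw [Finset.sum_comm]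
    rw [Finset.sum_comm (γ := P) (α := Cfsg.IrrCharacter G)]
    refine Finset.sum_congr rfl fun χ _ => ?_
    by_cases h : χ ∈ B
    · simp only [if_pos h, Finset.mul_sum, Finset.sum_mul]
      refine Finset.sum_comm.trans ?_
      refine Finset.sum_congr rfl fun u _ => Finset.sum_congr rfl fun v _ => ?_
      ring
    · simp [if_neg h]
  rw [hL, show (Nat.card P : ℂ)⁻¹ * (Nat.card P : ℂ)⁻¹ = ((Nat.card P : ℂ) ^ 2)⁻¹ by ring,
    div_eq_mul_inv, mul_comm (w : ℂ), mul_assoc, Finset.mul_sum _ _ (w : ℂ)]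
  congr 1
  refine Finset.sum_congr rfl fun u _ => ?_
  by_cases hu : (u : G) ∈ U
  swap
  · simp [hθU u hu]
  rw [mul_left_comm]
  congr 1
  rw [sum_extend_conj hNN η u, Finset.mul_sum]
  refine Finset.sum_congr rfl fun v _ => ?_
  rw [mul_left_comm (w : ℂ)]
  congr 1
  simp only [S]
  have hfin : (∑ χ : Cfsg.IrrCharacter G,
      if χ ∈ B then (χ : G → ℂ) v * conj ((χ : G → ℂ) u) else 0) =
      ∑ᶠ χ ∈ B, (χ : G → ℂ) v * conj ((χ : G → ℂ) u) := by
    rw [finsum_mem_def, finsum_eq_sum_of_fintype]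
    simp only [Set.indicator_apply]
  rw [hfin]
  split_ifs with h
  · obtain ⟨n, hn, hnv⟩ := h
    have hχ : ∀ χ : Cfsg.IrrCharacter G, (χ : G → ℂ) v = (χ : G → ℂ) u := fun χ => by
      rw [← hnv, irr_isClassFunction χ]
    simp only [hχ]
    rw [SectionOrth.norm_principal_pElement hM (hord u)]
    have h1 := congrArg (fun q : ℚ => (q : ℂ)) (hw u hu)
    haveI := Fintype.ofFinite
      (Cfsg.IrrCharacter (Subgroup.centralizer ({(u : G)} : Set G)))
    rw [finsum_mem_def, finsum_eq_sum_of_fintype] at h1 ⊢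
    simp only [Set.indicator_apply, Rat.cast_mul, Rat.cast_natCast, Rat.cast_sum,
      apply_ite (fun q : ℚ => (q : ℂ)), Rat.cast_pow, Rat.cast_zero] at h1
    simp only [Set.indicator_apply, Nat.cast_sum, Nat.cast_ite, Nat.cast_pow, Nat.cast_zero]
    exact h1
  · rw [mul_zero]
    refine SectionOrth.sum_pElement_eq_zero hM hBb (hord v) (hord u) fun hc => h ?_
    obtain ⟨g, hg⟩ := isConj_iff.1 hc.symm
    obtain ⟨n, hn, hne⟩ := hfus u hu g (by rw [hg]; exact v.2)
    exact ⟨n, hn, hne.trans hg⟩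

end Cfsg.Agent.S4720
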