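import Cfsg.Statements.S4723
import Cfsg.Agent.Lib.Blocks.OrbitHeightZero

set_option autoImplicit false
open Cfsg

namespace Cfsg.Agent.S4723
open Cfsg.Agent.Blocks
/-- Let p be a prime, M a maximal ideal of the algebraic integers containing p, H a normal subgroup of the finite group G and b a p-block of H. Let T be the stabilizer of b in G. Then b contains a character θ of height zero whose own stabilizer in G (the elements g with θ(g h g⁻¹) = θ(h) for all h ∈ H) has index prime to p in T, i.e. contains a Sylow p-subgroup of T. -/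
theorem result {G : Type*} [Group G] [Finite G] (p : ℕ) [Fact p.Prime] (M : Ideal Cfsg.AlgInt) (hM : Cfsg.IsPModular p M) (H : Subgroup G) [H.Normal] (b : Set (Cfsg.IrrCharacter ↥H)) (hb : Cfsg.IsPBlock M b) (T : Subgroup G) (hT : (∀ g : G, g ∈ T ↔ ∀ θ ∈ b, ∀ θ' : Cfsg.IrrCharacter ↥H, (∀ h h' : ↥H, (h' : G) = g * h * g⁻¹ → (θ' : ↥H → ℂ) h' = (θ : ↥H → ℂ) h) → θ' ∈ b)) : ∃ θ ∈ b, Cfsg.blockHeight p b (θ : ↥H → ℂ) = 0 ∧ ∃ S : Subgroup G, S ≤ T ∧ (∀ g : G, g ∈ S ↔ (g ∈ T ∧ ∀ h h' : ↥H, (h' : G) = g * h * g⁻¹ → (θ : ↥H → ℂ) h' = (θ : ↥H → ℂ) h)) ∧ ¬ p ∣ S.relIndex T := by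
  have hconj : ∀ g ∈ T, ∀ θ ∈ b, conjIrr g θ ∈ b := fun g hg θ hθ =>
    (hT g⁻¹).1 (T.inv_mem hg) θ hθ _ fun h h' hh => by
      show (θ : ↥H → ℂ) _ = (θ : ↥H → ℂ) h
      exact congrArg _ (Subtype.ext (by simp [hh, mul_assoc]))
  obtain ⟨θ, hθ, h0, S, hST, hS, hidx⟩ :=
    OrbitHeightZero.exists_orbit_prime hM hb hconj
  refine ⟨θ, hθ, h0, S, hST, fun g => (hS g).trans (and_congr_right fun _ => ?_), hidx⟩
  refine ⟨fun h x y hxy => ?_, fun h => Subtype.ext (funext fun x => h x _ (by simp))⟩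
  conv_rhs => rw [← h]
  show (θ : ↥H → ℂ) y = (θ : ↥H → ℂ) _
  exact congrArg _ (Subtype.ext (by simp [hxy]))

end Cfsg.Agent.S4723
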