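import Cfsg.Statements.S4726
import Cfsg.Agent.Lib.Blocks.InducedDefined

set_option autoImplicit false
open Cfsg

namespace Cfsg.Agent.S4726
open Cfsg.Agent.Blocks
/-- Let p be a prime, M a maximal ideal of the algebraic integers containing p, H a subgroup of the finite group G and b a p-block of H with defect group D₀ such that C_G(D₀) ≤ H. Then b induces a block of G, and for every block B of G induced by b there is a defect group D of B with Z(D) ≤ Z(D₀) ≤ D₀ ≤ D (as subgroups of G). In particular, if the defect groups of B are abelian then D₀ is a defect group of B. -/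
theorem result {G : Type*} [Group G] [Finite G] (p : ℕ) [Fact p.Prime] (M : Ideal Cfsg.AlgInt) (hM : Cfsg.IsPModular p M) (H : Subgroup G) (b : Set (Cfsg.IrrCharacter ↥H)) (hb : Cfsg.IsPBlock M b) (D₀ : Subgroup ↥H) (hD₀ : Cfsg.IsDefectGroup p M b D₀) (hC : Subgroup.centralizer ((D₀.map H.subtype : Subgroup G) : Set G) ≤ H) : Cfsg.InducedBlockDefined M H b ∧ ∀ B : Set (Cfsg.IrrCharacter G), Cfsg.IsInducedBlock M H b B → (∃ D : Subgroup G, Cfsg.IsDefectGroup p M B D ∧ (Subgroup.center ↥D).map D.subtype ≤ ((Subgroup.center ↥D₀).map D₀.subtype).map H.subtype ∧ ((Subgroup.center ↥D₀).map D₀.subtype).map H.subtype ≤ D₀.map H.subtype ∧ D₀.map H.subtype ≤ D) ∧ (∀ D : Subgroup G, Cfsg.IsDefectGroup p M B D → IsMulCommutative ↥D → Cfsg.IsDefectGroup p M B (D₀.map H.subtype)) := by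
  refine ⟨InducedDefined.defined hM hb hD₀ hC, fun B hind => ?_⟩
  obtain ⟨D, hD, hle, hcen⟩ :=
    InducedDefined.exists_defect_center_le hM (Nat.card G) (Nat.sub_le _ _) hind hD₀ hC
  refine ⟨⟨D, hD, ?_, Subgroup.map_mono (Subgroup.map_subtype_le _), hle⟩, fun D' hD' hcomm => ?_⟩
  · rintro _ ⟨z, hz, rfl⟩
    have hzc : ∀ w ∈ D, (z : G) * w = w * z := fun w hw =>
      (congrArg Subtype.val (Subgroup.mem_center_iff.1 hz ⟨w, hw⟩)).symm
    obtain ⟨d, hd, hdz⟩ := hcen z z.2 hzc
    refine ⟨d, ⟨⟨d, hd⟩, Subgroup.mem_center_iff.2 fun w => ?_, rfl⟩, hdz⟩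
    refine Subtype.ext (Subtype.ext ?_)
    have := hzc _ (hle ⟨(w : H), w.2, rfl⟩)
    rw [← hdz] at this
    exact this.symm
  · obtain ⟨x, rfl⟩ := exists_defectGroup_conj_eq hM hind.2.1 hD' hD
    have : D₀.map H.subtype = D'.map (MulAut.conj x).toMonoidHom := by
      refine le_antisymm hle fun z hz => hcen z hz ?_
      obtain ⟨a, ha, rfl⟩ := hz
      rintro _ ⟨b', hb', rfl⟩
      rw [← map_mul, ← map_mul]
      exact congrArg _ (congrArg Subtype.val (hcomm.is_comm.comm ⟨a, ha⟩ ⟨b', hb'⟩))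
    rw [this]
    exact hD

end Cfsg.Agent.S4726
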