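import Cfsg.Statements.S4727
import Mathlib
import Cfsg.Agent.BlocksChars.PiKernel
import Cfsg.Agent.Lib.Blocks.SecondMain
import Cfsg.Agent.BlockCharsA.LocalBlock
-- import your own Cfsg.Agent.* helpers here

set_option autoImplicit false
open Cfsg

namespace Cfsg.Agent.S4727

open Cfsg.Agent.Blocks Cfsg.Agent.Characters Cfsg.Agent.BlocksChars.PiKernel

/-- A class function is the sum of its block parts. -/
theorem sum_blockPart {G : Type*} [Group G] [Finite G] {p : ℕ} {M : Ideal Cfsg.AlgInt}
    (hM : Cfsg.IsPModular p M) [Fintype {b : Set (Cfsg.IrrCharacter G) // Cfsg.IsPBlock M b}]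
    {θ : G → ℂ} (hθ : Cfsg.IsClassFunction G θ) (g : G) :
    θ g = ∑ b : {b : Set (Cfsg.IrrCharacter G) // Cfsg.IsPBlock M b}, Cfsg.blockPart b.1 θ g := by
  classical
  letI := Fintype.ofFinite G
  haveI := Fintype.ofFinite (Cfsg.IrrCharacter G)
  conv_lhs => rw [classFun_eq_sum hθ]
  simp only [Finset.sum_apply, Pi.smul_apply, smul_eq_mul, Cfsg.blockPart,
    finsum_eq_sum_of_fintype]
  rw [Finset.sum_comm]
  refine Finset.sum_congr rfl fun χ _ => ?_
  rw [Finset.sum_eq_single (⟨_, isPBlock_blockOf M χ⟩ :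
    {b : Set (Cfsg.IrrCharacter G) // Cfsg.IsPBlock M b})]
  · rw [finsum_eq_if, if_pos (mem_blockOf_self hM χ)]
  · intro b _ hne
    rw [finsum_eq_if, if_neg fun h => hne (Subtype.ext (block_eq_blockOf hM b.2 h))]
  · simp

/-- Let p be a prime, π a set of primes containing p, M a maximal ideal of the algebraic integers containing p, and B a p-block of the finite group G with defect group D; let B₁ be the block of N_G(D) with defect group D that induces B (the Brauer correspondent of B). Suppose every element of O_π'(N_G(D)), the largest normal subgroup of N_G(D) whose order has no prime divisor in π, lies in the kernel of every member of B₁. If y is a p-element whose centralizer C has a normal Hall π'-subgroup (every element of C whose order has no prime divisor in π lies in O_π'(C)), then χ(y x) = χ(y) for every χ ∈ B and every x ∈ C whose order has no prime divisor in π. -/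
theorem result {G : Type*} [Group G] [Finite G] (p : ℕ) [Fact p.Prime] (M : Ideal Cfsg.AlgInt) (hM : Cfsg.IsPModular p M) (π : Set ℕ) (hpπ : p ∈ π) (B : Set (Cfsg.IrrCharacter G)) (hB : Cfsg.IsPBlock M B) (D : Subgroup G) (hBD : Cfsg.IsDefectGroup p M B D) (B₁ : Set (Cfsg.IrrCharacter ↥(Subgroup.normalizer (D : Set G)))) (hB₁ : Cfsg.IsInducedBlock M (Subgroup.normalizer (D : Set G)) B₁ B) (hB₁D : Cfsg.IsDefectGroup p M B₁ (D.subgroupOf (Subgroup.normalizer (D : Set G)))) (hker : ∀ n : ↥(Subgroup.normalizer (D : Set G)), n ∈ Cfsg.piCore {q | q ∉ π} ↥(Subgroup.normalizer (D : Set G)) → n ∈ Cfsg.blockKer B₁) (y : G) (hy : ∃ k : ℕ, orderOf y = p ^ k) (hC : ∀ x : ↥(Subgroup.centralizer ({y} : Set G)), (∀ q : ℕ, q.Prime → q ∣ orderOf x → q ∉ π) → x ∈ Cfsg.piCore {q | q ∉ π} ↥(Subgroup.centralizer ({y} : Set G))) : ∀ χ ∈ B, ∀ x : G, x ∈ Subgroup.centralizer ({y} : Set G) → (∀ q : ℕ, q.Prime → q ∣ orderOf x → q ∉ π) → (χ : G → ℂ) (y * x) = (χ : G → ℂ) y := by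
  classical
  intro χ hχ x hx hq
  obtain ⟨a, e, ha, hm, hmax⟩ := exists_correspondent_pair hM hBD hB₁ hB₁D
  have hgood := (ker_correspondent_iff hM hpπ ha hm).1 hker
  set C := Subgroup.centralizer ({y} : Set G) with hCdef
  have hyc : ∀ c : C, y * (c : G) = c * y := fun c => Subgroup.mem_centralizer_iff.1 c.2 y rfl
  have hyC : y ∈ C := Subgroup.mem_centralizer_singleton_iff.2 rfl
  set θ : C → ℂ := fun c => (χ : G → ℂ) (y * (c : G)) with hθdef
  have hθ : Cfsg.IsClassFunction C θ := by
    intro g k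
    simp only [hθdef, Subgroup.coe_mul, Subgroup.coe_inv]
    rw [show y * ((k : G) * g * (k : G)⁻¹) = (k : G) * (y * g) * (k : G)⁻¹ by
      rw [← mul_assoc, ← mul_assoc, hyc k]; group]
    exact irr_isClassFunction χ _ _
  haveI := Fintype.ofFinite {b : Set (Cfsg.IrrCharacter C) // Cfsg.IsPBlock M b}
  let xc : C := ⟨x, hx⟩
  have hreg : ¬ p ∣ orderOf xc := fun hd => by
    rw [Subgroup.orderOf_mk] at hd; exact hq p Fact.out hd hpπ
  have hxK : xc ∈ Cfsg.piCore {q | q ∉ π} C :=
    hC xc fun q hq1 hq2 => hq q hq1 (by rwa [Subgroup.orderOf_mk] at hq2)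
  have key : θ xc = θ 1 := by
    rw [sum_blockPart hM hθ, sum_blockPart hM hθ]
    refine Finset.sum_congr rfl fun b _ => ?_
    by_cases hind : Cfsg.IsInducedBlock M C b.1 B
    · have hyA : Subgroup.zpowers y ≤ C := Subgroup.zpowers_le.2 hyC
      haveI : ((Subgroup.zpowers y).subgroupOf C).Normal :=
        Subgroup.normal_subgroupOf_of_le_normalizer
          ((Cfsg.Agent.BlockCharsA.LocalBlock.centralizer_eq_zpowers y).le.trans
            (Subgroup.centralizer_le_normalizer _))
      obtain ⟨a₀, ha₀⟩ := exists_pair_normal hM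
        (isPGroup_subgroupOf (zpowers_isPGroup hy) hyA) b.2
      have hker' := piCore_le_ker hM hpπ hmax hgood hind ha₀
        (by rw [map_subgroupOf_eq hyA]
            exact (Cfsg.Agent.BlockCharsA.LocalBlock.centralizer_eq_zpowers y).ge) xc hxK
      simp only [Cfsg.blockPart]
      exact finsum_mem_congr rfl fun ψ hψ => by rw [hker' ψ hψ]
    · rw [blockPart_eq_zero_of_not_induced hM hy hB hχ b.2 hind hreg,
        blockPart_eq_zero_of_not_induced hM hy hB hχ b.2 hind (y := 1)
          (by rw [orderOf_one]; exact Nat.Prime.not_dvd_one Fact.out)]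
  simpa [hθdef, xc] using key

end Cfsg.Agent.S4727
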