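import Cfsg.Statements.S4728
import Mathlib
import Cfsg.Agent.BlocksChars.PiKernel
-- import your own Cfsg.Agent.* helpers here

set_option autoImplicit false
open Cfsg

namespace Cfsg.Agent.S4728

open Cfsg.Agent.Blocks Cfsg.Agent.BlockCharsA.BrauerPairs Cfsg.Agent.BlockCharsA.PairConj
open Cfsg.Agent.BlockCharsA.PairReceptive Cfsg.Agent.BlocksChars.PiKernel

/-- Let p be a prime, π a set of primes containing p, M a maximal ideal of the algebraic integers containing p, B a p-block of the finite group G with defect group D, and B₁ the block of N_G(D) with defect group D inducing B. Let D₀ be a p-subgroup, H₀ = D₀·C_G(D₀), and b a block of H₀ inducing B. Write O_π'(X) for the largest normal subgroup of X whose order has no prime divisor in π. Suppose that O_π'(C_G(D₀)) is a normal Hall π'-subgroup of C_G(D₀) (it contains every element of C_G(D₀) whose order has no prime divisor in π) and that every element of it lies in the kernel of every member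 of b. Then every element of O_π'(N_G(D)) lies in the kernel of every member of B₁. -/
theorem result {G : Type*} [Group G] [Finite G] (p : ℕ) [Fact p.Prime] (M : Ideal Cfsg.AlgInt) (hM : Cfsg.IsPModular p M) (π : Set ℕ) (hpπ : p ∈ π) (B : Set (Cfsg.IrrCharacter G)) (hB : Cfsg.IsPBlock M B) (D : Subgroup G) (hBD : Cfsg.IsDefectGroup p M B D) (B₁ : Set (Cfsg.IrrCharacter ↥(Subgroup.normalizer (D : Set G)))) (hB₁ : Cfsg.IsInducedBlock M (Subgroup.normalizer (D : Set G)) B₁ B) (hB₁D : Cfsg.IsDefectGroup p M B₁ (D.subgroupOf (Subgroup.normalizer (D : Set G)))) (D₀ : Subgroup G) (hD₀ : IsPGroup p D₀) (H₀ : Subgroup G) (hH₀ : H₀ = D₀ ⊔ Subgroup.centralizer (D₀ : Set G)) (b : Set (Cfsg.IrrCharacter ↥H₀)) (hb : Cfsg.IsInducedBlock M H₀ b B) (hcompl : ∀ x : ↥(Subgroup.centralizer (D₀ : Set G)), (∀ q : ℕ, q.Prime → q ∣ orderOf x → q ∉ π) → x ∈ Cfsg.piCore {q | q ∉ π} ↥(Subgroup.centralizer (D₀ : Set G))) (hkerb : ∀ x : ↥(Subgroup.centralizer (D₀ : Set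 G)), x ∈ Cfsg.piCore {q | q ∉ π} ↥(Subgroup.centralizer (D₀ : Set G)) → ∀ θ ∈ b, ∀ h : ↥H₀, (h : G) = (x : G) → (θ : ↥H₀ → ℂ) h = (θ : ↥H₀ → ℂ) 1) : ∀ n : ↥(Subgroup.normalizer (D : Set G)), n ∈ Cfsg.piCore {q | q ∉ π} ↥(Subgroup.normalizer (D : Set G)) → n ∈ Cfsg.blockKer B₁ := by
  obtain ⟨a, e, ha, hm, hmax⟩ := exists_correspondent_pair hM hBD hB₁ hB₁D
  subst hH₀
  set H₀ : Subgroup G := D₀ ⊔ Subgroup.centralizer (D₀ : Set G) with hH
  have hle : D₀ ≤ H₀ := le_sup_left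
  have hCle : Subgroup.centralizer (D₀ : Set G) ≤ H₀ := le_sup_right
  have hN : H₀ ≤ Subgroup.normalizer (D₀ : Set G) :=
    sup_le Subgroup.le_normalizer (centralizer_le_normalizer' D₀)
  haveI : (D₀.subgroupOf H₀).Normal := Subgroup.normal_subgroupOf_of_le_normalizer hN
  obtain ⟨a₀, ha₀⟩ := exists_pair_normal hM (isPGroup_subgroupOf hD₀ hle) hb.1
  have hmap : (D₀.subgroupOf H₀).map H₀.subtype = D₀ := map_subgroupOf_eq hle
  obtain ⟨g, hg, hm₀⟩ := exists_up hM ⟨_, a₀⟩ ha₀.1 (by simp only; rw [hmap]; exact hCle)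
  simp only at hg hm₀
  revert g
  rw [hmap]
  intro g hg hm₀
  -- the kernel condition at the pair on `D₀`
  haveI : ((pk π D₀).subgroupOf H₀).Normal :=
    Subgroup.normal_subgroupOf_of_le_normalizer (hN.trans (normalizer_le_pk π D₀))
  have hgood₀ : Good π (⟨D₀, g⟩ : Cfsg.BrauerPairIdx G) := by
    have hp : ¬ p ∣ Nat.card ((pk π D₀).subgroupOf H₀) := by
      rw [Nat.card_congr (Subgroup.subgroupOfEquivOfLe ((pk_le π D₀).trans hCle)).toEquiv]
      exact not_dvd_of_isPi hM hpπ (pk_isPi π D₀)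
    have h1 := (ker_match_iff hM hm₀ ((pk π D₀).subgroupOf H₀)).1
      ((ker_block_iff hM ha₀ _ hp).1 fun h hh θ hθ => by
        obtain ⟨x, hx, hxh⟩ := Subgroup.mem_subgroupOf.1 hh
        exact hkerb x hx θ hθ h hxh.symm)
    rwa [map_subgroupOf_eq ((pk_le π D₀).trans hCle)] at h1
  have hHall : Hall π D₀ := fun c hc hq => by
    have := hcompl ⟨c, hc⟩ (fun q hq1 hq2 => hq q hq1 (by rwa [Subgroup.orderOf_mk] at hq2))
    exact ⟨⟨c, hc⟩, this, rfl⟩
  obtain ⟨x, hx⟩ := exists_conj_le hM hmax (pairOf_induced hM hb hm₀ hg ha₀)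
  refine (ker_correspondent_iff hM hpπ ha hm).2
    (good_up hM hpπ hx ?_ (good_conj x (a := (⟨D₀, g⟩ : Cfsg.BrauerPairIdx G)) hgood₀)).1
  intro c hc hq
  have hc' : x⁻¹ * c * x ∈ Subgroup.centralizer (D₀ : Set G) := by
    have hc2 : c ∈ Subgroup.centralizer (cj D₀ x : Set G) := hc
    rw [← Cfsg.Agent.BlockCharsA.PairLocal.cj_centralizer] at hc2
    obtain ⟨d, hd, rfl⟩ := hc2
    simpa [mul_assoc] using hd
  have h1 := hHall _ hc' fun q hq1 hq2 => hq q hq1 (by
    have he : orderOf (x⁻¹ * c * x) = orderOf c := by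
      rw [← (MulAut.conj x⁻¹).orderOf_eq c]; simp
    rwa [he] at hq2)
  have hle' : (pk π D₀).map (MulAut.conj x).toMonoidHom ≤ pk π (cj D₀ x) := by
    refine le_pk ?_ ?_ ?_
    · rw [← Cfsg.Agent.BlockCharsA.PairLocal.cj_centralizer]
      exact Subgroup.map_mono (pk_le π D₀)
    · refine Subgroup.le_normalizer_iff.2 fun u hu y hy => ?_
      obtain ⟨d, hd, rfl⟩ := hy
      rw [← Cfsg.Agent.BlockCharsA.PairLocal.cj_centralizer] at hu
      obtain ⟨v, hv, rfl⟩ := hu
      exact ⟨_, (Subgroup.mem_normalizer_iff.1 (centralizer_le_pk π D₀ hv) d).1 hd, by simp [mul_assoc]⟩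
    · intro q hq hd
      rw [Subgroup.card_map_of_injective (MulAut.conj x).injective] at hd
      exact pk_isPi π D₀ q hq hd
  exact hle' ⟨_, h1, by simp [mul_assoc]⟩

end Cfsg.Agent.S4728
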