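import Cfsg.Statements.S4729
import Mathlib
import Cfsg.Agent.Lib.Blocks.Block
import Cfsg.Agent.Lib.Blocks.Defect
import Cfsg.Agent.BlocksChars.Degrees
-- import your own Cfsg.Agent.* helpers here

set_option autoImplicit false
open Cfsg

namespace Cfsg.Agent.S4729

open Cfsg.Agent.Characters Cfsg.Agent.Blocks in
/-- The values on `C(P)` are congruent to the degree. -/
theorem value_cong {G : Type*} [Group G] [Finite G] (p : ℕ) [Fact p.Prime]
    (M : Ideal Cfsg.AlgInt) (hM : Cfsg.IsPModular p M) (P : Sylow p G) (χ : Cfsg.IrrCharacter G)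
    (hχ : χ ∈ Cfsg.principalBlock M G) {z : G}
    (hz : z ∈ Subgroup.centralizer ((P : Subgroup G) : Set G)) :
    Cong M ((χ : G → ℂ) z) ((χ : G → ℂ) 1) := by
  have hle : (P : Subgroup G) ≤ Subgroup.centralizer ({z} : Set G) := fun x hx =>
    Subgroup.mem_centralizer_singleton_iff.2 (Subgroup.mem_centralizer_iff.1 hz x hx)
  have hidx : ¬ p ∣ (Subgroup.centralizer ({z} : Set G)).index := fun hd =>
    P.not_dvd_index (hd.trans (Subgroup.index_dvd_of_le hle))
  have h1 : (χ : G → ℂ) 1 ≠ 0 := irr_one_ne_zero χ.2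
  have h : Cfsg.SameBlock M (fun _ : G => (1 : ℂ)) (χ : G → ℂ) := hχ
  have hc := h z
  simp only [Cfsg.centralChar, mul_one, div_one] at hc
  have hi0 : ((Subgroup.centralizer ({z} : Set G)).index : ℂ) ≠ 0 :=
    Nat.cast_ne_zero.2 Subgroup.index_ne_zero_of_finite
  have hd : Cfsg.MemLocalRing M ((χ : G → ℂ) 1) :=
    ring_of_isIntegral hM (char_value_isIntegral (irr_isCharacter χ) 1)
  have h2 := ideal_mul_left hM (ring_mul hM hd (ring_inv_natCast hM hidx)) (ideal_neg hM hc)
  show Cfsg.MemLocalIdeal M _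
  have he : (χ : G → ℂ) z - (χ : G → ℂ) 1 = (χ : G → ℂ) 1 *
      ((Subgroup.centralizer ({z} : Set G)).index : ℂ)⁻¹ *
      -(((Subgroup.centralizer ({z} : Set G)).index : ℂ) -
        ((Subgroup.centralizer ({z} : Set G)).index : ℂ) * (χ : G → ℂ) z / (χ : G → ℂ) 1) := by
    field_simp
    ring
  rw [he]
  exact h2

open Cfsg.Agent.Characters Cfsg.Agent.Blocks in
/-- An element of prime order `q ≠ p` of `C(P)` is trivial. -/
theorem no_q_element {G : Type*} [Group G] [Finite G] (p : ℕ) [Fact p.Prime]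
    (M : Ideal Cfsg.AlgInt) (hM : Cfsg.IsPModular p M) (hperf : commutator G = ⊤) (P : Sylow p G)
    (χ : Cfsg.IrrCharacter G) (hχ : χ ∈ Cfsg.principalBlock M G)
    (hfaith : ∀ g : G, (χ : G → ℂ) g = (χ : G → ℂ) 1 → g = 1)
    (hdeg : Cfsg.charDegree (χ : G → ℂ) < 2 * p) {v : G} {q : ℕ} (hq : q.Prime) (hqp : q ≠ p)
    (hv : orderOf v = q) (hvC : v ∈ Subgroup.centralizer ((P : Subgroup G) : Set G)) : False := by
  classical
  have hp : p.Prime := Fact.out
  obtain ⟨m, ρ, hρ, hchar⟩ := χ.2
  obtain ⟨b, w, hw, hb⟩ := exists_eigenbasis ρ v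
  rw [hv] at hw
  have htr : ∀ k : ℕ, (χ : G → ℂ) (v ^ k) = ∑ i, w i ^ k := fun k => by
    rw [← hchar]
    exact trace_of_eigenbasis b _ (apply_pow_eigenbasis ρ b w hb k)
  have hd : (χ : G → ℂ) 1 = (Module.finrank ℂ (Fin m → ℂ) : ℂ) := by rw [← hchar, ρ.char_one]
  have hdlt : Module.finrank ℂ (Fin m → ℂ) < 2 * p := by
    rwa [Cfsg.charDegree, hd, Complex.natCast_re, Nat.floor_natCast] at hdeg
  -- the multiplicity of a non-trivial eigenvalue is a multiple of `p`
  have hmult : ∀ i₀, w i₀ ≠ 1 →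
      p ∣ (Finset.univ.filter fun i => w i = w i₀).card := by
    intro i₀ hi₀
    set ζ := w i₀ with hζ
    have hζ0 : ζ ≠ 0 := fun e => by
      have := hw i₀
      rw [← hζ, e, zero_pow hq.ne_zero] at this
      exact zero_ne_one this
    set a := (Finset.univ.filter fun i => w i = ζ).card with ha
    have h1 : ∑ j ∈ Finset.range q, (χ : G → ℂ) (v ^ j) * ζ⁻¹ ^ j = (q : ℂ) * (a : ℂ) := by
      simp only [htr, Finset.sum_mul, ← mul_pow]
      rw [Finset.sum_comm, ha, mul_comm, ← nsmul_eq_mul, ← Finset.sum_const, Finset.sum_filter]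
      refine Finset.sum_congr rfl fun i _ => ?_
      by_cases hi : w i = ζ
      · rw [if_pos hi, hi]
        simp [mul_inv_cancel₀ hζ0]
      · rw [if_neg hi, geom_sum_eq (fun e => hi (by
          rw [← mul_one ζ, ← e, mul_left_comm, mul_inv_cancel₀ hζ0, mul_one]))]
        rw [mul_pow, hw i, inv_pow, hw i₀]
        simp
    have h2 : Cong M ((q : ℂ) * (a : ℂ)) 0 := by
      rw [← h1]
      refine cong_trans hM (cong_sum hM
        (g := fun j => (χ : G → ℂ) 1 * ζ⁻¹ ^ j) fun j _ => ?_) (cong_of_eq hM ?_)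
      · refine cong_mul hM (value_cong p M hM P χ hχ (Subgroup.pow_mem _ hvC j))
          (cong_refl hM _) (ring_of_isIntegral hM (char_value_isIntegral (irr_isCharacter χ) 1))
          (ring_pow hM (ring_of_pow_eq_one hM hq.ne_zero ?_) _)
        rw [inv_pow, hw i₀, inv_one]
      · rw [← Finset.mul_sum, geom_sum_eq (fun e => hi₀ (inv_eq_one.1 e)), inv_pow, hw i₀]
        simp
    rw [cong_zero_iff, ← Nat.cast_mul, ideal_natCast_iff hM] at h2
    rcases hp.dvd_mul.1 h2 with e | e
    · exact absurd ((Nat.prime_dvd_prime_iff_eq hp hq).1 e).symm hqp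
    · exact e
  -- at most one non-trivial eigenvalue
  obtain ⟨i₀, hi₀⟩ : ∃ i, w i ≠ 1 := by
    by_contra hall
    push Not at hall
    have h := htr 1
    rw [pow_one, Finset.sum_congr rfl (fun i _ => by rw [hall i, one_pow]), Finset.sum_const,
      Finset.card_univ, Fintype.card_fin, nsmul_eq_mul, mul_one, ← hd] at h
    rw [hfaith v h, orderOf_one] at hv
    exact hq.one_lt.ne hv
  set A := Finset.univ.filter fun i => w i = w i₀ with hA
  have hAge : p ≤ A.card :=
    Nat.le_of_dvd (Finset.card_pos.2 ⟨i₀, by simp [hA]⟩) (hmult i₀ hi₀)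
  have hother : ∀ i, w i = 1 ∨ w i = w i₀ := by
    intro i
    by_contra hne
    push Not at hne
    set B := Finset.univ.filter fun j => w j = w i with hB
    have hBge : p ≤ B.card :=
      Nat.le_of_dvd (Finset.card_pos.2 ⟨i, by simp [hB]⟩) (hmult i hne.1)
    have hdisj : Disjoint A B := Finset.disjoint_left.2 fun j ha hb => hne.2 (by
      simp [hA, hB] at ha hb
      rw [← hb, ha])
    have := Finset.card_le_univ (A ∪ B)
    rw [Finset.card_union_of_disjoint hdisj, Fintype.card_fin] at this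
    omega
  have hAeq : A.card = p := by
    obtain ⟨k, hk⟩ := hmult i₀ hi₀
    rw [← hA] at hk
    have := Finset.card_le_univ A
    rw [Fintype.card_fin] at this
    have hk1 : k = 1 := by
      rcases k with _ | _ | k
      · omega
      · rfl
      · nlinarith
    rw [hk, hk1, mul_one]
  -- the determinant
  have hdet : LinearMap.det (ρ v) = 1 := by
    let f : G →* ℂ := LinearMap.det.comp ρ
    have hv' : v ∈ f.toHomUnits.ker := by
      refine Abelianization.commutator_subset_ker f.toHomUnits ?_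
      rw [hperf]
      exact Subgroup.mem_top v
    exact congrArg Units.val (MonoidHom.mem_ker.1 hv')
  have hprod : LinearMap.det (ρ v) = ∏ i, w i := by
    rw [← LinearMap.det_toMatrix b, show LinearMap.toMatrix b b (ρ v) = Matrix.diagonal w from ?_,
      Matrix.det_diagonal]
    ext i j
    rw [LinearMap.toMatrix_apply, hb, map_smul, b.repr_self]
    by_cases h : i = j
    · subst h; simp
    · simp [h, Matrix.diagonal_apply_ne w h]
  rw [hprod, ← Finset.prod_filter_mul_prod_filter_not Finset.univ (fun i => w i = w i₀),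
    Finset.prod_congr rfl (g := fun _ => w i₀) (fun i hi => (Finset.mem_filter.1 hi).2),
    Finset.prod_eq_one (s := Finset.univ.filter fun i => ¬ w i = w i₀) (fun i hi =>
      (hother i).resolve_right (Finset.mem_filter.1 hi).2), mul_one, Finset.prod_const, ← hA, hAeq]
    at hdet
  have h1 : orderOf (w i₀) = q := by
    haveI := Fact.mk hq
    exact orderOf_eq_prime (hw i₀) hi₀
  have := orderOf_dvd_of_pow_eq_one hdet
  rw [h1] at this
  exact hqp ((Nat.prime_dvd_prime_iff_eq hq hp).1 this)


/-- Let p be a prime, M a maximal ideal of the algebraic integers containing p, G a finite perfect group and P a Sylow p-subgroup. If the principal p-block of G contains a faithful irreducible character of degree less than 2p, then the centralizer of P is a p-group. -/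
theorem result {G : Type*} [Group G] [Finite G] (p : ℕ) [Fact p.Prime] (M : Ideal Cfsg.AlgInt) (hM : Cfsg.IsPModular p M) (hperf : commutator G = ⊤) (P : Sylow p G) (χ : Cfsg.IrrCharacter G) (hχ : χ ∈ Cfsg.principalBlock M G) (hfaith : ∀ g : G, (χ : G → ℂ) g = (χ : G → ℂ) 1 → g = 1) (hdeg : Cfsg.charDegree (χ : G → ℂ) < 2 * p) : IsPGroup p ↥(Subgroup.centralizer ((P : Subgroup G) : Set G)) := by
  intro x
  haveI : Finite ↥(Subgroup.centralizer ((P : Subgroup G) : Set G)) := inferInstance
  by_contra hcon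
  obtain ⟨q, hq, hqp, hdvd⟩ : ∃ q : ℕ, q.Prime ∧ q ≠ p ∧ q ∣ orderOf x := by
    by_contra hall
    push Not at hall
    refine hcon ⟨(orderOf x).primeFactorsList.length, ?_⟩
    rw [← Nat.eq_prime_pow_of_unique_prime_dvd (orderOf_pos x).ne' fun {d} hd hd' =>
      by_contra fun hne => hall d hd hne hd', pow_orderOf_eq_one]
  have ho : orderOf (x ^ (orderOf x / q)) = q := orderOf_pow_orderOf_div (orderOf_pos x).ne' hdvd
  exact no_q_element p M hM hperf P χ hχ hfaith hdeg hq hqp
    (v := ((x ^ (orderOf x / q) : ↥(Subgroup.centralizer ((P : Subgroup G) : Set G))) : G))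
    (by rw [Subgroup.orderOf_coe, ho]) (SetLike.coe_mem _)

end Cfsg.Agent.S4729
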