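import Cfsg.Statements.S4730
import Mathlib
import Cfsg.Agent.Lib.Blocks.Block
import Cfsg.Agent.Lib.Blocks.Defect
import Cfsg.Agent.BlocksChars.Degrees
-- import your own Cfsg.Agent.* helpers here

set_option autoImplicit false
open Cfsg

namespace Cfsg.Agent.S4730

open Cfsg.Agent.Characters Cfsg.Agent.Blocks in
/-- A faithful character of `p`-power degree vanishes on `Z(P)#`. -/
theorem value_zero {G : Type*} [Group G] [Finite G] (p : ℕ) [Fact p.Prime]
    (hZ : Subgroup.center G = ⊥) (P : Sylow p G) (χ : Cfsg.IrrCharacter G)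
    (hfaith : ∀ g : G, (χ : G → ℂ) g = (χ : G → ℂ) 1 → g = 1) (n : ℕ)
    (hdeg : Cfsg.charDegree (χ : G → ℂ) = p ^ n)
    {z : G} (hz : z ≠ 1) (hzc : ∀ x ∈ (P : Subgroup G), x * z = z * x) :
    ¬ p ∣ (Subgroup.centralizer ({z} : Set G)).index ∧ (χ : G → ℂ) z = 0 := by
  have hp : p.Prime := Fact.out
  have hle : (P : Subgroup G) ≤ Subgroup.centralizer ({z} : Set G) := fun x hx =>
    Subgroup.mem_centralizer_singleton_iff.2 (hzc x hx)
  have hidx : ¬ p ∣ (Subgroup.centralizer ({z} : Set G)).index := fun hd =>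
    P.not_dvd_index (hd.trans (Subgroup.index_dvd_of_le hle))
  refine ⟨hidx, ?_⟩
  obtain ⟨m, ρ, hρ, hchar⟩ := χ.2
  have hfin : Module.finrank ℂ (Fin m → ℂ) = p ^ n := by
    rw [← hdeg, Cfsg.charDegree, ← hchar, ρ.char_one, Complex.natCast_re, Nat.floor_natCast]
  rw [← hchar] at hfaith ⊢
  rcases char_eq_zero_or_norm_eq_of_coprime ρ z (by
    rw [hfin]; exact Nat.Coprime.pow_left _ (hp.coprime_iff_not_dvd.2 hidx)) with h | h
  · exact h
  exfalso
  obtain ⟨ω, hω⟩ := rep_apply_eq_smul_of_norm_eq ρ z h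
  refine hz ?_
  have hmem : z ∈ Subgroup.center G := Subgroup.mem_center_iff.2 fun x => by
    have hc : ρ (x * z * (z * x)⁻¹) = LinearMap.id := by
      have h1 : ρ (x * z) = ρ (z * x) := by
        rw [map_mul, map_mul, hω]
        simp [Module.End.mul_eq_comp]
      rw [map_mul, h1, ← map_mul, mul_inv_cancel, map_one]
      rfl
    exact eq_of_mul_inv_eq_one (hfaith _ (rep_char_eq_of_apply_eq_id hc))
  rw [hZ] at hmem
  exact Subgroup.mem_bot.1 hmem

open Cfsg.Agent.Characters Cfsg.Agent.Blocks in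
/-- All degrees in the block are divisible by `|Z(P)|`. -/
theorem dvd_degree {G : Type*} [Group G] [Finite G] (p : ℕ) [Fact p.Prime]
    (M : Ideal Cfsg.AlgInt) (hM : Cfsg.IsPModular p M)
    (hZ : Subgroup.center G = ⊥) (P : Sylow p G) (b : ℕ)
    (hb : Nat.card (Subgroup.center ↥(P : Subgroup G)) = p ^ b) (χ : Cfsg.IrrCharacter G)
    (hfaith : ∀ g : G, (χ : G → ℂ) g = (χ : G → ℂ) 1 → g = 1) (n : ℕ)
    (hdeg : Cfsg.charDegree (χ : G → ℂ) = p ^ n)
    (ψ : Cfsg.IrrCharacter G) (hψ : Cfsg.SameBlock M (χ : G → ℂ) (ψ : G → ℂ)) :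
    b ≤ (Cfsg.charDegree (ψ : G → ℂ)).factorization p := by
  classical
  have hp : p.Prime := Fact.out
  haveI := Fintype.ofFinite G
  set Z : Subgroup G := (Subgroup.center ↥(P : Subgroup G)).map (P : Subgroup G).subtype with hZdef
  haveI := Fintype.ofFinite Z
  have hcard : Nat.card Z = p ^ b := by
    rw [hZdef, Subgroup.card_map_of_injective Subtype.val_injective, hb]
  obtain ⟨m, hm⟩ := classInner_char_nat (G := Z) (χ := fun z : Z => (ψ : G → ℂ) z)
    (isCharacter_restrict Z (irr_isCharacter ψ)) isCharacter_one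
  rw [classInner_def, hcard, inv_mul_eq_iff_eq_mul₀ (Nat.cast_ne_zero.2 (pow_ne_zero _ hp.ne_zero))]
    at hm
  simp only [map_one, mul_one] at hm
  have h1 : (ψ : G → ℂ) 1 ≠ 0 := irr_one_ne_zero ψ.2
  have hterm : ∀ z : Z, z ≠ 1 → Cfsg.MemLocalIdeal M ((ψ : G → ℂ) z / (ψ : G → ℂ) 1) := by
    intro z hz
    obtain ⟨⟨w, hwP⟩, hwc, hwe⟩ := Subgroup.mem_map.1 z.2
    obtain ⟨hidx, hzero⟩ := value_zero p hZ P χ hfaith n hdeg
      (z := (z : G)) (fun e => hz (Subtype.ext e)) (fun x hx => by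
        have := congrArg Subtype.val (Subgroup.mem_center_iff.1 hwc ⟨x, hx⟩)
        rw [← hwe]
        exact this)
    have h := hψ (z : G)
    simp only [Cfsg.centralChar, hzero, mul_zero, zero_div, zero_sub] at h
    have h' := ideal_mul_left hM (ring_inv_natCast hM hidx) (ideal_neg hM h)
    have hi0 : ((Subgroup.centralizer ({(z : G)} : Set G)).index : ℂ) ≠ 0 :=
      Nat.cast_ne_zero.2 Subgroup.index_ne_zero_of_finite
    rw [neg_neg, mul_div_assoc, ← mul_assoc, inv_mul_cancel₀ hi0, one_mul] at h'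
    exact h'
  have hu : Cong M (((p ^ b : ℕ) : ℂ) * (m : ℂ) / (ψ : G → ℂ) 1) 1 := by
    rw [← hm, Finset.sum_div, ← Finset.add_sum_erase _ _ (Finset.mem_univ (1 : Z))]
    show Cfsg.MemLocalIdeal M _
    rw [show ((1 : Z) : G) = 1 from rfl, div_self h1, add_sub_cancel_left]
    exact ideal_sum hM fun z hz => hterm z (Finset.ne_of_mem_erase hz)
  by_contra hlt
  push Not at hlt
  have hd := Cfsg.Agent.BlocksChars.Degrees.charDegree_cast ψ
  set d := Cfsg.charDegree (ψ : G → ℂ)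
  have hd0 : d ≠ 0 := by
    intro e
    rw [e, Nat.cast_zero] at hd
    exact h1 hd.symm
  set v := d.factorization p with hv
  have hc : ¬ p ∣ d / p ^ v := Nat.not_dvd_ordCompl hp hd0
  refine not_ideal_one hM ((ideal_iff_of_cong hM hu).1 ?_)
  rw [← hd, ← Nat.ordProj_mul_ordCompl_eq_self d p, ← hv,
    show b = v + (b - v - 1) + 1 by omega, pow_succ, pow_add]
  push_cast
  have hpv : ((p : ℂ) ^ v) ≠ 0 := pow_ne_zero _ (Nat.cast_ne_zero.2 hp.ne_zero)
  have hc0 : ((d / p ^ v : ℕ) : ℂ) ≠ 0 :=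
    Nat.cast_ne_zero.2 fun e => hc (by rw [e]; exact dvd_zero p)
  rw [show (p : ℂ) ^ v * (p : ℂ) ^ (b - v - 1) * (p : ℂ) * (m : ℂ) /
      ((p : ℂ) ^ v * ((d / p ^ v : ℕ) : ℂ)) =
      ((p : ℂ) ^ (b - v - 1) * (m : ℂ) * ((d / p ^ v : ℕ) : ℂ)⁻¹) * (p : ℂ) by field_simp]
  exact ideal_mul_left hM (ring_mul hM (ring_mul hM (ring_pow hM (ring_natCast hM p) _)
    (ring_natCast hM m)) (ring_inv_natCast hM hc)) (ideal_p hM)


/-- Let p be a prime, M a maximal ideal of the algebraic integers containing p, and G a finite group with trivial centre, Sylow p-subgroup P of order p^a and centre Z(P) of order p^b. If χ is a faithful irreducible character of G whose degree is a power of p, then the p-block of χ has defect at most a − b; in particular, if P is abelian then χ lies in a block of defect zero. -/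
theorem result {G : Type*} [Group G] [Finite G] (p : ℕ) [Fact p.Prime] (M : Ideal Cfsg.AlgInt) (hM : Cfsg.IsPModular p M) (hZ : Subgroup.center G = ⊥) (P : Sylow p G) (a b : ℕ) (ha : Nat.card P = p ^ a) (hb : Nat.card (Subgroup.center ↥(P : Subgroup G)) = p ^ b) (χ : Cfsg.IrrCharacter G) (hfaith : ∀ g : G, (χ : G → ℂ) g = (χ : G → ℂ) 1 → g = 1) (n : ℕ) (hdeg : Cfsg.charDegree (χ : G → ℂ) = p ^ n) : Cfsg.blockDefect p (Cfsg.blockOf M (χ : G → ℂ)) ≤ a - b ∧ (IsMulCommutative ↥(P : Subgroup G) → Cfsg.blockDefect p (Cfsg.blockOf M (χ : G → ℂ)) = 0) := by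
  classical
  have hp : p.Prime := Fact.out
  have hPa : (Nat.card G).factorization p = a := by
    have h := P.card_eq_multiplicity
    rw [ha] at h
    exact (Nat.pow_right_injective hp.two_le h).symm
  have hmain : Cfsg.blockDefect p (Cfsg.blockOf M (χ : G → ℂ)) ≤ a - b := by
    rw [Cfsg.blockDefect, hPa]
    refine Nat.sub_le_sub_left (le_csInf ⟨_, Set.mem_image_of_mem _
      (Cfsg.Agent.Blocks.mem_blockOf_self hM χ)⟩ ?_) _
    rintro _ ⟨ψ, hψ, rfl⟩
    exact dvd_degree p M hM hZ P b hb χ hfaith n hdeg ψ hψ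
  refine ⟨hmain, fun hcomm => ?_⟩
  have htop : Subgroup.center ↥(P : Subgroup G) = ⊤ := eq_top_iff.2 fun x _ =>
    Subgroup.mem_center_iff.2 fun y => hcomm.is_comm.comm y x
  rw [htop, Subgroup.card_top, ha] at hb
  have := Nat.pow_right_injective hp.two_le hb
  omega

end Cfsg.Agent.S4730
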