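import Cfsg.Statements.S4735
import Mathlib
import Cfsg.Agent.Lib.Blocks.Inflation
import Cfsg.Agent.Lib.Blocks.Block
import Cfsg.Agent.Lib.Characters.Galois
import Cfsg.Agent.OddChar.PowTwist
import Cfsg.Agent.BlocksChars.PrincipalPSolvable
-- import your own Cfsg.Agent.* helpers here

set_option autoImplicit false
open Cfsg

namespace Cfsg.Agent.S4735

open Cfsg.Agent.Characters Cfsg.Agent.Blocks in
/-- The principal block is closed under power twists. -/
theorem twist_mem {G : Type*} [Group G] [Finite G] (M : Ideal Cfsg.AlgInt) {k : ℕ}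
    (hk : k.Coprime (Nat.card G)) {χ ψ : Cfsg.IrrCharacter G}
    (hψ : ∀ g, (ψ : G → ℂ) g = (χ : G → ℂ) (g ^ k)) (hχ : χ ∈ Cfsg.principalBlock M G) :
    ψ ∈ Cfsg.principalBlock M G := by
  intro g
  have hc : Subgroup.centralizer ({g ^ k} : Set G) = Subgroup.centralizer ({g} : Set G) := by
    ext x
    rw [Subgroup.mem_centralizer_singleton_iff, Subgroup.mem_centralizer_singleton_iff]
    refine ⟨fun h => ?_, fun h => Commute.pow_right h k⟩
    obtain ⟨j, hj⟩ : ∃ j : ℕ, (g ^ k) ^ j = g :=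
      exists_pow_eq_self_of_coprime (hk.coprime_dvd_right (orderOf_dvd_natCard g))
    have h' : Commute x (g ^ k) := h
    exact hj ▸ h'.pow_right j
  have h := hχ (g ^ k)
  simp only [Cfsg.centralChar, hc] at h ⊢
  rwa [hψ, hψ, one_pow]

open Cfsg.Agent.Characters Cfsg.Agent.Blocks in
/-- The sum is a positive integer. -/
theorem exists_nat {G : Type*} [Group G] [Finite G] (p : ℕ) [Fact p.Prime]
    (M : Ideal Cfsg.AlgInt) (hM : Cfsg.IsPModular p M) (x : G) :
    ∃ n : ℕ, 0 < n ∧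
      ∑ᶠ χ ∈ Cfsg.principalBlock M G, Complex.normSq ((χ : G → ℂ) x) = n := by
  classical
  haveI := Fintype.ofFinite G
  haveI := Fintype.ofFinite (Cfsg.IrrCharacter G)
  set N := Nat.card G
  have hN : 0 < N := Nat.card_pos
  haveI : NeZero N := ⟨hN.ne'⟩
  set B := Finset.univ.filter fun χ : Cfsg.IrrCharacter G => χ ∈ Cfsg.principalBlock M G with hB
  set ζ := Complex.exp (2 * Real.pi * Complex.I / N)
  have hζ : IsPrimitiveRoot ζ N := Complex.isPrimitiveRoot_exp N hN.ne'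
  have hpol : ∀ (χ : Cfsg.IrrCharacter G) (g : G), ∃ P : Polynomial ℚ,
      ∀ k : ℕ, (χ : G → ℂ) (g ^ k) = Polynomial.aeval (ζ ^ k) P := fun χ g => by
    obtain ⟨n, ρ, hρ, hc⟩ := χ.2
    rw [← hc]
    exact exists_poly_values ρ g hN pow_card_eq_one' hζ
  choose P hP using hpol
  set Q : Polynomial ℚ := ∑ χ ∈ B, P χ x * P χ x⁻¹
  set S : ℂ := ∑ χ ∈ B, (χ : G → ℂ) x * (χ : G → ℂ) x⁻¹ with hS
  have hval : ∀ μ ∈ primitiveRoots N ℂ, Polynomial.aeval μ Q = S := by
    intro μ hμ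
    obtain ⟨k, _, hk, rfl⟩ := (hζ.isPrimitiveRoot_iff (ξ := μ) (k := N)).1
      ((mem_primitiveRoots hN).1 hμ)
    simp only [Q, map_sum, map_mul, ← hP]
    let tw : Cfsg.IrrCharacter G → Cfsg.IrrCharacter G := fun χ =>
      ⟨_, OddChar.PowTwist.isIrr_comp_pow χ.2 hk⟩
    have hinj : Function.Injective tw := fun a b hab => Subtype.ext (funext fun g => by
      obtain ⟨h, rfl⟩ := (powCoprime (G := G) hk.symm).surjective g
      exact congrFun (congrArg Subtype.val hab) h)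
    have himg : B.image tw = B := by
      refine Finset.eq_of_subset_of_card_le (fun ψ hψ => ?_) ?_
      · obtain ⟨χ, hχ, rfl⟩ := Finset.mem_image.1 hψ
        exact Finset.mem_filter.2 ⟨Finset.mem_univ _,
          twist_mem M hk (fun g => rfl) (Finset.mem_filter.1 hχ).2⟩
      · rw [Finset.card_image_of_injective _ hinj]
    rw [hS]
    conv_rhs => rw [← himg]
    rw [Finset.sum_image hinj.injOn]
  obtain ⟨q, hq⟩ := (exists_rat_sum_prod_primitiveRoots hN Q).1
  rw [Finset.sum_congr rfl hval, Finset.sum_const, nsmul_eq_mul] at hq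
  have hc0 : ((primitiveRoots N ℂ).card : ℂ) ≠ 0 := Nat.cast_ne_zero.2
    (Finset.card_pos.2 ⟨ζ, (mem_primitiveRoots hN).2 hζ⟩).ne'
  obtain ⟨r, hr⟩ : ∃ r : ℚ, S = (r : ℂ) := ⟨q / (primitiveRoots N ℂ).card, by
    push_cast
    rw [eq_div_iff hc0, mul_comm, hq]⟩
  have hSint : IsIntegral ℤ S := IsIntegral.sum _ fun χ _ =>
    (char_value_isIntegral (irr_isCharacter χ) x).mul (char_value_isIntegral (irr_isCharacter χ) _)
  obtain ⟨z, hz⟩ := exists_int_of_isIntegral_ratCast (hr ▸ hSint)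
  have hreal : S = ((∑ χ ∈ B, Complex.normSq ((χ : G → ℂ) x) : ℝ) : ℂ) := by
    rw [hS, Complex.ofReal_sum]
    exact Finset.sum_congr rfl fun χ _ => by
      rw [char_inv (irr_isCharacter χ), Complex.mul_conj]
  have hz' : (∑ χ ∈ B, Complex.normSq ((χ : G → ℂ) x)) = (z : ℝ) := by
    have h : ((∑ χ ∈ B, Complex.normSq ((χ : G → ℂ) x) : ℝ) : ℂ) = ((z : ℝ) : ℂ) := by
      rw [← hreal, hr, hz, Complex.ofReal_intCast]
    exact_mod_cast h
  have hpos : (1 : ℝ) ≤ (z : ℝ) := by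
    rw [← hz']
    refine le_trans (le_of_eq ?_) (Finset.single_le_sum (fun χ _ => Complex.normSq_nonneg _)
      (Finset.mem_filter.2 ⟨Finset.mem_univ _, trivIrr_mem_principal hM⟩))
    simp
  have hz0 : (1 : ℤ) ≤ z := by exact_mod_cast hpos
  refine ⟨z.toNat, by omega, ?_⟩
  rw [finsum_mem_eq_toFinset_sum, Finset.sum_congr (s₂ := B) (by ext χ; simp [hB]) (fun _ _ => rfl),
    hz']
  have : ((z.toNat : ℤ)) = z := Int.toNat_of_nonneg (by omega)
  exact_mod_cast this.symm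


/-- Let p be a prime, M a maximal ideal of the algebraic integers containing p, G a finite group, H = O_p'(G) and Ḡ = G/H. For x ∈ G write λ(G, x) for the sum of |χ(x)|^2 over the irreducible characters χ in the principal p-block of G. Then λ(G, x) is a positive integer, λ(G, x) = λ(Ḡ, x̄) where x̄ is the image of x, and λ(G, x) ≤ #C_Ḡ(x̄). Moreover λ(G, 1) = [G : H] if and only if the principal block is the only p-block of Ḡ. -/
theorem result {G : Type*} [Group G] [Finite G] (p : ℕ) [Fact p.Prime] (M : Ideal Cfsg.AlgInt) (hM : Cfsg.IsPModular p M) (x : G) : (∃ n : ℕ, 0 < n ∧ ∑ᶠ χ ∈ Cfsg.principalBlock M G, Complex.normSq ((χ : G → ℂ) x) = n) ∧ ∑ᶠ χ ∈ Cfsg.principalBlock M G, Complex.normSq ((χ : G → ℂ) x) = ∑ᶠ ψ ∈ Cfsg.principalBlock M (G ⧸ Cfsg.pPrimeCore p G), Complex.normSq ((ψ : G ⧸ Cfsg.pPrimeCore p G → ℂ) (QuotientGroup.mk x)) ∧ ∑ᶠ χ ∈ Cfsg.principalBlock M G, Complex.normSq ((χ : G → ℂ) x) ≤ (Nat.card ↥(Subgroup.centralizer ({(QuotientGroup.mk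 x : G ⧸ Cfsg.pPrimeCore p G)} : Set (G ⧸ Cfsg.pPrimeCore p G))) : ℝ) ∧ ((∑ᶠ χ ∈ Cfsg.principalBlock M G, Cfsg.charDegree (χ : G → ℂ) ^ 2) = (Cfsg.pPrimeCore p G).index ↔ ∀ B : Set (Cfsg.IrrCharacter (G ⧸ Cfsg.pPrimeCore p G)), Cfsg.IsPBlock M B → B = Cfsg.principalBlock M (G ⧸ Cfsg.pPrimeCore p G)) := by
  classical
  haveI := Cores.pPrimeCore_normal p (G := G)
  set K := Cfsg.pPrimeCore p G with hK
  have hKp : ¬ p ∣ Nat.card K := Cores.pPrimeCore_not_dvd p
  haveI := Fintype.ofFinite (Cfsg.IrrCharacter G)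
  haveI := Fintype.ofFinite (Cfsg.IrrCharacter (G ⧸ K))
  haveI := Fintype.ofFinite (G ⧸ K)
  set π := QuotientGroup.mk' K
  have hπ : Function.Surjective π := QuotientGroup.mk'_surjective K
  let infl : Cfsg.IrrCharacter (G ⧸ K) → Cfsg.IrrCharacter G := fun ψ =>
    ⟨_, Characters.isIrrCharacter_comp_surjective π hπ ψ.2⟩
  have hbij : Set.BijOn infl (Cfsg.principalBlock M (G ⧸ K)) (Cfsg.principalBlock M G) := by
    refine ⟨fun ψ hψ => ?_, fun a _ b _ hab => Subtype.ext (funext fun y => ?_), fun χ hχ => ?_⟩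
    · exact Blocks.sameBlock_inflate hM π hπ (χ := Characters.trivIrr (G ⧸ K)) (ψ := ψ) hψ
    · obtain ⟨g, rfl⟩ := hπ y
      exact congrFun (congrArg Subtype.val hab) g
    · obtain ⟨ψ', he, hsb⟩ := Blocks.exists_deflate_sameBlock hM hKp
        (Characters.trivIrr (G ⧸ K)) (ψ := χ) hχ
      exact ⟨ψ', hsb, Subtype.ext he.symm⟩
  refine ⟨exists_nat p M hM x, ?_, ?_, ?_⟩
  · exact (finsum_mem_eq_of_bijOn infl hbij fun ψ _ => rfl).symm
  · rw [← finsum_mem_eq_of_bijOn (f := fun ψ : Cfsg.IrrCharacter (G ⧸ K) =>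
      Complex.normSq ((ψ : G ⧸ K → ℂ) (QuotientGroup.mk x))) infl hbij fun ψ _ => rfl,
      finsum_mem_eq_toFinset_sum]
    refine (Finset.sum_le_sum_of_subset_of_nonneg (Finset.subset_univ _)
      fun ψ _ _ => Complex.normSq_nonneg _).trans (le_of_eq ?_)
    have h := Characters.second_orthogonality (G := G ⧸ K) (QuotientGroup.mk x) (QuotientGroup.mk x)
    rw [if_pos (IsConj.refl _)] at h
    simp only [Complex.mul_conj, ← Complex.ofReal_sum] at h
    have h' := congrArg Complex.re h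
    simpa using h'
  · rw [← finsum_mem_eq_of_bijOn (f := fun ψ : Cfsg.IrrCharacter (G ⧸ K) =>
      Cfsg.charDegree (ψ : G ⧸ K → ℂ) ^ 2) infl hbij fun ψ _ => by simp [infl, Cfsg.charDegree],
      finsum_mem_eq_toFinset_sum, Subgroup.index_eq_card]
    have hall : ∑ ψ : Cfsg.IrrCharacter (G ⧸ K), Cfsg.charDegree (ψ : G ⧸ K → ℂ) ^ 2 =
        Nat.card (G ⧸ K) := by
      have h := Characters.sum_degree_sq (G := G ⧸ K)
      simp only [← BlocksChars.Degrees.charDegree_cast] at h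
      exact_mod_cast h
    rw [← hall]
    constructor
    · intro he B hB
      obtain ⟨ψ, hψ⟩ := Blocks.block_nonempty hM hB
      refine Blocks.block_eq_of_mem hM hB (Blocks.isPBlock_principal M _) hψ ?_
      by_contra hne
      refine (Finset.sum_lt_sum_of_subset (Finset.subset_univ _) (Finset.mem_univ ψ)
        (by simpa using hne) (pow_pos (BlocksChars.Degrees.charDegree_pos ψ) 2)
        fun _ _ _ => Nat.zero_le _).ne he
    · intro hall'
      refine Finset.sum_congr (Finset.eq_univ_of_forall fun ψ => ?_) fun _ _ => rfl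
      rw [Set.mem_toFinset]
      rw [← hall' _ (Blocks.isPBlock_blockOf M ψ)]
      exact Blocks.mem_blockOf_self hM ψ

end Cfsg.Agent.S4735
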