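import Cfsg.Statements.S4737
import Cfsg.Agent.BlocksChars.InvolutionCount

set_option autoImplicit false
open Cfsg

namespace Cfsg.Agent.S4737

/-- An element of order 3 normalizing no nontrivial 2-subgroup has centralizer of odd order. -/
theorem odd_centralizer {G : Type*} [Group G] [Finite G] (x : G)
    (hx : ∀ Q : Subgroup G, IsPGroup 2 ↥Q → x ∈ Subgroup.normalizer (Q : Set G) → Q = ⊥) :
    Odd (Nat.card (Subgroup.centralizer ({x} : Set G))) := by
  rw [← Nat.not_even_iff_odd, even_iff_two_dvd]
  intro hdvd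
  obtain ⟨s, hs⟩ := exists_prime_orderOf_dvd_card' 2 hdvd
  have hs2 : orderOf (s : G) = 2 := by rw [Subgroup.orderOf_coe]; exact hs
  have hsx : Commute x (s : G) := (Subgroup.mem_centralizer_singleton_iff.1 s.2).symm
  have h := hx (Subgroup.zpowers (s : G))
    (IsPGroup.of_card (n := 1) (by rw [Nat.card_zpowers, hs2, pow_one]))
    (Subgroup.centralizer_le_normalizer _ (Subgroup.mem_centralizer_iff.2 (by
      rintro _ ⟨k, rfl⟩; exact (hsx.zpow_right k).symm.eq)))
  exact Involutions.Basic.ne_one hs2 (Subgroup.zpowers_eq_bot.1 h)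

/-- If `y ^ 3 = 1`, `(u * y) ^ 3 = 1` and `u * y` normalizes no nontrivial 2-subgroup, an element
`u` of square one is trivial. -/
theorem eq_one_of_cube {G : Type*} [Group G] [Finite G] {u y : G} (hu : u * u = 1) (hy : y * y * y = 1)
    (hx3 : u * y * (u * y) * (u * y) = 1)
    (hx : ∀ Q : Subgroup G, IsPGroup 2 ↥Q → u * y ∈ Subgroup.normalizer (Q : Set G) → Q = ⊥) :
    u = 1 := by
  set v := y * u * y⁻¹ with hv
  set w := y * v * y⁻¹ with hw
  have hv2 : v * v = 1 := by
    calc v * v = y * (u * u) * y⁻¹ := by rw [hv]; group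
      _ = 1 := by rw [hu]; group
  have hw2 : w * w = 1 := by
    calc w * w = y * (v * v) * y⁻¹ := by rw [hw]; group
      _ = 1 := by rw [hv2]; group
  have h : u * v * w = 1 := by
    calc u * v * w = u * y * (u * y) * (u * y) * (y * y * y)⁻¹ := by rw [hw, hv]; group
      _ = 1 := by rw [hx3, hy]; group
  have hui : u⁻¹ = u := inv_eq_of_mul_eq_one_right hu
  have hvi : v⁻¹ = v := inv_eq_of_mul_eq_one_right hv2
  have hwe : w = v * u := by
    rw [← inv_eq_of_mul_eq_one_right h, mul_inv_rev, hui, hvi]
  have hcom : u * v = v * u := by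
    rw [← hwe, ← inv_eq_of_mul_eq_one_right hw2, hwe, mul_inv_rev, hui, hvi]
  set Q := Subgroup.closure ({u, v} : Set G) with hQ
  have hQ2 : ∀ a ∈ Q, a * a = 1 ∧ a * u = u * a ∧ a * v = v * a := by
    intro a ha
    induction ha using Subgroup.closure_induction with
    | mem a ha =>
      rcases ha with rfl | rfl
      · exact ⟨hu, rfl, hcom⟩
      · exact ⟨hv2, hcom.symm, rfl⟩
    | one => simp
    | mul a b ha hb iha ihb =>
      have hab : a * b = b * a := by
        have hle : Q ≤ Subgroup.centralizer ({a} : Set G) := by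
          rw [hQ, Subgroup.closure_le]
          rintro _ (rfl | rfl) <;> rw [SetLike.mem_coe, Subgroup.mem_centralizer_singleton_iff]
          · exact iha.2.1.symm
          · exact iha.2.2.symm
        exact (Subgroup.mem_centralizer_singleton_iff.1 (hle hb)).symm
      refine ⟨?_, ?_, ?_⟩
      · rw [mul_assoc, ← mul_assoc b a, ← hab, mul_assoc, ihb.1, mul_one, iha.1]
      · rw [mul_assoc, ihb.2.1, ← mul_assoc, iha.2.1, mul_assoc]
      · rw [mul_assoc, ihb.2.2, ← mul_assoc, iha.2.2, mul_assoc]
    | inv a ha iha =>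
      have hai : a⁻¹ = a := inv_eq_of_mul_eq_one_right iha.1
      rw [hai]; exact iha
  have hQp : IsPGroup 2 ↥Q := fun a => ⟨1, Subtype.ext (by
    rw [pow_one, Subgroup.coe_pow, sq]; exact (hQ2 _ a.2).1)⟩
  have hmap : Q.map (MulAut.conj (u * y)).toMonoidHom ≤ Q := by
    rw [hQ, MonoidHom.map_closure, Subgroup.closure_le]
    rintro _ ⟨a, ha | ha, rfl⟩ <;> rw [SetLike.mem_coe]
    · show u * y * a * (u * y)⁻¹ ∈ _
      rw [ha]
      have e : u * y * u * (u * y)⁻¹ = v := by
        calc u * y * u * (u * y)⁻¹ = u * (y * u * y⁻¹) * u⁻¹ := by group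
          _ = u * v * u := by rw [← hv, hui]
          _ = v := by rw [hcom, mul_assoc, hu, mul_one]
      rw [e]; exact Subgroup.subset_closure (Or.inr rfl)
    · show u * y * a * (u * y)⁻¹ ∈ _
      rw [Set.mem_singleton_iff.1 ha]
      have e : u * y * v * (u * y)⁻¹ = u * v := by
        calc u * y * v * (u * y)⁻¹ = u * (y * v * y⁻¹) * u⁻¹ := by group
          _ = u * (v * u) * u := by rw [← hw, hwe, hui]
          _ = u * v := by rw [mul_assoc, mul_assoc, hu, mul_one]
      rw [e]; exact mul_mem (Subgroup.subset_closure (Or.inl rfl)) (Subgroup.subset_closure (Or.inr rfl))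
  have hnorm : u * y ∈ Subgroup.normalizer (Q : Set G) := by
    have heq := Subgroup.eq_of_le_of_card_ge hmap
      (le_of_eq (Subgroup.card_map_of_injective (MulAut.conj (u * y)).injective).symm)
    rw [Subgroup.mem_normalizer_iff]
    intro a
    conv_rhs => rw [← heq]
    exact ⟨fun ha => ⟨a, ha, rfl⟩, fun ⟨b, hb, hba⟩ => by
      have : b = a := (MulAut.conj (u * y)).injective hba
      exact this ▸ hb⟩
  have hbot := hx Q hQp hnorm
  have hu' : u ∈ Q := Subgroup.subset_closure (Or.inl rfl)
  rwa [hbot, Subgroup.mem_bot] at hu'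

/-- Let G be a finite group of order divisible by 6. Then the number of irreducible characters of G whose degree has the same 2-part as the order of G (the characters of 2-defect zero, each forming a 2-block of defect zero on its own) is at least the number of conjugacy classes of elements of order 3 that normalize no nontrivial 2-subgroup of G. In particular G has a 2-block of defect zero as soon as some element of order 3 normalizes no nontrivial 2-subgroup. -/
theorem result {G : Type*} [Group G] [Finite G] (h6 : 6 ∣ Nat.card G) : Nat.card {C : ConjClasses G // ∃ g ∈ C.carrier, orderOf g = 3 ∧ ∀ Q : Subgroup G, IsPGroup 2 ↥Q → g ∈ Subgroup.normalizer (Q : Set G) → Q = ⊥} ≤ Nat.card {χ : Cfsg.IrrCharacter G // (Cfsg.charDegree (χ : G → ℂ)).factorization 2 = (Nat.card G).factorization 2} := by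
  classical
  haveI := Fintype.ofFinite G
  let S := {C : ConjClasses G // ∃ g ∈ C.carrier, orderOf g = 3 ∧
    ∀ Q : Subgroup G, IsPGroup 2 ↥Q → g ∈ Subgroup.normalizer (Q : Set G) → Q = ⊥}
  let x : S → G := fun C => C.2.choose
  have hx := fun C : S => C.2.choose_spec
  refine BlocksChars.InvolutionCount.card_le_defectZero x (fun C => odd_centralizer _ (hx C).2.2)
    ?_ ?_
  · intro C D hne hconj
    apply hne
    apply Subtype.ext
    rw [← ConjClasses.mem_carrier_iff_mk_eq.1 (hx C).1,
      ← ConjClasses.mem_carrier_iff_mk_eq.1 (hx D).1]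
    exact ConjClasses.mk_eq_mk_iff_isConj.2 hconj
  · intro C D g hg h1
    have hg3 : orderOf g = 3 := by
      obtain ⟨c, hc⟩ := isConj_iff.1 hg
      rw [← hc, Involutions.Basic.orderOf_conj]; exact (hx D).2.1
    have h3 : ∀ a : G, orderOf a = 3 → a * a * a = 1 := fun a ha => by
      rw [← pow_orderOf_eq_one a, ha]; simp [pow_succ]
    have e : x C * g⁻¹ * g = x C := by group
    have hu := eq_one_of_cube (u := x C * g⁻¹) (y := g) h1 (h3 g hg3)
      (by rw [e]; exact h3 _ (hx C).2.1)
      (by rw [e]; exact (hx C).2.2)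
    exact (mul_inv_eq_one.1 hu).symm

end Cfsg.Agent.S4737
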