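import Cfsg.Statements.S4740
import Cfsg.Agent.BlocksChars.Degrees

set_option autoImplicit false
open Cfsg

namespace Cfsg.Agent.S4740

/-- Let p be an odd prime, G a finite group of even order, x an involution of G and P a subgroup of G of order p ^ c such that no conjugate of x inverts a non-identity element of P. If p ^ a is the p-part of the order of C_G(x), then some irreducible character of G has degree divisible by p ^ (c - a). -/
theorem result {G : Type*} [Group G] [Finite G] (p : ℕ) [Fact p.Prime] (hp2 : p ≠ 2) (hG : Even (Nat.card G)) (x : G) (hx : orderOf x = 2) (P : Subgroup G) (c : ℕ) (hP : Nat.card ↥P = p ^ c) (hinv : ∀ g : G, IsConj x g → ∀ z ∈ P, z ≠ 1 → g * z * g⁻¹ ≠ z⁻¹) (a : ℕ) (ha : (Nat.card ↥(Subgroup.centralizer ({x} : Set G))).factorization p = a) : ∃ χ : Cfsg.IrrCharacter G, p ^ (c - a) ∣ Cfsg.charDegree (χ : G → ℂ) := by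
  subst ha
  refine BlocksChars.Degrees.exists_degree_dvd (Fact.out : p.Prime) x P hP ?_
  intro z hz hz1 g hg hgz
  have hx2 : x * x = 1 := by
    have := pow_orderOf_eq_one x
    rwa [hx, sq] at this
  have hg2 : g * g = 1 := by
    obtain ⟨c, hc⟩ := isConj_iff.1 hg
    rw [← hc, show c * x * c⁻¹ * (c * x * c⁻¹) = c * (x * x) * c⁻¹ by group, hx2]; group
  have hy2 : g⁻¹ * z * (g⁻¹ * z) = 1 := by
    obtain ⟨c, hc⟩ := isConj_iff.1 hgz
    rw [← hc, show c * x⁻¹ * c⁻¹ * (c * x⁻¹ * c⁻¹) = c * (x * x)⁻¹ * c⁻¹ by group, hx2]; group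
  have hgi : g⁻¹ = g := inv_eq_of_mul_eq_one_right hg2
  rw [hgi] at hy2
  apply hinv g hg z hz hz1
  rw [hgi]
  exact eq_inv_of_mul_eq_one_left (by simpa [mul_assoc] using hy2)

end Cfsg.Agent.S4740
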