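import Cfsg.Statements.S4741
import Mathlib
import Cfsg.Agent.BlocksChars.PElementSum
import Cfsg.Agent.Lib.Blocks.FirstMain
-- import your own Cfsg.Agent.* helpers here

set_option autoImplicit false
open Cfsg

namespace Cfsg.Agent.S4741

open Cfsg.Agent.Blocks Cfsg.Agent.Characters Cfsg.Agent.BlocksChars

theorem isSylCent_of {G : Type*} [Group G] {p : ℕ} {g : G} {D : Subgroup G}
    (h : ∃ S : Sylow p ↥(Subgroup.centralizer ({g} : Set G)),
      (S : Subgroup ↥(Subgroup.centralizer ({g} : Set G))).map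
        (Subgroup.centralizer ({g} : Set G)).subtype = D) : IsSylCent p g D :=
  let ⟨S, hS⟩ := h
  ⟨S, hS.symm⟩

/-- A combination of the classes killed by all blocks with defect group `D` is trivial. -/
theorem coeff_mem {G : Type*} [Group G] [Finite G] {p : ℕ} [Fact p.Prime] {M : Ideal Cfsg.AlgInt}
    (hM : Cfsg.IsPModular p M) {D : Subgroup G} {r : ℕ} {x : Fin r → G}
    (hx : ∀ i j, IsConj (x i) (x j) → i = j) (hD : ∀ i, IsSylCent p (x i) D)
    (hsep : ∀ i j : Fin r, ∀ g h : G, IsConj (x i) g → IsConj (x j) h → ∀ k : ℕ, 0 < k →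
      orderOf (g * h⁻¹) ≠ p ^ k)
    {c : Fin r → ℂ} (hc : ∀ j, Cfsg.MemLocalRing M (c j))
    (hkill : ∀ B : Set (Cfsg.IrrCharacter G), Cfsg.IsPBlock M B → Cfsg.IsDefectGroup p M B D →
      ∀ χ ∈ B, Cfsg.MemLocalIdeal M (∑ j, c j * Cfsg.centralChar (χ : G → ℂ) (x j)))
    (i : Fin r) : Cfsg.MemLocalIdeal M (c i) := by
  classical
  haveI := Fintype.ofFinite G
  set N := Subgroup.normalizer (D : Set G) with hN
  haveI : Fintype N := Fintype.ofFinite N
  have hDp : IsPGroup p D := isSylCent_isPGroup (hD i)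
  set z : MonoidAlgebra ℂ G := ∑ j, c j • classSum (x j) with hz
  have hzc : IsCentralEl z := central_sum fun j _ => central_smul _ (central_classSum _)
  have hzi : IntEl M z := intEl_sum hM fun j _ => intEl_smul hM (hc j) (intEl_classSum hM _)
  set s := brEl D N z with hs
  have hsc : IsCentralEl s := central_brEl le_rfl hzc
  have hsi : IntEl M s := intEl_brEl hM D N hzi
  have hω : ∀ ξ : Cfsg.IrrCharacter N, Cfsg.MemLocalIdeal M (omega (ξ : N → ℂ) s) := by
    intro ξ
    have hb := isPBlock_blockOf M ξ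
    obtain ⟨B, hind⟩ := inducedBlockDefined_of_brauer hM hDp Subgroup.le_normalizer
      (centralizer_le_normalizer' D) le_rfl hb
    obtain ⟨χ, hχ⟩ := block_nonempty hM hind.2.1
    rw [ideal_iff_of_cong hM (omega_brEl_of_induced hM hDp Subgroup.le_normalizer le_rfl hind
      (mem_blockOf_self hM ξ) hχ hzc hzi)]
    have hsum : omega (χ : G → ℂ) z = ∑ j, c j * Cfsg.centralChar (χ : G → ℂ) (x j) := by
      rw [hz, omega_sum]
      exact Finset.sum_congr rfl fun j _ => by
        rw [omega_smul, omega_classSum (irr_isClassFunction χ)]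
    rw [hsum]
    obtain ⟨D', hD'⟩ := exists_defectGroup hM hb
    obtain ⟨E, hE, hDE'⟩ := exists_defect_le_of_induced hM hind hD'
    haveI := normal_subgroupOf (H := N) (P := D) le_rfl
    have hDD' := normal_le_defect hM (isPGroup_subgroupOf hDp Subgroup.le_normalizer) hb hD'
    have hDE : D ≤ E := fun d hd =>
      hDE' ⟨⟨d, Subgroup.le_normalizer hd⟩, hDD' (Subgroup.mem_subgroupOf.2 hd), rfl⟩
    by_cases hE' : E = D
    · exact hkill B hind.2.1 (hE' ▸ hE) χ hχ
    · refine ideal_sum hM fun j _ => ideal_mul_left hM (hc j) ?_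
      by_contra hne
      obtain ⟨y, hy⟩ := exists_conj_le_of_meets (isPGroup_defect hE) (hD j)
        (meets_defect_of_omega hM hind.2.1 hE hχ hne)
      refine hE' (eq_of_le_of_card_le hDE ?_).symm
      exact (Subgroup.card_le_of_le hy).trans (card_map_conj D y).le
  obtain ⟨n₀, hn₀⟩ := exists_pow_idealEl hM hsc hω
  have hxC : x i ∈ Subgroup.centralizer (D : Set G) := isSylCent_mem (hD i)
  set xi : N := ⟨x i, centralizer_le_normalizer' D hxC⟩ with hxi
  set b := s * MonoidAlgebra.single xi⁻¹ 1 with hb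
  have hbi : IntEl M b := intEl_mul hM hsi (intEl_single hM _ (ring_one hM))
  have hpow : IdealEl M (b ^ p ^ n₀) := by
    rw [hb, Commute.mul_pow (central_commute hsc _)]
    exact idealEl_mul_right hM (hn₀ _ (Nat.lt_pow_self hM.1.one_lt).le)
      (intEl_pow hM (intEl_single hM _ (ring_one hM)) _)
  have h := PElementSum.ideal_pSum_of_pow hM n₀ hbi hpow
  suffices heq : PElementSum.pSum p b = c i by rwa [heq] at h
  have hcoef : ∀ u : N, b.coeff u = if ((u : G) * x i) ∈ Subgroup.centralizer (D : Set G)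
      then ∑ j, (if IsConj (x j) ((u : G) * x i) then c j else 0) else 0 := by
    intro u
    rw [hb, coeff_mul_single', mul_one, inv_inv, hs, brEl, coeff_restrEl, Subgroup.coe_mul, hxi]
    by_cases hu : ((u : G) * x i) ∈ Subgroup.centralizer (D : Set G)
    · rw [if_pos hu, cutEl_coeff_mem _ hu, hz]
      simp [MonoidAlgebra.coeff_sum, MonoidAlgebra.coeff_smul, coeff_classSum, mul_ite]
    · rw [if_neg hu, cutEl_coeff_notMem _ hu]
  have hzero : ∀ (u : N) (j : Fin r), PElementSum.IsPEl p u → IsConj (x j) ((u : G) * x i) →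
      u = 1 := by
    intro u j hu hj
    obtain ⟨k, hk⟩ := (PElementSum.isPEl_iff_orderOf u).1 hu
    rcases Nat.eq_zero_or_pos k with rfl | hpos
    · exact orderOf_eq_one_iff.1 (by rw [hk, pow_zero])
    · exact absurd (by rw [mul_inv_cancel_right, Subgroup.orderOf_coe, hk])
        (hsep j i _ _ hj (IsConj.refl (x i)) k hpos)
  unfold PElementSum.pSum
  rw [Finset.sum_eq_single (1 : N)]
  · rw [if_pos PElementSum.isPEl_one, hcoef, if_pos (by simpa using hxC),
      Finset.sum_eq_single i (fun j _ hne => if_neg fun e => hne (hx j i (by simpa using e)))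
        (by simp), if_pos (by simpa using IsConj.refl (x i))]
  · intro u _ hu
    split_ifs with hp
    · rw [hcoef]
      split_ifs
      · exact Finset.sum_eq_zero fun j _ => if_neg fun e => hu (hzero u j hp e)
      · rfl
    · rfl
  · simp

/-- Let p be a prime, M a maximal ideal of the algebraic integers containing p, and D a subgroup of the finite group G. Let x₁, …, x_r be pairwise non-conjugate elements of G such that D is a Sylow p-subgroup of the centralizer of each xᵢ, and such that for any conjugates g of some xᵢ and h of some xⱼ the element g h⁻¹ is never a non-identity p-element. Then there are r distinct p-blocks B₁, …, B_r of G, each having D as a defect group, such that for every choice of characters χᵢ ∈ Bᵢ of height zero the determinant of the r × r matrix (χᵢ(xⱼ)) does not lie in the local ideal at M. -/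
theorem result {G : Type*} [Group G] [Finite G] (p : ℕ) [Fact p.Prime] (M : Ideal Cfsg.AlgInt) (hM : Cfsg.IsPModular p M) (D : Subgroup G) {r : ℕ} (x : Fin r → G) (hx : ∀ i j : Fin r, IsConj (x i) (x j) → i = j) (hD : ∀ i : Fin r, ∃ S : Sylow p ↥(Subgroup.centralizer ({x i} : Set G)), (S : Subgroup ↥(Subgroup.centralizer ({x i} : Set G))).map (Subgroup.centralizer ({x i} : Set G)).subtype = D) (hsep : ∀ i j : Fin r, ∀ g h : G, IsConj (x i) g → IsConj (x j) h → ∀ k : ℕ, 0 < k → orderOf (g * h⁻¹) ≠ p ^ k) : ∃ B : Fin r → Set (Cfsg.IrrCharacter G), Function.Injective B ∧ (∀ i : Fin r, Cfsg.IsPBlock M (B i) ∧ Cfsg.IsDefectGroup p M (B i) D) ∧ ∀ χ : Fin r → Cfsg.IrrCharacter G, (∀ i : Fin r, χ i ∈ B i ∧ Cfsg.blockHeight p (B i) (χ i : G → ℂ) = 0) → ¬ Cfsg.MemLocalIdeal M (Matrix.det (Matrix.of fun i j : Fin r => (χ i : G → ℂ) (x j))) := by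
  classical
  have hS : ∀ i, IsSylCent p (x i) D := fun i => isSylCent_of (hD i)
  haveI := hM.2.1
  let F := Cfsg.AlgInt ⧸ M
  letI : Field F := Ideal.Quotient.field M
  let lift : Cfsg.IrrCharacter G → Fin r → Cfsg.AlgInt := fun χ j =>
    ⟨Cfsg.centralChar (χ : G → ℂ) (x j), centralChar_isIntegral χ (x j)⟩
  let W : Cfsg.IrrCharacter G → Fin r → F := fun χ j => Ideal.Quotient.mk M (lift χ j)
  let good : Set (Cfsg.IrrCharacter G) :=
    {χ | Cfsg.IsDefectGroup p M (Cfsg.blockOf M (χ : G → ℂ)) D}
  have hspan : Submodule.span F (W '' good) = ⊤ := by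
    by_contra hne
    obtain ⟨φ, hφ0, hφ⟩ := Submodule.exists_dual_map_eq_bot_of_lt_top (lt_top_iff_ne_top.2 hne)
      inferInstance
    choose c hc using fun j => Ideal.Quotient.mk_surjective (φ (Pi.single j 1))
    have hcr : ∀ j, Cfsg.MemLocalIdeal M ((c j : Cfsg.AlgInt) : ℂ) := by
      refine coeff_mem hM hx hS hsep (fun j => ring_coe hM (c j)) fun B hB hBD χ hχ => ?_
      have hval : φ (W χ) = 0 := by
        refine (Submodule.mem_bot F).1 (hφ ▸ Submodule.mem_map_of_mem (Submodule.subset_span ?_))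
        exact ⟨χ, by show Cfsg.IsDefectGroup p M _ D; rwa [← block_eq_blockOf hM hB hχ], rfl⟩
      have hexp : φ (W χ) = ∑ j, W χ j * φ (Pi.single j 1) := by
        conv_lhs => rw [pi_eq_sum_univ' (W χ), map_sum]
        simp
      rw [hexp] at hval
      simp only [← hc, W, ← map_mul, ← map_sum] at hval
      rw [Ideal.Quotient.eq_zero_iff_mem, ← ideal_coe_iff hM] at hval
      refine (iff_of_eq (congrArg (Cfsg.MemLocalIdeal M) ?_)).1 hval
      simp [lift, mul_comm]
    apply hφ0
    refine LinearMap.pi_ext' fun j => LinearMap.ext_ring ?_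
    simp only [LinearMap.coe_comp, Function.comp_apply, LinearMap.single_apply,
      LinearMap.zero_apply]
    rw [← hc j, Ideal.Quotient.eq_zero_iff_mem, ← ideal_coe_iff hM]
    exact hcr j
  obtain ⟨b, hbsub, hbspan, hbli⟩ := exists_linearIndependent F (W '' good)
  rw [hspan] at hbspan
  let bas : Module.Basis b F (Fin r → F) := Module.Basis.mk hbli (by rw [Subtype.range_coe, hbspan])
  let e : Fin r ≃ b := ((bas.indexEquiv (Pi.basisFun F (Fin r))).symm)
  choose ψ hψ hψW using fun i : Fin r => hbsub (e i).2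
  have hWcong : ∀ (i : Fin r) (χ : Cfsg.IrrCharacter G),
      χ ∈ Cfsg.blockOf M (ψ i : G → ℂ) → W χ = (e i : Fin r → F) := by
    intro i χ hχ
    rw [← hψW i]
    funext j
    refine Ideal.Quotient.eq.2 ((ideal_coe_iff hM _).1 ?_)
    exact ((cong_symm hM (hχ (x j)) : Cong M _ _))
  refine ⟨fun i => Cfsg.blockOf M (ψ i : G → ℂ), fun i j hij => ?_,
    fun i => ⟨isPBlock_blockOf M _, hψ i⟩, fun χ hχ => ?_⟩
  · have h1 := hWcong i (ψ i) (mem_blockOf_self hM _)
    have h2 := hWcong j (ψ i) (by
      have := mem_blockOf_self hM (ψ i); exact (Set.ext_iff.1 hij _).1 this)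
    exact e.injective (Subtype.ext (h1.symm.trans h2))
  · intro hdet
    have hunit : IsUnit (Matrix.of fun i j => W (χ i) j : Matrix (Fin r) (Fin r) F) := by
      rw [← Matrix.linearIndependent_rows_iff_isUnit]
      have hrow : (Matrix.of fun i j => W (χ i) j : Matrix (Fin r) (Fin r) F).row =
          ((↑) : b → Fin r → F) ∘ e := funext fun i => hWcong i (χ i) (hχ i).1
      rw [hrow]
      exact hbli.comp _ e.injective
    refine (Matrix.isUnit_iff_isUnit_det _).1 hunit |>.ne_zero ?_
    have hmap : (Matrix.of fun i j => W (χ i) j : Matrix (Fin r) (Fin r) F) =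
        (Ideal.Quotient.mk M).mapMatrix (Matrix.of fun i j => lift (χ i) j) := rfl
    rw [hmap, ← RingHom.map_det, Ideal.Quotient.eq_zero_iff_mem, ← ideal_coe_iff hM]
    have hcoe : ((Matrix.of fun i j => lift (χ i) j).det : ℂ) =
        (Matrix.of fun i j => Cfsg.centralChar (χ i : G → ℂ) (x j)).det := by
      show Subalgebra.val (Cfsg.AlgInt) _ = _
      rw [AlgHom.map_det]
      rfl
    rw [hcoe]
    have hscale : (Matrix.of fun i j => Cfsg.centralChar (χ i : G → ℂ) (x j)).det =
        (∏ i, ((Subgroup.centralizer ({x i} : Set G)).index : ℂ) /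
          ((Cfsg.charDegree (χ i : G → ℂ) : ℕ) : ℂ)) *
          (Matrix.of fun i j => (χ i : G → ℂ) (x j)).det := by
      rw [Finset.prod_div_distrib, div_mul_eq_mul_div, eq_div_iff (Finset.prod_ne_zero_iff.2
        fun i _ => Nat.cast_ne_zero.2 (charDegree_pos (χ i)).ne'), mul_comm,
        ← Matrix.det_mul_column, ← Matrix.det_mul_row]
      congr 1
      ext i j
      simp only [Matrix.of_apply, Cfsg.centralChar, charDegree_cast]
      field_simp [irr_one_ne_zero (χ i).2]
    rw [hscale]
    refine ideal_mul_left hM (Finset.prod_induction _ (Cfsg.MemLocalRing M)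
      (fun a b => ring_mul hM) (ring_one hM) fun i _ => ?_) hdet
    refine ring_natCast_div hM (charDegree_pos (χ i)).ne' ?_
    have hdeg := degree_factorization_eq hM (isPBlock_blockOf M (ψ i)) (hχ i).1
    rw [(hχ i).2] at hdeg
    have hcard := card_defectGroup hM (isPBlock_blockOf M (ψ i)) (hψ i)
    rw [card_sylCent_eq (hS i)] at hcard
    have hexp := Nat.pow_right_injective hM.1.two_le hcard
    have := factorization_index_add (Subgroup.centralizer ({x i} : Set G)) p
    omega

end Cfsg.Agent.S4741
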