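import Cfsg.Statements.S4742
import Cfsg.Agent.BlocksChars.DefectZero

set_option autoImplicit false
open Cfsg

namespace Cfsg.Agent.S4742

/-- Let p ≠ q be primes dividing the order of the finite group G, and suppose the centralizer of every non-identity p-element of G has order prime to q. Then either G has an irreducible character of p-defect zero, or for every non-identity q-element z of G there are conjugates g, h of z such that g h⁻¹ is a non-identity p-element. -/
theorem result {G : Type*} [Group G] [Finite G] (p q : ℕ) [Fact p.Prime] [Fact q.Prime] (hppq : p ≠ q) (hpG : p ∣ Nat.card G) (hqG : q ∣ Nat.card G) (hC : ∀ g : G, g ≠ 1 → (∃ k : ℕ, orderOf g = p ^ k) → ¬ q ∣ Nat.card ↥(Subgroup.centralizer ({g} : Set G))) : (∃ χ : Cfsg.IrrCharacter G, (Cfsg.charDegree (χ : G → ℂ)).factorization p = (Nat.card G).factorization p) ∨ ∀ z : G, z ≠ 1 → (∃ k : ℕ, orderOf z = q ^ k) → ∃ g h : G, IsConj z g ∧ IsConj z h ∧ g * h⁻¹ ≠ 1 ∧ ∃ k : ℕ, orderOf (g * h⁻¹) = p ^ k := by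
  by_contra hcon
  push Not at hcon
  obtain ⟨hdz, z, hz1, hz, hneg⟩ := hcon
  have hp : ¬ p ∣ Nat.card ↥(Subgroup.centralizer ({z} : Set G)) := by
    intro hdvd
    obtain ⟨u, hu⟩ := exists_prime_orderOf_dvd_card' p hdvd
    have hu' : orderOf (u : G) = p := by rw [Subgroup.orderOf_coe]; exact hu
    have hu1 : (u : G) ≠ 1 := fun h => by
      rw [h, orderOf_one] at hu'; exact (Fact.out : p.Prime).ne_one hu'.symm
    refine hC u hu1 ⟨1, by rw [hu', pow_one]⟩ ?_
    obtain ⟨k, hk⟩ := hz
    have hk0 : k ≠ 0 := fun h => hz1 (orderOf_eq_one_iff.1 (by rw [hk, h, pow_zero]))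
    have hmem : z ∈ Subgroup.centralizer ({(u : G)} : Set G) :=
      Subgroup.mem_centralizer_singleton_iff.2 (Subgroup.mem_centralizer_singleton_iff.1 u.2).symm
    refine (dvd_pow_self q hk0).trans ?_
    rw [← hk, ← Subgroup.orderOf_mk z hmem]
    exact orderOf_dvd_natCard _
  rcases BlocksChars.DefectZero.exists_quotient_or_defectZero (p := p) hp with
    ⟨χ, hχ⟩ | ⟨g, h, hg, hh, hne, k, hk⟩
  · exact hdz χ hχ
  · exact hneg g h hg hh hne k hk

end Cfsg.Agent.S4742
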