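import Cfsg.Statements.S4744
import Cfsg.Agent.BlocksChars.DefectZero
import Cfsg.Agent.BlocksChars.InvertedSylow

set_option autoImplicit false
open Cfsg

namespace Cfsg.Agent.S4744

/-- Let p be an odd prime and G a finite group of even order divisible by p in which the centralizer of every non-identity p-element has odd order. Then either G has an irreducible character of p-defect zero, or the normalizer of every Sylow p-subgroup P of G has even order and P is abelian. -/
theorem result {G : Type*} [Group G] [Finite G] (p : ℕ) [Fact p.Prime] (hp2 : p ≠ 2) (hpG : p ∣ Nat.card G) (h2G : 2 ∣ Nat.card G) (hC : ∀ g : G, g ≠ 1 → (∃ k : ℕ, orderOf g = p ^ k) → Odd (Nat.card ↥(Subgroup.centralizer ({g} : Set G)))) : (∃ χ : Cfsg.IrrCharacter G, (Cfsg.charDegree (χ : G → ℂ)).factorization p = (Nat.card G).factorization p) ∨ ∀ P : Sylow p G, Even (Nat.card ↥(Subgroup.normalizer ((P : Subgroup G) : Set G))) ∧ IsMulCommutative ↥(P : Subgroup G) := by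
  obtain ⟨t, ht⟩ := exists_prime_orderOf_dvd_card' 2 h2G
  have hp : ¬ p ∣ Nat.card ↥(Subgroup.centralizer ({t} : Set G)) := by
    intro hdvd
    obtain ⟨u, hu⟩ := exists_prime_orderOf_dvd_card' p hdvd
    have hu' : orderOf (u : G) = p := by rw [Subgroup.orderOf_coe]; exact hu
    have hu1 : (u : G) ≠ 1 := fun h => by
      rw [h, orderOf_one] at hu'; exact (Fact.out : p.Prime).ne_one hu'.symm
    exact BlocksChars.InvertedSylow.not_commute hC hu1 ⟨1, by rw [hu', pow_one]⟩ ht
      (Subgroup.mem_centralizer_singleton_iff.1 u.2).symm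
  refine (BlocksChars.DefectZero.exists_quotient_or_defectZero (p := p) hp).imp id ?_
  rintro ⟨g, h, hg, hh, hne, hk⟩ P
  obtain ⟨cg, hcg⟩ := isConj_iff.1 hg
  obtain ⟨ch, hch⟩ := isConj_iff.1 hh
  have hg2 : orderOf g = 2 := by rw [← hcg, Involutions.Basic.orderOf_conj, ht]
  have hh2 : orderOf h = 2 := by rw [← hch, Involutions.Basic.orderOf_conj, ht]
  have hinv : g * (g * h⁻¹) * g⁻¹ = (g * h⁻¹)⁻¹ := by
    rw [mul_inv_rev, inv_inv, Involutions.Basic.inv_eq hg2, Involutions.Basic.inv_eq hh2,
      ← mul_assoc, Involutions.Basic.inv_sq_one hg2, one_mul]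
  obtain ⟨c, hc⟩ := BlocksChars.InvertedSylow.sylow_of_inverted hC hg2 hne hk hinv P
  refine ⟨BlocksChars.InvertedSylow.even_card_normalizer ?_ hc, hc.isMulCommutative⟩
  rw [Involutions.Basic.orderOf_conj, hg2]

end Cfsg.Agent.S4744
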