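import Cfsg.Statements.S4745
import Cfsg.Agent.BlocksChars.OnePointInvolution
import Cfsg.Agent.S0215
import Cfsg.Agent.S4739

/-!
Without a character of `p`-defect zero every point is fixed by exactly one involution, so each
involution is isolated, `G / O(G)` has order prime to `p` by Glauberman's theorem and the odd order
theorem makes the Sylow `p`-subgroup normal.
-/

set_option autoImplicit false
set_option linter.style.haveILetI false
open Cfsg

namespace Cfsg.Agent.S4745

open Cfsg.Agent.BlocksChars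
open Cfsg.Agent.BlocksChars.OnePointInvolution
open Cfsg.Agent.Involutions

universe u v

variable {G : Type u} [Group G] [Finite G] {Ω : Type v} [MulAction G Ω] [FaithfulSMul G Ω]
  [Finite Ω] [MulAction.IsPretransitive G Ω] {p : ℕ} [Fact p.Prime]

/-- No nontrivial `p'`-subgroup is normalised by a Sylow `p`-subgroup. -/
theorem eq_bot_of_normalized {r : ℕ} (hΩ : Nat.card Ω = p ^ r) (Q : Sylow p G) {W : Subgroup G}
    (hW : ¬ p ∣ Nat.card W) (hQW : (Q : Subgroup G) ≤ Subgroup.normalizer (W : Set G)) : W = ⊥ := by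
  rw [Subgroup.eq_bot_iff_forall]
  intro w hw
  refine eq_of_smul_eq_smul fun ω : Ω => ?_
  rw [one_smul]
  set T := W ⊔ (Q : Subgroup G) with hT
  have hWT : W ≤ T := le_sup_left
  haveI : (W.subgroupOf T).Normal :=
    Subgroup.normal_subgroupOf_of_le_normalizer (sup_le Subgroup.le_normalizer hQW)
  haveI : MulAction.IsPretransitive T Ω := ⟨fun x y => by
    obtain ⟨q, hq, hqx⟩ := OnePointInvolution.exists_smul_eq hΩ Q x y
    exact ⟨⟨q, (le_sup_right : (Q : Subgroup G) ≤ T) hq⟩, hqx⟩⟩
  set K := MulAction.stabilizer T ω with hK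
  have hidx : K.index = p ^ r := by rw [hK, MulAction.index_stabilizer_of_transitive T ω, hΩ]
  have h1 : K.relIndex (W.subgroupOf T) ∣ p ^ r := by
    have h := (Subgroup.relIndex_mul_relIndex (K ⊓ W.subgroupOf T) K (K ⊔ W.subgroupOf T)
      inf_le_left le_sup_left).trans (Subgroup.relIndex_mul_relIndex (K ⊓ W.subgroupOf T)
      (W.subgroupOf T) (K ⊔ W.subgroupOf T) inf_le_right le_sup_right).symm
    rw [Subgroup.inf_relIndex_left, Subgroup.inf_relIndex_right, Subgroup.relIndex_sup_right,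
      mul_comm] at h
    rw [← Nat.eq_of_mul_eq_mul_right (Nat.pos_of_ne_zero Subgroup.FiniteIndex.index_ne_zero) h,
      ← hidx]
    exact Dvd.intro _ (Subgroup.relIndex_mul_index le_sup_left)
  have h2 : K.relIndex (W.subgroupOf T) ∣ Nat.card (W.subgroupOf T) :=
    Subgroup.index_dvd_card (K.subgroupOf (W.subgroupOf T))
  rw [Nat.card_congr (Subgroup.subgroupOfEquivOfLe hWT).toEquiv] at h2
  have h3 : K.relIndex (W.subgroupOf T) = 1 := Nat.eq_one_of_dvd_coprimes
    (((Fact.out : p.Prime).coprime_iff_not_dvd.2 hW).pow_left r) h1 h2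
  exact (Subgroup.relIndex_eq_one.1 h3 (x := ⟨w, hWT hw⟩) hw : _)

theorem main (hp2 : p ≠ 2) (hpG : p ∣ Nat.card G) (h2G : 2 ∣ Nat.card G)
    (hC : InvertedSylow.OddCentralizers p G) (hdz : ¬ DefectZero.HasDefectZero p G) {r : ℕ}
    (hΩ : Nat.card Ω = p ^ r) :
    Cfsg.IsPSolvable p G ∧ ∃ χ : Cfsg.IrrCharacter G,
      (Cfsg.charDegree (χ : G → ℂ)).factorization 2 = (Nat.card G).factorization 2 := by
  classical
  haveI : Fact (Nat.Prime 2) := ⟨Nat.prime_two⟩
  have hp : p.Prime := Fact.out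
  obtain ⟨s, hs⟩ := exists_prime_orderOf_dvd_card' (G := G) 2 h2G
  obtain ⟨hinv, -⟩ := inverts_and_conj hC hdz
  obtain ⟨P, hP⟩ := hinv s hs
  have hab : ∀ Q : Sylow p G, IsMulCommutative (Q : Subgroup G) := by
    intro Q
    obtain ⟨g, hg⟩ := MulAction.exists_smul_eq G P Q
    have h := hP.conj g
    rw [← Coprime.conj_smul_eq_map, ← Sylow.coe_subgroup_smul, hg] at h
    exact h.isMulCommutative
  have hnorm : ∀ a : G, a ≠ 1 → (∃ k : ℕ, orderOf a = p ^ k) → ∃ Q : Sylow p G,
      Subgroup.centralizer ({a} : Set G) ≤ Subgroup.normalizer ((Q : Subgroup G) : Set G) := by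
    intro a ha1 hk
    obtain ⟨k, hk'⟩ := hk
    obtain ⟨Q, hQ⟩ := (IsPGroup.of_card (p := p) (n := k) (G := ↥(Subgroup.zpowers a))
      (by rw [Nat.card_zpowers, hk'])).exists_le_sylow
    have haQ : a ∈ (Q : Subgroup G) := hQ (Subgroup.mem_zpowers a)
    refine ⟨Q, ?_⟩
    have h := S4739.centralizer_le_sup Q (hab Q) (S0205.result (hC a ha1 ⟨k, hk'⟩)) haQ
    have hQC : (Q : Subgroup G) ≤ Subgroup.centralizer ({a} : Set G) := fun x hx =>
      Subgroup.mem_centralizer_singleton_iff.2
        (congrArg Subtype.val ((hab Q).is_comm.comm (⟨x, hx⟩ : (Q : Subgroup G)) ⟨a, haQ⟩))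
    rwa [eq_bot_of_normalized hΩ Q (W := Cfsg.centralizerPPrimeCore p a)
      (hp.coprime_iff_not_dvd.1 (Components.Balance.centralizerPPrimeCore_coprime p a).symm)
      (hQC.trans (Components.Balance.le_normalizer_centralizerPPrimeCore p a)), bot_sup_eq] at h
  have hcommeq : ∀ z t : G, orderOf z = 2 → orderOf t = 2 → z * t = t * z → z = t := by
    intro z t hz ht hzt
    obtain ⟨l, hl, huniq⟩ := existsUnique_fixed (Ω := Ω) hp2 hC hdz hΩ ht
    have hzl : z • l = l := huniq _ (show t • z • l = z • l by rw [← mul_smul, ← hzt, mul_smul, hl])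
    exact eq_of_fixed hp2 hC hdz hΩ hnorm hz ht hzl hl
  -- every involution is isolated
  obtain ⟨S, hS⟩ := (IsPGroup.of_card (p := 2) (n := 1) (G := ↥(Subgroup.zpowers s))
    (by rw [Nat.card_zpowers, hs, pow_one])).exists_le_sylow
  have hsS : s ∈ (S : Subgroup G) := hS (Subgroup.mem_zpowers s)
  have hiso : ∀ g : G, g * s * g⁻¹ ∈ (S : Subgroup G) → g * s * g⁻¹ = s := by
    intro g hg
    haveI : Nontrivial ↥(S : Subgroup G) :=
      ⟨⟨⟨s, hsS⟩, 1, fun h => Basic.ne_one hs (congrArg Subtype.val h)⟩⟩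
    haveI := S.2.center_nontrivial
    obtain ⟨k, hk0, hk⟩ := (S.2.to_subgroup (Subgroup.center ↥(S : Subgroup G))).exists_card_eq
      |> fun ⟨k, hk⟩ => (⟨k, fun h => by
        rw [h, pow_zero] at hk; exact (Finite.one_lt_card (α := Subgroup.center ↥(S : Subgroup G))).ne'
          hk, hk⟩ : ∃ k, k ≠ 0 ∧ Nat.card (Subgroup.center ↥(S : Subgroup G)) = 2 ^ k)
    obtain ⟨z, hz⟩ := exists_prime_orderOf_dvd_card' (G := Subgroup.center ↥(S : Subgroup G)) 2
      (hk ▸ dvd_pow_self 2 hk0)
    have hz' : orderOf ((z : ↥(S : Subgroup G)) : G) = 2 := by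
      rw [Subgroup.orderOf_coe, Subgroup.orderOf_coe]; exact hz
    have hzc : ∀ x ∈ (S : Subgroup G), x * ((z : ↥(S : Subgroup G)) : G) =
        ((z : ↥(S : Subgroup G)) : G) * x := fun x hx =>
      congrArg Subtype.val (Subgroup.mem_center_iff.1 z.2 ⟨x, hx⟩)
    have hzs := hcommeq _ s hz' hs (hzc s hsS).symm
    refine hcommeq _ s (by rw [Basic.orderOf_conj, hs]) hs ?_
    have := hzc _ hg
    rwa [hzs] at this
  obtain ⟨N, hN, hNodd, hNc⟩ := S0215.result S s hs hsS hiso
  haveI := hN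
  -- `G = N C(s)`
  set C := Subgroup.centralizer ({s} : Set G) with hCdef
  have htop : N ⊔ C = ⊤ := by
    refine eq_top_iff.2 fun g _ => ?_
    set t := g * s * g⁻¹ with ht
    have ht2 : orderOf t = 2 := by rw [ht, Basic.orderOf_conj, hs]
    have hst : s * t ∈ N := by
      have h := hNc g
      rw [ht]
      rw [Basic.inv_eq hs] at h
      rwa [show s * (g * s * g⁻¹) = s * g * s * g⁻¹ by group]
    obtain ⟨c, hc, hcs⟩ := Basic.exists_conj_of_odd hs ht2
      (hNodd.of_dvd_nat (Subgroup.orderOf_mk _ hst ▸ orderOf_dvd_natCard _))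
    have hcN : c ∈ N := Subgroup.zpowers_le.2 hst hc
    have hcg : c⁻¹ * g ∈ C := by
      rw [hCdef, Subgroup.mem_centralizer_singleton_iff]
      calc c⁻¹ * g * s = c⁻¹ * t * g := by rw [ht]; group
        _ = s * (c⁻¹ * g) := by rw [← hcs]; group
    rw [show g = c * (c⁻¹ * g) by group]
    exact mul_mem (Subgroup.mem_sup_left hcN) (Subgroup.mem_sup_right hcg)
  have hidx : ¬ p ∣ N.index := by
    intro hdvd
    rw [← Subgroup.relIndex_top_right, ← htop, sup_comm, Subgroup.relIndex_sup_right] at hdvd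
    have hd : N.relIndex C ∣ Nat.card C := Subgroup.index_dvd_card (N.subgroupOf C)
    obtain ⟨u, hu⟩ := exists_prime_orderOf_dvd_card' p (hdvd.trans hd)
    have hu' : orderOf (u : G) = p := by rw [Subgroup.orderOf_coe]; exact hu
    have hu1 : (u : G) ≠ 1 := fun h => by rw [h, orderOf_one] at hu'; exact hp.ne_one hu'.symm
    exact InvertedSylow.not_commute hC hu1 ⟨1, by rw [hu', pow_one]⟩ hs
      (Subgroup.mem_centralizer_singleton_iff.1 u.2).symm
  have hle : ∀ Q : Sylow p G, (Q : Subgroup G) ≤ N := by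
    intro Q x hx
    rw [← QuotientGroup.eq_one_iff (N := N) x, ← orderOf_eq_one_iff]
    obtain ⟨k, hk⟩ := InvertedSylow.exists_orderOf_eq_pow Q.2 hx
    refine Nat.eq_one_of_dvd_coprimes ((hp.coprime_iff_not_dvd.2 hidx).pow_left k)
      (hk ▸ orderOf_map_dvd (QuotientGroup.mk' N) x) ?_
    rw [Subgroup.index_eq_card]
    exact orderOf_dvd_natCard _
  haveI : Group.IsSolvable N := S0205.result hNodd
  have hQN : ∀ Q : Sylow p G, ((Q.subtype (hle Q) : Sylow p N) : Subgroup N).Normal := by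
    intro Q
    have hQab : IsMulCommutative ((Q.subtype (hle Q) : Sylow p N) : Subgroup N) :=
      ⟨⟨fun x y => Subtype.ext (Subtype.ext
        (congrArg Subtype.val ((hab Q).is_comm.comm (⟨_, x.2⟩ : (Q : Subgroup G)) ⟨_, y.2⟩) :))⟩⟩
    have h := S0018.result p (Q.subtype (hle Q)) hQab
    have hW : (Cfsg.pPrimeCore p N).map N.subtype = ⊥ := by
      refine eq_bot_of_normalized hΩ Q ?_ ((hle Q).trans ?_)
      · rw [Subgroup.card_map_of_injective N.subtype_injective]
        exact hp.coprime_iff_not_dvd.1 (Cores.pPrimeCore_card_coprime p).symm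
      · refine Subgroup.le_normalizer_of_normal_subgroupOf (hK := ?_) (Subgroup.map_subtype_le _)
        rw [Subgroup.subgroupOf, Subgroup.comap_map_eq_self_of_injective N.subtype_injective]
        infer_instance
    rw [Subgroup.map_eq_bot_iff_of_injective _ N.subtype_injective] at hW
    rwa [hW, sup_bot_eq] at h
  have huniq : ∀ Q Q' : Sylow p G, Q = Q' := by
    intro Q Q'
    haveI := Sylow.unique_of_normal (Q.subtype (hle Q)) (hQN Q)
    exact Sylow.subtype_injective (hP := hle Q) (hQ := hle Q') (Subsingleton.elim _ _)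
  haveI hPn : (P : Subgroup G).Normal := by
    haveI : Subsingleton (Sylow p G) := ⟨huniq⟩
    exact Sylow.normal_of_subsingleton P
  refine ⟨⟨2, ![⊥, (P : Subgroup G), ⊤], rfl, rfl, ?_, ?_, ?_⟩, ?_⟩
  · refine Fin.monotone_iff_le_succ.2 fun i => ?_
    fin_cases i
    · exact bot_le
    · exact le_top
  · intro i
    fin_cases i
    · exact (inferInstance : (⊥ : Subgroup G).Normal)
    · exact hPn
    · exact (inferInstance : (⊤ : Subgroup G).Normal)
  · intro i
    fin_cases i
    · left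
      obtain ⟨m, hm⟩ := IsPGroup.iff_card.1 P.2
      exact ⟨m, (Subgroup.relIndex_bot_left _).trans hm⟩
    · right
      show ((P : Subgroup G).relIndex ⊤).Coprime p
      rw [Subgroup.relIndex_top_right]
      exact (hp.coprime_iff_not_dvd.2 P.not_dvd_index).symm
  · obtain ⟨x, hx⟩ := exists_prime_orderOf_dvd_card' (G := ↥(P : Subgroup G)) p
      (P.dvd_card_of_dvd_card hpG)
    have hx' : orderOf (x : G) = p := by rw [Subgroup.orderOf_coe]; exact hx
    have hx1 : (x : G) ≠ 1 := fun h => by rw [h, orderOf_one] at hx'; exact hp.ne_one hx'.symm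
    obtain ⟨R⟩ : Nonempty (Sylow 2 G) := inferInstance
    obtain ⟨χ, hχ⟩ := Degrees.exists_degree_dvd Nat.prime_two (x : G) (R : Subgroup G)
      R.card_eq_multiplicity (by
        intro z hz hz1 g hg hgz
        obtain ⟨c, hc⟩ := isConj_iff.1 hg
        obtain ⟨c', hc'⟩ := isConj_iff.1 hgz
        have h1 : g ∈ (P : Subgroup G) := hc ▸ hPn.conj_mem _ x.2 c
        have h2 : g⁻¹ * z ∈ (P : Subgroup G) := hc' ▸ hPn.conj_mem _ (inv_mem x.2) c'
        have h3 : z ∈ (P : Subgroup G) := by
          have := mul_mem h1 h2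
          rwa [mul_inv_cancel_left] at this
        refine hz1 (Subgroup.mem_bot.1 ?_)
        rw [← disjoint_iff.1 (IsPGroup.disjoint_of_ne p 2 hp2 _ _ P.2 R.2)]
        exact ⟨h3, hz⟩)
    refine ⟨χ, DefectZero.factorization_eq_of_pow_dvd χ ?_⟩
    rwa [Nat.factorization_eq_zero_of_not_dvd (fun h => Nat.not_even_iff_odd.2
      (hC x hx1 ⟨1, by rw [hx', pow_one]⟩) (even_iff_two_dvd.2 h)), Nat.sub_zero] at hχ

/-- Let p be an odd prime and G a finite group of even order divisible by p in which the centralizer of every non-identity p-element has odd order, and suppose G acts faithfully and transitively on a set with p ^ r elements, r ≥ 1. Then either G has an irreducible character of p-defect zero, or G is p-solvable and has an irreducible character of 2-defect zero. -/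
theorem result {G Ω : Type*} [Group G] [Finite G] [MulAction G Ω] [FaithfulSMul G Ω] [Fintype Ω] (htr : MulAction.IsPretransitive G Ω) (p : ℕ) [Fact p.Prime] (hp2 : p ≠ 2) (hpG : p ∣ Nat.card G) (h2G : 2 ∣ Nat.card G) (hC : ∀ g : G, g ≠ 1 → (∃ k : ℕ, orderOf g = p ^ k) → Odd (Nat.card ↥(Subgroup.centralizer ({g} : Set G)))) (r : ℕ) (hr : 1 ≤ r) (hΩ : Fintype.card Ω = p ^ r) : (∃ χ : Cfsg.IrrCharacter G, (Cfsg.charDegree (χ : G → ℂ)).factorization p = (Nat.card G).factorization p) ∨ (Cfsg.IsPSolvable p G ∧ ∃ χ : Cfsg.IrrCharacter G, (Cfsg.charDegree (χ : G → ℂ)).factorization 2 = (Nat.card G).factorization 2) := by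
  by_cases hdz : DefectZero.HasDefectZero p G
  · exact Or.inl hdz
  · exact Or.inr (main (Ω := Ω) hp2 hpG h2G hC hdz (by rw [Nat.card_eq_fintype_card, hΩ]))

end Cfsg.Agent.S4745
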