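import Cfsg.Statements.S4748
import Mathlib
import Cfsg.Agent.BlocksChars.TICharDegree
import Cfsg.Agent.Lib.Coprime.Sylow
import Cfsg.Agent.Lib.Blocks.PGroupSum
-- import your own Cfsg.Agent.* helpers here

set_option autoImplicit false
open scoped Pointwise
open Cfsg

namespace Cfsg.Agent.S4748

open Cfsg.Agent.Characters Cfsg.Agent.BlocksChars.TICharDegree
open scoped ComplexConjugate commutatorElement

/-- Restriction to a `p'`-subgroup of class two with fixed-point-free coprime action: a faithful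
character has squared degree bigger than the acting group. -/
theorem card_lt_deg_sq {G : Type*} [Group G] [Finite G] {p : ℕ} [Fact p.Prime] {P R : Subgroup G}
    (hP : IsPGroup p P) (hPne : P ≠ ⊥) (hRne : R ≠ ⊥) (hPR : P ≤ Subgroup.normalizer (R : Set G))
    (hR : ¬ p ∣ Nat.card R) (h2 : commutator R ≤ Subgroup.center R)
    (hfix : ∀ g ∈ P, g ≠ 1 → ∀ r : R, g * (r : G) * g⁻¹ = r → r ∈ commutator R)
    {χ : G → ℂ} (hχ : Cfsg.IsCharacter G χ) (hfaith : ∀ g : G, χ g = χ 1 → g = 1) :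
    Nat.card P < Cfsg.charDegree χ ^ 2 := by
  classical
  haveI := Fintype.ofFinite G
  haveI : Fintype R := Fintype.ofFinite R
  haveI := Fintype.ofFinite (Cfsg.IrrCharacter R)
  let σ : P →* MulAut R :=
    (R.normalizerMonoidHom).comp (Subgroup.inclusion hPR)
  have hσ : ∀ (g : P) (r : R), ((σ g r : R) : G) = (g : G) * r * (g : G)⁻¹ := fun g r => rfl
  letI : MulAction P (Cfsg.IrrCharacter R) :=
    { smul := fun g θ => irrAutEquiv (σ g⁻¹) θ
      one_smul := fun θ => by
        apply Subtype.ext; funext r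
        show (θ : R → ℂ) (σ (1 : P)⁻¹ r) = _
        rw [inv_one, map_one]; rfl
      mul_smul := fun g h θ => by
        apply Subtype.ext; funext r
        show (θ : R → ℂ) (σ (g * h)⁻¹ r) = (θ : R → ℂ) (σ h⁻¹ (σ g⁻¹ r))
        rw [mul_inv_rev, map_mul]; rfl }
  have hsm : ∀ (g : P) (θ : Cfsg.IrrCharacter R) (r : R),
      ((g • θ : Cfsg.IrrCharacter R) : R → ℂ) r = (θ : R → ℂ) (σ g⁻¹ r) := fun g θ r => rfl
  set f : R → ℂ := fun r => χ r with hf
  have hfc : Cfsg.IsCharacter R f := isCharacter_restrict R hχ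
  have hn : ∀ θ : Cfsg.IrrCharacter R, ∃ n : ℕ,
      Cfsg.classInner f (θ : R → ℂ) = (n : ℂ) := fun θ =>
    classInner_char_nat hfc (irr_isCharacter θ)
  choose n hn using hn
  have hexp : ∀ r : R, f r = ∑ θ : Cfsg.IrrCharacter R, (n θ : ℂ) * (θ : R → ℂ) r := by
    intro r
    conv_lhs => rw [classFun_eq_sum (char_isClassFunction hfc)]
    simp [hn]
  have hninv : ∀ (g : P) (θ : Cfsg.IrrCharacter R), n (g • θ) = n θ := by
    intro g θ
    have h : Cfsg.classInner f ((g • θ : Cfsg.IrrCharacter R) : R → ℂ) =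
        Cfsg.classInner f (θ : R → ℂ) := by
      rw [classInner_def, classInner_def]
      congr 1
      refine Fintype.sum_equiv (σ g⁻¹).toEquiv _ _ fun r => ?_
      show f r * conj (((g • θ : Cfsg.IrrCharacter R) : R → ℂ) r) =
        f (σ g⁻¹ r) * conj ((θ : R → ℂ) (σ g⁻¹ r))
      rw [hsm]
      congr 1
      show χ r = χ (σ g⁻¹ r : R)
      rw [hσ, char_isClassFunction hχ]
    rw [hn, hn] at h
    exact_mod_cast h
  obtain ⟨θ, hθ, hnθ⟩ : ∃ θ : Cfsg.IrrCharacter R, θ ≠ trivIrr R ∧ n θ ≠ 0 := by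
    by_contra hcon
    push Not at hcon
    refine hRne (le_bot_iff.1 fun r hr => ?_)
    refine Subgroup.mem_bot.2 (hfaith r ?_)
    show f ⟨r, hr⟩ = f 1
    rw [hexp, hexp]
    refine Finset.sum_congr rfl fun θ _ => ?_
    by_cases h : θ = trivIrr R
    · rw [h]; simp
    · rw [hcon θ h]; simp
  have hdeg : ∀ ψ : Cfsg.IrrCharacter R, (ψ : R → ℂ) 1 = (Cfsg.charDegree (ψ : R → ℂ) : ℂ) := by
    intro ψ
    obtain ⟨m, -, hm⟩ := irr_one_pos ψ.2
    simp [Cfsg.charDegree, hm]
  have hdeg' : Cfsg.charDegree χ = ∑ ψ : Cfsg.IrrCharacter R, n ψ * Cfsg.charDegree (ψ : R → ℂ) := by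
    have h := hexp 1
    simp only [hdeg] at h
    have h1 : χ 1 = ((∑ ψ : Cfsg.IrrCharacter R, n ψ * Cfsg.charDegree (ψ : R → ℂ) : ℕ) : ℂ) := by
      push_cast; rw [← h]; rfl
    show ⌊(χ 1).re⌋₊ = _
    rw [h1, Complex.natCast_re, Nat.floor_natCast]
  set O := MulAction.orbit P θ
  have horb : Nat.card O * Cfsg.charDegree (θ : R → ℂ) ≤ Cfsg.charDegree χ := by
    rw [hdeg', Nat.card_eq_card_toFinset, ← smul_eq_mul, ← Finset.sum_const]
    refine le_trans ?_ (Finset.sum_le_sum_of_subset (Finset.subset_univ O.toFinset))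
    refine Finset.sum_le_sum fun ψ hψ => ?_
    obtain ⟨g, rfl⟩ := Set.mem_toFinset.1 hψ
    rw [hninv]
    have h1 : Cfsg.charDegree ((g • θ : Cfsg.IrrCharacter R) : R → ℂ) =
        Cfsg.charDegree (θ : R → ℂ) := by
      unfold Cfsg.charDegree
      rw [hsm, map_one]
    rw [h1]
    exact Nat.le_mul_of_pos_left _ (Nat.pos_of_ne_zero hnθ)
  set S := MulAction.stabilizer P θ with hS
  have hOS : Nat.card O * Nat.card S = Nat.card P := by
    rw [Nat.card_congr (MulAction.orbitEquivQuotientStabilizer P θ), ← Subgroup.index_eq_card,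
      Subgroup.index_mul_card]
  have hbound := stabiliser_bound (σ.comp S.subtype) (hP.to_subgroup S) hR h2
    (fun g hg r hr => hfix (g : P) (g : P).2 (fun e => hg (Subtype.ext (Subtype.ext e))) r
      (congrArg Subtype.val hr))
    θ hθ (fun g r => by
      have h := congrArg (fun ψ : Cfsg.IrrCharacter R => (ψ : R → ℂ) r)
        (MulAction.mem_stabilizer_iff.1 (S.inv_mem g.2))
      simp only [hsm, inv_inv] at h
      exact h)
  have hθpos : 0 < Cfsg.charDegree (θ : R → ℂ) := by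
    obtain ⟨m, hm0, hm⟩ := irr_one_pos θ.2
    simpa [Cfsg.charDegree, hm] using hm0
  have hO0 : 0 < Nat.card O := Nat.pos_of_mul_pos_right (hOS ▸ Nat.card_pos)
  rcases hbound with h1 | h1
  · rw [h1, mul_one] at hOS
    have hP1 : 1 < Nat.card P := Subgroup.one_lt_card_iff_ne_bot P |>.2 hPne
    calc Nat.card P < Nat.card P ^ 2 := by nlinarith
      _ ≤ (Nat.card O * Cfsg.charDegree (θ : R → ℂ)) ^ 2 := by
          rw [← hOS]; exact Nat.pow_le_pow_left (Nat.le_mul_of_pos_right _ hθpos) 2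
      _ ≤ _ := Nat.pow_le_pow_left horb 2
  · calc Nat.card P = Nat.card O * Nat.card S := hOS.symm
      _ < Nat.card O * Cfsg.charDegree (θ : R → ℂ) ^ 2 := Nat.mul_lt_mul_of_pos_left h1 hO0
      _ ≤ (Nat.card O * Cfsg.charDegree (θ : R → ℂ)) ^ 2 := by
          rw [mul_pow]
          exact Nat.mul_le_mul_right _ (Nat.le_self_pow two_ne_zero _)
      _ ≤ _ := Nat.pow_le_pow_left horb 2

theorem le_normalizer_commutator {G : Type*} [Group G] {A H K : Subgroup G}
    (hH : A ≤ Subgroup.normalizer (H : Set G)) (hK : A ≤ Subgroup.normalizer (K : Set G)) :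
    A ≤ Subgroup.normalizer ((⁅H, K⁆ : Subgroup G) : Set G) := by
  refine Subgroup.le_normalizer_iff.2 fun a ha x hx => ?_
  have h : ⁅H, K⁆ ≤ (⁅H, K⁆ : Subgroup G).comap (MulAut.conj a).toMonoidHom :=
    Subgroup.commutator_le.2 fun y hy k hk => by
      rw [Subgroup.mem_comap, map_commutatorElement]
      exact Subgroup.commutator_mem_commutator ((Subgroup.mem_normalizer_iff.1 (hH ha) y).1 hy)
        ((Subgroup.mem_normalizer_iff.1 (hK ha) k).1 hk)
  exact h hx

theorem comp_iterate_eq {α β : Type*} {f : α → β} {g : α → α}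
    (h : ∀ x, f (g x) = f x) : ∀ (j : ℕ) (x : α), f (g^[j] x) = f x
  | 0, _ => rfl
  | j + 1, x => by rw [Function.iterate_succ_apply', h, comp_iterate_eq h j x]

/-- A minimal invariant subgroup not centralised by `z`, and its properties. -/
theorem exists_minimal {G : Type*} [Group G] [Finite G] {p : ℕ} [Fact p.Prime] {P K : Subgroup G}
    (hP : IsPGroup p P) (hPK : P ≤ Subgroup.normalizer (K : Set G)) (hK : ¬ p ∣ Nat.card K)
    (hTI : ∀ g ∈ P, g ≠ 1 → ∀ k ∈ K, g * k = k * g → k ∈ Subgroup.centralizer (P : Set G))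
    {z : G} (hzP : z ∈ P) (hzc : ∀ g ∈ P, g * z = z * g)
    (hzK : ¬ K ≤ Subgroup.centralizer ({z} : Set G)) :
    ∃ R : Subgroup G, R ≠ ⊥ ∧ P ≤ Subgroup.normalizer (R : Set G) ∧ ¬ p ∣ Nat.card R ∧
      commutator R ≤ Subgroup.center R ∧
      ∀ g ∈ P, g ≠ 1 → ∀ r : R, g * (r : G) * g⁻¹ = r → r ∈ commutator R := by
  classical
  have hex : ∃ n, ∃ R : Subgroup G, Nat.card R = n ∧ R ≤ K ∧ P ≤ Subgroup.normalizer (R : Set G) ∧
      ¬ R ≤ Subgroup.centralizer ({z} : Set G) := ⟨_, K, rfl, le_rfl, hPK, hzK⟩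
  obtain ⟨R, hRn, hRK, hPR, hRz⟩ := Nat.find_spec hex
  have hmin : ∀ T : Subgroup G, T ≤ R → P ≤ Subgroup.normalizer (T : Set G) → T ≠ R →
      T ≤ Subgroup.centralizer ({z} : Set G) := by
    intro T hT hPT hne
    by_contra h
    have h1 := Nat.find_min' hex ⟨T, rfl, hT.trans hRK, hPT, h⟩
    exact hne (Cfsg.Agent.Blocks.eq_of_le_of_card_le hT (by omega))
  have hpR : ¬ p ∣ Nat.card R := fun h => hK (h.trans (Subgroup.card_dvd_of_le hRK))
  have hcop : (Nat.card P).Coprime (Nat.card R) := by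
    obtain ⟨k, hk⟩ := IsPGroup.iff_card.1 hP
    rw [hk]
    exact Nat.Coprime.pow_left k ((Nat.Prime.coprime_iff_not_dvd Fact.out).2 hpR)
  haveI := hP.isNilpotent
  have hsolv : Group.IsSolvable P := inferInstance
  have hR0 : R ≠ ⊥ := fun h => hRz (h ▸ bot_le)
  -- `R` has prime power order
  have hRq : ∃ q, q.Prime ∧ IsPGroup q R := by
    by_contra hcon
    push Not at hcon
    apply hRz
    set H := R ⊓ Subgroup.centralizer ({z} : Set G)
    suffices h : Nat.card R ∣ Nat.card H by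
      have := Cfsg.Agent.Blocks.eq_of_le_of_card_le (inf_le_left : H ≤ R)
        (Nat.le_of_dvd Nat.card_pos h)
      exact this ▸ inf_le_right
    rw [← Nat.factorization_le_iff_dvd Nat.card_pos.ne' Nat.card_pos.ne']
    intro q
    by_cases hq : q.Prime
    swap
    · simp [Nat.factorization_eq_zero_of_not_prime _ hq]
    haveI := Fact.mk hq
    obtain ⟨T, hT⟩ := Coprime.exists_invariant_sylow q hPR hcop (Or.inl hsolv)
    have hle : (T : Subgroup R).map R.subtype ≤ Subgroup.centralizer ({z} : Set G) := by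
      refine hmin _ (Subgroup.map_subtype_le _) hT fun he => hcon q hq ?_
      have h := (T.isPGroup'.map R.subtype)
      rwa [he] at h
    have hd : q ^ (Nat.card R).factorization q ∣ Nat.card H := by
      rw [← T.card_eq_multiplicity, ← Subgroup.card_map_of_injective R.subtype_injective]
      exact Subgroup.card_dvd_of_le (le_inf (Subgroup.map_subtype_le _) hle)
    exact (hq.pow_dvd_iff_le_factorization Nat.card_pos.ne').1 hd
  obtain ⟨q, hq, hRq⟩ := hRq
  haveI := Fact.mk hq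
  haveI := hRq.isNilpotent
  haveI : Nontrivial R := (Subgroup.nontrivial_iff_ne_bot R).2 hR0
  set R' := (commutator R).map R.subtype with hR'
  have hR'z : R' ≤ Subgroup.centralizer ({z} : Set G) := by
    refine hmin _ (Subgroup.map_subtype_le _) ?_ ?_
    · intro g hg
      rw [hR', commutator_def, Subgroup.map_commutator, ← MonoidHom.range_eq_map,
        Subgroup.range_subtype]
      exact le_normalizer_commutator hPR hPR hg
    · intro h
      have htop : commutator R = ⊤ := Subgroup.map_injective R.subtype_injective (by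
        rw [← hR', h, ← MonoidHom.range_eq_map, Subgroup.range_subtype])
      exact (Group.IsSolvable.commutator_lt_top_of_nontrivial R).ne htop
  -- `R = ⁅R, z⁆`
  have hzR : z ∈ Subgroup.normalizer (R : Set G) := hPR hzP
  set A := Subgroup.zpowers z
  have hAR : A ≤ Subgroup.normalizer (R : Set G) := Subgroup.zpowers_le.2 hzR
  have hcopA : (Nat.card A).Coprime (Nat.card R) :=
    hcop.coprime_dvd_left (Subgroup.card_dvd_of_le (Subgroup.zpowers_le.2 hzP))
  have hAsolv : Group.IsSolvable A := Group.isSolvable_of_comm fun a b => by obtain ⟨i, hi⟩ := Subgroup.mem_zpowers_iff.1 a.2; obtain ⟨j, hj⟩ := Subgroup.mem_zpowers_iff.1 b.2; exact Subtype.ext (show (a : G) * b = b * a by rw [← hi, ← hj]; exact (Commute.refl z).zpow_zpow i j)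
  have hPA : P ≤ Subgroup.normalizer (A : Set G) := by
    intro g hg
    refine Subgroup.centralizer_le_normalizer _ (Subgroup.mem_centralizer_iff.2 fun y hy => ?_)
    obtain ⟨i, rfl⟩ := Subgroup.mem_zpowers_iff.1 hy
    exact (Commute.zpow_left (hzc g hg).symm i).eq
  have hW : ⁅R, A⁆ = R := by
    by_contra hne
    have hWR : ⁅R, A⁆ ≤ R := Coprime.commutator_le_of_le_normalizer hAR
    have hWz := hmin _ hWR (le_normalizer_commutator hPR hPA)
      hne
    have h0 : ⁅⁅R, A⁆, A⁆ = ⊥ := by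
      rw [Coprime.commutator_eq_bot_iff_le_centralizer', Subgroup.zpowers_le,
        Subgroup.mem_centralizer_iff]
      exact fun y hy => Subgroup.mem_centralizer_singleton_iff.1 (hWz hy)
    have hA := Coprime.le_centralizer_of_commutator_commutator_eq_bot hAR hcopA (Or.inl hAsolv) h0
    exact hRz fun r hr => Subgroup.mem_centralizer_singleton_iff.2
      (Subgroup.mem_centralizer_iff.1 (hA (Subgroup.mem_zpowers z)) r hr)
  -- class at most two
  have hR'c : ∀ w ∈ R', ∀ r ∈ R, w * r = r * w := by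
    intro w hw
    suffices R ≤ Subgroup.centralizer ({w} : Set G) from fun r hr =>
      (Subgroup.mem_centralizer_singleton_iff.1 (this hr)).symm
    rw [← hW]
    refine Subgroup.commutator_le.2 fun r hr a ha => Subgroup.mem_centralizer_singleton_iff.2 ?_
    have hR'n : r⁻¹ * w * r ∈ R' := by
      obtain ⟨w', hw', rfl⟩ := hw
      exact ⟨⟨r, hr⟩⁻¹ * w' * ⟨r, hr⟩,
        by simpa using (inferInstance : (commutator R).Normal).conj_mem w' hw' ⟨r, hr⟩⁻¹, rfl⟩
    have hcent : ∀ y ∈ R', a * y = y * a := by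
      intro y hy
      obtain ⟨i, rfl⟩ := Subgroup.mem_zpowers_iff.1 ha
      exact (Commute.zpow_left (Subgroup.mem_centralizer_singleton_iff.1 (hR'z hy)).symm i).eq
    have e1 : a⁻¹ * w * a = w := by rw [mul_assoc, ← hcent w hw, inv_mul_cancel_left]
    have e2 : a * (r⁻¹ * w * r) * a⁻¹ = r⁻¹ * w * r := by rw [hcent _ hR'n, mul_inv_cancel_right]
    calc r * a * r⁻¹ * a⁻¹ * w = r * a * r⁻¹ * (a⁻¹ * w * a) * r * r⁻¹ * a⁻¹ := by group
      _ = r * (a * (r⁻¹ * w * r) * a⁻¹) * (a * r⁻¹ * a⁻¹) := by rw [e1]; group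
      _ = w * (r * a * r⁻¹ * a⁻¹) := by rw [e2]; group
  -- fixed points lie in the derived subgroup
  refine ⟨R, hR0, hPR, hpR, fun w hw => Subgroup.mem_center_iff.2 fun r =>
    Subtype.ext (hR'c w ⟨w, hw, rfl⟩ r r.2).symm, fun g hg hg1 r hr => ?_⟩
  have hrP := hTI g hg hg1 r (hRK r.2) (mul_inv_eq_iff_eq_mul.1 hr)
  let τ : R →* R := ((R.normalizerMonoidHom ⟨z, hzR⟩ : MulAut R)).toMonoidHom
  have hτ : ∀ x : R, ((τ x : R) : G) = z * x * z⁻¹ := fun x => rfl
  set m := orderOf z with hm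
  let N : R →* Abelianization R :=
    { toFun := fun x => ∏ i ∈ Finset.range m, Abelianization.of ((τ^[i]) x)
      map_one' := by simp [iterate_map_one]
      map_mul' := fun a b => by simp [iterate_map_mul, Finset.prod_mul_distrib] }
  have hτpow : ∀ (i : ℕ) (x : R), (((τ^[i]) x : R) : G) = z ^ i * x * (z ^ i)⁻¹ := by
    intro i
    induction i with
    | zero => simp
    | succ i ih => intro x; rw [Function.iterate_succ_apply', hτ, ih, pow_succ']; group
  have hNτ : ∀ x, N (τ x) = N x := by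
    intro x
    have hper : (τ^[m]) x = x := Subtype.ext (by rw [hτpow, hm, pow_orderOf_eq_one]; simp)
    have h1 : (∏ i ∈ Finset.range m, Abelianization.of ((τ^[i]) (τ x))) * Abelianization.of x =
        (∏ i ∈ Finset.range m, Abelianization.of ((τ^[i]) x)) * Abelianization.of ((τ^[m]) x) := by
      rw [← Finset.prod_range_succ (fun i => Abelianization.of ((τ^[i]) x)), Finset.prod_range_succ']
      rfl
    rw [hper] at h1
    exact mul_right_cancel h1
  have hker : R ≤ N.ker.map R.subtype := by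
    conv_lhs => rw [← hW]
    refine Subgroup.commutator_le.2 fun x hx a ha => ?_
    obtain ⟨i, rfl⟩ := Subgroup.mem_zpowers_iff.1 ha
    set y : R := R.normalizerMonoidHom ⟨z ^ i, zpow_mem hzR i⟩ ⟨x, hx⟩ with hy
    have hyN : N y = N ⟨x, hx⟩ := by
      obtain ⟨j, hj⟩ : ∃ j : ℕ, z ^ i = z ^ j :=
        ⟨(i % (m : ℤ)).toNat, by
          rw [← zpow_natCast z (Int.toNat _), Int.toNat_of_nonneg (Int.emod_nonneg _
            (by exact_mod_cast (orderOf_pos z).ne')), hm, zpow_mod_orderOf]⟩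
      have : y = (τ^[j]) ⟨x, hx⟩ := Subtype.ext (by
        rw [hτpow]; show z ^ i * x * (z ^ i)⁻¹ = _; rw [hj])
      rw [this]
      exact comp_iterate_eq hNτ j ⟨x, hx⟩
    refine ⟨⟨x, hx⟩ * y⁻¹, MonoidHom.mem_ker.2 (by rw [map_mul, map_inv, hyN, mul_inv_cancel]), ?_⟩
    show x * (z ^ i * x * (z ^ i)⁻¹)⁻¹ = x * z ^ i * x⁻¹ * (z ^ i)⁻¹
    group
  have hNr : N r = 1 := by
    obtain ⟨r', hr', he⟩ := hker r.2
    rwa [← (Subtype.ext he : r' = r)]
  have hfix : ∀ i, (τ^[i]) r = r := by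
    intro i
    refine Subtype.ext ?_
    rw [hτpow, mul_inv_eq_iff_eq_mul]
    exact (Commute.pow_left (Subgroup.mem_centralizer_iff.1 hrP z hzP) i).eq
  have hpow : (Abelianization.of r) ^ m = 1 := by
    rw [← hNr]; show _ = ∏ i ∈ Finset.range m, _
    simp [hfix]
  have hord : (Abelianization.of r) ^ Nat.card R = 1 := by rw [← map_pow, pow_card_eq_one', map_one]
  have h1 : Abelianization.of r = 1 := orderOf_eq_one_iff.1 (Nat.eq_one_of_dvd_coprimes
    (hcop.coprime_dvd_left (by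
      rw [hm, ← Subgroup.orderOf_mk z hzP]; exact orderOf_dvd_natCard _))
    (orderOf_dvd_of_pow_eq_one hpow) (orderOf_dvd_of_pow_eq_one hord))
  exact (QuotientGroup.eq_one_iff r).1 h1

/-- Let G be a finite p-solvable group whose Sylow p-subgroup P meets each conjugate g P g⁻¹ with g outside N_G(P) trivially, and let χ be a faithful character of G (χ g = χ 1 only for g = 1) whose degree d satisfies d² ≤ |P|. Then P is normal in G. -/
theorem result {G : Type*} [Group G] [Finite G] (p : ℕ) [Fact p.Prime] (hsolv : Cfsg.IsPSolvable p G) (P : Sylow p G) (hTI : ∀ g : G, g ∉ Subgroup.normalizer ((P : Subgroup G) : Set G) → (P : Subgroup G) ⊓ (MulAut.conj g • (P : Subgroup G)) = ⊥) (χ : G → ℂ) (hχ : Cfsg.IsCharacter G χ) (hfaith : ∀ g : G, χ g = χ 1 → g = 1) (hdeg : Cfsg.charDegree χ ^ 2 ≤ Nat.card ↥(P : Subgroup G)) : (P : Subgroup G).Normal := by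
  classical
  by_contra hnorm
  haveI := Fintype.ofFinite G
  have hPp : IsPGroup p (P : Subgroup G) := P.isPGroup'
  have hO : Cfsg.pCore p G = ⊥ := by
    by_contra hne
    obtain ⟨x, hx, hx1⟩ := (Subgroup.bot_or_exists_ne_one _).resolve_left hne
    haveI : (Cfsg.pCore p G).Normal := Subgroup.sSup_normal _ fun _ h => h.1
    refine hnorm (Subgroup.normalizer_eq_top_iff.1 (eq_top_iff.2 fun g _ => ?_))
    by_contra hg
    have hle := Cfsg.Agent.Cores.pCore_le_sylow P
    have hmem : x ∈ (P : Subgroup G) ⊓ (MulAut.conj g • (P : Subgroup G)) := by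
      refine ⟨hle hx, ?_⟩
      show x ∈ MulAut.conj g • (P : Subgroup G)
      rw [Subgroup.mem_pointwise_smul_iff_inv_smul_mem, MulAut.smul_def, MulAut.inv_def,
        MulAut.conj_symm_apply]
      exact hle (by simpa using (inferInstance : (Cfsg.pCore p G).Normal).conj_mem x hx g⁻¹)
    rw [hTI g hg] at hmem
    exact hx1 hmem
  have hPne : (P : Subgroup G) ≠ ⊥ := fun h => hnorm (h ▸ inferInstance)
  set K := Cfsg.pPrimeCore p G with hK
  haveI : K.Normal := Cfsg.Agent.Cores.pPrimeCore_normal p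
  have hKp : ¬ p ∣ Nat.card K := Cfsg.Agent.Cores.pPrimeCore_not_dvd p
  have hCK := centralizer_pPrimeCore_le hsolv hO
  haveI : Nontrivial (P : Subgroup G) := (Subgroup.nontrivial_iff_ne_bot _).2 hPne
  haveI := hPp.center_nontrivial
  obtain ⟨⟨⟨z, hzP⟩, hzc⟩, hz1⟩ := exists_ne (1 : Subgroup.center (P : Subgroup G))
  have hz1' : z ≠ 1 := fun h => hz1 (Subtype.ext (Subtype.ext h))
  have hzK : ¬ K ≤ Subgroup.centralizer ({z} : Set G) := by
    intro h
    have hzKK : z ∈ K := hCK (Subgroup.mem_centralizer_iff.2 fun k hk =>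
      Subgroup.mem_centralizer_singleton_iff.1 (h hk))
    obtain ⟨k, hk⟩ := IsPGroup.iff_orderOf.1 hPp ⟨z, hzP⟩
    rw [Subgroup.orderOf_mk] at hk
    rcases Nat.eq_zero_or_pos k with rfl | hpos
    · exact hz1' (orderOf_eq_one_iff.1 (by rw [hk, pow_zero]))
    · refine hKp ((dvd_pow_self p hpos.ne').trans ?_)
      rw [← hk]
      exact Subgroup.orderOf_dvd_natCard K hzKK
  have hPK : (P : Subgroup G) ≤ Subgroup.normalizer (K : Set G) := by
    rw [Subgroup.normalizer_eq_top_iff.2 (inferInstance : K.Normal)]; exact le_top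
  have hfix : ∀ g ∈ (P : Subgroup G), g ≠ 1 → ∀ k ∈ K, g * k = k * g →
      k ∈ Subgroup.centralizer ((P : Subgroup G) : Set G) := by
    intro g hg hg1 k hk hgk
    have hkN : k ∈ Subgroup.normalizer ((P : Subgroup G) : Set G) := by
      by_contra hn
      refine hg1 (Subgroup.mem_bot.1 (hTI k hn ▸ ⟨hg, ?_⟩))
      show g ∈ MulAut.conj k • (P : Subgroup G)
      rw [Subgroup.mem_pointwise_smul_iff_inv_smul_mem, MulAut.smul_def,
        MulAut.inv_def, MulAut.conj_symm_apply, mul_assoc, hgk, inv_mul_cancel_left]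
      exact hg
    refine Subgroup.mem_centralizer_iff.2 fun a ha => ?_
    have h1 : k * a * k⁻¹ * a⁻¹ ∈ (P : Subgroup G) :=
      mul_mem ((Subgroup.mem_normalizer_iff.1 hkN a).1 ha) (inv_mem ha)
    have h2 : k * a * k⁻¹ * a⁻¹ ∈ K := by
      rw [show k * a * k⁻¹ * a⁻¹ = k * (a * k⁻¹ * a⁻¹) by group]
      exact mul_mem hk ((inferInstance : K.Normal).conj_mem _ (inv_mem hk) a)
    have h3 : k * a * k⁻¹ * a⁻¹ = 1 := by
      obtain ⟨n, hn⟩ := IsPGroup.iff_card.1 hPp
      refine orderOf_eq_one_iff.1 (Nat.eq_one_of_dvd_coprimes ?_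
        (Subgroup.orderOf_dvd_natCard _ h1) (Subgroup.orderOf_dvd_natCard _ h2))
      rw [hn]
      exact Nat.Coprime.pow_left n ((Nat.Prime.coprime_iff_not_dvd Fact.out).2 hKp)
    exact (mul_inv_eq_iff_eq_mul.1 (mul_inv_eq_one.1 h3)).symm
  obtain ⟨R, hR0, hPR, hpR, h2, hfR⟩ := exists_minimal hPp hPK hKp hfix hzP
    (fun g hg => congrArg Subtype.val (Subgroup.mem_center_iff.1 hzc ⟨g, hg⟩)) hzK
  exact absurd (card_lt_deg_sq hPp hPne hR0 hPR hpR h2 hfR hχ hfaith) (not_lt.2 hdeg)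

end Cfsg.Agent.S4748
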