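import Cfsg.Statements.S4754
import Mathlib
import Cfsg.Agent.Lib.Characters.Kernel
import Cfsg.Agent.Lib.Characters.Counting
-- import your own Cfsg.Agent.* helpers here

set_option autoImplicit false
open Cfsg

namespace Cfsg.Agent.S4754

open Cfsg.Agent.Characters


/-- For elements x, y of a finite group G, the conjugacy class of x y equals the set of all products of a conjugate of x with a conjugate of y if and only if χ(1) χ(a x a⁻¹ b y b⁻¹) = χ(x) χ(y) for all a, b ∈ G and every irreducible character χ. -/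
theorem result {G : Type*} [Group G] [Finite G] (x y : G) : (∀ z : G, IsConj (x * y) z ↔ ∃ a b : G, z = a * x * a⁻¹ * (b * y * b⁻¹)) ↔ ∀ (a b : G) (χ : Cfsg.IrrCharacter G), (χ : G → ℂ) 1 * (χ : G → ℂ) (a * x * a⁻¹ * (b * y * b⁻¹)) = (χ : G → ℂ) x * (χ : G → ℂ) y := by
  classical
  haveI := Fintype.ofFinite G
  constructor
  · intro h a b χ
    have key : ∀ a b : G, (χ : G → ℂ) (a * x * a⁻¹ * (b * y * b⁻¹)) = (χ : G → ℂ) (x * y) := by
      intro a b
      obtain ⟨c, hc⟩ := isConj_iff.1 ((h _).2 ⟨a, b, rfl⟩)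
      rw [← hc]; exact irr_isClassFunction χ _ _
    have h1 := sum_mul_conjugates χ.2 x y
    have h2 : ∀ c : G, (χ : G → ℂ) (x * (c * y * c⁻¹)) = (χ : G → ℂ) (x * y) := fun c => by
      simpa using key 1 c
    rw [Finset.sum_congr rfl fun c _ => h2 c, Finset.sum_const, Finset.card_univ, nsmul_eq_mul,
      ← Nat.card_eq_fintype_card, eq_div_iff (irr_one_ne_zero χ.2), mul_assoc, mul_assoc] at h1
    rw [key a b, mul_comm]
    exact mul_left_cancel₀ natCard_ne_zero h1
  · intro h z
    constructor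
    · intro hz
      obtain ⟨c, rfl⟩ := isConj_iff.1 hz
      exact ⟨c, c, by group⟩
    · rintro ⟨a, b, rfl⟩
      refine isConj_of_forall_irr_eq fun χ => mul_left_cancel₀ (irr_one_ne_zero χ.2) ?_
      rw [h a b χ]
      simpa using h 1 1 χ

end Cfsg.Agent.S4754
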