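import Cfsg.Statements.S4755
import Mathlib
import Cfsg.Agent.Lib.Characters.Kernel
import Cfsg.Agent.Lib.Characters.Counting
-- import your own Cfsg.Agent.* helpers here

set_option autoImplicit false
open Cfsg

namespace Cfsg.Agent.S4755

open Cfsg.Agent.Characters
open scoped commutatorElement


/-- Let x, y be non-identity elements of the finite group G such that χ(x' y') = χ(x') χ(y') for all conjugates x' of x, y' of y and every irreducible character χ. Then the conjugacy class of x y is the set of all products of a conjugate of x with a conjugate of y; every irreducible character of degree greater than 1 vanishes at x y; and the conjugacy class of x y is the coset of the commutator subgroup containing x y. -/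
theorem result {G : Type*} [Group G] [Finite G] (x y : G) (hx : x ≠ 1) (hy : y ≠ 1) (h : ∀ (a b : G) (χ : Cfsg.IrrCharacter G), (χ : G → ℂ) (a * x * a⁻¹ * (b * y * b⁻¹)) = (χ : G → ℂ) (a * x * a⁻¹) * (χ : G → ℂ) (b * y * b⁻¹)) : (∀ z : G, IsConj (x * y) z ↔ ∃ a b : G, z = a * x * a⁻¹ * (b * y * b⁻¹)) ∧ (∀ χ : Cfsg.IrrCharacter G, (χ : G → ℂ) 1 ≠ 1 → (χ : G → ℂ) (x * y) = 0) ∧ (∀ z : G, IsConj (x * y) z ↔ (x * y)⁻¹ * z ∈ commutator G) := by
  classical
  haveI := Fintype.ofFinite G
  have hcl : ∀ (χ : Cfsg.IrrCharacter G) (g z : G), (χ : G → ℂ) (g * z * g⁻¹) = (χ : G → ℂ) z :=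
    fun χ g z => irr_isClassFunction χ z g
  have hprod : ∀ (a b : G) (χ : Cfsg.IrrCharacter G),
      (χ : G → ℂ) (a * x * a⁻¹ * (b * y * b⁻¹)) = (χ : G → ℂ) (x * y) := by
    intro a b χ
    rw [h a b χ, hcl, hcl]
    have := h 1 1 χ
    simpa using this.symm
  have hA : ∀ z : G, IsConj (x * y) z ↔ ∃ a b : G, z = a * x * a⁻¹ * (b * y * b⁻¹) := by
    intro z
    constructor
    · intro hz
      obtain ⟨c, rfl⟩ := isConj_iff.1 hz
      exact ⟨c, c, by group⟩
    · rintro ⟨a, b, rfl⟩
      exact isConj_of_forall_irr_eq fun χ => (hprod a b χ).symm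
  have hB : ∀ χ : Cfsg.IrrCharacter G, (χ : G → ℂ) 1 ≠ 1 → (χ : G → ℂ) (x * y) = 0 := by
    intro χ hne
    have h2 : ∀ c : G, (χ : G → ℂ) (x * (c * y * c⁻¹)) = (χ : G → ℂ) (x * y) := fun c => by
      simpa using hprod 1 c χ
    have h1 := sum_mul_conjugates χ.2 x y
    rw [Finset.sum_congr rfl fun c _ => h2 c, Finset.sum_const, Finset.card_univ, nsmul_eq_mul,
      ← Nat.card_eq_fintype_card, eq_div_iff (irr_one_ne_zero χ.2), mul_assoc, mul_assoc] at h1
    have h3 : (χ : G → ℂ) (x * y) = (χ : G → ℂ) x * (χ : G → ℂ) y := by simpa using h 1 1 χ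
    have h4 := mul_left_cancel₀ natCard_ne_zero h1
    rw [← h3] at h4
    by_contra h0
    exact hne (mul_left_cancel₀ h0 (h4.trans (mul_one _).symm))
  refine ⟨hA, hB, fun z => ⟨fun hz => ?_, fun hz => ?_⟩⟩
  · obtain ⟨c, rfl⟩ := isConj_iff.1 hz
    have he : (x * y)⁻¹ * (c * (x * y) * c⁻¹) = Bracket.bracket (x * y)⁻¹ c := by
      simp [commutatorElement_def, mul_assoc]
    rw [he]
    exact Subgroup.commutator_mem_commutator (Subgroup.mem_top _) (Subgroup.mem_top _)
  · by_contra hnc
    haveI := Fintype.ofFinite (Cfsg.IrrCharacter G)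
    have hso := second_orthogonality z (x * y)
    rw [if_neg (fun hh : IsConj z (x * y) => hnc hh.symm)] at hso
    have hterm : ∀ χ : Cfsg.IrrCharacter G,
        (χ : G → ℂ) z * (starRingEnd ℂ) ((χ : G → ℂ) (x * y)) =
          if (χ : G → ℂ) 1 = 1 then 1 else 0 := by
      intro χ
      by_cases h1 : (χ : G → ℂ) 1 = 1
      · rw [if_pos h1]
        have hc := irr_isCharacter χ
        have hker : commutator G ≤ (linearOfDegreeOne hc h1).ker :=
          Abelianization.commutator_subset_ker _
        have e1 : linearOfDegreeOne hc h1 ((x * y)⁻¹ * z) = 1 := hker hz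
        have e2 : (χ : G → ℂ) ((x * y)⁻¹ * z) = 1 := congrArg Units.val e1
        rw [char_mul_of_degree_one hc h1, char_inv hc] at e2
        rw [mul_comm]; exact e2
      · rw [if_neg h1, hB χ h1]; simp
    rw [Finset.sum_congr rfl fun χ _ => hterm χ, Finset.sum_boole, Nat.cast_eq_zero,
      Finset.card_eq_zero, Finset.filter_eq_empty_iff] at hso
    exact hso (Finset.mem_univ (trivIrr G)) rfl

end Cfsg.Agent.S4755
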