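import Cfsg.Statements.S4757
import Mathlib
import Cfsg.Agent.Lib.Characters.Inner
import Cfsg.Agent.Lib.Characters.Kernel
import Cfsg.Agent.Lib.Transfer.NormalPComplement
import Cfsg.Agent.InvChar.Core

set_option autoImplicit false
open Cfsg
open scoped ComplexConjugate

namespace Cfsg.Agent.S4757

/-- Let u ≠ 1 be an element of the finite group G and c a complex number such that every non-principal irreducible character χ satisfies χ(1) − χ(u) = c or χ(u) = 0. Then the following are equivalent: (a) u has order 2, G is generated by u together with O(G), the largest normal subgroup of G of odd order, and the centralizer of u is {1, u}; (b) G is not perfect; (c) c = 2. -/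
theorem result {G : Type*} [Group G] [Finite G] (u : G) (hu : u ≠ 1) (c : ℂ) (hyp : ∀ χ : Cfsg.IrrCharacter G, (χ : G → ℂ) ≠ (fun _ => (1 : ℂ)) → ((χ : G → ℂ) 1 - (χ : G → ℂ) u = c ∨ (χ : G → ℂ) u = 0)) : ((orderOf u = 2 ∧ Subgroup.zpowers u ⊔ Cfsg.oddCore G = ⊤ ∧ Subgroup.centralizer ({u} : Set G) = Subgroup.zpowers u) ↔ commutator G ≠ ⊤) ∧ (commutator G ≠ ⊤ ↔ c = 2) := by
  classical
  haveI := Fintype.ofFinite G
  haveI := Fintype.ofFinite (Cfsg.IrrCharacter G)
  -- column orthogonality
  have hcol : ∑ χ : Cfsg.IrrCharacter G, (χ : G → ℂ) 1 * conj ((χ : G → ℂ) u) = 0 := by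
    rw [Characters.second_orthogonality, if_neg]
    intro h
    obtain ⟨g, hg⟩ := isConj_iff.1 h
    exact hu (by rw [← hg, mul_one, mul_inv_cancel])
  have hcol' : 1 + ∑ χ ∈ Finset.univ.erase (Characters.trivIrr G),
      (χ : G → ℂ) 1 * conj ((χ : G → ℂ) u) = 0 := by
    rw [← hcol, ← Finset.add_sum_erase _ _ (Finset.mem_univ (Characters.trivIrr G))]
    simp [Characters.trivIrr]
  have hne : ∀ χ ∈ Finset.univ.erase (Characters.trivIrr G),
      (χ : G → ℂ) ≠ (fun _ => (1 : ℂ)) := fun χ hχ h =>
    (Finset.mem_erase.1 hχ).1 (Subtype.ext h)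
  -- linear characters
  have hlin : ∀ f : G →* ℂˣ, f ≠ 1 → (f u : ℂ) = 1 - c := by
    intro f hf
    have h1 : (fun g => (f g : ℂ)) ≠ (fun _ => (1 : ℂ)) := fun e =>
      hf (MonoidHom.ext fun g => Units.ext (congrFun e g))
    rcases hyp ⟨_, Characters.isIrrCharacter_linear f⟩ h1 with h | h
    · simp only [map_one, Units.val_one] at h
      rw [← h]; ring
    · exact absurd h (Units.ne_zero _)
  have hexists : commutator G ≠ ⊤ → ∃ f : G →* ℂˣ, f ≠ 1 := by
    intro h
    haveI : IsMulCommutative (Abelianization G) := inferInstance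
    obtain ⟨g, hg⟩ : ∃ g : G, g ∉ commutator G := by
      by_contra hall
      push Not at hall
      exact h (eq_top_iff.2 fun g _ => hall g)
    have hg' : (Abelianization.of g) ≠ 1 := fun e => hg ((QuotientGroup.eq_one_iff g).1 e)
    obtain ⟨φ, hφ⟩ := CommGroup.exists_apply_ne_one_of_hasEnoughRootsOfUnity (Abelianization G) ℂ hg'
    exact ⟨φ.comp Abelianization.of, fun e => hφ (DFunLike.congr_fun e g)⟩
  have hbc : commutator G ≠ ⊤ → c = 2 := by
    intro h
    obtain ⟨f, hf⟩ := hexists h
    have h1 := hlin f hf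
    have hc0 : c ≠ 0 := by
      intro hc
      have hterm : ∀ χ ∈ Finset.univ.erase (Characters.trivIrr G), ∃ n : ℕ,
          (χ : G → ℂ) 1 * conj ((χ : G → ℂ) u) = n := by
        intro χ hχ
        obtain ⟨d, -, hd⟩ := Characters.irr_one_pos χ.2
        rcases hyp χ (hne χ hχ) with h' | h'
        · rw [hc, sub_eq_zero] at h'
          exact ⟨d * d, by rw [← h', hd, Complex.conj_natCast, Nat.cast_mul]⟩
        · exact ⟨0, by rw [h', map_zero, mul_zero, Nat.cast_zero]⟩
      choose! n hn using hterm
      rw [Finset.sum_congr rfl hn, ← Nat.cast_sum] at hcol'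
      have : (1 : ℕ) + ∑ χ ∈ Finset.univ.erase (Characters.trivIrr G), n χ = 0 := by
        exact_mod_cast hcol'
      omega
    have h2 : f * f = 1 := by
      by_contra hff
      have h3 := hlin _ hff
      rw [MonoidHom.mul_apply, Units.val_mul, h1] at h3
      rcases mul_eq_zero.1 (show (1 - c) * ((1 - c) - 1) = 0 by linear_combination h3) with h' | h'
      · exact Units.ne_zero (f u) (h1.trans h')
      · exact hc0 (by linear_combination -h')
    have h4 : (1 - c) * (1 - c) = 1 := by
      rw [← h1, ← Units.val_mul, ← MonoidHom.mul_apply, h2, MonoidHom.one_apply, Units.val_one]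
    rcases mul_eq_zero.1 (show c * (c - 2) = 0 by linear_combination h4) with h' | h'
    · exact absurd h' hc0
    · exact sub_eq_zero.1 h'
  have hca : c = 2 →
      (orderOf u = 2 ∧ Subgroup.zpowers u ⊔ Cfsg.oddCore G = ⊤ ∧
        Subgroup.centralizer ({u} : Set G) = Subgroup.zpowers u) := by
    intro hc
    -- each summand is an integer `≥ -1`
    have hterm : ∀ χ ∈ Finset.univ.erase (Characters.trivIrr G), ∃ z : ℤ,
        (χ : G → ℂ) 1 * conj ((χ : G → ℂ) u) = z ∧
        ((χ : G → ℂ) 1 = 1 ∧ z = -1 ∧ (χ : G → ℂ) u = -1 ∨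
          0 ≤ z ∧ (χ : G → ℂ) 1 ≠ 1 ∧ ((χ : G → ℂ) u = 0 ∨ 0 < z)) := by
      intro χ hχ
      obtain ⟨d, hd0, hd⟩ := Characters.irr_one_pos χ.2
      rcases hyp χ (hne χ hχ) with h' | h'
      · have hu' : (χ : G → ℂ) u = ((d - 2 : ℤ) : ℂ) := by
          push_cast
          rw [← hd, ← hc, ← h']
          ring
        refine ⟨(d : ℤ) * (d - 2), by rw [hu', hd, map_intCast]; push_cast; ring, ?_⟩
        rcases Nat.lt_trichotomy d 2 with hd2 | rfl | hd2
        · have : d = 1 := by omega
          subst this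
          left
          exact ⟨by simpa using hd, by norm_num, by rw [hu']; norm_num⟩
        · right
          exact ⟨by norm_num, by rw [hd]; norm_num, Or.inl (by rw [hu']; norm_num)⟩
        · right
          have hpos : (0 : ℤ) < (d : ℤ) * (d - 2) :=
            mul_pos (by exact_mod_cast hd0) (by omega)
          refine ⟨hpos.le, ?_, Or.inr hpos⟩
          rw [hd]
          exact fun e => by have : d = 1 := (by exact_mod_cast e); omega
      · refine ⟨0, by rw [h', map_zero, mul_zero, Int.cast_zero], Or.inr ⟨le_rfl, ?_, Or.inl h'⟩⟩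
        intro h1
        have hf := Units.ne_zero (Characters.linearOfDegreeOne (Characters.irr_isCharacter χ) h1 u)
        exact hf (by rw [Characters.linearOfDegreeOne_apply]; exact h')
    choose! z hz hz' using hterm
    rw [Finset.sum_congr rfl hz, ← Int.cast_sum] at hcol'
    have hsum : (1 : ℤ) + ∑ χ ∈ Finset.univ.erase (Characters.trivIrr G), z χ = 0 := by
      exact_mod_cast hcol'
    obtain ⟨χ₁, hχ₁, hz₁⟩ : ∃ χ ∈ Finset.univ.erase (Characters.trivIrr G), z χ < 0 :=
      Finset.exists_lt_of_sum_lt (g := fun _ => (0 : ℤ))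
        (by rw [Finset.sum_const_zero]; omega)
    obtain ⟨h11, -, h1u⟩ := (hz' χ₁ hχ₁).resolve_right fun h => absurd h.1 (not_le.2 hz₁)
    let f := Characters.linearOfDegreeOne (Characters.irr_isCharacter χ₁) h11
    have hfu : (f u : ℂ) = -1 := h1u
    have huniq : ∀ χ ∈ Finset.univ.erase (Characters.trivIrr G), (χ : G → ℂ) 1 = 1 → χ = χ₁ := by
      intro χ hχ h1
      let g := Characters.linearOfDegreeOne (Characters.irr_isCharacter χ) h1
      have hgu : (g u : ℂ) = -1 := by
        have := ((hz' χ hχ).resolve_right fun h => h.2.1 h1).2.2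
        exact this
      have key : ∀ a b : G →* ℂˣ, (a u : ℂ) = -1 → (b u : ℂ) = -1 → a * b = 1 := by
        intro a b ha hb
        by_contra hab
        have h3 := hlin _ hab
        rw [MonoidHom.mul_apply, Units.val_mul, ha, hb, hc] at h3
        norm_num at h3
      have e : g = f := by
        have := (key g f hgu hfu).trans (key f f hfu hfu).symm
        exact mul_right_cancel this
      exact Subtype.ext (funext fun x => congrArg (fun t : G →* ℂˣ => ((t x : ℂˣ) : ℂ)) e)
    have hrest : ∀ χ ∈ (Finset.univ.erase (Characters.trivIrr G)).erase χ₁,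
        (χ : G → ℂ) u = 0 := by
      have hz1 : z χ₁ = -1 := ((hz' χ₁ hχ₁).resolve_right fun h => absurd h.1 (not_le.2 hz₁)).2.1
      have hnn : ∀ χ ∈ (Finset.univ.erase (Characters.trivIrr G)).erase χ₁, 0 ≤ z χ := by
        intro χ hχ
        obtain ⟨hne', hχ'⟩ := Finset.mem_erase.1 hχ
        exact ((hz' χ hχ').resolve_left fun h => hne' (huniq χ hχ' h.1)).1
      have h0 : ∑ χ ∈ (Finset.univ.erase (Characters.trivIrr G)).erase χ₁, z χ = 0 := by
        rw [← Finset.add_sum_erase _ _ hχ₁, hz1] at hsum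
        omega
      intro χ hχ
      obtain ⟨hne', hχ'⟩ := Finset.mem_erase.1 hχ
      refine (((hz' χ hχ').resolve_left fun h => hne' (huniq χ hχ' h.1)).2.2).resolve_right ?_
      rw [(Finset.sum_eq_zero_iff_of_nonneg hnn).1 h0 χ hχ]
      exact lt_irrefl 0
    have hC : Nat.card (Subgroup.centralizer ({u} : Set G)) = 2 := by
      have h := Characters.second_orthogonality u u
      rw [if_pos (IsConj.refl u), ← Finset.add_sum_erase _ _ (Finset.mem_univ (Characters.trivIrr G)),
        ← Finset.add_sum_erase _ _ hχ₁,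
        Finset.sum_eq_zero (fun χ hχ => by rw [hrest χ hχ, zero_mul])] at h
      simp only [Characters.trivIrr, h1u, map_one, map_neg] at h
      rw [← Nat.cast_inj (R := ℂ), ← h]
      norm_num
    have hle : Subgroup.zpowers u ≤ Subgroup.centralizer ({u} : Set G) :=
      Subgroup.zpowers_le.2 (Subgroup.mem_centralizer_singleton_iff.2 rfl)
    have hord : orderOf u = 2 := by
      have h := Subgroup.card_dvd_of_le hle
      rw [hC, Nat.card_zpowers, Nat.dvd_prime Nat.prime_two] at h
      exact h.resolve_left fun h1 => hu (orderOf_eq_one_iff.1 h1)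
    have hCeq : Subgroup.centralizer ({u} : Set G) = Subgroup.zpowers u :=
      (Subgroup.eq_of_le_of_card_ge hle (by rw [hC, Nat.card_zpowers, hord])).symm
    refine ⟨hord, ?_, hCeq⟩
    haveI : Fact (Nat.Prime 2) := ⟨Nat.prime_two⟩
    obtain ⟨S, hS⟩ := (IsPGroup.of_card (p := 2) (n := 1)
      (by rw [Nat.card_zpowers, hord, pow_one] : Nat.card (Subgroup.zpowers u) = 2 ^ 1)).exists_le_sylow
    have hSeq : (S : Subgroup G) = Subgroup.zpowers u := by
      haveI : Nontrivial (S : Subgroup G) := ⟨⟨⟨u, hS (Subgroup.mem_zpowers u)⟩, 1,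
        fun e => hu (congrArg Subtype.val e)⟩⟩
      haveI := S.2.center_nontrivial
      obtain ⟨⟨⟨w, hwS⟩, hwc⟩, hw1⟩ := exists_ne (1 : Subgroup.center (S : Subgroup G))
      have hwu : w ∈ Subgroup.zpowers u := by
        rw [← hCeq, Subgroup.mem_centralizer_singleton_iff]
        exact congrArg Subtype.val
          (Subgroup.mem_center_iff.1 hwc ⟨u, hS (Subgroup.mem_zpowers u)⟩).symm
      have hw : Subgroup.zpowers w = Subgroup.zpowers u := by
        refine Subgroup.eq_of_le_of_card_ge (Subgroup.zpowers_le.2 hwu) ?_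
        rw [Nat.card_zpowers, Nat.card_zpowers, hord]
        have hne1 : orderOf w ≠ 1 := fun e => hw1 (Subtype.ext (Subtype.ext (orderOf_eq_one_iff.1 e)))
        have := orderOf_pos w
        omega
      refine le_antisymm (fun s hs => ?_) hS
      rw [← hCeq, Subgroup.mem_centralizer_singleton_iff]
      obtain ⟨i, hi⟩ := Subgroup.mem_zpowers_iff.1 (hw ▸ Subgroup.mem_zpowers u)
      rw [← hi]
      exact (show Commute s w from
        congrArg Subtype.val (Subgroup.mem_center_iff.1 hwc ⟨s, hs⟩)).zpow_right i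
    obtain ⟨Q, N, hN, hNQ⟩ :=
      Agent.Transfer.NormalPComplement.hasNormalPComplement_of_normalizer_le_centralizer S (fun g hg => by
        replace hg : g ∈ Subgroup.normalizer (Subgroup.zpowers u : Set G) := by
          rw [← hSeq]; exact hg
        show g ∈ Subgroup.centralizer ((S : Subgroup G) : Set G)
        rw [hSeq, Subgroup.mem_centralizer_iff]
        intro x hx
        obtain ⟨i, rfl⟩ := Subgroup.mem_zpowers_iff.1 hx
        have h := (Subgroup.mem_normalizer_iff.1 hg u).1 (Subgroup.mem_zpowers u)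
        have hgu : g * u * g⁻¹ = u := by
          obtain ⟨j, hj⟩ := Subgroup.mem_zpowers_iff.1 h
          rcases Int.even_or_odd' j with ⟨k, rfl | rfl⟩
          · rw [zpow_mul, show u ^ (2 : ℤ) = 1 by exact_mod_cast hord ▸ pow_orderOf_eq_one u,
              one_zpow, eq_comm, conj_eq_one_iff] at hj
            exact absurd hj hu
          · rw [← hj, zpow_add_one, zpow_mul,
              show u ^ (2 : ℤ) = 1 by exact_mod_cast hord ▸ pow_orderOf_eq_one u, one_zpow, one_mul]
        exact ((show Commute g u from mul_inv_eq_iff_eq_mul.1 hgu).symm.zpow_left i).eq)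
    have hodd : Odd (Nat.card N) := by
      rw [← hNQ.index_eq_card, ← Nat.not_even_iff_odd, even_iff_two_dvd]
      exact Q.not_dvd_index
    have hNO : N ≤ Cfsg.oddCore G := InvChar.Core.le_oddCore hN hodd
    have hidx : N.index = 2 := by
      rw [hNQ.symm.index_eq_card, Q.card_eq_multiplicity, ← S.card_eq_multiplicity, hSeq,
        Nat.card_zpowers, hord]
    rw [eq_top_iff]
    intro g _
    have huN : u ∉ N := fun h => by
      have h2 := N.orderOf_dvd_natCard h
      rw [hord] at h2
      exact Nat.not_even_iff_odd.2 hodd (even_iff_two_dvd.2 h2)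
    by_cases hg : g ∈ N
    · exact Subgroup.mem_sup_right (hNO hg)
    · have hmem : u * g ∈ N := (Subgroup.mul_mem_iff_of_index_two hidx).2
        ⟨fun h => absurd h huN, fun h => absurd h hg⟩
      have := mul_mem (Subgroup.mem_sup_left (T := Cfsg.oddCore G) (inv_mem (Subgroup.mem_zpowers u)))
        (Subgroup.mem_sup_right (S := Subgroup.zpowers u) (hNO hmem))
      rwa [inv_mul_cancel_left] at this
  have hab : (orderOf u = 2 ∧ Subgroup.zpowers u ⊔ Cfsg.oddCore G = ⊤ ∧
      Subgroup.centralizer ({u} : Set G) = Subgroup.zpowers u) → commutator G ≠ ⊤ := by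
    rintro ⟨hord, htop, -⟩ hperf
    have hle : commutator G ≤ Cfsg.oddCore G := by
      rw [← Subgroup.Normal.quotient_commutative_iff_commutator_le]
      set π := QuotientGroup.mk' (Cfsg.oddCore G)
      have hsurj : (Subgroup.zpowers u).map π = ⊤ := by
        have := congrArg (Subgroup.map π) htop
        rwa [Subgroup.map_sup, QuotientGroup.map_mk'_self, sup_bot_eq,
          Subgroup.map_top_of_surjective _ (QuotientGroup.mk'_surjective _)] at this
      rw [MonoidHom.map_zpowers] at hsurj
      refine ⟨⟨fun a b => ?_⟩⟩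
      obtain ⟨i, rfl⟩ := Subgroup.mem_zpowers_iff.1 (hsurj ▸ Subgroup.mem_top a)
      obtain ⟨j, rfl⟩ := Subgroup.mem_zpowers_iff.1 (hsurj ▸ Subgroup.mem_top b)
      exact (Commute.refl _).zpow_zpow i j
    rw [hperf] at hle
    have h := (Cfsg.oddCore G).orderOf_dvd_natCard (hle (Subgroup.mem_top u))
    rw [hord] at h
    exact Nat.not_even_iff_odd.2 InvChar.Core.odd_card_oddCore (even_iff_two_dvd.2 h)
  exact ⟨⟨hab, fun h => hca (hbc h)⟩, ⟨hbc, fun h => hab (hca h)⟩⟩

end Cfsg.Agent.S4757
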