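import Cfsg.Statements.S4759
import Cfsg.Agent.DadeExt.Main
import Cfsg.Agent.Lib.CharTheory.Extraspecial

set_option autoImplicit false
open Cfsg
open scoped commutatorElement

namespace Cfsg.Agent.S4759

/-- Let G be a finite group that is the semidirect product of a normal extraspecial 2-subgroup E and a complement H acting faithfully on E (no non-identity element of H centralizes E), and suppose H has a normal subgroup K of odd order with [E, K] = E. Then every faithful irreducible character θ of E (there is exactly one) extends to G: some irreducible character of G restricts to θ on E. -/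
theorem result {G : Type*} [Group G] [Finite G] (E H : Subgroup G) [E.Normal] (hE : Cfsg.IsExtraspecial 2 ↥E) (hEH : E ⊓ H = ⊥) (hEHtop : E ⊔ H = ⊤) (hfaith : ∀ h ∈ H, (∀ e ∈ E, h * e = e * h) → h = 1) (K : Subgroup G) (hKH : K ≤ H) (hKn : ∀ h ∈ H, ∀ k ∈ K, h * k * h⁻¹ ∈ K) (hKodd : Odd (Nat.card ↥K)) (hEK : ⁅E, K⁆ = E) (θ : Cfsg.IrrCharacter ↥E) (hθ : ∀ e : ↥E, (θ : ↥E → ℂ) e = (θ : ↥E → ℂ) 1 → e = 1) : ∃ χ : Cfsg.IrrCharacter G, ∀ e : ↥E, (χ : G → ℂ) e = (θ : ↥E → ℂ) e := by
  classical
  haveI := Fintype.ofFinite G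
  have hp2 : IsPGroup 2 E := hE.1.1
  have hcen : Nat.card (Subgroup.center E) = 2 := hE.2
  -- the central involution
  obtain ⟨z, hzne, hzC⟩ : ∃ z : E, z ≠ 1 ∧ Subgroup.center E = Subgroup.zpowers z := by
    haveI := Fact.mk Nat.prime_two
    obtain ⟨z, hz⟩ := Subgroup.ne_bot_iff_exists_ne_one.mp (fun h : Subgroup.center E = ⊥ => by
      rw [h, Subgroup.card_bot] at hcen; omega)
    refine ⟨z, fun h => hz (Subtype.ext h), (Subgroup.eq_of_le_of_card_ge
      (Subgroup.zpowers_le_of_mem z.2) ?_).symm⟩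
    rw [hcen, Nat.card_zpowers]
    rcases (Nat.dvd_prime Nat.prime_two).mp
        (hcen ▸ Subgroup.orderOf_dvd_natCard (Subgroup.center E) z.2) with h | h
    · exact absurd (orderOf_eq_one_iff.mp h) fun h' => hz (Subtype.ext h')
    · omega
  have hzE : (z : E) ∈ Subgroup.center E := hzC ▸ Subgroup.mem_zpowers z
  have hzG : ∀ x : E, x ∈ Subgroup.center E → x = 1 ∨ x = z := fun x hx => by
    have h2 : z ^ 2 = 1 := orderOf_dvd_iff_pow_eq_one.mp (by
      rw [← hcen, hzC, Nat.card_zpowers])
    rw [hzC] at hx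
    obtain ⟨k, rfl⟩ := Subgroup.mem_zpowers_iff.mp hx
    rcases Int.even_or_odd k with ⟨m, rfl⟩ | ⟨m, rfl⟩
    · exact Or.inl (by rw [← two_mul, zpow_mul, zpow_two, ← pow_two, h2, one_zpow])
    · exact Or.inr (by rw [zpow_add, zpow_mul, zpow_two, ← pow_two, h2, one_zpow, one_mul, zpow_one])
  have hEn : ∀ g : G, ∀ x ∈ E, g * x * g⁻¹ ∈ E := fun g x hx =>
    Subgroup.Normal.conj_mem inferInstance x hx g
  have hB : DadeExt.Base (z : G) E := by
    refine ⟨Subgroup.mem_center_iff.mpr fun g => ?_, z.2, ?_, fun h => hzne (Subtype.ext h), hp2,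
      fun a ha b hb => ?_, fun x hx hc => ?_⟩
    · have hmem : (⟨g * z * g⁻¹, hEn g z z.2⟩ : E) ∈ Subgroup.center E := by
        refine Subgroup.mem_center_iff.mpr fun y => Subtype.ext ?_
        have h1 := congrArg Subtype.val (Subgroup.mem_center_iff.mp hzE
          ⟨g⁻¹ * y * g, by simpa using hEn g⁻¹ y y.2⟩)
        simp only [Subgroup.coe_mul] at h1 ⊢
        calc (y : G) * (g * z * g⁻¹) = g * (g⁻¹ * y * g * z) * g⁻¹ := by group
          _ = g * ((z : G) * (g⁻¹ * y * g)) * g⁻¹ := by rw [h1]
          _ = g * z * g⁻¹ * y := by group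
      rcases hzG _ hmem with h | h
      · exact absurd (conj_eq_one_iff.mp (congrArg Subtype.val h))
          fun h' => hzne (Subtype.ext h')
      · have h' : g * (z : G) * g⁻¹ = z := congrArg Subtype.val h
        exact mul_inv_eq_iff_eq_mul.mp h'
    · rcases hzG (z * z) (mul_mem hzE hzE) with h | h
      · exact congrArg Subtype.val h
      · exact absurd (mul_eq_left.mp h) hzne
    · have h : ⁅(⟨a, ha⟩ : E), ⟨b, hb⟩⁆ ∈ Subgroup.center E := by
        rw [← hE.1.2.2, commutator_def]
        exact Subgroup.commutator_mem_commutator (Subgroup.mem_top _) (Subgroup.mem_top _)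
      rcases hzG _ h with h | h
      · rw [show ⁅a, b⁆ = 1 from congrArg Subtype.val h]; exact one_mem _
      · rw [show ⁅a, b⁆ = (z : G) from congrArg Subtype.val h]; exact Subgroup.mem_zpowers _
    · have h : (⟨x, hx⟩ : E) ∈ Subgroup.center E :=
        Subgroup.mem_center_iff.mpr fun y => Subtype.ext (hc y y.2).symm
      rcases hzG _ h with h | h
      · rw [show x = 1 from congrArg Subtype.val h]; exact one_mem _
      · rw [show x = (z : G) from congrArg Subtype.val h]; exact Subgroup.mem_zpowers _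
  -- `C_E(K) = Z(E)`
  have hfix : ∀ e ∈ E, e ∈ Subgroup.centralizer (K : Set G) → e ∈ Subgroup.zpowers (z : G) := by
    intro e he hec
    set X := E ⊓ Subgroup.centralizer (K : Set G)
    have hXK : ⁅K, X⁆ = ⊥ := by
      rw [Subgroup.commutator_comm, Subgroup.commutator_eq_bot_iff_le_centralizer]
      exact inf_le_right
    have hEX : ⁅X, E⁆ ≤ Subgroup.zpowers (z : G) :=
      Subgroup.commutator_le.mpr fun a ha b hb => hB.comm a ha.1 b hb
    have h1 : ⁅⁅E, K⁆, X⁆ = ⊥ := by
      refine Subgroup.commutator_commutator_eq_bot_of_rotate ?_ ?_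
      · rw [hXK, Subgroup.commutator_bot_left]
      · refine le_bot_iff.mp ((Subgroup.commutator_mono hEX le_rfl).trans ?_)
        exact (Subgroup.commutator_eq_bot_iff_le_centralizer.mpr (hB.zpowers_le_centralizer _)).le
    rw [hEK, Subgroup.commutator_eq_bot_iff_le_centralizer] at h1
    exact hB.cent e he fun y hy =>
      (DadeExt.comm_of_le_centralizer h1 hy (Subgroup.mem_inf.mpr ⟨he, hec⟩)).symm
  -- `θ` is the faithful character
  obtain ⟨θ₀, hθ₀⟩ := DadeExt.Good.exists_base hB
  have hθg : DadeExt.Good (z : G) E E (DadeExt.ext0 E (θ : E → ℂ)) := by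
    refine ⟨le_rfl, by rw [DadeExt.res_ext0]; exact Agent.Characters.irr_isCharacter θ,
      by rw [DadeExt.res_ext0]; exact θ.2, ?_⟩
    obtain ⟨n, ρ, hρ, hρc⟩ := θ.2
    haveI := hρ
    obtain ⟨c, hc⟩ := Agent.CharTheory.Extraspecial.central_scalar θ.2 hzE
    have h1 := hc 1
    rw [one_mul] at h1
    have h2 := hc z
    rcases hzG (z * z) (mul_mem hzE hzE) with h | h
    · rw [h, h1] at h2
      have hne := Agent.Characters.irr_one_ne_zero θ.2
      have hc2 : c * c = 1 := mul_right_cancel₀ hne (by linear_combination -h2)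
      have hc1 : c ≠ 1 := fun hc1 => hzne (hθ z (by rw [h1, hc1, one_mul]))
      rw [DadeExt.ext0_apply _ _ z.2, DadeExt.ext0_apply _ _ (one_mem E)]
      change (θ : E → ℂ) z = -(θ : E → ℂ) 1
      rw [h1, (mul_self_eq_one_iff.mp hc2).resolve_left hc1, neg_one_mul]
    · exact absurd (mul_eq_left.mp h) hzne
  have hval : ∀ {Q : Subgroup G} {χ : G → ℂ}, DadeExt.Good (z : G) E Q χ →
      ∀ n : E, χ n = (θ : E → ℂ) n := fun {Q χ} h n => by
    rw [h.agree hθg hB n.2, DadeExt.ext0_apply _ _ n.2]
  have hinv : ∀ g : G, Agent.CharTheory.Clifford.conjBy E g (θ : E → ℂ) = θ := fun g =>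
    funext fun n => by
      have h := hval (hθg.twist hB.central g (fun x => DadeExt.conj_mem_iff_of_normalizer
        (Subgroup.normalizer_eq_top (H := E) ▸ Subgroup.mem_top g) x)
        (fun x => DadeExt.conj_mem_iff_of_normalizer
        (Subgroup.normalizer_eq_top (H := E) ▸ Subgroup.mem_top g) x)) n
      rw [Agent.CharTheory.Clifford.conjBy_apply, ← h]
      exact (DadeExt.ext0_apply _ _ _).symm
  have hHK : H ≤ Subgroup.normalizer (K : Set G) := Subgroup.le_normalizer_iff.mpr hKn
  have hHE : ∀ A : Subgroup G, A ≤ Subgroup.normalizer (E : Set G) := fun A => by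
    rw [Subgroup.normalizer_eq_top]; exact le_top
  obtain ⟨d, hd⟩ := Agent.Characters.char_one_nat (Agent.Characters.irr_isCharacter θ)
  obtain ⟨a, ha⟩ := @IsPGroup.iff_card 2 E _ ⟨Nat.prime_two⟩ _ |>.mp hp2
  have hd2 : d ∣ Nat.card E := by
    have h := hθg.two_mul_sq hB
    rw [DadeExt.ext0_apply _ _ (one_mem E)] at h
    change 2 * ((θ : E → ℂ) 1 * starRingEnd ℂ ((θ : E → ℂ) 1)) = _ at h
    rw [hd, Complex.conj_natCast] at h
    have h' : 2 * (d * d) = Nat.card E := by exact_mod_cast h
    exact ⟨2 * d, by rw [← h']; ring⟩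
  obtain ⟨χ, hχ, hχE⟩ := Agent.CharTheory.ExtendChar.exists_extension_sylow E θ.2 hinv
    fun p hp => by
      haveI := Fact.mk hp
      obtain ⟨T₀⟩ : Nonempty (Sylow p H) := inferInstance
      set T := (T₀ : Subgroup H).map H.subtype
      have hTH : T ≤ H := Subgroup.map_subtype_le _
      have hTp : IsPGroup p T := T₀.2.map _
      have hdT : E ⊓ T = ⊥ := le_bot_iff.mp ((inf_le_inf_left _ hTH).trans hEH.le)
      have hidx : Nat.Coprime (E ⊔ T).index p := by
        have h1 := (E ⊔ T).card_mul_index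
        rw [Agent.Coprime.card_sup_of_disjoint (hHE T) (disjoint_iff.mpr hdT)] at h1
        have h2 : Nat.card G = Nat.card E * Nat.card H := by
          rw [← Subgroup.card_top (G := G), ← hEHtop,
            Agent.Coprime.card_sup_of_disjoint (hHE H) (disjoint_iff.mpr hEH)]
        have h3 := (T₀ : Subgroup H).card_mul_index
        rw [h2, Subgroup.card_subtype, mul_assoc] at h1
        have h4 := Nat.eq_of_mul_eq_mul_left Nat.card_pos h1
        rw [← h3] at h4
        have h5 := Nat.eq_of_mul_eq_mul_left Nat.card_pos h4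
        rw [h5]
        exact ((Nat.Prime.coprime_iff_not_dvd hp).mpr T₀.not_dvd_index).symm
      rcases hp.eq_two_or_odd' with rfl | hodd
      · obtain ⟨χ, hχ⟩ := DadeExt.main _ G (z : G) E K T le_rfl hB hTp hKodd (hTH.trans hHK)
          (hHE _) (le_bot_iff.mp ((inf_le_inf_left _ (sup_le hKH hTH)).trans hEH.le)) hfix
        exact ⟨E ⊔ T, le_sup_left, DadeExt.res _ χ, hidx, hχ.char, fun n => hval hχ n⟩
      · set P := E ⊔ T
        haveI : (E.subgroupOf P).Normal := inferInstance
        have hEP : E ≤ P := le_sup_left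
        let θ' : E.subgroupOf P → ℂ := (θ : E → ℂ) ∘ Subgroup.subgroupOfEquivOfLe hEP
        have hθ' : IsIrrCharacter (E.subgroupOf P) θ' :=
          (Agent.Characters.isIrrCharacter_comp_mulEquiv _).mpr θ.2
        have hinv' : ∀ g : P, Agent.CharTheory.Clifford.conjBy (E.subgroupOf P) g θ' = θ' :=
          fun g => funext fun n => by
            rw [Agent.CharTheory.Clifford.conjBy_apply]
            exact congrFun (hinv g) ⟨((n : P) : G), Subgroup.mem_subgroupOf.mp n.2⟩
        obtain ⟨b, hb⟩ := IsPGroup.iff_card.mp hTp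
        have hPi : (E.subgroupOf P).index = p ^ b := by
          have h1 := (E.subgroupOf P).card_mul_index
          rw [Nat.card_congr (Subgroup.subgroupOfEquivOfLe hEP).toEquiv,
            Agent.Coprime.card_sup_of_disjoint (hHE T) (disjoint_iff.mpr hdT), hb] at h1
          exact Nat.eq_of_mul_eq_mul_left Nat.card_pos h1
        have hcopE : Nat.Coprime (p ^ b) (Nat.card E) := by
          rw [ha]
          exact Nat.Coprime.pow b a (Nat.coprime_two_right.mpr hodd)
        have hlam := Agent.CharTheory.ExtendChar.detChar_isLinear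
          (Agent.Characters.isCharacter_of_isIrr hθ')
        have hord : orderOf (detChar θ') ∣ Nat.card E := by
          obtain ⟨f, hf⟩ := Agent.CharTheory.ExtendChar.exists_hom hlam.1 hlam.2
          refine orderOf_dvd_of_pow_eq_one (funext fun n => ?_)
          rw [Pi.pow_apply, Pi.one_apply, ← hf, ← Units.val_pow_eq_pow_val, ← map_pow,
            ← Nat.card_congr (Subgroup.subgroupOfEquivOfLe hEP).toEquiv, pow_card_eq_one', map_one,
            Units.val_one]
        obtain ⟨μ, hμ, -⟩ := Agent.CharTheory.ExtendChar.exists_linear_extension_coprime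
          (E.subgroupOf P) hlam (fun g n => by
            have h := congrFun (congrArg detChar (hinv' g)) n
            rw [Agent.CharTheory.Clifford.conjBy_eq_comp,
              Agent.CharTheory.ExtendChar.detChar_comp _ (Agent.Characters.isCharacter_of_isIrr hθ')]
              at h
            exact h)
          (hPi.symm ▸ hcopE.coprime_dvd_right hord)
        obtain ⟨η, hη, hηE⟩ := Agent.CharTheory.ExtendChar.exists_extension_det (E.subgroupOf P)
          hθ' hinv' (d := d) hd (hPi.symm ▸ hcopE.coprime_dvd_right hd2) μ hμ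
        exact ⟨P, hEP, η, hidx, Agent.Characters.isCharacter_of_isIrr hη,
          fun n => hηE ⟨⟨n, hEP n.2⟩, n.2⟩⟩
  exact ⟨⟨χ, hχ⟩, hχE⟩

end Cfsg.Agent.S4759
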