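import Cfsg.Statements.S4762
import Mathlib
import Cfsg.Agent.S0894
import Cfsg.Agent.S0095
import Cfsg.Agent.Solvable.Basics
import Cfsg.Agent.BlocksChars.Degrees
import Cfsg.Agent.Lib.Characters.CentralIndex
import Cfsg.Agent.Lib.Characters.Kernel
-- import your own Cfsg.Agent.* helpers here

set_option autoImplicit false
open Cfsg

namespace Cfsg.Agent.S4762

open scoped commutatorElement

open Cfsg.Agent.Characters in
/-- A finite nilpotent group with one character of degree divisible by `p` is a `p`-group. -/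
theorem isPGroup_of_one {G : Type*} [Group G] [Finite G] [Group.IsNilpotent G] (p : ℕ)
    [Fact p.Prime] (χ : Cfsg.IrrCharacter G) (hχ : p ∣ Cfsg.charDegree (χ : G → ℂ))
    (huniq : ∀ χ' : Cfsg.IrrCharacter G, p ∣ Cfsg.charDegree (χ' : G → ℂ) → χ' = χ) :
    IsPGroup p G := by
  classical
  have hp : p.Prime := Fact.out
  haveI := Fintype.ofFinite G
  have hn : ∀ {r : ℕ} [Fact r.Prime] (P : Sylow r G), P.Normal := fun {r} hr P =>
    inferInstance
  have hpG : p ∣ Nat.card G :=
    hχ.trans (Cfsg.Agent.BlocksChars.Degrees.charDegree_dvd_card χ)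
  by_contra hnp
  obtain ⟨q, hq, hqp, hqG⟩ : ∃ q : ℕ, q.Prime ∧ q ≠ p ∧ q ∣ Nat.card G := by
    by_contra hall
    push Not at hall
    exact hnp (IsPGroup.of_card (Nat.eq_prime_pow_of_unique_prime_dvd Nat.card_pos.ne'
      fun {d} hd hd' => by_contra fun hne => hall d hd hne hd'))
  haveI := Fact.mk hq
  let i : (Nat.card G).primeFactors := ⟨p, Nat.mem_primeFactors.2 ⟨hp, hpG, Nat.card_pos.ne'⟩⟩
  let j : (Nat.card G).primeFactors := ⟨q, Nat.mem_primeFactors.2 ⟨hq, hqG, Nat.card_pos.ne'⟩⟩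
  have hji : j ≠ i := fun e => hqp (congrArg Subtype.val e)
  let e := Sylow.directProductOfNormal (G := G) hn
  let P : Sylow p G := default
  let Q : Sylow q G := default
  let π : G →* ↥(P : Subgroup G) := ((Pi.evalMonoidHom (fun R : Sylow p G => ↥(R : Subgroup G)) P).comp
    (Pi.evalMonoidHom (fun r : (Nat.card G).primeFactors =>
      ∀ R : Sylow r G, ↥(R : Subgroup G)) i)).comp e.symm.toMonoidHom
  let σ : G →* ↥(Q : Subgroup G) := ((Pi.evalMonoidHom (fun R : Sylow q G => ↥(R : Subgroup G)) Q).comp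
    (Pi.evalMonoidHom (fun r : (Nat.card G).primeFactors =>
      ∀ R : Sylow r G, ↥(R : Subgroup G)) j)).comp e.symm.toMonoidHom
  have hπ : Function.Surjective π := fun g => by
    refine ⟨e (Pi.mulSingle i (Pi.mulSingle (M := fun R : Sylow p G => ↥(R : Subgroup G)) P g)), ?_⟩
    show (e.symm (e _)) i P = g
    rw [MulEquiv.symm_apply_apply, Pi.mulSingle_eq_same, Pi.mulSingle_eq_same]
  have hσ : ∀ g, ∃ x, σ x = g ∧ π x = 1 := fun g => by
    refine ⟨e (Pi.mulSingle j (Pi.mulSingle (M := fun R : Sylow q G => ↥(R : Subgroup G)) Q g)),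
      ?_, ?_⟩
    · show (e.symm (e _)) j Q = g
      rw [MulEquiv.symm_apply_apply, Pi.mulSingle_eq_same, Pi.mulSingle_eq_same]
    · show (e.symm (e _)) i P = 1
      rw [MulEquiv.symm_apply_apply, Pi.mulSingle_eq_of_ne hji.symm]
      rfl
  -- the Sylow `p`-subgroup has a character of degree divisible by `p`
  obtain ⟨ψ, hψ⟩ : ∃ ψ : Cfsg.IrrCharacter ↥(P : Subgroup G),
      p ∣ Cfsg.charDegree (ψ : ↥(P : Subgroup G) → ℂ) := by
    by_contra hall
    push Not at hall
    have hlin : ∀ ψ : Cfsg.IrrCharacter ↥(P : Subgroup G), (ψ : ↥(P : Subgroup G) → ℂ) 1 = 1 := by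
      intro ψ
      obtain ⟨k, hk⟩ := IsPGroup.iff_card.1 P.isPGroup'
      obtain ⟨m, hm, hme⟩ := (Nat.dvd_prime_pow hp).1
        (hk ▸ Cfsg.Agent.BlocksChars.Degrees.charDegree_dvd_card ψ)
      rw [← Cfsg.Agent.BlocksChars.Degrees.charDegree_cast ψ, hme]
      rcases Nat.eq_zero_or_pos m with rfl | hm0
      · simp
      · exact absurd (hme ▸ dvd_pow_self p hm0.ne') (hall ψ)
    have hcomm := comm_of_forall_degree_one hlin
    have hle : (P : Subgroup G) ≤ Subgroup.center G := fun x hx => by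
      rw [Subgroup.mem_center_iff]
      intro g
      refine e.symm.injective ?_
      rw [map_mul, map_mul]
      funext r R
      simp only [Pi.mul_apply]
      by_cases hr : r = i
      · subst hr
        haveI := (Sylow.unique_of_normal P (hn P))
        obtain rfl : R = P := Subsingleton.elim R P
        exact hcomm _ _
      · haveI := Fact.mk (Nat.prime_of_mem_primeFactors r.2)
        suffices hx1 : (e.symm x) r R = 1 by rw [hx1, one_mul, mul_one]
        obtain ⟨k, hk⟩ := IsPGroup.iff_orderOf.1 P.isPGroup' ⟨x, hx⟩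
        obtain ⟨l, hl⟩ := IsPGroup.iff_orderOf.1 R.isPGroup' ((e.symm x) r R)
        let f : G →* ↥(R : Subgroup G) :=
          ((Pi.evalMonoidHom (fun R' : Sylow r G => ↥(R' : Subgroup G)) R).comp
            (Pi.evalMonoidHom (fun r' : (Nat.card G).primeFactors =>
              ∀ R' : Sylow r' G, ↥(R' : Subgroup G)) r)).comp e.symm.toMonoidHom
        have hdvd : orderOf ((e.symm x) r R) ∣ p ^ k := by
          rw [← hk, Subgroup.orderOf_mk]
          exact orderOf_map_dvd f x
        rw [hl] at hdvd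
        have hco : (r.1 ^ l).Coprime (p ^ k) := Nat.Coprime.pow l k
          ((Nat.coprime_primes (Nat.prime_of_mem_primeFactors r.2) hp).2
            fun e' => hr (Subtype.ext e'))
        rw [← orderOf_eq_one_iff, hl]
        exact hco.eq_one_of_dvd hdvd
    obtain ⟨d, hd0, hd, hdvd⟩ : ∃ d : ℕ, 0 < d ∧ Cfsg.charDegree (χ : G → ℂ) = d ∧
        d ∣ (Subgroup.center G).index := by
      obtain ⟨d, hd1, hd2⟩ := irr_degree_dvd_center_index χ.2
      exact ⟨d, by
        rcases Nat.eq_zero_or_pos d with rfl | h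
        · exact absurd (by simpa using hd1) (irr_one_ne_zero χ.2)
        · exact h, by rw [Cfsg.charDegree, hd1, Complex.natCast_re, Nat.floor_natCast], hd2⟩
    exact P.not_dvd_index ((hd ▸ hχ).trans (hdvd.trans (Subgroup.index_dvd_of_le hle)))
  -- a linear character of the Sylow `q`-subgroup
  haveI : Nontrivial ↥(Q : Subgroup G) := by
    rw [← Finite.one_lt_card_iff_nontrivial, Q.card_eq_multiplicity]
    exact Nat.one_lt_pow (hq.factorization_pos_of_dvd Nat.card_pos.ne' hqG).ne' hq.one_lt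
  haveI := Q.isPGroup'.isNilpotent
  obtain ⟨lam, hlam⟩ : ∃ lam : ↥(Q : Subgroup G) →* ℂˣ, lam ≠ 1 := by
    by_contra hall
    push Not at hall
    have hc := card_linear_hom (G := ↥(Q : Subgroup G))
    haveI : Subsingleton (↥(Q : Subgroup G) →* ℂˣ) := ⟨fun a b => (hall a).trans (hall b).symm⟩
    rw [Nat.card_of_subsingleton (1 : ↥(Q : Subgroup G) →* ℂˣ), eq_comm, Subgroup.index_eq_one] at hc
    exact absurd hc (Group.IsSolvable.commutator_lt_top_of_nontrivial (G := ↥(Q : Subgroup G))).ne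
  obtain ⟨g, hg⟩ : ∃ g, lam g ≠ 1 := by
    by_contra hall
    push Not at hall
    exact hlam (MonoidHom.ext hall)
  obtain ⟨x, hxσ, hxπ⟩ := hσ g
  let χ1 : Cfsg.IrrCharacter G := ⟨_, isIrrCharacter_comp_surjective π hπ ψ.2⟩
  let χ2 : Cfsg.IrrCharacter G := ⟨_, isIrrCharacter_mul_linear χ1.2 (lam.comp σ)⟩
  have hd1 : p ∣ Cfsg.charDegree (χ1 : G → ℂ) := by
    show p ∣ ⌊((ψ : ↥(P : Subgroup G) → ℂ) (π 1)).re⌋₊
    rw [map_one]
    exact hψ
  have hd2 : p ∣ Cfsg.charDegree (χ2 : G → ℂ) := by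
    have : Cfsg.charDegree (χ2 : G → ℂ) = Cfsg.charDegree (χ1 : G → ℂ) := by
      simp [χ2, Cfsg.charDegree]
    exact this ▸ hd1
  have heq := congrFun (congrArg Subtype.val ((huniq χ1 hd1).trans (huniq χ2 hd2).symm)) x
  simp only [χ1, χ2, MonoidHom.comp_apply, Function.comp_apply, hxσ, hxπ] at heq
  have h0 := irr_one_ne_zero ψ.2
  refine hg (Units.ext ?_)
  rw [Units.val_one]
  first
    | exact mul_left_cancel₀ h0 (by rw [mul_one]; exact heq.symm)
    | exact mul_right_cancel₀ h0 (by rw [one_mul]; exact heq.symm)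

open Cfsg.Agent.Characters in
/-- The unique nonlinear character forces an extraspecial `2`-group. -/
theorem extraspecial_of_one {G : Type*} [Group G] [Finite G] (p : ℕ) [Fact p.Prime]
    (hG : IsPGroup p G) (χ : Cfsg.IrrCharacter G) (hχ : p ∣ Cfsg.charDegree (χ : G → ℂ))
    (huniq : ∀ χ' : Cfsg.IrrCharacter G, p ∣ Cfsg.charDegree (χ' : G → ℂ) → χ' = χ) :
    p = 2 ∧ Cfsg.IsExtraspecial 2 G := by
  classical
  have hp : p.Prime := Fact.out
  haveI := Fintype.ofFinite G
  haveI := Fintype.ofFinite (Cfsg.IrrCharacter G)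
  haveI := hG.isNilpotent
  obtain ⟨N, hN⟩ := IsPGroup.iff_card.1 hG
  obtain ⟨e, -, he⟩ := (Nat.dvd_prime_pow hp).1
    (hN ▸ Cfsg.Agent.BlocksChars.Degrees.charDegree_dvd_card χ)
  have hχ1 : (χ : G → ℂ) 1 = (p : ℂ) ^ e := by
    rw [← Cfsg.Agent.BlocksChars.Degrees.charDegree_cast χ, he, Nat.cast_pow]
  have hone : ∀ χ' : Cfsg.IrrCharacter G, χ' ≠ χ → (χ' : G → ℂ) 1 = 1 := fun χ' hne => by
    obtain ⟨m, -, hme⟩ := (Nat.dvd_prime_pow hp).1
      (hN ▸ Cfsg.Agent.BlocksChars.Degrees.charDegree_dvd_card χ')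
    rw [← Cfsg.Agent.BlocksChars.Degrees.charDegree_cast χ', hme]
    rcases Nat.eq_zero_or_pos m with rfl | hm0
    · simp
    · exact absurd (huniq χ' (hme ▸ dvd_pow_self p hm0.ne')) hne
  have he0 : e ≠ 0 := fun h => by
    rw [he, h, pow_zero] at hχ
    exact hp.not_dvd_one hχ
  have hne1 : (χ : G → ℂ) 1 ≠ 1 := by
    rw [hχ1, ← Nat.cast_pow, Nat.cast_ne_one]
    exact (Nat.one_lt_pow he0 hp.one_lt).ne'
  -- the sum of squares
  have hcount : p ^ N = (commutator G).index + p ^ (2 * e) := by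
    have h := sum_degree_sq (G := G)
    rw [← Finset.add_sum_erase _ _ (Finset.mem_univ χ),
      Finset.sum_congr rfl (g := fun _ => (1 : ℂ)) (fun χ' hχ' => by
        rw [hone χ' (Finset.ne_of_mem_erase hχ'), one_pow]),
      Finset.sum_const, nsmul_eq_mul, mul_one, hχ1, hN] at h
    have hlin : (Finset.univ.erase χ).card = (commutator G).index := by
      rw [← card_linear_hom, ← Nat.card_congr (Equiv.refl (G →* ℂˣ))]
      rw [card_linear_hom, ← card_degree_one, Nat.card_eq_fintype_card, Fintype.card_subtype]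
      congr 1
      ext χ'
      simp only [Finset.mem_erase, Finset.mem_univ, and_true, Finset.mem_filter, true_and]
      exact ⟨hone χ', fun h1 h2 => hne1 (h2 ▸ h1)⟩
    rw [hlin, ← pow_mul, mul_comm e 2] at h
    have : (((commutator G).index + p ^ (2 * e) : ℕ) : ℂ) = ((p ^ N : ℕ) : ℂ) := by
      push_cast at h ⊢
      linear_combination h
    exact_mod_cast this.symm
  obtain ⟨a, ha⟩ := hG.index (commutator G)
  rw [ha] at hcount
  have hC := (commutator G).card_mul_index
  rw [ha, hN] at hC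
  obtain ⟨b, hb, hb'⟩ := (Nat.dvd_prime_pow hp).1 (hN ▸ (commutator G).card_subgroup_dvd_card)
  rw [hb', ← pow_add] at hC
  have hba := Nat.pow_right_injective hp.two_le hC
  have hb0 : b ≠ 0 := fun h => by
    rw [h, zero_add] at hba
    rw [hba] at hcount
    have := pow_pos hp.pos (2 * e)
    omega
  -- `p ^ a * (p ^ b - 1) = p ^ (2 * e)`
  have hdvd : (p ^ b - 1) ∣ p ^ (2 * e) := by
    refine ⟨p ^ a, ?_⟩
    have h1 : p ^ N = p ^ b * p ^ a := by rw [← pow_add, hba]
    rw [Nat.sub_mul, one_mul]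
    omega
  have hpb : p ^ b - 1 = 1 := by
    obtain ⟨c, -, hc⟩ := (Nat.dvd_prime_pow hp).1 hdvd
    rcases Nat.eq_zero_or_pos c with rfl | hc0
    · rw [pow_zero] at hc; exact hc
    exfalso
    have h1 : p ∣ p ^ b - 1 := hc ▸ dvd_pow_self p hc0.ne'
    have h2 := Nat.dvd_sub (dvd_pow_self p hb0) h1
    rw [show p ^ b - (p ^ b - 1) = 1 by have := pow_pos hp.pos b; omega] at h2
    exact hp.not_dvd_one h2
  have hp2 : p = 2 := ((Nat.prime_dvd_prime_iff_eq hp Nat.prime_two).1
    ((show p ^ b = 2 by have := pow_pos hp.pos b; omega) ▸ dvd_pow_self p hb0))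
  subst hp2
  have hcard2 : Nat.card ↥(commutator G) = 2 := by
    rw [hb']; have := pow_pos hp.pos b; omega
  -- the character vanishes outside the derived subgroup
  have hvan : ∀ g, g ∉ commutator G → (χ : G → ℂ) g = 0 := fun g hg => by
    obtain ⟨ψ0, hψ0, hψ⟩ := exists_irr_ne (g := (QuotientGroup.mk g : G ⧸ commutator G))
      (fun h => hg ((QuotientGroup.eq_one_iff g).1 h))
    let ψ : Cfsg.IrrCharacter (G ⧸ commutator G) := ⟨ψ0, hψ0⟩
    change (ψ : G ⧸ commutator G → ℂ) _ ≠ (ψ : G ⧸ commutator G → ℂ) 1 at hψ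
    have hψ1 : (ψ : G ⧸ commutator G → ℂ) 1 = 1 :=
      irr_degree_one_of_comm (fun u v => by
        induction u using QuotientGroup.induction_on with
        | H u =>
          induction v using QuotientGroup.induction_on with
          | H v =>
            rw [← QuotientGroup.mk_mul, ← QuotientGroup.mk_mul, QuotientGroup.eq]
            have : (u * v)⁻¹ * (v * u) = ⁅v⁻¹, u⁻¹⁆ := by rw [commutatorElement_def]; group
            rw [this]
            exact Subgroup.commutator_mem_commutator (Subgroup.mem_top _) (Subgroup.mem_top _)) ψ.2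
    let lam : G →* ℂˣ :=
      (linearOfDegreeOne (irr_isCharacter ψ) hψ1).comp (QuotientGroup.mk' (commutator G))
    let χ2 : Cfsg.IrrCharacter G := ⟨_, isIrrCharacter_mul_linear χ.2 lam⟩
    have hd2 : Cfsg.charDegree (χ2 : G → ℂ) = Cfsg.charDegree (χ : G → ℂ) := by
      simp [χ2, Cfsg.charDegree]
    have heq := congrFun (congrArg Subtype.val (huniq χ2 (hd2.symm ▸ hχ))) g
    simp only [χ2, lam, MonoidHom.comp_apply, linearOfDegreeOne_apply, QuotientGroup.mk'_apply] at heq
    rw [hψ1] at hψ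
    by_contra h0
    first
      | exact hψ (mul_left_cancel₀ h0 (heq.trans (mul_one _).symm))
      | exact hψ (mul_right_cancel₀ h0 (heq.trans (one_mul _).symm))
  have hcent : Subgroup.center G ≤ commutator G := fun z hz => by
    by_contra hzn
    obtain ⟨m, ρ, hρ, hchar⟩ := χ.2
    obtain ⟨c, hc⟩ := schur_scalar ρ (ρ z) (fun g v => by
      rw [← Module.End.mul_apply, ← map_mul, ← Module.End.mul_apply, ← map_mul,
        Subgroup.mem_center_iff.1 hz g])
    have h0 := hvan z hzn
    rw [← hchar] at h0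
    have hρz : ρ z = 0 := by
      rw [Representation.character, hc, map_smul, LinearMap.trace_id, smul_eq_mul,
        mul_eq_zero] at h0
      rcases h0 with h0 | h0
      · rw [hc, h0, zero_smul]
      · exact absurd h0 (by exact_mod_cast (finrank_pos_of_isIrreducible ρ).ne')
    have h1 : ρ 1 = 0 := by
      rw [show (1 : G) = z * z⁻¹ by group, map_mul, hρz, zero_mul]
    exact hne1 (absurd (by rw [← hchar, Representation.character, h1, map_zero]) (irr_one_ne_zero χ.2))
  haveI : Nontrivial G := by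
    rw [← Finite.one_lt_card_iff_nontrivial, hN]
    exact Nat.one_lt_pow (by omega) hp.one_lt
  haveI := hG.center_nontrivial
  have hZ2 : Nat.card (Subgroup.center G) = 2 := by
    have h1 := Subgroup.card_dvd_of_le hcent
    rw [hcard2, Nat.dvd_prime Nat.prime_two] at h1
    exact h1.resolve_left (Finite.one_lt_card.ne')
  have heq : commutator G = Subgroup.center G :=
    (Subgroup.eq_of_le_of_card_ge hcent (by rw [hcard2, hZ2])).symm
  have hC2 : ∀ u ∈ Subgroup.center G, u * u = 1 := fun u hu => by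
    have := Subgroup.orderOf_dvd_natCard _ hu
    rw [hZ2] at this
    rw [← sq]
    exact orderOf_dvd_iff_pow_eq_one.1 this
  have hsq : ∀ x : G, x ^ 2 ∈ Subgroup.center G := fun x => by
    rw [Subgroup.mem_center_iff]
    intro y
    have hc : ⁅x, y⁆ ∈ Subgroup.center G :=
      heq ▸ Subgroup.commutator_mem_commutator (Subgroup.mem_top _) (Subgroup.mem_top _)
    have hxy : x * y = ⁅x, y⁆ * (y * x) := by rw [commutatorElement_def]; group
    have hcc := Subgroup.mem_center_iff.1 hc
    calc y * x ^ 2 = ⁅x, y⁆ * ⁅x, y⁆ * (y * x * x) := by rw [hC2 _ hc, one_mul, sq, mul_assoc]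
      _ = ⁅x, y⁆ * (x * y * x) := by rw [hxy]; group
      _ = x * (⁅x, y⁆ * (y * x)) := by rw [← mul_assoc x, hcc x]; simp only [mul_assoc]
      _ = x * (x * y) := by rw [← hxy]
      _ = x ^ 2 * y := by rw [sq, mul_assoc]
  refine ⟨rfl, ⟨hG, le_antisymm ?_ ?_, heq⟩, hZ2⟩
  · intro x hx
    by_contra hxn
    obtain ⟨Mx, hM, hle, hxM⟩ := Cfsg.Agent.Solvable.Basics.exists_coatom_notMem Nat.prime_two
      (N := Subgroup.center G) (le_of_eq heq) hsq hxn
    exact hxM (frattini_le_coatom hM hx)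
  · rw [← heq]
    rw [frattini, Order.radical]
    refine le_iInf fun Mx => le_iInf fun hM => ?_
    haveI := Subgroup.NormalizerCondition.normal_of_coatom Mx
      Group.normalizerCondition_of_isNilpotent hM
    have hi := Cfsg.Agent.Solvable.Basics.index_prime_of_normal_coatom hM
    haveI := Fact.mk hi
    haveI : IsCyclic (G ⧸ Mx) := isCyclic_of_prime_card (p := Mx.index) (Subgroup.index_eq_card Mx).symm
    letI : CommGroup (G ⧸ Mx) := IsCyclic.commGroup
    exact Subgroup.Normal.quotient_commutative_iff_commutator_le.mp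
      ⟨⟨fun a b => mul_comm a b⟩⟩


/-- Let p be a prime and G a finite nilpotent group. Then G has exactly one irreducible complex character of degree divisible by p if and only if p = 2 and G is an extraspecial 2-group. -/
theorem result {G : Type*} [Group G] [Finite G] [Group.IsNilpotent G] (p : ℕ) [Fact p.Prime] : Nat.card {χ : Cfsg.IrrCharacter G // p ∣ Cfsg.charDegree (χ : G → ℂ)} = 1 ↔ (p = 2 ∧ Cfsg.IsExtraspecial 2 G) := by
  classical
  constructor
  · intro h
    obtain ⟨hsub, ⟨⟨χ, hχ⟩⟩⟩ := Nat.card_eq_one_iff_unique.1 h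
    have huniq : ∀ χ' : Cfsg.IrrCharacter G, p ∣ Cfsg.charDegree (χ' : G → ℂ) → χ' = χ :=
      fun χ' h' => congrArg Subtype.val (hsub.elim ⟨χ', h'⟩ ⟨χ, hχ⟩)
    exact extraspecial_of_one p (isPGroup_of_one p χ hχ huniq) χ hχ huniq
  · rintro ⟨rfl, hE⟩
    obtain ⟨n, hn1, hn⟩ := Cfsg.Agent.S0095.result hE
    obtain ⟨hall, hcnt⟩ := Cfsg.Agent.S0894.result 2 n hE hn
    rw [show (2 : ℕ) - 1 = 1 from rfl] at hcnt
    rw [← hcnt]
    refine Nat.card_congr (Equiv.subtypeEquivRight fun χ => ?_)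
    rcases hall χ with h | h
    · rw [Cfsg.charDegree, h, Complex.one_re, Nat.floor_one]
      refine iff_of_false (by norm_num) ?_
      rw [show ((2 : ℕ) : ℂ) ^ n = ((2 ^ n : ℕ) : ℂ) by push_cast; ring, eq_comm, Nat.cast_eq_one]
      exact (Nat.one_lt_pow (by omega) (by norm_num)).ne'
    · refine iff_of_true ?_ h
      rw [Cfsg.charDegree, h, show ((2 : ℕ) : ℂ) ^ n = ((2 ^ n : ℕ) : ℂ) by push_cast; ring,
        Complex.natCast_re, Nat.floor_natCast]
      exact dvd_pow_self 2 (by omega)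

end Cfsg.Agent.S4762
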