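import Cfsg.Statements.S4763
import Mathlib
import Cfsg.Agent.BlocksChars.UniqueSingularClasses
-- import your own Cfsg.Agent.* helpers here

set_option autoImplicit false
open Cfsg

namespace Cfsg.Agent.S4763

/-- Let p be a prime and G a finite group that is not nilpotent and has a normal p-complement (a normal subgroup of order prime to p and index a power of p). If G has exactly one irreducible complex character of degree divisible by p, then G has exactly one conjugacy class whose size is divisible by p. -/
theorem result {G : Type*} [Group G] [Finite G] (p : ℕ) [Fact p.Prime] (hnil : ¬ Group.IsNilpotent G) (N : Subgroup G) [N.Normal] (hN : (Nat.card N).Coprime p) (hidx : ∃ k : ℕ, N.index = p ^ k) (hone : Nat.card {χ : Cfsg.IrrCharacter G // p ∣ Cfsg.charDegree (χ : G → ℂ)} = 1) : Nat.card {C : ConjClasses G // p ∣ Nat.card C.carrier} = 1 := by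
  classical
  haveI := Fintype.ofFinite G
  haveI := Fintype.ofFinite N
  haveI := Fintype.ofFinite (Cfsg.IrrCharacter G)
  have hp : p.Prime := Fact.out
  obtain ⟨hsub, ⟨⟨χ, hχ⟩⟩⟩ := Nat.card_eq_one_iff_unique.1 hone
  have H : BlocksChars.UniqueSingularComplement.Hyp (p := p) N χ :=
    { cop := fun h => hp.coprime_iff_not_dvd.1 hN.symm h
      idx := hidx
      ne_bot := fun e => hnil (by
        obtain ⟨k, hk⟩ := hidx
        have hG : IsPGroup p G := IsPGroup.of_card (n := k) (by
          rw [← hk, e, Subgroup.index_bot])
        exact hG.isNilpotent)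
      dvd := hχ
      uniq := fun ψ h => congrArg Subtype.val (hsub.elim ⟨ψ, h⟩ ⟨χ, hχ⟩) }
  obtain ⟨P⟩ : Nonempty (Sylow p G) := inferInstance
  exact BlocksChars.UniqueSingularClasses.one_singular_class H P

end Cfsg.Agent.S4763
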