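import Cfsg.Statements.S4774
import Mathlib
import Cfsg.Agent.BlocksChars.SL2DegreeGraph
-- import your own Cfsg.Agent.* helpers here

set_option autoImplicit false
open Cfsg

namespace Cfsg.Agent.S4774

/-- Let F be a finite field of odd characteristic t with q > 5 elements and let S be isomorphic to PSL(2,F) or to SL(2,F). Then the vertices of the character degree graph of S are the primes dividing q(q²−1); the prime t is adjacent to no vertex; two distinct primes dividing q² − 1 are adjacent exactly when one of them is 2, or both divide q + 1, or both divide q − 1. -/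
theorem result (F : Type*) [Field F] [Fintype F] (t : ℕ) [Fact t.Prime] [CharP F t] (ht : t ≠ 2) (q : ℕ) (hq : Fintype.card F = q) (h5 : 5 < q) {S : Type*} [Group S] [Finite S] (hS : Nonempty (S ≃* Matrix.ProjectiveSpecialLinearGroup (Fin 2) F) ∨ Nonempty (S ≃* Matrix.SpecialLinearGroup (Fin 2) F)) : Cfsg.degreePrimes S = {r : ℕ | r.Prime ∧ r ∣ q * (q ^ 2 - 1)} ∧ ∀ r s : ℕ, (Cfsg.degreeGraph S).Adj r s ↔ (r ≠ s ∧ r.Prime ∧ s.Prime ∧ r ∣ q ^ 2 - 1 ∧ s ∣ q ^ 2 - 1 ∧ (r = 2 ∨ s = 2 ∨ (r ∣ q + 1 ∧ s ∣ q + 1) ∨ (r ∣ q - 1 ∧ s ∣ q - 1))) := by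
  classical
  obtain ⟨n, -, hn⟩ := FiniteField.card F t
  have hodd : Odd q := by
    rw [← hq, hn]
    exact ((Fact.out : t.Prime).odd_of_ne_two ht).pow
  have hD := BlocksChars.SL2DegreeGraph.degSet_of_iso (F := F) (S := S) (by omega) (fun _ => by omega) hS
  rw [hq] at hD
  refine ⟨BlocksChars.SL2DegreeGraph.degreePrimes_eq hD, fun r s => ?_⟩
  rw [BlocksChars.SL2DegreeGraph.adj_iff (t := t) (n := n) Fact.out (hq.symm.trans hn) hD]
  exact and_congr_right fun _ => and_congr_right fun hr => and_congr_right fun hs =>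
    BlocksChars.SL2DegreeGraph.dvd_odd_iff hodd hr hs

end Cfsg.Agent.S4774
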