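import Cfsg.Statements.S4775
import Mathlib
import Cfsg.Agent.BlocksChars.SuzukiDegrees.Group
-- import your own Cfsg.Agent.* helpers here

set_option autoImplicit false
open Cfsg

namespace Cfsg.Agent.S4775

open Cfsg.Agent.Suzuki Cfsg.Agent.BlocksChars.SuzukiDegrees

theorem shape_of_iso {F : Type*} [Field F] [Fintype F] {m : ℕ} (hm : 1 ≤ m)
    (hF : Fintype.card F = 2 ^ (2 * m + 1)) {S : Type*} [Group S]
    (e : S ≃* ↥(Cfsg.Lie.Sz F (2 ^ (m + 1)))) :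
    DegShape (Cfsg.charDegrees S) (2 ^ m) (2 ^ (2 * m + 1) - 1) (kPlus m) (kMinus m) := by
  haveI := charTwo hF
  obtain ⟨e'⟩ := lieEquiv hm hF
  rw [BlocksChars.SL2Degrees.charDegrees_congr (e.trans e'.symm)]
  exact degShape_Sz hm hF

theorem dvd_two_or {m r : ℕ} (hr : r.Prime) {x : ℕ} (h : r ∣ x * 2 ^ m) : r = 2 ∨ r ∣ x := by
  rcases hr.dvd_mul.1 h with h | h
  · exact Or.inr h
  · exact Or.inl ((Nat.prime_dvd_prime_iff_eq hr Nat.prime_two).1 (hr.dvd_of_dvd_pow h))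

theorem eq_two_of_dvd {k r : ℕ} (hr : r.Prime) (h : r ∣ 4 * (2 ^ k) ^ 4) : r = 2 := by
  rw [show 4 * (2 ^ k) ^ 4 = 2 ^ (2 + k * 4) by rw [pow_add, pow_mul]; norm_num] at h
  exact (Nat.prime_dvd_prime_iff_eq hr Nat.prime_two).1 (hr.dvd_of_dvd_pow h)


/-- Let F be a finite field with q = 2^(2m+1) ≥ 8 elements and let S be isomorphic to the Suzuki group over F. Then the vertices of the character degree graph of S are 2 and the primes dividing (q − 1)(q² + 1); the primes dividing (q − 1)(q² + 1) are pairwise adjacent, and 2 is adjacent exactly to the primes dividing q − 1. -/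
theorem result (F : Type*) [Field F] [Fintype F] (m : ℕ) (hm : 1 ≤ m) (q : ℕ) (hq : Fintype.card F = q) (hqm : q = 2 ^ (2 * m + 1)) {S : Type*} [Group S] [Finite S] (hS : Nonempty (S ≃* ↥(Cfsg.Lie.Sz F (2 ^ (m + 1))))) : Cfsg.degreePrimes S = {r : ℕ | r.Prime ∧ (r = 2 ∨ r ∣ (q - 1) * (q ^ 2 + 1))} ∧ ∀ r s : ℕ, (Cfsg.degreeGraph S).Adj r s ↔ (r ≠ s ∧ r.Prime ∧ s.Prime ∧ ((r ∣ (q - 1) * (q ^ 2 + 1) ∧ s ∣ (q - 1) * (q ^ 2 + 1)) ∨ (r = 2 ∧ s ∣ q - 1) ∨ (s = 2 ∧ r ∣ q - 1))) := by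
  obtain ⟨e⟩ := hS
  subst hq
  obtain ⟨hall, hsq, hsq1, hwp, hwm, hwa⟩ := shape_of_iso hm hqm e
  have hk := kPlus_mul_kMinus hm
  have hq2 : 4 * (2 ^ m) ^ 4 + 1 = (2 ^ (2 * m + 1)) ^ 2 + 1 := by rw [← pow_mul, ← pow_mul]; ring
  rw [hqm]
  set q := 2 ^ (2 * m + 1) with hqd
  rw [hq2] at hall hsq1
  have hkp : kPlus m ∣ q ^ 2 + 1 := ⟨_, hk.symm⟩
  have hkm : kMinus m ∣ q ^ 2 + 1 := ⟨_, by rw [mul_comm]; exact hk.symm⟩
  refine ⟨?_, fun r s => ?_⟩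
  · ext r
    constructor
    · rintro ⟨hr, d, hd, hrd⟩
      refine ⟨hr, ?_⟩
      rcases hall d hd with rfl | rfl | rfl | rfl | rfl | rfl
      · exact absurd (Nat.dvd_one.1 hrd) hr.ne_one
      · exact Or.inl (eq_two_of_dvd hr hrd)
      · exact Or.inr (Dvd.dvd.mul_left hrd _)
      · exact Or.inr (hrd.trans (Nat.mul_dvd_mul_left _ hkp))
      · exact Or.inr (hrd.trans (Nat.mul_dvd_mul_left _ hkm))
      · exact (dvd_two_or hr hrd).imp_right fun h => Dvd.dvd.mul_right h _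
    · rintro ⟨hr, rfl | h⟩
      · exact ⟨hr, _, hsq, Dvd.dvd.mul_right (by norm_num) _⟩
      · rcases hr.dvd_mul.1 h with h | h
        exacts [⟨hr, _, hwa, Dvd.dvd.mul_right h _⟩, ⟨hr, _, hsq1, h⟩]
  · constructor
    · rintro ⟨hne, hr, hs, d, hd, hrs⟩
      refine ⟨hne, hr, hs, ?_⟩
      have hrd := (dvd_mul_right r s).trans hrs
      have hsd := (dvd_mul_left s r).trans hrs
      rcases hall d hd with rfl | rfl | rfl | rfl | rfl | rfl
      · exact absurd (Nat.dvd_one.1 hrd) hr.ne_one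
      · exact absurd ((eq_two_of_dvd hr hrd).trans (eq_two_of_dvd hs hsd).symm) hne
      · exact Or.inl ⟨Dvd.dvd.mul_left hrd _, Dvd.dvd.mul_left hsd _⟩
      · exact Or.inl ⟨hrd.trans (Nat.mul_dvd_mul_left _ hkp), hsd.trans (Nat.mul_dvd_mul_left _ hkp)⟩
      · exact Or.inl ⟨hrd.trans (Nat.mul_dvd_mul_left _ hkm), hsd.trans (Nat.mul_dvd_mul_left _ hkm)⟩
      · rcases dvd_two_or hr hrd with hr2 | hr2 <;> rcases dvd_two_or hs hsd with hs2 | hs2
        · exact absurd (hr2.trans hs2.symm) hne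
        · exact Or.inr (Or.inl ⟨hr2, hs2⟩)
        · exact Or.inr (Or.inr ⟨hs2, hr2⟩)
        · exact Or.inl ⟨Dvd.dvd.mul_right hr2 _, Dvd.dvd.mul_right hs2 _⟩
    · rintro ⟨hne, hr, hs, h⟩
      refine ⟨hne, hr, hs, ?_⟩
      have hcop : r.Coprime s := (Nat.coprime_primes hr hs).2 hne
      have mk : ∀ D ∈ Cfsg.charDegrees S, r ∣ D → s ∣ D → ∃ d ∈ Cfsg.charDegrees S, r * s ∣ d :=
        fun D hD h1 h2 => ⟨D, hD, hcop.mul_dvd_of_dvd_of_dvd h1 h2⟩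
      rcases h with ⟨h1, h2⟩ | ⟨rfl, h2⟩ | ⟨rfl, h1⟩
      · have three : ∀ p : ℕ, p.Prime → p ∣ (q - 1) * (q ^ 2 + 1) →
            p ∣ q - 1 ∨ p ∣ kPlus m ∨ p ∣ kMinus m := by
          intro p hp hpd
          rw [← hk] at hpd
          exact (hp.dvd_mul.1 hpd).imp_right hp.dvd_mul.1
        have big : ∀ {p}, p ∣ kPlus m ∨ p ∣ kMinus m → p ∣ q ^ 2 + 1 := fun h =>
          h.elim (fun h => h.trans hkp) fun h => h.trans hkm
        rcases three r hr h1 with a1 | a1 <;> rcases three s hs h2 with a2 | a2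
        · exact mk _ hwp (Dvd.dvd.mul_right a1 _) (Dvd.dvd.mul_right a2 _)
        · rcases a2 with a2 | a2
          exacts [mk _ hwp (Dvd.dvd.mul_right a1 _) (Dvd.dvd.mul_left a2 _),
            mk _ hwm (Dvd.dvd.mul_right a1 _) (Dvd.dvd.mul_left a2 _)]
        · rcases a1 with a1 | a1
          exacts [mk _ hwp (Dvd.dvd.mul_left a1 _) (Dvd.dvd.mul_right a2 _),
            mk _ hwm (Dvd.dvd.mul_left a1 _) (Dvd.dvd.mul_right a2 _)]
        · exact mk _ hsq1 (big a1) (big a2)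
      · exact mk _ hwa (Dvd.dvd.mul_left (dvd_pow_self 2 (by omega)) _) (Dvd.dvd.mul_right h2 _)
      · exact mk _ hwa (Dvd.dvd.mul_right h1 _) (Dvd.dvd.mul_left (dvd_pow_self 2 (by omega)) _)

end Cfsg.Agent.S4775
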