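import Cfsg.Statements.S4784
import Mathlib
import Cfsg.Agent.BlocksChars.Codegree
import Cfsg.Agent.Lib.FrobeniusSchur.Basic
import Cfsg.Agent.Lib.Characters.Induction
-- import your own Cfsg.Agent.* helpers here

set_option autoImplicit false
open Cfsg

namespace Cfsg.Agent.S4784

open Cfsg.Agent.Characters Cfsg.Agent.BlocksChars.Degrees Cfsg.Agent.BlocksChars.Codegree
open scoped ComplexConjugate

/-- The permutation character as a number of fixed cosets. -/
theorem card_mul_perm {G : Type*} [Group G] [Fintype G] (H : Subgroup G) (g : G)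
    [DecidablePred fun x : G => x⁻¹ * g * x ∈ H] :
    (Nat.card H : ℂ) * Cfsg.indFun H (fun _ : H => (1 : ℂ)) g =
      ((Finset.univ.filter fun x : G => x⁻¹ * g * x ∈ H).card : ℂ) := by
  classical
  rw [CharTheory.IndBasic.card_mul_indFun, Finset.card_filter, Nat.cast_sum]
  refine Finset.sum_congr rfl fun x _ => ?_
  by_cases h : x⁻¹ * g * x ∈ H
  · rw [if_pos h]
    simp only [Cfsg.extendByZero]
    exact (Subtype.val_injective.extend_apply (fun _ : H => (1 : ℂ)) 0 ⟨_, h⟩).trans Nat.cast_one.symm
  · rw [if_neg h]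
    simp only [Cfsg.extendByZero]
    rw [Function.extend_apply' _ _ _ (by rintro ⟨y, hy⟩; exact h (hy ▸ y.2))]
    simp

/-- If squaring is a bijection modulo `N`, the Frobenius-Schur sum over `N` is the plain sum. -/
theorem sum_sq_eq {G : Type*} [Group G] [Fintype G] (N : Subgroup G) [N.Normal]
    (hodd : Odd N.index) {χ : G → ℂ} (hχ : Cfsg.IsCharacter G χ)
    (hk : ∀ x ∈ N, χ x = χ 1) : ∑ g : G, χ (g * g) = ∑ g : G, χ g := by
  classical
  obtain ⟨ψ, -, hψ, -⟩ := exists_deflate_quotient N hχ hk
  haveI := Fintype.ofFinite (G ⧸ N)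
  simp only [← hψ, QuotientGroup.mk_mul]
  have hcop : (Nat.card (G ⧸ N)).Coprime 2 := by
    rw [← Subgroup.index_eq_card]; exact Nat.coprime_two_right.2 hodd
  have hfib : ∀ (f : G ⧸ N → ℂ), ∑ g : G, f (g : G ⧸ N) = ∑ q : G ⧸ N, (Nat.card N : ℂ) * f q := by
    intro f
    rw [← Finset.sum_fiberwise Finset.univ (QuotientGroup.mk : G → G ⧸ N)]
    refine Finset.sum_congr rfl fun q _ => ?_
    rw [Finset.sum_congr rfl (fun g hg => by rw [(Finset.mem_filter.1 hg).2] :
      ∀ g ∈ Finset.univ.filter (fun g : G => (g : G ⧸ N) = q), f (g : G ⧸ N) = f q),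
      Finset.sum_const, nsmul_eq_mul]
    congr 2
    obtain ⟨a, rfl⟩ := QuotientGroup.mk_surjective q
    rw [Nat.card_eq_fintype_card, ← Fintype.card_subtype]
    exact Fintype.card_congr
      { toFun := fun x => ⟨a⁻¹ * x.1, QuotientGroup.eq.1 x.2.symm⟩
        invFun := fun n => ⟨a * n.1, QuotientGroup.eq.2 (by simpa using N.inv_mem n.2)⟩
        left_inv := fun x => by simp
        right_inv := fun n => by simp }
  rw [hfib (fun q => ψ (q * q)), hfib ψ]
  refine Fintype.sum_equiv (powCoprime hcop) _ _ fun q => ?_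
  rw [powCoprime_apply, sq]


/-- Let H be a subgroup of the finite group G and consider the permutation character of G on the cosets of H (the function induced from the principal character of H). Then exactly one irreducible constituent of it is real-valued with Frobenius–Schur indicator +1 (namely the principal character) if and only if the normal core of H has odd index in G. -/
theorem result {G : Type*} [Group G] [Fintype G] (H : Subgroup G) : Nat.card {χ : Cfsg.IrrCharacter G // Cfsg.classInner (Cfsg.indFun H (fun _ : H => (1 : ℂ))) (χ : G → ℂ) ≠ 0 ∧ (∀ g : G, (starRingEnd ℂ) ((χ : G → ℂ) g) = (χ : G → ℂ) g) ∧ (Nat.card G : ℂ)⁻¹ * ∑ g : G, (χ : G → ℂ) (g * g) = 1} = 1 ↔ Odd H.normalCore.index := by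
  classical
  haveI := Fintype.ofFinite (Cfsg.IrrCharacter G)
  haveI := Fintype.ofFinite H
  haveI : H.normalCore.Normal := inferInstance
  set π := Cfsg.indFun H (fun _ : H => (1 : ℂ)) with hπdef
  have hπ : Cfsg.IsCharacter G π := isCharacter_indFun H isCharacter_one
  obtain ⟨m, hm⟩ := char_eq_sum_nat hπ
  have hinner : ∀ χ : Cfsg.IrrCharacter G, Cfsg.classInner π (χ : G → ℂ) = (m χ : ℂ) := fun χ => by
    rw [hm, classInner_sum_smul_irr Finset.univ χ, if_pos (Finset.mem_univ _)]
  have hm1 : m (trivIrr G) = 1 := by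
    have h := hinner (trivIrr G)
    rw [trivIrr_coe, hπdef, frobenius_reciprocity _ _
      (char_isClassFunction (isCharacter_one (G := G)))] at h
    rw [classInner_isIrr_self isIrrCharacter_one] at h
    exact_mod_cast h.symm
  have hH0 : (Nat.card H : ℂ) ≠ 0 := Nat.cast_ne_zero.2 Nat.card_pos.ne'
  -- membership in the set of real orthogonal constituents
  have hmem : ∀ χ : Cfsg.IrrCharacter G,
      (Cfsg.classInner π (χ : G → ℂ) ≠ 0 ∧ (∀ g : G, conj ((χ : G → ℂ) g) = (χ : G → ℂ) g) ∧
        (Nat.card G : ℂ)⁻¹ * ∑ g : G, (χ : G → ℂ) (g * g) = 1) ↔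
      (m χ ≠ 0 ∧ FrobeniusSchur.nu (χ : G → ℂ) = 1) := by
    intro χ
    rw [hinner, Nat.cast_ne_zero]
    refine and_congr_right fun _ => ⟨fun h => h.2, fun h => ⟨fun g => ?_, h⟩⟩
    exact Complex.conj_eq_iff_im.2
      ((FrobeniusSchur.nu_ne_zero_iff χ).1 (by rw [h]; exact one_ne_zero) g)
  have htriv : m (trivIrr G) ≠ 0 ∧ FrobeniusSchur.nu ((trivIrr G : Cfsg.IrrCharacter G) : G → ℂ) = 1 := by
    refine ⟨by rw [hm1]; exact one_ne_zero, ?_⟩
    simp [FrobeniusSchur.nu, Nat.card_eq_fintype_card]
  constructor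
  · intro hone
    have huniq : ∀ χ : Cfsg.IrrCharacter G, m χ ≠ 0 → FrobeniusSchur.nu (χ : G → ℂ) = 1 →
        χ = trivIrr G := by
      intro χ h1 h2
      have hs := (Nat.card_eq_one_iff_unique.1 hone).1
      exact congrArg Subtype.val (hs.elim ⟨χ, (hmem χ).2 ⟨h1, h2⟩⟩ ⟨trivIrr G, (hmem _).2 htriv⟩)
    -- `∑ π(g²) ≤ |G|`
    have hsumle : (∑ g : G, π (g * g)).re ≤ (Nat.card G : ℝ) := by
      have h1 : ∑ g : G, π (g * g) = (Nat.card G : ℂ) *
          ∑ χ : Cfsg.IrrCharacter G, (m χ : ℂ) * FrobeniusSchur.nu (χ : G → ℂ) := by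
        rw [hm, Finset.mul_sum]
        simp only [Finset.sum_apply, Pi.smul_apply, smul_eq_mul]
        rw [Finset.sum_comm]
        refine Finset.sum_congr rfl fun χ _ => ?_
        rw [← Finset.mul_sum, FrobeniusSchur.nu, mul_left_comm, ← mul_assoc (Nat.card G : ℂ),
          mul_inv_cancel₀ natCard_ne_zero, one_mul]
      rw [h1, Complex.mul_re, Complex.natCast_re, Complex.natCast_im, zero_mul, sub_zero]
      refine mul_le_of_le_one_right (Nat.cast_nonneg _) ?_
      rw [← Finset.add_sum_erase _ _ (Finset.mem_univ (trivIrr G)), htriv.2, hm1, Complex.add_re,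
        Complex.re_sum]
      simp only [Nat.cast_one, mul_one, Complex.one_re, add_le_iff_nonpos_right]
      refine Finset.sum_nonpos fun χ hχ => ?_
      rcases eq_or_ne (m χ) 0 with h0 | h0
      · simp [h0]
      rcases FrobeniusSchur.nu_trichotomy χ with h | h | h
      · simp [h]
      · exact absurd (huniq χ h0 h) (Finset.mem_erase.1 hχ).1
      · simp [h]
    -- `∑ π(g) = |G|`
    have hsumeq : ∑ g : G, π g = (Nat.card G : ℂ) := by
      have h := hinner (trivIrr G)
      rw [hm1, trivIrr_coe, classInner_def, inv_mul_eq_iff_eq_mul₀ natCard_ne_zero] at h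
      simpa using h
    have hS : ∀ g x : G, x⁻¹ * (g * g) * x ∈ H → x⁻¹ * g * x ∈ H := by
      intro g₀ x₀ hx₀
      by_contra hn
      have hlt : ∑ g : G, (Finset.univ.filter fun x : G => x⁻¹ * g * x ∈ H).card <
          ∑ g : G, (Finset.univ.filter fun x : G => x⁻¹ * (g * g) * x ∈ H).card := by
        have hsub : ∀ g : G, (Finset.univ.filter fun x : G => x⁻¹ * g * x ∈ H) ⊆
            (Finset.univ.filter fun x : G => x⁻¹ * (g * g) * x ∈ H) := by
          intro g x hx
          simp only [Finset.mem_filter, Finset.mem_univ, true_and] at hx ⊢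
          have := H.mul_mem hx hx
          simpa [mul_assoc] using this
        refine Finset.sum_lt_sum (fun g _ => Finset.card_le_card (hsub g))
          ⟨g₀, Finset.mem_univ _, Finset.card_lt_card ⟨hsub g₀, fun hh => hn ?_⟩⟩
        have := hh (by simp [hx₀] : x₀ ∈ Finset.univ.filter fun x : G => x⁻¹ * (g₀ * g₀) * x ∈ H)
        simpa using this
      have hlt' : ((Nat.card H : ℂ) * ∑ g : G, π g).re < ((Nat.card H : ℂ) * ∑ g : G, π (g * g)).re := by
        simp only [Finset.mul_sum, hπdef, card_mul_perm, ← Nat.cast_sum, Complex.natCast_re]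
        exact_mod_cast hlt
      rw [hsumeq, Complex.mul_re, Complex.mul_re, Complex.natCast_re, Complex.natCast_re,
        Complex.natCast_im, zero_mul, sub_zero, zero_mul, sub_zero] at hlt'
      exact absurd (lt_of_mul_lt_mul_left hlt' (Nat.cast_nonneg _)) (not_lt.2 hsumle)
    by_contra hodd
    rw [Nat.not_odd_iff_even, even_iff_two_dvd, Subgroup.index_eq_card] at hodd
    obtain ⟨q, hq⟩ := exists_prime_orderOf_dvd_card' 2 hodd
    obtain ⟨g, rfl⟩ := QuotientGroup.mk_surjective q
    have hgg : g * g ∈ H.normalCore := by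
      rw [← QuotientGroup.eq_one_iff, QuotientGroup.mk_mul, ← sq, ← hq, pow_orderOf_eq_one]
    have hg : g ∈ H.normalCore := fun b => by
      have h := hS g b⁻¹ (by simpa using hgg b)
      simpa using h
    rw [(QuotientGroup.eq_one_iff g).2 hg, orderOf_one] at hq
    exact absurd hq (by omega)
  · intro hodd
    rw [Nat.card_eq_one_iff_unique]
    refine ⟨⟨fun a b => Subtype.ext ?_⟩, ⟨⟨trivIrr G, (hmem _).2 htriv⟩⟩⟩
    suffices h : ∀ χ : Cfsg.IrrCharacter G, m χ ≠ 0 → FrobeniusSchur.nu (χ : G → ℂ) = 1 →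
        χ = trivIrr G by
      rw [h a.1 ((hmem _).1 a.2).1 ((hmem _).1 a.2).2, h b.1 ((hmem _).1 b.2).1 ((hmem _).1 b.2).2]
    intro χ hχm hnu
    -- the core lies in the kernel
    have hk : ∀ x ∈ H.normalCore, (χ : G → ℂ) x = (χ : G → ℂ) 1 := by
      rcases CharTheory.Average.avg_irr H.normalCore χ.2 with he | he
      · intro x hx
        have h1 := CharTheory.Average.avg_mul_left H.normalCore (χ : G → ℂ) ⟨x, hx⟩ 1
        rw [he] at h1
        simpa using h1
      · exfalso
        have hfix : ∀ (c : H.normalCore) (g : G), π ((c : G) * g) = π g := by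
          intro c g
          refine mul_left_cancel₀ hH0 ?_
          rw [hπdef, card_mul_perm, card_mul_perm]
          congr 2
          ext x
          simp only [Finset.mem_filter, Finset.mem_univ, true_and]
          have hc : x⁻¹ * (c : G) * x ∈ H := by simpa using c.2 x⁻¹
          have hsplit : x⁻¹ * ((c : G) * g) * x = (x⁻¹ * (c : G) * x) * (x⁻¹ * g * x) := by group
          rw [hsplit]
          exact H.mul_mem_cancel_left hc
        have h1 := CharTheory.Average.sum_avg_mul H.normalCore (χ : G → ℂ) π hfix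
        rw [he] at h1
        have h2 := hinner χ
        rw [classInner_conj_symm, classInner_def] at h2
        have hπreal : ∀ g, conj (π g) = π g := fun g => by
          refine mul_left_cancel₀ hH0 ?_
          rw [hπdef, ← Complex.conj_natCast (Nat.card H), ← map_mul, card_mul_perm,
            Complex.conj_natCast, Complex.conj_natCast, card_mul_perm]
        simp only [Pi.zero_apply, zero_mul, Finset.sum_const_zero] at h1
        simp only [hπreal, ← h1, mul_zero, map_zero] at h2
        exact hχm (by exact_mod_cast h2.symm)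
    by_contra hne
    have h0 := classInner_isIrr_ne χ.2 isIrrCharacter_one (fun he => hne (Subtype.ext he))
    rw [classInner_def] at h0
    simp only [map_one, mul_one] at h0
    rw [FrobeniusSchur.nu, sum_sq_eq H.normalCore hodd (irr_isCharacter χ) hk, h0] at hnu
    exact zero_ne_one hnu

end Cfsg.Agent.S4784
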