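import Cfsg.Statements.S4796
import Mathlib
import Cfsg.Agent.BlocksChars.PrimeOrderNormal
import Cfsg.Agent.Lib.CharTheory.Clifford
import Cfsg.Agent.Lib.Characters.Frobenius
-- import your own Cfsg.Agent.* helpers here

set_option autoImplicit false
open Cfsg

namespace Cfsg.Agent.S4796

open Cfsg.Agent.Characters Cfsg.Agent.BlocksChars.Degrees Cfsg.Agent.BlocksChars.Codegree
open Cfsg.Agent.BlocksChars.PrimeOrderNormal Cfsg.Agent.CharTheory.Clifford
open scoped ComplexConjugate


/-- Let G be a finite group with a faithful irreducible complex character χ whose codegree #G / χ(1) is a prime p (for a faithful character the kernel is trivial, so the codegree is #G / χ(1)). Then either G is cyclic of order p, or G is a Frobenius group whose Frobenius kernel has order p: some proper non-trivial subgroup H satisfies H ∩ gHg⁻¹ = 1 for every element g outside H, and the set of elements lying in no conjugate of H, together with the identity, has exactly p elements. -/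
theorem result {G : Type*} [Group G] [Finite G] (χ : Cfsg.IrrCharacter G) (hfaith : ∀ g : G, (χ : G → ℂ) g = (χ : G → ℂ) 1 → g = 1) (p : ℕ) (hp : p.Prime) (hcod : Nat.card G = p * Cfsg.charDegree (χ : G → ℂ)) : (IsCyclic G ∧ Nat.card G = p) ∨ ∃ H : Subgroup G, Cfsg.IsFrobeniusComplement H ∧ Nat.card ↥(Cfsg.frobeniusKernel H) = p := by
  classical
  haveI := Fintype.ofFinite G
  haveI := Fact.mk hp
  set n := Cfsg.charDegree (χ : G → ℂ) with hn
  haveI : Nontrivial G := Finite.one_lt_card_iff_nontrivial.1 <| by
    rw [hcod]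
    exact lt_of_lt_of_le hp.one_lt (Nat.le_mul_of_pos_right p (charDegree_pos χ))
  have hne : χ ≠ trivIrr G := by
    intro he
    obtain ⟨g, hg⟩ := exists_ne (1 : G)
    exact hg (hfaith g (by rw [he]; rfl))
  have hlt : n < p := by
    have h := degree_sq_lt χ hne
    rw [← hn, hcod, sq] at h
    exact Nat.lt_of_mul_lt_mul_right h
  rcases Nat.eq_or_lt_of_le (Nat.one_le_iff_ne_zero.2 (charDegree_pos χ).ne' : 1 ≤ n) with h1 | h1
  · left
    rw [← h1, mul_one] at hcod
    exact ⟨isCyclic_of_prime_card hcod, hcod⟩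
  right
  obtain ⟨P, hPn, hP, hidx, hcop⟩ := exists_normal_card_prime hp hcod hlt
  obtain ⟨H, hH⟩ := Subgroup.exists_right_complement'_of_coprime hcop
  haveI := Fintype.ofFinite P
  haveI := Fintype.ofFinite (Cfsg.IrrCharacter P)
  haveI : IsCyclic P := isCyclic_of_prime_card hP
  have hcl := irr_isClassFunction χ
  -- a constituent of the restriction
  have hres : Cfsg.IsCharacter P (fun x : P => (χ : G → ℂ) x) := isCharacter_restrict P (irr_isCharacter χ)
  obtain ⟨θ, hθ, hθc, hθne⟩ : ∃ θ : P → ℂ, Cfsg.IsIrrCharacter P θ ∧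
      Cfsg.classInner (fun x : P => (χ : G → ℂ) x) θ ≠ 0 ∧ θ ≠ fun _ => 1 := by
    by_contra hcon
    push Not at hcon
    obtain ⟨z, hz⟩ : ∃ z : P, z ≠ 1 := by
      haveI : Nontrivial P := Finite.one_lt_card_iff_nontrivial.1 (by rw [hP]; exact hp.one_lt)
      exact exists_ne 1
    apply hz
    apply Subtype.ext
    refine hfaith z ?_
    have h := classFun_eq_sum (char_isClassFunction hres)
    have key : ∀ x : P, (χ : G → ℂ) x = ∑ φ : Cfsg.IrrCharacter P,
        Cfsg.classInner (fun x : P => (χ : G → ℂ) x) (φ : P → ℂ) * (φ : P → ℂ) x := fun x => by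
      have h' := congrFun h x
      simpa only [Finset.sum_apply, Pi.smul_apply, smul_eq_mul] using h'
    rw [key z, show ((1 : G)) = ((1 : P) : G) from rfl, key 1]
    refine Finset.sum_congr rfl fun φ _ => ?_
    by_cases h0 : Cfsg.classInner (fun x : P => (χ : G → ℂ) x) (φ : P → ℂ) = 0
    · simp [h0]
    · rw [hcon φ φ.2 h0]
  have hθ1 : θ 1 = 1 := irr_degree_one_of_comm (fun a b =>
    @IsCyclic.commGroup P _ _ |>.mul_comm a b) hθ
  let T : Subgroup G :=
    { carrier := {g | conjBy P g θ = θ}
      one_mem' := conjBy_one P θ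
      mul_mem' := fun {a b} ha hb => by
        show conjBy P (a * b) θ = θ
        rw [← conjBy_conjBy P b a, show conjBy P a θ = θ from ha]; exact hb
      inv_mem' := fun {a} ha => by
        show conjBy P a⁻¹ θ = θ
        apply conjBy_injective P a
        rw [conjBy_conjBy, inv_mul_cancel, conjBy_one]; exact ha.symm }
  have hT : ∀ g : G, g ∈ T ↔ conjBy P g θ = θ := fun g => Iff.rfl
  have hPT : P ≤ T := fun x hx => (hT x).2 <| funext fun y => by
    have := char_isClassFunction (isCharacter_of_isIrr hθ) y ⟨x, hx⟩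
    exact this
  obtain ⟨m, hm⟩ := classInner_char_nat hres (isCharacter_of_isIrr hθ)
  have hm0 : m ≠ 0 := fun h => hθc (by rw [hm, h, Nat.cast_zero])
  -- `|T| = m p`
  have hTcard : Nat.card T = m * p := by
    have h := card_mul_degree P χ.2 hθ hθc T hT
    rw [hm, hθ1, mul_one, ← charDegree_cast, ← hn, hcod, Nat.cast_mul, ← mul_assoc] at h
    have := mul_right_cancel₀ (Nat.cast_ne_zero.2 (charDegree_pos χ).ne') h
    exact_mod_cast this
  -- `m = 1`
  have hm1 : m = 1 := by
    have hsm := card_smul_restrict P χ.2 hθ hθc T hT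
    have hnorm : (Nat.card T : ℂ) *
        Cfsg.classInner (fun x : P => (χ : G → ℂ) x) (fun x : P => (χ : G → ℂ) x) =
        (m : ℂ) * m * (Nat.card G : ℂ) := by
      rw [← classInner_smul_left, hsm, classInner_smul_left, hm, classInner_sum_left]
      have : ∀ x : G, Cfsg.classInner (conjBy P x θ) (fun y : P => (χ : G → ℂ) y) = (m : ℂ) := by
        intro x
        rw [classInner_conj_symm, classInner_restrict_conjBy P hcl, hm, Complex.conj_natCast]
      rw [Finset.sum_congr rfl fun x _ => this x, Finset.sum_const, Finset.card_univ,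
        nsmul_eq_mul, ← Nat.card_eq_fintype_card]
      ring
    have hle : (Nat.card P : ℝ) *
        (Cfsg.classInner (fun x : P => (χ : G → ℂ) x) (fun x : P => (χ : G → ℂ) x)).re ≤
        Nat.card G := by
      have e1 : (Nat.card P : ℂ) *
          Cfsg.classInner (fun x : P => (χ : G → ℂ) x) (fun x : P => (χ : G → ℂ) x) =
          ((∑ x : P, Complex.normSq ((χ : G → ℂ) x) : ℝ) : ℂ) := by
        rw [classInner_def, ← mul_assoc, mul_inv_cancel₀ natCard_ne_zero, one_mul,
          Complex.ofReal_sum]
        exact Finset.sum_congr rfl fun x _ => Complex.mul_conj _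
      have e2 : (Nat.card G : ℂ) = ((∑ x : G, Complex.normSq ((χ : G → ℂ) x) : ℝ) : ℂ) := by
        have := classInner_isIrr_self χ.2
        rw [classInner_def, inv_mul_eq_iff_eq_mul₀ natCard_ne_zero, mul_one] at this
        rw [← this, Complex.ofReal_sum]
        exact Finset.sum_congr rfl fun x _ => Complex.mul_conj _
      have e1' := congrArg Complex.re e1
      have e2' := congrArg Complex.re e2
      rw [Complex.natCast_re, Complex.ofReal_re] at e2'
      rw [Complex.mul_re, Complex.natCast_re, Complex.natCast_im, zero_mul, sub_zero, Complex.ofReal_re] at e1'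
      rw [e1', e2', ← Finset.sum_subtype (Finset.univ.filter fun x : G => x ∈ P) (by simp)
        (fun x => Complex.normSq ((χ : G → ℂ) x))]
      exact Finset.sum_le_sum_of_subset_of_nonneg (Finset.filter_subset _ _)
        fun x _ _ => Complex.normSq_nonneg _
    have hc := congrArg Complex.re hnorm
    rw [hTcard, hcod] at hc
    simp [Complex.mul_re] at hc
    rw [hP, hcod] at hle
    push_cast at hle
    have hppos : (0 : ℝ) < p := by exact_mod_cast hp.pos
    have hnpos : (0 : ℝ) < n := by exact_mod_cast charDegree_pos χ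
    have hmpos : (0 : ℝ) < m := by exact_mod_cast Nat.pos_of_ne_zero hm0
    have : (m : ℝ) ≤ 1 := by
      by_contra hgt
      push Not at hgt
      nlinarith [mul_lt_mul_of_pos_left hgt (mul_pos (mul_pos hmpos hppos) hnpos),
        mul_le_mul_of_nonneg_left hle hmpos.le]
    exact le_antisymm (by exact_mod_cast this) (Nat.pos_of_ne_zero hm0)
  have hTP : T = P := (Subgroup.eq_of_le_of_card_ge hPT (by rw [hTcard, hP, hm1, one_mul])).symm
  have hHbot : H ≠ ⊥ := by
    rintro rfl
    have := hH.card_mul
    rw [Subgroup.card_bot, mul_one, hP, hcod] at this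
    have hn1 : n = 1 := by
      exact (mul_left_cancel₀ hp.ne_zero ((mul_one p).trans this)).symm
    omega
  have hdisj : ∀ g : G, g ∈ P → g ∈ H → g = 1 := fun g hgP hgH =>
    Subgroup.disjoint_def.1 hH.disjoint hgP hgH
  have hcompl : IsFrobeniusComplement H := by
    refine ⟨hHbot, ?_, ?_⟩
    · rintro rfl
      have := hH.card_mul
      rw [Subgroup.card_top, hP] at this
      exact hp.ne_one (mul_right_cancel₀ (Nat.card_pos (α := G)).ne' (this.trans (one_mul _).symm))
    intro g hg
    rw [Subgroup.eq_bot_iff_forall]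
    rintro x hx
    obtain ⟨hxH, hxg⟩ := Subgroup.mem_inf.1 hx
    rw [mem_conj_smul_iff] at hxg
    obtain ⟨⟨⟨z, hz⟩, ⟨h, hh⟩⟩, he, -⟩ := Subgroup.isComplement_iff_existsUnique.1 hH g
    dsimp only at he
    have hxz : z⁻¹ * x * z ∈ H := by
      have : z⁻¹ * x * z = h * (g⁻¹ * x * g) * h⁻¹ := by rw [← he]; group
      rw [this]; exact H.mul_mem (H.mul_mem hh hxg) (H.inv_mem hh)
    have hc : x⁻¹ * (z⁻¹ * x * z) = 1 := by
      refine hdisj _ ?_ (H.mul_mem (H.inv_mem hxH) hxz)
      rw [show x⁻¹ * (z⁻¹ * x * z) = (x⁻¹ * z⁻¹ * x) * z by group]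
      refine P.mul_mem ?_ hz
      simpa using hPn.conj_mem z⁻¹ (P.inv_mem hz) x⁻¹
    have hz1 : (⟨z, hz⟩ : P) ≠ 1 := by
      intro hz1
      apply hg
      have hz1' : z = 1 := congrArg Subtype.val hz1
      rw [← he, hz1', one_mul]; exact hh
    have hzgen : ∀ y : P, y ∈ Subgroup.zpowers (⟨z, hz⟩ : P) := fun y =>
      mem_zpowers_of_prime_card hP hz1
    have hxT : x ∈ T := (hT x).2 <| funext fun y => by
      obtain ⟨k, rfl⟩ := Subgroup.mem_zpowers_iff.1 (hzgen y)
      rw [conjBy_apply]
      congr 1
      apply Subtype.ext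
      have hcomm : Commute x z := by
        have h2 : z⁻¹ * x * z = x := by
          calc z⁻¹ * x * z = x * (x⁻¹ * (z⁻¹ * x * z)) := by group
            _ = x := by rw [hc, mul_one]
        show x * z = z * x
        calc x * z = z * (z⁻¹ * x * z) := by group
          _ = z * x := by rw [h2]
      simp only [SubgroupClass.coe_zpow]
      rw [(hcomm.zpow_right k).eq, mul_inv_cancel_right]
    rw [hTP] at hxT
    exact hdisj x hxT hxH
  refine ⟨H, hcompl, ?_⟩
  rw [card_frobeniusKernel hcompl]
  have h := H.card_mul_index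
  have h2 := hH.card_mul
  rw [← h, hP, mul_comm] at h2
  exact (mul_left_cancel₀ (Nat.card_pos (α := H)).ne' h2).symm

end Cfsg.Agent.S4796
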