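import Cfsg.Statements.S4797
import Mathlib
import Cfsg.Agent.BlocksChars.PrimeOrderNormal
-- import your own Cfsg.Agent.* helpers here

set_option autoImplicit false
open Cfsg

namespace Cfsg.Agent.S4797

open Cfsg.Agent.Characters Cfsg.Agent.BlocksChars.Degrees Cfsg.Agent.BlocksChars.Codegree
open Cfsg.Agent.BlocksChars.PrimeOrderNormal


/-- The codegree of an irreducible complex character χ of a finite group G is [G : ker χ] / χ(1), where ker χ is the set of elements at which χ takes the value χ(1). A non-trivial finite group is perfect if and only if no irreducible complex character of it has prime codegree. -/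
theorem result {G : Type*} [Group G] [Finite G] [Nontrivial G] : commutator G = ⊤ ↔ ∀ χ : Cfsg.IrrCharacter G, ¬ ((Nat.card G / (Nat.card {g : G // (χ : G → ℂ) g = (χ : G → ℂ) 1} * Cfsg.charDegree (χ : G → ℂ)))).Prime := by
  classical
  constructor
  · intro hperf χ hprime
    rw [codeg_eq_index_div] at hprime
    haveI := ker_normal χ
    set p := (ker χ).index / Cfsg.charDegree (χ : G → ℂ) with hpdef
    have hidx : (ker χ).index = p * Cfsg.charDegree (χ : G → ℂ) :=
      (Nat.div_mul_cancel (degree_dvd_index χ)).symm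
    obtain ⟨ψ, -, hψ, hirr⟩ := exists_deflate_quotient (ker χ) (irr_isCharacter χ) (fun x hx => hx)
    haveI := Fintype.ofFinite (G ⧸ ker χ)
    have hdegψ : Cfsg.charDegree ψ = Cfsg.charDegree (χ : G → ℂ) := by
      unfold Cfsg.charDegree
      rw [← hψ 1, QuotientGroup.mk_one]
    rw [Subgroup.index_eq_card] at hidx
    have hperfQ : commutator (G ⧸ ker χ) = ⊤ := by
      rw [commutator_def, ← Subgroup.map_top_of_surjective (QuotientGroup.mk' (ker χ))
        (QuotientGroup.mk'_surjective _), ← Subgroup.map_commutator]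
      rw [show ⁅(⊤ : Subgroup G), ⊤⁆ = commutator G from rfl, hperf]
    refine not_perfect hprime hidx ?_ hperfQ
    have hne : (⟨ψ, hirr χ.2⟩ : Cfsg.IrrCharacter (G ⧸ ker χ)) ≠ trivIrr _ := by
      intro he
      have h1 : ψ = fun _ => 1 := congrArg Subtype.val he
      have ht : ker χ = ⊤ := by
        refine (Subgroup.eq_top_iff' _).2 fun g => mem_charKernel.2 ?_
        rw [← hψ g, ← hψ 1, h1]
      have hc : Cfsg.charDegree ψ = 1 := by simp [h1, Cfsg.charDegree]
      rw [ht] at hpdef
      simp only [Subgroup.index_top, ← hdegψ, hc, Nat.div_one] at hpdef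
      exact hprime.ne_one hpdef
    have h := degree_sq_lt _ hne
    rw [show ((⟨ψ, hirr χ.2⟩ : Cfsg.IrrCharacter (G ⧸ ker χ)) : G ⧸ ker χ → ℂ) = ψ from rfl,
      hdegψ, hidx, sq] at h
    exact Nat.lt_of_mul_lt_mul_right h
  · intro h
    by_contra hne
    obtain ⟨χ, h1, h2⟩ := exists_linear_prime_index hne
    apply h χ
    rw [codeg_eq_index_div, h1, Nat.div_one]
    exact h2

end Cfsg.Agent.S4797
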