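import Cfsg.Statements.S4798
import Mathlib
import Cfsg.Agent.BlocksChars.Codegree
import Cfsg.Agent.Lib.Characters.Induction
import Cfsg.Agent.Lib.CharTheory.Basics
-- import your own Cfsg.Agent.* helpers here

set_option autoImplicit false
open Cfsg

namespace Cfsg.Agent.S4798

open Cfsg.Agent.Characters Cfsg.Agent.BlocksChars.Degrees Cfsg.Agent.BlocksChars.Codegree


/-- Let p be a prime and χ a faithful irreducible complex character of the finite group G (χ(g) = χ(1) only for g = 1), so that its codegree is #G / χ(1). Then #G / χ(1) is a power of p if and only if χ is induced from a character of a Sylow p-subgroup of G. -/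
theorem result {G : Type*} [Group G] [Fintype G] (p : ℕ) [Fact p.Prime] (χ : Cfsg.IrrCharacter G) (hfaith : ∀ g : G, (χ : G → ℂ) g = (χ : G → ℂ) 1 → g = 1) : (∃ k : ℕ, Nat.card G = p ^ k * Cfsg.charDegree (χ : G → ℂ)) ↔ ∃ (P : Sylow p G) (θ : ↥(P : Subgroup G) → ℂ), Cfsg.IsCharacter ↥(P : Subgroup G) θ ∧ (χ : G → ℂ) = Cfsg.indFun (P : Subgroup G) θ := by
  classical
  have hp : p.Prime := Fact.out
  haveI := Fintype.ofFinite (Cfsg.IrrCharacter G)
  constructor
  · rintro ⟨k, hk⟩
    obtain ⟨P⟩ : Nonempty (Sylow p G) := inferInstance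
    haveI := Fintype.ofFinite (P : Subgroup G)
    haveI := Fintype.ofFinite (Cfsg.IrrCharacter (P : Subgroup G))
    set n := Cfsg.charDegree (χ : G → ℂ) with hn
    set a := n.factorization p with ha
    have hres := isCharacter_restrict (P : Subgroup G) (irr_isCharacter χ)
    obtain ⟨m, hm⟩ := char_eq_sum_nat hres
    have hdeg : n = ∑ φ : Cfsg.IrrCharacter (P : Subgroup G), m φ * Cfsg.charDegree (φ : ↥(P : Subgroup G) → ℂ) := by
      have h1 := congrFun hm 1
      simp only [Finset.sum_apply, Pi.smul_apply, smul_eq_mul, OneMemClass.coe_one,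
        ← charDegree_cast] at h1
      rw [← hn] at h1
      exact_mod_cast h1
    have hn0 : n ≠ 0 := (charDegree_pos χ).ne'
    obtain ⟨φ, hφm, hφd⟩ : ∃ φ : Cfsg.IrrCharacter (P : Subgroup G), m φ ≠ 0 ∧
        Cfsg.charDegree (φ : ↥(P : Subgroup G) → ℂ) ≤ p ^ a := by
      by_contra hcon
      push Not at hcon
      apply Nat.pow_succ_factorization_not_dvd hn0 hp
      rw [← ha, hdeg]
      refine Finset.dvd_sum fun φ _ => ?_
      rcases eq_or_ne (m φ) 0 with h0 | h0
      · simp [h0]
      · refine dvd_mul_of_dvd_right ?_ _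
        obtain ⟨j, hj⟩ : ∃ j, Cfsg.charDegree (φ : ↥(P : Subgroup G) → ℂ) = p ^ j := by
          obtain ⟨i, hi⟩ := P.isPGroup'.exists_card_eq
          have hd := charDegree_dvd_card φ
          rw [hi] at hd
          obtain ⟨j, -, hj⟩ := (Nat.dvd_prime_pow hp).1 hd
          exact ⟨j, hj⟩
        have hlt := hcon φ h0
        rw [hj] at hlt ⊢
        exact pow_dvd_pow p ((Nat.pow_lt_pow_iff_right hp.one_lt).1 hlt)
    have hphi : Cfsg.IsCharacter (P : Subgroup G) (φ : ↥(P : Subgroup G) → ℂ) := irr_isCharacter φ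
    refine ⟨P, φ, hphi, ?_⟩
    have hind := isCharacter_indFun (P : Subgroup G) hphi
    have hinner : Cfsg.classInner (Cfsg.indFun (P : Subgroup G) φ) (χ : G → ℂ) = (m φ : ℂ) := by
      rw [frobenius_reciprocity _ _ (irr_isClassFunction χ), classInner_conj_symm, hm,
        classInner_sum_smul_irr Finset.univ φ, if_pos (Finset.mem_univ _), Complex.conj_natCast]
    have hle : n * p ^ 0 * 1 ≤ n := by simp
    have hdind : Cfsg.indFun (P : Subgroup G) (φ : ↥(P : Subgroup G) → ℂ) 1 =
        (((P : Subgroup G).index * Cfsg.charDegree (φ : ↥(P : Subgroup G) → ℂ) : ℕ) : ℂ) := by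
      rw [indFun_one, Nat.cast_mul, charDegree_cast]
    have hb := CharTheory.Basics.degree_le hind χ.2 hinner hdind (charDegree_cast χ).symm
    rw [← hn] at hb
    have hidx : (P : Subgroup G).index * p ^ a = n := by
      have h1 : Nat.card (P : Subgroup G) * (P : Subgroup G).index = Nat.card G :=
        (P : Subgroup G).card_mul_index
      rw [Sylow.card_eq_multiplicity] at h1
      rw [hk] at h1
      rw [Nat.factorization_mul (pow_ne_zero _ hp.ne_zero) hn0] at h1
      simp [Nat.factorization_pow, hp.factorization_self, ← ha, pow_add, mul_assoc] at h1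
      rcases h1 with h1 | h1
      · rw [mul_comm]; exact h1
      · exact absurd h1.1 hp.ne_zero
    have hup : (P : Subgroup G).index * Cfsg.charDegree (φ : ↥(P : Subgroup G) → ℂ) ≤ n := by
      rw [← hidx]; exact Nat.mul_le_mul_left _ hφd
    have hm1 : m φ = 1 := by
      have h2 : m φ * n ≤ n := hb.trans hup
      have : m φ ≤ 1 := by
        by_contra h
        push Not at h
        nlinarith [Nat.pos_of_ne_zero hn0]
      omega
    have heq : (P : Subgroup G).index * Cfsg.charDegree (φ : ↥(P : Subgroup G) → ℂ) = n := by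
      rw [hm1, one_mul] at hb
      omega
    have := CharTheory.Basics.eq_of_degree_eq hind χ.2 hinner (by
      rw [hdind, heq, hm1, Nat.cast_one, one_mul, hn, charDegree_cast])
    rw [this, hm1, Nat.cast_one, one_smul]
  · rintro ⟨P, θ, hθ, he⟩
    haveI := Fintype.ofFinite (P : Subgroup G)
    haveI := Fintype.ofFinite (Cfsg.IrrCharacter (P : Subgroup G))
    obtain ⟨m, hm⟩ := char_eq_sum_nat hθ
    obtain ⟨φ, hφ⟩ : ∃ φ, m φ ≠ 0 := by
      by_contra hcon
      push Not at hcon
      refine irr_one_ne_zero χ.2 ?_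
      rw [he, indFun_one, hm]
      simp [hcon]
    have hinner : Cfsg.classInner θ (φ : ↥(P : Subgroup G) → ℂ) = (m φ : ℂ) := by
      rw [hm, classInner_sum_smul_irr Finset.univ φ, if_pos (Finset.mem_univ _)]
    obtain ⟨ρ, hρ, hθρ⟩ := CharTheory.Basics.eq_smul_of_degree hθ φ.2 hinner
    set A := Cfsg.indFun (P : Subgroup G) (φ : ↥(P : Subgroup G) → ℂ) with hA
    have hAc : Cfsg.IsCharacter G A := isCharacter_indFun _ (irr_isCharacter φ)
    have hBc := isCharacter_indFun (P : Subgroup G) hρ
    have hsplit : (χ : G → ℂ) = (m φ : ℂ) • A + Cfsg.indFun (P : Subgroup G) ρ := by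
      rw [he, hθρ, indFun_add, indFun_smul]
    obtain ⟨a, ha⟩ := classInner_char_nat hAc (irr_isCharacter χ)
    obtain ⟨b, hb⟩ := classInner_char_nat hBc (irr_isCharacter χ)
    have hab := classInner_isIrr_self χ.2
    nth_rw 1 [hsplit] at hab
    rw [classInner_add_left, classInner_smul_left, ha, hb] at hab
    have hab' : m φ * a + b = 1 := by exact_mod_cast hab
    have hA1 : A 1 = ((P : Subgroup G).index * Cfsg.charDegree (φ : ↥(P : Subgroup G) → ℂ) : ℕ) := by
      rw [hA, indFun_one, Nat.cast_mul, charDegree_cast]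
    obtain ⟨r, hr⟩ := char_one_nat hBc
    have hdeg : Cfsg.charDegree (χ : G → ℂ) =
        m φ * ((P : Subgroup G).index * Cfsg.charDegree (φ : ↥(P : Subgroup G) → ℂ)) + r := by
      have := congrFun hsplit 1
      simp only [Pi.add_apply, Pi.smul_apply, smul_eq_mul] at this
      rw [hA1, hr, ← charDegree_cast] at this
      exact_mod_cast this
    have hpos : 0 < (P : Subgroup G).index * Cfsg.charDegree (φ : ↥(P : Subgroup G) → ℂ) :=
      Nat.mul_pos (Nat.pos_of_ne_zero Subgroup.index_ne_zero_of_finite) (charDegree_pos φ)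
    have ha0 : a ≠ 0 := by
      intro ha0
      subst ha0
      rw [Nat.mul_zero, Nat.zero_add] at hab'
      subst hab'
      have hle := CharTheory.Basics.degree_le hBc χ.2 hb hr (charDegree_cast χ).symm
      nlinarith [Nat.pos_of_ne_zero hφ]
    have hle := CharTheory.Basics.degree_le hAc χ.2 ha hA1 (charDegree_cast χ).symm
    have heq : Cfsg.charDegree (χ : G → ℂ) =
        (P : Subgroup G).index * Cfsg.charDegree (φ : ↥(P : Subgroup G) → ℂ) := by
      nlinarith [Nat.pos_of_ne_zero hφ, Nat.pos_of_ne_zero ha0]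
    obtain ⟨i, hi⟩ := P.isPGroup'.exists_card_eq
    have hd := charDegree_dvd_card φ
    rw [hi] at hd
    obtain ⟨j, hji, hj⟩ := (Nat.dvd_prime_pow hp).1 hd
    refine ⟨i - j, ?_⟩
    rw [heq, hj, ← (P : Subgroup G).card_mul_index, hi,
      show p ^ (i - j) * ((P : Subgroup G).index * p ^ j) = p ^ (i - j) * p ^ j * (P : Subgroup G).index by ring,
      ← pow_add, Nat.sub_add_cancel hji]

end Cfsg.Agent.S4798
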