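import Cfsg.Statements.S4801
import Mathlib
import Cfsg.Agent.BlocksChars.Codegree
-- import your own Cfsg.Agent.* helpers here

set_option autoImplicit false
open Cfsg

namespace Cfsg.Agent.S4801

open Cfsg.Agent.Characters Cfsg.Agent.BlocksChars.Degrees Cfsg.Agent.BlocksChars.Codegree


/-- The codegree of an irreducible complex character χ of a finite group G is [G : ker χ] / χ(1), where ker χ is the set of elements at which χ takes the value χ(1). Let S be a finite simple group and G a finite group such that every codegree of an irreducible character of S is a codegree of an irreducible character of G. Then the order of S divides the order of G. -/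
theorem result {S : Type*} [Group S] [Finite S] (hS : IsSimpleGroup S) {G : Type*} [Group G] [Finite G] (hsub : ∀ χ : Cfsg.IrrCharacter S, ∃ ψ : Cfsg.IrrCharacter G, (Nat.card S / (Nat.card {g : S // (χ : S → ℂ) g = (χ : S → ℂ) 1} * Cfsg.charDegree (χ : S → ℂ))) = (Nat.card G / (Nat.card {g : G // (ψ : G → ℂ) g = (ψ : G → ℂ) 1} * Cfsg.charDegree (ψ : G → ℂ)))) : Nat.card S ∣ Nat.card G := by
  classical
  haveI := Fintype.ofFinite S
  haveI := Fintype.ofFinite (Cfsg.IrrCharacter S)
  haveI := hS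
  rw [Nat.dvd_iff_prime_pow_dvd_dvd]
  intro q k hq hqk
  rcases Nat.eq_zero_or_pos k with rfl | hk
  · simp
  have hqS : q ∣ Nat.card S := (dvd_pow_self q hk.ne').trans hqk
  obtain ⟨χ, hχ, hqd⟩ : ∃ χ : Cfsg.IrrCharacter S, χ ≠ trivIrr S ∧
      ¬ q ∣ Cfsg.charDegree (χ : S → ℂ) := by
    by_contra hcon
    push Not at hcon
    have hsum := sum_degree_sq_nat (G := S)
    rw [← Finset.add_sum_erase _ _ (Finset.mem_univ (trivIrr S)), charDegree_triv, one_pow] at hsum
    have h1 : q ∣ ∑ χ ∈ Finset.univ.erase (trivIrr S), Cfsg.charDegree (χ : S → ℂ) ^ 2 :=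
      Finset.dvd_sum fun χ hχ => dvd_pow (hcon χ (Finset.mem_erase.1 hχ).1) two_ne_zero
    have h2 : q ∣ 1 := (Nat.dvd_add_left h1).1 (hsum ▸ hqS)
    exact hq.ne_one (Nat.dvd_one.1 h2)
  have hker : ker χ = ⊥ := by
    refine ((ker_normal χ).eq_bot_or_eq_top).resolve_right fun ht => hχ ?_
    apply Subtype.ext
    show (χ : S → ℂ) = fun _ => 1
    have hval : ∀ g, (χ : S → ℂ) g = (χ : S → ℂ) 1 := fun g =>
      mem_charKernel.1 (ht ▸ Subgroup.mem_top g : g ∈ ker χ)
    by_contra hne
    have h0 := classInner_isIrr_ne χ.2 isIrrCharacter_one hne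
    simp [classInner_def, hval, irr_one_ne_zero χ.2, Nat.card_eq_fintype_card] at h0
  obtain ⟨ψ, hψ⟩ := hsub χ
  have h3 : q ^ k ∣ Nat.card S / (Nat.card {g : S // (χ : S → ℂ) g = (χ : S → ℂ) 1} *
      Cfsg.charDegree (χ : S → ℂ)) := by
    rw [card_kerSet, hker, Subgroup.card_bot, one_mul]
    have hd := charDegree_dvd_card χ
    have : q ^ k ∣ Cfsg.charDegree (χ : S → ℂ) * (Nat.card S / Cfsg.charDegree (χ : S → ℂ)) := by
      rwa [Nat.mul_div_cancel' hd]
    exact (Nat.Coprime.pow_left k (hq.coprime_iff_not_dvd.2 hqd)).dvd_of_dvd_mul_left this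
  rw [hψ] at h3
  exact h3.trans (Nat.div_dvd_of_dvd (ker_mul_degree_dvd ψ))

end Cfsg.Agent.S4801
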