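import Cfsg.Statements.S4802
import Mathlib
import Cfsg.Agent.Lib.Characters.Kernel
import Cfsg.Agent.Lib.Characters.Counting
import Cfsg.Agent.Lib.CharTheory.Average
-- import your own Cfsg.Agent.* helpers here

set_option autoImplicit false
open Cfsg

namespace Cfsg.Agent.S4802

open Cfsg.Agent.Characters


/-- Let N < M be normal subgroups of the finite group G and g ∈ M ∖ N. Then the conjugacy class of g is exactly M ∖ N if and only if every irreducible complex character of G whose kernel contains N takes the same value at all elements of M ∖ N, and every irreducible complex character of G whose kernel does not contain N vanishes at g. -/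
theorem result {G : Type*} [Group G] [Finite G] (N M : Subgroup G) [N.Normal] [M.Normal] (hNM : N < M) (g : G) (hgM : g ∈ M) (hgN : g ∉ N) : {h : G | IsConj g h} = (M : Set G) \ (N : Set G) ↔ ((∀ χ : Cfsg.IrrCharacter G, (∀ x ∈ N, (χ : G → ℂ) x = (χ : G → ℂ) 1) → ∀ x ∈ M, x ∉ N → ∀ y ∈ M, y ∉ N → (χ : G → ℂ) x = (χ : G → ℂ) y) ∧ (∀ χ : Cfsg.IrrCharacter G, (∃ x ∈ N, (χ : G → ℂ) x ≠ (χ : G → ℂ) 1) → (χ : G → ℂ) g = 0)) := by
  classical
  haveI := Fintype.ofFinite G
  haveI := Fintype.ofFinite (Cfsg.IrrCharacter G)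
  constructor
  · intro h
    have hconj : ∀ z ∈ M, z ∉ N → IsConj g z := fun z hzM hzN => by
      have : z ∈ {h : G | IsConj g h} := by rw [h]; exact ⟨hzM, hzN⟩
      exact this
    have hval : ∀ (χ : Cfsg.IrrCharacter G), ∀ z ∈ M, z ∉ N →
        (χ : G → ℂ) z = (χ : G → ℂ) g := by
      intro χ z hzM hzN
      obtain ⟨c, hc⟩ := isConj_iff.1 (hconj z hzM hzN)
      rw [← hc]; exact irr_isClassFunction χ _ _
    refine ⟨fun χ _ x hxM hxN y hyM hyN => by rw [hval χ x hxM hxN, hval χ y hyM hyN], ?_⟩
    rintro χ ⟨x, hxN, hxne⟩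
    rcases CharTheory.Average.avg_irr N χ.2 with he | he
    · refine absurd ?_ hxne
      have := CharTheory.Average.avg_mul_left N (χ : G → ℂ) ⟨x, hxN⟩ 1
      rw [he] at this
      simpa using this
    · have h1 : CharTheory.Average.avg N (χ : G → ℂ) g = (χ : G → ℂ) g := by
        have : ∀ n : N, (χ : G → ℂ) ((n : G) * g) = (χ : G → ℂ) g := fun n =>
          hval χ _ (M.mul_mem (hNM.le n.2) hgM) fun hn => hgN (by simpa using N.mul_mem (N.inv_mem n.2) hn)
        simp [CharTheory.Average.avg, this, Nat.card_eq_fintype_card]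
      rw [he] at h1
      exact h1.symm
  · rintro ⟨h1, h2⟩
    ext z
    refine ⟨fun hz => ?_, ?_⟩
    · obtain ⟨c, rfl⟩ := isConj_iff.1 (show IsConj g z from hz)
      refine ⟨Subgroup.Normal.conj_mem inferInstance g hgM c, fun hn => hgN ?_⟩
      have := Subgroup.Normal.conj_mem (inferInstance : N.Normal) _ hn c⁻¹
      simpa [mul_assoc] using this
    · rintro ⟨hzM, hzN⟩
      show IsConj g z
      by_contra hnc
      have hso := second_orthogonality z g
      rw [if_neg (fun hh : IsConj z g => hnc hh.symm)] at hso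
      have hterm : ∀ χ : Cfsg.IrrCharacter G, (χ : G → ℂ) z * (starRingEnd ℂ) ((χ : G → ℂ) g) =
          ((Complex.normSq ((χ : G → ℂ) g) : ℝ) : ℂ) := by
        intro χ
        by_cases hk : ∀ x ∈ N, (χ : G → ℂ) x = (χ : G → ℂ) 1
        · rw [h1 χ hk z hzM hzN g hgM hgN, Complex.mul_conj]
        · push Not at hk
          rw [h2 χ hk]; simp
      rw [Finset.sum_congr rfl fun χ _ => hterm χ, ← Complex.ofReal_sum, Complex.ofReal_eq_zero,
        Finset.sum_eq_zero_iff_of_nonneg (fun χ _ => Complex.normSq_nonneg _)] at hso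
      simpa using hso (trivIrr G) (Finset.mem_univ _)

end Cfsg.Agent.S4802
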