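import Cfsg.Statements.S4805
import Mathlib
import Cfsg.Agent.BlocksChars.Codegree
import Cfsg.Agent.BlocksChars.OneNonlinearGroup
import Cfsg.Agent.Lib.Characters.Counting
import Cfsg.Agent.Lib.CharTheory.Average
-- import your own Cfsg.Agent.* helpers here

set_option autoImplicit false
open Cfsg

namespace Cfsg.Agent.S4805

open Cfsg.Agent.Characters Cfsg.Agent.BlocksChars.Degrees Cfsg.Agent.BlocksChars.Codegree
open scoped ComplexConjugate commutatorElement

theorem linear_eq_one {G : Type*} [Group G] [Finite G] {χ : G → ℂ} (h : Cfsg.IsCharacter G χ)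
    (h1 : χ 1 = 1) {x : G} (hx : x ∈ commutator G) : χ x = 1 := by
  have hker : commutator G ≤ (linearOfDegreeOne h h1).ker := Abelianization.commutator_subset_ker _
  have e := congrArg Units.val (MonoidHom.mem_ker.1 (hker hx))
  simpa [linearOfDegreeOne] using e

theorem exists_linear_ne {G : Type*} [Group G] [Finite G] {x : G} (hx : x ∉ commutator G) :
    ∃ lam : G →* ℂˣ, lam x ≠ 1 := by
  haveI := Fintype.ofFinite (G ⧸ commutator G)
  obtain ⟨ψ, hψ, hne⟩ := exists_irr_ne (G := G ⧸ commutator G) (g := (x : G ⧸ commutator G))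
    (fun h => hx ((QuotientGroup.eq_one_iff x).1 h))
  have h1 : ψ 1 = 1 := irr_degree_one_of_comm (fun a b => by
    induction a using QuotientGroup.induction_on with
    | H a =>
      induction b using QuotientGroup.induction_on with
      | H b =>
        rw [← QuotientGroup.mk_mul, ← QuotientGroup.mk_mul, QuotientGroup.eq]
        have := Subgroup.commutator_mem_commutator (Subgroup.mem_top b⁻¹) (Subgroup.mem_top a⁻¹)
        simpa [commutatorElement_def, mul_assoc, commutator_def] using this) hψ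
  refine ⟨(linearOfDegreeOne (isCharacter_of_isIrr hψ) h1).comp (QuotientGroup.mk' _), fun h => hne ?_⟩
  have e := congrArg Units.val h
  rw [h1]
  simpa [linearOfDegreeOne] using e


/-- Let G be a finite group, g an element outside the centre of G, and χ an irreducible complex character of degree greater than one with χ(g) ≠ 0 such that every other irreducible character of degree greater than one vanishes at g. Then g lies in the derived subgroup G′ and χ(g) = −[G : G′]/χ(1); G′ is the union of the kernel of χ (the elements where χ takes the value χ(1)) and the conjugacy class of g, and χ vanishes outside G′; every irreducible character of degree greater than one whose kernel contains that of χ equals χ; and G is solvable. -/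
theorem result {G : Type*} [Group G] [Finite G] (g : G) (hg : g ∉ Subgroup.center G) (χ : Cfsg.IrrCharacter G) (hχ1 : Cfsg.charDegree (χ : G → ℂ) ≠ 1) (hχg : (χ : G → ℂ) g ≠ 0) (hother : ∀ ψ : Cfsg.IrrCharacter G, Cfsg.charDegree (ψ : G → ℂ) ≠ 1 → ψ ≠ χ → (ψ : G → ℂ) g = 0) : g ∈ commutator G ∧ (χ : G → ℂ) g = -(((commutator G).index : ℂ) / (χ : G → ℂ) 1) ∧ ((commutator G : Set G) = {x : G | (χ : G → ℂ) x = (χ : G → ℂ) 1} ∪ {h : G | IsConj g h}) ∧ (∀ x : G, x ∉ commutator G → (χ : G → ℂ) x = 0) ∧ (∀ ψ : Cfsg.IrrCharacter G, Cfsg.charDegree (ψ : G → ℂ) ≠ 1 → (∀ x : G, (χ : G → ℂ) x = (χ : G → ℂ) 1 → (ψ : G → ℂ) x = (ψ : G → ℂ) 1) → ψ = χ) ∧ Group.IsSolvable G := by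
  classical
  haveI := Fintype.ofFinite G
  haveI := Fintype.ofFinite (Cfsg.IrrCharacter G)
  haveI := Fintype.ofFinite {ψ : Cfsg.IrrCharacter G // (ψ : G → ℂ) 1 = 1}
  haveI : Fintype (G →* ℂˣ) := Fintype.ofEquiv _ linearEquiv
  set D := commutator G with hD
  set t := D.index with ht
  have hdeg1 : ∀ ψ : Cfsg.IrrCharacter G,
      Cfsg.charDegree (ψ : G → ℂ) = 1 ↔ (ψ : G → ℂ) 1 = 1 := fun ψ => by
    rw [← charDegree_cast]; exact ⟨fun h => by rw [h, Nat.cast_one], fun h => by exact_mod_cast h⟩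
  have hχ1' : (χ : G → ℂ) 1 ≠ 1 := fun h => hχ1 ((hdeg1 χ).2 h)
  have hd0 := irr_one_ne_zero χ.2
  -- `g` is killed by all linear characters
  have hgD : g ∈ D := by
    by_contra hg'
    obtain ⟨lam, hlam⟩ := exists_linear_ne hg'
    have hirr := isIrrCharacter_mul_linear χ.2 lam
    have h := hother ⟨_, hirr⟩ ?_ ?_
    · simp only [mul_eq_zero, Units.ne_zero, false_or] at h
      exact hχg h
    · intro h
      apply hχ1'
      simpa using (hdeg1 ⟨_, hirr⟩).1 h
    · intro h
      have h' : (lam g : ℂ) * (χ : G → ℂ) g = (χ : G → ℂ) g :=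
        congrFun (congrArg Subtype.val h) g
      exact hlam (Units.ext (mul_right_cancel₀ hχg (h'.trans (one_mul _).symm)))
  -- the column of `g`
  have hcol : ∀ x : G, ∑ ψ : Cfsg.IrrCharacter G, (ψ : G → ℂ) x * conj ((ψ : G → ℂ) g) =
      (if x ∈ D then (t : ℂ) else 0) + (χ : G → ℂ) x * conj ((χ : G → ℂ) g) := by
    intro x
    have hsum : ∑ lam : G →* ℂˣ, (lam x : ℂ) = if x ∈ D then (t : ℂ) else 0 := by
      split_ifs with hx
      · have : ∀ lam : G →* ℂˣ, (lam x : ℂ) = 1 := fun lam => by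
          have hker : D ≤ lam.ker := Abelianization.commutator_subset_ker _
          rw [MonoidHom.mem_ker.1 (hker hx), Units.val_one]
        rw [Finset.sum_congr rfl fun lam _ => this lam, Finset.sum_const, Finset.card_univ,
          nsmul_one, ← Nat.card_eq_fintype_card, card_linear_hom]
      · obtain ⟨μ, hμ⟩ := exists_linear_ne hx
        have h := Fintype.sum_equiv (Equiv.mulLeft μ) (fun lam : G →* ℂˣ => ((μ * lam) x : ℂ))
          (fun lam => (lam x : ℂ)) fun lam => rfl
        simp only [MonoidHom.mul_apply, Units.val_mul, ← Finset.mul_sum] at h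
        by_contra hne
        exact hμ (Units.ext (mul_right_cancel₀ hne (h.trans (one_mul _).symm)))
    rw [← Finset.sum_filter_add_sum_filter_not Finset.univ
      (fun ψ : Cfsg.IrrCharacter G => (ψ : G → ℂ) 1 = 1)]
    congr 1
    · rw [← hsum, Finset.sum_subtype (p := fun ψ : Cfsg.IrrCharacter G => (ψ : G → ℂ) 1 = 1) _
        (fun ψ => by simp)]
      refine Fintype.sum_equiv linearEquiv _ _ fun ψ => ?_
      rw [linear_eq_one (irr_isCharacter ψ.1) ψ.2 hgD, map_one, mul_one]
      rfl
    · refine Finset.sum_eq_single χ (fun ψ hψ hne => ?_) (fun h => absurd (by simp [hχ1']) h)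
      rw [hother ψ (fun h => (Finset.mem_filter.1 hψ).2 ((hdeg1 ψ).1 h)) hne, map_zero, mul_zero]
  have hso : ∀ x : G, ¬ IsConj g x →
      (if x ∈ D then (t : ℂ) else 0) + (χ : G → ℂ) x * conj ((χ : G → ℂ) g) = 0 := fun x hx => by
    rw [← hcol, second_orthogonality, if_neg fun h : IsConj x g => hx h.symm]
  have hconjD : ∀ x, IsConj g x → x ∈ D := fun x hx => by
    obtain ⟨c, rfl⟩ := isConj_iff.1 hx
    exact (inferInstance : D.Normal).conj_mem g hgD c
  have hg1 : g ≠ 1 := fun h => hg (h ▸ Subgroup.one_mem _)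
  have h1g : ¬ IsConj g 1 := fun h => hg1 (isConj_one_left.1 h)
  -- the value at `g`
  obtain ⟨n, hn⟩ := char_one_nat (irr_isCharacter χ)
  have hval : (χ : G → ℂ) g = -((t : ℂ) / (χ : G → ℂ) 1) := by
    have h := hso 1 h1g
    rw [if_pos D.one_mem] at h
    have h' : conj ((χ : G → ℂ) g) = -((t : ℂ) / (χ : G → ℂ) 1) := by
      field_simp
      linear_combination h
    have h2 := congrArg conj h'
    rwa [Complex.conj_conj, map_neg, map_div₀, Complex.conj_natCast,
      show conj ((χ : G → ℂ) 1) = (χ : G → ℂ) 1 by rw [hn, Complex.conj_natCast]] at h2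
  have hconj : conj ((χ : G → ℂ) g) = (χ : G → ℂ) g := by
    rw [hval, map_neg, map_div₀, Complex.conj_natCast,
      show conj ((χ : G → ℂ) 1) = (χ : G → ℂ) 1 by rw [hn, Complex.conj_natCast]]
  have ht0 : (t : ℂ) ≠ 0 := Nat.cast_ne_zero.2 Subgroup.index_ne_zero_of_finite
  have hout : ∀ x : G, x ∉ D → (χ : G → ℂ) x = 0 := by
    intro x hx
    have h := hso x fun h => hx (hconjD x h)
    rw [if_neg hx, zero_add, mul_eq_zero, hconj] at h
    exact h.resolve_right hχg
  have hin : ∀ x : G, x ∈ D → ¬ IsConj g x → (χ : G → ℂ) x = (χ : G → ℂ) 1 := by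
    intro x hx hxg
    have h := hso x hxg
    rw [if_pos hx, hconj, hval] at h
    field_simp at h
    have : (t : ℂ) * ((χ : G → ℂ) x - (χ : G → ℂ) 1) = 0 := by linear_combination -h
    exact sub_eq_zero.1 ((mul_eq_zero.1 this).resolve_left ht0)
  -- the kernel
  set K := ker χ with hK
  haveI hKn : K.Normal := ker_normal χ
  have hKmem : ∀ x, x ∈ K ↔ (χ : G → ℂ) x = (χ : G → ℂ) 1 := fun x => Iff.rfl
  have hKD : K ≤ D := fun x hx => by
    by_contra hxD
    exact hd0 (((hKmem x).1 hx).symm.trans (hout x hxD))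
  have hgK : g ∉ K := by
    intro h
    rw [hKmem, hval, hn, eq_comm] at h
    have hn0 : (n : ℂ) ≠ 0 := hn ▸ hd0
    field_simp at h
    have h' : ((n * n + t : ℕ) : ℂ) = 0 := by push_cast; linear_combination h
    have ht' : 0 < t := Nat.pos_of_ne_zero Subgroup.index_ne_zero_of_finite
    have := Nat.cast_eq_zero.1 h'
    omega
  have hcls : ∀ x ∈ D, x ∉ K → IsConj g x := fun x hx hxK => by
    by_contra hc
    exact hxK ((hKmem x).2 (hin x hx hc))
  -- uniqueness over the kernel
  have huniq : ∀ ψ : Cfsg.IrrCharacter G, Cfsg.charDegree (ψ : G → ℂ) ≠ 1 →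
      (∀ x : G, (χ : G → ℂ) x = (χ : G → ℂ) 1 → (ψ : G → ℂ) x = (ψ : G → ℂ) 1) → ψ = χ := by
    intro ψ hψ1 hker
    by_contra hne
    have hψg := hother ψ hψ1 hne
    have hv : ∀ x : D, (ψ : G → ℂ) x = if (x : G) ∈ K then (ψ : G → ℂ) 1 else 0 := by
      intro x
      split_ifs with hx
      · exact hker x ((hKmem x).1 hx)
      · obtain ⟨c, hc⟩ := isConj_iff.1 (hcls x x.2 hx)
        rw [← hc, irr_isClassFunction ψ g c, hψg]
    have h1 := CharTheory.Average.avg_one D (ψ : G → ℂ)
    rw [Finset.sum_congr rfl fun x _ => hv x, ← Finset.sum_filter, Finset.sum_const, nsmul_eq_mul] at h1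
    rcases CharTheory.Average.avg_irr D ψ.2 with he | he
    · have h2 := CharTheory.Average.avg_mul_left D (ψ : G → ℂ) ⟨g, hgD⟩ 1
      rw [he] at h2
      simp only [mul_one] at h2
      exact irr_one_ne_zero ψ.2 (h2.symm.trans hψg)
    · rw [he] at h1
      simp only [Pi.zero_apply] at h1
      rcases mul_eq_zero.1 h1.symm with h1 | h1
      · exact natCard_ne_zero (inv_eq_zero.1 h1)
      rcases mul_eq_zero.1 h1 with h1 | h1
      · rw [Nat.cast_eq_zero, Finset.card_eq_zero, Finset.filter_eq_empty_iff] at h1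
        exact h1 (Finset.mem_univ (⟨1, D.one_mem⟩ : D)) K.one_mem
      · exact irr_one_ne_zero ψ.2 h1
  -- the degree
  have hdegsq : (K.index : ℂ) = (t : ℂ) + (χ : G → ℂ) 1 ^ 2 := by
    have hso1 := hcol 1
    have h := sum_degree_sq_over K (G := G)
    rw [← h, Nat.cast_sum]
    rw [← Finset.sum_filter_add_sum_filter_not _
      (fun ψ : Cfsg.IrrCharacter G => (ψ : G → ℂ) 1 = 1), Finset.filter_filter, Finset.filter_filter]
    congr 1
    · rw [Finset.sum_congr rfl fun (ψ : Cfsg.IrrCharacter G) hψ => show ((Cfsg.charDegree (ψ : G → ℂ) ^ 2 : ℕ) : ℂ) = 1 by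
        rw [(hdeg1 ψ).2 (Finset.mem_filter.1 hψ).2.2]; simp, Finset.sum_const, nsmul_one, ht,
        ← card_degree_one, Nat.card_eq_fintype_card, Fintype.card_subtype]
      congr 2
      refine Finset.filter_congr fun ψ _ => ⟨fun h => h.2, fun h => ⟨fun x hx => ?_, h⟩⟩
      rw [linear_eq_one (irr_isCharacter ψ) h (hKD hx), h]
    · rw [Finset.sum_eq_single χ]
      · rw [Nat.cast_pow, charDegree_cast]
      · intro ψ hψ hne
        obtain ⟨-, hk, hl⟩ := Finset.mem_filter.1 hψ
        exact absurd (huniq ψ (fun h => hl ((hdeg1 ψ).1 h)) fun x hx => hk x ((hKmem x).2 hx)) hne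
      · intro h
        exact absurd (Finset.mem_filter.2 ⟨Finset.mem_univ _, fun x hx => (hKmem x).1 hx, hχ1'⟩) h
  set m := K.relIndex D with hm
  have hindex : (K.index : ℂ) = (m : ℂ) * (t : ℂ) := by
    rw [← Subgroup.relIndex_mul_index hKD, Nat.cast_mul]
  have hord : (m - 1) * Nat.card (Subgroup.centralizer ({g} : Set G)) = t * m := by
    have hC := hcol g
    rw [second_orthogonality, if_pos (IsConj.refl g), if_pos hgD, hconj, hval] at hC
    have hm1 : 1 ≤ m := Nat.pos_of_ne_zero Subgroup.index_ne_zero_of_finite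
    have hne : ((m : ℂ) - 1) * t = (χ : G → ℂ) 1 ^ 2 := by linear_combination hdegsq - hindex
    have key : (((m - 1) * Nat.card (Subgroup.centralizer ({g} : Set G)) : ℕ) : ℂ) = ((t * m : ℕ) : ℂ) := by
      push_cast [Nat.cast_sub hm1]
      rw [hC]
      field_simp
      linear_combination hne
    exact_mod_cast key
  have hcen : ∀ x ∉ D, ∃ y, ⁅x, y⁆ ∉ K := by
    intro x hx
    by_contra hcon
    push Not at hcon
    have h := sum_mul_conjugates χ.2 x⁻¹ x
    have hterm : ∀ c : G, (χ : G → ℂ) (x⁻¹ * (c * x * c⁻¹)) = (χ : G → ℂ) 1 := fun c => by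
      refine (hKmem _).1 ?_
      have := hKn.conj_mem _ (K.inv_mem (hcon c)) x⁻¹
      simpa [commutatorElement_def, mul_assoc] using this
    rw [Finset.sum_congr rfl fun c _ => hterm c, hout x hx, mul_zero, zero_div, Finset.sum_const,
      Finset.card_univ, nsmul_eq_mul, mul_eq_zero] at h
    exact h.elim (fun h => Fintype.card_ne_zero (by exact_mod_cast h)) hd0
  refine ⟨hgD, hval, ?_, hout, huniq, ?_⟩
  · ext x
    refine ⟨fun hx => ?_, ?_⟩
    · by_cases hxg : IsConj g x
      · exact Or.inr hxg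
      · exact Or.inl (hin x hx hxg)
    · rintro (hx | hx)
      · exact hKD hx
      · exact hconjD x hx
  · exact BlocksChars.OneNonlinearGroup.Hyp.isSolvable (K := K) (g := g)
      ⟨hKn, hKD, hgD, hgK, hcls, hord, hcen⟩

end Cfsg.Agent.S4805
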