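import Cfsg.Statements.S4807
import Cfsg.Agent.Lib.CharTheory.RelMcKay.Main

set_option autoImplicit false
open Cfsg
open Cfsg.Agent.CharTheory Cfsg.Agent.CharTheory.RelMcKay

namespace Cfsg.Agent.S4807

/-- Let p be a prime and G a finite p-solvable group, L a normal subgroup of G, S a Sylow p-subgroup of G and P the subgroup generated by L and S (so P/L is a Sylow p-subgroup of G/L), and let ν be an irreducible complex character of L that is invariant under conjugation by every element of P. Let N be the normalizer of P in G (it contains L). Then the number of irreducible characters of G of degree prime to p lying over ν (restriction to L not orthogonal to ν) equals the number of irreducible characters of N of degree prime to p lying over ν. -/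
theorem result {G : Type*} [Group G] [Finite G] (p : ℕ) [Fact p.Prime] (hG : Cfsg.IsPSolvable p G) (L : Subgroup G) [L.Normal] (S : Sylow p G) (P : Subgroup G) (hP : P = L ⊔ (S : Subgroup G)) (hLN : L ≤ (Subgroup.normalizer ((P : Subgroup G) : Set G))) (ν : Cfsg.IrrCharacter ↥L) (hν : ∀ x ∈ P, Cfsg.IsConjCharOf L x (ν : ↥L → ℂ) (ν : ↥L → ℂ)) : Nat.card {χ : Cfsg.IrrCharacter G // ¬ p ∣ Cfsg.charDegree (χ : G → ℂ) ∧ (∑ᶠ l : ↥L, (χ : G → ℂ) (l : G) * (starRingEnd ℂ) ((ν : ↥L → ℂ) l)) ≠ 0} = Nat.card {ψ : Cfsg.IrrCharacter ↥(Subgroup.normalizer ((P : Subgroup G) : Set G)) // ¬ p ∣ Cfsg.charDegree (ψ : ↥(Subgroup.normalizer ((P : Subgroup G) : Set G)) → ℂ) ∧ (∑ᶠ l : ↥L, (ψ : ↥(Subgroup.normalizer ((P : Subgroup G) : Set G)) → ℂ) (Subgroup.inclusion hLN l) * (starRingEnd ℂ) ((ν : ↥L → ℂ) l)) ≠ 0} := by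
  set N := Subgroup.normalizer ((P : Subgroup G) : Set G) with hN
  set θ := ext0 L (ν : ↥L → ℂ) with hθdef
  have hθ : Irr L θ := by rw [Irr, res_ext0]; exact ν.2
  have hθP : ∀ x ∈ P, Inv L θ x := fun x hx l hl => by
    rw [hθdef, ext0_apply L _ (Subgroup.Normal.conj_mem inferInstance l hl x), ext0_apply L _ hl]
    exact hν x hx ⟨l, hl⟩ ⟨_, Subgroup.Normal.conj_mem inferInstance l hl x⟩ rfl
  have hS : IsPGroup p (S : Subgroup G) := S.isPGroup'
  have hSi : ¬ p ∣ (S : Subgroup G).index := S.not_dvd_index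
  have hred := reduction (main L.index) (M := L) le_rfl
    (Agent.PLocal.PSolvable.quotient hG L) hS hSi hθ
    (fun s hs => hθP s (hP ▸ Subgroup.mem_sup_right hs))
  rw [← hP] at hred
  have hm : ∀ (f : G → ℂ),
      mult L f θ ≠ 0 ↔ (∑ᶠ l : ↥L, f l * (starRingEnd ℂ) ((ν : ↥L → ℂ) l)) ≠ 0 := by
    intro f
    rw [mult, mul_ne_zero_iff, and_iff_right (inv_ne_zero (Nat.cast_ne_zero.2 Nat.card_pos.ne'))]
    rw [show (fun l : ↥L => f l * (starRingEnd ℂ) (θ l)) =
      fun l : ↥L => f l * (starRingEnd ℂ) ((ν : ↥L → ℂ) l) from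
        funext fun l => by rw [hθdef, ext0_apply L _ l.2]]
  refine Eq.trans ?_ (hred.trans ?_)
  · rw [cnt_top]
    refine Nat.card_congr (Equiv.subtypeEquivRight fun χ => and_congr_right fun _ => ?_)
    rw [hm]
    exact (and_iff_left_of_imp fun _ r hr => by rw [Subgroup.mem_bot.1 hr, one_mul]).symm
  · rw [cnt]
    refine Nat.card_congr (Equiv.subtypeEquivRight fun χ => and_congr_right fun _ => ?_)
    rw [hm, show (fun l : ↥L => ext0 N (χ : ↥N → ℂ) l * (starRingEnd ℂ) ((ν : ↥L → ℂ) l)) =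
      fun l : ↥L => (χ : ↥N → ℂ) (Subgroup.inclusion hLN l) * (starRingEnd ℂ) ((ν : ↥L → ℂ) l) from
        funext fun l => by rw [ext0_apply N _ (hLN l.2)]; rfl]
    exact and_iff_left_of_imp fun _ r hr => by rw [Subgroup.mem_bot.1 hr, one_mul]

end Cfsg.Agent.S4807
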