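import Cfsg.Statements.S4808
import Mathlib
import Cfsg.Agent.BlocksChars.Codegree
-- import your own Cfsg.Agent.* helpers here

set_option autoImplicit false
open Cfsg

namespace Cfsg.Agent.S4808

open Cfsg.Agent.Characters Cfsg.Agent.BlocksChars.Degrees Cfsg.Agent.BlocksChars.Codegree


/-- The codegree of an irreducible complex character χ of a finite group G is [G : ker χ] / χ(1), where ker χ is the set of elements at which χ takes the value χ(1). A prime divides the order of G if and only if it divides the codegree of some irreducible complex character of G. -/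
theorem result {G : Type*} [Group G] [Finite G] (p : ℕ) (hp : p.Prime) : p ∣ Nat.card G ↔ ∃ χ : Cfsg.IrrCharacter G, p ∣ (Nat.card G / (Nat.card {g : G // (χ : G → ℂ) g = (χ : G → ℂ) 1} * Cfsg.charDegree (χ : G → ℂ))) := by
  classical
  haveI := Fintype.ofFinite G
  haveI := Fintype.ofFinite (Cfsg.IrrCharacter G)
  refine ⟨fun hpG => ?_, fun ⟨χ, hχ⟩ => hχ.trans (Nat.div_dvd_of_dvd (ker_mul_degree_dvd χ))⟩
  by_contra hcon
  push Not at hcon
  let S : Set (Subgroup G) := {N | N.Normal ∧ ¬ p ∣ N.index}
  have hSne : S.Nonempty := ⟨⊤, inferInstance, by simp [hp.ne_one]⟩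
  obtain ⟨N, hN, hmin⟩ := (S.toFinite).exists_minimal hSne
  haveI : N.Normal := hN.1
  have hdeg : ∀ χ : Cfsg.IrrCharacter G, ¬ (∀ x ∈ N, (χ : G → ℂ) x = (χ : G → ℂ) 1) →
      p ∣ Cfsg.charDegree (χ : G → ℂ) := by
    intro χ hne
    haveI := ker_normal χ
    have hpi : p ∣ (ker χ).index := by
      by_contra hpi
      apply hne
      have hmem : ker χ ⊓ N ∈ S := by
        refine ⟨inferInstance, fun hd => ?_⟩
        have he := Subgroup.relIndex_mul_index (inf_le_right : ker χ ⊓ N ≤ N)
        rw [Subgroup.inf_relIndex_right] at he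
        rw [← he] at hd
        rcases (hp.dvd_mul).1 hd with h | h
        · exact hpi (h.trans ((ker χ).relIndex_dvd_index_of_normal N))
        · exact hN.2 h
      intro x hx
      exact mem_charKernel.1 (hmin hmem inf_le_right hx).1
    have h2 := hcon χ
    rw [codeg_eq_index_div] at h2
    rw [← Nat.mul_div_cancel' (degree_dvd_index χ)] at hpi
    exact ((hp.dvd_mul).1 hpi).resolve_right h2
  have hsum := sum_degree_sq_nat (G := G)
  rw [← Finset.sum_filter_add_sum_filter_not Finset.univ
    (fun χ : Cfsg.IrrCharacter G => ∀ x ∈ N, (χ : G → ℂ) x = (χ : G → ℂ) 1),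
    sum_degree_sq_over N] at hsum
  refine hN.2 ((Nat.dvd_add_left ?_).1 (hsum ▸ hpG))
  exact Finset.dvd_sum fun χ hχ => dvd_pow (hdeg χ (Finset.mem_filter.1 hχ).2) two_ne_zero

end Cfsg.Agent.S4808
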