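import Cfsg.Statements.S4811
import Mathlib
import Cfsg.Agent.BlocksChars.Palfy.Main
-- import your own Cfsg.Agent.* helpers here

set_option autoImplicit false
open Cfsg

namespace Cfsg.Agent.S4811

/-- For every finite solvable group G the character degree graph of G (vertices: the primes dividing some irreducible complex character degree; edges: distinct primes whose product divides some degree) has at most two connected components. -/
theorem result {G : Type*} [Group G] [Finite G] [Group.IsSolvable G] : Nat.card ((Cfsg.degreeGraph G).induce (Cfsg.degreePrimes G)).ConnectedComponent ≤ 2 := by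
  by_contra hcon
  push Not at hcon
  set Γ := (Cfsg.degreeGraph G).induce (Cfsg.degreePrimes G) with hΓ
  haveI : Finite Γ.ConnectedComponent := Nat.finite_of_card_ne_zero (by omega)
  haveI := Fintype.ofFinite Γ.ConnectedComponent
  rw [Nat.card_eq_fintype_card, Fintype.two_lt_card_iff] at hcon
  obtain ⟨a, b, c, hab, hac, hbc⟩ := hcon
  obtain ⟨p, rfl⟩ := a.exists_rep
  obtain ⟨q, rfl⟩ := b.exists_rep
  obtain ⟨r, rfl⟩ := c.exists_rep
  have key : ∀ {x y : Cfsg.degreePrimes G}, Γ.connectedComponentMk x ≠ Γ.connectedComponentMk y →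
      BlocksChars.Palfy.NoEdge G (x : ℕ) (y : ℕ) ∧ (x : ℕ) ≠ y := by
    intro x y hxy
    have hne : (x : ℕ) ≠ y := fun e => hxy (congrArg _ (Subtype.ext e))
    refine ⟨fun d hd hdx hdy => hxy (SimpleGraph.ConnectedComponent.sound
      (SimpleGraph.Adj.reachable ?_)), hne⟩
    exact ⟨hne, x.2.1, y.2.1, d, hd,
      ((Nat.coprime_primes x.2.1 y.2.1).2 hne).mul_dvd_of_dvd_of_dvd hdx hdy⟩
  exact BlocksChars.Palfy.no_triangle (Nat.card G) G rfl p.2.1 q.2.1 r.2.1 (key hab).2 (key hbc).2
    (key hac).2 p.2.2 q.2.2 r.2.2 (key hab).1 (key hbc).1 (key hac).1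

end Cfsg.Agent.S4811
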