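import Cfsg.Statements.S4812
import Mathlib
import Cfsg.Agent.BlocksChars.SL2DegreeGraph
-- import your own Cfsg.Agent.* helpers here

set_option autoImplicit false
open Cfsg

namespace Cfsg.Agent.S4812

/-- Let F be a finite field of characteristic 2 with q ≥ 4 elements and let S be isomorphic to PSL(2,F) or to SL(2,F). Then the vertices of the character degree graph of S are the primes dividing q(q²−1), and two distinct primes are adjacent exactly when both divide q + 1 or both divide q − 1; so the graph has the three connected components {2}, the primes dividing q + 1 and the primes dividing q − 1, each complete. -/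
theorem result (F : Type*) [Field F] [Fintype F] [CharP F 2] (q : ℕ) (hq : Fintype.card F = q) (h4 : 4 ≤ q) {S : Type*} [Group S] [Finite S] (hS : Nonempty (S ≃* Matrix.ProjectiveSpecialLinearGroup (Fin 2) F) ∨ Nonempty (S ≃* Matrix.SpecialLinearGroup (Fin 2) F)) : Cfsg.degreePrimes S = {r : ℕ | r.Prime ∧ r ∣ q * (q ^ 2 - 1)} ∧ ∀ r s : ℕ, (Cfsg.degreeGraph S).Adj r s ↔ (r ≠ s ∧ r.Prime ∧ s.Prime ∧ ((r ∣ q + 1 ∧ s ∣ q + 1) ∨ (r ∣ q - 1 ∧ s ∣ q - 1))) := by
  classical
  obtain ⟨n, -, hn⟩ := FiniteField.card F 2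
  have hD := BlocksChars.SL2DegreeGraph.degSet_of_iso (F := F) (S := S) (by omega) (fun h => by
    exfalso
    rw [hn] at h
    exact Nat.not_odd_iff_even.2 ((Nat.even_pow' n.ne_zero).2 even_two) h) hS
  rw [hq] at hD
  exact ⟨BlocksChars.SL2DegreeGraph.degreePrimes_eq hD,
    fun r s => BlocksChars.SL2DegreeGraph.adj_iff (t := 2) (n := n) Nat.prime_two (hq.symm.trans hn) hD r s⟩

end Cfsg.Agent.S4812
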