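import Cfsg.Statements.S4814
import Mathlib
import Cfsg.Agent.Lib.Characters.Kernel
import Cfsg.Agent.Lib.Characters.Counting
-- import your own Cfsg.Agent.* helpers here

set_option autoImplicit false
open Cfsg

namespace Cfsg.Agent.S4814

open Cfsg.Agent.Characters
open scoped ComplexConjugate

/-- The sum of an irreducible character over all translates of the commutators. -/
theorem sum_commutator {G : Type*} [Group G] [Fintype G] {χ : G → ℂ}
    (h : Cfsg.IsIrrCharacter G χ) (z : G) :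
    ∑ a : G, ∑ b : G, χ (a * b * a⁻¹ * b⁻¹ * z) = (Nat.card G : ℂ) ^ 2 * χ z / χ 1 ^ 2 := by
  have hc := isCharacter_of_isIrr h
  have h1 : ∀ a : G, ∑ b : G, χ (a * b * a⁻¹ * b⁻¹ * z) =
      (Nat.card G : ℂ) / χ 1 * (χ (z * a) * conj (χ a)) := by
    intro a
    have e : ∀ b : G, χ (a * b * a⁻¹ * b⁻¹ * z) = χ (z * a * (b * a⁻¹ * b⁻¹)) := fun b => by
      have := char_isClassFunction hc (a * b * a⁻¹ * b⁻¹ * z) z
      rw [← this]; exact congrArg χ (by group)
    rw [Finset.sum_congr rfl fun b _ => e b, sum_mul_conjugates h, char_inv hc]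
    ring
  rw [Finset.sum_congr rfl fun a _ => h1 a, ← Finset.mul_sum, sum_mul_conj_shift h]
  ring


/-- Let G be a finite group such that the sum, over the irreducible complex characters χ of G, of 1/χ(1)² is less than 2. Then every element of G is a product of two commutators. -/
theorem result {G : Type*} [Group G] [Finite G]
    (h : ∑ᶠ χ : Cfsg.IrrCharacter G, 1 / ‖(χ : G → ℂ) 1‖ ^ 2 < (2 : ℝ)) (g : G) :
    ∃ a b c d : G, (a * b * a⁻¹ * b⁻¹) * (c * d * c⁻¹ * d⁻¹) = g := by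
  classical
  haveI := Fintype.ofFinite G
  haveI := Fintype.ofFinite (Cfsg.IrrCharacter G)
  by_contra hno
  push Not at hno
  have key : ∑ χ : Cfsg.IrrCharacter G, (χ : G → ℂ) g⁻¹ / (χ : G → ℂ) 1 ^ 3 = 0 := by
    have hval : ∀ a b c d : G, ∑ χ : Cfsg.IrrCharacter G, (χ : G → ℂ) 1 *
        (χ : G → ℂ) ((a * b * a⁻¹ * b⁻¹) * (c * d * c⁻¹ * d⁻¹) * g⁻¹) = 0 := by
      intro a b c d
      have := congrFun (regular_eq_sum (G := G)) ((a * b * a⁻¹ * b⁻¹) * (c * d * c⁻¹ * d⁻¹) * g⁻¹)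
      simp only [Finset.sum_apply, Pi.smul_apply, smul_eq_mul] at this
      rw [← this, if_neg]
      intro he
      exact hno a b c d (mul_inv_eq_one.1 he)
    have hzero : ∑ χ : Cfsg.IrrCharacter G, (χ : G → ℂ) 1 * ∑ a : G, ∑ b : G, ∑ c : G, ∑ d : G,
        (χ : G → ℂ) ((a * b * a⁻¹ * b⁻¹) * (c * d * c⁻¹ * d⁻¹) * g⁻¹) = 0 := by
      simp only [Finset.mul_sum]
      rw [Finset.sum_comm]
      refine Finset.sum_eq_zero fun a _ => ?_
      rw [Finset.sum_comm]
      refine Finset.sum_eq_zero fun b _ => ?_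
      rw [Finset.sum_comm]
      refine Finset.sum_eq_zero fun c _ => ?_
      rw [Finset.sum_comm]
      exact Finset.sum_eq_zero fun d _ => hval a b c d
    have hterm : ∀ χ : Cfsg.IrrCharacter G, (χ : G → ℂ) 1 * ∑ a : G, ∑ b : G, ∑ c : G, ∑ d : G,
        (χ : G → ℂ) ((a * b * a⁻¹ * b⁻¹) * (c * d * c⁻¹ * d⁻¹) * g⁻¹) =
          (Nat.card G : ℂ) ^ 4 * ((χ : G → ℂ) g⁻¹ / (χ : G → ℂ) 1 ^ 3) := by
      intro χ
      have h1 := irr_one_ne_zero χ.2
      have e : ∀ c d : G, ∑ a : G, ∑ b : G,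
          (χ : G → ℂ) ((a * b * a⁻¹ * b⁻¹) * (c * d * c⁻¹ * d⁻¹) * g⁻¹) =
          (Nat.card G : ℂ) ^ 2 * (χ : G → ℂ) ((c * d * c⁻¹ * d⁻¹) * g⁻¹) / (χ : G → ℂ) 1 ^ 2 := by
        intro c d
        rw [← sum_commutator χ.2]
        simp [mul_assoc]
      have e2 : ∑ a : G, ∑ b : G, ∑ c : G, ∑ d : G,
          (χ : G → ℂ) ((a * b * a⁻¹ * b⁻¹) * (c * d * c⁻¹ * d⁻¹) * g⁻¹) =
          ∑ c : G, ∑ d : G, ∑ a : G, ∑ b : G,
          (χ : G → ℂ) ((a * b * a⁻¹ * b⁻¹) * (c * d * c⁻¹ * d⁻¹) * g⁻¹) := by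
        rw [Finset.sum_congr rfl fun a _ => Finset.sum_comm, Finset.sum_comm]
        refine Finset.sum_congr rfl fun c _ => ?_
        rw [Finset.sum_congr rfl fun a _ => Finset.sum_comm, Finset.sum_comm]
      rw [e2, Finset.sum_congr rfl fun c _ => Finset.sum_congr rfl fun d _ => e c d]
      simp only [mul_div_assoc, ← Finset.mul_sum, ← Finset.sum_div]
      rw [sum_commutator χ.2]
      field_simp
      try ring
    rw [Finset.sum_congr rfl fun χ _ => hterm χ, ← Finset.mul_sum, mul_eq_zero] at hzero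
    exact hzero.resolve_left (pow_ne_zero _ natCard_ne_zero)
  rw [finsum_eq_sum_of_fintype, ← Finset.add_sum_erase _ _ (Finset.mem_univ (trivIrr G))] at h
  rw [← Finset.add_sum_erase _ _ (Finset.mem_univ (trivIrr G))] at key
  simp only [trivIrr_coe, norm_one, one_pow, div_one] at h key
  have hb : ‖∑ χ ∈ Finset.univ.erase (trivIrr G), (χ : G → ℂ) g⁻¹ / (χ : G → ℂ) 1 ^ 3‖ ≤
      ∑ χ ∈ Finset.univ.erase (trivIrr G), 1 / ‖(χ : G → ℂ) 1‖ ^ 2 := by
    refine (norm_sum_le _ _).trans (Finset.sum_le_sum fun χ _ => ?_)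
    have h1 : 0 < ‖(χ : G → ℂ) 1‖ := norm_pos_iff.2 (irr_one_ne_zero χ.2)
    rw [norm_div, norm_pow, div_le_div_iff₀ (by positivity) (by positivity)]
    have := char_norm_le (irr_isCharacter χ) g⁻¹
    nlinarith [pow_pos h1 2]
  rw [eq_neg_of_add_eq_zero_right key, norm_neg, norm_one] at hb
  linarith

end Cfsg.Agent.S4814
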