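import Cfsg.Statements.S4825
import Mathlib
import Cfsg.Agent.BlocksChars.SectionOrth
import Cfsg.Agent.Lib.Blocks.Defect
import Cfsg.Agent.Lib.CharTheory.Clifford
import Cfsg.Agent.Lib.Characters.Induction
-- import your own Cfsg.Agent.* helpers here

set_option autoImplicit false
open Cfsg

namespace Cfsg.Agent.S4825

open Cfsg.Agent.Blocks Cfsg.Agent.Characters Cfsg.Agent.BlocksChars.SectionOrth
open Cfsg.Agent.CharTheory

/-- Let p be a prime, G a finite group with Sylow p-subgroup P, M a maximal ideal of the algebraic integers containing p, and B a p-block of G with defect group P. Let N be a normal subgroup of G not containing P and θ an irreducible character of N. Then the number of irreducible characters in B of degree prime to p lying over θ (having θ as a constituent on restriction to N) is either 0 or at least 2, and when p ≤ 3 it is divisible by p. -/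
theorem result {G : Type*} [Group G] [Fintype G] (p : ℕ) [Fact p.Prime] (P : Sylow p G) (M : Ideal Cfsg.AlgInt) (hM : Cfsg.IsPModular p M) (B : Set (Cfsg.IrrCharacter G)) (hB : Cfsg.IsPBlock M B) (hBP : Cfsg.IsDefectGroup p M B P) (N : Subgroup G) [N.Normal] [Fintype N] (hPN : ¬ (P : Subgroup G) ≤ N) (θ : Cfsg.IrrCharacter N) :
    (Nat.card {χ : Cfsg.IrrCharacter G // χ ∈ B ∧ ¬ p ∣ Cfsg.charDegree (χ : G → ℂ) ∧ Cfsg.classInner (fun n : N => (χ : G → ℂ) n) (θ : N → ℂ) ≠ 0} = 0 ∨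
      2 ≤ Nat.card {χ : Cfsg.IrrCharacter G // χ ∈ B ∧ ¬ p ∣ Cfsg.charDegree (χ : G → ℂ) ∧ Cfsg.classInner (fun n : N => (χ : G → ℂ) n) (θ : N → ℂ) ≠ 0}) ∧
    (p ≤ 3 → p ∣ Nat.card {χ : Cfsg.IrrCharacter G // χ ∈ B ∧ ¬ p ∣ Cfsg.charDegree (χ : G → ℂ) ∧ Cfsg.classInner (fun n : N => (χ : G → ℂ) n) (θ : N → ℂ) ≠ 0}) := by
  classical
  haveI := Fintype.ofFinite (Cfsg.IrrCharacter G)
  obtain ⟨x, hxP, hxN⟩ := SetLike.not_le_iff_exists.1 hPN
  have hx : ∃ k : ℕ, orderOf x = p ^ k := by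
    obtain ⟨k, hk⟩ := IsPGroup.iff_orderOf.1 P.2 ⟨x, hxP⟩
    exact ⟨k, by rwa [Subgroup.orderOf_mk] at hk⟩
  -- multiplicities
  have hnat : ∀ χ : Cfsg.IrrCharacter G, ∃ e : ℕ,
      Cfsg.classInner (fun n : N => (χ : G → ℂ) n) (θ : N → ℂ) = (e : ℂ) := fun χ =>
    classInner_char_nat (isCharacter_restrict N (irr_isCharacter χ)) (irr_isCharacter θ)
  choose e he using hnat
  let T : Subgroup G :=
    { carrier := {g | Clifford.conjBy N g (θ : N → ℂ) = θ}
      one_mem' := Clifford.conjBy_one N _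
      mul_mem' := fun {a b} ha hb => by
        show Clifford.conjBy N (a * b) (θ : N → ℂ) = θ
        rw [← Clifford.conjBy_conjBy, ha, hb]
      inv_mem' := fun {a} ha => by
        show Clifford.conjBy N a⁻¹ (θ : N → ℂ) = θ
        apply Clifford.conjBy_injective N a
        rw [Clifford.conjBy_conjBy, inv_mul_cancel, Clifford.conjBy_one, ha] }
  set L := T.index * Cfsg.charDegree (θ : N → ℂ) with hL
  have hdeg : ∀ χ : Cfsg.IrrCharacter G, e χ ≠ 0 → Cfsg.charDegree (χ : G → ℂ) = e χ * L := by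
    intro χ hχ
    have h := Clifford.card_mul_degree N χ.2 θ.2 (by rw [he]; exact_mod_cast hχ) T fun g => Iff.rfl
    rw [he, ← charDegree_cast, ← charDegree_cast, ← T.index_mul_card] at h
    have hT : (Nat.card T : ℂ) ≠ 0 := Nat.cast_ne_zero.2 Nat.card_pos.ne'
    have h2 : (Cfsg.charDegree (χ : G → ℂ) : ℂ) = ((e χ * L : ℕ) : ℂ) := by
      refine mul_left_cancel₀ hT ?_
      rw [h, hL]; push_cast; ring
    exact_mod_cast h2
  -- the block part of the induced character at `x`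
  have hzero : ∑ χ : Cfsg.IrrCharacter G, (if χ ∈ B then (e χ : ℂ) * (χ : G → ℂ) x else 0) = 0 := by
    refine blockSum_eq_zero_of_section hM hB hx (fun χ => (e χ : ℂ)) fun g y hy hxy => ?_
    have h1 : Cfsg.indFun N (θ : N → ℂ) g = 0 := by
      refine Clifford.indFun_of_notMem N _ fun hg => hxN ?_
      obtain ⟨c, hc⟩ := isConj_iff.1 hxy
      obtain ⟨z, hz, hcom, ⟨k, hk⟩, hzp⟩ := hy
      have hyN : y ∈ N := by
        obtain ⟨m, hm0, hm1⟩ := Nat.chineseRemainder
          (Nat.Coprime.pow_left k ((Fact.out : p.Prime).coprime_iff_not_dvd.2 hzp)) 1 0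
        have : g ^ m = y := by
          rw [← hz, hcom.mul_pow, (pow_eq_pow_iff_modEq.2 (by rwa [hk]) : y ^ m = y ^ 1), pow_one,
            orderOf_dvd_iff_pow_eq_one.1 (Nat.modEq_zero_iff_dvd.1 hm1), mul_one]
        exact this ▸ pow_mem hg m
      rw [show x = c⁻¹ * y * c⁻¹⁻¹ by rw [← hc]; group]
      exact (inferInstance : N.Normal).conj_mem y hyN c⁻¹
    rw [← h1]
    conv_rhs => rw [classFun_eq_sum (char_isClassFunction (isCharacter_indFun N (irr_isCharacter θ)))]
    simp only [Finset.sum_apply, Pi.smul_apply, smul_eq_mul]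
    refine Finset.sum_congr rfl fun χ _ => ?_
    rw [frobenius_reciprocity N _ (irr_isClassFunction χ),
      classInner_conj_symm, he, Complex.conj_natCast]
  have hmod : Cfsg.MemLocalIdeal M
      ((∑ χ : Cfsg.IrrCharacter G, if χ ∈ B then e χ * Cfsg.charDegree (χ : G → ℂ) else 0 : ℕ) : ℂ) := by
    refine cong_zero_iff.1 ?_
    rw [← hzero, Nat.cast_sum]
    refine cong_sum hM fun χ _ => ?_
    split
    · rw [Nat.cast_mul, charDegree_cast]
      refine cong_mul_left hM (ring_natCast hM _) (cong_symm hM ?_)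
      obtain ⟨k, hk⟩ := hx
      have h := char_cong_of_commute hM χ (x := x) (y := 1) (Commute.one_right x) (k := k)
        (by rw [← hk, pow_orderOf_eq_one]) (by simpa using (Fact.out : p.Prime).not_dvd_one)
      rwa [mul_one] at h
    · rw [Nat.cast_zero]; exact cong_refl hM 0
  have hdiv : p ∣ ∑ χ : Cfsg.IrrCharacter G,
      if χ ∈ B then e χ * Cfsg.charDegree (χ : G → ℂ) else 0 := (ideal_natCast_iff hM _).1 hmod
  have hz : ∑ χ : Cfsg.IrrCharacter G, (if χ ∈ B ∧ ¬ p ∣ Cfsg.charDegree (χ : G → ℂ) ∧ e χ ≠ 0 then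
      (Cfsg.charDegree (χ : G → ℂ) : ZMod p) ^ 2 else 0) = 0 := by
    have h := (ZMod.natCast_eq_zero_iff _ _).2 hdiv
    rw [Nat.cast_sum] at h
    have h2 := (Finset.sum_mul _ _ _).symm.trans ((congrArg (fun t => t * (L : ZMod p)) h).trans (zero_mul _))
    refine (Finset.sum_congr rfl fun χ _ => ?_).trans h2
    by_cases hB' : χ ∈ B
    swap
    · simp [hB']
    rw [if_pos hB', ← Nat.cast_mul, mul_comm (e χ), mul_assoc]
    by_cases he0 : e χ = 0
    · simp [he0]
    rw [← hdeg χ he0, Nat.cast_mul]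
    by_cases hp' : p ∣ Cfsg.charDegree (χ : G → ℂ)
    · simp [hp', (ZMod.natCast_eq_zero_iff _ _).2 hp']
    · rw [if_pos ⟨hB', hp', he0⟩, sq]
  rw [← Finset.sum_filter] at hz
  set S := Finset.univ.filter fun χ : Cfsg.IrrCharacter G =>
    χ ∈ B ∧ ¬ p ∣ Cfsg.charDegree (χ : G → ℂ) ∧ e χ ≠ 0 with hS
  have hcard : Nat.card {χ : Cfsg.IrrCharacter G // χ ∈ B ∧ ¬ p ∣ Cfsg.charDegree (χ : G → ℂ) ∧
      Cfsg.classInner (fun n : N => (χ : G → ℂ) n) (θ : N → ℂ) ≠ 0} = S.card := by
    rw [Nat.card_eq_fintype_card, Fintype.card_subtype, hS]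
    congr 1
    refine Finset.filter_congr fun χ _ => ?_
    rw [he, Nat.cast_ne_zero]
  rw [hcard]
  refine ⟨?_, fun hp3 => ?_⟩
  · by_contra hne
    push Not at hne
    obtain ⟨χ, hχ⟩ := Finset.card_eq_one.1 (show S.card = 1 by omega)
    rw [hχ, Finset.sum_singleton, pow_eq_zero_iff two_ne_zero, ZMod.natCast_eq_zero_iff] at hz
    exact (Finset.mem_filter.1 (hχ.ge (Finset.mem_singleton_self χ))).2.2.1 hz
  · rw [Finset.sum_congr rfl fun χ hχ => ?_, Finset.sum_const, nsmul_one,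
      ZMod.natCast_eq_zero_iff] at hz
    · exact hz
    · have hne : (Cfsg.charDegree (χ : G → ℂ) : ZMod p) ≠ 0 := fun h =>
        (Finset.mem_filter.1 hχ).2.2.1 ((ZMod.natCast_eq_zero_iff _ _).1 h)
      have h2 := (Fact.out : p.Prime).two_le
      have h3 := ZMod.pow_card_sub_one_eq_one hne
      obtain rfl | rfl : p = 2 ∨ p = 3 := by omega
      · rw [show (2 - 1 : ℕ) = 1 from rfl, pow_one] at h3
        rw [h3, one_pow]
      · exact h3

end Cfsg.Agent.S4825
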