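import Cfsg.Statements.S4828
import Mathlib
import Cfsg.Agent.BlocksChars.PairStabIndex
import Cfsg.Agent.Lib.Blocks.FullCentralizer
-- import your own Cfsg.Agent.* helpers here

set_option autoImplicit false
open Cfsg

namespace Cfsg.Agent.S4828

open Cfsg.Agent.Blocks Cfsg.Agent.Characters Cfsg.Agent.BlockCharsA Cfsg.Agent.BlocksChars
open Cfsg.Agent.BlockCharsA.BrauerPairs Cfsg.Agent.BlockCharsA.PairLocal
open Cfsg.Agent.BlockCharsA.PairConj

/-- Conjugates below a maximal pair, of the pair itself, are equal to it. -/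
theorem cj_eq_of_subpair {G : Type*} [Group G] [Finite G] {p : ℕ} {M : Ideal Cfsg.AlgInt}
    (hM : Cfsg.IsPModular p M) {Q : Subgroup G} {x : G}
    {e : Set (Cfsg.IrrCharacter (Subgroup.centralizer (Q : Set G)))}
    (h : Cfsg.SubpairLE p M (cj Q x) (Cfsg.conjBlock Q x e) Q e) : cj Q x = Q :=
  Blocks.eq_of_le_of_card_le (subpairLE_facts hM h).1 (card_map_conj Q x).ge

theorem center_le {G : Type*} [Group G] {Q : Subgroup G} :
    (Q ⊓ Subgroup.centralizer (Q : Set G)).subgroupOf (Subgroup.centralizer (Q : Set G)) ≤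
      Subgroup.center (Subgroup.centralizer (Q : Set G)) := fun z hz =>
  Subgroup.mem_center_iff.2 fun c => Subtype.ext
    ((Subgroup.mem_centralizer_iff.1 c.2 z (Subgroup.mem_subgroupOf.1 hz).1).symm)

theorem sup_top_of_central {H : Type*} [Group H] {Z : Subgroup H} (hZ : Z ≤ Subgroup.center H) :
    Z ⊔ Subgroup.centralizer (Z : Set H) = ⊤ :=
  top_le_iff.1 (le_sup_right.trans' fun c _ => Subgroup.mem_centralizer_iff.2 fun z hz =>
    (Subgroup.mem_center_iff.1 (hZ hz) c).symm)

theorem degree_iff {H : Type*} [Group H] [Finite H] {p : ℕ} {Z : Subgroup H} {d : ℕ} :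
    d + (Nat.card Z).factorization p = (Nat.card H).factorization p ↔
      d = Z.index.factorization p := by
  have := factorization_index_add Z p
  omega

/-- Let p be a prime, M a maximal ideal of the algebraic integers containing p, and (Q, e) a Brauer pair of the finite group G (Q a p-subgroup, e a block of C_G(Q)). Then (Q, e) is a maximal Brauer pair of some block of G if and only if e contains an irreducible character θ such that θ takes the value θ(1) at every element of Z(Q) = Q ∩ C_G(Q), the p-part of θ(1) times the p-part of the order of Z(Q) equals the p-part of the order of C_G(Q) (θ has defect zero as a character of C_G(Q)/Z(Q)), and every element of N_G(Q) of p-power order that stabilizes e lies in Q·C_G(Q) (the stabilizer of e in N_G(Q) has index prime to p over Q·C_G(Q)). -/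
theorem result {G : Type*} [Group G] [Finite G] (p : ℕ) [Fact p.Prime] (M : Ideal Cfsg.AlgInt) (hM : Cfsg.IsPModular p M) (Q : Subgroup G) (e : Set (Cfsg.IrrCharacter (Subgroup.centralizer (Q : Set G)))) (he : Cfsg.IsBrauerPair p M Q e) :
    (∃ B : Set (Cfsg.IrrCharacter G), Cfsg.IsMaximalBrauerPair p M B Q e) ↔
      ∃ θ ∈ e, (∀ z : Subgroup.centralizer (Q : Set G), (z : G) ∈ Q → (θ : Subgroup.centralizer (Q : Set G) → ℂ) z = (θ : Subgroup.centralizer (Q : Set G) → ℂ) 1) ∧
        (Cfsg.charDegree (θ : Subgroup.centralizer (Q : Set G) → ℂ)).factorization p + (Nat.card ↥(Q ⊓ Subgroup.centralizer (Q : Set G))).factorization p = (Nat.card (Subgroup.centralizer (Q : Set G))).factorization p ∧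
        (∀ g : G, g ∈ Subgroup.normalizer (Q : Set G) → Cfsg.StabilizesBlock (Subgroup.centralizer (Q : Set G)) e g → (∃ k : ℕ, orderOf g = p ^ k) → g ∈ Q ⊔ Subgroup.centralizer (Q : Set G)) := by
  classical
  haveI := hM.1
  set Z := (Q ⊓ Subgroup.centralizer (Q : Set G)).subgroupOf (Subgroup.centralizer (Q : Set G))
    with hZdef
  have hZp : IsPGroup p Z := isPGroup_subgroupOf (he.1.to_le inf_le_left) inf_le_right
  have hZcard : Nat.card Z = Nat.card ↥(Q ⊓ Subgroup.centralizer (Q : Set G)) :=
    Nat.card_congr (Subgroup.subgroupOfEquivOfLe inf_le_right).toEquiv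
  constructor
  · rintro ⟨B, hmax⟩
    have hrefl : Cfsg.SubpairLE p M Q e Q e := Relation.ReflTransGen.refl
    have heD : Cfsg.IsDefectGroup p M e Z := by
      rw [hZdef]
      refine (defect_iff_largest hM le_rfl centralizer_le_stab he.2 coeff_self hmax hrefl).2 ?_
      intro x hx
      rw [cj_centralizer, cj_eq_of_subpair hM hx]
    obtain ⟨θ, hθe, hinv, hdeg, -⟩ :=
      exists_canonical (sup_top_of_central center_le) hM hZp he.2 heD
    refine ⟨θ, hθe, fun z hz => ?_, ?_, fun g hgN hgst hgo => ?_⟩
    · have h := hinv 1 z (Subgroup.mem_subgroupOf.2 ⟨hz, z.2⟩)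
      rwa [one_mul] at h
    · rw [← hZcard, degree_iff]; exact hdeg
    · refine PairStabIndex.pElement_stab_mem hM he (fun T hLT hTS F hF hFf => ?_)
        (mem_stab.2 ⟨hgN, hgst⟩) hgo
      have hinf : Q ⊓ T = Q := inf_eq_left.2 (le_sup_left.trans hLT)
      have h := (defect_iff_largest hM (le_sup_right.trans hLT) hTS hF hFf hmax hrefl).2 fun x _ => by
        rw [hinf]; exact Subgroup.card_le_of_le inf_le_left
      rwa [hinf] at h
  · rintro ⟨θ, hθe, htriv, hdeg, hstab⟩
    obtain ⟨B, hB⟩ := exists_brauerPairOf hM he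
    refine ⟨B, hB, fun R g hR hle => ?_⟩
    by_contra hne
    have hQR : Q ≤ R := (subpairLE_facts hM hle).1
    set S := R ⊓ Subgroup.normalizer (Q : Set G) with hS
    obtain ⟨g', hg', -⟩ := normal_step hM hR.1 (le_inf hQR Subgroup.le_normalizer) inf_le_left
      inf_le_right hle
    have hlt : Q < S := lt_inf_normalizer hM hR.1.1 hQR (Ne.symm hne)
    obtain ⟨u, hu, hcu⟩ := exists_unit hM hg'
    have hSp : IsPGroup p S := hR.1.1.to_le inf_le_left
    have hSL : S ≤ Q ⊔ Subgroup.centralizer (Q : Set G) := fun s hs => by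
      refine hstab s hs.2 (hg'.2.2.2.2.1 s hs) ?_
      obtain ⟨k, hk⟩ := IsPGroup.iff_orderOf.1 hSp ⟨s, hs⟩
      exact ⟨k, by rw [← hk]; exact Subgroup.orderOf_coe (⟨s, hs⟩ : S)⟩
    have heD : Cfsg.IsDefectGroup p M e Z := by
      have hd : (Cfsg.charDegree (θ : Subgroup.centralizer (Q : Set G) → ℂ)).factorization p =
          Z.index.factorization p := degree_iff.1 (by rw [hZcard]; exact hdeg)
      have := isDefectGroup_of_full_degree hM hZp center_le θ hd
      rwa [← block_eq_blockOf hM he.2 hθe] at this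
    have huC : u ∈ Subgroup.centralizer (Q : Set G) := centralizer_le_centralizer hlt.le hu
    set E := S ⊓ Subgroup.centralizer (Q : Set G) with hE
    obtain ⟨x, hx⟩ := le_defect_of_coeff hM he.2 heD (h := ⟨u, huC⟩)
      (by rw [coeff_self]; exact hcu) (Q := E.subgroupOf (Subgroup.centralizer (Q : Set G)))
      (isPGroup_subgroupOf (hSp.to_le inf_le_left) inf_le_right)
      ((mem_centralizer_subgroupOf inf_le_right).2 (centralizer_le_centralizer inf_le_left hu))
    have hEQ : E ≤ Q := by
      intro y hy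
      have h1 := hx (show (⟨y, hy.2⟩ : Subgroup.centralizer (Q : Set G)) ∈ E.subgroupOf _ from hy)
      obtain ⟨w, hw, hwy⟩ := h1
      have hwy' := congrArg Subtype.val hwy
      simp only [MulEquiv.coe_toMonoidHom, MulAut.conj_apply, Subgroup.coe_mul,
        Subgroup.coe_inv] at hwy'
      have hwQ := (Subgroup.mem_subgroupOf.1 hw).1
      rw [← hwy', ← Subgroup.mem_centralizer_iff.1 x.2 (w : G) hwQ, mul_inv_cancel_right]
      exact hwQ
    refine hlt.not_ge fun s hs => ?_
    have hs' : s ∈ ((Q ⊔ Subgroup.centralizer (Q : Set G) : Subgroup G) : Set G) := hSL hs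
    rw [Subgroup.coe_mul_of_left_le_normalizer_right Q (Subgroup.centralizer (Q : Set G))
      (Subgroup.le_normalizer.trans (normalizer_le_normalizer_centralizer Q))] at hs'
    obtain ⟨q, hq, c, hc, hqc⟩ := hs'
    have hcS : c ∈ S := by
      have : q⁻¹ * s = c := by simp [← hqc]
      rw [← this]
      exact S.mul_mem (S.inv_mem (hlt.le hq)) hs
    rw [← hqc]
    exact Q.mul_mem hq (hEQ ⟨hcS, hc⟩)

end Cfsg.Agent.S4828
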