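import Cfsg.Statements.S4840
import Mathlib
import Cfsg.Agent.BlocksChars.GagolaSolvable
-- import your own Cfsg.Agent.* helpers here

set_option autoImplicit false
open Cfsg

namespace Cfsg.Agent.S4840

open Cfsg.Agent.BlocksChars.Gagola Cfsg.Agent.BlocksChars.GagolaSolvable

/-- Let G be a finite solvable group of order greater than 2 with an irreducible character nonzero on exactly two conjugacy classes. Then there is exactly one prime p with O_p(G) ≠ 1, and the quotient G/O_p(G) has a normal p-complement and commutative Sylow p-subgroups. -/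
theorem result {G : Type*} [Group G] [Finite G] [hs : Group.IsSolvable G] (hG : 2 < Nat.card G) (χ : Cfsg.IrrCharacter G) (hχ : Nat.card {C : ConjClasses G // ∃ g ∈ C.carrier, (χ : G → ℂ) g ≠ 0} = 2) :
    ∃ p : ℕ, p.Prime ∧ (∀ q : ℕ, q.Prime → (Cfsg.pCore q G ≠ ⊥ ↔ q = p)) ∧
      Cfsg.HasNormalPComplement p (G ⧸ Cfsg.pCore p G) ∧ ∀ Q : Sylow p (G ⧸ Cfsg.pCore p G), IsMulCommutative (Q : Subgroup (G ⧸ Cfsg.pCore p G)) := by
  obtain ⟨N, hNn, hN1, hN⟩ := exists_support_subgroup hG hχ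
  obtain ⟨p, hp, hpN, -⟩ := exists_prime_exponent hN hN1 hχ
  haveI := Fact.mk hp
  refine ⟨p, hp, fun q hq => ⟨fun hne => ?_, ?_⟩, hasNormalPComplement hN hG hχ hpN hN1⟩
  · haveI := Fact.mk hq
    by_contra hqp
    have hle := le_of_normal hN hG hχ (Cfsg.pCore q G) hne
    exact hN1 (disjoint_self.1 ((IsPGroup.disjoint_of_ne p q (Ne.symm hqp) _ _ hpN
      (Cfsg.Agent.Cores.pCore_isPGroup q)).mono le_rfl hle))
  · rintro rfl hbot
    exact hN1 (le_bot_iff.1 (hbot ▸ Cfsg.Agent.Cores.le_pCore hpN))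

end Cfsg.Agent.S4840
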