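import Cfsg.Statements.S4847
import Mathlib
import Cfsg.Agent.BlocksChars.Palfy.Main
-- import your own Cfsg.Agent.* helpers here

set_option autoImplicit false
open Cfsg

namespace Cfsg.Agent.S4847

/-- Let G be a finite solvable group and p, q, r three distinct primes each dividing the degree of some irreducible character of G. Then for some two of them the product divides the degree of some irreducible character of G (the character degree graph of a solvable group has no three pairwise non-adjacent vertices). -/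
theorem result {G : Type*} [Group G] [Finite G] [hs : Group.IsSolvable G] (p q r : ℕ) (hp : p.Prime) (hq : q.Prime) (hr : r.Prime) (hpq : p ≠ q) (hqr : q ≠ r) (hpr : p ≠ r)
    (hpd : ∃ χ : Cfsg.IrrCharacter G, p ∣ Cfsg.charDegree (χ : G → ℂ)) (hqd : ∃ χ : Cfsg.IrrCharacter G, q ∣ Cfsg.charDegree (χ : G → ℂ)) (hrd : ∃ χ : Cfsg.IrrCharacter G, r ∣ Cfsg.charDegree (χ : G → ℂ)) :
    (∃ χ : Cfsg.IrrCharacter G, p * q ∣ Cfsg.charDegree (χ : G → ℂ)) ∨ (∃ χ : Cfsg.IrrCharacter G, q * r ∣ Cfsg.charDegree (χ : G → ℂ)) ∨ (∃ χ : Cfsg.IrrCharacter G, p * r ∣ Cfsg.charDegree (χ : G → ℂ)) := by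
  by_contra hcon
  push Not at hcon
  obtain ⟨h1, h2, h3⟩ := hcon
  have key : ∀ {a b : ℕ}, a.Prime → b.Prime → a ≠ b →
      (∀ χ : Cfsg.IrrCharacter G, ¬ a * b ∣ Cfsg.charDegree (χ : G → ℂ)) →
      BlocksChars.Palfy.NoEdge G a b := fun ha hb hab h d ⟨χ, hχ⟩ hda hdb =>
    h χ (hχ ▸ ((Nat.coprime_primes ha hb).2 hab).mul_dvd_of_dvd_of_dvd hda hdb)
  obtain ⟨χp, hχp⟩ := hpd
  obtain ⟨χq, hχq⟩ := hqd
  obtain ⟨χr, hχr⟩ := hrd
  exact BlocksChars.Palfy.no_triangle (Nat.card G) G rfl hp hq hr hpq hqr hpr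
    ⟨_, ⟨χp, rfl⟩, hχp⟩ ⟨_, ⟨χq, rfl⟩, hχq⟩ ⟨_, ⟨χr, rfl⟩, hχr⟩
    (key hp hq hpq h1) (key hq hr hqr h2) (key hp hr hpr h3)

end Cfsg.Agent.S4847
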