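import Cfsg.Statements.S4997
import Cfsg.Agent.Lib.CharTheory.Primitive.Vanish

set_option linter.style.haveILetI false
set_option linter.unusedSectionVars false

set_option autoImplicit false
open Cfsg

namespace Cfsg.Agent.S4997

open Cfsg.Agent.Characters Cfsg.Agent.CharTheory Cfsg.Agent.CharTheory.Vanish
open scoped commutatorElement

universe u

theorem factorization_card_quotient {X : Type u} [Group X] [Finite X] (N : Subgroup X) [N.Normal]
    (r : ℕ) : (Nat.card X).factorization r =
      (Nat.card (X ⧸ N)).factorization r + (Nat.card N).factorization r := by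
  rw [N.card_eq_card_quotient_mul_card_subgroup,
    Nat.factorization_mul Nat.card_pos.ne' Nat.card_pos.ne', Finsupp.add_apply]

theorem exists_mk {X : Type u} [Group X] {N : Subgroup X} [N.Normal] (A : Subgroup (X ⧸ N))
    (hA : A ≠ ⊥) : ∃ g : X, (g : X ⧸ N) ∈ A ∧ g ∉ N := by
  haveI := A.nontrivial_iff_ne_bot.2 hA
  obtain ⟨⟨a, ha⟩, ha1⟩ := exists_ne (1 : A)
  obtain ⟨g, rfl⟩ := QuotientGroup.mk'_surjective N a
  exact ⟨g, ha, fun hg => ha1 (Subtype.ext ((QuotientGroup.eq_one_iff g).2 hg))⟩

/-- The centre of the `p`-core, as a subgroup. -/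
noncomputable abbrev coreCenter (X : Type u) [Group X] (p : ℕ) : Subgroup X :=
  (Subgroup.center (Cfsg.pCore p X)).map (Cfsg.pCore p X).subtype

theorem coreCenter_normal {X : Type u} [Group X] [Finite X] (p : ℕ) :
    (coreCenter X p).Normal := by
  haveI : (Cfsg.pCore p X).Normal := Cores.pCore_normal p
  exact Cores.normal_map_subtype _ _

theorem coreCenter_ne_bot {X : Type u} [Group X] [Finite X] {p : ℕ} [Fact p.Prime]
    (h : Cfsg.pCore p X ≠ ⊥) : coreCenter X p ≠ ⊥ := by
  haveI : Nontrivial (Cfsg.pCore p X) := (Subgroup.nontrivial_iff_ne_bot _).2 h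
  haveI := (Cores.pCore_isPGroup (G := X) p).center_nontrivial
  rw [ne_eq, Subgroup.map_eq_bot_iff_of_injective _ (Subgroup.subtype_injective _)]
  exact (Subgroup.nontrivial_iff_ne_bot _).1 inferInstance

theorem coreCenter_comm {X : Type u} [Group X] {p : ℕ} (a b : coreCenter X p) : a * b = b * a := by
  obtain ⟨x, hx, hxa⟩ := a.2
  obtain ⟨y, hy, hyb⟩ := b.2
  refine Subtype.ext ?_
  show (a : X) * b = b * a
  rw [← hxa, ← hyb, ← map_mul, ← map_mul, Subgroup.mem_center_iff.1 hy x]

/-- Without vanishing `p`-singular elements the Sylow `p`-subgroup is normal. -/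
theorem factorization_eq_of_none (p : ℕ) [Fact p.Prime] : ∀ (d : ℕ) (X : Type u) [Group X] [Finite X]
    [Group.IsSolvable X], Nat.card X ≤ d → (∀ x : X, ¬ VanSing X p x) →
    (Nat.card X).factorization p = (Nat.card (Cfsg.pCore p X)).factorization p := by
  intro d
  induction d with
  | zero => intro X _ _ _ hd; exact absurd hd (by have := Nat.card_pos (α := X); omega)
  | succ d ih =>
    intro X _ _ _ hd hnone
    haveI : (Cfsg.pCore p X).Normal := Cores.pCore_normal p
    suffices h : (Nat.card (X ⧸ Cfsg.pCore p X)).factorization p = 0 by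
      rw [factorization_card_quotient (Cfsg.pCore p X), h, zero_add]
    set Y := X ⧸ Cfsg.pCore p X
    have hO : Cfsg.pCore p Y = ⊥ := Cores.pCore_quotient_self p
    rcases subsingleton_or_nontrivial Y with hY | hY
    · rw [Nat.card_unique, Nat.factorization_one, Finsupp.zero_apply]
    haveI : (Cfsg.fittingSubgroup Y).Normal := inferInstance
    have hlt : Nat.card (Y ⧸ Cfsg.fittingSubgroup Y) ≤ d := by
      have h1 := (Cfsg.fittingSubgroup Y).card_eq_card_quotient_mul_card_subgroup
      have h2 := (Subgroup.one_lt_card_iff_ne_bot _).2 (fitting_ne_bot (Y := Y))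
      have h3 : 0 < Nat.card (Y ⧸ Cfsg.fittingSubgroup Y) := Nat.card_pos
      have h4 : Nat.card Y ≤ d + 1 := (Nat.card_le_card_of_surjective _
        (QuotientGroup.mk'_surjective (Cfsg.pCore p X))).trans hd
      nlinarith
    have hnoneY : ∀ y : Y, ¬ VanSing Y p y := fun y hy => by
      obtain ⟨x, rfl⟩ := QuotientGroup.mk'_surjective (Cfsg.pCore p X) y
      exact hnone x (vanSing_lift _ (QuotientGroup.mk'_surjective _) hy)
    have h := ih _ hlt fun y hy => by
      obtain ⟨x, rfl⟩ := QuotientGroup.mk'_surjective (Cfsg.fittingSubgroup Y) y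
      exact hnoneY x (vanSing_lift _ (QuotientGroup.mk'_surjective _) hy)
    have hbot : Cfsg.pCore p (Y ⧸ Cfsg.fittingSubgroup Y) = ⊥ := by
      by_contra hne
      haveI := coreCenter_normal (X := Y ⧸ Cfsg.fittingSubgroup Y) p
      obtain ⟨g, hg, hg1⟩ := exists_mk _ (coreCenter_ne_bot hne)
      exact hnoneY g (vanSing_of_abelian hO _ ((Cores.pCore_isPGroup p).to_le
        (Subgroup.map_subtype_le _)) coreCenter_comm g hg hg1)
    rw [hbot, Subgroup.card_bot, Nat.factorization_one, Finsupp.zero_apply] at h
    rw [factorization_card_quotient (Cfsg.fittingSubgroup Y), h, zero_add,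
      Nat.factorization_eq_zero_of_not_dvd (fitting_not_dvd hO)]

/-- At most one class of vanishing `p`-singular elements. -/
theorem factorization_le_of_one (p : ℕ) [Fact p.Prime] : ∀ (d : ℕ) (X : Type u) [Group X] [Finite X]
    [Group.IsSolvable X], Nat.card X ≤ d →
    (∀ x y : X, VanSing X p x → VanSing X p y → IsConj x y) →
    (Nat.card X).factorization p ≤ 1 + (Nat.card (Cfsg.pCore p X)).factorization p := by
  intro d
  induction d with
  | zero => intro X _ _ _ hd; exact absurd hd (by have := Nat.card_pos (α := X); omega)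
  | succ d ih =>
    intro X _ _ _ hd hone
    haveI : (Cfsg.pCore p X).Normal := Cores.pCore_normal p
    suffices h : (Nat.card (X ⧸ Cfsg.pCore p X)).factorization p ≤ 1 by
      rw [factorization_card_quotient (Cfsg.pCore p X)]; omega
    set Y := X ⧸ Cfsg.pCore p X
    have hO : Cfsg.pCore p Y = ⊥ := Cores.pCore_quotient_self p
    rcases subsingleton_or_nontrivial Y with hY | hY
    · rw [Nat.card_unique, Nat.factorization_one, Finsupp.zero_apply]; omega
    haveI : (Cfsg.fittingSubgroup Y).Normal := inferInstance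
    set F := Cfsg.fittingSubgroup Y with hF
    have hpF : ¬ p ∣ Nat.card F := fitting_not_dvd hO
    have hlt : Nat.card (Y ⧸ F) ≤ d := by
      have h1 := F.card_eq_card_quotient_mul_card_subgroup
      have h2 := (Subgroup.one_lt_card_iff_ne_bot _).2 (fitting_ne_bot (Y := Y))
      have h3 : 0 < Nat.card (Y ⧸ F) := Nat.card_pos
      have h4 : Nat.card Y ≤ d + 1 := (Nat.card_le_card_of_surjective _
        (QuotientGroup.mk'_surjective (Cfsg.pCore p X))).trans hd
      nlinarith
    have honeY : ∀ a b : Y, VanSing Y p a → VanSing Y p b → IsConj a b := fun a b ha hb => by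
      obtain ⟨x, rfl⟩ := QuotientGroup.mk'_surjective (Cfsg.pCore p X) a
      obtain ⟨y, rfl⟩ := QuotientGroup.mk'_surjective (Cfsg.pCore p X) b
      exact (QuotientGroup.mk' _).map_isConj (hone x y
        (vanSing_lift _ (QuotientGroup.mk'_surjective _) ha)
        (vanSing_lift _ (QuotientGroup.mk'_surjective _) hb))
    have hY : (Nat.card Y).factorization p = (Nat.card (Y ⧸ F)).factorization p := by
      rw [factorization_card_quotient F, Nat.factorization_eq_zero_of_not_dvd hpF, add_zero]
    rw [hY]
    have h := ih _ hlt fun a b ha hb => by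
      obtain ⟨x, rfl⟩ := QuotientGroup.mk'_surjective F a
      obtain ⟨y, rfl⟩ := QuotientGroup.mk'_surjective F b
      exact (QuotientGroup.mk' _).map_isConj (honeY x y
        (vanSing_lift _ (QuotientGroup.mk'_surjective _) ha)
        (vanSing_lift _ (QuotientGroup.mk'_surjective _) hb))
    set P := Cfsg.pCore p (Y ⧸ F)
    by_cases hne : P = ⊥
    · rwa [hne, Subgroup.card_bot, Nat.factorization_one, Finsupp.zero_apply, add_zero] at h
    haveI : P.Normal := Cores.pCore_normal p
    have hPp : IsPGroup p P := Cores.pCore_isPGroup p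
    set Z := coreCenter (Y ⧸ F) p with hZdef
    haveI hZn : Z.Normal := coreCenter_normal p
    have hZp : IsPGroup p Z := hPp.to_le (Subgroup.map_subtype_le _)
    set M := Z.comap (QuotientGroup.mk' F) with hM
    haveI : M.Normal := inferInstance
    have hvan : ∀ g ∈ M, g ∉ F → VanSing Y p g := fun g hg hg1 =>
      vanSing_of_abelian hO Z hZp coreCenter_comm g hg hg1
    obtain ⟨g₀, hg₀, hg₀F⟩ := exists_mk Z (coreCenter_ne_bot hne)
    have hclass : ∀ g, VanSing Y p g → g ∈ M := fun g hg => by
      obtain ⟨c, hc⟩ := isConj_iff.1 (honeY g₀ g (hvan g₀ hg₀ hg₀F) hg)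
      rw [← hc]
      exact (inferInstance : M.Normal).conj_mem g₀ hg₀ c
    -- elements of `M` outside `F` have order `p`
    have hpM : p ∣ Nat.card M :=
      ((hvan g₀ hg₀ hg₀F).1).trans (M.orderOf_dvd_natCard hg₀)
    obtain ⟨x, hx⟩ := exists_prime_orderOf_dvd_card' p hpM
    rw [← Subgroup.orderOf_coe] at hx
    have hxF : (x : Y) ∉ F := fun h => by
      have h' := F.orderOf_dvd_natCard h
      rw [hx] at h'
      exact hpF h'
    have hord : ∀ g ∈ M, g ∉ F → orderOf g = p := fun g hg hg1 => by
      obtain ⟨c, rfl⟩ := isConj_iff.1 (honeY x g (hvan x x.2 hxF) (hvan g hg hg1))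
      rw [← MulAut.conj_apply, MulEquiv.orderOf_eq, hx]
    -- a Sylow subgroup of `M` has order `p`
    obtain ⟨S₀⟩ : Nonempty (Sylow p M) := inferInstance
    set S := (S₀ : Subgroup M).map M.subtype with hS
    have hSp : IsPGroup p S := S₀.isPGroup'.map _
    have hSM : S ≤ M := Subgroup.map_subtype_le _
    have hSF : ∀ a ∈ S, a ∈ F → a = 1 := fun a ha haF => by
      obtain ⟨k, hk⟩ := hSp ⟨a, ha⟩
      have h1 := pow_gcd_eq_one.2 ⟨(congrArg Subtype.val hk :),
        orderOf_dvd_iff_pow_eq_one.1 (F.orderOf_dvd_natCard haF)⟩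
      rwa [show Nat.gcd (p ^ k) (Nat.card F) = 1 from
        ((Fact.out : p.Prime).coprime_iff_not_dvd.2 hpF).pow_left k, pow_one] at h1
    haveI : IsMulCommutative S := ⟨⟨fun a b => by
      have hc : ((⁅(a : Y), (b : Y)⁆ : Y) : Y ⧸ F) = 1 := by
        show QuotientGroup.mk' F ⁅(a : Y), (b : Y)⁆ = 1
        rw [map_commutatorElement, commutatorElement_eq_one_iff_mul_comm]
        exact congrArg Subtype.val (coreCenter_comm (⟨_, hSM a.2⟩ : Z) ⟨_, hSM b.2⟩)
      refine Subtype.ext (commutatorElement_eq_one_iff_mul_comm.1 (hSF _ ?_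
        ((QuotientGroup.eq_one_iff _).1 hc)))
      exact Subtype.prop ⁅a, b⁆⟩⟩
    have hcyc : IsCyclic S := by
      refine Coprime.fpf_isCyclic_of_abelian (K := F) (le_top.trans
        (Subgroup.normalizer_eq_top_iff.2 inferInstance).ge) (fun a ha ha1 => ?_)
        (fitting_ne_bot (Y := Y))
      rw [Subgroup.eq_bot_iff_forall]
      rintro f ⟨hfF, hfa⟩
      have haF : a ∉ F := fun h => ha1 (hSF a ha h)
      have haf : a * f ∉ F := fun h => haF (by simpa using mul_mem h (inv_mem hfF))
      have hFM : F ≤ M := fun y hy => by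
        rw [hM, Subgroup.mem_comap, QuotientGroup.mk'_apply, (QuotientGroup.eq_one_iff y).2 hy]
        exact one_mem _
      have h1 := hord (a * f) (mul_mem (hSM ha) (hFM hfF)) haf
      have hcomm : Commute a f := (Subgroup.mem_centralizer_singleton_iff.1 hfa).symm
      have h2 : f ^ p = 1 := by
        have h3 := pow_orderOf_eq_one (a * f)
        rwa [h1, hcomm.mul_pow,
          show a ^ p = 1 from (congrArg (a ^ ·) (hord a (hSM ha) haF)).symm.trans
            (pow_orderOf_eq_one a), one_mul] at h3
      have h4 := pow_gcd_eq_one.2 ⟨h2, orderOf_dvd_iff_pow_eq_one.1 (F.orderOf_dvd_natCard hfF)⟩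
      rwa [show Nat.gcd p (Nat.card F) = 1 from
        (Fact.out : p.Prime).coprime_iff_not_dvd.2 hpF, pow_one] at h4
    have hSle : Nat.card S ≤ p := by
      obtain ⟨s, hs⟩ := hcyc.exists_generator
      rw [← orderOf_eq_card_of_forall_mem_zpowers hs, ← Subgroup.orderOf_coe]
      by_cases hsF : (s : Y) ∈ F
      · rw [hSF _ s.2 hsF, orderOf_one]
        exact (Fact.out : p.Prime).one_lt.le
      · exact (hord _ (hSM s.2) hsF).le
    -- so the centre has order `p`
    have hMc : Nat.card M = Nat.card Z * Nat.card F := by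
      have h1 : F.relIndex M = Nat.card Z := by
        rw [← Subgroup.relIndex_bot_left, ← QuotientGroup.map_mk'_self F,
          ← Subgroup.map_comap_eq_self_of_surjective (QuotientGroup.mk'_surjective F) Z, ← hM,
          Subgroup.relIndex_map_map, QuotientGroup.ker_mk', sup_idem,
          sup_eq_left.2 (fun y hy => by
            rw [hM, Subgroup.mem_comap, QuotientGroup.mk'_apply, (QuotientGroup.eq_one_iff y).2 hy]
            exact one_mem _)]
      have h2 := (F.subgroupOf M).card_mul_index
      rw [Nat.card_congr (Subgroup.subgroupOfEquivOfLe (show F ≤ M from fun y hy => by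
        rw [hM, Subgroup.mem_comap, QuotientGroup.mk'_apply, (QuotientGroup.eq_one_iff y).2 hy]
        exact one_mem _)).toEquiv] at h2
      rw [← h2, mul_comm]
      congr 1
    have hZc : Nat.card Z = p := by
      obtain ⟨k, hk⟩ := IsPGroup.iff_card.1 hZp
      have h1 : (Nat.card M).factorization p = k := by
        rw [hMc, Nat.factorization_mul Nat.card_pos.ne' Nat.card_pos.ne', Finsupp.add_apply, hk,
          Nat.factorization_eq_zero_of_not_dvd hpF, add_zero,
          Nat.Prime.factorization_pow Fact.out, Finsupp.single_eq_same]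
      have h2 : Nat.card S = p ^ k := by
        rw [hS, Subgroup.card_map_of_injective M.subtype_injective, S₀.card_eq_multiplicity, h1]
      rw [h2] at hSle
      have hk1 : k ≤ 1 := (Nat.pow_le_pow_iff_right (Fact.out : p.Prime).one_lt).1
        (hSle.trans_eq (pow_one p).symm)
      have hk0 : k ≠ 0 := fun h0 => coreCenter_ne_bot hne
        (Subgroup.card_eq_one.1 (by rw [hk, h0, pow_zero]))
      rw [hk, show k = 1 by omega, pow_one]
    -- the core is abelian
    haveI : Group.IsNilpotent P := hPp.isNilpotent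
    have hcl : commutator P ≤ Subgroup.center P := commutator_le_center_of_char fun A hA hab => by
      haveI := hA
      haveI : (A.map P.subtype).Normal := Cores.normal_map_subtype P A
      intro a ha
      by_cases ha1 : a = 1
      · exact ha1 ▸ one_mem _
      obtain ⟨g, hg⟩ := QuotientGroup.mk'_surjective F (a : Y ⧸ F)
      have hgF : g ∉ F := fun h => ha1 (Subtype.ext (hg.symm.trans ((QuotientGroup.eq_one_iff g).2 h)))
      have hgA : (g : Y ⧸ F) ∈ A.map P.subtype := by
        rw [show (g : Y ⧸ F) = a from hg]; exact ⟨a, ha, rfl⟩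
      have hmem := hclass g (vanSing_of_abelian hO (A.map P.subtype)
        (hPp.to_le (Subgroup.map_subtype_le _)) (fun u v => by
          obtain ⟨u', hu', hu⟩ := u.2
          obtain ⟨v', hv', hv⟩ := v.2
          refine Subtype.ext ?_
          show (u : Y ⧸ F) * v = v * u
          rw [← hu, ← hv, ← map_mul, ← map_mul, hab u' hu' v' hv']) g hgA hgF)
      obtain ⟨z, hz, hza⟩ := (show (a : Y ⧸ F) ∈ Z from hg ▸ hmem)
      exact (Subtype.ext hza : z = a) ▸ hz
    have hcard : Nat.card (Subgroup.center P) = p :=
      (Subgroup.card_map_of_injective P.subtype_injective).symm.trans hZc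
    have hPZ : P = Z := by
      refine le_antisymm (fun y hy => ?_) (Subgroup.map_subtype_le _)
      by_contra hyZ
      obtain ⟨g, hg⟩ := QuotientGroup.mk'_surjective F y
      have hgF : g ∉ F := fun h => hyZ (by
        rw [show y = 1 from hg.symm.trans ((QuotientGroup.eq_one_iff g).2 h)]; exact one_mem _)
      obtain ⟨χ, hχ⟩ := exists_zero_of_prime_center P hcl hcard ⟨y, hy⟩
        (fun h => hyZ ⟨_, h, rfl⟩)
      have hord' : p ∣ orderOf y := by
        obtain ⟨k, hk⟩ := IsPGroup.iff_orderOf.1 hPp ⟨y, hy⟩
        rw [Subgroup.orderOf_mk] at hk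
        rw [hk]
        refine dvd_pow_self p fun h0 => hyZ ?_
        rw [h0, pow_zero, orderOf_eq_one_iff] at hk
        exact hk ▸ one_mem _
      have := hclass g (vanSing_lift _ (QuotientGroup.mk'_surjective F)
        (show VanSing (Y ⧸ F) p (QuotientGroup.mk' F g) from hg ▸ ⟨hord', χ, hχ⟩))
      exact hyZ (hg ▸ this)
    -- above the centre nothing vanishes
    have hW := factorization_eq_of_none p _ ((Y ⧸ F) ⧸ Z) le_rfl fun w hw => by
      obtain ⟨y, rfl⟩ := QuotientGroup.mk'_surjective Z w
      obtain ⟨g, rfl⟩ := QuotientGroup.mk'_surjective F y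
      have h1 := hclass g (vanSing_lift _ (QuotientGroup.mk'_surjective F)
        (vanSing_lift _ (QuotientGroup.mk'_surjective Z) hw))
      have h2 : QuotientGroup.mk' Z (QuotientGroup.mk' F g) = 1 := (QuotientGroup.eq_one_iff _).2 h1
      have h3 := hw.1
      rw [h2, orderOf_one] at h3
      exact (Fact.out : p.Prime).not_dvd_one h3
    rw [← Cores.map_mk'_pCore Z hZp, show Cfsg.pCore p (Y ⧸ F) = Z from hPZ,
      QuotientGroup.map_mk'_self, Subgroup.card_bot, Nat.factorization_one, Finsupp.zero_apply] at hW
    rw [factorization_card_quotient Z, hW, hZc, zero_add, (Fact.out : p.Prime).factorization_self]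


/-- Let p be an odd prime and G a finite solvable group with exactly one conjugacy class consisting of vanishing elements (elements at which some irreducible complex character is zero) of order divisible by p. Let P be a Sylow p-subgroup of G. Then the order of P is at most p times the order of the largest normal p-subgroup of G. -/
theorem result {G : Type*} [Group G] [Finite G] (hsolv : Group.IsSolvable G) (p : ℕ) [Fact p.Prime] (hp : p ≠ 2) (h1 : Set.ncard {C : ConjClasses G | (∀ g ∈ C.carrier, ∃ χ : Cfsg.IrrCharacter G, (χ : G → ℂ) g = 0) ∧ ∃ g ∈ C.carrier, p ∣ orderOf g} = 1) (P : Sylow p G) : Nat.card ↥(P : Subgroup G) ≤ p * Nat.card ↥(Cfsg.pCore p G) := by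
  classical
  haveI := hsolv
  obtain ⟨C, hC⟩ := Set.ncard_eq_one.1 h1
  have hone : ∀ x y : G, VanSing G p x → VanSing G p y → IsConj x y := by
    intro x y hx hy
    have key : ∀ z, VanSing G p z → ConjClasses.mk z = C := by
      intro z hz
      have hmem : ConjClasses.mk z ∈ ({C} : Set (ConjClasses G)) := hC ▸
        ⟨fun g hg => ⟨hz.2.choose, by
          have hg' : IsConj z g :=
            ConjClasses.mk_eq_mk_iff_isConj.1 (ConjClasses.mem_carrier_iff_mk_eq.1 hg).symm
          obtain ⟨c, rfl⟩ := isConj_iff.1 hg'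
          rw [char_isClassFunction (irr_isCharacter hz.2.choose) z c]
          exact hz.2.choose_spec⟩, z, ConjClasses.mem_carrier_mk, hz.1⟩
      exact hmem
    exact ConjClasses.mk_eq_mk_iff_isConj.1 ((key x hx).trans (key y hy).symm)
  have h := factorization_le_of_one p _ G le_rfl hone
  obtain ⟨k, hk⟩ := IsPGroup.iff_card.1 (Cores.pCore_isPGroup (G := G) p)
  rw [hk, Nat.Prime.factorization_pow Fact.out, Finsupp.single_eq_same] at h
  rw [P.card_eq_multiplicity, hk, ← pow_succ']
  exact Nat.pow_le_pow_right (Fact.out : p.Prime).pos (by omega)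

end Cfsg.Agent.S4997
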