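import Cfsg.Statements.S4850
import Cfsg.Agent.Lib.CharTheory.Primitive.Vanish
import Cfsg.Agent.Lib.Characters.Galois
import Cfsg.Agent.Lib.Cores.Nilpotent
import Cfsg.Agent.S4997

set_option linter.style.haveILetI false
set_option linter.unusedSectionVars false

set_option autoImplicit false
open Cfsg

namespace Cfsg.Agent.S4850

open Cfsg.Agent.Characters Cfsg.Agent.CharTheory Cfsg.Agent.CharTheory.Vanish
open Cfsg.Agent.S4997 (factorization_card_quotient exists_mk coreCenter coreCenter_normal
  coreCenter_ne_bot coreCenter_comm)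
open scoped commutatorElement

universe u

variable {p : ℕ} [Fact p.Prime]

/-- `p`-elements. -/
def PElt {X : Type u} [Group X] (p : ℕ) (x : X) : Prop := ∃ k : ℕ, x ^ p ^ k = 1

/-- Every `p`-singular zero is a `p`-element whose `p`-th power is not one. -/
def Good (X : Type u) [Group X] (p : ℕ) : Prop :=
  (∀ x : X, VanSing X p x → PElt p x) ∧ ∀ x : X, VanSing X p x → ¬ VanSing X p (x ^ p)

theorem pElt_map {X Y : Type u} [Group X] [Group Y] (f : X →* Y) {x : X} (h : PElt p x) :
    PElt p (f x) := by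
  obtain ⟨k, hk⟩ := h
  exact ⟨k, by rw [← map_pow, hk, map_one]⟩

theorem good_map {X Y : Type u} [Group X] [Group Y] [Finite X] [Finite Y] (f : X →* Y)
    (hf : Function.Surjective f) (h : Good X p) : Good Y p := by
  constructor
  · intro y hy
    obtain ⟨x, rfl⟩ := hf y
    exact pElt_map f (h.1 x (vanSing_lift f hf hy))
  · intro y hy hyp
    obtain ⟨x, rfl⟩ := hf y
    exact h.2 x (vanSing_lift f hf hy) (vanSing_lift f hf (by rwa [map_pow]))

theorem exists_pElt_lift {X Y : Type u} [Group X] [Group Y] [Finite X] (f : X →* Y)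
    (hf : Function.Surjective f) {y : Y} (hy : PElt p y) : ∃ x, f x = y ∧ PElt p x := by
  obtain ⟨g, rfl⟩ := hf y
  obtain ⟨k, hk⟩ := hy
  set m := orderOf g
  obtain ⟨a, t, ht, hm⟩ := Nat.exists_eq_pow_mul_and_not_dvd (orderOf_pos g).ne' p
    (Fact.out : p.Prime).ne_one
  have hcop : (p ^ k).Coprime t :=
    ((Fact.out : p.Prime).coprime_iff_not_dvd.2 ht).pow_left k
  obtain ⟨n, hn1, hn0⟩ := Nat.chineseRemainder hcop 1 0
  refine ⟨g ^ n, ?_, a, ?_⟩
  · rw [map_pow, pow_eq_pow_mod n hk, show n % p ^ k = 1 % p ^ k from hn1,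
      ← pow_eq_pow_mod 1 hk, pow_one]
  · obtain ⟨c, hc⟩ := Nat.modEq_zero_iff_dvd.1 hn0
    rw [← pow_mul, hc, show t * c * p ^ a = p ^ a * t * c by ring, pow_mul, ← hm, pow_orderOf_eq_one,
      one_pow]

theorem pElt_of_isPGroup {X : Type u} [Group X] {A : Subgroup X} (hA : IsPGroup p A) {a : X}
    (ha : a ∈ A) : PElt p a := by
  obtain ⟨k, hk⟩ := hA ⟨a, ha⟩
  exact ⟨k, congrArg Subtype.val hk⟩

theorem eq_one_of_pElt_of_mem {X : Type u} [Group X] [Finite X] {N : Subgroup X}
    (hN : ¬ p ∣ Nat.card N) {x : X} (hx : PElt p x) (hxN : x ∈ N) : x = 1 := by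
  obtain ⟨k, hk⟩ := hx
  have h := pow_gcd_eq_one.2 ⟨hk, orderOf_dvd_iff_pow_eq_one.1 (N.orderOf_dvd_natCard hxN)⟩
  rwa [show Nat.gcd (p ^ k) (Nat.card N) = 1 from
    ((Fact.out : p.Prime).coprime_iff_not_dvd.2 hN).pow_left k, pow_one] at h

/-- Without vanishing `p`-elements the Sylow `p`-subgroup is normal. -/
theorem factorization_eq_of_none (p : ℕ) [Fact p.Prime] : ∀ (d : ℕ) (X : Type u) [Group X] [Finite X]
    [Group.IsSolvable X], Nat.card X ≤ d → (∀ x : X, PElt p x → ¬ VanSing X p x) →
    (Nat.card X).factorization p = (Nat.card (Cfsg.pCore p X)).factorization p := by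
  intro d
  induction d with
  | zero => intro X _ _ _ hd; exact absurd hd (by have := Nat.card_pos (α := X); omega)
  | succ d ih =>
    intro X _ _ _ hd hnone
    haveI : (Cfsg.pCore p X).Normal := Cores.pCore_normal p
    suffices h : (Nat.card (X ⧸ Cfsg.pCore p X)).factorization p = 0 by
      rw [factorization_card_quotient (Cfsg.pCore p X), h, zero_add]
    set Y := X ⧸ Cfsg.pCore p X
    have hO : Cfsg.pCore p Y = ⊥ := Cores.pCore_quotient_self p
    rcases subsingleton_or_nontrivial Y with hY | hY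
    · rw [Nat.card_unique, Nat.factorization_one, Finsupp.zero_apply]
    haveI : (Cfsg.fittingSubgroup Y).Normal := inferInstance
    have hlt : Nat.card (Y ⧸ Cfsg.fittingSubgroup Y) ≤ d := by
      have h1 := (Cfsg.fittingSubgroup Y).card_eq_card_quotient_mul_card_subgroup
      have h2 := (Subgroup.one_lt_card_iff_ne_bot _).2 (fitting_ne_bot (Y := Y))
      have h3 : 0 < Nat.card (Y ⧸ Cfsg.fittingSubgroup Y) := Nat.card_pos
      have h4 : Nat.card Y ≤ d + 1 := (Nat.card_le_card_of_surjective _
        (QuotientGroup.mk'_surjective (Cfsg.pCore p X))).trans hd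
      nlinarith
    have hnoneY : ∀ y : Y, PElt p y → ¬ VanSing Y p y := fun y hpy hy => by
      obtain ⟨x, rfl, hx⟩ := exists_pElt_lift (QuotientGroup.mk' (Cfsg.pCore p X))
        (QuotientGroup.mk'_surjective _) hpy
      exact hnone x hx (vanSing_lift _ (QuotientGroup.mk'_surjective _) hy)
    have h := ih _ hlt fun y hpy hy => by
      obtain ⟨x, rfl, hx⟩ := exists_pElt_lift (QuotientGroup.mk' (Cfsg.fittingSubgroup Y))
        (QuotientGroup.mk'_surjective _) hpy
      exact hnoneY x hx (vanSing_lift _ (QuotientGroup.mk'_surjective _) hy)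
    have hbot : Cfsg.pCore p (Y ⧸ Cfsg.fittingSubgroup Y) = ⊥ := by
      by_contra hne
      haveI := coreCenter_normal (X := Y ⧸ Cfsg.fittingSubgroup Y) p
      have hZp : IsPGroup p (coreCenter (Y ⧸ Cfsg.fittingSubgroup Y) p) :=
        (Cores.pCore_isPGroup p).to_le (Subgroup.map_subtype_le _)
      obtain ⟨g₀, hg₀, hg₀1⟩ := exists_mk _ (coreCenter_ne_bot hne)
      obtain ⟨g, hg, hgp⟩ := exists_pElt_lift (QuotientGroup.mk' (Cfsg.fittingSubgroup Y))
        (QuotientGroup.mk'_surjective _) (pElt_of_isPGroup hZp hg₀)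
      refine hnoneY g hgp (vanSing_of_abelian hO _ hZp coreCenter_comm g (?_) ?_)
      · exact (show (g : Y ⧸ Cfsg.fittingSubgroup Y) = g₀ from hg).symm ▸ hg₀
      · intro h
        refine hg₀1 ((QuotientGroup.eq_one_iff g₀).1 ?_)
        rw [← show (g : Y ⧸ Cfsg.fittingSubgroup Y) = g₀ from hg]
        exact (QuotientGroup.eq_one_iff g).2 h
    rw [hbot, Subgroup.card_bot, Nat.factorization_one, Finsupp.zero_apply] at h
    rw [factorization_card_quotient (Cfsg.fittingSubgroup Y), h, zero_add,
      Nat.factorization_eq_zero_of_not_dvd (fitting_not_dvd hO)]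

/-- An abelian `p`-section above the Fitting subgroup consisting of zeros has order at most `p`. -/
theorem card_le_of_all_van {Y : Type u} [Group Y] [Finite Y] [Nontrivial Y] [Group.IsSolvable Y]
    [(Cfsg.fittingSubgroup Y).Normal] (hgood : Good Y p) (hO : Cfsg.pCore p Y = ⊥)
    (B : Subgroup (Y ⧸ Cfsg.fittingSubgroup Y)) (hB : IsPGroup p B)
    (hab : ∀ a b : B, a * b = b * a)
    (hvan : ∀ g : Y, (g : Y ⧸ Cfsg.fittingSubgroup Y) ∈ B → g ∉ Cfsg.fittingSubgroup Y →
      VanSing Y p g) : Nat.card B ≤ p := by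
  classical
  set F := Cfsg.fittingSubgroup Y with hF
  have hpF : ¬ p ∣ Nat.card F := fitting_not_dvd hO
  set M := B.comap (QuotientGroup.mk' F) with hM
  have hFM : F ≤ M := fun y hy => by
    rw [hM, Subgroup.mem_comap, QuotientGroup.mk'_apply, (QuotientGroup.eq_one_iff y).2 hy]
    exact one_mem _
  have hord : ∀ g ∈ M, g ∉ F → g ^ p = 1 := fun g hg hg1 => by
    have hv := hvan g hg hg1
    have hgF : g ^ p ∈ F := by
      by_contra h
      exact hgood.2 g hv (hvan _ (pow_mem hg p) h)
    obtain ⟨k, hk⟩ := hgood.1 g hv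
    exact eq_one_of_pElt_of_mem hpF ⟨k, by rw [← pow_mul, mul_comm, pow_mul, hk, one_pow]⟩ hgF
  obtain ⟨S₀⟩ : Nonempty (Sylow p M) := inferInstance
  set S := (S₀ : Subgroup M).map M.subtype with hS
  have hSp : IsPGroup p S := S₀.isPGroup'.map _
  have hSM : S ≤ M := Subgroup.map_subtype_le _
  have hSF : ∀ a ∈ S, a ∈ F → a = 1 := fun a ha haF =>
    eq_one_of_pElt_of_mem hpF (pElt_of_isPGroup hSp ha) haF
  haveI : IsMulCommutative S := ⟨⟨fun a b => by
    have hc : ((⁅(a : Y), (b : Y)⁆ : Y) : Y ⧸ F) = 1 := by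
      show QuotientGroup.mk' F ⁅(a : Y), (b : Y)⁆ = 1
      rw [map_commutatorElement, commutatorElement_eq_one_iff_mul_comm]
      exact congrArg Subtype.val (hab (⟨_, hSM a.2⟩ : B) ⟨_, hSM b.2⟩)
    refine Subtype.ext (commutatorElement_eq_one_iff_mul_comm.1 (hSF _ ?_
      ((QuotientGroup.eq_one_iff _).1 hc)))
    exact Subtype.prop ⁅a, b⁆⟩⟩
  have hcyc : IsCyclic S := by
    refine Coprime.fpf_isCyclic_of_abelian (K := F) (le_top.trans
      (Subgroup.normalizer_eq_top_iff.2 inferInstance).ge) (fun a ha ha1 => ?_)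
      (fitting_ne_bot (Y := Y))
    rw [Subgroup.eq_bot_iff_forall]
    rintro f ⟨hfF, hfa⟩
    have haF : a ∉ F := fun h => ha1 (hSF a ha h)
    have haf : a * f ∉ F := fun h => haF (by simpa using mul_mem h (inv_mem hfF))
    have h1 := hord (a * f) (mul_mem (hSM ha) (hFM hfF)) haf
    have hcomm : Commute a f := (Subgroup.mem_centralizer_singleton_iff.1 hfa).symm
    rw [hcomm.mul_pow, hord a (hSM ha) haF, one_mul] at h1
    exact eq_one_of_pElt_of_mem hpF ⟨1, by rwa [pow_one]⟩ hfF
  have hSle : Nat.card S ≤ p := by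
    obtain ⟨s, hs⟩ := hcyc.exists_generator
    rw [← orderOf_eq_card_of_forall_mem_zpowers hs, ← Subgroup.orderOf_coe]
    refine Nat.le_of_dvd (Fact.out : p.Prime).pos (orderOf_dvd_of_pow_eq_one ?_)
    by_cases hsF : (s : Y) ∈ F
    · rw [hSF _ s.2 hsF, one_pow]
    · exact hord _ (hSM s.2) hsF
  -- `B` is the image of `S`
  have hBS : B ≤ S.map (QuotientGroup.mk' F) := by
    intro b hb
    obtain ⟨g₀, rfl⟩ := QuotientGroup.mk'_surjective F b
    obtain ⟨g, hg, hgp⟩ := exists_pElt_lift (QuotientGroup.mk' F)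
      (QuotientGroup.mk'_surjective F) (pElt_of_isPGroup hB hb)
    have hgM : g ∈ M := by rw [hM, Subgroup.mem_comap, hg]; exact hb
    obtain ⟨k, hk⟩ := hgp
    have hzp : IsPGroup p (Subgroup.zpowers (⟨g, hgM⟩ : M)) := by
      obtain ⟨i, -, hi⟩ := (Nat.dvd_prime_pow Fact.out).1 (orderOf_dvd_of_pow_eq_one hk)
      exact IsPGroup.of_card (n := i) (by rw [Nat.card_zpowers, Subgroup.orderOf_mk, hi])
    obtain ⟨S₁, hS₁⟩ := hzp.exists_le_sylow
    obtain ⟨m, hm⟩ := MulAction.exists_smul_eq M S₁ S₀
    refine ⟨(m : Y) * g * (m : Y)⁻¹, ⟨m * ⟨g, hgM⟩ * m⁻¹, ?_, rfl⟩, ?_⟩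
    · rw [← hm]
      exact ⟨⟨g, hgM⟩, hS₁ (Subgroup.mem_zpowers _), rfl⟩
    · rw [map_mul, map_mul, map_inv, hg]
      have := congrArg Subtype.val (hab (⟨_, m.2⟩ : B) ⟨_, hb⟩)
      rw [show QuotientGroup.mk' F (m : Y) * QuotientGroup.mk' F g₀ =
        QuotientGroup.mk' F g₀ * QuotientGroup.mk' F (m : Y) from this, mul_inv_cancel_right]
  exact ((Subgroup.card_le_of_le hBS).trans
    (Nat.le_of_dvd Nat.card_pos (Subgroup.card_map_dvd _ _))).trans hSle

theorem zero_pow_coprime {X : Type u} [Group X] [Finite X] (χ : Cfsg.IrrCharacter X) {x : X}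
    (h : (χ : X → ℂ) x = 0) {m : ℕ} (hm : m.Coprime (orderOf x)) : (χ : X → ℂ) (x ^ m) = 0 := by
  obtain ⟨n, σ, _, hσ⟩ := χ.2
  have hM : 0 < orderOf x := orderOf_pos x
  have hζ := Complex.isPrimitiveRoot_exp (orderOf x) hM.ne'
  obtain ⟨P, hP⟩ := exists_poly_values σ x hM (pow_orderOf_eq_one x) hζ
  have h1 := hP 1
  rw [pow_one, pow_one, hσ, h] at h1
  have h2 := aeval_eq_rat_of_primitive hM hζ (hζ.pow_of_coprime m hm) P (q := 0)
    (by rw [← h1]; simp)
  rw [← hσ, hP, h2, Rat.cast_zero]

/-- The Sylow `p`-subgroups have order at most `p` modulo the core. -/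
theorem factorization_le_of_good (p : ℕ) [Fact p.Prime] : ∀ (d : ℕ) (X : Type u) [Group X] [Finite X]
    [Group.IsSolvable X], Nat.card X ≤ d → Good X p →
    (Nat.card X).factorization p ≤ 1 + (Nat.card (Cfsg.pCore p X)).factorization p := by
  intro d
  induction d with
  | zero => intro X _ _ _ hd; exact absurd hd (by have := Nat.card_pos (α := X); omega)
  | succ d ih =>
    intro X _ _ _ hd hgood
    haveI : (Cfsg.pCore p X).Normal := Cores.pCore_normal p
    suffices h : (Nat.card (X ⧸ Cfsg.pCore p X)).factorization p ≤ 1 by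
      rw [factorization_card_quotient (Cfsg.pCore p X)]; omega
    set Y := X ⧸ Cfsg.pCore p X
    have hO : Cfsg.pCore p Y = ⊥ := Cores.pCore_quotient_self p
    rcases subsingleton_or_nontrivial Y with hY | hY
    · rw [Nat.card_unique, Nat.factorization_one, Finsupp.zero_apply]; omega
    haveI : (Cfsg.fittingSubgroup Y).Normal := inferInstance
    set F := Cfsg.fittingSubgroup Y with hF
    have hpF : ¬ p ∣ Nat.card F := fitting_not_dvd hO
    have hltY : Nat.card Y ≤ d + 1 := (Nat.card_le_card_of_surjective _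
        (QuotientGroup.mk'_surjective (Cfsg.pCore p X))).trans hd
    have hlt : Nat.card (Y ⧸ F) ≤ d := by
      have h1 := F.card_eq_card_quotient_mul_card_subgroup
      have h2 := (Subgroup.one_lt_card_iff_ne_bot _).2 (fitting_ne_bot (Y := Y))
      have h3 : 0 < Nat.card (Y ⧸ F) := Nat.card_pos
      nlinarith
    have hgY : Good Y p := good_map _ (QuotientGroup.mk'_surjective (Cfsg.pCore p X)) hgood
    have hgYF : Good (Y ⧸ F) p := good_map _ (QuotientGroup.mk'_surjective F) hgY
    rw [factorization_card_quotient F, Nat.factorization_eq_zero_of_not_dvd hpF, add_zero]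
    have h := ih _ hlt hgYF
    set P := Cfsg.pCore p (Y ⧸ F)
    by_cases hne : P = ⊥
    · rwa [hne, Subgroup.card_bot, Nat.factorization_one, Finsupp.zero_apply, add_zero] at h
    haveI : P.Normal := Cores.pCore_normal p
    have hPp : IsPGroup p P := Cores.pCore_isPGroup p
    set Z := coreCenter (Y ⧸ F) p with hZdef
    haveI hZn : Z.Normal := coreCenter_normal p
    have hZp : IsPGroup p Z := hPp.to_le (Subgroup.map_subtype_le _)
    have hvanZ : ∀ g : Y, (g : Y ⧸ F) ∈ Z → g ∉ F → VanSing Y p g := fun g hg hg1 =>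
      vanSing_of_abelian hO Z hZp coreCenter_comm g hg hg1
    have hZc : Nat.card Z = p := by
      obtain ⟨k, hk⟩ := IsPGroup.iff_card.1 hZp
      have h1 := card_le_of_all_van hgY hO Z hZp coreCenter_comm hvanZ
      rw [hk] at h1 ⊢
      have hk1 : k ≤ 1 := (Nat.pow_le_pow_iff_right (Fact.out : p.Prime).one_lt).1
        (h1.trans_eq (pow_one p).symm)
      have hk0 : k ≠ 0 := fun h0 => coreCenter_ne_bot hne
        (Subgroup.card_eq_one.1 (by rw [hk, h0, pow_zero]))
      rw [show k = 1 by omega, pow_one]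
    -- an abelian section of zeros containing the centre is the centre
    have heqZ : ∀ B : Subgroup (Y ⧸ F), Z ≤ B → IsPGroup p B → (∀ a b : B, a * b = b * a) →
        (∀ g : Y, (g : Y ⧸ F) ∈ B → g ∉ F → VanSing Y p g) → B ≤ Z := fun B hZB hB hab hv =>
      (Subgroup.eq_of_le_of_card_ge hZB (hZc.symm ▸ card_le_of_all_van hgY hO B hB hab hv)).ge
    haveI : Group.IsNilpotent P := hPp.isNilpotent
    have hcl : commutator P ≤ Subgroup.center P := commutator_le_center_of_char fun A hA hab => by
      haveI := hA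
      set B := (A ⊔ Subgroup.center P).map P.subtype with hB
      haveI : B.Normal := Cores.normal_map_subtype P _
      have hcomm : ∀ u ∈ A ⊔ Subgroup.center P, ∀ v ∈ A ⊔ Subgroup.center P, u * v = v * u := by
        intro u hu v hv
        have h1 : ∀ w ∈ A ⊔ Subgroup.center P, ∀ a ∈ A, w * a = a * w := fun w hw a ha =>
          Subgroup.mem_centralizer_singleton_iff.1 ((sup_le (fun b hb =>
            Subgroup.mem_centralizer_singleton_iff.2 (hab b hb a ha))
            (Subgroup.center_le_centralizer _) : A ⊔ Subgroup.center P ≤ Subgroup.centralizer {a}) hw)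
        exact Subgroup.mem_centralizer_singleton_iff.1 ((sup_le (fun b hb =>
          Subgroup.mem_centralizer_singleton_iff.2 (h1 v hv b hb).symm)
          (Subgroup.center_le_centralizer _) : A ⊔ Subgroup.center P ≤ Subgroup.centralizer {v}) hu)
      have hab' : ∀ a b : B, a * b = b * a := fun a b => by
        obtain ⟨u, hu, hua⟩ := a.2
        obtain ⟨v, hv, hvb⟩ := b.2
        refine Subtype.ext ?_
        show (a : Y ⧸ F) * b = b * a
        rw [← hua, ← hvb, ← map_mul, ← map_mul, hcomm u hu v hv]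
      have hBp : IsPGroup p B := hPp.to_le (Subgroup.map_subtype_le _)
      have h1 := heqZ B (Subgroup.map_mono le_sup_right) hBp hab'
        (fun g hg hg1 => vanSing_of_abelian hO B hBp hab' g hg hg1)
      intro a ha
      obtain ⟨z, hz, hza⟩ := h1 (Subgroup.mem_map_of_mem P.subtype (Subgroup.mem_sup_left ha))
      exact P.subtype_injective hza ▸ hz
    have hcard : Nat.card (Subgroup.center P) = p :=
      (Subgroup.card_map_of_injective P.subtype_injective).symm.trans hZc
    have hPZ : P = Z := by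
      refine le_antisymm (fun y hy => ?_) (Subgroup.map_subtype_le _)
      set B := (Subgroup.zpowers (⟨y, hy⟩ : P) ⊔ Subgroup.center P).map P.subtype with hB
      refine heqZ B (Subgroup.map_mono le_sup_right) (hPp.to_le (Subgroup.map_subtype_le _))
        (fun a b => ?_) (fun g hg hg1 => ?_)
        (Subgroup.mem_map_of_mem P.subtype (Subgroup.mem_sup_left
          (Subgroup.mem_zpowers (⟨y, hy⟩ : P))))
      · obtain ⟨u, hu, hua⟩ := a.2
        obtain ⟨v, hv, hvb⟩ := b.2
        have h1 : Subgroup.zpowers (⟨y, hy⟩ : P) ⊔ Subgroup.center P ≤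
            Subgroup.centralizer {(⟨y, hy⟩ : P)} := sup_le
          (Subgroup.zpowers_le.2 (Subgroup.mem_centralizer_singleton_iff.2 rfl))
          (Subgroup.center_le_centralizer _)
        have h2 : Subgroup.zpowers (⟨y, hy⟩ : P) ⊔ Subgroup.center P ≤
            Subgroup.centralizer {v} := sup_le
          (Subgroup.zpowers_le.2 (Subgroup.mem_centralizer_singleton_iff.2
            (Subgroup.mem_centralizer_singleton_iff.1 (h1 hv)).symm))
          (Subgroup.center_le_centralizer _)
        refine Subtype.ext ?_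
        show (a : Y ⧸ F) * b = b * a
        rw [← hua, ← hvb, ← map_mul, ← map_mul, Subgroup.mem_centralizer_singleton_iff.1 (h2 hu)]
      · by_cases hgZ : (g : Y ⧸ F) ∈ Z
        · exact hvanZ g hgZ hg1
        obtain ⟨u, hu, hug⟩ := hg
        obtain ⟨χ, hχ⟩ := exists_zero_of_prime_center P hcl hcard u
          (fun h => hgZ (hug ▸ Subgroup.mem_map_of_mem P.subtype h))
        refine vanSing_lift (QuotientGroup.mk' F) (QuotientGroup.mk'_surjective F) ⟨?_, χ, ?_⟩
        · obtain ⟨k, hk⟩ := IsPGroup.iff_orderOf.1 hPp u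
          rw [show QuotientGroup.mk' F g = (u : Y ⧸ F) from hug.symm, Subgroup.orderOf_coe, hk]
          refine dvd_pow_self p fun h0 => hgZ ?_
          rw [h0, pow_zero, orderOf_eq_one_iff] at hk
          rw [← hug, hk, map_one]
          exact one_mem _
        · rw [show QuotientGroup.mk' F g = (u : Y ⧸ F) from hug.symm]; exact hχ
    -- nothing above the centre
    set W := (Y ⧸ F) ⧸ Z
    have hOW : Cfsg.pCore p W = ⊥ := by
      rw [← Cores.map_mk'_pCore Z hZp, show Cfsg.pCore p (Y ⧸ F) = Z from hPZ,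
        QuotientGroup.map_mk'_self]
    have hWc : Nat.card W ≤ d := (Nat.card_le_card_of_surjective _
      (QuotientGroup.mk'_surjective Z)).trans hlt
    have hW := ih W hWc (good_map _ (QuotientGroup.mk'_surjective Z) hgYF)
    rw [hOW, Subgroup.card_bot, Nat.factorization_one, Finsupp.zero_apply, add_zero] at hW
    rw [factorization_card_quotient Z, hZc, (Fact.out : p.Prime).factorization_self]
    by_contra hcon
    have hW1 : (Nat.card W).factorization p = 1 := by change ¬ (Nat.card W).factorization p + 1 ≤ 1 at hcon; omega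
    obtain ⟨w, hw, hwv⟩ : ∃ w : W, PElt p w ∧ VanSing W p w := by
      by_contra hno
      push Not at hno
      have := factorization_eq_of_none p _ W le_rfl hno
      rw [hOW, Subgroup.card_bot, Nat.factorization_one, Finsupp.zero_apply, hW1] at this
      exact one_ne_zero this
    have hwp : orderOf w = p := by
      obtain ⟨k, hk⟩ := hw
      obtain ⟨i, -, hi⟩ := (Nat.dvd_prime_pow Fact.out).1 (orderOf_dvd_of_pow_eq_one hk)
      have h1 : i ≤ 1 := hW1 ▸ (Nat.Prime.pow_dvd_iff_le_factorization Fact.out Nat.card_pos.ne').1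
        (hi ▸ orderOf_dvd_natCard w)
      have h2 : i ≠ 0 := fun h0 => (Fact.out : p.Prime).not_dvd_one
        (by simpa [hi, h0] using hwv.1)
      rw [hi, show i = 1 by omega, pow_one]
    obtain ⟨a, ha, hap⟩ := exists_pElt_lift (QuotientGroup.mk' Z) (QuotientGroup.mk'_surjective Z) hw
    have haZ : a ∉ Z := fun h => (Fact.out : p.Prime).ne_one (by
      rw [← hwp, ← ha, show QuotientGroup.mk' Z a = 1 from (QuotientGroup.eq_one_iff a).2 h,
        orderOf_one])
    set B := Subgroup.zpowers a ⊔ Z with hBdef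
    have hBp : IsPGroup p B := by
      refine IsPGroup.to_sup_of_normal_right ?_ hZp
      obtain ⟨k, hk⟩ := hap
      obtain ⟨i, -, hi⟩ := (Nat.dvd_prime_pow Fact.out).1 (orderOf_dvd_of_pow_eq_one hk)
      exact IsPGroup.of_card (n := i) (by rw [Nat.card_zpowers, hi])
    have hZcent : ∀ z ∈ Z, z * a = a * z := by
      haveI : Group.IsNilpotent B := hBp.isNilpotent
      have hne' : Z.subgroupOf B ≠ ⊥ := fun h => coreCenter_ne_bot hne (by
        show Z = ⊥
        rw [← Subgroup.map_subgroupOf_eq_of_le (show Z ≤ B from le_sup_right), h, Subgroup.map_bot])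
      have h1 := Cores.inf_center_ne_bot hne'
      have h2 : Nat.card (Z.subgroupOf B) = p :=
        (Nat.card_congr (Subgroup.subgroupOfEquivOfLe (show Z ≤ B from le_sup_right)).toEquiv).trans hZc
      have h3 : Z.subgroupOf B ⊓ Subgroup.center B = Z.subgroupOf B := by
        rcases (Fact.out : p.Prime).eq_one_or_self_of_dvd _
          (h2 ▸ Subgroup.card_dvd_of_le (inf_le_left : Z.subgroupOf B ⊓ Subgroup.center B ≤ _)) with h | h
        · exact absurd (Subgroup.card_eq_one.1 h) h1
        · exact Subgroup.eq_of_le_of_card_ge inf_le_left (by rw [h, h2])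
      intro z hz
      have h4 : (⟨z, Subgroup.mem_sup_right hz⟩ : B) ∈ Z.subgroupOf B := hz
      rw [← h3] at h4
      exact (congrArg Subtype.val (Subgroup.mem_center_iff.1 h4.2
        ⟨a, Subgroup.mem_sup_left (Subgroup.mem_zpowers a)⟩)).symm
    have hBcomm : ∀ b c : B, b * c = c * b := by
      intro b c
      have h1 : B ≤ Subgroup.centralizer {a} := sup_le
        (Subgroup.zpowers_le.2 (Subgroup.mem_centralizer_singleton_iff.2 rfl))
        (fun z hz => Subgroup.mem_centralizer_singleton_iff.2 (hZcent z hz))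
      have h2 : B ≤ Subgroup.centralizer {(c : Y ⧸ F)} := sup_le
        (Subgroup.zpowers_le.2 (Subgroup.mem_centralizer_singleton_iff.2
          (Subgroup.mem_centralizer_singleton_iff.1 (h1 c.2)).symm))
        (fun z hz => Subgroup.mem_centralizer_singleton_iff.2 (by
          have h3 : B ≤ Subgroup.centralizer {z} := sup_le
            (Subgroup.zpowers_le.2 (Subgroup.mem_centralizer_singleton_iff.2 (hZcent z hz).symm))
            (fun x hx => Subgroup.mem_centralizer_singleton_iff.2
              (congrArg Subtype.val (coreCenter_comm (⟨x, hx⟩ : Z) ⟨z, hz⟩)))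
          exact (Subgroup.mem_centralizer_singleton_iff.1 (h3 c.2)).symm))
      exact Subtype.ext (Subgroup.mem_centralizer_singleton_iff.1 (h2 b.2))
    refine haZ (heqZ B le_sup_right hBp hBcomm (fun g hg hg1 => ?_)
      (Subgroup.mem_sup_left (Subgroup.mem_zpowers a)))
    by_cases hgZ : (g : Y ⧸ F) ∈ Z
    · exact hvanZ g hgZ hg1
    refine vanSing_lift (QuotientGroup.mk' F) (QuotientGroup.mk'_surjective F)
      (vanSing_lift (QuotientGroup.mk' Z) (QuotientGroup.mk'_surjective Z) ?_)
    -- the image is a nontrivial power of `w`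
    have hgen : QuotientGroup.mk' Z (g : Y ⧸ F) ∈ Subgroup.zpowers w := by
      have h1 := Subgroup.mem_map_of_mem (QuotientGroup.mk' Z) hg
      rwa [hBdef, Subgroup.map_sup, QuotientGroup.map_mk'_self, sup_bot_eq, MonoidHom.map_zpowers,
        ha] at h1
    rw [← mem_powers_iff_mem_zpowers] at hgen
    obtain ⟨m, hm⟩ := hgen
    have hm' : w ^ m = QuotientGroup.mk' Z (g : Y ⧸ F) := hm
    have hne1 : w ^ m ≠ 1 := fun h => hgZ ((QuotientGroup.eq_one_iff _).1 (hm'.symm.trans h))
    have hcop : m.Coprime (orderOf w) := by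
      rw [hwp]
      refine ((Fact.out : p.Prime).coprime_iff_not_dvd.2 fun hd => hne1 ?_).symm
      exact orderOf_dvd_iff_pow_eq_one.1 (hwp.symm ▸ hd)
    obtain ⟨χ, hχ⟩ := hwv.2
    refine ⟨?_, χ, ?_⟩
    · rw [show QuotientGroup.mk' Z (QuotientGroup.mk' F g) = w ^ m from hm'.symm,
        hcop.symm.orderOf_pow, hwp]  -- the power has the same order
    · rw [show QuotientGroup.mk' Z (QuotientGroup.mk' F g) = w ^ m from hm'.symm]
      exact zero_pow_coprime χ hχ hcop


/-- Let p be a prime and G a finite solvable group whose vanishing elements (elements at which some irreducible character is zero) of order divisible by p all have the same order, with at least one such element. Let P be a Sylow p-subgroup of G. Then the derived subgroup of P is subnormal in G and the image of P in G/O_p(G) is cyclic. -/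
theorem result {G : Type*} [Group G] [Finite G] [hs : Group.IsSolvable G] (p : ℕ) [Fact p.Prime] (b : ℕ) (hvo : {n : ℕ | p ∣ n ∧ ∃ (g : G) (χ : Cfsg.IrrCharacter G), orderOf g = n ∧ (χ : G → ℂ) g = 0} = {b}) (P : Sylow p G) :
    ((commutator ↥(P : Subgroup G)).map (P : Subgroup G).subtype).IsSubnormal ∧ IsCyclic ↥((P : Subgroup G).map (QuotientGroup.mk' (Cfsg.pCore p G))) := by
  classical
  haveI : (Cfsg.pCore p G).Normal := Cores.pCore_normal p
  have hb : ∀ g, VanSing G p g → orderOf g = b := fun g hg => by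
    have h1 : orderOf g ∈ ({b} : Set ℕ) := hvo ▸ ⟨hg.1, g, hg.2.choose, rfl, hg.2.choose_spec⟩
    exact h1
  have hle : (Nat.card G).factorization p ≤ 1 + (Nat.card (Cfsg.pCore p G)).factorization p := by
    by_cases hno : ∀ x : G, PElt p x → ¬ VanSing G p x
    · rw [factorization_eq_of_none p _ G le_rfl hno]; omega
    push Not at hno
    obtain ⟨x, ⟨k, hk⟩, hxv⟩ := hno
    refine factorization_le_of_good p _ G le_rfl ⟨fun g hg => ⟨k, ?_⟩, fun g hg hgp => ?_⟩
    · rw [← orderOf_dvd_iff_pow_eq_one, hb g hg, ← hb x hxv, orderOf_dvd_iff_pow_eq_one, hk]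
    · have h1 := hb _ hgp
      rw [orderOf_pow g, hb g hg] at h1
      have hpb : p ∣ b := hb g hg ▸ hg.1
      rw [Nat.gcd_eq_right hpb] at h1
      have hb0 : 0 < b := hb g hg ▸ orderOf_pos g
      exact absurd h1 (Nat.div_lt_self hb0 (Fact.out : p.Prime).one_lt).ne
  set K := Cfsg.pCore p G
  set Pb := (P : Subgroup G).map (QuotientGroup.mk' K)
  have hcyc : IsCyclic Pb := by
    have hPb : Pb = ((P.mapSurjective (QuotientGroup.mk'_surjective K) : Sylow p (G ⧸ K)) :
        Subgroup (G ⧸ K)) := rfl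
    obtain ⟨i, hi⟩ : ∃ i, (Nat.card (G ⧸ K)).factorization p = i := ⟨_, rfl⟩
    have hi1 : i ≤ 1 := by
      rw [S4997.factorization_card_quotient K, hi] at hle; omega
    have hc : Nat.card Pb = p ^ i := by
      rw [hPb, (P.mapSurjective (QuotientGroup.mk'_surjective K)).card_eq_multiplicity, hi]
    rcases Nat.le_one_iff_eq_zero_or_eq_one.1 hi1 with rfl | rfl
    · haveI := (Nat.card_eq_one_iff_unique.1 (hc.trans (pow_zero p))).1
      infer_instance
    · exact isCyclic_of_prime_card (hc.trans (pow_one p))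
  refine ⟨?_, hcyc⟩
  have hPK : (commutator (P : Subgroup G)).map (P : Subgroup G).subtype ≤ K := by
    rw [Subgroup.map_subtype_commutator, Subgroup.commutator_le]
    intro x hx y hy
    rw [← QuotientGroup.eq_one_iff]
    show QuotientGroup.mk' K ⁅x, y⁆ = 1
    rw [map_commutatorElement, commutatorElement_eq_one_iff_mul_comm]
    letI := hcyc.commGroup
    exact congrArg Subtype.val (mul_comm (⟨_, Subgroup.mem_map_of_mem _ hx⟩ : Pb)
      ⟨_, Subgroup.mem_map_of_mem _ hy⟩)
  refine Subgroup.IsSubnormal.step _ K hPK (Subgroup.Normal.isSubnormal inferInstance) ⟨?_⟩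
  intro z hz k
  obtain ⟨c, hc, hcz⟩ := Subgroup.mem_subgroupOf.1 hz
  refine Subgroup.mem_subgroupOf.2 ⟨⟨k, Cores.pCore_le_sylow P k.2⟩ * c *
    ⟨k, Cores.pCore_le_sylow P k.2⟩⁻¹,
    (inferInstance : (commutator (P : Subgroup G)).Normal).conj_mem c hc _, ?_⟩
  simp [← hcz]

end Cfsg.Agent.S4850
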