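import Cfsg.Statements.S4856
import Mathlib
import Cfsg.Agent.Lib.Characters.Counting
-- import your own Cfsg.Agent.* helpers here

set_option autoImplicit false
open Cfsg

namespace Cfsg.Agent.S4856

open Cfsg.Agent.Characters
open scoped ComplexConjugate

/-- For an element z of a finite group G, the number of pairs (x, y) of elements with x y x⁻¹ y⁻¹ = z equals the order of G times the sum over the irreducible characters χ of χ(z)/χ(1). -/
theorem result {G : Type*} [Group G] [Finite G] (z : G) : (Nat.card {xy : G × G // xy.1 * xy.2 * xy.1⁻¹ * xy.2⁻¹ = z} : ℂ) = (Nat.card G : ℂ) * ∑ᶠ χ : Cfsg.IrrCharacter G, (χ : G → ℂ) z / (χ : G → ℂ) 1 := by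
  classical
  haveI := Fintype.ofFinite G
  haveI := Fintype.ofFinite (Cfsg.IrrCharacter G)
  rw [finsum_eq_sum_of_fintype]
  have hx : ∀ x : G, (Nat.card {y : G // x * y * x⁻¹ * y⁻¹ = z} : ℂ) =
      ∑ χ : Cfsg.IrrCharacter G, (χ : G → ℂ) (z⁻¹ * x) * conj ((χ : G → ℂ) x) := by
    intro x
    rw [second_orthogonality]
    have hiff : ∀ y : G, x * y * x⁻¹ * y⁻¹ = z ↔ y * x * y⁻¹ = z⁻¹ * x := by
      intro y
      constructor
      · intro h; rw [← h]; group
      · intro h
        have h1 : z⁻¹ = y * x * y⁻¹ * x⁻¹ := by rw [h]; group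
        rw [← inv_inv z, h1]; group
    split_ifs with hc
    · obtain ⟨a, ha⟩ := isConj_iff.1 hc.symm
      refine congrArg (fun n : ℕ => (n : ℂ)) (Nat.card_congr ?_)
      exact
        { toFun := fun y => ⟨a⁻¹ * y, by
            rw [Subgroup.mem_centralizer_singleton_iff]
            have h := (hiff y).1 y.2
            rw [← ha] at h
            calc a⁻¹ * (y : G) * x = a⁻¹ * ((y : G) * x * (y : G)⁻¹) * y := by group
              _ = x * (a⁻¹ * y) := by rw [h]; group⟩
          invFun := fun c => ⟨a * c, (hiff _).2 (by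
            rw [mul_inv_rev, ← ha,
              show a * (c : G) * x * ((c : G)⁻¹ * a⁻¹) = a * ((c : G) * x * (c : G)⁻¹) * a⁻¹ by group,
              Subgroup.mem_centralizer_singleton_iff.1 c.2, mul_inv_cancel_right])⟩
          left_inv := fun y => Subtype.ext (mul_inv_cancel_left a _)
          right_inv := fun c => Subtype.ext (inv_mul_cancel_left a _) }
    · haveI : IsEmpty {y : G // x * y * x⁻¹ * y⁻¹ = z} :=
        ⟨fun y => hc (isConj_iff.2 ⟨_, (hiff y).1 y.2⟩).symm⟩
      simp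
  have h1 : (Nat.card {xy : G × G // xy.1 * xy.2 * xy.1⁻¹ * xy.2⁻¹ = z} : ℂ) =
      ∑ x : G, (Nat.card {y : G // x * y * x⁻¹ * y⁻¹ = z} : ℂ) := by
    rw [← Nat.cast_sum]
    congr 1
    rw [← Nat.card_sigma]
    exact Nat.card_congr
      { toFun := fun p => ⟨p.1.1, p.1.2, p.2⟩
        invFun := fun q => ⟨(q.1, q.2.1), q.2.2⟩
        left_inv := fun p => rfl
        right_inv := fun q => rfl }
  rw [h1, Finset.sum_congr rfl fun x _ => hx x, Finset.sum_comm, Finset.mul_sum]
  have hreal : ∀ χ : Cfsg.IrrCharacter G, conj ((χ : G → ℂ) 1) = (χ : G → ℂ) 1 := fun χ => by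
    obtain ⟨n, hn⟩ := char_one_nat (irr_isCharacter χ)
    rw [hn, Complex.conj_natCast]
  have hval : ∀ χ : Cfsg.IrrCharacter G,
      ∑ x : G, (χ : G → ℂ) (z⁻¹ * x) * conj ((χ : G → ℂ) x) =
        (Nat.card G : ℂ) * conj ((χ : G → ℂ) z / (χ : G → ℂ) 1) := fun χ => by
    rw [sum_mul_conj_shift χ.2, char_inv (irr_isCharacter χ), map_div₀, hreal, mul_div_assoc]
  rw [Finset.sum_congr rfl fun χ _ => hval χ, ← Finset.mul_sum, ← Finset.mul_sum]
  congr 1
  have hsum : ∀ x : G, conj (∑ χ : Cfsg.IrrCharacter G, (χ : G → ℂ) (z⁻¹ * x) *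
      conj ((χ : G → ℂ) x)) = ∑ χ : Cfsg.IrrCharacter G, (χ : G → ℂ) (z⁻¹ * x) *
      conj ((χ : G → ℂ) x) := fun x => by rw [← hx x, Complex.conj_natCast]
  have htot : conj (∑ x : G, ∑ χ : Cfsg.IrrCharacter G, (χ : G → ℂ) (z⁻¹ * x) *
      conj ((χ : G → ℂ) x)) = ∑ x : G, ∑ χ : Cfsg.IrrCharacter G, (χ : G → ℂ) (z⁻¹ * x) *
      conj ((χ : G → ℂ) x) := by
    rw [map_sum]; exact Finset.sum_congr rfl fun x _ => hsum x
  rw [Finset.sum_comm, Finset.sum_congr rfl fun χ _ => hval χ, ← Finset.mul_sum, map_mul,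
    Complex.conj_natCast] at htot
  have := mul_left_cancel₀ natCard_ne_zero htot
  rw [← this, map_sum]
  exact Finset.sum_congr rfl fun χ _ => Complex.conj_conj _

end Cfsg.Agent.S4856
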