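import Cfsg.Statements.S4859
import Cfsg.Agent.Lib.FrobeniusSchur.Basic

set_option autoImplicit false
open Cfsg

namespace Cfsg.Agent.S4859

/-- Let p be an odd prime, G a finite group and x an element of G whose order is a power of p (possibly 1) and whose centralizer has even order. Let y be a 2-element of the centralizer of x whose order is largest among the 2-elements of that centralizer. Then x * y is not a square in G, and some non-principal real-valued irreducible character of G does not vanish at x * y. -/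
theorem result {G : Type*} [Group G] [Finite G] (p : ℕ) [Fact p.Prime] (hp : p ≠ 2) (x : G) (hx : ∃ k : ℕ, orderOf x = p ^ k) (heven : Even (Nat.card (Subgroup.centralizer ({x} : Set G)))) (y : G) (hy : y ∈ Subgroup.centralizer ({x} : Set G)) (hy2 : ∃ k : ℕ, orderOf y = 2 ^ k) (hmax : ∀ z ∈ Subgroup.centralizer ({x} : Set G), (∃ k : ℕ, orderOf z = 2 ^ k) → orderOf z ≤ orderOf y) : (¬ ∃ u : G, u * u = x * y) ∧ ∃ χ : Cfsg.IrrCharacter G, ¬ ((χ : G → ℂ) = fun _ => (1 : ℂ)) ∧ (∀ g : G, ((χ : G → ℂ) g).im = 0) ∧ (χ : G → ℂ) (x * y) ≠ 0 := by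
  classical
  haveI := Fintype.ofFinite G
  haveI := Fintype.ofFinite (Cfsg.IrrCharacter G)
  obtain ⟨a, ha⟩ := hx
  obtain ⟨b, hb⟩ := hy2
  set C := Subgroup.centralizer ({x} : Set G) with hCdef
  have hyc : Commute x y := (Subgroup.mem_centralizer_singleton_iff.1 hy).symm
  have hb0 : b ≠ 0 := by
    intro e
    obtain ⟨z, hz⟩ := exists_prime_orderOf_dvd_card' 2 (even_iff_two_dvd.1 heven)
    have h1 := hmax (z : G) z.2 ⟨1, by rw [Subgroup.orderOf_coe, hz, pow_one]⟩
    rw [Subgroup.orderOf_coe, hz, hb, e, pow_zero] at h1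
    omega
  have hnsq : ¬ ∃ u : G, u * u = x * y := by
    rintro ⟨u, hu⟩
    have hco : Nat.Coprime (orderOf x) (orderOf y) := by
      rw [ha, hb]
      exact ((Nat.coprime_primes (Fact.out : p.Prime) Nat.prime_two).2 hp).pow a b
    -- `x` is a power of `u * u`
    obtain ⟨e, he1, he0⟩ := Nat.chineseRemainder hco 1 0
    have hxe : (u * u) ^ e = x := by
      rw [hu, hyc.mul_pow, orderOf_dvd_iff_pow_eq_one.1 (Nat.modEq_zero_iff_dvd.1 he0), mul_one]
      exact (pow_eq_pow_iff_modEq.2 he1).trans (pow_one x)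
    set z := u ^ (p ^ a) with hz
    have hzx : z ∈ C := by
      rw [hCdef, Subgroup.mem_centralizer_singleton_iff, ← hxe]
      exact (((Commute.refl u).mul_right (Commute.refl u)).pow_right e).pow_left (p ^ a) |>.eq
    have hzz : z * z = y ^ (p ^ a) := by
      rw [hz, ← (Commute.refl u).mul_pow, hu, hyc.mul_pow, ← ha, pow_orderOf_eq_one, one_mul]
    have hy' : orderOf (y ^ (p ^ a)) = 2 ^ b := by
      rw [Nat.Coprime.orderOf_pow, hb]
      rw [← ha]; exact hco.symm
    have hzord : orderOf z = 2 ^ (b + 1) := by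
      apply orderOf_eq_prime_pow
      · intro h
        have h1 : orderOf z ∣ 2 ^ b := orderOf_dvd_of_pow_eq_one h
        have h2 : orderOf (z * z) ∣ 2 ^ (b - 1) := by
          apply orderOf_dvd_of_pow_eq_one
          rw [← pow_two, ← pow_mul, ← pow_succ', Nat.sub_add_cancel (Nat.pos_of_ne_zero hb0), h]
        rw [hzz, hy'] at h2
        have := (Nat.pow_dvd_pow_iff_le_right (by norm_num)).1 h2
        omega
      · rw [pow_succ', pow_mul, pow_two, hzz, ← hy', pow_orderOf_eq_one]
    have h3 := hmax z hzx ⟨b + 1, hzord⟩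
    rw [hzord, hb] at h3
    have := (Nat.pow_le_pow_iff_right (by norm_num)).1 h3
    omega
  refine ⟨hnsq, ?_⟩
  have hsum : ∑ χ : Cfsg.IrrCharacter G,
      FrobeniusSchur.nu (χ : G → ℂ) * (χ : G → ℂ) (x * y) = 0 := by
    simp only [FrobeniusSchur.nu, mul_assoc, ← Finset.mul_sum, Finset.sum_mul]
    rw [Finset.sum_comm, Finset.sum_eq_zero, mul_zero]
    intro s _
    have h2 := Characters.second_orthogonality (s * s) (x * y)⁻¹
    rw [if_neg] at h2
    · rw [← h2]
      refine Finset.sum_congr rfl fun χ _ => ?_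
      rw [Characters.char_inv (Characters.irr_isCharacter χ), Complex.conj_conj]
    · intro h
      obtain ⟨c, hc⟩ := isConj_iff.1 h
      refine hnsq ⟨c * s⁻¹ * c⁻¹, ?_⟩
      have e := congrArg (·⁻¹) hc
      simp only [inv_inv] at e
      rw [← e]; group
  by_contra hcon
  push Not at hcon
  let one : Cfsg.IrrCharacter G := ⟨fun _ => 1, Characters.isIrrCharacter_one⟩
  rw [Finset.sum_eq_single one] at hsum
  · simp [one, FrobeniusSchur.nu, Nat.card_eq_fintype_card] at hsum
  · intro χ _ hne
    by_cases hr : ∀ g : G, ((χ : G → ℂ) g).im = 0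
    · rw [hcon χ (fun e => hne (Subtype.ext e)) hr, mul_zero]
    · rw [FrobeniusSchur.nu_eq_zero_of_not_real χ hr, zero_mul]
  · simp

end Cfsg.Agent.S4859
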