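import Cfsg.Statements.S4860
import Cfsg.Agent.Lib.Blocks.InducedChars
import Cfsg.Agent.Lib.FrobeniusSchur.Basic

set_option autoImplicit false
open Cfsg

namespace Cfsg.Agent.S4860

open Cfsg.Agent.Blocks Cfsg.Agent.Characters Cfsg.Agent.BlockCharsA.RegularPart
open scoped ComplexConjugate

/-- The value sum over the `p`-regular elements. -/
noncomputable def rsum {G : Type*} [Group G] [Fintype G] (p : ℕ) (χ : G → ℂ) : ℂ :=
  ∑ g : G, if p ∣ orderOf g then 0 else χ g

theorem rsum_eq_evalChar {G : Type*} [Group G] [Fintype G] (p : ℕ) (χ : G → ℂ) :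
    evalChar χ (regEl p (trivIrr G : G → ℂ)) = rsum p χ := by
  rw [evalChar_eq_sum, rsum]
  refine Finset.sum_congr rfl fun g _ => ?_
  rw [coeff_regEl]
  split <;> simp [trivIrr]

theorem dvd_orderOf_sq_iff {G : Type*} [Group G] {p : ℕ} (hp : p.Prime) (h2 : p ≠ 2) (s : G) :
    p ∣ orderOf (s * s) ↔ p ∣ orderOf s := by
  constructor
  · exact fun h => h.trans (orderOf_dvd_of_pow_eq_one (by
      rw [← sq, ← pow_mul, mul_comm, pow_mul, pow_orderOf_eq_one, one_pow]))
  · intro h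
    have hd : orderOf s ∣ 2 * orderOf (s * s) := orderOf_dvd_of_pow_eq_one (by
      rw [pow_mul, sq, pow_orderOf_eq_one])
    rcases hp.dvd_mul.1 (h.trans hd) with h' | h'
    · exact absurd ((Nat.prime_dvd_prime_iff_eq hp Nat.prime_two).1 h') h2
    · exact h'

/-- The Frobenius-Schur count of the `p`-regular squares. -/
theorem sum_nu_rsum {G : Type*} [Group G] [Fintype G] [Fintype (Cfsg.IrrCharacter G)]
    {p : ℕ} (hp : p.Prime) (h2 : p ≠ 2) :
    ∑ χ : Cfsg.IrrCharacter G, FrobeniusSchur.nu (χ : G → ℂ) * conj (rsum p (χ : G → ℂ)) =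
      rsum p (fun _ : G => (1 : ℂ)) := by
  set f : G → ℂ := fun g => if p ∣ orderOf g then 0 else 1 with hfd
  have hf : Cfsg.IsClassFunction G f := fun g h => by simp only [f, orderOf_conj']
  have hin : ∀ χ : Cfsg.IrrCharacter G, Cfsg.classInner f (χ : G → ℂ) =
      (Nat.card G : ℂ)⁻¹ * conj (rsum p (χ : G → ℂ)) := fun χ => by
    rw [classInner_def, rsum, map_sum]
    congr 1
    refine Finset.sum_congr rfl fun g _ => ?_
    simp only [f]
    split <;> simp
  have h1 : ∑ s : G, f (s * s) = rsum p (fun _ : G => (1 : ℂ)) :=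
    Finset.sum_congr rfl fun s _ => by simp only [f, dvd_orderOf_sq_iff hp h2]
  rw [← h1, Finset.sum_congr rfl fun s _ => congrFun (classFun_eq_sum hf) (s * s)]
  simp only [Finset.sum_apply, Pi.smul_apply, smul_eq_mul, hin]
  rw [Finset.sum_comm]
  refine Finset.sum_congr rfl fun χ _ => ?_
  rw [← Finset.mul_sum, FrobeniusSchur.nu]
  ring

theorem exists_second {G : Type*} [Group G] [Finite G] {p : ℕ} (hp : p ≠ 2) {M : Ideal Cfsg.AlgInt}
    (hM : Cfsg.IsPModular p M) {α : Cfsg.IrrCharacter G} (hα : α ∈ Cfsg.principalBlock M G)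
    (hα1 : ¬ ((α : G → ℂ) = fun _ => (1 : ℂ))) (hαr : ∀ g : G, ((α : G → ℂ) g).im = 0) :
    ∃ β : Cfsg.IrrCharacter G, β ∈ Cfsg.principalBlock M G ∧
      ¬ ((β : G → ℂ) = fun _ => (1 : ℂ)) ∧ (∀ g : G, ((β : G → ℂ) g).im = 0) ∧ β ≠ α ∧
      ∀ σ : ℂ ≃+* ℂ, (β : G → ℂ) ≠ (σ : ℂ → ℂ) ∘ (α : G → ℂ) := by
  classical
  haveI := Fintype.ofFinite G
  haveI := Fintype.ofFinite (Cfsg.IrrCharacter G)
  by_contra hcon
  have hB : Cfsg.IsPBlock M (Cfsg.principalBlock M G) := isPBlock_principal M G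
  have h1B : trivIrr G ∈ Cfsg.principalBlock M G := trivIrr_mem_principal hM
  have hα0 : rsum p (α : G → ℂ) ≠ 0 := fun h => by
    refine omega_regEl_unit hM hB h1B hα (blockHeight_one _) ?_
    rw [omega, rsum_eq_evalChar, h, zero_div]
    exact ideal_zero hM
  obtain ⟨q, hq⟩ : ∃ q : ℚ, rsum p (α : G → ℂ) = (q : ℂ) := by
    obtain ⟨z, -, hz, -⟩ := exists_coeff hM (trivIrr G) α
    refine ⟨(z : ℚ) * (Nat.card G : ℚ) / ((p ^ (Nat.card G).factorization p : ℕ) : ℚ), ?_⟩
    have hcard : (Nat.card G : ℂ) ≠ 0 := Nat.cast_ne_zero.2 Nat.card_pos.ne'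
    have hpa := natCast_p_pow_ne_zero hM ((Nat.card G).factorization p)
    rw [ratio, omega, rsum_eq_evalChar, charDegree_cast] at hz
    have hd := irr_one_ne_zero α.2
    simp only [Rat.cast_div, Rat.cast_mul, Rat.cast_intCast, Rat.cast_natCast]
    rw [hz]
    field_simp
  set c := FrobeniusSchur.nu (α : G → ℂ) * conj (rsum p (α : G → ℂ)) with hc
  have hc0 : c ≠ 0 :=
    mul_ne_zero ((FrobeniusSchur.nu_ne_zero_iff α).2 hαr) ((map_ne_zero _).2 hα0)
  have hterm : ∀ χ ∈ Finset.univ.erase (trivIrr G),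
      FrobeniusSchur.nu (χ : G → ℂ) * conj (rsum p (χ : G → ℂ)) =
        if χ ∈ Cfsg.principalBlock M G ∧ ∀ g : G, ((χ : G → ℂ) g).im = 0 then c else 0 := by
    intro χ hχ
    split_ifs with h
    · by_cases hχα : χ = α
      · rw [hχα]
      obtain ⟨σ, hσ⟩ : ∃ σ : ℂ ≃+* ℂ, (χ : G → ℂ) = (σ : ℂ → ℂ) ∘ (α : G → ℂ) := by
        by_contra hn
        exact hcon ⟨χ, h.1, fun e => (Finset.mem_erase.1 hχ).1 (Subtype.ext e), h.2, hχα,
          fun σ e => hn ⟨σ, e⟩⟩
      have hnu : FrobeniusSchur.nu (χ : G → ℂ) = FrobeniusSchur.nu (α : G → ℂ) := by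
        have : FrobeniusSchur.nu (χ : G → ℂ) = σ (FrobeniusSchur.nu (α : G → ℂ)) := by
          simp [FrobeniusSchur.nu, hσ, map_sum]
        rcases FrobeniusSchur.nu_of_real α hαr with e | e <;> simp [this, e]
      have hrs : rsum p (χ : G → ℂ) = rsum p (α : G → ℂ) := by
        have : rsum p (χ : G → ℂ) = σ (rsum p (α : G → ℂ)) := by
          simp [rsum, hσ, map_sum, apply_ite σ]
        rw [this, hq, map_ratCast]
      rw [hnu, hrs]
    · rcases not_and_or.1 h with h | h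
      · have h0 := omega_regEl_eq_zero (χ := trivIrr G) (ψ := χ) hM h
        rw [omega, rsum_eq_evalChar, div_eq_zero_iff] at h0
        rw [h0.resolve_right (irr_one_ne_zero χ.2), map_zero, mul_zero]
      · rw [FrobeniusSchur.nu_eq_zero_of_not_real χ h, zero_mul]
  have htot := sum_nu_rsum (G := G) hM.1 hp
  rw [← Finset.add_sum_erase _ _ (Finset.mem_univ (trivIrr G)), Finset.sum_congr rfl hterm,
    ← Finset.sum_filter, Finset.sum_const, nsmul_eq_mul] at htot
  have htr : FrobeniusSchur.nu (trivIrr G : G → ℂ) * conj (rsum p (trivIrr G : G → ℂ)) =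
      rsum p (fun _ : G => (1 : ℂ)) := by
    simp [FrobeniusSchur.nu, trivIrr, rsum, map_sum, apply_ite (starRingEnd ℂ),
      Nat.card_eq_fintype_card]
  rw [htr, add_eq_left, mul_eq_zero] at htot
  refine absurd (htot.resolve_right hc0) (Nat.cast_ne_zero.2 (Finset.card_ne_zero.2 ⟨α, ?_⟩))
  simp only [Finset.mem_filter, Finset.mem_erase, Finset.mem_univ, and_true]
  exact ⟨fun e => hα1 (by rw [e]; rfl), hα, hαr⟩

/-- Let G be a finite group, p an odd prime and M a maximal ideal of the algebraic integers containing p. If the principal p-block of G contains a non-principal real-valued irreducible character α, then it contains a non-principal real-valued irreducible character β different from α, and β may be chosen so that no field automorphism of ℂ carries α to β. -/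
theorem result {G : Type*} [Group G] [Finite G] (p : ℕ) [Fact p.Prime] (hp : p ≠ 2) (M : Ideal Cfsg.AlgInt) (hM : Cfsg.IsPModular p M) (α : Cfsg.IrrCharacter G) (hα : α ∈ Cfsg.principalBlock M G) (hα1 : ¬ ((α : G → ℂ) = fun _ => (1 : ℂ))) (hαr : (∀ g : G, ((α : G → ℂ) g).im = 0)) : ∃ β : Cfsg.IrrCharacter G, β ∈ Cfsg.principalBlock M G ∧ ¬ ((β : G → ℂ) = fun _ => (1 : ℂ)) ∧ (∀ g : G, ((β : G → ℂ) g).im = 0) ∧ β ≠ α ∧ ∀ σ : ℂ ≃+* ℂ, (β : G → ℂ) ≠ (σ : ℂ → ℂ) ∘ (α : G → ℂ) := by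
  exact exists_second hp hM hα hα1 hαr

end Cfsg.Agent.S4860
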