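import Cfsg.Statements.S4862
import Cfsg.Agent.Lib.CharTheory.RealPPrime.NormalSylow
import Cfsg.Agent.Lib.CharTheory.Ito

set_option autoImplicit false
open Cfsg

namespace Cfsg.Agent.S4862

open Cfsg.Agent.Characters Cfsg.Agent.CharTheory Cfsg.Agent.CharTheory.RealPPrime
open Cfsg.Agent.CharTheory.RelativeM

universe u

variable {G : Type u} [Group G] [Finite G] {p : ℕ} [Fact p.Prime]

/-- A linear constituent of a character of degree prime to `p` on a subgroup of `P'`. -/
theorem linear_trivial (P : Sylow p G) (M : Subgroup G) [M.Normal] [Fintype M]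
    (hMP : M ≤ ⁅(P : Subgroup G), (P : Subgroup G)⁆) (χ : Cfsg.IrrCharacter G)
    (hχ : ¬ p ∣ Cfsg.charDegree (χ : G → ℂ)) (μ : M →* ℂˣ)
    (hμ : Cfsg.classInner (fun n : M => (χ : G → ℂ) n) (linFun μ) ≠ 0) : μ = 1 := by
  classical
  haveI := Fintype.ofFinite G
  haveI := Fintype.ofFinite (P : Subgroup G)
  haveI := Fintype.ofFinite (Cfsg.IrrCharacter (P : Subgroup G))
  have hc := isCharacter_restrict (P : Subgroup G) (irr_isCharacter χ)
  choose a ha using fun ν : Cfsg.IrrCharacter (P : Subgroup G) =>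
    classInner_char_nat hc (irr_isCharacter ν)
  choose d hd hdvd using fun ν : Cfsg.IrrCharacter (P : Subgroup G) =>
    Ito.degree_dvd_index_abelian (⊥ : Subgroup (P : Subgroup G))
      (fun x hx y hy => by rw [Subgroup.mem_bot.1 hx, Subgroup.mem_bot.1 hy]) ν.2
  have hsum : Cfsg.charDegree (χ : G → ℂ) = ∑ ν, a ν * d ν := by
    have h := congrFun (classFun_eq_sum (char_isClassFunction hc)) 1
    simp only [Finset.sum_apply, Pi.smul_apply, smul_eq_mul, ha, hd, OneMemClass.coe_one,
      ← Nat.cast_mul, ← Nat.cast_sum] at h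
    rw [← BlocksChars.Degrees.charDegree_cast] at h
    exact_mod_cast h
  obtain ⟨ν, haν, hdν⟩ : ∃ ν, a ν ≠ 0 ∧ d ν = 1 := by
    by_contra hno
    push Not at hno
    refine hχ (hsum ▸ Finset.dvd_sum fun ν _ => ?_)
    by_cases h0 : a ν = 0
    · rw [h0, zero_mul]; exact dvd_zero p
    obtain ⟨k, hk⟩ := IsPGroup.iff_card.1 P.isPGroup'
    have h1 := hdvd ν
    rw [Subgroup.index_bot, hk] at h1
    obtain ⟨j, -, hj⟩ := (Nat.dvd_prime_pow (Fact.out : p.Prime)).1 h1
    have hj0 : j ≠ 0 := fun h => hno ν h0 (by rw [hj, h, pow_zero])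
    exact Dvd.dvd.mul_left (hj ▸ dvd_pow_self p hj0) _
  have hν1 : (ν : ↥(P : Subgroup G) → ℂ) 1 = 1 := by rw [hd, hdν, Nat.cast_one]
  set lam := linearOfDegreeOne (irr_isCharacter ν) hν1
  have hMle : M ≤ (P : Subgroup G) := hMP.trans (Subgroup.commutator_le_self _)
  have hker : M.subgroupOf (P : Subgroup G) ≤ lam.ker := by
    intro x hx
    refine Abelianization.commutator_subset_ker lam ?_
    have h1 : (x : G) ∈ (commutator (P : Subgroup G)).map (P : Subgroup G).subtype := by
      rw [Subgroup.map_subtype_commutator]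
      exact hMP hx
    obtain ⟨y, hy, hyx⟩ := h1
    rwa [← Subtype.ext hyx]
  haveI := Fintype.ofFinite (M.subgroupOf (P : Subgroup G))
  set en := Subgroup.subgroupOfEquivOfLe hMle
  have h1 := Clifford.classInner_restrict_ne_zero (M.subgroupOf (P : Subgroup G)) hc ν.2
    (φ := fun _ => 1) (by simpa using isCharacter_of_isIrr (isIrrCharacter_linear
      (1 : (M.subgroupOf (P : Subgroup G)) →* ℂˣ)))
    (by rw [ha]; exact_mod_cast haν) (by
      have e : (fun m : M.subgroupOf (P : Subgroup G) => (ν : ↥(P : Subgroup G) → ℂ) m) =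
          fun _ => 1 := funext fun m => by
        have := congrArg Units.val (MonoidHom.mem_ker.1 (hker m.2))
        simpa [lam] using this
      rw [e]
      have := classInner_isIrr_self (isIrrCharacter_linear
        (1 : (M.subgroupOf (P : Subgroup G)) →* ℂˣ))
      simp only [MonoidHom.one_apply, Units.val_one] at this
      rw [this]
      exact one_ne_zero)
  have htriv : Cfsg.IsIrrCharacter M (linFun (1 : M →* ℂˣ)) := isIrrCharacter_linear 1
  have h2 : Cfsg.classInner (fun n : M => (χ : G → ℂ) n) (linFun (1 : M →* ℂˣ)) ≠ 0 := by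
    rw [← Basics.classInner_comp_equiv en]
    refine fun h => h1 (Eq.trans ?_ h)
    exact congrArg₂ Cfsg.classInner rfl (funext fun m => by simp [linFun])
  obtain ⟨g, hg⟩ := Clifford.exists_conjBy_eq M χ.2 htriv (isIrrCharacter_linear μ) h2 hμ
  refine MonoidHom.ext fun x => Units.ext ?_
  have := congrFun hg x
  simpa [linFun, Clifford.conjBy_apply] using this.symm

theorem centralizes (hp : p ≠ 2) (hreal : RealPP G p) (P : Sylow p G) :
    ∀ (d : ℕ) (M : Subgroup G) [M.Normal], Nat.card M ≤ d →
      M ≤ ⁅(P : Subgroup G), (P : Subgroup G)⁆ →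
      ∀ (u : G) (k : ℕ), orderOf u = 2 ^ k → ∀ m ∈ M, u * m * u⁻¹ = m := by
  classical
  haveI : Fact (Nat.Prime 2) := ⟨Nat.prime_two⟩
  intro d
  induction d with
  | zero => intro M _ hd; exact absurd hd (by have := Nat.card_pos (α := M); omega)
  | succ d ih =>
    intro M _ hd hMP u k hk m hm
    rcases eq_or_ne M ⊥ with rfl | hMne
    · rw [Subgroup.mem_bot.1 hm, mul_one, mul_inv_cancel]
    haveI := Fintype.ofFinite M
    have hMp : IsPGroup p M := P.isPGroup'.to_le (hMP.trans (Subgroup.commutator_le_self _))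
    haveI : Nontrivial M := M.nontrivial_iff_ne_bot.2 hMne
    haveI : Group.IsNilpotent M := hMp.isNilpotent
    have hlt : ⁅M, M⁆ < M := by
      rw [← Subgroup.map_subtype_commutator]
      conv_rhs => rw [← Subgroup.range_subtype M, MonoidHom.range_eq_map]
      exact (Subgroup.map_lt_map_iff_of_injective M.subtype_injective).2
        (Group.IsSolvable.commutator_lt_top_of_nontrivial M)
    haveI : Finite M := inferInstance
    have hcardlt : Nat.card (⁅M, M⁆ : Subgroup G) < Nat.card M := by
      rcases (Subgroup.card_le_of_le hlt.le).lt_or_eq with h | h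
      · exact h
      · exact absurd (Subgroup.eq_of_le_of_card_ge hlt.le h.ge) hlt.ne
    have hfixD := ih ⁅M, M⁆ (by omega) (hlt.le.trans hMP) u k hk
    let c : G → M →* M := fun g => (MulAut.conjNormal g : M ≃* M).toMonoidHom
    have hc : ∀ g (x : M), ((c g x : M) : G) = g * x * g⁻¹ := fun g x =>
      MulAut.conjNormal_apply g x
    have hcc : ∀ g h (x : M), c g (c h x) = c (g * h) x := fun g h x =>
      Subtype.ext (by simp only [hc]; group)
    have hc1 : ∀ x : M, c 1 x = x := fun x => Subtype.ext (by simp [hc])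
    -- all linear characters are fixed
    have hall : ∀ (μ : M →* ℂˣ) (x : M), μ (c u x) = μ x := by
      by_contra hno
      have hlast : ∀ (μ : M →* ℂˣ) (x : M), μ (c (u ^ 2 ^ k) x) = μ x := fun μ x => by
        rw [← hk, pow_orderOf_eq_one, hc1]
      have hex : ∃ j, ∀ (μ : M →* ℂˣ) (x : M), μ (c (u ^ 2 ^ j) x) = μ x := ⟨k, hlast⟩
      have hj0 : Nat.find hex ≠ 0 := by
        intro h0
        have := Nat.find_spec hex
        rw [h0, pow_zero, pow_one] at this
        exact hno this
      obtain ⟨i, hi⟩ := Nat.exists_eq_succ_of_ne_zero hj0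
      set v := u ^ 2 ^ i
      have hv2 : ∀ (μ : M →* ℂˣ) (x : M), μ (c (v * v) x) = μ x := by
        intro μ x
        have := Nat.find_spec hex μ x
        rwa [hi, pow_succ, pow_mul, sq] at this
      obtain ⟨μ₀, x₁, hx₁⟩ : ∃ (μ : M →* ℂˣ) (x : M), μ (c v x) ≠ μ x := by
        by_contra h
        push Not at h
        exact Nat.find_min hex (by omega : i < Nat.find hex) h
      set μ := μ₀.comp (c v) * μ₀⁻¹ with hμdef
      have hμ1 : μ ≠ 1 := fun h => hx₁ (by
        have := DFunLike.congr_fun h x₁
        simpa [hμdef, mul_inv_eq_one] using this)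
      have hμv : ∀ x, μ (c v x) = (μ x)⁻¹ := fun x => by
        simp only [hμdef, MonoidHom.mul_apply, MonoidHom.inv_apply, MonoidHom.comp_apply, hcc,
          hv2, mul_inv_rev, inv_inv]
      set T := inertia M (linFun μ)
      have hTmem : ∀ g : G, g ∈ T ↔ ∀ x : M, μ (c g x) = μ x := by
        intro g
        rw [mem_inertia, funext_iff]
        refine forall_congr' fun x => ?_
        rw [Clifford.conjBy_apply]
        exact ⟨fun h => Units.ext h, fun h => congrArg Units.val h⟩
      have hvT : ∀ g, g ∈ T → v * g * v⁻¹ ∈ T := by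
        intro g hg
        rw [hTmem] at hg ⊢
        intro x
        rw [mul_assoc, ← hcc, hμv, ← hcc, hg]
        rw [← hμv, hcc, mul_inv_cancel, hc1]
      obtain ⟨S₀⟩ : Nonempty (Sylow 2 T) := inferInstance
      set S : Subgroup G := (S₀ : Subgroup T).map T.subtype
      have hST : S ≤ T := Subgroup.map_subtype_le _
      let e : T →* T :=
        { toFun := fun g => ⟨v * g * v⁻¹, hvT g g.2⟩
          map_one' := Subtype.ext (by simp)
          map_mul' := fun a b => Subtype.ext (by simp [mul_assoc]) }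
      have he : Function.Injective e := fun a b h =>
        Subtype.ext (by simpa [e] using congrArg Subtype.val h)
      have hnd : ¬ 2 ∣ ((S₀ : Subgroup T).map e).index := by
        rw [Subgroup.index_map_of_injective _ he,
          MonoidHom.range_eq_top.2 (Finite.injective_iff_surjective.1 he), Subgroup.index_top,
          mul_one]
        exact S₀.not_dvd_index
      obtain ⟨τ, hτ⟩ := MulAction.exists_smul_eq T ((S₀.isPGroup'.map e).toSylow hnd) S₀
      set t : G := (τ : G) * v with ht
      have htS : ∀ s ∈ S, t * s * t⁻¹ ∈ S := by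
        rintro - ⟨s, hs, rfl⟩
        refine ⟨MulAut.conj τ (e s), ?_, by simp [e, ht, mul_assoc]⟩
        have h1 : (S₀ : Subgroup T) = ((S₀ : Subgroup T).map e).map (MulAut.conj τ).toMonoidHom := by
          conv_lhs => rw [← hτ]
          rfl
        exact h1.symm ▸ Subgroup.mem_map_of_mem _ (Subgroup.mem_map_of_mem _ hs)
      have hodd : Odd ((M ⊔ S).relIndex T) := by
        rw [Nat.odd_iff, ← Nat.two_dvd_ne_zero]
        refine fun h => S₀.not_dvd_index (h.trans ?_)
        refine (Subgroup.relIndex_dvd_of_le_left _ le_sup_right).trans ?_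
        rw [Subgroup.relIndex, show S.subgroupOf T = (S₀ : Subgroup T) from
          Subgroup.comap_map_eq_self_of_injective T.subtype_injective _]
      have hdisj : M ⊓ S = ⊥ :=
        disjoint_iff.1 (IsPGroup.disjoint_of_ne p 2 hp M S hMp (S₀.isPGroup'.map _))
      obtain ⟨χ, hχr, hχ⟩ := exists_real_over_linear M μ T (fun g => mem_inertia) S hST hdisj hodd t
        (funext fun x => by
          rw [Clifford.conjBy_apply, linFun_inv]
          show ((μ (c t x) : ℂˣ) : ℂ) = ((μ x⁻¹ : ℂˣ) : ℂ)
          rw [ht, ← hcc, (hTmem τ).1 τ.2, hμv, map_inv]) htS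
      exact hμ1 (linear_trivial P M hMP χ (hreal χ hχr) μ hχ)
    set z : M := c u ⟨m, hm⟩ * (⟨m, hm⟩ : M)⁻¹ with hz
    have hzD : (z : G) ∈ (⁅M, M⁆ : Subgroup G) := by
      rw [← Subgroup.map_subtype_commutator]
      refine ⟨z, ?_, rfl⟩
      show z ∈ commutator M
      rw [← Abelianization.ker_of, MonoidHom.mem_ker]
      haveI : NeZero (Monoid.exponent (Abelianization M) : ℂ) :=
        ⟨Nat.cast_ne_zero.2 Monoid.exponent_ne_zero_of_finite⟩
      by_contra hne
      obtain ⟨ψ, hψ⟩ :=
        CommGroup.exists_apply_ne_one_of_hasEnoughRootsOfUnity (Abelianization M) ℂ hne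
      refine hψ ?_
      have := hall (ψ.comp Abelianization.of) ⟨m, hm⟩
      simp only [MonoidHom.comp_apply] at this
      rw [hz, map_mul, map_mul, this, map_inv, map_inv, mul_inv_cancel]
    have hzfix : u * (z : G) * u⁻¹ = z := hfixD _ hzD
    have hstep : ∀ j : ℕ, u ^ j * m * (u ^ j)⁻¹ = (z : G) ^ j * m := by
      intro j
      induction j with
      | zero => simp
      | succ j ihj =>
        have hum : u * m * u⁻¹ = (z : G) * m := by simp [hz, hc]
        rw [pow_succ', mul_inv_rev,
          show u * u ^ j * m * ((u ^ j)⁻¹ * u⁻¹) = u * (u ^ j * m * (u ^ j)⁻¹) * u⁻¹ by group, ihj,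
          show u * ((z : G) ^ j * m) * u⁻¹ = (u * (z : G) ^ j * u⁻¹) * (u * m * u⁻¹) by group, hum,
          ← conj_pow, hzfix, ← mul_assoc, ← pow_succ]
    have hz2 : (z : G) ^ 2 ^ k = 1 := by
      have := hstep (2 ^ k)
      rw [← hk, pow_orderOf_eq_one] at this
      simpa [hk] using this.symm
    have hz1 : (z : G) = 1 := by
      obtain ⟨a, ha⟩ := hMp z
      have ha' : (z : G) ^ p ^ a = 1 := congrArg Subtype.val ha
      have h3 := pow_gcd_eq_one.2 ⟨hz2, ha'⟩
      rwa [show Nat.gcd (2 ^ k) (p ^ a) = 1 from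
        Nat.Coprime.pow _ _ ((Nat.coprime_primes Nat.prime_two Fact.out).2 (Ne.symm hp)),
        pow_one] at h3
    have := hstep 1
    rw [pow_one, pow_one, hz1, one_mul] at this
    exact this

/-- Let p be an odd prime and G a finite group such that the subgroup generated by the p-elements of G is solvable and every real-valued irreducible complex character of G has degree prime to p. Let K be the subgroup generated by the 2-elements of G and P a Sylow p-subgroup of G. Then every normal subgroup M of G contained in K and in the derived subgroup of P is centralized by K. -/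
theorem result {G : Type*} [Group G] [Finite G] (p : ℕ) [Fact p.Prime] (hp : p ≠ 2) (hsolv : Group.IsSolvable ↥(Subgroup.closure {g : G | ∃ k : ℕ, orderOf g = p ^ k})) (hreal : ∀ χ : Cfsg.IrrCharacter G, (∀ g : G, ((χ : G → ℂ) g).im = 0) → ¬ p ∣ Cfsg.charDegree (χ : G → ℂ)) (P : Sylow p G) (M : Subgroup G) (hM : M.Normal) (hMK : M ≤ (Subgroup.closure {g : G | ∃ k : ℕ, orderOf g = 2 ^ k})) (hMP : M ≤ ⁅(P : Subgroup G), (P : Subgroup G)⁆) : (Subgroup.closure {g : G | ∃ k : ℕ, orderOf g = 2 ^ k}) ≤ Subgroup.centralizer (M : Set G) := by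
  haveI := hM
  rw [Subgroup.closure_le]
  rintro u ⟨k, hk⟩
  refine Subgroup.mem_centralizer_iff.2 fun m hm => ?_
  have := centralizes (G := G) hp hreal P _ M le_rfl hMP u k hk m hm
  rw [mul_inv_eq_iff_eq_mul] at this
  exact this.symm

end Cfsg.Agent.S4862
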