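import Cfsg.Statements.S4864
import Cfsg.Agent.Lib.CharTheory.RealPPrime.Bijection

set_option autoImplicit false
open Cfsg

namespace Cfsg.Agent.S4864

/-- Let p be a prime and G a finite group such that the subgroup generated by the p-elements of G is solvable and every real-valued irreducible complex character of G has degree prime to p. Then the normalizer of a Sylow p-subgroup of G contains an element of every real conjugacy class of G: every element conjugate to its inverse is conjugate to an element of that normalizer. -/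
theorem result {G : Type*} [Group G] [Finite G] (p : ℕ) [Fact p.Prime] (hsolv : Group.IsSolvable ↥(Subgroup.closure {g : G | ∃ k : ℕ, orderOf g = p ^ k})) (hreal : ∀ χ : Cfsg.IrrCharacter G, (∀ g : G, ((χ : G → ℂ) g).im = 0) → ¬ p ∣ Cfsg.charDegree (χ : G → ℂ)) (P : Sylow p G) (x : G) (hx : IsConj x x⁻¹) : ∃ y ∈ Subgroup.normalizer ((P : Subgroup G) : Set G), IsConj x y := by
  classical
  set K := Cfsg.Agent.CharTheory.RealPPrime.primeGen G 2
  have hodd : Odd K.index := Cfsg.Agent.CharTheory.RealPPrime.odd_index_primeGen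
  haveI hQ : ((P : Subgroup G) ⊓ K).Normal :=
    Cfsg.Agent.CharTheory.RealPPrime.inf_normal hsolv hreal P _ le_rfl
      ⟨0, by rw [Subgroup.relIndex_self, pow_zero]⟩
  set π := QuotientGroup.mk' ((P : Subgroup G) ⊓ K)
  have hπ : Function.Surjective π := QuotientGroup.mk'_surjective _
  set P' := P.mapSurjective hπ
  haveI : (K.map π).Normal := (inferInstance : K.Normal).map π hπ
  haveI := Fintype.ofFinite ↥(K.map π)
  haveI := Fintype.ofFinite ↥(Cfsg.Agent.CharTheory.RealPPrime.loc P' (K.map π))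
  have hbot : (P' : Subgroup (G ⧸ ((P : Subgroup G) ⊓ K))) ⊓ K.map π = ⊥ := by
    rw [Subgroup.eq_bot_iff_forall]
    rintro z ⟨⟨a, ha, hza⟩, ⟨b, hb, hzb⟩⟩
    have h1 : a⁻¹ * b ∈ (P : Subgroup G) ⊓ K :=
      (QuotientGroup.eq).1 (show π a = π b by rw [hza, hzb])
    rw [← hzb]
    refine (QuotientGroup.eq_one_iff b).2 ⟨?_, hb⟩
    have := (P : Subgroup G).mul_mem ha h1.1
    rwa [mul_inv_cancel_left] at this
  have hx' : IsConj (π x) (π x)⁻¹ := by rw [← map_inv]; exact π.map_isConj hx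
  obtain ⟨y, hy, hxy⟩ := Cfsg.Agent.CharTheory.RealPPrime.meets P' (K.map π)
    (hodd.of_dvd_nat (Subgroup.index_map_dvd _ hπ)) hbot
    (Cfsg.Agent.CharTheory.RealPPrime.realPP_quotient hreal _) hx'
  obtain ⟨c, hc⟩ := isConj_iff.1 hxy
  obtain ⟨g, rfl⟩ := hπ c
  rw [← map_inv, ← map_mul, ← map_mul] at hc
  refine ⟨g * x * g⁻¹, ?_, isConj_iff.2 ⟨g, rfl⟩⟩
  have hall : ∀ r ∈ (P : Subgroup G),
      g * x * g⁻¹ * r * (g * x * g⁻¹)⁻¹ ∈ (P : Subgroup G) := by
    intro r hr
    have h1 : π (g * x * g⁻¹) * π r * (π (g * x * g⁻¹))⁻¹ ∈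
        (P' : Subgroup (G ⧸ ((P : Subgroup G) ⊓ K))) := by
      rw [hc]
      exact (Subgroup.mem_normalizer_iff.1 hy (π r)).1 (Subgroup.mem_map_of_mem π hr)
    rw [← map_inv, ← map_mul, ← map_mul] at h1
    obtain ⟨r', hr', hrr⟩ := h1
    have h2 := (QuotientGroup.eq).1 hrr
    have := (P : Subgroup G).mul_mem hr' h2.1
    rwa [mul_inv_cancel_left] at this
  rw [Subgroup.mem_normalizer_iff]
  exact fun z => ⟨hall z, Cfsg.Agent.CharTheory.RealPPrime.mem_of_conj_mem _ _ hall⟩

end Cfsg.Agent.S4864
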