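import Cfsg.Statements.S4866
import Mathlib
import Cfsg.Agent.BlocksChars.RealOrbits
-- import your own Cfsg.Agent.* helpers here

set_option autoImplicit false
open Cfsg

namespace Cfsg.Agent.S4866

open Cfsg.Agent.BlocksChars.RealOrbits Cfsg.Agent.Characters
open scoped ComplexConjugate

/-- Let K be a normal subgroup of odd index in the finite group G. Then G has as many orbits on the real-valued irreducible complex characters of K (acting by conjugation) as it has orbits on the conjugacy classes of K that are real in K; equivalently, the number of G-orbits of real-valued irreducible characters of K equals the number of G-conjugacy classes of elements of K that are conjugate in K to their inverses. -/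
theorem result {G : Type*} [Group G] [Finite G] (K : Subgroup G) [K.Normal] (hodd : Odd K.index) : Nat.card (Quot (fun θ η : {θ : Cfsg.IrrCharacter ↥K // (∀ k : ↥K, ((θ : ↥K → ℂ) k).im = 0)} => ∃ g : G, ∀ k k' : ↥K, (k' : G) = g * (k : G) * g⁻¹ → (η.1 : ↥K → ℂ) k' = (θ.1 : ↥K → ℂ) k)) = Nat.card (Quot (fun x y : {x : ↥K // IsConj x x⁻¹} => ∃ g : G, (y.1 : G) = g * x.1 * g⁻¹)) := by
  classical
  let X : Type _ := Real' (G := G) (Cfsg.IrrCharacter ↥K)
  let Y : Type _ := Real' (G := G) (ConjClasses ↥K)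
  have hXY : Nat.card (MulAction.orbitRel.Quotient G X) =
      Nat.card (MulAction.orbitRel.Quotient G Y) := by
    refine card_orbits_eq fun g => ?_
    rw [card_fixedBy_real K _ hodd (smul_irr_of_mem K) g,
      card_fixedBy_real K _ hodd (smul_class_of_mem K) g, card_fixedBy_eq]
  have hreal : ∀ χ : Cfsg.IrrCharacter ↥K,
      (((1 : G), (-1 : ℤˣ)) • χ = χ) ↔ ∀ k : ↥K, ((χ : ↥K → ℂ) k).im = 0 := by
    intro χ
    have h : ∀ k : ↥K, ((((1 : G), (-1 : ℤˣ)) • χ : Cfsg.IrrCharacter ↥K) : ↥K → ℂ) k =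
        conj ((χ : ↥K → ℂ) k) := by
      intro k
      rw [irr_smul_apply, ← char_inv (irr_isCharacter χ)]
      congr 1
      simp [tw]
    constructor
    · intro e k
      exact Complex.conj_eq_iff_im.1 (by rw [← h k, e])
    · intro e
      exact Subtype.ext (funext fun k => by rw [h k, Complex.conj_eq_iff_im.2 (e k)])
  have hclass : ∀ k : ↥K,
      (((1 : G), (-1 : ℤˣ)) • ConjClasses.mk k = ConjClasses.mk k) ↔ IsConj k k⁻¹ := by
    intro k
    rw [smul_mk, ConjClasses.mk_eq_mk_iff_isConj,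
      show tw K ((1 : G), (-1 : ℤˣ)) k = k⁻¹ by simp [tw]]
    exact isConj_comm
  have e1 : Nat.card (Quot (fun θ η : {θ : Cfsg.IrrCharacter ↥K //
      (∀ k : ↥K, ((θ : ↥K → ℂ) k).im = 0)} => ∃ g : G, ∀ k k' : ↥K,
        (k' : G) = g * (k : G) * g⁻¹ → (η.1 : ↥K → ℂ) k' = (θ.1 : ↥K → ℂ) k)) =
      Nat.card (MulAction.orbitRel.Quotient G X) := by
    refine Nat.card_congr (Quot.congr (Equiv.subtypeEquivRight fun χ => (hreal χ).symm) ?_)
    intro θ η
    rw [MulAction.orbitRel_apply, MulAction.mem_orbit_iff]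
    constructor
    · rintro ⟨g, hg⟩
      refine ⟨g⁻¹, Subtype.ext ?_⟩
      refine Subtype.ext (funext fun k => ?_)
      rw [restricted_smul_coe, irr_smul_apply]
      refine (hg k _ ?_)
      simp [tw]
    · rintro ⟨g, hg⟩
      refine ⟨g⁻¹, fun k k' hk => ?_⟩
      have h : (((g, (1 : ℤˣ)) • (Equiv.subtypeEquivRight (fun χ => (hreal χ).symm) η).1 :
          Cfsg.IrrCharacter ↥K) : ↥K → ℂ) k = (θ.1 : ↥K → ℂ) k :=
        congrFun (congrArg Subtype.val (congrArg Subtype.val hg)) k
      rw [irr_smul_apply] at h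
      refine Eq.trans ?_ h
      refine congrArg _ (Subtype.ext ?_)
      simp [tw, hk]
  have e2 : Nat.card (Quot (fun x y : {x : ↥K // IsConj x x⁻¹} => ∃ g : G,
      (y.1 : G) = g * x.1 * g⁻¹)) = Nat.card (MulAction.orbitRel.Quotient G Y) := by
    let f : {x : ↥K // IsConj x x⁻¹} → MulAction.orbitRel.Quotient G Y := fun x =>
      Quotient.mk'' (⟨ConjClasses.mk x.1, (hclass x.1).2 x.2⟩ : Y)
    refine Nat.card_congr (Equiv.ofBijective (Quot.lift f fun x y ⟨g, hg⟩ => ?_) ⟨?_, ?_⟩)
    · refine Quotient.sound' ?_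
      rw [MulAction.orbitRel_apply, MulAction.mem_orbit_iff]
      refine ⟨g⁻¹, Subtype.ext ?_⟩
      show (g⁻¹, (1 : ℤˣ)) • ConjClasses.mk y.1 = ConjClasses.mk x.1
      rw [smul_mk]
      refine congrArg ConjClasses.mk (Subtype.ext ?_)
      simp [tw, hg, mul_assoc]
    · intro a b
      refine Quot.induction_on₂ a b fun x y h => ?_
      have h' := Quotient.exact' h
      rw [MulAction.orbitRel_apply, MulAction.mem_orbit_iff] at h'
      obtain ⟨g, hg⟩ := h'
      have h2 : (g, (1 : ℤˣ)) • ConjClasses.mk y.1 = ConjClasses.mk x.1 := congrArg Subtype.val hg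
      rw [smul_mk, ConjClasses.mk_eq_mk_iff_isConj] at h2
      obtain ⟨c, hc⟩ := isConj_iff.1 h2
      refine (Quot.sound ?_).symm
      refine ⟨(c : G) * g, ?_⟩
      rw [← hc]
      simp [tw, mul_assoc]
    · intro q
      refine Quotient.inductionOn' q fun y => ?_
      obtain ⟨k, hk⟩ := ConjClasses.mk_surjective y.1
      refine ⟨Quot.mk _ ⟨k, (hclass k).1 (by rw [hk]; exact y.2)⟩, ?_⟩
      exact congrArg Quotient.mk'' (Subtype.ext hk)
  exact e1.trans (hXY.trans e2.symm)

end Cfsg.Agent.S4866
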