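import Cfsg.Statements.S4870
import Mathlib
import Cfsg.Agent.BlocksChars.LinearTwist
-- import your own Cfsg.Agent.* helpers here

set_option autoImplicit false
open Cfsg

namespace Cfsg.Agent.S4870

open Cfsg.Agent.BlocksChars.LinearTwist Cfsg.Agent.BlocksChars.Degrees Cfsg.Agent.CharTheory

/-- Let G be a finite group with a non-abelian minimal normal subgroup N, and let φ be an irreducible complex character of N with stabilizer I in G (the elements g with φ(g n g⁻¹) = φ(n) for all n ∈ N) such that φ extends to an irreducible character of I. Put d = φ(1)·[G : I]. Then the number of linear characters of G is at most [G : I] times the number of irreducible characters of G of degree d. -/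
theorem result {G : Type*} [Group G] [Finite G] (N : Subgroup G) (hN : N.Normal) (hN1 : N ≠ ⊥) (hmin : ∀ M : Subgroup G, M.Normal → M ≤ N → M = ⊥ ∨ M = N) (hna : ¬ IsMulCommutative ↥N) (φ : Cfsg.IrrCharacter ↥N) (I : Subgroup G) (hI : ∀ g : G, g ∈ I ↔ ∀ n n' : ↥N, (n' : G) = g * (n : G) * g⁻¹ → (φ : ↥N → ℂ) n' = (φ : ↥N → ℂ) n) (hNI : N ≤ I) (hext : ∃ ψ : Cfsg.IrrCharacter ↥I, ∀ n : ↥N, (ψ : ↥I → ℂ) (Subgroup.inclusion hNI n) = (φ : ↥N → ℂ) n) : Nat.card {χ : Cfsg.IrrCharacter G // Cfsg.charDegree (χ : G → ℂ) = 1} ≤ I.index * Nat.card {χ : Cfsg.IrrCharacter G // Cfsg.charDegree (χ : G → ℂ) = Cfsg.charDegree (φ : ↥N → ℂ) * I.index} := by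
  classical
  haveI := hN
  haveI := Fintype.ofFinite G
  obtain ⟨ψ, hψ⟩ := hext
  have hψ' : (fun n : N => (ψ : I → ℂ) (Subgroup.inclusion hNI n)) = (φ : N → ℂ) := funext hψ
  have hI' : ∀ g : G, g ∈ I ↔ Clifford.conjBy N g (φ : N → ℂ) = (φ : N → ℂ) := by
    intro g
    rw [hI]
    constructor
    · intro h
      funext n
      exact h n _ rfl
    · intro h n n' hn
      rw [← congrFun h n, Clifford.conjBy_apply]
      exact congrArg _ (Subtype.ext hn)
  refine card_linear_le hI' hψ' (commutator_eq_self hmin hna) _ _ (fun l hl => ?_) fun l hl χ hχ => ?_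
  · rw [← charDegree_cast l, hl, Nat.cast_one]
  · obtain ⟨-, h1, -, -⟩ := induced_irr hI' hψ'
    have h2 : ((Cfsg.charDegree (χ : G → ℂ) : ℕ) : ℂ) =
        ((Cfsg.charDegree (φ : N → ℂ) * I.index : ℕ) : ℂ) := by
      rw [charDegree_cast, hχ, Pi.mul_apply, h1, ← charDegree_cast l, hl, Nat.cast_one, mul_one]
    exact_mod_cast h2

end Cfsg.Agent.S4870
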