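import Cfsg.Statements.S4871
import Cfsg.Agent.Lib.Characters.Induction
import Cfsg.Agent.Lib.Characters.Kernel
import Cfsg.Agent.Lib.CharTheory.Basics
import Cfsg.Agent.Lib.Blocks.Defect
set_option linter.style.haveILetI false

set_option autoImplicit false
open Cfsg

namespace Cfsg.Agent.S4871

open Cfsg.Agent.Characters
open scoped ComplexConjugate

universe u

theorem linear_indicator {G : Type u} [Group G] [Fintype G] (f : G →* ℂˣ)
    (h : (Nat.card G : ℂ)⁻¹ * ∑ g : G, (f (g * g) : ℂ) = 1) (g : G) : f (g * g) = 1 := by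
  rw [inv_mul_eq_iff_eq_mul₀ (Nat.cast_ne_zero.2 Nat.card_pos.ne'), mul_one] at h
  have h1 := congrArg Complex.re h
  rw [Complex.re_sum, Complex.natCast_re] at h1
  have hle : ∀ g : G, (f (g * g) : ℂ).re ≤ 1 := fun g =>
    (Complex.re_le_norm _).trans (linear_norm_eq_one f _).le
  have h2 : ∑ g : G, (1 - (f (g * g) : ℂ).re) = 0 := by
    rw [Finset.sum_sub_distrib, h1, Finset.sum_const, Finset.card_univ, nsmul_eq_mul, mul_one,
      Nat.card_eq_fintype_card, sub_self]
  have h3 := (Finset.sum_eq_zero_iff_of_nonneg fun g _ => sub_nonneg.2 (hle g)).1 h2 g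
    (Finset.mem_univ _)
  have hre : (f (g * g) : ℂ).re = 1 := by linarith
  refine Units.ext (Complex.ext (by simpa using hre) ?_)
  have h5 := Complex.sq_norm (f (g * g) : ℂ)
  rw [linear_norm_eq_one f, Complex.normSq_apply, hre] at h5
  have h6 : (f (g * g) : ℂ).im * (f (g * g) : ℂ).im = 0 := by linarith
  simpa using mul_self_eq_zero.1 h6

/-- At most index many linear characters share a restriction. -/
theorem card_fibre_le {G : Type u} [Group G] [Fintype G] (H : Subgroup G) (f : H →* ℂˣ)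
    (S : Finset (Cfsg.IrrCharacter G))
    (hS : ∀ χ ∈ S, ∀ h : H, (χ : G → ℂ) h = (f h : ℂ)) : S.card ≤ H.index := by
  classical
  haveI := Fintype.ofFinite H
  haveI := Fintype.ofFinite (Cfsg.IrrCharacter G)
  set μ : H → ℂ := fun h => (f h : ℂ) with hμ
  have hμi : Cfsg.IsIrrCharacter H μ := isIrrCharacter_linear f
  set I := Cfsg.indFun H μ
  have hIc : Cfsg.IsCharacter G I := isCharacter_indFun H (isCharacter_of_isIrr hμi)
  choose m hm using fun χ : Cfsg.IrrCharacter G => classInner_char_nat hIc (irr_isCharacter χ)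
  have h1 := congrFun (classFun_eq_sum (char_isClassFunction hIc)) 1
  simp only [Finset.sum_apply, Pi.smul_apply, smul_eq_mul, hm] at h1
  rw [show I 1 = (H.index : ℂ) by simp [I, indFun_one, hμ]] at h1
  simp only [← Blocks.charDegree_cast, ← Nat.cast_mul, ← Nat.cast_sum, Nat.cast_inj] at h1
  rw [h1, Finset.card_eq_sum_ones]
  refine (Finset.sum_le_sum fun χ hχ => ?_).trans
    (Finset.sum_le_sum_of_subset (Finset.subset_univ S))
  have : m χ = 1 := by
    have h2 := hm χ
    rw [frobenius_reciprocity H μ (irr_isClassFunction χ),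
      show (fun h : H => (χ : G → ℂ) h) = μ from funext (hS χ hχ), classInner_isIrr_self hμi] at h2
    exact_mod_cast h2.symm
  rw [this, one_mul]
  exact Blocks.charDegree_pos χ

/-- Let G be a finite group that is the semidirect product of a normal elementary abelian subgroup N of odd order by a non-trivial 2-subgroup P, with N the unique minimal normal subgroup of G. Consider the strongly real irreducible complex characters of G (Frobenius–Schur indicator +1) whose degree is 1 or even. Then their average degree is at least 4/3: four times their number is at most three times the sum of their degrees. -/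
theorem result {G : Type*} [Group G] [Finite G] (N P : Subgroup G) (hN : N.Normal) (q : ℕ) [Fact q.Prime] (hq : q ≠ 2) (hNel : Cfsg.IsElementaryAbelian q N) (hP : IsPGroup 2 ↥P) (hP1 : P ≠ ⊥) (hdisj : N ⊓ P = ⊥) (hprod : N ⊔ P = ⊤) (hmin : N ≠ ⊥ ∧ ∀ M : Subgroup G, M.Normal → M ≠ ⊥ → N ≤ M) : 4 * Nat.card {χ : Cfsg.IrrCharacter G // (Cfsg.charDegree (χ : G → ℂ) = 1 ∨ 2 ∣ Cfsg.charDegree (χ : G → ℂ)) ∧ (Nat.card G : ℂ)⁻¹ * ∑ᶠ g : G, (χ : G → ℂ) (g * g) = 1} ≤ 3 * (∑ᶠ χ : {χ : Cfsg.IrrCharacter G // (Cfsg.charDegree (χ : G → ℂ) = 1 ∨ 2 ∣ Cfsg.charDegree (χ : G → ℂ)) ∧ (Nat.card G : ℂ)⁻¹ * ∑ᶠ g : G, (χ : G → ℂ) (g * g) = 1}, Cfsg.charDegree (χ.1 : G → ℂ)) := by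
  classical
  haveI := Fintype.ofFinite G
  haveI := Fintype.ofFinite (Cfsg.IrrCharacter G)
  haveI := hN
  haveI : Fact (Nat.Prime 2) := ⟨Nat.prime_two⟩
  have hq' : q.Prime := Fact.out
  have hqodd : Odd q := hq'.odd_of_ne_two hq
  have hNab : ∀ a ∈ N, ∀ b ∈ N, a * b = b * a := fun a ha b hb => by
    have := hNel.1
    exact congrArg Subtype.val (this.is_comm.comm ⟨a, ha⟩ ⟨b, hb⟩)
  have hNexp : ∀ a ∈ N, a ^ q = 1 := hNel.2
  have hodd1 : ∀ a : G, a ^ q = 1 → a * a = 1 → a = 1 := by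
    intro a ha ha2
    obtain ⟨k, hk⟩ := hqodd
    rw [hk, pow_succ, pow_mul, sq, ha2, one_pow, one_mul] at ha
    exact ha
  -- a central involution of `P` inverts `N`
  haveI : Group.IsNilpotent P := hP.isNilpotent
  haveI : Nontrivial P := (Subgroup.nontrivial_iff_ne_bot P).2 hP1
  haveI : Nontrivial (Subgroup.center P) := hP.center_nontrivial
  obtain ⟨w, hw⟩ : ∃ w : Subgroup.center P, orderOf w = 2 := by
    refine exists_prime_orderOf_dvd_card' 2 ?_
    obtain ⟨k, hk⟩ := (hP.to_subgroup (Subgroup.center P)).exists_card_eq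
    rcases Nat.eq_zero_or_pos k with rfl | hk0
    · exact absurd hk (Finite.one_lt_card).ne'
    · rw [hk]; exact dvd_pow_self 2 hk0.ne'
  set z : G := ((w : P) : G) with hz
  have hzP : z ∈ P := (w : P).2
  have hzo : orderOf z = 2 := by rw [hz, Subgroup.orderOf_coe, Subgroup.orderOf_coe, hw]
  have hzz : z * z = 1 := by rw [← sq, ← hzo, pow_orderOf_eq_one]
  have hzinv : z⁻¹ = z := inv_eq_of_mul_eq_one_right hzz
  have hzc : ∀ s ∈ P, z * s = s * z := fun s hs =>
    congrArg Subtype.val (Subgroup.mem_center_iff.1 w.2 ⟨s, hs⟩).symm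
  have hdec : ∀ g : G, ∃ n ∈ N, ∃ s ∈ P, n * s = g := fun g =>
    Subgroup.mem_sup_of_normal_left.1 (hprod ▸ Subgroup.mem_top g)
  have huniq : ∀ n n' s s' : G, n ∈ N → n' ∈ N → s ∈ P → s' ∈ P → n * s = n' * s' →
      n = n' ∧ s = s' := by
    intro n n' s s' hn hn' hs hs' h
    have h1 : n'⁻¹ * n = 1 := (Subgroup.eq_bot_iff_forall _).1 hdisj _
      ⟨N.mul_mem (N.inv_mem hn') hn, by
        rw [show n'⁻¹ * n = s' * s⁻¹ by
          rw [eq_mul_inv_iff_mul_eq, mul_assoc, h, inv_mul_cancel_left]]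
        exact P.mul_mem hs' (P.inv_mem hs)⟩
    have h2 : n = n' := (inv_mul_eq_one.1 h1).symm
    exact ⟨h2, mul_left_cancel (h2 ▸ h)⟩
  set Cz : Subgroup G := N ⊓ Subgroup.centralizer ({z} : Set G) with hCz
  have hCzn : Cz.Normal := ⟨fun a ha g => by
    obtain ⟨n, hn, s, hs, rfl⟩ := hdec g
    have h1 : s * a * s⁻¹ ∈ N := hN.conj_mem a ha.1 s
    have h2 : n * s * a * (n * s)⁻¹ = s * a * s⁻¹ := by
      calc n * s * a * (n * s)⁻¹ = n * (s * a * s⁻¹) * n⁻¹ := by group
        _ = s * a * s⁻¹ := by rw [hNab n hn _ h1, mul_inv_cancel_right]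
    rw [h2]
    refine ⟨h1, Subgroup.mem_centralizer_singleton_iff.2 ?_⟩
    have h3 := Subgroup.mem_centralizer_singleton_iff.1 ha.2
    calc s * a * s⁻¹ * z = s * a * (z * s⁻¹) := by rw [hzc _ (P.inv_mem hs)]; group
      _ = s * (a * z) * s⁻¹ := by group
      _ = s * (z * a) * s⁻¹ := by rw [h3]
      _ = z * (s * a * s⁻¹) := by
          rw [show s * (z * a) * s⁻¹ = s * z * a * s⁻¹ by group, ← hzc s hs]; group⟩
  have hCz1 : Cz = ⊥ := by
    by_contra hne
    have hle := (hmin.2 Cz hCzn hne).trans inf_le_right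
    have hzn : (Subgroup.zpowers z).Normal := ⟨fun a ha g => by
      obtain ⟨k, rfl⟩ := Subgroup.mem_zpowers_iff.1 ha
      obtain ⟨n, hn, s, hs, rfl⟩ := hdec g
      have hc : Commute (n * s) z :=
        Commute.mul_left (Subgroup.mem_centralizer_singleton_iff.1 (hle hn)) (hzc s hs).symm
      rw [(hc.zpow_right k).eq, mul_inv_cancel_right]
      exact zpow_mem (Subgroup.mem_zpowers z) k⟩
    have hzb : Subgroup.zpowers z ≠ ⊥ := fun h => by
      rw [Subgroup.zpowers_eq_bot] at h
      simp [h] at hzo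
    have hle2 := hmin.2 _ hzn hzb
    apply hmin.1
    rw [Subgroup.eq_bot_iff_forall]
    intro a ha
    refine hodd1 a (hNexp a ha) ?_
    obtain ⟨k, rfl⟩ := Subgroup.mem_zpowers_iff.1 (hle2 ha)
    rw [← (Commute.refl z).mul_zpow, hzz, one_zpow]
  have hinv : ∀ n ∈ N, z * n * z = n⁻¹ := by
    intro n hn
    have hm : z * n * z ∈ N := by simpa [hzinv] using hN.conj_mem n hn z
    have h1 : n * (z * n * z) = 1 := by
      refine (Subgroup.eq_bot_iff_forall _).1 hCz1 _ ⟨N.mul_mem hn hm, ?_⟩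
      show n * (z * n * z) ∈ Subgroup.centralizer ({z} : Set G)
      rw [Subgroup.mem_centralizer_singleton_iff]
      calc n * (z * n * z) * z = n * (z * n) * (z * z) := by group
        _ = n * (z * n) := by rw [hzz, mul_one]
        _ = (z * z) * n * (z * n * z) * z := by
            rw [hzz, one_mul, mul_assoc n, mul_assoc _ z z, hzz, mul_one]
        _ = z * ((z * n * z) * n * z * z) := by group
        _ = z * (n * (z * n * z)) := by rw [hNab _ hm n hn, mul_assoc _ z z, hzz, mul_one]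
    exact (inv_eq_of_mul_eq_one_right h1).symm
  -- a nontrivial linear character of `N`
  obtain ⟨n₀, hn₀, hn₀1⟩ : ∃ n ∈ N, n ≠ 1 := by
    by_contra hh
    push Not at hh
    exact hmin.1 ((Subgroup.eq_bot_iff_forall _).2 hh)
  obtain ⟨lc, hlc, hlne⟩ := exists_irr_ne (G := N) (g := ⟨n₀, hn₀⟩)
    (fun h => hn₀1 (congrArg Subtype.val h))
  have hlc1 : lc 1 = 1 :=
    irr_degree_one_of_comm (fun a b => Subtype.ext (hNab a a.2 b b.2)) hlc
  set lam : N →* ℂˣ := linearOfDegreeOne (isCharacter_of_isIrr hlc) hlc1 with hlam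
  have hlamne : lam ⟨n₀, hn₀⟩ ≠ 1 := fun h => hlne (by
    rw [hlc1, ← linearOfDegreeOne_apply (isCharacter_of_isIrr hlc) hlc1, ← hlam, h, Units.val_one])
  have hcj : ∀ (x : G) (n : N), x * n * x⁻¹ ∈ N := fun x n => hN.conj_mem n n.2 x
  let H : Subgroup G :=
    { carrier := {x | ∀ n : N, lam ⟨x * n * x⁻¹, hcj x n⟩ = lam n}
      one_mem' := fun n => congrArg lam (Subtype.ext (by simp))
      mul_mem' := fun {a b} ha hb n => by
        rw [← hb n, ← ha ⟨b * n * b⁻¹, hcj b n⟩]
        exact congrArg lam (Subtype.ext (by simp [mul_assoc]))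
      inv_mem' := fun {a} ha n => by
        rw [← ha ⟨a⁻¹ * n * a⁻¹⁻¹, hcj _ n⟩]
        exact congrArg lam (Subtype.ext (by simp [mul_assoc])) }
  have hHmem : ∀ x, x ∈ H ↔ ∀ n : N, lam ⟨x * n * x⁻¹, hcj x n⟩ = lam n := fun x => Iff.rfl
  have hNH : N ≤ H := fun a ha => (hHmem a).2 fun n => congrArg lam (Subtype.ext (by
    show a * n * a⁻¹ = n
    rw [hNab a ha n n.2, mul_inv_cancel_right]))
  have hzH : z ∉ H := by
    intro hzH
    have h1 := (hHmem z).1 hzH ⟨n₀, hn₀⟩
    have e : (⟨z * n₀ * z⁻¹, hcj z ⟨n₀, hn₀⟩⟩ : N) = ⟨n₀, hn₀⟩⁻¹ :=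
      Subtype.ext (by rw [Subgroup.coe_inv]; simp [hzinv, hinv n₀ hn₀])
    rw [e, map_inv] at h1
    apply hlamne
    have h2 : lam ⟨n₀, hn₀⟩ ^ q = 1 := by
      rw [← map_pow, show (⟨n₀, hn₀⟩ : N) ^ q = 1 from Subtype.ext (hNexp n₀ hn₀), map_one]
    obtain ⟨k, hk⟩ := hqodd
    rw [hk, pow_succ, pow_mul, sq] at h2
    rw [inv_eq_iff_mul_eq_one] at h1
    rwa [h1, one_pow, one_mul] at h2
  haveI := Fintype.ofFinite H
  set d := H.index with hd
  have hd2 : 2 ∣ d := by
    have hsub : P.index * Nat.card P = N.index * Nat.card N := by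
      rw [mul_comm, P.card_mul_index, mul_comm, N.card_mul_index]
    have hNi : N.index = Nat.card P := (Subgroup.isComplement'_of_disjoint_and_mul_eq_univ
      (disjoint_iff.2 hdisj) (by rw [← Subgroup.normal_mul, hprod, Subgroup.coe_top])).symm.index_eq_card
    obtain ⟨k, hk⟩ := hP.exists_card_eq
    obtain ⟨j, -, hj⟩ := (Nat.dvd_prime_pow Nat.prime_two).1
      (hk ▸ hNi ▸ Subgroup.index_dvd_of_le hNH)
    rcases j with _ | j
    · exact absurd ((Subgroup.index_eq_one.1 (by simpa using hj)) ▸ Subgroup.mem_top z) hzH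
    · rw [hd, hj]; exact dvd_pow_self 2 (Nat.succ_ne_zero j)
  -- the characters of `H` over `lam`
  choose π hπN σ hσP hπσ using hdec
  have hπn : ∀ n ∈ N, π n = n := fun n hn =>
    (huniq _ n _ 1 (hπN n) hn (hσP n) (one_mem _) (by rw [hπσ, mul_one])).1
  have hσH : ∀ h : H, σ h ∈ H := fun h => by
    have := H.mul_mem (H.inv_mem (hNH (hπN h))) h.2
    rwa [inv_mul_eq_iff_eq_mul.2 (hπσ h).symm] at this
  let lext : H →* ℂˣ := MonoidHom.mk' (fun h => lam ⟨π h, hπN h⟩) fun a b => by
    have h1 : π ((a * b : H) : G) = π a * (σ a * π b * (σ a)⁻¹) := by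
      refine (huniq _ _ (σ ((a * b : H) : G)) (σ a * σ b) (hπN _)
        (N.mul_mem (hπN a) (hN.conj_mem _ (hπN b) _)) (hσP _) (P.mul_mem (hσP a) (hσP b)) ?_).1
      rw [hπσ, Subgroup.coe_mul]
      conv_lhs => rw [← hπσ a, ← hπσ b]
      group
    rw [← (hHmem (σ a)).1 (hσH a) ⟨π b, hπN b⟩, ← map_mul]
    exact congrArg lam (Subtype.ext h1)
  let B := {β : H →* ℂˣ // ∀ h, β (h * h) = 1}
  haveI : Finite (H →* ℂˣ) := Nat.finite_of_card_ne_zero (by
    rw [card_linear_hom]; exact Subgroup.index_ne_zero_of_finite)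
  haveI : Fintype B := Fintype.ofFinite B
  have hβN : ∀ (β : B) (h : H), (h : G) ∈ N → β.1 h = 1 := by
    intro β h hh
    obtain ⟨k, hk⟩ := hqodd
    have h1 : β.1 h ^ q = 1 := by
      rw [← map_pow, show h ^ q = 1 from Subtype.ext (hNexp h hh), map_one]
    have h2 := β.2 h
    rw [map_mul] at h2
    rwa [hk, pow_succ, pow_mul, sq, h2, one_pow, one_mul] at h1
  let mu : B → H → ℂ := fun β h => ((lext * β.1) h : ℂ)
  have hmu : ∀ β, Cfsg.IsIrrCharacter H (mu β) := fun β => isIrrCharacter_linear _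
  have hmuN : ∀ (β : B) (m : N), mu β ⟨m, hNH m.2⟩ = (lam m : ℂ) := by
    intro β m
    show ((lext ⟨m, hNH m.2⟩ * β.1 ⟨m, hNH m.2⟩ : ℂˣ) : ℂ) = _
    rw [hβN β _ m.2, mul_one]
    exact congrArg (fun u => (lam u : ℂ)) (Subtype.ext (hπn m m.2))
  -- translating by `N`
  have hshift : ∀ (β : B) (g : G) (m : N), Cfsg.extendByZero H (mu β) (g * m) =
      Cfsg.extendByZero H (mu β) g * (lam m : ℂ) := by
    intro β g m
    by_cases hg : g ∈ H
    · rw [CharTheory.IndBasic.extendByZero_of_mem H _ (H.mul_mem hg (hNH m.2)),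
        CharTheory.IndBasic.extendByZero_of_mem H _ hg,
        show (⟨g * m, H.mul_mem hg (hNH m.2)⟩ : H) = ⟨g, hg⟩ * ⟨m, hNH m.2⟩ from rfl]
      show (((lext * β.1) _ : ℂˣ) : ℂ) = _
      rw [map_mul, Units.val_mul]
      exact congrArg _ (hmuN β m)
    · rw [CharTheory.IndBasic.extendByZero_of_notMem H _ hg,
        CharTheory.IndBasic.extendByZero_of_notMem H _ fun h => hg
          (by simpa using H.mul_mem h (H.inv_mem (hNH m.2))), zero_mul]
  -- inner products
  have hinner : ∀ β β' : B, Cfsg.classInner (Cfsg.indFun H (mu β)) (Cfsg.indFun H (mu β')) =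
      if β = β' then 1 else 0 := by
    intro β β'
    have hH0 : (Nat.card H : ℂ) ≠ 0 := Nat.cast_ne_zero.2 Nat.card_pos.ne'
    rw [frobenius_reciprocity H _ (indFun_isClassFunction H _)]
    have key : (Nat.card H : ℂ) * Cfsg.classInner (mu β)
        (fun h : H => Cfsg.indFun H (mu β') h) = (Nat.card H : ℂ) * Cfsg.classInner (mu β) (mu β') := by
      rw [classInner_def, classInner_def, mul_inv_cancel_left₀ hH0, mul_inv_cancel_left₀ hH0]
      apply mul_left_cancel₀ hH0
      have e : ∀ h : H, (Nat.card H : ℂ) * (mu β h * conj (Cfsg.indFun H (mu β') h)) =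
          ∑ x : G, mu β h * conj (Cfsg.extendByZero H (mu β') (x⁻¹ * h * x)) := fun h => by
        rw [← Finset.mul_sum, ← map_sum, ← CharTheory.IndBasic.card_mul_indFun, map_mul,
          Complex.conj_natCast]
        ring
      rw [Finset.mul_sum, Finset.sum_congr rfl fun h _ => e h, Finset.sum_comm,
        Finset.mul_sum, ← Finset.sum_filter_add_sum_filter_not Finset.univ (· ∈ H),
        Finset.sum_eq_zero (s := Finset.univ.filter (fun x => ¬ x ∈ H)) ?_, add_zero]
      · rw [Finset.sum_congr rfl (g := fun _ => ∑ h : H, mu β h * conj (mu β' h)) fun x hx => ?_,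
          Finset.sum_const, nsmul_eq_mul, Finset.mul_sum]
        · refine Finset.sum_congr rfl fun i _ => ?_
          congr 2
          rw [Nat.card_eq_fintype_card, Fintype.card_subtype]
        · refine Finset.sum_congr rfl fun h _ => ?_
          have hxH := (Finset.mem_filter.1 hx).2
          rw [CharTheory.IndBasic.extendByZero_of_mem H _
            (H.mul_mem (H.mul_mem (H.inv_mem hxH) h.2) hxH)]
          congr 2
          have := char_isClassFunction (isCharacter_of_isIrr (hmu β')) h (⟨x, hxH⟩⁻¹)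
          rw [inv_inv] at this
          exact this
      · intro x hx
        have hxH : x⁻¹ ∉ H := fun h => (Finset.mem_filter.1 hx).2 (inv_mem_iff.1 h)
        rw [hHmem] at hxH
        push Not at hxH
        obtain ⟨m, hm⟩ := hxH
        set m' : N := ⟨x⁻¹ * m * x⁻¹⁻¹, hcj _ m⟩ with hm'
        have hS : ∑ h : H, mu β h * conj (Cfsg.extendByZero H (mu β') (x⁻¹ * h * x)) =
            ((lam m : ℂ) * conj (lam m' : ℂ)) *
              ∑ h : H, mu β h * conj (Cfsg.extendByZero H (mu β') (x⁻¹ * h * x)) := by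
          conv_lhs => rw [← Equiv.sum_comp (Equiv.mulRight (⟨m, hNH m.2⟩ : H))]
          rw [Finset.mul_sum]
          refine Finset.sum_congr rfl fun h _ => ?_
          have e1 : mu β (h * ⟨m, hNH m.2⟩) = mu β h * (lam m : ℂ) := by
            show (((lext * β.1) _ : ℂˣ) : ℂ) = _
            rw [map_mul, Units.val_mul]
            exact congrArg _ (hmuN β m)
          have e2 : x⁻¹ * ((h * ⟨m, hNH m.2⟩ : H) : G) * x = (x⁻¹ * h * x) * (m' : G) := by
            simp [hm', mul_assoc]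
          rw [Equiv.coe_mulRight, e1, e2, hshift, map_mul]
          ring
        by_contra h0
        apply hm
        have h1 : (lam m : ℂ) * conj (lam m' : ℂ) = 1 := mul_right_cancel₀ h0
          (by rw [one_mul]; exact hS.symm)
        have h2 : (lam m' : ℂ) * conj (lam m' : ℂ) = 1 := by
          rw [Complex.mul_conj, Complex.normSq_eq_norm_sq, linear_norm_eq_one]; simp
        exact Units.ext (mul_right_cancel₀ (right_ne_zero_of_mul_eq_one h2) (h2.trans h1.symm))
    rw [mul_left_cancel₀ hH0 key]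
    by_cases hbb : β = β'
    · rw [if_pos hbb, hbb]; exact classInner_isIrr_self (hmu β')
    · rw [if_neg hbb]
      refine classInner_isIrr_ne (hmu β) (hmu β') fun h => hbb (Subtype.ext ?_)
      ext x
      have h' := congrFun h x
      simp only [mu, MonoidHom.mul_apply, Units.val_mul] at h'
      exact mul_left_cancel₀ (Units.ne_zero _) h'
  have hirr : ∀ β, Cfsg.IsIrrCharacter G (Cfsg.indFun H (mu β)) := fun β =>
    isIrr_of_isCharacter_of_norm_one (isCharacter_indFun H (isCharacter_of_isIrr (hmu β)))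
      (by rw [hinner, if_pos rfl])
  -- they are strongly real
  have hind : ∀ β, (Nat.card G : ℂ)⁻¹ * ∑ᶠ g : G, Cfsg.indFun H (mu β) (g * g) = 1 := by
    intro β
    set F : G → ℂ := fun g => Cfsg.extendByZero H (mu β) (g * g) with hF
    have hFH : ∀ g, z * g ∈ H → F g = 1 := by
      intro g hg
      set n := π (z * g) with hn
      set s := σ (z * g) with hs
      have hg' : g = z * (n * s) := by rw [hn, hs, hπσ, ← mul_assoc, hzz, one_mul]
      have hsH : s ∈ H := hσH ⟨z * g, hg⟩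
      have hm1 : z * n * z ∈ N := by simpa [hzinv] using hN.conj_mem n (hπN _) z
      have hgg : g * g = (z * n * z) * (s * n * s⁻¹) * (s * s) := by
        rw [hg']
        calc z * (n * s) * (z * (n * s)) = z * n * (s * z) * n * s := by group
          _ = z * n * (z * s) * n * s := by rw [hzc s (hσP _)]
          _ = _ := by group
      have hmem : g * g ∈ H := by
        rw [hgg]
        exact H.mul_mem (H.mul_mem (hNH hm1) (hNH (hN.conj_mem n (hπN _) s))) (H.mul_mem hsH hsH)
      rw [hF]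
      show Cfsg.extendByZero H (mu β) (g * g) = 1
      rw [CharTheory.IndBasic.extendByZero_of_mem H _ hmem]
      show (((lext * β.1) ⟨g * g, hmem⟩ : ℂˣ) : ℂ) = 1
      rw [show (⟨g * g, hmem⟩ : H) = ⟨_, hNH hm1⟩ * ⟨_, hNH (hN.conj_mem n (hπN _) s)⟩ *
        (⟨s, hsH⟩ * ⟨s, hsH⟩) from Subtype.ext hgg, map_mul, map_mul, Units.val_mul, Units.val_mul,
        MonoidHom.mul_apply, MonoidHom.mul_apply, MonoidHom.mul_apply, hβN β _ hm1,
        hβN β _ (hN.conj_mem n (hπN _) s), β.2, mul_one, mul_one, mul_one]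
      show (lam ⟨π _, _⟩ : ℂ) * (lam ⟨π _, _⟩ : ℂ) * (lam ⟨π _, _⟩ : ℂ) = 1
      rw [← Units.val_mul, ← Units.val_mul]
      have a1 : (⟨π (z * n * z), hπN _⟩ : N) = ⟨n, hπN _⟩⁻¹ := Subtype.ext (by
        rw [Subgroup.coe_inv]
        show π (z * n * z) = n⁻¹
        rw [hπn _ hm1, hinv n (hπN _)])
      have a2 : lam ⟨π (s * n * s⁻¹), hπN _⟩ = lam ⟨n, hπN _⟩ := by
        rw [← (hHmem s).1 hsH ⟨n, hπN _⟩]
        exact congrArg lam (Subtype.ext (hπn _ (hN.conj_mem n (hπN _) s)))
      have a3 : (⟨π (s * s), hπN _⟩ : N) = 1 := Subtype.ext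
        (huniq _ 1 _ (s * s) (hπN _) (one_mem _) (hσP _) (P.mul_mem (hσP _) (hσP _))
          (by rw [hπσ, one_mul])).1
      rw [Units.val_eq_one]
      convert mul_inv_cancel (lam ⟨n, hπN (z * g)⟩) using 1
      simp only [a1, a2, a3, map_inv, map_one, mul_one, Subgroup.coe_mul]
      rw [inv_mul_cancel, mul_inv_cancel]
    have hzero : ∑ g ∈ Finset.univ.filter (fun g => ¬ z * g ∈ H), F g = 0 := by
      have hinv' : ∀ (g : G) (m : N), ¬ z * g ∈ H → ¬ z * (g * m) ∈ H := fun g m hg h =>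
        hg (by simpa [mul_assoc] using H.mul_mem h (H.inv_mem (hNH m.2)))
      have hSsq : ∀ (g : G) (m : N), F (g * m) =
          F g * ((lam ⟨g⁻¹ * m * g⁻¹⁻¹, hcj _ m⟩ * lam m : ℂˣ) : ℂ) := by
        intro g m
        rw [← map_mul, hF]
        show Cfsg.extendByZero H (mu β) (g * m * (g * m)) = _
        rw [← hshift]
        congr 1
        simp [mul_assoc]
      -- average over `N`
      haveI := Fintype.ofFinite N
      have hc : ∀ g, ¬ z * g ∈ H → ∑ m : N, ((lam ⟨g⁻¹ * m * g⁻¹⁻¹, hcj _ m⟩ * lam m : ℂˣ) : ℂ) = 0 := by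
        intro g hg
        set φ : N →* ℂˣ := MonoidHom.mk' (fun m => lam ⟨g⁻¹ * m * g⁻¹⁻¹, hcj _ m⟩ * lam m)
          (fun a b => by
            have e1 : (⟨g⁻¹ * ((a * b : N) : G) * g⁻¹⁻¹, hcj _ _⟩ : N) =
                ⟨g⁻¹ * a * g⁻¹⁻¹, hcj _ _⟩ * ⟨g⁻¹ * b * g⁻¹⁻¹, hcj _ _⟩ :=
              Subtype.ext (by simp [mul_assoc])
            rw [e1, map_mul, map_mul]
            exact mul_mul_mul_comm _ _ _ _)
        obtain ⟨m₁, hm₁⟩ : ∃ m, φ m ≠ 1 := by
          by_contra hh
          push Not at hh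
          apply hg
          rw [← inv_mem_iff, hHmem]
          intro m
          have h1 : lam ⟨g⁻¹ * (m⁻¹ : N) * g⁻¹⁻¹, hcj _ _⟩ * lam m⁻¹ = 1 := hh m⁻¹
          have e : (⟨(z * g)⁻¹ * m * (z * g)⁻¹⁻¹, hcj _ m⟩ : N) =
              ⟨g⁻¹ * (m⁻¹ : N) * g⁻¹⁻¹, hcj _ _⟩ := Subtype.ext (by
            show (z * g)⁻¹ * m * (z * g)⁻¹⁻¹ = g⁻¹ * ((m : G))⁻¹ * g⁻¹⁻¹
            rw [← hinv m m.2, inv_inv, inv_inv, mul_inv_rev, hzinv]
            group)
          rw [e]
          rw [map_inv, mul_inv_eq_one] at h1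
          exact h1
        set T := ∑ m : N, (φ m : ℂ)
        have hT : T = (φ m₁ : ℂ) * T := by
          show ∑ m : N, (φ m : ℂ) = _
          rw [← Equiv.sum_comp (Equiv.mulLeft m₁), Finset.mul_sum]
          simp [map_mul]
        by_contra h0
        exact hm₁ (Units.ext (mul_right_cancel₀ (b := T) h0 (by rw [← hT, Units.val_one, one_mul])))
      have hN0 : (Fintype.card N : ℂ) ≠ 0 := Nat.cast_ne_zero.2 Fintype.card_ne_zero
      apply mul_left_cancel₀ hN0
      rw [mul_zero, ← nsmul_eq_mul, ← Finset.card_univ, ← Finset.sum_const]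
      calc ∑ m : N, ∑ g ∈ Finset.univ.filter (fun g => ¬ z * g ∈ H), F g
          = ∑ m : N, ∑ g ∈ Finset.univ.filter (fun g => ¬ z * g ∈ H), F (g * m) := by
            refine Finset.sum_congr rfl fun m _ => ?_
            refine Finset.sum_nbij' (fun g => g * (m⁻¹ : N)) (fun g => g * m) ?_ ?_ ?_ ?_ ?_
            · intro g hg
              exact Finset.mem_filter.2 ⟨Finset.mem_univ _, hinv' g m⁻¹ (Finset.mem_filter.1 hg).2⟩
            · intro g hg
              exact Finset.mem_filter.2 ⟨Finset.mem_univ _, hinv' g m (Finset.mem_filter.1 hg).2⟩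
            · intro g _; simp
            · intro g _; simp
            · intro g _; simp
        _ = 0 := by
            rw [Finset.sum_comm]
            refine Finset.sum_eq_zero fun g hg => ?_
            simp only [hSsq, ← Finset.mul_sum, hc g (Finset.mem_filter.1 hg).2, mul_zero]
    have hsum : ∑ g : G, F g = (Nat.card H : ℂ) := by
      rw [← Finset.sum_filter_add_sum_filter_not Finset.univ (fun g => z * g ∈ H), hzero, add_zero,
        Finset.sum_congr rfl fun g hg => hFH g (Finset.mem_filter.1 hg).2, Finset.sum_const,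
        nsmul_eq_mul, mul_one, Nat.card_eq_fintype_card, Fintype.card_subtype]
      congr 1
      exact Finset.card_equiv (Equiv.mulLeft z) fun g => by simp
    have hH0 : (Nat.card H : ℂ) ≠ 0 := Nat.cast_ne_zero.2 Nat.card_pos.ne'
    have hG0 : (Nat.card G : ℂ) ≠ 0 := Nat.cast_ne_zero.2 Nat.card_pos.ne'
    rw [finsum_eq_sum_of_fintype, inv_mul_eq_iff_eq_mul₀ hG0, mul_one]
    apply mul_left_cancel₀ hH0
    rw [Finset.mul_sum]
    simp only [CharTheory.IndBasic.card_mul_indFun]
    rw [Finset.sum_comm, Finset.sum_congr rfl (g := fun _ => ∑ g : G, F g) fun x _ => ?_,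
      Finset.sum_const, Finset.card_univ, nsmul_eq_mul, hsum, Nat.card_eq_fintype_card (α := G)]
    · ring
    · refine Fintype.sum_equiv (MulAut.conj x⁻¹).toEquiv _ _ fun g => ?_
      simp [hF, mul_assoc]
  -- counting
  set T := {χ : Cfsg.IrrCharacter G // (Cfsg.charDegree (χ : G → ℂ) = 1 ∨ 2 ∣ Cfsg.charDegree (χ : G → ℂ)) ∧ (Nat.card G : ℂ)⁻¹ * ∑ᶠ g : G, (χ : G → ℂ) (g * g) = 1}
  haveI : Fintype T := Fintype.ofFinite T
  let D : T → ℕ := fun χ => Cfsg.charDegree (χ.1 : G → ℂ)
  have hdegI : ∀ β, Cfsg.charDegree (Cfsg.indFun H (mu β)) = d := fun β => by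
    have h1 : mu β 1 = 1 := by simp [mu]
    simp [Cfsg.charDegree, indFun_one, h1, hd]
  let E : B → T := fun β => ⟨⟨_, hirr β⟩, Or.inr (by rw [hdegI]; exact hd2), hind β⟩
  have hEinj : Function.Injective E := by
    intro a b hab
    by_contra hne'
    have h := hinner a b
    rw [if_neg hne', show Cfsg.indFun H (mu a) = Cfsg.indFun H (mu b) from
      congrArg (fun t : T => (t.1 : G → ℂ)) hab, hinner, if_pos rfl] at h
    exact one_ne_zero h
  set A : Finset T := Finset.univ.filter (fun χ => D χ = 1) with hA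
  have hA1 : ∀ χ : T, D χ = 1 → (χ.1 : G → ℂ) 1 = 1 := fun χ h => by
    have := Blocks.charDegree_cast χ.1
    rw [show Cfsg.charDegree (χ.1 : G → ℂ) = 1 from h, Nat.cast_one] at this
    exact this.symm
  let ro : T → B := fun χ =>
    if h : D χ = 1 then
      ⟨(linearOfDegreeOne (irr_isCharacter χ.1) (hA1 χ h)).comp H.subtype, fun x => by
        refine linear_indicator (linearOfDegreeOne (irr_isCharacter χ.1) (hA1 χ h)) ?_ (x : G)
        simp only [linearOfDegreeOne_apply]
        rw [← finsum_eq_sum_of_fintype]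
        exact χ.2.2⟩
    else ⟨1, fun _ => rfl⟩
  have hfib : A.card ≤ d * Fintype.card B := by
    have h1 : A.card ≤ d * (Finset.univ : Finset B).card := by
      refine Finset.card_le_mul_card_image_of_maps_to (f := ro) (fun _ _ => Finset.mem_univ _) d
        fun β _ => ?_
      rw [← Finset.card_map ⟨_, Subtype.val_injective⟩]
      refine card_fibre_le H β.1 _ fun χ hχ x => ?_
      obtain ⟨t, ht, rfl⟩ := Finset.mem_map.1 hχ
      obtain ⟨htA, hro⟩ := Finset.mem_filter.1 ht
      have htD := (Finset.mem_filter.1 htA).2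
      subst hro
      simp only [ro, dif_pos htD, MonoidHom.comp_apply, linearOfDegreeOne_apply]
      rfl
    exact h1
  rw [finsum_eq_sum_of_fintype, Nat.card_eq_fintype_card]
  show 4 * Fintype.card T ≤ 3 * ∑ χ : T, D χ
  set A' : Finset T := Finset.univ.filter (fun χ => ¬ D χ = 1) with hA'
  have hcard : Fintype.card T = A.card + A'.card := by
    rw [← Finset.card_univ, hA, hA', Finset.card_filter_add_card_filter_not]
  have hsplit : ∑ χ : T, D χ = A.card + ∑ χ ∈ A', D χ := by
    rw [← Finset.sum_filter_add_sum_filter_not Finset.univ (fun χ => D χ = 1), hA,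
      Finset.card_eq_sum_ones]
    refine congrArg₂ (· + ·) (Finset.sum_congr rfl fun χ hχ => (Finset.mem_filter.1 hχ).2) ?_
    rfl
  have hEA : Finset.univ.image E ⊆ A' := by
    intro t ht
    obtain ⟨β, -, rfl⟩ := Finset.mem_image.1 ht
    refine Finset.mem_filter.2 ⟨Finset.mem_univ _, ?_⟩
    show Cfsg.charDegree (Cfsg.indFun H (mu β)) ≠ 1
    rw [hdegI]
    omega
  have hge2 : ∀ χ ∈ A', 2 ≤ D χ := by
    intro χ hχ
    have h1 := (Finset.mem_filter.1 hχ).2
    have h2 : 2 ∣ D χ := χ.2.1.resolve_left h1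
    have h3 : 0 < D χ := Blocks.charDegree_pos χ.1
    omega
  have hbig : 4 * A'.card + d * Fintype.card B ≤ 3 * ∑ χ ∈ A', D χ := by
    rw [← Finset.sum_sdiff hEA, ← Finset.card_sdiff_add_card_eq_card hEA,
      Finset.card_image_of_injective _ hEinj, Finset.card_univ,
      Finset.sum_image hEinj.injOn]
    have e1 : ∑ β : B, D (E β) = d * Fintype.card B := by
      rw [Finset.sum_congr rfl (g := fun _ => d) fun β _ => hdegI β, Finset.sum_const,
        Finset.card_univ, smul_eq_mul, mul_comm]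
    have e2 : (A' \ Finset.univ.image E).card * 2 ≤ ∑ χ ∈ A' \ Finset.univ.image E, D χ := by
      rw [← smul_eq_mul]
      exact Finset.card_nsmul_le_sum _ _ _ fun χ hχ => hge2 χ (Finset.mem_sdiff.1 hχ).1
    rw [e1]
    have : 2 * Fintype.card B ≤ d * Fintype.card B := Nat.mul_le_mul_right _
      (Nat.le_of_dvd (Nat.pos_of_ne_zero Subgroup.index_ne_zero_of_finite) hd2)
    omega
  rw [hcard, hsplit]
  omega

end Cfsg.Agent.S4871
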