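import Cfsg.Statements.S4872
import Mathlib
import Cfsg.Agent.BlocksChars.IndicatorRestrict
import Cfsg.Agent.BlocksChars.Ramification
import Cfsg.Agent.BlocksChars.Degrees
import Cfsg.Agent.BlockCharsA.DefectZeroVanish
-- import your own Cfsg.Agent.* helpers here

set_option autoImplicit false
open Cfsg

namespace Cfsg.Agent.S4872

open Cfsg.Agent.Characters Cfsg.Agent.CharTheory Cfsg.Agent.FrobeniusSchur
open Cfsg.Agent.BlocksChars.Degrees
open scoped ComplexConjugate

/-- Let N be a normal subgroup of the finite group G with G/N a 2-group, and let φ be an irreducible complex character of N of 2-defect zero (the 2-part of #N divides φ(1)) whose complex conjugate is G-conjugate to φ. Then some irreducible character of G with Frobenius–Schur indicator +1 contains φ with multiplicity exactly one on restriction to N. -/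
theorem result {G : Type*} [Group G] [Finite G] (N : Subgroup G) [N.Normal] (h2 : IsPGroup 2 (G ⧸ N)) (φ : Cfsg.IrrCharacter ↥N) (hdef : 2 ^ (Nat.card ↥N).factorization 2 ∣ Cfsg.charDegree (φ : ↥N → ℂ)) (hconj : ∃ g : G, ∀ n n' : ↥N, (n' : G) = g * (n : G) * g⁻¹ → (φ : ↥N → ℂ) n' = (starRingEnd ℂ) ((φ : ↥N → ℂ) n)) : ∃ χ : Cfsg.IrrCharacter G, (Nat.card G : ℂ)⁻¹ * ∑ᶠ g : G, (χ : G → ℂ) (g * g) = 1 ∧ (Nat.card ↥N : ℂ)⁻¹ * ∑ᶠ n : ↥N, (χ : G → ℂ) n * (starRingEnd ℂ) ((φ : ↥N → ℂ) n) = 1 := by
  classical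
  haveI := Fintype.ofFinite G
  haveI := Fintype.ofFinite (Cfsg.IrrCharacter G)
  haveI : Fact (Nat.Prime 2) := ⟨Nat.prime_two⟩
  simp only [finsum_eq_sum_of_fintype]
  set I := Cfsg.indFun N (φ : N → ℂ) with hI
  -- the induced character is real
  have hreal : ∀ x : G, conj (I x) = I x := by
    intro x
    by_cases hx : x ∈ N
    · obtain ⟨g, hg⟩ := hconj
      have h1 := Clifford.card_mul_indFun_coe N (φ : N → ℂ) ⟨x, hx⟩
      have hcg : ∀ n : N, conj ((φ : N → ℂ) n) = Clifford.conjBy N g (φ : N → ℂ) n := fun n => by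
        rw [Clifford.conjBy_apply]
        exact (hg n _ rfl).symm
      have h2 := congrArg conj h1
      rw [map_mul, Complex.conj_natCast, map_sum] at h2
      refine mul_left_cancel₀ (natCard_ne_zero (G := N)) (h2.trans ?_)
      rw [h1]
      refine Fintype.sum_equiv (Equiv.mulLeft g) _ _ fun y => ?_
      rw [Clifford.conjBy_apply, hcg, Clifford.conjBy_apply, Clifford.conjBy_apply]
      refine congrArg _ (Subtype.ext ?_)
      simp [mul_assoc]
    · rw [hI, Clifford.indFun_of_notMem N _ hx, map_zero]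
  choose a ha using fun χ : Cfsg.IrrCharacter G =>
    classInner_char_nat (isCharacter_restrict N (irr_isCharacter χ)) (irr_isCharacter φ)
  have hexp : ∀ x : G, I x = ∑ χ : Cfsg.IrrCharacter G, (a χ : ℂ) * (χ : G → ℂ) x := by
    intro x
    have h := congrFun (classFun_eq_sum (indFun_isClassFunction N (φ : N → ℂ))) x
    rw [hI, h, Finset.sum_apply]
    refine Finset.sum_congr rfl fun χ _ => ?_
    rw [Pi.smul_apply, smul_eq_mul, frobenius_reciprocity N _ (irr_isClassFunction χ),
      classInner_conj_symm, ha χ, Complex.conj_natCast]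
  have hai : ∀ χ : Cfsg.IrrCharacter G, a (conjIrr χ) = a χ := by
    intro χ
    have h1 : Cfsg.classInner I (conjIrr χ : G → ℂ) = (a (conjIrr χ) : ℂ) := by
      rw [hI, frobenius_reciprocity N _ (irr_isClassFunction _), classInner_conj_symm,
        ha, Complex.conj_natCast]
    have h2 : Cfsg.classInner I (χ : G → ℂ) = (a χ : ℂ) := by
      rw [hI, frobenius_reciprocity N _ (irr_isClassFunction _), classInner_conj_symm,
        ha, Complex.conj_natCast]
    have h3 : Cfsg.classInner I (conjIrr χ : G → ℂ) = conj (Cfsg.classInner I (χ : G → ℂ)) := by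
      rw [classInner_def, classInner_def, map_mul, map_inv₀, Complex.conj_natCast, map_sum]
      congr 1
      refine Finset.sum_congr rfl fun x _ => ?_
      rw [map_mul, hreal, conjIrr_coe]
    rw [h1, h2, Complex.conj_natCast] at h3
    exact_mod_cast h3
  -- restriction to a Sylow 2-subgroup
  obtain ⟨S⟩ : Nonempty (Sylow 2 G) := inferInstance
  obtain ⟨k, hk⟩ : ∃ k : ℕ, N.index = 2 ^ k := by
    rw [Subgroup.index_eq_card]; exact h2.exists_card_eq
  obtain ⟨q, hq⟩ := hdef
  have hqodd : Odd q := by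
    rw [Nat.odd_iff, ← Nat.two_dvd_ne_zero]
    intro hd
    have h1 : 2 ^ ((Nat.card N).factorization 2 + 1) ∣ Nat.card N := by
      rw [pow_succ]
      exact (mul_dvd_mul_left _ hd).trans (hq ▸ charDegree_dvd_card φ)
    rw [Nat.prime_two.pow_dvd_iff_le_factorization Nat.card_pos.ne'] at h1
    omega
  have hI1 : I 1 = ((2 ^ k * (2 ^ (Nat.card N).factorization 2 * q) : ℕ) : ℂ) := by
    rw [hI, indFun_one, hk, ← charDegree_cast, hq]
    push_cast
    ring
  have hSsum : ∑ s : (S : Subgroup G), I (s : G) = I 1 := by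
    rw [Fintype.sum_eq_single (1 : (S : Subgroup G))]
    · rfl
    intro s hs
    by_cases hsN : (s : G) ∈ N
    · refine mul_left_cancel₀ (natCard_ne_zero (G := N)) ?_
      rw [mul_zero, hI, show (s : G) = ((⟨s, hsN⟩ : N) : G) from rfl,
        Clifford.card_mul_indFun_coe]
      refine Finset.sum_eq_zero fun y _ => ?_
      rw [Clifford.conjBy_apply]
      refine BlockCharsA.DefectZeroVanish.eq_zero_of_singular Nat.prime_two φ ⟨q, hq⟩ ?_
      rw [← Subgroup.orderOf_coe]
      show 2 ∣ orderOf (y * (s : G) * y⁻¹)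
      rw [show y * (s : G) * y⁻¹ = MulAut.conj y (s : G) from rfl, MulEquiv.orderOf_eq,
        Subgroup.orderOf_coe]
      obtain ⟨i, hi⟩ := IsPGroup.iff_orderOf.1 S.isPGroup' s
      rw [hi]
      refine dvd_pow_self 2 ?_
      rintro rfl
      exact hs (orderOf_eq_one_iff.1 (by simpa using hi))
    · exact Clifford.indFun_of_notMem N _ hsN
  have hScard : Nat.card (S : Subgroup G) = 2 ^ (k + (Nat.card N).factorization 2) := by
    rw [Sylow.card_eq_multiplicity]
    congr 1
    rw [← N.card_mul_index, hk, Nat.factorization_mul Nat.card_pos.ne' (pow_ne_zero _ two_ne_zero),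
      Finsupp.add_apply, Nat.prime_two.factorization_pow, Finsupp.single_eq_same, add_comm]
  choose b hb using fun χ : Cfsg.IrrCharacter G => classInner_char_nat
    (isCharacter_restrict (S : Subgroup G) (irr_isCharacter χ))
    (irr_isCharacter (trivIrr (S : Subgroup G)))
  have hpar : ∑ χ : Cfsg.IrrCharacter G, a χ * b χ = q := by
    have h1 : ∀ χ : Cfsg.IrrCharacter G, ∑ s : (S : Subgroup G), (χ : G → ℂ) s =
        (Nat.card (S : Subgroup G) : ℂ) * b χ := by
      intro χ
      have h := hb χ
      rw [classInner_def, inv_mul_eq_iff_eq_mul₀ natCard_ne_zero] at h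
      simpa using h
    have h3 := hSsum
    simp only [hexp] at h3
    rw [Finset.sum_comm] at h3
    simp only [← Finset.mul_sum, h1] at h3
    rw [← hexp 1, hI1, hScard] at h3
    have h4 : ∑ χ : Cfsg.IrrCharacter G,
        a χ * (2 ^ (k + (Nat.card N).factorization 2) * b χ) =
        2 ^ k * (2 ^ (Nat.card N).factorization 2 * q) := by exact_mod_cast h3
    rw [← mul_assoc, ← pow_add] at h4
    apply Nat.eq_of_mul_eq_mul_left (pow_pos two_pos (k + (Nat.card N).factorization 2))
    rw [← h4, Finset.mul_sum]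
    exact Finset.sum_congr rfl fun χ _ => by ring
  -- a real character with odd contribution
  obtain ⟨χ, hχfix, hχodd⟩ : ∃ χ : Cfsg.IrrCharacter G, conjIrr χ = χ ∧ Odd (a χ * b χ) := by
    by_contra hno
    push Not at hno
    have hbi : ∀ χ : Cfsg.IrrCharacter G, b (conjIrr χ) = b χ := by
      intro χ
      have h3 : Cfsg.classInner (fun s : (S : Subgroup G) => (conjIrr χ : G → ℂ) s)
          (trivIrr (S : Subgroup G) : ↥(S : Subgroup G) → ℂ) =
          conj (Cfsg.classInner (fun s : (S : Subgroup G) => (χ : G → ℂ) s)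
          (trivIrr (S : Subgroup G) : ↥(S : Subgroup G) → ℂ)) := by
        rw [classInner_def, classInner_def, map_mul, map_inv₀, Complex.conj_natCast, map_sum]
        simp
      rw [hb, hb, Complex.conj_natCast] at h3
      exact_mod_cast h3
    have hinvol : ∀ χ : Cfsg.IrrCharacter G, conjIrr (conjIrr χ) = χ := fun χ =>
      Subtype.ext (funext fun x => by simp)
    have h0 : (((∑ χ : Cfsg.IrrCharacter G, a χ * b χ : ℕ) : ℕ) : ZMod 2) = 0 := by
      rw [Nat.cast_sum]
      refine Finset.sum_involution (fun χ _ => conjIrr χ) (fun χ _ => ?_) (fun χ _ hne he => ?_)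
        (fun χ _ => Finset.mem_univ _) (fun χ _ => hinvol χ)
      · rw [hai, hbi]
        exact CharTwo.add_self_eq_zero _
      · exact hne (ZMod.natCast_eq_zero_iff_even.2 (Nat.not_odd_iff_even.1 (hno χ he)))
    rw [hpar, ZMod.natCast_eq_zero_iff_even] at h0
    exact (Nat.not_even_iff_odd.2 hqodd) h0
  have hχreal : ∀ x : G, ((χ : G → ℂ) x).im = 0 := fun x => by
    have := congrArg (fun η : Cfsg.IrrCharacter G => (η : G → ℂ) x) hχfix
    simp only [conjIrr_coe] at this
    exact Complex.conj_eq_iff_im.1 this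
  have hnu : nu (χ : G → ℂ) = 1 := by
    rw [BlocksChars.IndicatorRestrict.nu_eq_of_mult_odd (S : Subgroup G) χ
      (trivIrr (S : Subgroup G)) hχreal (fun _ => by simp) (Nat.odd_mul.1 hχodd).2 (hb χ)]
    simp only [nu, trivIrr_coe, Finset.sum_const, Finset.card_univ, nsmul_eq_mul, mul_one,
      ← Nat.card_eq_fintype_card]
    exact inv_mul_cancel₀ natCard_ne_zero
  refine ⟨χ, hnu, ?_⟩
  have ha1 : a χ = 1 := by
    have hd := BlocksChars.Ramification.mult_dvd_index N χ.2 φ.2 (ha χ)
      (Nat.odd_mul.1 hχodd).1.pos.ne'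
    rw [hk] at hd
    obtain ⟨i, -, hi⟩ := (Nat.dvd_prime_pow Nat.prime_two).1 hd
    rcases Nat.eq_zero_or_pos i with rfl | hi0
    · simpa using hi
    · exfalso
      have := (Nat.odd_mul.1 hχodd).1
      rw [hi, Nat.odd_pow_iff hi0.ne'] at this
      exact absurd this (by decide)
  have h := ha χ
  rw [classInner_def] at h
  rw [h, ha1, Nat.cast_one]

end Cfsg.Agent.S4872
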