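import Cfsg.Statements.S4873
import Mathlib
import Cfsg.Agent.BlocksChars.IndicatorRestrict
import Cfsg.Agent.BlocksChars.Ramification
-- import your own Cfsg.Agent.* helpers here

set_option autoImplicit false
open Cfsg

namespace Cfsg.Agent.S4873

open Cfsg.Agent.Characters Cfsg.Agent.CharTheory Cfsg.Agent.FrobeniusSchur
open scoped ComplexConjugate

/-- Let N be a normal subgroup of odd index in the finite group G. Then every irreducible complex character of N with Frobenius–Schur indicator +1 lies under exactly one irreducible character of G with Frobenius–Schur indicator +1. -/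
theorem result {G : Type*} [Group G] [Finite G] (N : Subgroup G) [N.Normal] (hodd : Odd N.index) (φ : Cfsg.IrrCharacter ↥N) (hφ : (Nat.card ↥N : ℂ)⁻¹ * ∑ᶠ g : ↥N, (φ : ↥N → ℂ) (g * g) = 1) : ∃! χ : Cfsg.IrrCharacter G, (Nat.card G : ℂ)⁻¹ * ∑ᶠ g : G, (χ : G → ℂ) (g * g) = 1 ∧ (∑ᶠ n : ↥N, (χ : G → ℂ) n * (starRingEnd ℂ) ((φ : ↥N → ℂ) n)) ≠ 0 := by
  classical
  haveI := Fintype.ofFinite G
  haveI := Fintype.ofFinite (Cfsg.IrrCharacter G)
  simp only [finsum_eq_sum_of_fintype] at hφ ⊢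
  have hnuφ : nu (φ : N → ℂ) = 1 := hφ
  have hφreal : ∀ n : N, ((φ : N → ℂ) n).im = 0 :=
    (nu_ne_zero_iff φ).1 (by rw [hnuφ]; exact one_ne_zero)
  choose a ha using fun χ : Cfsg.IrrCharacter G =>
    classInner_char_nat (isCharacter_restrict N (irr_isCharacter χ)) (irr_isCharacter φ)
  have hiff : ∀ χ : Cfsg.IrrCharacter G,
      (∑ n : N, (χ : G → ℂ) n * conj ((φ : N → ℂ) n)) ≠ 0 ↔ a χ ≠ 0 := by
    intro χ
    have h := ha χ
    rw [classInner_def, inv_mul_eq_iff_eq_mul₀ natCard_ne_zero] at h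
    rw [h, mul_ne_zero_iff, Nat.cast_ne_zero (R := ℂ), Nat.cast_ne_zero (R := ℂ)]
    exact ⟨fun h => h.2, fun h => ⟨Nat.card_pos.ne', h⟩⟩
  -- real constituents have indicator one
  have hone : ∀ χ : Cfsg.IrrCharacter G, a χ ≠ 0 →
      nu (χ : G → ℂ) = 0 ∨ nu (χ : G → ℂ) = 1 := by
    intro χ hχ0
    by_cases hreal : ∀ g : G, ((χ : G → ℂ) g).im = 0
    · right
      rw [← hnuφ]
      exact BlocksChars.IndicatorRestrict.nu_eq_of_mult_odd N χ φ hreal hφreal
        (hodd.of_dvd_nat (BlocksChars.Ramification.mult_dvd_index N χ.2 φ.2 (ha χ) hχ0)) (ha χ)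
    · exact Or.inl (nu_eq_zero_of_not_real χ hreal)
  -- the indicator of the induced character
  have hmem : ∀ g : G, g * g ∈ N → g ∈ N := by
    intro g hg
    obtain ⟨k, hk⟩ := hodd
    rw [← QuotientGroup.eq_one_iff] at hg ⊢
    have h1 : ((g : G ⧸ N)) ^ (2 * k + 1) = 1 := by
      rw [← hk]
      exact pow_card_eq_one'
    rw [QuotientGroup.mk_mul, ← pow_two] at hg
    rwa [pow_succ, pow_mul, hg, one_pow, one_mul] at h1
  have hind : ∑ g : G, Cfsg.indFun N (φ : N → ℂ) (g * g) = (Nat.card G : ℂ) := by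
    rw [← Finset.sum_filter_add_sum_filter_not Finset.univ (fun g : G => g ∈ N),
      Finset.sum_eq_zero (s := Finset.univ.filter fun g : G => ¬ g ∈ N) fun g hg => ?_, add_zero,
      Finset.sum_subtype (Finset.univ.filter fun g : G => g ∈ N) (p := fun g => g ∈ N) (by simp)]
    · refine mul_left_cancel₀ (natCard_ne_zero (G := N)) ?_
      rw [Finset.mul_sum]
      have h1 : ∀ n : N, (Nat.card N : ℂ) * Cfsg.indFun N (φ : N → ℂ) ((n : G) * n) =
          ∑ x : G, Clifford.conjBy N x (φ : N → ℂ) (n * n) := fun n =>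
        Clifford.card_mul_indFun_coe N _ (n * n)
      rw [Finset.sum_congr rfl fun n _ => h1 n, Finset.sum_comm]
      have h2 : ∀ x : G, ∑ n : N, Clifford.conjBy N x (φ : N → ℂ) (n * n) =
          ∑ n : N, (φ : N → ℂ) (n * n) := fun x =>
        Fintype.sum_equiv (MulAut.conjNormal x).toEquiv _ _ fun n => by
          rw [Clifford.conjBy_apply]
          refine congrArg _ (Subtype.ext ?_)
          simp [mul_assoc]
      rw [Finset.sum_congr rfl fun x _ => h2 x, Finset.sum_const, Finset.card_univ, nsmul_eq_mul,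
        ← Nat.card_eq_fintype_card]
      rw [inv_mul_eq_iff_eq_mul₀ natCard_ne_zero, mul_one] at hφ
      rw [hφ, mul_comm]
    · exact Clifford.indFun_of_notMem N _ fun h => (Finset.mem_filter.1 hg).2 (hmem g h)
  have hexp : ∀ g : G, Cfsg.indFun N (φ : N → ℂ) g =
      ∑ χ : Cfsg.IrrCharacter G, (a χ : ℂ) * (χ : G → ℂ) g := by
    intro g
    have h := congrFun (classFun_eq_sum (indFun_isClassFunction N (φ : N → ℂ))) g
    rw [h, Finset.sum_apply]
    refine Finset.sum_congr rfl fun χ _ => ?_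
    rw [Pi.smul_apply, smul_eq_mul, frobenius_reciprocity N _ (irr_isClassFunction χ),
      classInner_conj_symm, ha χ, Complex.conj_natCast]
  have hsum : ∑ χ : Cfsg.IrrCharacter G, (a χ : ℂ) * nu (χ : G → ℂ) = 1 := by
    simp only [hexp] at hind
    rw [Finset.sum_comm] at hind
    simp only [← Finset.mul_sum] at hind
    calc ∑ χ : Cfsg.IrrCharacter G, (a χ : ℂ) * nu (χ : G → ℂ)
        = (Nat.card G : ℂ)⁻¹ * ∑ χ : Cfsg.IrrCharacter G,
            (a χ : ℂ) * ∑ g : G, (χ : G → ℂ) (g * g) := by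
          rw [Finset.mul_sum]
          exact Finset.sum_congr rfl fun χ _ => by rw [nu]; ring
      _ = 1 := by rw [hind, inv_mul_cancel₀ natCard_ne_zero]
  let S := Finset.univ.filter fun χ : Cfsg.IrrCharacter G => nu (χ : G → ℂ) = 1 ∧ a χ ≠ 0
  have hS : ∑ χ ∈ S, a χ = 1 := by
    have h : ∑ χ : Cfsg.IrrCharacter G, (a χ : ℂ) * nu (χ : G → ℂ) = ∑ χ ∈ S, (a χ : ℂ) := by
      rw [Finset.sum_filter]
      refine Finset.sum_congr rfl fun χ _ => ?_
      by_cases h0 : a χ = 0
      · simp [h0]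
      · rcases hone χ h0 with e | e <;> simp [e, h0]
    rw [hsum] at h
    exact_mod_cast h.symm
  have hcard : S.card = 1 := by
    refine le_antisymm ?_ (Finset.card_pos.2 ?_)
    · rw [← hS, Finset.card_eq_sum_ones]
      exact Finset.sum_le_sum fun χ hχ => Nat.pos_of_ne_zero (Finset.mem_filter.1 hχ).2.2
    · by_contra he
      rw [Finset.not_nonempty_iff_eq_empty.1 he, Finset.sum_empty] at hS
      exact zero_ne_one hS
  obtain ⟨χ, hχ⟩ := Finset.card_eq_one.1 hcard
  have hmemS : ∀ η, η ∈ S ↔ ((Nat.card G : ℂ)⁻¹ * ∑ g : G, (η : G → ℂ) (g * g) = 1 ∧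
      (∑ n : N, (η : G → ℂ) n * conj ((φ : N → ℂ) n)) ≠ 0) := fun η => by
    simp only [S, Finset.mem_filter, Finset.mem_univ, true_and, hiff]
    rfl
  exact ⟨χ, (hmemS χ).1 (hχ ▸ Finset.mem_singleton_self χ), fun η hη =>
    Finset.mem_singleton.1 (hχ ▸ (hmemS η).2 hη)⟩

end Cfsg.Agent.S4873
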