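import Cfsg.Statements.S4878
import Cfsg.Agent.Lib.PLocal.PSolvable
import Cfsg.Agent.Lib.Frobenius.Basic
import Cfsg.Agent.Lib.Involutions.EqualOrderConj.Frame
import Cfsg.Agent.Lib.Perm.TransCoprimeLower.Group
import Cfsg.Agent.Lib.Perm.TransCoprimeLower.LiftEleven
-- import your own Cfsg.Agent.* helpers here

set_option autoImplicit false
open Cfsg

namespace Cfsg.Agent.S4878


open Perm.TransCoprimeLower (RegC regMap regMap_surjective)
open scoped MatrixGroups

/-- a group of affine shape is the affine group -/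
theorem affine_iso {G : Type*} [Group G] [Finite G] (p : ℕ) [Fact p.Prime] (V H : Subgroup G) [V.Normal]
    (hVH : Subgroup.IsComplement' V H) (hV : Nat.card V = p) (hH : Nat.card H = p - 1)
    (hab : ∀ a ∈ V, ∀ b ∈ V, a * b = b * a)
    (hfaith : ∀ h ∈ H, (∀ v ∈ V, h * v = v * h) → h = 1) :
    Nonempty (G ≃* ↥(Cfsg.affineGroup (ZMod p))) := by
  classical
  haveI : IsCyclic V := isCyclic_of_prime_card hV
  let c : Multiplicative (ZMod (Nat.card V)) ≃* V := zmodCyclicMulEquiv inferInstance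
  have hex : ∃ e : V ≃ ZMod p, ∀ a b : V, e (a * b) = e a + e b :=
    ⟨c.symm.toEquiv.trans (Multiplicative.toAdd.trans (ZMod.ringEquivCongr hV).toEquiv), fun a b => by simp⟩
  obtain ⟨e, he⟩ := hex
  have he1 : e 1 = 0 := by
    have h := he 1 1
    rw [one_mul] at h
    exact left_eq_add.1 h
  have hdec : ∀ g : G, ∃ v : V, ∃ h : H, g = (v : G) * (h : G) := fun g => by
    obtain ⟨⟨v, h⟩, rfl⟩ := hVH.2 g
    exact ⟨⟨v, v.2⟩, ⟨h, h.2⟩, rfl⟩
  choose P T hPT using hdec
  have huniq : ∀ (v : V) (h : H), P ((v : G) * h) = v := fun v h => by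
    have e1 := hPT ((v : G) * h)
    have h2 : (⟨⟨(P ((v : G) * h) : G), (P _).2⟩, ⟨(T ((v : G) * h) : G), (T _).2⟩⟩ :
        ↥(V : Set G) × ↥(H : Set G)) = ⟨⟨v, v.2⟩, ⟨h, h.2⟩⟩ := hVH.1 e1.symm
    exact Subtype.ext (congrArg (fun z : ↥(V : Set G) × ↥(H : Set G) => (z.1 : G)) h2)
  have hPv : ∀ v : V, P (v : G) = v := fun v => by
    conv_lhs => rw [← mul_one ((v : G))]
    exact huniq v 1
  letI : MulAction G V :=
    { smul := fun g u => P (g * u)
      one_smul := fun u => by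
        show P (1 * (u : G)) = u
        rw [one_mul, hPv]
      mul_smul := fun a b u => by
        show P (a * b * u) = P (a * (P (b * (u : G)) : G))
        set w := P (b * (u : G))
        set t := T (b * (u : G))
        have e1 : b * (u : G) = (w : G) * t := hPT _
        rw [mul_assoc a b, e1, ← mul_assoc]
        obtain ⟨v', hv'⟩ : ∃ h : H, a * (w : G) = (P (a * (w : G)) : G) * h := ⟨_, hPT _⟩
        conv_lhs => rw [hv', mul_assoc, ← Subgroup.coe_mul]
        exact huniq _ _ }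
  let ψ : G →* Equiv.Perm (ZMod p) := (e.permCongrHom.toMonoidHom).comp (MulAction.toPermHom G V)
  have hψ : ∀ g x, ψ g x = e (P (g * ((e.symm x : V) : G))) := fun g x => rfl
  have hact : ∀ (v : V) (h : H) (u : V), P ((v : G) * h * u) =
      v * MulAut.conjNormal (h : G) u := fun v h u => by
    have e1 : (v : G) * h * u = ((v * MulAut.conjNormal (h : G) u : V) : G) * h := by
      rw [Subgroup.coe_mul, MulAut.conjNormal_apply]; group
    rw [e1, huniq]
  have hinj : Function.Injective ψ := by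
    rw [injective_iff_map_eq_one]
    intro g hg
    have hfix : ∀ u : V, P (g * u) = u := fun u => by
      have h := DFunLike.congr_fun hg (e u)
      rw [hψ, e.symm_apply_apply] at h
      exact e.injective h
    rw [hPT g] at hfix ⊢
    have h1 := hfix 1
    rw [hact, map_one, mul_one] at h1
    rw [h1, Subgroup.coe_one, one_mul]
    refine hfaith _ (T g).2 fun u hu => ?_
    have h2 := hfix ⟨u, hu⟩
    rw [hact, h1, one_mul] at h2
    have h3 : (T g : G) * u * (T g : G)⁻¹ = u := by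
      have := congrArg Subtype.val h2
      rwa [MulAut.conjNormal_apply] at this
    exact mul_inv_eq_iff_eq_mul.1 h3
  have hmem : ∀ g, ψ g ∈ Cfsg.affineGroup (ZMod p) := by
    intro g
    let f : ZMod p →+ ZMod p := AddMonoidHom.mk'
      (fun x => e (MulAut.conjNormal (T g : G) (e.symm x))) fun x y => by
        rw [← he, ← map_mul]
        congr 2
        apply e.injective
        rw [he, e.apply_symm_apply, e.apply_symm_apply, e.apply_symm_apply]
    have hlin : ∀ x, f x = f 1 * x := fun x => by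
      have h := ZMod.map_smul f x (1 : ZMod p)
      rw [smul_eq_mul, mul_one, smul_eq_mul] at h
      rw [h, mul_comm]
    have hne : f 1 ≠ 0 := fun h0 => by
      have hcard : 1 < Nat.card V := hV ▸ (Fact.out : p.Prime).one_lt
      have h1 : MulAut.conjNormal (T g : G) (e.symm 1) = 1 := e.injective (h0.trans he1.symm)
      rw [map_eq_one_iff _ (MulEquiv.injective _)] at h1
      have h2 := congrArg e h1
      rw [e.apply_symm_apply, he1] at h2
      exact one_ne_zero h2
    refine ⟨Units.mk0 _ hne, e (P g), fun x => ?_⟩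
    rw [hψ, Units.val_mk0, ← hlin x]
    conv_lhs => rw [hPT g, hact, he]
    exact add_comm _ _
  let ψ' : G →* Cfsg.affineGroup (ZMod p) := ψ.codRestrict _ hmem
  refine ⟨MulEquiv.ofBijective ψ' ((Nat.bijective_iff_injective_and_card _).2 ⟨?_, ?_⟩)⟩
  · exact fun a b h => hinj (congrArg Subtype.val h)
  · rw [Involutions.EqualOrderConj.Frame.natCard_affine, Nat.card_zmod, ← hVH.card_mul_card, hV, hH,
      mul_comm]

/-- elements of prime power order lift -/
theorem p_lift {G Q : Type*} [Group G] [Finite G] [Group Q] (p : ℕ) [hp : Fact p.Prime] (f : G →* Q)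
    (hf : Function.Surjective f) {y : Q} (hy : ∃ k, orderOf y = p ^ k) :
    ∃ g : G, f g = y ∧ ∃ k, orderOf g = p ^ k := by
  obtain ⟨k, hk⟩ := hy
  obtain ⟨g₀, rfl⟩ := hf y
  obtain ⟨a, m, hm, hord⟩ := Nat.exists_eq_pow_mul_and_not_dvd (orderOf_pos g₀).ne' p hp.out.ne_one
  obtain ⟨i, hi⟩ := exists_pow_eq_self_of_coprime (x := f g₀) (n := m)
    (hk ▸ ((hp.out.coprime_iff_not_dvd.2 hm).symm.pow_right k))
  refine ⟨(g₀ ^ m) ^ i, by rw [map_pow, map_pow, hi], ?_⟩
  have h1 : ((g₀ ^ m) ^ i) ^ p ^ a = 1 := by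
    rw [← pow_mul, ← pow_mul, show m * (i * p ^ a) = (p ^ a * m) * i by ring, ← hord, pow_mul,
      pow_orderOf_eq_one, one_pow]
  obtain ⟨j, -, hj⟩ := (Nat.dvd_prime_pow hp.out).1 (orderOf_dvd_of_pow_eq_one h1)
  exact ⟨j, hj⟩

/-- the groups with trivial core of order prime to `p` -/
theorem core_cases {G : Type*} [Group G] [Finite G] (p : ℕ) [hp : Fact p.Prime]
    (hsolv : Cfsg.IsPSolvable p G) (hdiv : p ∣ Nat.card G) (hO : Cfsg.pPrimeCore p G = ⊥)
    (hconj : ∀ x y : G, x ≠ 1 → y ≠ 1 → (∃ k : ℕ, orderOf x = p ^ k) → (∃ k : ℕ, orderOf y = p ^ k) →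
      IsConj x y) :
    p ≤ Nat.card (RegC p G) ∨
      (Nat.card (RegC p G) = p - 1 ∧ Nonempty (G ≃* ↥(Cfsg.affineGroup (ZMod p)))) ∨
      (p = 11 ∧ Nat.card (RegC p G) = 9 ∧ Nat.card G = 121 * 120 ∧
        ∃ (V H : Subgroup G) (_ : V.Normal), Subgroup.IsComplement' V H ∧ Nat.card V = 121 ∧
          Nat.card H = 120 ∧ (∀ a ∈ V, ∀ b ∈ V, a * b = b * a) ∧ (∀ x : H, orderOf x ≠ 15) ∧
          (∀ h ∈ H, h ≠ 1 → ∀ v ∈ V, v * h = h * v → v = 1) ∧ Nonempty (H ≃* SL(2, ZMod 5))) := by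
  classical
  haveI : Nontrivial G := Finite.one_lt_card_iff_nontrivial.1
    (hp.out.one_lt.trans_le (Nat.le_of_dvd Nat.card_pos hdiv))
  set V := Cfsg.pCore p G with hVdef
  haveI hVn : V.Normal := PLocal.Cores.pCore_normal'
  have hVp : IsPGroup p V := PLocal.Cores.isPGroup_pCore
  have hVne : V ≠ ⊥ := (PLocal.PSolvable.exists_core_ne_bot hsolv).resolve_right (not_not.2 hO)
  have hexpP : ∀ x : G, x ∈ V → ∃ k, orderOf x = p ^ k := fun x hx => by
    obtain ⟨k, hk⟩ := (IsPGroup.iff_orderOf.1 hVp) ⟨x, hx⟩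
    exact ⟨k, by rw [← hk, Subgroup.orderOf_mk]⟩
  obtain ⟨v₀, hv₀, hv₀1⟩ := (Subgroup.bot_or_exists_ne_one V).resolve_left hVne
  have hall : ∀ x : G, (∃ k, orderOf x = p ^ k) → x ∈ V := fun x hx => by
    by_cases hx1 : x = 1
    · exact hx1 ▸ V.one_mem
    obtain ⟨c, hc⟩ := isConj_iff.1 (hconj v₀ x hv₀1 hx1 (hexpP v₀ hv₀) hx)
    exact hc ▸ hVn.conj_mem v₀ hv₀ c
  have hidx : ¬ p ∣ V.index := by
    intro h
    obtain ⟨y, hy⟩ := exists_prime_orderOf_dvd_card' (G := G ⧸ V) p (by rwa [← Subgroup.index_eq_card])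
    obtain ⟨g, hg, hgp⟩ := p_lift p (QuotientGroup.mk' V) (QuotientGroup.mk'_surjective V)
      ⟨1, by rw [hy, pow_one]⟩
    rw [show y = 1 from hg ▸ (QuotientGroup.eq_one_iff g).2 (hall g hgp), orderOf_one] at hy
    exact hp.out.ne_one hy.symm
  have hordV : ∀ x ∈ V, x ≠ 1 → orderOf x = p := by
    obtain ⟨w, hw⟩ := exists_prime_orderOf_dvd_card' (G := V) p (by
      obtain ⟨k, hk⟩ := IsPGroup.iff_card.1 hVp
      rw [hk]
      exact dvd_pow_self p fun h => hVne (Subgroup.card_eq_one.1 (by rw [hk, h, pow_zero])))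
    intro x hx hx1
    have hw1 : (w : G) ≠ 1 := fun e => by
      rw [← Subgroup.orderOf_coe, e, orderOf_one] at hw; exact hp.out.ne_one hw.symm
    obtain ⟨c, hc⟩ := isConj_iff.1 (hconj (w : G) x hw1 hx1 (hexpP _ w.2) (hexpP _ hx))
    rw [← hc, ← MulAut.conj_apply, MulEquiv.orderOf_eq, Subgroup.orderOf_coe, hw]
  have hexp : ∀ x ∈ V, x ^ p = 1 := fun x hx => by
    by_cases hx1 : x = 1
    · rw [hx1, one_pow]
    · rw [← hordV x hx hx1, pow_orderOf_eq_one]
  haveI : Nontrivial V := (Subgroup.nontrivial_iff_ne_bot V).2 hVne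
  have hab : ∀ a ∈ V, ∀ b ∈ V, a * b = b * a := by
    haveI := hVp.center_nontrivial
    obtain ⟨z, hz⟩ := exists_ne (1 : Subgroup.center V)
    have hz1 : ((z : V) : G) ≠ 1 := fun e => hz (Subtype.ext (Subtype.ext e))
    intro a ha b hb
    by_cases hb1 : b = 1
    · rw [hb1, mul_one, one_mul]
    obtain ⟨c, hc⟩ := isConj_iff.1 (hconj ((z : V) : G) b hz1 hb1 (hexpP _ (z : V).2) (hexpP _ hb))
    have h := congrArg Subtype.val (Subgroup.mem_center_iff.1 z.2
      ⟨c⁻¹ * a * c, by simpa using hVn.conj_mem a ha c⁻¹⟩)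
    change c⁻¹ * a * c * ((z : V) : G) = ((z : V) : G) * (c⁻¹ * a * c) at h
    rw [← hc]
    calc a * (c * ((z : V) : G) * c⁻¹) = c * (c⁻¹ * a * c * ((z : V) : G)) * c⁻¹ := by group
      _ = c * (((z : V) : G) * (c⁻¹ * a * c)) * c⁻¹ := by rw [h]
      _ = _ := by group
  have hcen : Subgroup.centralizer (V : Set G) ≤ V :=
    PLocal.PSolvable.centralizer_pCore_le hO (PLocal.PSolvable.subgroup hsolv _)
  obtain ⟨k, hk⟩ := IsPGroup.iff_card.1 hVp
  obtain ⟨H, hVH⟩ := Subgroup.exists_right_complement'_of_coprime (N := V)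
    (by rw [hk]; exact (hp.out.coprime_iff_not_dvd.2 hidx).pow_left k)
  have hHcard : V.index = Nat.card H := hVH.symm.index_eq_card
  have hHp : ¬ p ∣ Nat.card H := hHcard ▸ hidx
  have hfaith : ∀ h ∈ H, (∀ v ∈ V, h * v = v * h) → h = 1 := fun h hh hc => by
    have hm : h ∈ (V ⊓ H : Subgroup G) :=
      ⟨hcen (Subgroup.mem_centralizer_iff.2 fun v hv => (hc v hv).symm), hh⟩
    rwa [hVH.disjoint.eq_bot, Subgroup.mem_bot] at hm
  letI : CommGroup V := { (inferInstance : Group V) with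
    mul_comm := fun a b => Subtype.ext (hab a a.2 b b.2) }
  let φ : H →* MulAut V := (MulAut.conjNormal (H := V)).comp H.subtype
  have hφ : Function.Injective φ := by
    rw [injective_iff_map_eq_one]
    intro g hg
    refine Subtype.ext (hfaith g g.2 fun v hv => ?_)
    have h : (g : G) * v * (g : G)⁻¹ = v :=
      congrArg Subtype.val (DFunLike.congr_fun hg (⟨v, hv⟩ : V))
    exact mul_inv_eq_iff_eq_mul.1 h
  have hRk := Perm.TransCoprimeLower.card_regC_of_complement V hab hexp H hVH hHp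
  rw [hRk]
  rcases Perm.TransCoprimeLower.lower_of_action (fun a : V => Subtype.ext (by simpa using hexp a a.2))
    φ hφ hHp (fun a b ha hb => by
      obtain ⟨c, hc⟩ := isConj_iff.1 (hconj (a : G) (b : G) (fun e => ha (Subtype.ext e))
        (fun e => hb (Subtype.ext e)) (hexpP _ a.2) (hexpP _ b.2))
      obtain ⟨⟨⟨w, hw⟩, ⟨h, hh⟩⟩, rfl⟩ := hVH.2 c
      refine ⟨⟨h, hh⟩, Subtype.ext ?_⟩
      show h * (a : G) * h⁻¹ = (b : G)
      have hm : h * (a : G) * h⁻¹ ∈ V := hVn.conj_mem _ a.2 h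
      rw [← hc]
      calc h * (a : G) * h⁻¹ = w * (h * (a : G) * h⁻¹) * w⁻¹ := by
            rw [hab w hw _ hm, mul_inv_cancel_right]
        _ = _ := by group) with h | ⟨hV, hkH, hH⟩ | ⟨h11, hV, hkH, hH, h15, hfree, hiso⟩
  · exact Or.inl h
  · exact Or.inr (Or.inl ⟨hkH, affine_iso p V H hVH hV hH hab hfaith⟩)
  · exact Or.inr (Or.inr ⟨h11, hkH, by rw [← hVH.card_mul_card, hV, hH], V, H, hVn, hVH, hV, hH, hab, h15,
      fun h hh h1 v hv e => congrArg Subtype.val (hfree ⟨h, hh⟩ (fun e' => h1 (congrArg Subtype.val e'))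
        ⟨v, hv⟩ (Subtype.ext (show h * v * h⁻¹ = v by rw [← e, mul_inv_cancel_right]))), hiso⟩)

/-- Let p be a prime and G a finite p-solvable group of order divisible by p in which all non-identity p-elements are conjugate. Then G has at least p conjugacy classes of p-regular elements; or G has exactly p − 1 of them and is isomorphic to the one-dimensional affine group over the field with p elements; or p = 11, G has exactly 9 of them, G has order 121·120 and G is a Frobenius group whose complement is isomorphic to SL(2,5). -/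
theorem result {G : Type*} [Group G] [Finite G] (p : ℕ) [Fact p.Prime] (hsolv : Cfsg.IsPSolvable p G) (hdiv : p ∣ Nat.card G) (hconj : ∀ x y : G, x ≠ 1 → y ≠ 1 → (∃ k : ℕ, orderOf x = p ^ k) → (∃ k : ℕ, orderOf y = p ^ k) → IsConj x y) : p ≤ Nat.card {c : ConjClasses G // ∃ g : G, ConjClasses.mk g = c ∧ ¬ p ∣ orderOf g} ∨ (Nat.card {c : ConjClasses G // ∃ g : G, ConjClasses.mk g = c ∧ ¬ p ∣ orderOf g} = p - 1 ∧ Nonempty (G ≃* ↥(Cfsg.affineGroup (ZMod p)))) ∨ (p = 11 ∧ Nat.card {c : ConjClasses G // ∃ g : G, ConjClasses.mk g = c ∧ ¬ p ∣ orderOf g} = 9 ∧ (Nat.card G = 121 * 120 ∧ ∃ H : Subgroup G, Cfsg.IsFrobeniusComplement H ∧ Nonempty (↥H ≃* Matrix.SpecialLinearGroup (Fin 2) (ZMod 5)))) := by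
  classical
  show p ≤ Nat.card (RegC p G) ∨ (Nat.card (RegC p G) = p - 1 ∧ _) ∨
    (p = 11 ∧ Nat.card (RegC p G) = 9 ∧ _)
  set N := Cfsg.pPrimeCore p G with hN
  haveI hNn : N.Normal := PLocal.Cores.pPrimeCore_normal'
  by_cases hN1 : N = ⊥
  · rcases core_cases p hsolv hdiv hN1 hconj with
      h | h | ⟨h11, hR, hG, V, H, hVn, hVH, hV, hH, hab, -, hfree, hiso⟩
    · exact Or.inl h
    · exact Or.inr (Or.inl h)
    · haveI := hVn
      refine Or.inr (Or.inr ⟨h11, hR, hG, H, (Frobenius.Basic.isFrobeniusComplement_of_fixedPointFree V H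
        hVH.disjoint.eq_bot ?_ ?_ ?_ hfree).1, hiso⟩)
      · exact hVH.sup_eq_top
      · intro h; rw [h, Subgroup.card_bot] at hV; norm_num at hV
      · intro h; rw [h, Subgroup.card_bot] at hH; norm_num at hH
  left
  have hp := (Fact.out : p.Prime)
  have hNp : ¬ p ∣ Nat.card N := PLocal.Cores.not_dvd_card_pPrimeCore hp.ne_one
  set π := QuotientGroup.mk' N
  have hπs : Function.Surjective π := QuotientGroup.mk'_surjective N
  have hQdiv : p ∣ Nat.card (G ⧸ N) := by
    rw [Subgroup.card_eq_card_quotient_mul_card_subgroup N] at hdiv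
    exact (hp.dvd_mul.1 hdiv).resolve_right hNp
  have hQconj : ∀ x y : G ⧸ N, x ≠ 1 → y ≠ 1 → (∃ k : ℕ, orderOf x = p ^ k) →
      (∃ k : ℕ, orderOf y = p ^ k) → IsConj x y := by
    intro x y hx hy hxp hyp
    obtain ⟨a, rfl, hap⟩ := p_lift p π hπs hxp
    obtain ⟨b, rfl, hbp⟩ := p_lift p π hπs hyp
    exact π.map_isConj (hconj a b (fun e => hx (by rw [e, map_one])) (fun e => hy (by rw [e, map_one])) hap hbp)
  have hone : Nat.card (RegC p (G ⧸ N)) + 1 ≤ Nat.card (RegC p G) := by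
    obtain ⟨n, hn, hn1⟩ := (Subgroup.bot_or_exists_ne_one N).resolve_left hN1
    refine Perm.TransCoprimeLower.add_one_le (regMap p π) (regMap_surjective π hπs)
      (a := ⟨ConjClasses.mk n, n, rfl, fun h => hNp (h.trans (Subgroup.orderOf_dvd_natCard N hn))⟩)
      (b := ⟨ConjClasses.mk 1, 1, rfl, by rw [orderOf_one]; exact hp.not_dvd_one⟩)
      (fun e => hn1 (isConj_one_left.1 (ConjClasses.mk_eq_mk_iff_isConj.1 (congrArg Subtype.val e))))
      (Subtype.ext ?_)
    show ConjClasses.mk (π n) = ConjClasses.mk (π 1)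
    rw [map_one, show π n = 1 from (QuotientGroup.eq_one_iff n).2 hn]
  rcases core_cases p (PLocal.PSolvable.quotient hsolv N) hQdiv
    PLocal.Cores.pPrimeCore_quotient_pPrimeCore hQconj with
    h | ⟨h, -⟩ | ⟨h11, hR, -, V, H, hVn, hVH, hV, hH, hab, h15, hfree, -⟩
  · omega
  · omega
  · subst h11
    haveI := hVn
    exact Perm.TransCoprimeLower.extension_count N hN1 hNp V H hVH hV hH hab h15 hfree hR

end Cfsg.Agent.S4878
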