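import Cfsg.Statements.S4885
import Cfsg.Agent.BlocksChars.PrincipalPSolvable
import Cfsg.Agent.Lib.PLocal.PSolvable
import Cfsg.Agent.Lib.Transfer.Tate
import Cfsg.Agent.Lib.Coprime.PGroup
import Cfsg.Agent.Lib.Coprime.SchurZassenhaus
import Cfsg.Agent.Lib.Characters.Induction
import Cfsg.Agent.Lib.Characters.Normal
import Cfsg.Agent.Lib.Blocks.Defect
set_option linter.style.haveILetI false
open scoped commutatorElement Pointwise

set_option autoImplicit false
open Cfsg

namespace Cfsg.Agent.S4885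

open Cfsg.Agent.Characters

universe u

variable {G : Type u} [Group G] [Finite G]

/-- If every character of `G ⧸ K` of degree prime to `p` is trivial on `L`, then the part of a Sylow
`p`-subgroup lying in `LK` lies in its derived subgroup. -/
theorem mem_derived {p : ℕ} [Fact p.Prime] (K L : Subgroup G) [K.Normal] (hK : ¬ p ∣ Nat.card K)
    (h : ∀ χ : Cfsg.IrrCharacter G, ¬ p ∣ Cfsg.charDegree (χ : G → ℂ) →
      (∀ k ∈ K, (χ : G → ℂ) k = (χ : G → ℂ) 1) → ∀ l ∈ L, (χ : G → ℂ) l = (χ : G → ℂ) 1)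
    (P : Sylow p G) {x : G} (hx : x ∈ (P : Subgroup G)) {l : G} (hl : l ∈ L) (hxl : x⁻¹ * l ∈ K) :
    x ∈ ⁅(P : Subgroup G), (P : Subgroup G)⁆ := by
  classical
  haveI := Fintype.ofFinite G
  haveI := Fintype.ofFinite (Cfsg.IrrCharacter G)
  have hp : p.Prime := Fact.out
  -- it suffices that all linear characters of `P` are trivial at `x`
  suffices hlin : (⟨x, hx⟩ : P.toSubgroup) ∈ commutator P.toSubgroup by
    rw [← Subgroup.map_subtype_commutator]
    exact ⟨_, hlin, rfl⟩
  rw [← Abelianization.ker_of, MonoidHom.mem_ker]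
  by_contra hne
  obtain ⟨φ₀, hφ₀⟩ := exists_irr_ne (G := Abelianization P.toSubgroup) hne
  have hφ1 : (φ₀ : _ → ℂ) 1 = 1 :=
    irr_degree_one_of_comm (fun a b => mul_comm a b) hφ₀.1
  set R : Subgroup G := (P : Subgroup G) ⊔ K with hR
  have hPR : (P : Subgroup G) ≤ R := le_sup_left
  have hKR : K ≤ R := le_sup_right
  set Pr : Subgroup R := (P : Subgroup G).subgroupOf R with hPr
  set Kr : Subgroup R := K.subgroupOf R with hKr
  have hsup : Kr ⊔ Pr = ⊤ := by
    rw [hKr, hPr, ← Subgroup.subgroupOf_sup hKR hPR, sup_comm, ← hR, Subgroup.subgroupOf_self]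
  have hinf : Kr ⊓ Pr = ⊥ := by
    rw [Subgroup.eq_bot_iff_forall]
    intro a ha
    have h1 : orderOf (a : G) = 1 := by
      obtain ⟨n, hn⟩ := P.2.exists_card_eq
      refine Nat.eq_one_of_dvd_coprimes
        (((hp.coprime_iff_not_dvd.2 hK).symm).pow_right n) ?_ ?_
      · exact Subgroup.orderOf_dvd_natCard _ ha.1
      · exact hn ▸ Subgroup.orderOf_dvd_natCard _ ha.2
    exact Subtype.ext (orderOf_eq_one_iff.1 h1)
  have hc : Subgroup.IsComplement' Kr Pr :=
    Subgroup.isComplement'_of_disjoint_and_mul_eq_univ (disjoint_iff.2 hinf)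
      (by rw [← Subgroup.normal_mul, hsup, Subgroup.coe_top])
  let f : R →* Abelianization P.toSubgroup :=
    (Abelianization.of.comp ((Subgroup.subgroupOfEquivOfLe hPR).toMonoidHom.comp
      hc.symm.QuotientMulEquiv.toMonoidHom)).comp (QuotientGroup.mk' Kr)
  have hfK : ∀ a : R, (a : G) ∈ K → f a = 1 := by
    intro a ha
    show Abelianization.of (Subgroup.subgroupOfEquivOfLe hPR
      (hc.symm.QuotientMulEquiv (QuotientGroup.mk' Kr a))) = 1
    rw [show QuotientGroup.mk' Kr a = 1 from (QuotientGroup.eq_one_iff a).2 ha, map_one, map_one,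
      map_one]
  have hfP : ∀ a : Pr, f (a : R) = Abelianization.of (Subgroup.subgroupOfEquivOfLe hPR a) := by
    intro a
    show Abelianization.of (Subgroup.subgroupOfEquivOfLe hPR
      (hc.symm.QuotientMulEquiv (QuotientGroup.mk' Kr (a : R)))) = _
    congr 2
    rw [← hc.symm.QuotientMulEquiv.eq_symm_apply]
    rfl
  set μ : R → ℂ := fun a => φ₀ (f a) with hμ
  have hμc : Cfsg.IsCharacter R μ := isCharacter_comp f (isCharacter_of_isIrr hφ₀.1)
  set I := Cfsg.indFun R μ with hI
  have hIc : Cfsg.IsCharacter G I := isCharacter_indFun R hμc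
  choose m hm using fun χ : Cfsg.IrrCharacter G => classInner_char_nat hIc (irr_isCharacter χ)
  have h1 := congrFun (classFun_eq_sum (char_isClassFunction hIc)) 1
  simp only [Finset.sum_apply, Pi.smul_apply, smul_eq_mul, hm] at h1
  rw [hI, indFun_one, show μ 1 = 1 by simp [hμ, hφ1], mul_one] at h1
  simp only [← Blocks.charDegree_cast, ← Nat.cast_mul, ← Nat.cast_sum, Nat.cast_inj] at h1
  obtain ⟨χ, -, hχ⟩ : ∃ χ ∈ Finset.univ, ¬ p ∣ m χ * Cfsg.charDegree (χ : G → ℂ) := by
    by_contra hh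
    push Not at hh
    have := Finset.dvd_sum hh
    rw [← h1] at this
    exact P.not_dvd_index (this.trans (Subgroup.index_dvd_of_le hPR))
  have hmχ : m χ ≠ 0 := fun h0 => hχ (by simp [h0])
  have hdeg : ¬ p ∣ Cfsg.charDegree (χ : G → ℂ) := fun h2 => hχ (h2.mul_left _)
  haveI := Fintype.ofFinite R
  haveI := Fintype.ofFinite (Cfsg.IrrCharacter R)
  have hover : Cfsg.classInner (fun a : R => (χ : G → ℂ) a) μ ≠ 0 := by
    intro h0
    have := frobenius_reciprocity R μ (irr_isClassFunction χ)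
    rw [hm χ, classInner_conj_symm (fun a : R => (χ : G → ℂ) a), h0, map_zero,
      Nat.cast_eq_zero] at this
    exact hmχ this
  -- `χ` is trivial on `K`
  haveI := Fintype.ofFinite K
  have hμi : Cfsg.IsIrrCharacter R μ := CharTheory.Basics.isIrr_of_degree_one hμc (by simp [hμ, hφ1])
  set mm : Cfsg.IrrCharacter R := ⟨μ, hμi⟩
  have hχK : ∀ k ∈ K, (χ : G → ℂ) k = (χ : G → ℂ) 1 := by
    intro k hk
    haveI := Fintype.ofFinite (Cfsg.IrrCharacter K)
    choose n hn using fun θ : Cfsg.IrrCharacter K =>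
      classInner_char_nat (isCharacter_restrict K (irr_isCharacter χ)) (irr_isCharacter θ)
    have hne1 : n (trivIrr K) ≠ 0 := by
      intro h0
      -- the restriction of `χ` to `R` has `μ` as constituent, trivial on `K`
      obtain ⟨a, ha⟩ := classInner_char_nat (isCharacter_restrict R (irr_isCharacter χ)) hμc
      obtain ⟨ρ, hρ, he⟩ := CharTheory.Basics.eq_smul_of_degree
        (isCharacter_restrict R (irr_isCharacter χ)) hμi ha
      obtain ⟨b, hb⟩ := classInner_char_nat
        (isCharacter_comp (Subgroup.inclusion hKR) hρ) (isCharacter_one (G := K))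
      have hb' : Cfsg.classInner (fun k : K => ρ (Subgroup.inclusion hKR k)) (fun _ => 1) =
          (b : ℂ) := hb
      have := hn (trivIrr K)
      have hres : (fun k : K => (χ : G → ℂ) k) =
          (a : ℂ) • (fun _ : K => (1 : ℂ)) + fun k => ρ (Subgroup.inclusion hKR k) := by
        funext k
        have := congrFun he (Subgroup.inclusion hKR k)
        simp only [Pi.add_apply, Pi.smul_apply, smul_eq_mul, Subgroup.coe_inclusion] at this ⊢
        rw [this, show μ (Subgroup.inclusion hKR k) = 1 by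
          show (φ₀ : _ → ℂ) (f _) = 1
          rw [hfK _ k.2, hφ1]]
      rw [hres, classInner_add_left, classInner_smul_left, trivIrr_coe,
        classInner_isIrr_self isIrrCharacter_one, mul_one, hb', h0, ← Nat.cast_add,
        Nat.cast_inj] at this
      exact hover (by rw [ha, show a = 0 by omega, Nat.cast_zero])
    have hall : ∀ θ : Cfsg.IrrCharacter K, n θ ≠ 0 → θ = trivIrr K := by
      intro θ hθ
      obtain ⟨g, hg⟩ := exists_conjugate_of_constituents K χ.2 (trivIrr K).2 θ.2
        (by rw [hn]; exact_mod_cast hne1) (by rw [hn]; exact_mod_cast hθ)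
      exact Subtype.ext hg
    have h := classFun_eq_sum
      (char_isClassFunction (isCharacter_restrict K (irr_isCharacter χ)))
    rw [Finset.sum_eq_single (trivIrr K) (fun θ _ hθ => by
      rw [hn, not_not.1 (fun h => hθ (hall θ h)), Nat.cast_zero, zero_smul]) (by simp)] at h
    have e1 := congrFun h ⟨k, hk⟩
    have e2 := congrFun h 1
    simp only [Pi.smul_apply, trivIrr_coe, Subgroup.coe_one] at e1 e2
    rw [e1, e2]
  -- so it is trivial at `l`, hence so is `μ`
  have hlR : l ∈ R := by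
    have := R.mul_mem (hPR hx) (hKR hxl)
    rwa [mul_inv_cancel_left] at this
  have hμl : μ ⟨l, hlR⟩ = μ 1 := by
    by_contra hne2
    apply hover
    choose n hn using fun θ : Cfsg.IrrCharacter R =>
      classInner_char_nat (isCharacter_restrict R (irr_isCharacter χ)) (irr_isCharacter θ)
    have hchar := (h χ hdeg hχK l hl)
    obtain ⟨a, ha⟩ := classInner_char_nat (isCharacter_restrict R (irr_isCharacter χ)) hμc
    obtain ⟨ρ, hρ, he⟩ := CharTheory.Basics.eq_smul_of_degree
      (isCharacter_restrict R (irr_isCharacter χ)) hμi ha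
    rw [ha]
    have e1 := congrFun he ⟨l, hlR⟩
    have e2 := congrFun he 1
    simp only [Pi.add_apply, Pi.smul_apply, smul_eq_mul, Subgroup.coe_one] at e1 e2
    obtain ⟨d, hd⟩ := char_one_nat hρ
    have hn1 : ‖ρ ⟨l, hlR⟩‖ ≤ (d : ℝ) := by
      have := char_norm_le hρ ⟨l, hlR⟩
      rwa [hd, Complex.norm_natCast] at this
    have hn2 : ‖μ ⟨l, hlR⟩‖ = 1 := by
      have h4 := CharTheory.Basics.char_norm_eq_one hμc (by simp [hμ, hφ1]) ⟨l, hlR⟩
      rw [Complex.mul_conj, Complex.normSq_eq_norm_sq] at h4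
      norm_cast at h4
      nlinarith [norm_nonneg (μ ⟨l, hlR⟩)]
    have hμ1 : μ 1 = 1 := by simp [hμ, hφ1]
    rw [hchar, e2, hμ1, hd] at e1
    by_contra ha0
    have hapos : (0 : ℝ) < a := by
      exact_mod_cast Nat.pos_of_ne_zero (fun h0 => ha0 (by rw [h0, Nat.cast_zero]))
    have hre : (a : ℝ) + d ≤ a * (μ ⟨l, hlR⟩).re + d := by
      have := congrArg Complex.re e1
      simp at this
      have h3 := Complex.re_le_norm (ρ ⟨l, hlR⟩)
      linarith
    have hre1 : (μ ⟨l, hlR⟩).re = 1 := by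
      have h4 := Complex.re_le_norm (μ ⟨l, hlR⟩)
      rw [hn2] at h4
      nlinarith
    apply hne2
    rw [hμ1]
    refine Complex.ext (by simpa using hre1) ?_
    have h5 := Complex.sq_norm (μ ⟨l, hlR⟩)
    rw [hn2, Complex.normSq_apply, hre1] at h5
    have h6 : (μ ⟨l, hlR⟩).im * (μ ⟨l, hlR⟩).im = 0 := by linarith
    simpa using mul_self_eq_zero.1 h6
  apply hφ₀.2
  have hfl : f ⟨l, hlR⟩ = Abelianization.of (⟨x, hx⟩ : P.toSubgroup) := by
    have e : (⟨l, hlR⟩ : R) = ⟨x, hPR hx⟩ * ⟨x⁻¹ * l, hKR hxl⟩ :=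
      Subtype.ext (by show l = x * (x⁻¹ * l); group)
    rw [e, map_mul, hfK ⟨x⁻¹ * l, hKR hxl⟩ hxl, mul_one]
    exact hfP ⟨⟨x, hPR hx⟩, hx⟩
  rw [hμ] at hμl
  simp only [map_one, hfl] at hμl
  exact hμl

/-- A normal subgroup inside the derived subgroup of a Sylow subgroup, modulo `U`, is not needed
to generate. -/
theorem eq_top_of_sup {q : ℕ} [Fact q.Prime] (Q : Sylow q G) (N U : Subgroup G) [N.Normal]
    (hN : ∀ n ∈ N, ∃ y ∈ (Q : Subgroup G) ⊓ N, n * y⁻¹ ∈ U)
    (hder : N ⊓ (Q : Subgroup G) ≤ ⁅(Q : Subgroup G), (Q : Subgroup G)⁆)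
    (h : U ⊔ N = ⊤) : U = ⊤ := by
  haveI : Group.IsNilpotent (Q : Subgroup G) := Q.2.isNilpotent
  have hQ : U ⊓ (Q : Subgroup G) = (Q : Subgroup G) := by
    refine Coprime.eq_of_le_of_sup_commutator_eq inf_le_right ?_
    refine le_antisymm (sup_le inf_le_right (Subgroup.commutator_le_self _)) fun x hx => ?_
    obtain ⟨u, hu, n, hn, rfl⟩ := Subgroup.mem_sup_of_normal_right.1 (h ▸ Subgroup.mem_top x)
    obtain ⟨y, hy, hyU⟩ := hN n hn
    have h1 : u * (n * y⁻¹) ∈ U ⊓ (Q : Subgroup G) :=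
      ⟨U.mul_mem hu hyU, by
        rw [← mul_assoc]
        exact (Q : Subgroup G).mul_mem hx ((Q : Subgroup G).inv_mem hy.1)⟩
    have := Subgroup.mul_mem_sup h1 (hder ⟨hy.2, hy.1⟩)
    rwa [mul_assoc, inv_mul_cancel_right] at this
  have hQU : (Q : Subgroup G) ≤ U := inf_eq_right.1 hQ
  rw [eq_top_iff, ← h]
  refine sup_le le_rfl fun n hn => ?_
  obtain ⟨y, hy, hyU⟩ := hN n hn
  simpa using U.mul_mem hyU (hQU hy.1)

/-- A `p`-solvable group of order divisible by `p` without `p'`-core whose `p`-core lies in the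
derived subgroup of a Sylow `p`-subgroup does not exist. -/
theorem not_core_le_derived {p : ℕ} [Fact p.Prime] (hsolv : Cfsg.IsPSolvable p G)
    (hO : Cfsg.pPrimeCore p G = ⊥) (hp : p ∣ Nat.card G) (P : Sylow p G)
    (hV : Cfsg.pCore p G ≤ ⁅(P : Subgroup G), (P : Subgroup G)⁆) : False := by
  classical
  set V := Cfsg.pCore p G with hVdef
  haveI : V.Normal := Cores.pCore_normal p
  have hVP : V ≤ (P : Subgroup G) := hV.trans (Subgroup.commutator_le_self _)
  have hgen : ∀ U : Subgroup G, U ⊔ V = ⊤ → U = ⊤ := fun U hU =>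
    eq_top_of_sup P V U (fun n hn => ⟨n, ⟨hVP hn, hn⟩, by simp⟩) (inf_le_left.trans hV) hU
  by_cases htop : V = ⊤
  · have := hgen ⊥ (by rw [htop, bot_sup_eq])
    haveI : Subsingleton G := subsingleton_iff.2 fun a b => by
      have ha := this.ge (Subgroup.mem_top a)
      have hb := this.ge (Subgroup.mem_top b)
      rw [Subgroup.mem_bot] at ha hb
      rw [ha, hb]
    rw [Nat.card_of_subsingleton (1 : G)] at hp
    exact (Fact.out : p.Prime).one_lt.ne' (Nat.dvd_one.1 hp)
  haveI : Nontrivial (G ⧸ V) := QuotientGroup.nontrivial_iff.2 htop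
  rcases PLocal.PSolvable.exists_core_ne_bot (PLocal.PSolvable.quotient hsolv V) with h | h
  · exact h (Cores.pCore_quotient_self p)
  apply h
  set B := Cfsg.pPrimeCore p (G ⧸ V) with hB
  haveI : B.Normal := Cores.pPrimeCore_normal p
  set A := B.comap (QuotientGroup.mk' V) with hA
  have hVA : V ≤ A := fun v hv => by
    rw [hA, Subgroup.mem_comap, show QuotientGroup.mk' V v = 1 from
      (QuotientGroup.eq_one_iff v).2 hv]
    exact one_mem _
  set V₁ : Subgroup A := V.subgroupOf A with hV₁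
  have hcV : Nat.card V₁ = Nat.card V := Nat.card_congr (Subgroup.subgroupOfEquivOfLe hVA).toEquiv
  have hidx : V₁.index = Nat.card B := by
    have h1 := V₁.card_mul_index
    rw [hcV, Cores.card_comap_mk' V B] at h1
    exact Nat.eq_of_mul_eq_mul_left Nat.card_pos (h1.trans (by ring))
  have hcop : (Nat.card V₁).Coprime V₁.index := by
    obtain ⟨k, hk⟩ := (Cores.pCore_isPGroup (G := G) p).exists_card_eq
    rw [hcV, hidx, show Nat.card V = p ^ k from hk]
    exact (Cores.pPrimeCore_card_coprime p).symm.pow_left k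
  obtain ⟨H, hH⟩ := Subgroup.exists_right_complement'_of_coprime hcop
  set H' := H.map A.subtype with hH'
  have hsolvV : Group.IsSolvable V₁ := by
    haveI : Group.IsNilpotent V₁ :=
      ((Cores.pCore_isPGroup (G := G) p).of_equiv
        (Subgroup.subgroupOfEquivOfLe hVA).symm).isNilpotent
    infer_instance
  have hsup : Subgroup.normalizer (H' : Set G) ⊔ V = ⊤ := by
    rw [eq_top_iff]
    intro g _
    set e : A ≃* A := MulAut.conjNormal g with he
    have hV1e : V₁.map e.toMonoidHom = V₁ := by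
      ext a
      rw [Subgroup.mem_map_equiv, Subgroup.mem_subgroupOf, Subgroup.mem_subgroupOf, he,
        show ((MulAut.conjNormal g).symm a : G) = g⁻¹ * a * g from MulAut.conjNormal_symm_apply g a]
      constructor
      · intro h2
        simpa [mul_assoc] using (‹V.Normal›).conj_mem _ h2 g
      · intro h2
        simpa [mul_assoc] using (‹V.Normal›).conj_mem _ h2 g⁻¹
    have hH2 : Subgroup.IsComplement' V₁ (H.map e.toMonoidHom) := by
      refine Subgroup.isComplement'_of_disjoint_and_mul_eq_univ ?_ ?_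
      · rw [disjoint_iff, ← hV1e, ← Subgroup.map_inf V₁ H e.toMonoidHom e.injective, hH.disjoint.eq_bot,
          Subgroup.map_bot]
      · rw [← Subgroup.normal_mul, ← hV1e, ← Subgroup.map_sup, hH.sup_eq_top,
          Subgroup.map_top_of_surjective e.toMonoidHom e.surjective, Subgroup.coe_top]
    obtain ⟨v, hv, hve⟩ := Coprime.complement'_conj hcop (Or.inl hsolvV) hH hH2
    have hmem : (v : G)⁻¹ * g ∈ Subgroup.normalizer (H' : Set G) := by
      rw [Subgroup.mem_normalizer_iff_map_conj_eq]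
      refine Subgroup.eq_of_le_of_card_ge ?_
        (le_of_eq (Subgroup.card_map_of_injective (MulEquiv.injective (MulAut.conj ((v : G)⁻¹ * g)))).symm)
      rintro n ⟨_, ⟨a, ha, rfl⟩, rfl⟩
      have h2 : e a ∈ H.map e.toMonoidHom := Subgroup.mem_map_of_mem _ ha
      rw [← hve, Subgroup.mem_pointwise_smul_iff_inv_smul_mem, MulAut.smul_def] at h2
      refine ⟨_, h2, ?_⟩
      simp [he, mul_assoc]
    have := Subgroup.mul_mem_sup hmem (show g⁻¹ * (v : G) * g ∈ V by
      simpa [mul_assoc] using (‹V.Normal›).conj_mem _ hv g⁻¹)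
    rwa [show (v : G)⁻¹ * g * (g⁻¹ * (v : G) * g) = g by group] at this
  have hHn : H'.Normal := Subgroup.normalizer_eq_top_iff.1 (hgen _ hsup)
  have hHb : H' = ⊥ := by
    rw [eq_bot_iff, ← hO]
    refine Cores.le_pPrimeCore (N := H') ?_
    rw [hH', Subgroup.card_map_of_injective A.subtype_injective, ← hH.symm.index_eq_card, hidx]
    exact Cores.pPrimeCore_card_coprime p
  have hB1 : Nat.card B = 1 := by
    rw [← hidx, hH.symm.index_eq_card, ← Subgroup.card_map_of_injective A.subtype_injective, ← hH',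
      hHb, Subgroup.card_bot]
  exact Subgroup.eq_bot_of_card_eq B hB1

/-- Let p and q be primes dividing the order of the finite group G, and suppose G is p-solvable and q-solvable. Fix maximal ideals of the algebraic integers containing p and q, defining the principal p-block and the principal q-block. If the irreducible characters of degree prime to p in the principal p-block are exactly the irreducible characters of degree prime to q in the principal q-block, then p = q. -/
theorem result {G : Type*} [Group G] [Finite G] (p q : ℕ) [Fact p.Prime] [Fact q.Prime] (hp : p ∣ Nat.card G) (hq : q ∣ Nat.card G) (hps : Cfsg.IsPSolvable p G) (hqs : Cfsg.IsPSolvable q G) (Mp Mq : Ideal Cfsg.AlgInt) (hMp : Cfsg.IsPModular p Mp) (hMq : Cfsg.IsPModular q Mq) (h : ∀ χ : Cfsg.IrrCharacter G, (χ ∈ Cfsg.principalBlock Mp G ∧ ¬ p ∣ Cfsg.charDegree (χ : G → ℂ)) ↔ (χ ∈ Cfsg.principalBlock Mq G ∧ ¬ q ∣ Cfsg.charDegree (χ : G → ℂ))) : p = q := by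
  classical
  by_contra hne
  have hpp : p.Prime := Fact.out
  have hqq : q.Prime := Fact.out
  set K := Cfsg.pPrimeCore p G with hKdef
  set L := Cfsg.pPrimeCore q G with hLdef
  haveI : K.Normal := Cores.pPrimeCore_normal p
  haveI : L.Normal := Cores.pPrimeCore_normal q
  have hX : ∀ χ : Cfsg.IrrCharacter G,
      ((∀ n ∈ K, (χ : G → ℂ) n = (χ : G → ℂ) 1) ∧ ¬ p ∣ Cfsg.charDegree (χ : G → ℂ)) ↔
      ((∀ n ∈ L, (χ : G → ℂ) n = (χ : G → ℂ) 1) ∧ ¬ q ∣ Cfsg.charDegree (χ : G → ℂ)) := fun χ => by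
    rw [← BlocksChars.PrincipalPSolvable.principal_iff_trivial hMp hps,
      ← BlocksChars.PrincipalPSolvable.principal_iff_trivial hMq hqs]
    exact h χ
  obtain ⟨P⟩ : Nonempty (Sylow p G) := inferInstance
  obtain ⟨Q⟩ : Nonempty (Sylow q G) := inferInstance
  have hKp : ¬ p ∣ Nat.card K := Cores.pPrimeCore_not_dvd p
  have hLq : ¬ q ∣ Nat.card L := Cores.pPrimeCore_not_dvd q
  have hP : ∀ x ∈ (P : Subgroup G), ∀ l ∈ L, x⁻¹ * l ∈ K →
      x ∈ ⁅(P : Subgroup G), (P : Subgroup G)⁆ := fun x hx l hl hxl =>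
    mem_derived K L hKp (fun χ h1 h2 => ((hX χ).1 ⟨h2, h1⟩).1) P hx hl hxl
  have hQK : K ⊓ (Q : Subgroup G) ≤ ⁅(Q : Subgroup G), (Q : Subgroup G)⁆ := fun x hx =>
    mem_derived L K hLq (fun χ h1 h2 => ((hX χ).2 ⟨h2, h1⟩).1) Q hx.2 hx.1
      (by rw [inv_mul_cancel]; exact one_mem _)
  -- `K = (K ⊓ L)(K ⊓ Q)`
  have hKdec : ∀ n ∈ K, ∃ y ∈ (Q : Subgroup G) ⊓ K, n * y⁻¹ ∈ L := by
    haveI : Group.IsNilpotent (Q : Subgroup G) := Q.2.isNilpotent
    obtain ⟨T₀, C, hCn, hC⟩ := Transfer.Tate.hasNormalPComplement_of_inf_le_frattini Q K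
      (hQK.trans (by
        rw [← Subgroup.map_subtype_commutator]
        exact Subgroup.map_mono (Coprime.commutator_le_frattini _)))
    haveI := hCn
    set T : Subgroup K := (Q : Subgroup G).subgroupOf K with hT
    set D : Subgroup K := L.subgroupOf K with hD
    have hCD : C ≤ D := by
      intro c hc
      have h1 : C ≤ Cfsg.pPrimeCore q K := Cores.le_pPrimeCore (by
        rw [← hC.index_eq_card]
        exact (hqq.coprime_iff_not_dvd.2 T₀.not_dvd_index).symm)
      exact Cores.map_pPrimeCore_subtype_le q K (Subgroup.mem_map_of_mem K.subtype (h1 hc))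
    haveI : D.Normal := inferInstanceAs (L.subgroupOf K).Normal
    have htop : T ⊔ D = ⊤ := by
      rw [← Subgroup.index_eq_one]
      obtain ⟨a, ha⟩ := T₀.2.exists_card_eq
      have h1 : (T ⊔ D).index ∣ q ^ a := by
        rw [← ha, ← hC.symm.index_eq_card]
        exact Subgroup.index_dvd_of_le (hCD.trans le_sup_right)
      have h2 : ¬ q ∣ (T ⊔ D).index := fun h2 => Q.not_dvd_index
        ((h2.trans (Subgroup.index_dvd_of_le le_sup_left)).trans
          (Cores.relIndex_dvd_index_right_normal _ _))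
      obtain ⟨b, -, hb⟩ := (Nat.dvd_prime_pow hqq).1 h1
      rcases b with _ | b
      · simpa using hb
      · exact absurd (hb ▸ dvd_pow_self q (Nat.succ_ne_zero b)) h2
    intro n hn
    obtain ⟨y, hy, d, hd, hyd⟩ := Subgroup.mem_sup_of_normal_right.1
      (htop ▸ Subgroup.mem_top (⟨n, hn⟩ : K))
    refine ⟨y, ⟨hy, y.2⟩, ?_⟩
    have he : (y : G) * (d : G) = n := congrArg Subtype.val hyd
    rw [← he]
    exact (‹L.Normal›).conj_mem _ hd _
  -- the `p`-core of `G ⧸ K` lies in the image of `L`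
  set W := (Cfsg.pCore p (G ⧸ K)).comap (QuotientGroup.mk' K) with hW
  haveI : (Cfsg.pCore p (G ⧸ K)).Normal := Cores.pCore_normal p
  haveI : W.Normal := inferInstanceAs ((Cfsg.pCore p (G ⧸ K)).comap (QuotientGroup.mk' K)).Normal
  obtain ⟨R⟩ : Nonempty (Sylow p W) := inferInstance
  set R' := (R : Subgroup W).map W.subtype with hR'
  have hRp : IsPGroup p R' := R.2.map W.subtype
  have hWR : W ≤ R' ⊔ K := by
    have htop : (R : Subgroup W) ⊔ K.subgroupOf W = ⊤ := by
      rw [← Subgroup.index_eq_one]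
      have hKW : K ≤ W := fun k hk => by
        rw [hW, Subgroup.mem_comap, show QuotientGroup.mk' K k = 1 from
          (QuotientGroup.eq_one_iff k).2 hk]
        exact one_mem _
      have hi : (K.subgroupOf W).index = Nat.card (Cfsg.pCore p (G ⧸ K)) := by
        have h1 := (K.subgroupOf W).card_mul_index
        rw [Nat.card_congr (Subgroup.subgroupOfEquivOfLe hKW).toEquiv,
          Cores.card_comap_mk' K] at h1
        exact Nat.eq_of_mul_eq_mul_left Nat.card_pos (h1.trans (by ring))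
      obtain ⟨a, ha⟩ := (Cores.pCore_isPGroup (G := G ⧸ K) p).exists_card_eq
      have h1 : ((R : Subgroup W) ⊔ K.subgroupOf W).index ∣ p ^ a := by
        rw [← ha, ← hi]
        exact Subgroup.index_dvd_of_le le_sup_right
      have h2 : ¬ p ∣ ((R : Subgroup W) ⊔ K.subgroupOf W).index := fun h2 =>
        R.not_dvd_index (h2.trans (Subgroup.index_dvd_of_le le_sup_left))
      obtain ⟨b, -, hb⟩ := (Nat.dvd_prime_pow hpp).1 h1
      rcases b with _ | b
      · simpa using hb
      · exact absurd (hb ▸ dvd_pow_self p (Nat.succ_ne_zero b)) h2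
    intro w hw
    obtain ⟨r, hr, k, hk, hrk⟩ := Subgroup.mem_sup_of_normal_right.1
      (htop ▸ Subgroup.mem_top (⟨w, hw⟩ : W))
    rw [show w = (r : G) * (k : G) from (congrArg Subtype.val hrk).symm]
    exact Subgroup.mul_mem_sup (Subgroup.mem_map_of_mem _ hr) hk
  set D := K ⊓ L with hD
  haveI : D.Normal := Subgroup.normal_inf_normal K L
  set U := Subgroup.normalizer (R' : Set G) ⊔ D with hU
  have hUK : U ⊔ K = ⊤ := by
    rw [eq_top_iff, ← Sylow.normalizer_sup_eq_top R, ← hR']
    refine sup_le (le_sup_left.trans le_sup_left) (hWR.trans (sup_le_sup_right ?_ K))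
    exact Subgroup.le_normalizer.trans le_sup_left
  have hUtop : U = ⊤ := eq_top_of_sup Q K U (fun n hn => by
    obtain ⟨y, hy, hyL⟩ := hKdec n hn
    exact ⟨y, hy, Subgroup.mem_sup_right ⟨K.mul_mem hn (K.inv_mem hy.2), hyL⟩⟩) hQK hUK
  have hRD : (R' ⊔ D).Normal := by
    rw [← Subgroup.normalizer_eq_top_iff, eq_top_iff, ← hUtop, hU]
    refine sup_le (fun g hg => ?_) (le_sup_right.trans Subgroup.le_normalizer)
    have h1 := Subgroup.mem_normalizer_iff_map_conj_eq.1 hg
    rw [Subgroup.mem_normalizer_iff_map_conj_eq, Subgroup.map_sup, h1,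
      Subgroup.normal_iff_map_conj_eq.1 ‹D.Normal› g]
  have hWL : W ≤ L ⊔ K := by
    refine hWR.trans (sup_le_sup_right ((le_sup_left : R' ≤ R' ⊔ D).trans ?_) K)
    refine Cores.le_pPrimeCore (N := R' ⊔ D) ?_
    obtain ⟨a, ha⟩ := hRp.exists_card_eq
    refine Nat.Coprime.coprime_dvd_left (Cores.card_sup_dvd_mul R' D) ?_
    refine Nat.Coprime.mul_left ?_ ?_
    · rw [ha]
      exact (((Nat.coprime_primes hpp hqq).2 hne)).pow_left a
    · exact Nat.Coprime.coprime_dvd_left (Subgroup.card_dvd_of_le inf_le_right)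
        (hqq.coprime_iff_not_dvd.2 hLq).symm
  -- conclude in `G ⧸ K`
  have hpK : p ∣ Nat.card (G ⧸ K) := by
    have h1 := K.card_mul_index
    rw [Subgroup.index_eq_card] at h1
    exact (hpp.dvd_mul.1 (h1.symm ▸ hp)).resolve_left hKp
  refine not_core_le_derived (PLocal.PSolvable.quotient hps K)
    (Cores.pPrimeCore_quotient_self p) hpK
    (P.mapSurjective (QuotientGroup.mk'_surjective K)) ?_
  intro v hv
  have hvP : v ∈ (P.mapSurjective (QuotientGroup.mk'_surjective K) : Subgroup (G ⧸ K)) :=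
    Cores.pCore_le_sylow _ hv
  rw [Sylow.coe_mapSurjective] at hvP ⊢
  obtain ⟨x, hx, rfl⟩ := hvP
  obtain ⟨l, hl, k, hk, hlk⟩ := Subgroup.mem_sup_of_normal_right.1 (hWL (show x ∈ W from hv))
  rw [← Subgroup.map_commutator]
  refine Subgroup.mem_map_of_mem _ (hP x hx l hl ?_)
  rw [show x⁻¹ * l = k⁻¹ by rw [← hlk]; group]
  exact K.inv_mem hk

end Cfsg.Agent.S4885
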