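import Cfsg.Statements.S4886
import Cfsg.Agent.Lib.CharTheory.CrossCoprime.Main
import Cfsg.Agent.BlocksChars.PrincipalPSolvable

set_option autoImplicit false
open Cfsg

namespace Cfsg.Agent.S4886

open Cfsg.Agent.CharTheory.CrossCoprime Cfsg.Agent.Characters

universe u

variable {G : Type u} [Group G] [Finite G] {p q : ℕ} [Fact p.Prime] [Fact q.Prime]

/-- The cross condition makes the `p'`-core absorb every Sylow `q`-subgroup. -/
theorem sylow_le_core {M : Ideal Cfsg.AlgInt} (hM : Cfsg.IsPModular p M)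
    (hps : Cfsg.IsPSolvable p G) (hqs : Cfsg.IsPSolvable q G) (hpq : p ≠ q)
    (h : ∀ χ : Cfsg.IrrCharacter G, χ ∈ Cfsg.principalBlock M G →
      ¬ p ∣ Cfsg.charDegree (χ : G → ℂ) → ¬ q ∣ Cfsg.charDegree (χ : G → ℂ))
    (Q : Sylow q G) : (Q : Subgroup G) ≤ Cfsg.pPrimeCore p G := by
  haveI : (Cfsg.pPrimeCore p G).Normal := Cores.pPrimeCore_normal p
  have hcross : Cross (G ⧸ Cfsg.pPrimeCore p G) p q := by
    intro ψ hψ
    have hir := isIrrCharacter_comp_surjective _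
      (QuotientGroup.mk'_surjective (Cfsg.pPrimeCore p G)) ψ.2
    have hdeg : Cfsg.charDegree ((ψ : G ⧸ Cfsg.pPrimeCore p G → ℂ) ∘
        QuotientGroup.mk' (Cfsg.pPrimeCore p G)) =
        Cfsg.charDegree (ψ : G ⧸ Cfsg.pPrimeCore p G → ℂ) := by
      simp [Cfsg.charDegree]
    have hB : (⟨_, hir⟩ : Cfsg.IrrCharacter G) ∈ Cfsg.principalBlock M G :=
      (BlocksChars.PrincipalPSolvable.principal_iff_trivial hM hps _).2 fun n hn => by
        simp [(QuotientGroup.eq_one_iff n).2 hn]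
    have := h ⟨_, hir⟩ hB
    exact hdeg ▸ this (hdeg.symm ▸ hψ)
  have hnd := not_dvd_card_of_cross (PLocal.PSolvable.quotient hps _)
    (PLocal.PSolvable.quotient hqs _) hpq (Cores.pPrimeCore_quotient_self p) hcross
  intro x hx
  obtain ⟨k, hk⟩ := Q.isPGroup' ⟨x, hx⟩
  have h1 : (x : G ⧸ Cfsg.pPrimeCore p G) ^ q ^ k = 1 := by
    rw [← QuotientGroup.mk_pow, show x ^ q ^ k = 1 from congrArg Subtype.val hk,
      QuotientGroup.mk_one]
  have h2 := pow_gcd_eq_one.2 ⟨h1, pow_card_eq_one' (x := (x : G ⧸ Cfsg.pPrimeCore p G))⟩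
  rw [show Nat.gcd (q ^ k) (Nat.card (G ⧸ Cfsg.pPrimeCore p G)) = 1 from
    ((Fact.out : q.Prime).coprime_iff_not_dvd.2 hnd).pow_left k, pow_one] at h2
  exact (QuotientGroup.eq_one_iff x).1 h2

/-- Commuting Sylow subgroups make every degree in the principal block prime to `q`. -/
theorem not_dvd_degree {M : Ideal Cfsg.AlgInt} (hM : Cfsg.IsPModular p M)
    (hps : Cfsg.IsPSolvable p G) (hpq : p ≠ q) (P : Sylow p G) (Q : Sylow q G)
    (hc : ∀ x ∈ (P : Subgroup G), ∀ y ∈ (Q : Subgroup G), x * y = y * x)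
    (χ : Cfsg.IrrCharacter G) (hχ : χ ∈ Cfsg.principalBlock M G) :
    ¬ q ∣ Cfsg.charDegree (χ : G → ℂ) := by
  haveI : (Cfsg.pPrimeCore p G).Normal := Cores.pPrimeCore_normal p
  set K := Cfsg.pPrimeCore p G
  have hπ : Function.Surjective (QuotientGroup.mk' K) := QuotientGroup.mk'_surjective K
  have hnd : ¬ q ∣ Nat.card (G ⧸ K) := by
    refine not_dvd_of_centralizes (PLocal.PSolvable.quotient hps _) hpq
      (Cores.pPrimeCore_quotient_self p) (Q.mapSurjective hπ) ?_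
    intro b hb
    obtain ⟨y, hy, rfl⟩ := hb
    rw [Subgroup.mem_centralizer_iff]
    intro a ha
    obtain ⟨x, hx, rfl⟩ := Cores.pCore_le_sylow (P.mapSurjective hπ) ha
    rw [← map_mul, ← map_mul, hc x hx y hy]
  obtain ⟨ψ, -, hψ, hirr⟩ := exists_deflate_quotient K (irr_isCharacter χ)
    (BlocksChars.PrincipalPSolvable.trivial_of_mem hM hχ)
  haveI := Fintype.ofFinite (G ⧸ K)
  have hdeg : Cfsg.charDegree ψ = Cfsg.charDegree (χ : G → ℂ) := by
    rw [Cfsg.charDegree, Cfsg.charDegree, ← hψ 1, QuotientGroup.mk_one]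
  intro hd
  exact hnd ((hdeg.symm ▸ hd).trans
    (BlocksChars.Degrees.charDegree_dvd_card (⟨ψ, hirr χ.2⟩ : Cfsg.IrrCharacter (G ⧸ K))))

theorem exists_commuting (hpq : p ≠ q) (hQ : ∀ Q : Sylow q G, (Q : Subgroup G) ≤ Cfsg.pPrimeCore p G)
    (hP : ∀ P : Sylow p G, (P : Subgroup G) ≤ Cfsg.pPrimeCore q G) :
    ∃ (P : Sylow p G) (Q : Sylow q G),
      ∀ x ∈ (P : Subgroup G), ∀ y ∈ (Q : Subgroup G), x * y = y * x := by
  haveI hK : (Cfsg.pPrimeCore p G).Normal := Cores.pPrimeCore_normal p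
  haveI hL : (Cfsg.pPrimeCore q G).Normal := Cores.pPrimeCore_normal q
  obtain ⟨P⟩ : Nonempty (Sylow p G) := inferInstance
  obtain ⟨Q₀⟩ : Nonempty (Sylow q G) := inferInstance
  set R := Cfsg.pPrimeCore p G ⊓ Cfsg.pPrimeCore q G
  haveI : R.Normal := Subgroup.normal_inf_normal _ _
  set W := (Q₀ : Subgroup G) ⊔ R with hW
  have hconj : ∀ x ∈ (P : Subgroup G), ∀ w ∈ W, x * w * x⁻¹ ∈ W := by
    intro x hx w hw
    have hw' : w ∈ (↑((Q₀ : Subgroup G) ⊔ R) : Set G) := hw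
    rw [Subgroup.mul_normal] at hw'
    obtain ⟨y, hy, r, hr, rfl⟩ := hw'
    have hcR : x * y * x⁻¹ * y⁻¹ ∈ R := by
      refine Subgroup.mem_inf.2 ⟨mul_mem (hK.conj_mem y (hQ Q₀ hy) x) (inv_mem (hQ Q₀ hy)), ?_⟩
      rw [show x * y * x⁻¹ * y⁻¹ = x * (y * x⁻¹ * y⁻¹) by group]
      exact mul_mem (hP P hx) (hL.conj_mem _ (inv_mem (hP P hx)) y)
    rw [show x * (y * r) * x⁻¹ = (x * y * x⁻¹ * y⁻¹) * y * (x * r * x⁻¹) by group]
    exact mul_mem (mul_mem (Subgroup.mem_sup_right hcR) (Subgroup.mem_sup_left hy))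
      (Subgroup.mem_sup_right ((inferInstance : R.Normal).conj_mem r hr x))
  have hPW : (P : Subgroup G) ≤ Subgroup.normalizer (W : Set G) := by
    intro x hx
    rw [Subgroup.mem_normalizer_iff]
    refine fun w => ⟨hconj x hx w, fun hw => ?_⟩
    have := hconj x⁻¹ (inv_mem hx) _ hw
    rwa [show x⁻¹ * (x * w * x⁻¹) * x⁻¹⁻¹ = w by group] at this
  have hWK : W ≤ Cfsg.pPrimeCore p G := sup_le (hQ Q₀) inf_le_left
  have hcop : (Nat.card (P : Subgroup G)).Coprime (Nat.card W) :=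
    card_sylow_coprime P.isPGroup' fun h =>
      Cores.pPrimeCore_not_dvd p (h.trans (Subgroup.card_dvd_of_le hWK))
  haveI : Group.IsSolvable (P : Subgroup G) := by
    haveI : Group.IsNilpotent (P : Subgroup G) := P.isPGroup'.isNilpotent
    infer_instance
  obtain ⟨S, hS⟩ := Coprime.exists_invariant_sylow q hPW hcop (Or.inl inferInstance)
  obtain ⟨⟨w, hw⟩, hwS⟩ := MulAction.exists_smul_eq W (Q₀.subtype le_sup_left) S
  have hmap : (((w • Q₀ : Sylow q G)) : Subgroup G) = (S : Subgroup W).map W.subtype := by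
    have h1 : (MulAut.conj (⟨w, hw⟩ : W) • (Q₀.subtype le_sup_left) : Sylow q W) = S := hwS
    rw [← h1, Coprime.sylow_map_smul, Sylow.coe_subtype,
      Subgroup.map_subgroupOf_eq_of_le le_sup_left]
    rfl
  refine ⟨P, w • Q₀, fun x hx y hy => ?_⟩
  have hbot : ((w • Q₀ : Sylow q G) : Subgroup G) ⊓ Cfsg.pPrimeCore q G = ⊥ :=
    Subgroup.inf_eq_bot_of_coprime
      (card_sylow_coprime (w • Q₀ : Sylow q G).isPGroup' (Cores.pPrimeCore_not_dvd q))
  have h1 : x * y * x⁻¹ * y⁻¹ ∈ ((w • Q₀ : Sylow q G) : Subgroup G) ⊓ Cfsg.pPrimeCore q G := by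
    refine Subgroup.mem_inf.2 ⟨mul_mem ?_ (inv_mem hy), ?_⟩
    · rw [← hmap] at hS
      exact (Subgroup.mem_normalizer_iff.1 (hS hx) y).1 hy
    · rw [show x * y * x⁻¹ * y⁻¹ = x * (y * x⁻¹ * y⁻¹) by group]
      exact mul_mem (hP P hx) (hL.conj_mem _ (inv_mem (hP P hx)) y)
  rw [hbot, Subgroup.mem_bot, mul_inv_eq_one, mul_inv_eq_iff_eq_mul] at h1
  exact h1


/-- Let p ≠ q be primes and G a finite group that is p-solvable and q-solvable. Fix maximal ideals of the algebraic integers containing p and q, defining the principal p-block and the principal q-block. Then every irreducible character of degree prime to p in the principal p-block has degree prime to q and every irreducible character of degree prime to q in the principal q-block has degree prime to p, if and only if some Sylow p-subgroup of G commutes elementwise with some Sylow q-subgroup. -/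
theorem result {G : Type*} [Group G] [Finite G] (p q : ℕ) [Fact p.Prime] [Fact q.Prime] (hpq : p ≠ q) (Mp Mq : Ideal Cfsg.AlgInt) (hMp : Cfsg.IsPModular p Mp) (hMq : Cfsg.IsPModular q Mq) (hps : Cfsg.IsPSolvable p G) (hqs : Cfsg.IsPSolvable q G) : ((∀ χ : Cfsg.IrrCharacter G, χ ∈ Cfsg.principalBlock Mp G → ¬ p ∣ Cfsg.charDegree (χ : G → ℂ) → ¬ q ∣ Cfsg.charDegree (χ : G → ℂ)) ∧ (∀ χ : Cfsg.IrrCharacter G, χ ∈ Cfsg.principalBlock Mq G → ¬ q ∣ Cfsg.charDegree (χ : G → ℂ) → ¬ p ∣ Cfsg.charDegree (χ : G → ℂ))) ↔ ∃ (P : Sylow p G) (Q : Sylow q G), ∀ x ∈ (P : Subgroup G), ∀ y ∈ (Q : Subgroup G), x * y = y * x := by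
  constructor
  · rintro ⟨h1, h2⟩
    exact exists_commuting hpq (sylow_le_core hMp hps hqs hpq h1)
      (sylow_le_core hMq hqs hps (Ne.symm hpq) h2)
  · rintro ⟨P, Q, hc⟩
    exact ⟨fun χ hχ _ => not_dvd_degree hMp hps hpq P Q hc χ hχ,
      fun χ hχ _ => not_dvd_degree hMq hqs (Ne.symm hpq) Q P
        (fun x hx y hy => (hc y hy x hx).symm) χ hχ⟩

end Cfsg.Agent.S4886
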