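import Cfsg.Statements.S4888
import Cfsg.Agent.Lib.CharTheory.Blocks.Nilpotency

set_option autoImplicit false
open Cfsg

namespace Cfsg.Agent.S4888

/-- Let G be a finite group, p a prime and M a maximal ideal of the algebraic integers containing p. Then all height-zero irreducible characters of the principal p-block of G (equivalently, all its characters of degree prime to p) have the same degree if and only if G has a normal p-complement. -/
theorem result {G : Type*} [Group G] [Finite G] (p : ℕ) [Fact p.Prime] (M : Ideal Cfsg.AlgInt) (hM : Cfsg.IsPModular p M) : (∃ d : ℕ, ∀ χ : Cfsg.IrrCharacter G, χ ∈ (Cfsg.principalBlock M G) → Cfsg.blockHeight p (Cfsg.principalBlock M G) (χ : G → ℂ) = 0 → Cfsg.charDegree (χ : G → ℂ) = d) ↔ Cfsg.HasNormalPComplement p G := by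
  have hp : p.Prime := Fact.out
  have h1 : Characters.trivIrr G ∈ Cfsg.principalBlock M G := Blocks.trivIrr_mem_principal hM
  have hd1 : Cfsg.charDegree (Characters.trivIrr G : G → ℂ) = 1 := by simp [Cfsg.charDegree]
  have hinf : sInf ((fun ψ : Cfsg.IrrCharacter G =>
      (Cfsg.charDegree (ψ : G → ℂ)).factorization p) '' Cfsg.principalBlock M G) = 0 :=
    Nat.sInf_eq_zero.2 (Or.inl ⟨Characters.trivIrr G, h1, by simp only [hd1]; simp⟩)
  constructor
  · rintro ⟨d, hd⟩
    refine CharTheory.Blocks.hasNormalPComplement_of_linear hM fun χ hχ hndvd => ?_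
    have e1 := hd _ h1 (by rw [Cfsg.blockHeight, hd1]; simp)
    have e2 := hd χ hχ (by simp [Cfsg.blockHeight, Nat.factorization_eq_zero_of_not_dvd hndvd])
    rw [hd1] at e1
    rw [← Blocks.charDegree_cast, e2, ← e1, Nat.cast_one]
  · intro h
    obtain ⟨N, hN, hcop, k, hk⟩ :=
      Transfer.NormalPComplement.hasNormalPComplement_iff_exists.1 h
    refine ⟨1, fun χ hχ h0 => ?_⟩
    rw [Cfsg.blockHeight, hinf, Nat.sub_zero] at h0
    have hker := (Blocks.sameBlock_one_iff hM ((hp.coprime_iff_not_dvd).1 hcop.symm) ⟨k, hk⟩ χ).1 hχ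
    obtain ⟨ψ, -, he, hψ⟩ :=
      Characters.exists_deflate_quotient N (Characters.irr_isCharacter χ) hker
    haveI := Fintype.ofFinite (G ⧸ N)
    have hdeg : Cfsg.charDegree (χ : G → ℂ) ∣ p ^ k := by
      rw [← hk, Subgroup.index]
      have := Characters.irr_degree_dvd_card (hψ χ.2)
      obtain ⟨n, hn, -, hdvd⟩ := this
      have he1 : (χ : G → ℂ) 1 = (n : ℂ) := by rw [← hn, ← QuotientGroup.mk_one, ← he 1]
      rw [← Blocks.charDegree_cast, Nat.cast_inj] at he1
      rwa [he1]
    obtain ⟨j, -, hj⟩ := (Nat.dvd_prime_pow hp).1 hdeg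
    rw [hj] at h0 ⊢
    rw [hp.factorization_pow, Finsupp.single_eq_same] at h0
    rw [h0, pow_zero]

end Cfsg.Agent.S4888
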