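import Cfsg.Statements.S4890
import Cfsg.Agent.Lib.Blocks.EqualDegree.Inertia
import Cfsg.Agent.Lib.Blocks.EqualDegree.Criterion
import Cfsg.Agent.Lib.Blocks.Star.Nilpotent

set_option autoImplicit false
set_option linter.style.haveILetI false
open Cfsg

namespace Cfsg.Agent.S4890

/-- Let G be a finite group, p a prime, M a maximal ideal of the algebraic integers containing p, and B a p-block of G with a defect group that is normal in G. Then all height-zero irreducible characters of B have the same degree if and only if B is a nilpotent block. -/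
theorem result {G : Type*} [Group G] [Finite G] (p : ℕ) [Fact p.Prime] (M : Ideal Cfsg.AlgInt) (hM : Cfsg.IsPModular p M) (B : Set (Cfsg.IrrCharacter G)) (hB : Cfsg.IsPBlock M B) (D : Subgroup G) (hD : Cfsg.IsDefectGroup p M B D) (hDn : D.Normal) : (∃ d : ℕ, ∀ χ : Cfsg.IrrCharacter G, χ ∈ B → Cfsg.blockHeight p B (χ : G → ℂ) = 0 → Cfsg.charDegree (χ : G → ℂ) = d) ↔ Cfsg.IsNilpotentBlock p M B := by
  classical
  haveI := Fintype.ofFinite G
  haveI := hDn
  constructor
  · rintro ⟨d, hd⟩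
    haveI : (D ⊔ Subgroup.centralizer (D : Set G)).Normal := Subgroup.sup_normal _ _
    haveI := Fintype.ofFinite (D ⊔ Subgroup.centralizer (D : Set G) : Subgroup G)
    refine Cfsg.Agent.Blocks.EqualDegree.isNilpotent_of_stab hM hB hD fun e he g hg => ?_
    obtain ⟨b, hb, hcov, hst⟩ :=
      Cfsg.Agent.Blocks.EqualDegree.exists_covered_stable hM he
        (H := D ⊔ Subgroup.centralizer (D : Set G)) rfl
    exact Cfsg.Agent.Blocks.EqualDegree.stab_le_of_equal_degrees hM hB hD hd rfl hb hcov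
      (hst g hg)
  · intro hnil
    obtain ⟨e, hmax⟩ := Cfsg.Agent.BlockCharsA.PairCorr.exists_maximal_on hM hB hD
    obtain ⟨χ₀, -, Φ, hΦ⟩ := Cfsg.Agent.Blocks.Star.exists_bijection hM hnil hmax
    refine ⟨Cfsg.charDegree (χ₀ : G → ℂ), fun χ hχ h0 => ?_⟩
    obtain ⟨ζ, hζ⟩ := Φ.surjective ⟨χ, hχ⟩
    have hh := hΦ ζ
    rw [hζ] at hh
    obtain ⟨h1, h2⟩ := hh
    rw [h0] at h1
    obtain ⟨n, hn⟩ := IsPGroup.iff_card.1 (Cfsg.Agent.Blocks.isPGroup_defect hD)
    obtain ⟨j, -, hj⟩ := (Nat.dvd_prime_pow hM.1).1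
      (hn ▸ Cfsg.Agent.Blocks.char_degree_dvd_card ζ)
    rw [hj, hM.1.factorization_pow, Finsupp.single_eq_same] at h1
    have h3 := h2 1 (by simp [hM.1.ne_one])
    rw [← Cfsg.Agent.Blocks.charDegree_cast ζ, hj, ← h1, pow_zero, Nat.cast_one, one_mul,
      ← Cfsg.Agent.Blocks.charDegree_cast χ₀, ← Cfsg.Agent.Blocks.charDegree_cast χ,
      Nat.cast_inj] at h3
    exact h3

end Cfsg.Agent.S4890
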