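import Cfsg.Statements.S4911
import Cfsg.Agent.Lib.CharTheory.InvariantReal
set_option linter.style.haveILetI false

set_option autoImplicit false
open Cfsg

namespace Cfsg.Agent.S4911

/-- Let P and K be subgroups of a finite group with P a p-group normalizing K and K of order prime to p. Then the number of P-invariant real-valued irreducible complex characters of K equals the number of conjugacy classes of K that are real (closed under inversion) and P-invariant. Moreover, if every real-valued irreducible character of K is P-invariant, then every real element of K (one conjugate in K to its inverse) is conjugate in K to an element centralized by P. -/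
theorem result {G : Type*} [Group G] [Finite G] (p : ℕ) [Fact p.Prime] (P K : Subgroup G) (hP : IsPGroup p ↥P) (hK : ¬ p ∣ Nat.card ↥K) (hPK : P ≤ Subgroup.normalizer (K : Set G)) : Nat.card {θ : Cfsg.IrrCharacter ↥K // (∀ k : ↥K, ((θ : ↥K → ℂ) k).im = 0) ∧ (∀ x ∈ P, ∀ k k' : ↥K, (k' : G) = x * (k : G) * x⁻¹ → (θ : ↥K → ℂ) k' = (θ : ↥K → ℂ) k)} = Nat.card {c : ConjClasses ↥K // (∀ k : ↥K, ConjClasses.mk k = c → IsConj k k⁻¹) ∧ ∀ k : ↥K, ConjClasses.mk k = c → ∀ x ∈ P, ∀ k' : ↥K, (k' : G) = x * (k : G) * x⁻¹ → ConjClasses.mk k' = c} ∧ ((∀ θ : Cfsg.IrrCharacter ↥K, (∀ k : ↥K, ((θ : ↥K → ℂ) k).im = 0) → (∀ x ∈ P, ∀ k k' : ↥K, (k' : G) = x * (k : G) * x⁻¹ → (θ : ↥K → ℂ) k' = (θ : ↥K → ℂ) k)) → ∀ k : ↥K, IsConj k k⁻¹ → ∃ k' : ↥K, IsConj k k' ∧ ∀ x ∈ P, x * (k' : G) * x⁻¹ = (k' : G)) := by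
  classical
  have hmem : ∀ (u : ↥P) (k : ↥K), (u : G) * k * (u : G)⁻¹ ∈ K := fun u k =>
    (Subgroup.mem_normalizer_iff.1 (hPK u.2) k).1 k.2
  let φ : ↥P →* MulAut ↥K :=
    { toFun := fun u =>
        { toFun := fun k => ⟨(u : G) * k * (u : G)⁻¹, hmem u k⟩
          invFun := fun k => ⟨(u⁻¹ : ↥P) * (k : G) * ((u⁻¹ : ↥P) : G)⁻¹, hmem u⁻¹ k⟩
          left_inv := fun k => Subtype.ext (by simp [mul_assoc])
          right_inv := fun k => Subtype.ext (by simp [mul_assoc])
          map_mul' := fun a b => Subtype.ext (by simp [mul_assoc]) }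
      map_one' := MulEquiv.ext fun k => Subtype.ext (by simp)
      map_mul' := fun u v => MulEquiv.ext fun k => Subtype.ext (by simp [mul_assoc]) }
  have hval : ∀ (u : ↥P) (k : ↥K), ((φ u k : ↥K) : G) = (u : G) * k * (u : G)⁻¹ := fun u k => rfl
  have hinv : ∀ θ : Cfsg.IrrCharacter ↥K,
      (∀ x ∈ P, ∀ k k' : ↥K, (k' : G) = x * (k : G) * x⁻¹ →
        (θ : ↥K → ℂ) k' = (θ : ↥K → ℂ) k) ↔
      ∀ (u : ↥P) (k : ↥K), (θ : ↥K → ℂ) (φ u k) = (θ : ↥K → ℂ) k := by
    intro θ
    refine ⟨fun h u k => h u u.2 k _ (hval u k), fun h x hx k k' he => ?_⟩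
    rw [show k' = φ ⟨x, hx⟩ k from Subtype.ext he]
    exact h _ _
  have hreal : ∀ c : ConjClasses ↥K, (∀ k : ↥K, ConjClasses.mk k = c → IsConj k k⁻¹) ↔
      CharTheory.InvariantReal.invClass c = c := by
    intro c
    obtain ⟨k₀, rfl⟩ := ConjClasses.exists_rep c
    rw [CharTheory.InvariantReal.invClass_mk]
    refine ⟨fun h => (ConjClasses.mk_eq_mk_iff_isConj.2 (h k₀ rfl)).symm, fun h k hk => ?_⟩
    rw [← ConjClasses.mk_eq_mk_iff_isConj, ← CharTheory.InvariantReal.invClass_mk, hk,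
      CharTheory.InvariantReal.invClass_mk, h]
  have hcl : ∀ c : ConjClasses ↥K,
      (∀ k : ↥K, ConjClasses.mk k = c → ∀ x ∈ P, ∀ k' : ↥K, (k' : G) = x * (k : G) * x⁻¹ →
        ConjClasses.mk k' = c) ↔ ∀ u : ↥P, ConjClasses.map (φ u).toMonoidHom c = c := by
    intro c
    constructor
    · intro h u
      obtain ⟨k₀, rfl⟩ := ConjClasses.exists_rep c
      exact h k₀ rfl u u.2 _ (hval u k₀)
    · intro h k hk x hx k' he
      rw [show k' = φ ⟨x, hx⟩ k from Subtype.ext he, ← h ⟨x, hx⟩, ← hk]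
      rfl
  have hmain := CharTheory.InvariantReal.card_real_invariant φ hP hK
  refine ⟨?_, fun hall k hk => ?_⟩
  · rw [Nat.card_congr (Equiv.subtypeEquivRight fun θ => and_congr_right fun _ => hinv θ), hmain]
    exact (Nat.card_congr (Equiv.subtypeEquivRight fun c => and_congr (hreal c) (hcl c))).symm
  · have htriv := CharTheory.InvariantReal.card_real_invariant (1 : ↥P →* MulAut ↥K) hP hK
    have h1 : ∀ c : ConjClasses ↥K, (CharTheory.InvariantReal.invClass c = c ∧
        ∀ u : ↥P, ConjClasses.map ((1 : ↥P →* MulAut ↥K) u).toMonoidHom c = c) ↔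
        CharTheory.InvariantReal.invClass c = c := fun c => and_iff_left_of_imp fun _ u => by
      obtain ⟨k₀, rfl⟩ := ConjClasses.exists_rep c
      rfl
    rw [Nat.card_congr (Equiv.subtypeEquivRight h1),
      Nat.card_congr (Equiv.subtypeEquivRight fun θ : Cfsg.IrrCharacter ↥K =>
        show ((∀ k : ↥K, ((θ : ↥K → ℂ) k).im = 0) ∧ ∀ (u : ↥P) (k : ↥K),
            (θ : ↥K → ℂ) ((1 : ↥P →* MulAut ↥K) u k) = (θ : ↥K → ℂ) k) ↔ (∀ k : ↥K, ((θ : ↥K → ℂ) k).im = 0) ∧
            ∀ (u : ↥P) (k : ↥K), (θ : ↥K → ℂ) (φ u k) = (θ : ↥K → ℂ) k from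
          and_congr_right fun hr => iff_of_true (fun _ _ => rfl) ((hinv θ).1 (hall θ hr)))] at htriv
    rw [hmain] at htriv
    haveI := Fintype.ofFinite (ConjClasses ↥K)
    rw [Nat.card_eq_fintype_card, Nat.card_eq_fintype_card, Fintype.card_subtype,
      Fintype.card_subtype] at htriv
    have hset := Finset.eq_of_subset_of_card_le
      (Finset.monotone_filter_right Finset.univ fun c _ hc => hc.1) htriv.ge
    have hc : ∀ u : ↥P, ConjClasses.map (φ u).toMonoidHom (ConjClasses.mk k) = ConjClasses.mk k := by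
      have hmem' : ConjClasses.mk k ∈ Finset.univ.filter
          (fun c : ConjClasses ↥K => CharTheory.InvariantReal.invClass c = c) :=
        Finset.mem_filter.2 ⟨Finset.mem_univ _, by
          rw [CharTheory.InvariantReal.invClass_mk]
          exact ConjClasses.mk_eq_mk_iff_isConj.2 hk.symm⟩
      rw [← hset] at hmem'
      exact (Finset.mem_filter.1 hmem').2.2
    letI : MulAction ↥P (ConjClasses.mk k).carrier :=
      { smul := fun u y => ⟨φ u y.1, by
          rw [ConjClasses.mem_carrier_iff_mk_eq]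
          conv_rhs => rw [← hc u, ← ConjClasses.mem_carrier_iff_mk_eq.1 y.2]
          rfl⟩
        one_smul := fun y => Subtype.ext (by show φ 1 y.1 = y.1; simp)
        mul_smul := fun u v y => Subtype.ext (by show φ (u * v) y.1 = φ u (φ v y.1); simp) }
    have hnd : ¬ p ∣ Nat.card (ConjClasses.mk k).carrier := fun h => hK (h.trans
      ⟨_, (Characters.card_carrier_mul_card_centralizer k).symm⟩)
    obtain ⟨y, hy⟩ := hP.nonempty_fixed_point_of_prime_not_dvd_card _ hnd
    refine ⟨y.1, ConjClasses.mk_eq_mk_iff_isConj.1 (ConjClasses.mem_carrier_iff_mk_eq.1 y.2).symm,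
      fun x hx => ?_⟩
    have := congrArg (fun z : (ConjClasses.mk k).carrier => ((z.1 : ↥K) : G))
      (MulAction.mem_fixedPoints.1 hy ⟨x, hx⟩)
    exact this

end Cfsg.Agent.S4911
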