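import Cfsg.Statements.S4912
import Mathlib
import Cfsg.Agent.BlocksChars.LinearTwist
import Cfsg.Agent.BlocksChars.IndicatorRestrict
-- import your own Cfsg.Agent.* helpers here

set_option autoImplicit false
open Cfsg

namespace Cfsg.Agent.S4912

open Cfsg.Agent.BlocksChars.LinearTwist Cfsg.Agent.BlocksChars.Degrees Cfsg.Agent.CharTheory
open Cfsg.Agent.Characters
open scoped ComplexConjugate

/-- Let G be a finite group with a non-abelian minimal normal subgroup N, and let φ be an irreducible complex character of N with stabilizer I in G such that φ extends to an irreducible character of I with Frobenius–Schur indicator +1. Put d = φ(1)·[G : I]. Then the number of linear characters of G with Frobenius–Schur indicator +1 is at most [G : I] times the number of irreducible characters of G of degree d with Frobenius–Schur indicator +1. -/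
theorem result {G : Type*} [Group G] [Finite G] (N : Subgroup G) (hN : N.Normal) (hN1 : N ≠ ⊥) (hmin : ∀ M : Subgroup G, M.Normal → M ≤ N → M = ⊥ ∨ M = N) (hna : ¬ IsMulCommutative ↥N) (φ : Cfsg.IrrCharacter ↥N) (I : Subgroup G) (hI : ∀ g : G, g ∈ I ↔ ∀ n n' : ↥N, (n' : G) = g * (n : G) * g⁻¹ → (φ : ↥N → ℂ) n' = (φ : ↥N → ℂ) n) (hNI : N ≤ I) (hext : ∃ ψ : Cfsg.IrrCharacter ↥I, (Nat.card ↥I : ℂ)⁻¹ * ∑ᶠ g : ↥I, (ψ : ↥I → ℂ) (g * g) = 1 ∧ ∀ n : ↥N, (ψ : ↥I → ℂ) (Subgroup.inclusion hNI n) = (φ : ↥N → ℂ) n) : Nat.card {χ : Cfsg.IrrCharacter G // Cfsg.charDegree (χ : G → ℂ) = 1 ∧ (Nat.card G : ℂ)⁻¹ * ∑ᶠ g : G, (χ : G → ℂ) (g * g) = 1} ≤ I.index * Nat.card {χ : Cfsg.IrrCharacter G // Cfsg.charDegree (χ : G → ℂ) = Cfsg.charDegree (φ : ↥N → ℂ) * I.index ∧ (Nat.card G : ℂ)⁻¹ * ∑ᶠ g : G, (χ : G → ℂ) (g * g) = 1} := by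
  classical
  haveI := hN
  haveI := Fintype.ofFinite G
  obtain ⟨ψ, hnu, hψ⟩ := hext
  have hψ' : (fun n : N => (ψ : I → ℂ) (Subgroup.inclusion hNI n)) = (φ : N → ℂ) := funext hψ
  have hI' : ∀ g : G, g ∈ I ↔ Clifford.conjBy N g (φ : N → ℂ) = (φ : N → ℂ) := by
    intro g
    rw [hI]
    constructor
    · intro h
      funext n
      exact h n _ rfl
    · intro h n n' hn
      rw [← congrFun h n, Clifford.conjBy_apply]
      exact congrArg _ (Subtype.ext hn)
  obtain ⟨hirr, h1, -, hI1⟩ := induced_irr hI' hψ'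
  have hnuψ : FrobeniusSchur.nu (ψ : I → ℂ) = 1 := by
    rw [finsum_eq_sum_of_fintype] at hnu
    exact hnu
  have hψreal : ∀ i : I, ((ψ : I → ℂ) i).im = 0 :=
    (FrobeniusSchur.nu_ne_zero_iff ψ).1 (by rw [hnuψ]; exact one_ne_zero)
  have hXreal : ∀ g : G, (Cfsg.indFun I (ψ : I → ℂ) g).im = 0 := by
    intro g
    rw [← Complex.conj_eq_iff_im]
    simp only [Cfsg.indFun, map_mul, map_inv₀, Complex.conj_natCast, map_sum]
    congr 1
    refine Finset.sum_congr rfl fun x _ => ?_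
    by_cases hx : x⁻¹ * g * x ∈ I
    · rw [IndBasic.extendByZero_of_mem I _ hx, Complex.conj_eq_iff_im]
      exact hψreal _
    · have h0 : Cfsg.extendByZero I (ψ : I → ℂ) (x⁻¹ * g * x) = 0 :=
        Function.extend_apply' _ _ _ fun ⟨a, ha⟩ => hx (ha ▸ a.2)
      rw [h0, map_zero]
  have hnuX : FrobeniusSchur.nu (Cfsg.indFun I (ψ : I → ℂ)) = 1 := by
    rw [← hnuψ]
    exact BlocksChars.IndicatorRestrict.nu_eq_of_mult_one I ⟨_, hirr⟩ ψ hXreal hψreal hI1
  refine card_linear_le hI' hψ' (commutator_eq_self hmin hna) _ _ (fun l hl => ?_) fun l hl χ hχ => ?_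
  · rw [← charDegree_cast l, hl.1, Nat.cast_one]
  have hl1 : (l : G → ℂ) 1 = 1 := by rw [← charDegree_cast l, hl.1, Nat.cast_one]
  have h2 : ((Cfsg.charDegree (χ : G → ℂ) : ℕ) : ℂ) =
      ((Cfsg.charDegree (φ : N → ℂ) * I.index : ℕ) : ℂ) := by
    rw [charDegree_cast, hχ, Pi.mul_apply, h1, hl1, mul_one]
  refine ⟨by exact_mod_cast h2, ?_⟩
  have hl2 : FrobeniusSchur.nu (l : G → ℂ) = 1 := by
    have h := hl.2
    rwa [finsum_eq_sum_of_fintype] at h
  have hlreal := (FrobeniusSchur.nu_ne_zero_iff l).1 (by rw [hl2]; exact one_ne_zero)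
  have hsq : ∀ g : G, (l : G → ℂ) (g * g) = 1 := by
    intro g
    rw [irr_linear_mul (irr_isCharacter l) hl1]
    have h := Basics.char_norm_eq_one (irr_isCharacter l) hl1 g
    rwa [Complex.conj_eq_iff_im.2 (hlreal g)] at h
  rw [finsum_eq_sum_of_fintype]
  calc (Nat.card G : ℂ)⁻¹ * ∑ g : G, (χ : G → ℂ) (g * g)
      = FrobeniusSchur.nu (Cfsg.indFun I (ψ : I → ℂ)) := by
        rw [FrobeniusSchur.nu, hχ]
        simp only [Pi.mul_apply, hsq, mul_one]
    _ = 1 := hnuX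

end Cfsg.Agent.S4912
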