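import Cfsg.Statements.S4914
import Cfsg.Agent.Lib.CharTheory.NormalSylow.Main
set_option linter.style.haveILetI false

set_option autoImplicit false
open Cfsg

namespace Cfsg.Agent.S4914

/-- Let P and K be subgroups of a finite group G with P a p-group normalizing K, and suppose K has a normal Sylow p-subgroup Q. Let C be the subgroup of those k ∈ K whose commutator with every element of P lies in Q (so that C/Q is the fixed-point subgroup of P on K/Q). Then there is a bijection f from the P-invariant irreducible complex characters of K onto the P-invariant irreducible complex characters of C such that, for every P-invariant irreducible character χ of K, the multiplicity of f(χ) in the restriction of χ to C is a natural number congruent to 1 or to −1 modulo p, every other P-invariant irreducible character of C occurs in that restriction with multiplicity divisible by p, and the degrees of χ and f(χ) are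 congruent modulo p up to sign. -/
theorem result {G : Type*} [Group G] [Finite G] (p : ℕ) [Fact p.Prime] (P K Q C : Subgroup G) (hP : IsPGroup p ↥P) (hPK : P ≤ Subgroup.normalizer (K : Set G)) (hQK : Q ≤ K) (hQn : ∀ k ∈ K, ∀ q ∈ Q, k * q * k⁻¹ ∈ Q) (hQp : ∃ a : ℕ, Nat.card ↥Q = p ^ a) (hQsyl : ¬ p ∣ Q.relIndex K) (hCK : C ≤ K) (hC : ∀ k : G, k ∈ C ↔ (k ∈ K ∧ ∀ x ∈ P, x * k * x⁻¹ * k⁻¹ ∈ Q)) : ∃ f : {χ : Cfsg.IrrCharacter ↥K // (∀ x ∈ P, ∀ k k' : ↥K, (k' : G) = x * (k : G) * x⁻¹ → (χ : ↥K → ℂ) k' = (χ : ↥K → ℂ) k)} → {ξ : Cfsg.IrrCharacter ↥C // (∀ x ∈ P, ∀ k k' : ↥C, (k' : G) = x * (k : G) * x⁻¹ → (ξ : ↥C → ℂ) k' = (ξ : ↥C → ℂ) k)}, Function.Bijective f ∧ ∀ χ, (∀ ξ : {ξ : Cfsg.IrrCharacter ↥C // (∀ x ∈ P, ∀ k k' : ↥C, (k' : G) = x * (k : G) * x⁻¹ → (ξ : ↥C → ℂ) k' = (ξ : ↥C → ℂ) k)}, ∃ m : ℕ, (Nat.card ↥C : ℂ)⁻¹ * ∑ᶠ c : ↥C, (χ.1 : ↥K → ℂ) (Subgroup.inclusion hCK c) * (starRingEnd ℂ) ((ξ.1 : ↥C → ℂ) c)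 = (m : ℂ) ∧ (ξ = f χ → ((m : ZMod p) = 1 ∨ (m : ZMod p) = -1)) ∧ (ξ ≠ f χ → p ∣ m)) ∧ ((Cfsg.charDegree ((f χ).1 : ↥C → ℂ) : ZMod p) = (Cfsg.charDegree (χ.1 : ↥K → ℂ) : ZMod p) ∨ (Cfsg.charDegree ((f χ).1 : ↥C → ℂ) : ZMod p) = -(Cfsg.charDegree (χ.1 : ↥K → ℂ) : ZMod p)) := by
  classical
  haveI := Fintype.ofFinite K
  haveI := Fintype.ofFinite C
  haveI := Fintype.ofFinite G
  -- the actions
  have hactK : ∀ x ∈ P, ∀ k ∈ K, x * k * x⁻¹ ∈ K := fun x hx k hk =>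
    (Subgroup.mem_normalizer_iff.1 (hPK hx) k).1 hk
  -- `Q` is the normal Sylow subgroup
  set N := Q.subgroupOf K with hNdef
  haveI : N.Normal := ⟨fun n hn k => hQn k k.2 n hn⟩
  have hNcard : ∃ a, Nat.card N = p ^ a := by
    obtain ⟨a, ha⟩ := hQp
    exact ⟨a, by rw [hNdef, Nat.card_congr (Subgroup.subgroupOfEquivOfLe hQK).toEquiv, ha]⟩
  obtain ⟨a, ha⟩ := hNcard
  have hNp : IsPGroup p N := IsPGroup.of_card ha
  let SN : Sylow p K := hNp.toSylow hQsyl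
  haveI : (SN : Subgroup K).Normal := (inferInstance : N.Normal)
  haveI hchar : N.Characteristic := Sylow.characteristic_of_normal SN inferInstance
  have hQs : ∀ x ∈ P, ∀ q ∈ Q, x * q * x⁻¹ ∈ Q := by
    intro x hx q hq
    have hxK : ∀ k : K, x * k * x⁻¹ ∈ K := fun k => hactK x hx k k.2
    let α : K ≃* K :=
      { toFun := fun k => ⟨x * k * x⁻¹, hxK k⟩
        invFun := fun k => ⟨x⁻¹ * k * x, by simpa using hactK x⁻¹ (P.inv_mem hx) k k.2⟩
        left_inv := fun k => Subtype.ext (by simp [mul_assoc])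
        right_inv := fun k => Subtype.ext (by simp [mul_assoc])
        map_mul' := fun a b => Subtype.ext (by simp [mul_assoc]) }
    have h := Subgroup.Characteristic.fixed (H := N) hchar α
    have h2 : (⟨q, hQK hq⟩ : K) ∈ N.comap α.toMonoidHom := by rw [h]; exact hq
    exact h2
  have hactC : ∀ x ∈ P, ∀ c ∈ C, x * c * x⁻¹ ∈ C := by
    intro x hx c hc
    obtain ⟨hcK, hcQ⟩ := (hC c).1 hc
    refine (hC _).2 ⟨hactK x hx c hcK, fun y hy => ?_⟩
    rw [show y * (x * c * x⁻¹) * y⁻¹ * (x * c * x⁻¹)⁻¹ =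
      x * ((x⁻¹ * y * x) * c * (x⁻¹ * y * x)⁻¹ * c⁻¹) * x⁻¹ by group]
    exact hQs x hx _ (hcQ _ (P.mul_mem (P.mul_mem (P.inv_mem hx) hy) hx))
  letI aK : MulDistribMulAction P K :=
    { smul := fun s k => ⟨s * k * (s : G)⁻¹, hactK s s.2 k k.2⟩
      one_smul := fun k => Subtype.ext (by
        show ((1 : P) : G) * k * ((1 : P) : G)⁻¹ = k
        simp)
      mul_smul := fun s t k => Subtype.ext (by
        show ((s * t : P) : G) * k * ((s * t : P) : G)⁻¹ = s * (t * k * (t : G)⁻¹) * (s : G)⁻¹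
        simp [mul_assoc])
      smul_mul := fun s a b => Subtype.ext (by
        show (s : G) * ((a * b : K) : G) * (s : G)⁻¹ = (s * a * (s : G)⁻¹) * (s * b * (s : G)⁻¹)
        rw [Subgroup.coe_mul]; group)
      smul_one := fun s => Subtype.ext (by
        show (s : G) * ((1 : K) : G) * (s : G)⁻¹ = 1
        simp) }
  letI aC : MulDistribMulAction P C :=
    { smul := fun s k => ⟨s * k * (s : G)⁻¹, hactC s s.2 k k.2⟩
      one_smul := fun k => Subtype.ext (by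
        show ((1 : P) : G) * k * ((1 : P) : G)⁻¹ = k
        simp)
      mul_smul := fun s t k => Subtype.ext (by
        show ((s * t : P) : G) * k * ((s * t : P) : G)⁻¹ = s * (t * k * (t : G)⁻¹) * (s : G)⁻¹
        simp [mul_assoc])
      smul_mul := fun s a b => Subtype.ext (by
        show (s : G) * ((a * b : C) : G) * (s : G)⁻¹ = (s * a * (s : G)⁻¹) * (s * b * (s : G)⁻¹)
        rw [Subgroup.coe_mul]; group)
      smul_one := fun s => Subtype.ext (by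
        show (s : G) * ((1 : C) : G) * (s : G)⁻¹ = 1
        simp) }
  set j : C →* K := Subgroup.inclusion hCK with hj
  have hje : ∀ (s : P) (c : C), j (s • c) = s • j c := fun s c => rfl
  have hNs : ∀ (s : P), ∀ k ∈ N, s • k ∈ N := fun s k hk => hQs s s.2 _ hk
  have hfix : ∀ k : K, (∃ c, j c = k) ↔ ∀ s : P, (s • k) * k⁻¹ ∈ N := by
    intro k
    constructor
    · rintro ⟨c, rfl⟩ s
      exact ((hC c).1 c.2).2 s s.2
    · intro h
      exact ⟨⟨k, (hC k).2 ⟨k.2, fun x hx => h ⟨x, hx⟩⟩⟩, Subtype.ext rfl⟩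
  have hinjj : Function.Injective j := Subgroup.inclusion_injective hCK
  obtain ⟨h1, h2, h3⟩ := CharTheory.NormalSylow.correspondence (p := p) (S := P) j hinjj hje N hNs
    hfix hP hNp hQsyl
  have hiffK : ∀ χ : Cfsg.IrrCharacter ↥K, (∀ x ∈ P, ∀ k k' : ↥K, (k' : G) = x * (k : G) * x⁻¹ →
      (χ : ↥K → ℂ) k' = (χ : ↥K → ℂ) k) ↔ CharTheory.NormalSylow.InvFun P (χ : K → ℂ) := fun χ =>
    ⟨fun h s k => h s s.2 k (s • k) rfl, fun h x hx k k' he => by
      rw [show k' = (⟨x, hx⟩ : P) • k from Subtype.ext he]; exact h _ k⟩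
  have hiffC : ∀ ξ : Cfsg.IrrCharacter ↥C, (∀ x ∈ P, ∀ k k' : ↥C, (k' : G) = x * (k : G) * x⁻¹ →
      (ξ : ↥C → ℂ) k' = (ξ : ↥C → ℂ) k) ↔ CharTheory.NormalSylow.InvFun P (ξ : C → ℂ) := fun ξ =>
    ⟨fun h s k => h s s.2 k (s • k) rfl, fun h x hx k k' he => by
      rw [show k' = (⟨x, hx⟩ : P) • k from Subtype.ext he]; exact h _ k⟩
  choose ξ hξ hξi hξR using fun χ : {χ : Cfsg.IrrCharacter ↥K // (∀ x ∈ P, ∀ k k' : ↥K,
      (k' : G) = x * (k : G) * x⁻¹ → (χ : ↥K → ℂ) k' = (χ : ↥K → ℂ) k)} =>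
    h1 _ χ.1.2 ((hiffK χ.1).1 χ.2)
  refine ⟨fun χ => ⟨⟨ξ χ, hξ χ⟩, (hiffC ⟨ξ χ, hξ χ⟩).2 (hξi χ)⟩, ⟨?_, ?_⟩, fun χ => ⟨?_, ?_⟩⟩
  · intro χ χ' h
    have he : ξ χ = ξ χ' := congrArg (fun z => (z.1 : C → ℂ)) h
    exact Subtype.ext (Subtype.ext (h3 _ _ χ.1.2 ((hiffK χ.1).1 χ.2) χ'.1.2 ((hiffK χ'.1).1 χ'.2)
      (ξ χ) (hξ χ) (hξi χ) (hξR χ) (he ▸ hξR χ')))
  · intro η
    obtain ⟨χ, hχ, hχi, hR⟩ := h2 _ η.1.2 ((hiffC η.1).1 η.2)
    refine ⟨⟨⟨χ, hχ⟩, (hiffK ⟨χ, hχ⟩).2 hχi⟩, Subtype.ext (Subtype.ext ?_)⟩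
    set x : {χ : Cfsg.IrrCharacter ↥K // (∀ x ∈ P, ∀ k k' : ↥K,
      (k' : G) = x * (k : G) * x⁻¹ → (χ : ↥K → ℂ) k' = (χ : ↥K → ℂ) k)} :=
      ⟨⟨χ, hχ⟩, (hiffK ⟨χ, hχ⟩).2 hχi⟩
    by_contra hne
    obtain ⟨m, hm⟩ := Characters.classInner_char_nat
      (Characters.isCharacter_comp j (Characters.isCharacter_of_isIrr hχ))
      (Characters.isCharacter_of_isIrr (hξ x))
    exact CharTheory.NormalSylow.not_dvd_of_pm ((hξR x (ξ x) (hξ x) (hξi x) m hm).2 rfl)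
      ((hR (ξ x) (hξ x) (hξi x) m hm).1 hne)
  · intro η
    obtain ⟨m, hm⟩ := Characters.classInner_char_nat
      (Characters.isCharacter_comp j (Characters.irr_isCharacter χ.1))
      (Characters.irr_isCharacter η.1)
    obtain ⟨hne, heq⟩ := hξR χ _ η.1.2 ((hiffC η.1).1 η.2) m hm
    refine ⟨m, ?_, fun he => ?_, fun he => hne fun h => he (Subtype.ext (Subtype.ext h))⟩
    · rw [finsum_eq_sum_of_fintype, ← hm, Characters.classInner_def]
      rfl
    · rcases heq (congrArg (fun z => (z.1 : C → ℂ)) he) with h | h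
      · left
        have h' := (ZMod.intCast_eq_intCast_iff _ _ p).2 h
        push_cast at h'
        exact h'
      · right
        have h' := (ZMod.intCast_eq_intCast_iff _ _ p).2 h
        push_cast at h'
        exact h'
  · exact CharTheory.NormalSylow.degree_cong j hP χ.1.2 ((hiffK χ.1).1 χ.2) hje (hξ χ) (hξi χ)
      (hξR χ)

end Cfsg.Agent.S4914
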