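import Cfsg.Statements.S4923
import Cfsg.Agent.Lib.Characters.Galois
import Cfsg.Agent.Lib.Characters.Kernel
import Cfsg.Agent.Lib.PGroups.Taussky
set_option linter.style.haveILetI false
open scoped commutatorElement Pointwise

set_option autoImplicit false
open Cfsg

namespace Cfsg.Agent.S4923

open Cfsg.Agent.Characters Polynomial
open scoped ComplexConjugate

universe u

variable {G : Type u} [Group G] [Finite G]

theorem exists_values (χ : Cfsg.IrrCharacter G) (g : G) {M : ℕ} (hM : 0 < M) (hg : g ^ M = 1)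
    {ζ : ℂ} (hζ : IsPrimitiveRoot ζ M) :
    ∃ P : ℚ[X], ∀ k : ℕ, (χ : G → ℂ) (g ^ k) = aeval (ζ ^ k) P := by
  obtain ⟨n, σ, _, hσ⟩ := χ.2
  obtain ⟨P, hP⟩ := exists_poly_values σ g hM hg hζ
  exact ⟨P, fun k => by rw [← hσ]; exact hP k⟩

/-- The field of values at an element. -/
noncomputable abbrev valField (g : G) : IntermediateField ℚ ℂ :=
  IntermediateField.adjoin ℚ {z : ℂ | ∃ χ : Cfsg.IrrCharacter G, (χ : G → ℂ) g = z}

theorem pow_eq_pow_iff_modEq' {a : ℂ} (h : a ≠ 0) {m k : ℕ} :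
    a ^ m = a ^ k ↔ m ≡ k [MOD orderOf a] := by
  rw [← Units.val_mk0 h, ← Units.val_pow_eq_pow_val, ← Units.val_pow_eq_pow_val, Units.val_inj,
    orderOf_units, pow_eq_pow_iff_modEq]

/-- Members of the field of values are fixed by exponents giving conjugates. -/
theorem exists_fixed_poly (g : G) {M : ℕ} (hM : 0 < M) (hg : g ^ M = 1) {ζ : ℂ}
    (hζ : IsPrimitiveRoot ζ M) {s : ℕ} (hs : IsConj (g ^ s) g) {z : ℂ} (hz : z ∈ valField g) :
    ∃ P : ℚ[X], aeval ζ P = z ∧ aeval (ζ ^ s) P = z := by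
  set T : Subalgebra ℚ ℂ :=
    (AlgHom.equalizer (aeval ζ : ℚ[X] →ₐ[ℚ] ℂ) (aeval (ζ ^ s))).map (aeval ζ) with hT
  have halg : ∀ x ∈ {z : ℂ | ∃ χ : Cfsg.IrrCharacter G, (χ : G → ℂ) g = z}, IsAlgebraic ℚ x := by
    rintro x ⟨χ, rfl⟩
    exact (char_value_isIntegral (irr_isCharacter χ) g).tower_top.isAlgebraic
  have hle : (valField g).toSubalgebra ≤ T := by
    rw [IntermediateField.adjoin_toSubalgebra_of_isAlgebraic halg, Algebra.adjoin_le_iff]
    rintro x ⟨χ, rfl⟩
    obtain ⟨P, hP⟩ := exists_values χ g hM hg hζ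
    obtain ⟨x, hx⟩ := isConj_iff.1 hs
    have h1 : aeval ζ P = (χ : G → ℂ) g := by simpa using (hP 1).symm
    refine ⟨P, ?_, h1⟩
    show aeval ζ P = aeval (ζ ^ s) P
    rw [h1, ← hP s]
    conv_lhs => rw [← hx]
    exact irr_isClassFunction χ _ x
  obtain ⟨P, hP, rfl⟩ := hle hz
  exact ⟨P, rfl, (AlgHom.mem_equalizer _ _ P).1 hP ▸ rfl⟩

/-- A value fixed by all exponents giving conjugates lies in the field of values. -/
theorem mem_valField (g : G) {M : ℕ} (hM : 1 < M) (hg : g ^ M = 1) {ζ : ℂ}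
    (hζ : IsPrimitiveRoot ζ M) (Q : ℚ[X]) {η : ℂ}
    (hQ : ∀ j < M, j.Coprime M → IsConj (g ^ j) g → aeval (ζ ^ j) Q = η) : η ∈ valField g := by
  classical
  haveI := Fintype.ofFinite G
  haveI := Fintype.ofFinite (Cfsg.IrrCharacter G)
  have hM0 : 0 < M := by omega
  set J := (Finset.range M).filter (fun j => j.Coprime M) with hJ
  have hsum : ∀ f : ℂ → ℂ, ∑ μ ∈ primitiveRoots M ℂ, f μ = ∑ j ∈ J, f (ζ ^ j) := by
    intro f
    symm
    refine Finset.sum_bij (fun j _ => ζ ^ j) ?_ ?_ ?_ (fun _ _ => rfl)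
    · intro j hj
      rw [mem_primitiveRoots hM0]
      exact hζ.pow_of_coprime j (Finset.mem_filter.1 hj).2
    · intro a ha b hb h
      exact hζ.pow_inj (Finset.mem_range.1 (Finset.mem_filter.1 ha).1)
        (Finset.mem_range.1 (Finset.mem_filter.1 hb).1) h
    · intro μ hμ
      haveI : NeZero M := ⟨hM0.ne'⟩
      obtain ⟨i, hi, hc, rfl⟩ := (hζ.isPrimitiveRoot_iff (ξ := μ) (k := M)).1
        ((mem_primitiveRoots hM0).1 hμ)
      exact ⟨i, Finset.mem_filter.2 ⟨Finset.mem_range.2 hi, hc⟩, rfl⟩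
  choose P hP using fun χ : Cfsg.IrrCharacter G => exists_values χ g hM0 hg hζ
  choose q hq using fun χ : Cfsg.IrrCharacter G =>
    (exists_rat_sum_prod_primitiveRoots hM0 (Q * P χ)).1
  set S := J.filter (fun j => IsConj (g ^ j) g) with hS
  set c : ℂ := (Nat.card (Subgroup.centralizer ({g} : Set G)) : ℂ) with hc
  have key : ∑ χ, (q χ : ℂ) * conj ((χ : G → ℂ) g) = (S.card : ℂ) * c * η := by
    have e1 : ∀ χ : Cfsg.IrrCharacter G, (q χ : ℂ) * conj ((χ : G → ℂ) g) =
        ∑ j ∈ J, aeval (ζ ^ j) Q * ((χ : G → ℂ) (g ^ j) * conj ((χ : G → ℂ) g)) := fun χ => by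
      rw [← hq χ, hsum fun μ => aeval μ (Q * P χ), Finset.sum_mul]
      refine Finset.sum_congr rfl fun j _ => ?_
      rw [map_mul, hP χ j, mul_assoc]
    rw [Finset.sum_congr rfl fun χ _ => e1 χ, Finset.sum_comm]
    simp only [← Finset.mul_sum, second_orthogonality, mul_ite, mul_zero]
    rw [← Finset.sum_filter, ← hS, Finset.sum_congr rfl (g := fun _ => η * c) fun j hj => by
      obtain ⟨hjJ, hjc⟩ := Finset.mem_filter.1 hj
      rw [hQ j (Finset.mem_range.1 (Finset.mem_filter.1 hjJ).1) (Finset.mem_filter.1 hjJ).2 hjc],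
      Finset.sum_const, nsmul_eq_mul]
    ring
  have h1 : (1 : ℕ) ∈ S := Finset.mem_filter.2 ⟨Finset.mem_filter.2
    ⟨Finset.mem_range.2 hM, Nat.coprime_one_left M⟩, by rw [pow_one]⟩
  have hne : (S.card : ℂ) * c ≠ 0 := mul_ne_zero
    (Nat.cast_ne_zero.2 (Finset.card_ne_zero_of_mem h1)) (Nat.cast_ne_zero.2 Nat.card_pos.ne')
  rw [show η = ((S.card : ℂ) * c)⁻¹ * ∑ χ, (q χ : ℂ) * conj ((χ : G → ℂ) g) by
    rw [key, inv_mul_cancel_left₀ hne]]
  refine mul_mem (inv_mem (mul_mem (natCast_mem _ _) (natCast_mem _ _))) (sum_mem fun χ _ => ?_)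
  refine mul_mem (SubfieldClass.ratCast_mem _ _) (IntermediateField.subset_adjoin ℚ _ ?_)
  exact ⟨⟨_, isIrrCharacter_conj χ.2⟩, rfl⟩

/-- Values fixed by an exponent inverting `ζ` up to a rational factor lie in the real or
imaginary subfield. -/
theorem values_mem (g : G) {M : ℕ} (hM : 0 < M) (hg : g ^ M = 1) {ζ : ℂ}
    (hζ : IsPrimitiveRoot ζ M) {r : ℕ} (hr : IsConj (g ^ r) g) {e : ℚ}
    (he : ζ * ζ ^ r = (e : ℂ)) (hne : ζ ^ r ≠ ζ) :
    valField g ≤ IntermediateField.adjoin ℚ ({ζ + ζ ^ r} : Set ℂ) := by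
  set K := IntermediateField.adjoin ℚ ({ζ + ζ ^ r} : Set ℂ) with hK
  have hη : ζ + ζ ^ r ∈ K := IntermediateField.subset_adjoin ℚ _ rfl
  have hlin : ∀ P : ℚ[X], ∃ a ∈ K, ∃ b ∈ K,
      aeval ζ P = a + b * ζ ∧ aeval (ζ ^ r) P = a + b * ζ ^ r := by
    intro P
    induction P using Polynomial.induction_on with
    | C x => exact ⟨x, SubfieldClass.ratCast_mem _ _, 0, zero_mem _, by simp, by simp⟩
    | add P R hP hR =>
      obtain ⟨a, ha, b, hb, e1, e2⟩ := hP
      obtain ⟨a', ha', b', hb', e1', e2'⟩ := hR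
      exact ⟨a + a', add_mem ha ha', b + b', add_mem hb hb', by rw [map_add, e1, e1']; ring,
        by rw [map_add, e2, e2']; ring⟩
    | monomial k x ih =>
      obtain ⟨a, ha, b, hb, e1, e2⟩ := ih
      refine ⟨-(b * (e : ℂ)), neg_mem (mul_mem hb (SubfieldClass.ratCast_mem _ _)),
        a + b * (ζ + ζ ^ r), add_mem ha (mul_mem hb hη), ?_, ?_⟩
      · rw [pow_succ, ← mul_assoc, map_mul, e1, aeval_X]
        linear_combination (-b) * he
      · rw [pow_succ, ← mul_assoc, map_mul, e2, aeval_X]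
        linear_combination (-b) * he
  intro z hz
  obtain ⟨P, hP1, hP2⟩ := exists_fixed_poly g hM hg hζ hr hz
  obtain ⟨a, ha, b, -, e1, e2⟩ := hlin P
  have hb : b = 0 := by
    rcases mul_eq_zero.1 (show b * (ζ ^ r - ζ) = 0 by
      linear_combination hP2 - hP1 + e1 - e2) with h | h
    · exact h
    · exact absurd (sub_eq_zero.1 h) hne
  rw [← hP1, e1, hb, zero_mul, add_zero]
  exact ha

theorem conj_pow_iter {x c : G} {j : ℕ} (h : x * c * x⁻¹ = c ^ j) :
    ∀ k : ℕ, x ^ k * c * (x ^ k)⁻¹ = c ^ (j ^ k) := by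
  intro k
  induction k with
  | zero => simp
  | succ k ih =>
    have h2 : x * c ^ (j ^ k) * x⁻¹ = (c ^ j) ^ (j ^ k) := by rw [← conj_pow, h]
    rw [pow_succ j k, mul_comm (j ^ k) j, pow_mul, ← h2, ← ih, pow_succ']
    group

/-- Only two powers of a generator of the cyclic maximal subgroup are conjugate to it. -/
theorem fusion (P : Sylow 2 G) {n : ℕ} (hn : 3 ≤ n) {c g : G} (hc : orderOf c = 2 ^ (n - 1))
    (hcP : c ∈ (P : Subgroup G)) (hgP : g ∈ (P : Subgroup G))
    (hcos : ∀ y ∈ (P : Subgroup G), y ∈ Subgroup.zpowers c ∨ g⁻¹ * y ∈ Subgroup.zpowers c)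
    {r : ℕ} (hr : g * c * g⁻¹ = c ^ r) (hr2 : c ^ (r * r) = c)
    {j : ℕ} (hj : j.Coprime (2 ^ (n - 1))) (hconj : IsConj (c ^ j) c) :
    c ^ j = c ∨ c ^ j = c ^ r := by
  set N := Subgroup.normalizer ((Subgroup.zpowers c : Subgroup G) : Set G) with hN
  obtain ⟨x, hx⟩ := isConj_iff.1 hconj.symm
  have hmemN : ∀ (y : G) (i : ℕ), y * c * y⁻¹ = c ^ i → i.Coprime (2 ^ (n - 1)) → y ∈ N := by
    intro y i hy hi
    obtain ⟨e, he⟩ := exists_pow_eq_self_of_coprime (x := c) (n := i) (hc ▸ hi)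
    rw [hN, Subgroup.mem_normalizer_iff]
    refine fun h => ⟨fun hh => ?_, fun hh => ?_⟩
    · obtain ⟨k, rfl⟩ := Subgroup.mem_zpowers_iff.1 hh
      show y * c ^ k * y⁻¹ ∈ Subgroup.zpowers c
      rw [← conj_zpow, hy]
      exact zpow_mem (pow_mem (Subgroup.mem_zpowers c) _) _
    · obtain ⟨k, hk⟩ := Subgroup.mem_zpowers_iff.1 hh
      show h ∈ Subgroup.zpowers c
      have h2 : y * (c ^ e) ^ k * y⁻¹ = y * h * y⁻¹ := by
        rw [← conj_zpow, ← conj_pow, hy, he, hk]
      rw [mul_left_cancel (mul_right_cancel h2).symm]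
      exact zpow_mem (pow_mem (Subgroup.mem_zpowers c) _) _
  have hxN : x ∈ N := hmemN x j hx hj
  have hPN : (P : Subgroup G) ≤ N := by
    intro y hy
    have hcomm : ∀ z ∈ Subgroup.zpowers c, z * c * z⁻¹ = c := by
      intro z hz
      obtain ⟨k, rfl⟩ := Subgroup.mem_zpowers_iff.1 hz
      rw [((Commute.refl c).zpow_left k).eq, mul_inv_cancel_right]
    rcases hcos y hy with h | h
    · exact hmemN y 1 (by rw [pow_one]; exact hcomm y h) (Nat.coprime_one_left _)
    · refine hmemN y r ?_ ?_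
      · rw [← hr]
        have := congrArg (fun z => g * z * g⁻¹) (hcomm _ h)
        simp only [← mul_assoc] at this
        simpa [mul_assoc] using this
      · have hd : orderOf (c ^ r) = orderOf c := by
          rw [← hr]
          exact (orderOf_injective (MulAut.conj g).toMonoidHom (MulAut.conj g).injective c).symm ▸ rfl
        rw [orderOf_pow, hc] at hd
        rw [Nat.coprime_comm]
        have hpos : 0 < 2 ^ (n - 1) := by positivity
        rcases Nat.div_eq_self.1 hd with h0 | h1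
        · omega
        · exact h1
  -- the `2`-part of `x`
  haveI : Fact (Nat.Prime 2) := ⟨Nat.prime_two⟩
  set b := orderOf x / 2 ^ (orderOf x).factorization 2 with hb
  have hbo : ¬ 2 ∣ b := Nat.not_dvd_ordCompl Nat.prime_two (orderOf_pos x).ne'
  have hw : (x ^ b) ^ 2 ^ (orderOf x).factorization 2 = 1 := by
    rw [← pow_mul, hb, Nat.div_mul_cancel (Nat.ordProj_dvd _ _), pow_orderOf_eq_one]
  set w : N := ⟨x ^ b, pow_mem hxN b⟩ with hwdef
  have hwp : IsPGroup 2 (Subgroup.zpowers w) := by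
    intro ⟨z, hz⟩
    obtain ⟨k, rfl⟩ := Subgroup.mem_zpowers_iff.1 hz
    refine ⟨(orderOf x).factorization 2, Subtype.ext (Subtype.ext ?_)⟩
    show ((x ^ b) ^ k) ^ 2 ^ (orderOf x).factorization 2 = 1
    rw [← zpow_natCast, ← zpow_mul, mul_comm, zpow_mul, zpow_natCast, hw, one_zpow]
  obtain ⟨R, hR⟩ := hwp.exists_le_sylow
  obtain ⟨u, hu⟩ := MulAction.exists_smul_eq N R (P.subtype hPN)
  have huy : (u : G) * x ^ b * (u : G)⁻¹ ∈ (P : Subgroup G) := by
    have h1 : MulAut.conj u w ∈ ((u • R : Sylow 2 N) : Subgroup N) := by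
      rw [Sylow.coe_subgroup_smul]
      exact Subgroup.smul_mem_pointwise_smul _ _ _ (hR (Subgroup.mem_zpowers w))
    rw [hu] at h1
    simpa [hwdef, Subgroup.mem_subgroupOf] using h1
  obtain ⟨a, ha⟩ := Subgroup.mem_zpowers_iff.1
    ((Subgroup.mem_normalizer_iff.1 (inv_mem u.2) c).1 (Subgroup.mem_zpowers c))
  have hy : ((u : G) * x ^ b * (u : G)⁻¹) * c * ((u : G) * x ^ b * (u : G)⁻¹)⁻¹ = c ^ (j ^ b) := by
    have h2 : (u : G) * c ^ a * (u : G)⁻¹ = c := by rw [ha]; group
    calc _ = (u : G) * (x ^ b * ((u : G)⁻¹ * c * ((u : G)⁻¹)⁻¹) * (x ^ b)⁻¹) * (u : G)⁻¹ := by group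
      _ = (u : G) * ((c ^ (j ^ b)) ^ a) * (u : G)⁻¹ := by
          rw [← ha, ← conj_zpow, conj_pow_iter hx b]
      _ = c ^ (j ^ b) := by
          rw [← zpow_natCast c, ← zpow_mul, mul_comm, zpow_mul, ← conj_zpow, h2]
  have hcase : c ^ (j ^ b) = c ∨ c ^ (j ^ b) = c ^ r := by
    rcases hcos _ huy with h | h
    · left
      obtain ⟨k, hk⟩ := Subgroup.mem_zpowers_iff.1 h
      rw [← hy, ← hk, ((Commute.refl c).zpow_left k).eq, mul_inv_cancel_right]
    · right
      obtain ⟨k, hk⟩ := Subgroup.mem_zpowers_iff.1 h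
      rw [← hy, ← hr, eq_inv_mul_iff_mul_eq.1 hk |>.symm]
      calc g * c ^ k * c * (g * c ^ k)⁻¹ = g * (c ^ k * c * (c ^ k)⁻¹) * g⁻¹ := by group
        _ = g * c * g⁻¹ := by rw [((Commute.refl c).zpow_left k).eq, mul_inv_cancel_right]
  -- the exponent is an involution modulo the order
  set M := 2 ^ (n - 1) with hM
  have hmod : ∀ a b : ℕ, c ^ a = c ^ b ↔ (a : ZMod M) = (b : ZMod M) := fun a b => by
    rw [ZMod.natCast_eq_natCast_iff, pow_eq_pow_iff_modEq, hc]
  have h1 : (j : ZMod M) ^ (2 * b) = 1 := by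
    have hrr : (r : ZMod M) * r = 1 := by
      have := (hmod (r * r) 1).1 (by rw [hr2, pow_one])
      rwa [Nat.cast_mul, Nat.cast_one] at this
    rw [mul_comm, pow_mul]
    rcases hcase with h | h
    · have := (hmod (j ^ b) 1).1 (by rw [h, pow_one])
      rw [Nat.cast_pow, Nat.cast_one] at this
      rw [this, one_pow]
    · have := (hmod (j ^ b) r).1 h
      rw [Nat.cast_pow] at this
      rw [this, sq, hrr]
  have h2 : (j : ZMod M) ^ 2 ^ (n - 2) = 1 := by
    have := Nat.ModEq.pow_totient hj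
    rw [Nat.totient_prime_pow Nat.prime_two (by omega), show n - 1 - 1 = n - 2 by omega,
      show 2 - 1 = 1 from rfl, mul_one, ← ZMod.natCast_eq_natCast_iff] at this
    rwa [Nat.cast_pow, Nat.cast_one] at this
  have h3 : (j : ZMod M) ^ 2 = 1 := by
    have hg := pow_gcd_eq_one.2 ⟨h1, h2⟩
    have hd : Nat.gcd (2 * b) (2 ^ (n - 2)) ∣ 2 := by
      refine (Nat.Coprime.dvd_of_dvd_mul_right ?_ (Nat.gcd_dvd_left _ _))
      exact Nat.Coprime.coprime_dvd_left (Nat.gcd_dvd_right _ _)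
        ((Nat.prime_two.coprime_iff_not_dvd.2 hbo).pow_left _)
    obtain ⟨t, ht⟩ := hd
    rw [ht, pow_mul, hg, one_pow]
  have h4 : c ^ (j ^ b) = c ^ j := by
    rw [hmod, Nat.cast_pow]
    obtain ⟨t, ht⟩ : ∃ t, b = 2 * t + 1 := ⟨b / 2, by omega⟩
    rw [ht, pow_succ, pow_mul, h3, one_pow, one_mul]
  rwa [h4] at hcase

/-- Let G be a finite group with Sylow 2-subgroup P of order 2^n ≥ 8, and let ζ be a primitive 2^(n−1)-th root of unity in ℂ. Then the commutator subgroup of P has index 4 in P if and only if there is an element g of P whose conjugacy class in G has even size and such that the field generated over ℚ by the values at g of all irreducible complex characters of G equals ℚ(ζ + ζ⁻¹) or ℚ(ζ − ζ⁻¹). -/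
theorem result {G : Type*} [Group G] [Finite G] (P : Sylow 2 G) (n : ℕ) (hn : 3 ≤ n) (hP : Nat.card P = 2 ^ n) (ζ : ℂ) (hζ : IsPrimitiveRoot ζ (2 ^ (n - 1))) :
    (commutator ↥P).index = 4 ↔
      ∃ g : G, g ∈ (P : Subgroup G) ∧ 2 ∣ (Subgroup.centralizer ({g} : Set G)).index ∧
        (IntermediateField.adjoin ℚ {z : ℂ | ∃ χ : Cfsg.IrrCharacter G, (χ : G → ℂ) g = z} = IntermediateField.adjoin ℚ ({ζ + ζ⁻¹} : Set ℂ) ∨
          IntermediateField.adjoin ℚ {z : ℂ | ∃ χ : Cfsg.IrrCharacter G, (χ : G → ℂ) g = z} = IntermediateField.adjoin ℚ ({ζ - ζ⁻¹} : Set ℂ)) := by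
  classical
  haveI : Fact (Nat.Prime 2) := ⟨Nat.prime_two⟩
  have hP' : Nat.card ↥P = 2 ^ n := hP
  have hM : 0 < 2 ^ (n - 1) := by positivity
  have hM1 : 1 < 2 ^ (n - 1) := Nat.one_lt_two_pow (by omega)
  constructor
  · intro hidx
    obtain ⟨c, g, hco, hgn, hci, r₀, hr₀, s, hs, hsodd⟩ :=
      PGroups.Taussky.structure_two hn hP hidx
    set r := (r₀ % (2 ^ (n - 1) : ℕ)).toNat with hrdef
    have hrr : (r : ℤ) = r₀ % (2 ^ (n - 1) : ℕ) :=
      Int.toNat_of_nonneg (Int.emod_nonneg _ (by exact_mod_cast hM.ne'))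
    have hr : g * c * g⁻¹ = c ^ r := by
      rw [hr₀, ← zpow_natCast c r, hrr, ← hco, zpow_mod_orderOf]
    have hcG : orderOf (c : G) = 2 ^ (n - 1) := by rw [Subgroup.orderOf_coe, hco]
    haveI hnorm := Subgroup.normal_of_index_eq_two hci
    have hcomm : ∀ z ∈ Subgroup.zpowers c, z * c * z⁻¹ = c := by
      intro z hz
      obtain ⟨k, rfl⟩ := Subgroup.mem_zpowers_iff.1 hz
      rw [((Commute.refl c).zpow_left k).eq, mul_inv_cancel_right]
    have hg2 : g * g ∈ Subgroup.zpowers c := by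
      have := (Subgroup.mul_mem_iff_of_index_two hci (a := g) (b := g)).2 Iff.rfl
      exact this
    have hr2 : c ^ (r * r) = c := by
      rw [pow_mul, ← hr, conj_pow, ← hr]
      calc g * (g * c * g⁻¹) * g⁻¹ = (g * g) * c * (g * g)⁻¹ := by group
        _ = c := hcomm _ hg2
    have hrne : c ^ r ≠ c := by
      intro h
      have h1 : c ^ (r₀ - 1) = 1 := by
        rw [zpow_sub, zpow_one, ← hr₀, hr, h, mul_inv_cancel]
      obtain ⟨w, rfl⟩ := hsodd
      rw [← orderOf_dvd_iff_zpow_eq_one, hco, hs, show n - 1 = n - 3 + 1 + 1 by omega,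
        pow_succ, pow_succ] at h1
      push_cast at h1
      obtain ⟨d, hd⟩ := h1
      have : (2 : ℤ) ∣ 2 * w + 1 := ⟨2 ^ (n - 3) * d, by linarith⟩
      omega
    have hcos : ∀ y ∈ (P : Subgroup G), y ∈ Subgroup.zpowers (c : G) ∨
        (g : G)⁻¹ * y ∈ Subgroup.zpowers (c : G) := by
      intro y hy
      rcases (PGroups.Taussky.index_two_conj_mem hci).2 g hgn ⟨y, hy⟩ with h | h
      · left
        obtain ⟨k, hk⟩ := Subgroup.mem_zpowers_iff.1 h
        exact Subgroup.mem_zpowers_iff.2 ⟨k, by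
          rw [← SubgroupClass.coe_zpow]; exact congrArg Subtype.val hk⟩
      · right
        obtain ⟨k, hk⟩ := Subgroup.mem_zpowers_iff.1 h
        exact Subgroup.mem_zpowers_iff.2 ⟨k, by
          rw [← SubgroupClass.coe_zpow]; exact congrArg Subtype.val hk⟩
    have hrG : (g : G) * c * (g : G)⁻¹ = (c : G) ^ r := by
      simpa using congrArg Subtype.val hr
    have hr2G : (c : G) ^ (r * r) = c := by simpa using congrArg Subtype.val hr2
    have hconjr : IsConj ((c : G) ^ r) c :=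
      (isConj_iff.2 ⟨g, hrG⟩ : IsConj (c : G) ((c : G) ^ r)).symm
    refine ⟨c, c.2, ?_, ?_⟩
    · -- the class has even size
      by_contra hodd
      obtain ⟨Q⟩ : Nonempty (Sylow 2 (Subgroup.centralizer ({(c : G)} : Set G))) := inferInstance
      have hcc : (c : G) ∈ Subgroup.centralizer ({(c : G)} : Set G) :=
        Subgroup.mem_centralizer_singleton_iff.2 rfl
      set Q' := (Q : Subgroup (Subgroup.centralizer ({(c : G)} : Set G))).map
        (Subgroup.centralizer ({(c : G)} : Set G)).subtype with hQ'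
      have hQc : Nat.card Q' = Nat.card P := by
        rw [hQ', Subgroup.card_map_of_injective (Subgroup.subtype_injective _),
          Q.card_eq_multiplicity, P.card_eq_multiplicity,
          ← Subgroup.card_mul_index (Subgroup.centralizer ({(c : G)} : Set G)),
          Nat.factorization_mul Nat.card_pos.ne' (Subgroup.index_ne_zero_of_finite),
          Finsupp.add_apply, Nat.factorization_eq_zero_of_not_dvd hodd, add_zero]
      set Q₀ : Sylow 2 G := Sylow.ofCard Q' (by rw [hQc, P.card_eq_multiplicity])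
      obtain ⟨x, hx⟩ := MulAction.exists_smul_eq G Q₀ P
      -- `c` is central in that Sylow subgroup
      have hcQ : (⟨c, hcc⟩ : Subgroup.centralizer ({(c : G)} : Set G)) ∈
          (Q : Subgroup (Subgroup.centralizer ({(c : G)} : Set G))) := by
        set w : Subgroup.centralizer ({(c : G)} : Set G) := ⟨c, hcc⟩
        haveI : (Subgroup.zpowers w).Normal := ⟨fun a ha b => by
          obtain ⟨k, rfl⟩ := Subgroup.mem_zpowers_iff.1 ha
          have hb : Commute b w := Subtype.ext (Subgroup.mem_centralizer_singleton_iff.1 b.2)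
          rw [(hb.zpow_right k).eq, mul_inv_cancel_right]
          exact zpow_mem (Subgroup.mem_zpowers w) k⟩
        refine IsPGroup.le_sylow_of_normal ?_ Q (Subgroup.mem_zpowers w)
        refine IsPGroup.of_card (n := n - 1) ?_
        rw [Nat.card_zpowers, ← Subgroup.orderOf_coe]
        exact hcG
      have hPx : MulAut.conj x • Q' = (P : Subgroup G) :=
        congrArg (fun S : Sylow 2 G => (S : Subgroup G)) hx
      have hd : x * c * x⁻¹ ∈ (P : Subgroup G) :=
        hPx.le (Subgroup.smul_mem_pointwise_smul _ (MulAut.conj x) _ ⟨_, hcQ, rfl⟩)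
      have hcen : ∀ y ∈ (P : Subgroup G), y * (x * c * x⁻¹) = (x * c * x⁻¹) * y := by
        intro y hy
        obtain ⟨_, ⟨q, -, rfl⟩, rfl⟩ := hPx.ge hy
        show MulAut.conj x (q : G) * MulAut.conj x (c : G) = MulAut.conj x (c : G) * MulAut.conj x (q : G)
        rw [← map_mul, ← map_mul, Subgroup.mem_centralizer_singleton_iff.1 q.2]
      set d : P := ⟨x * c * x⁻¹, hd⟩
      have hdo : orderOf d = orderOf c := by
        rw [← Subgroup.orderOf_coe d, ← Subgroup.orderOf_coe c]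
        exact orderOf_injective (MulAut.conj x).toMonoidHom (MulAut.conj x).injective (c : G)
      rcases hcos _ hd with h | h
      · obtain ⟨k, hk⟩ := Subgroup.mem_zpowers_iff.1 h
        have hgd := hcen g g.2
        have hz : Subgroup.zpowers d = Subgroup.zpowers c :=
          Subgroup.eq_of_le_of_card_ge (Subgroup.zpowers_le.2 (Subgroup.mem_zpowers_iff.2
            ⟨k, Subtype.ext (by rw [SubgroupClass.coe_zpow]; exact hk)⟩))
            (by rw [Nat.card_zpowers, Nat.card_zpowers, hdo])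
        obtain ⟨i, hi⟩ := Subgroup.mem_zpowers_iff.1 (hz.ge (Subgroup.mem_zpowers c))
        have hgd' : Commute g d := Subtype.ext hgd
        exact hrne (by rw [← hr, ← hi, (hgd'.zpow_right i).eq, mul_inv_cancel_right])
      · obtain ⟨k, hk⟩ := Subgroup.mem_zpowers_iff.1 h
        have hgc := hcen c c.2
        rw [eq_inv_mul_iff_mul_eq.1 hk |>.symm] at hgc
        have h2 : (g : G) * c * (g : G)⁻¹ = c := by
          calc (g : G) * c * (g : G)⁻¹ = g * ((c : G) ^ k * c * ((c : G) ^ k)⁻¹) * (g : G)⁻¹ := by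
                rw [((Commute.refl (c : G)).zpow_left k).eq, mul_inv_cancel_right]
            _ = ((g : G) * (c : G) ^ k * c) * ((g : G) * (c : G) ^ k)⁻¹ := by group
            _ = c := by rw [← hgc, mul_inv_cancel_right]
        exact hrne (Subtype.ext (by simpa [← hrG] using h2))
    · -- the field of values
      set e₀ := ζ * ζ ^ r with he₀
      have hzm : ∀ a b : ℕ, c ^ a = c ^ b ↔ ζ ^ a = ζ ^ b := fun a b => by
        rw [pow_eq_pow_iff_modEq, hco, hζ.eq_orderOf, ← pow_eq_pow_iff_modEq' (hζ.ne_zero hM.ne')]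
      have hM2 : 2 ^ (n - 1) ∣ 2 * (r + 1) := by
        have h1 : ((2 ^ (n - 1) : ℕ) : ℤ) ∣ 2 * ((r₀ + 1) * s) := by
          rw [← hco, orderOf_dvd_iff_zpow_eq_one,
            show 2 * ((r₀ + 1) * s) = r₀ * r₀ - 1 by linear_combination (-(r₀ + 1)) * hs,
            zpow_sub, zpow_one, zpow_mul, ← hr₀, conj_zpow, ← hr₀]
          rw [show g * (g * c * g⁻¹) * g⁻¹ = (g * g) * c * (g * g)⁻¹ by group, hcomm _ hg2,
            mul_inv_cancel]
        rw [← mul_assoc] at h1
        have h2 : ((2 ^ (n - 1) : ℕ) : ℤ) ∣ 2 * (r₀ + 1) := by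
          refine Int.dvd_of_dvd_mul_left_of_gcd_one h1 ?_
          rw [Int.gcd, Int.natAbs_natCast]
          exact (Nat.prime_two.coprime_iff_not_dvd.2 (by
            obtain ⟨w, rfl⟩ := hsodd
            omega)).pow_left _
        have h3 : ((2 ^ (n - 1) : ℕ) : ℤ) ∣ 2 * ((r : ℤ) + 1) := by
          rw [hrr, Int.emod_def, show 2 * (r₀ - ↑(2 ^ (n - 1) : ℕ) * (r₀ / ↑(2 ^ (n - 1) : ℕ)) + 1) =
            2 * (r₀ + 1) - ↑(2 ^ (n - 1) : ℕ) * (2 * (r₀ / ↑(2 ^ (n - 1) : ℕ))) by ring]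
          exact dvd_sub h2 (dvd_mul_right _ _)
        exact_mod_cast h3
      have he2 : e₀ ^ 2 = 1 := by
        rw [he₀, ← pow_succ', ← pow_mul, mul_comm, hζ.pow_eq_one_iff_dvd]
        exact hM2
      have hne : ζ ^ r ≠ ζ := fun h => hrne (by
        have := (hzm r 1).2 (by rw [pow_one]; exact h)
        rwa [pow_one] at this)
      obtain ⟨e, he⟩ : ∃ e : ℚ, ζ * ζ ^ r = (e : ℂ) := by
        rcases sq_eq_one_iff.1 he2 with h | h
        · exact ⟨1, by rw [Rat.cast_one]; exact h⟩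
        · exact ⟨-1, by rw [Rat.cast_neg, Rat.cast_one]; exact h⟩
      have hg1 : (c : G) ^ 2 ^ (n - 1) = 1 := by rw [← hcG, pow_orderOf_eq_one]
      have hF : valField (c : G) = IntermediateField.adjoin ℚ ({ζ + ζ ^ r} : Set ℂ) := by
        refine le_antisymm (values_mem (c : G) hM hg1 hζ hconjr he hne) ?_
        rw [IntermediateField.adjoin_le_iff, Set.singleton_subset_iff]
        refine mem_valField (c : G) hM1 hg1 hζ (X + X ^ r) fun j hjM hj hjc => ?_
        rw [map_add, map_pow, aeval_X, ← pow_mul]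
        rcases fusion P hn hcG c.2 g.2 hcos hrG hr2G hj hjc with h | h
        · have h' : c ^ j = c := Subtype.ext (by simpa using h)
          have h1 : ζ ^ j = ζ := by
            simpa using (hzm j 1).1 (by rw [pow_one]; exact h')
          rw [pow_mul, h1]
        · have h' : c ^ j = c ^ r := Subtype.ext (by simpa using h)
          have h1 : ζ ^ j = ζ ^ r := (hzm j r).1 h'
          have h2 : ζ ^ (r * r) = ζ := by
            simpa using (hzm (r * r) 1).1 (by rw [pow_one]; exact hr2)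
          rw [pow_mul, h1, ← pow_mul, h2, add_comm]
      rcases sq_eq_one_iff.1 he2 with h | h
      · left
        change valField (c : G) = _
        rw [hF, show ζ ^ r = ζ⁻¹ from eq_inv_of_mul_eq_one_right h]
      · right
        change valField (c : G) = _
        rw [hF, show ζ ^ r = -ζ⁻¹ from by
          rw [← neg_eq_iff_eq_neg]
          exact eq_inv_of_mul_eq_one_right (by rw [mul_neg, ← he₀, h, neg_neg]), ← sub_eq_add_neg]
  · rintro ⟨g, hgP, heven, hF⟩
    have hnc : ¬ (P : Subgroup G) ≤ Subgroup.centralizer ({g} : Set G) := fun h =>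
      P.not_dvd_index (heven.trans (Subgroup.index_dvd_of_le h))
    obtain ⟨x, hxP, hx⟩ := SetLike.not_le_iff_exists.1 hnc
    set g' : P := ⟨g, hgP⟩ with hg'
    set x' : P := ⟨x, hxP⟩ with hx'
    have hcm : ⁅x', g'⁆ ∈ commutator ↥P := by
      rw [_root_.commutator_def]
      exact Subgroup.commutator_mem_commutator (Subgroup.mem_top _) (Subgroup.mem_top _)
    have hne : ⁅x', g'⁆ ≠ 1 := fun h => hx (by
      rw [Subgroup.mem_centralizer_singleton_iff]
      exact congrArg Subtype.val (commutatorElement_eq_one_iff_mul_comm.1 h))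
    have hnbot : commutator ↥P ≠ ⊥ := fun h => hne (by simpa [h] using hcm)
    have hpP : IsPGroup 2 ↥P := P.2
    obtain ⟨a, ha⟩ := (Nat.dvd_prime_pow Nat.prime_two).1
      (hP ▸ (commutator ↥P).index_dvd_card)
    have hncyc := PGroups.MaximalClass.not_cyclic_abelianization (p := 2) hpP hnbot
    have hge : 2 ≤ a := by
      by_contra hlt
      apply hncyc
      interval_cases a
      · haveI : Subsingleton (↥P ⧸ commutator ↥P) :=
          (Nat.card_eq_one_iff_unique.1 (by rw [← Subgroup.index_eq_card]; simpa using ha.2)).1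
        infer_instance
      · exact isCyclic_of_prime_card (p := 2)
          (by rw [← Subgroup.index_eq_card]; simpa using ha.2)
    suffices 2 ^ (n - 2) ≤ Nat.card (commutator ↥P) by
      have h := (commutator ↥P).card_mul_index
      rw [hP', ha.2] at h
      have h1 : 2 ^ (n - 2) * 2 ^ a ≤ 2 ^ n := h ▸ Nat.mul_le_mul_right _ this
      rw [← pow_add, Nat.pow_le_pow_iff_right one_lt_two] at h1
      rw [ha.2, show a = 2 by omega]
      rfl
    rcases Nat.lt_or_ge n 4 with hn4 | hn4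
    · rw [show n - 2 = 1 by omega]
      exact (Subgroup.one_lt_card_iff_ne_bot _).2 hnbot
    -- the order of `g`
    obtain ⟨m, hm, hmo⟩ := (Nat.dvd_prime_pow Nat.prime_two).1
      (hP ▸ orderOf_dvd_natCard g')
    have hogG : orderOf g = 2 ^ m := by
      rw [show g = (g' : G) from rfl, Subgroup.orderOf_coe, hmo]
    have hmn : m ≤ n - 1 := by
      by_contra hlt
      apply hne
      rw [commutatorElement_eq_one_iff_mul_comm]
      obtain ⟨k, hk⟩ := Subgroup.mem_zpowers_iff.1 (show x' ∈ Subgroup.zpowers g' by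
        rw [Subgroup.eq_top_of_card_eq _ (show Nat.card (Subgroup.zpowers g') = Nat.card P by
          rw [Nat.card_zpowers, hmo, hP, show m = n by omega])]
        exact Subgroup.mem_top _)
      rw [← hk]
      exact ((Commute.refl g').zpow_left k).eq
    obtain ⟨ε, hε, hF'⟩ : ∃ ε : ℚ, ε ^ 2 = 1 ∧ (valField g =
        IntermediateField.adjoin ℚ ({ζ + (ε : ℂ) * ζ⁻¹} : Set ℂ)) := by
      rcases hF with h | h
      · exact ⟨1, one_pow 2, by rw [Rat.cast_one, one_mul]; exact h⟩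
      · exact ⟨-1, by norm_num, by
          rw [Rat.cast_neg, Rat.cast_one, neg_one_mul, ← sub_eq_add_neg]; exact h⟩
    have hζ0 : ζ ≠ 0 := hζ.ne_zero hM.ne'
    have hζinv : ∀ μ : ℂ, IsPrimitiveRoot μ (2 ^ (n - 1)) →
        μ ^ (2 ^ (n - 1) - 1) = μ⁻¹ := fun μ hμ => by
      refine eq_inv_of_mul_eq_one_left ?_
      rw [← pow_succ, show 2 ^ (n - 1) - 1 + 1 = 2 ^ (n - 1) by omega, hμ.pow_eq_one]
    have hηmem : ζ + (ε : ℂ) * ζ⁻¹ ∈ valField g := by
      rw [hF']; exact IntermediateField.subset_adjoin ℚ _ rfl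
    have hεC : (ε : ℂ) ^ 2 = 1 := by exact_mod_cast congrArg (fun q : ℚ => (q : ℂ)) hε
    have hg1 : g ^ 2 ^ (n - 1) = 1 :=
      orderOf_dvd_iff_pow_eq_one.1 (hogG ▸ pow_dvd_pow 2 hmn)
    -- values live in the field of the `o`-th roots
    have hm_eq : m = n - 1 := by
      by_contra hlt
      have hg2 : g ^ 2 ^ (n - 2) = 1 :=
        orderOf_dvd_iff_pow_eq_one.1 (hogG ▸ pow_dvd_pow 2 (by omega))
      have hζ2 : IsPrimitiveRoot (ζ ^ 2) (2 ^ (n - 2)) := hζ.pow hM
        (by rw [← pow_succ', show n - 2 + 1 = n - 1 by omega])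
      obtain ⟨R, hR, -⟩ := exists_fixed_poly g (by positivity) hg2 hζ2
        (s := 1) (by rw [pow_one]) hηmem
      have hneg : IsPrimitiveRoot (-ζ) (2 ^ (n - 1)) := by
        have hc : (2 ^ (n - 2) + 1).Coprime (2 ^ (n - 1)) := by
          refine Nat.Coprime.pow_right _ (Nat.Coprime.symm ((Nat.prime_two.coprime_iff_not_dvd).2 ?_))
          rw [show n - 2 = n - 3 + 1 by omega, pow_succ]
          omega
        have h1 : ζ ^ 2 ^ (n - 2) = -1 := by
          have h2 : IsPrimitiveRoot (ζ ^ 2 ^ (n - 2)) 2 := hζ.pow hM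
            (by rw [← pow_succ, show n - 2 + 1 = n - 1 by omega])
          exact h2.eq_neg_one_of_two_right
        have := hζ.pow_of_coprime _ hc
        rwa [pow_succ, h1, neg_one_mul] at this
      set S : ℚ[X] := R.comp (X ^ 2) - (X + C ε * X ^ (2 ^ (n - 1) - 1)) with hS
      have hS0 : aeval ζ S = ((0 : ℚ) : ℂ) := by
        simp only [hS, map_sub, map_add, map_mul, aeval_comp, map_pow, aeval_X, aeval_C, hR,
          hζinv ζ hζ, eq_ratCast, sub_self, Rat.cast_zero]
      have hS1 := aeval_eq_rat_of_primitive hM hζ hneg S hS0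
      simp only [hS, map_sub, map_add, map_mul, aeval_comp, map_pow, aeval_X, aeval_C,
        hζinv _ hneg, eq_ratCast, neg_sq, hR, inv_neg, Rat.cast_zero] at hS1
      have h4 : ζ ^ 4 = 1 := by
        have h2 : ζ ^ 2 = -(ε : ℂ) := by
          have hz : ζ * ζ⁻¹ = 1 := mul_inv_cancel₀ hζ0
          linear_combination (ζ / 2) * hS1 - (ε : ℂ) * hz
        calc ζ ^ 4 = (ζ ^ 2) ^ 2 := by ring
          _ = 1 := by rw [h2, neg_sq, hεC]
      have h5 := Nat.le_of_dvd (by norm_num) ((hζ.pow_eq_one_iff_dvd 4).1 h4)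
      have : 2 ^ 3 ≤ 2 ^ (n - 1) := Nat.pow_le_pow_right (by norm_num) (by omega)
      omega
    rw [hm_eq] at hmo hogG
    -- the exponent induced by `x`
    have hzi : (Subgroup.zpowers g').index = 2 := by
      have h := (Subgroup.zpowers g').card_mul_index
      rw [Nat.card_zpowers, hmo, hP', show (2 : ℕ) ^ n = 2 ^ (n - 1) * 2 by
        rw [← pow_succ, show n - 1 + 1 = n by omega]] at h
      exact Nat.eq_of_mul_eq_mul_left hM h
    haveI := Subgroup.normal_of_index_eq_two hzi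
    obtain ⟨t, ht⟩ : ∃ t : ℕ, g' ^ t = x' * g' * x'⁻¹ := by
      obtain ⟨i, hi⟩ := Subgroup.mem_zpowers_iff.1
        (Subgroup.Normal.conj_mem inferInstance g' (Subgroup.mem_zpowers g') x')
      refine ⟨(i % (orderOf g' : ℤ)).toNat, ?_⟩
      rw [← zpow_natCast, Int.toNat_of_nonneg (Int.emod_nonneg _ (by
        exact_mod_cast (orderOf_pos g').ne')), zpow_mod_orderOf, hi]
    have htG : IsConj (g ^ t) g := (isConj_iff.2 ⟨x, by
      have := congrArg Subtype.val ht.symm
      simpa [hg', hx'] using this⟩).symm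
    obtain ⟨R, hR1, hR2⟩ := exists_fixed_poly g hM hg1 hζ htG hηmem
    set S : ℚ[X] := R - (X + C ε * X ^ (2 ^ (n - 1) - 1)) with hS
    have hS0 : aeval ζ S = ((0 : ℚ) : ℂ) := by
      simp only [hS, map_sub, map_add, map_mul, map_pow, aeval_X, aeval_C, hR1,
        hζinv ζ hζ, eq_ratCast, sub_self, Rat.cast_zero]
    have htc : t.Coprime (2 ^ (n - 1)) := by
      have hd : orderOf (g' ^ t) = orderOf g' := by
        rw [ht]
        exact orderOf_injective (MulAut.conj x').toMonoidHom (MulAut.conj x').injective g'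
      rw [orderOf_pow, hmo] at hd
      rw [Nat.coprime_comm]
      rcases Nat.div_eq_self.1 hd with h0 | h1
      · omega
      · exact h1
    have hζt := hζ.pow_of_coprime t htc
    have hS1 := aeval_eq_rat_of_primitive hM hζ hζt S hS0
    simp only [hS, map_sub, map_add, map_mul, map_pow, aeval_X, aeval_C, hR2,
      hζinv _ hζt, eq_ratCast, Rat.cast_zero] at hS1
    have hne1 : ζ ^ t ≠ ζ := by
      intro h
      apply hne
      rw [commutatorElement_def, ← ht]
      have : t ≡ 1 [MOD 2 ^ (n - 1)] := by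
        rw [hζ.eq_orderOf, ← pow_eq_pow_iff_modEq' hζ0, pow_one]; exact h
      rw [← hmo, ← pow_eq_pow_iff_modEq, pow_one] at this
      rw [this, mul_inv_cancel]
    have hprod : ζ * ζ ^ t = (ε : ℂ) := by
      have hz : ζ * ζ⁻¹ = 1 := mul_inv_cancel₀ hζ0
      have hzt : ζ ^ t * (ζ ^ t)⁻¹ = 1 := mul_inv_cancel₀ (pow_ne_zero _ hζ0)
      have : (ζ - ζ ^ t) * (ζ * ζ ^ t - (ε : ℂ)) = 0 := by
        linear_combination (ζ * ζ ^ t) * hS1 + (-(ε : ℂ) * ζ ^ t) * hz + ((ε : ℂ) * ζ) * hzt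
      exact sub_eq_zero.1 ((mul_eq_zero.1 this).resolve_left (sub_ne_zero.2 (Ne.symm hne1)))
    have hdiv : 2 ^ (n - 1) ∣ 2 * (t + 1) := by
      rw [← hζ.pow_eq_one_iff_dvd, mul_comm, pow_mul, show ζ ^ (t + 1) = (ε : ℂ) by
        rw [pow_succ', hprod], hεC]
    obtain ⟨w, hw, hwo⟩ : ∃ w : ℕ, t = 2 * w + 1 ∧ ¬ 2 ∣ w := by
      rw [show n - 1 = n - 4 + 3 by omega, pow_add] at hdiv
      have h8 : 8 ∣ 2 * (t + 1) := (dvd_mul_left (2 ^ 3) _).trans hdiv
      exact ⟨(t - 1) / 2, by omega, by omega⟩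
    have hmem : (g' ^ 2) ^ w ∈ commutator ↥P := by
      have h1 : ⁅x', g'⁆ = g' ^ t * g'⁻¹ := by rw [commutatorElement_def, ht]
      rw [h1, hw, pow_succ, mul_inv_cancel_right, pow_mul] at hcm
      exact hcm
    have ho2 : orderOf (g' ^ 2) = 2 ^ (n - 2) := by
      rw [orderOf_pow, hmo, show n - 1 = n - 2 + 1 by omega, pow_succ, Nat.gcd_mul_left_left,
        Nat.mul_div_cancel _ two_pos]
    calc 2 ^ (n - 2) = orderOf ((g' ^ 2) ^ w) := by
          rw [Nat.Coprime.orderOf_pow, ho2]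
          rw [ho2]
          exact (Nat.prime_two.coprime_iff_not_dvd.2 hwo).pow_left _
      _ = Nat.card (Subgroup.zpowers ((g' ^ 2) ^ w)) := (Nat.card_zpowers _).symm
      _ ≤ _ := Subgroup.card_le_of_le (Subgroup.zpowers_le.2 hmem)

end Cfsg.Agent.S4923
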