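import Cfsg.Statements.S4931
import Cfsg.Agent.Lib.CharTheory.Blocks.SylowExtension
import Cfsg.Agent.Lib.CharTheory.Ito
import Cfsg.Agent.Lib.Characters.Kernel
import Cfsg.Agent.Lib.Blocks.Defect
set_option linter.style.haveILetI false

set_option autoImplicit false
open Cfsg
open scoped commutatorElement

namespace Cfsg.Agent.S4931

/-- Let G be a finite group, p a prime and P a Sylow p-subgroup of G with normalizer N. Then every irreducible complex character of N of degree not divisible by p is the restriction of an irreducible character of G if and only if there is a normal subgroup K of G with KN = G and K ∩ N = 1. -/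
theorem result {G : Type*} [Group G] [Finite G] (p : ℕ) [Fact p.Prime] (P : Sylow p G) :
    (∀ θ : Cfsg.IrrCharacter ↥(Subgroup.normalizer ((P : Subgroup G) : Set G)), ¬ p ∣ Cfsg.charDegree (θ : ↥(Subgroup.normalizer ((P : Subgroup G) : Set G)) → ℂ) →
        ∃ χ : Cfsg.IrrCharacter G, ∀ x : ↥(Subgroup.normalizer ((P : Subgroup G) : Set G)), (χ : G → ℂ) x = (θ : ↥(Subgroup.normalizer ((P : Subgroup G) : Set G)) → ℂ) x) ↔
      ∃ K : Subgroup G, K.Normal ∧ K ⊔ Subgroup.normalizer ((P : Subgroup G) : Set G) = ⊤ ∧ K ⊓ Subgroup.normalizer ((P : Subgroup G) : Set G) = ⊥ := by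
  classical
  have hp : p.Prime := Fact.out
  set N := Subgroup.normalizer ((P : Subgroup G) : Set G) with hNdef
  have hPN : (P : Subgroup G) ≤ N := Subgroup.le_normalizer
  constructor
  · intro hext
    set D := ⁅(P : Subgroup G), (P : Subgroup G)⁆ with hDdef
    have hDP : D ≤ (P : Subgroup G) := Subgroup.commutator_le_self _
    set DN := D.subgroupOf N with hDN
    set PN := (P : Subgroup G).subgroupOf N with hPNdef
    haveI hPNn : PN.Normal := Subgroup.normal_in_normalizer
    have hmap : PN.map N.subtype = (P : Subgroup G) := Subgroup.map_subgroupOf_eq_of_le hPN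
    have hDNeq : DN = ⁅PN, PN⁆ := by
      apply Subgroup.map_injective N.subtype_injective
      rw [Subgroup.map_subgroupOf_eq_of_le (hDP.trans hPN), Subgroup.map_commutator, hmap]
    haveI hDNn : DN.Normal := by rw [hDNeq]; exact Subgroup.commutator_normal PN PN
    have hdeg : ∀ θ : Cfsg.IrrCharacter ↥N,
        (∀ x ∈ DN, (θ : ↥N → ℂ) x = (θ : ↥N → ℂ) 1) →
        ¬ p ∣ Cfsg.charDegree (θ : ↥N → ℂ) := by
      intro θ hθ
      obtain ⟨ψ, -, he, hψ⟩ :=
        Characters.exists_deflate_quotient DN (Characters.irr_isCharacter θ) hθ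
      set A := PN.map (QuotientGroup.mk' DN) with hA
      haveI : A.Normal := hPNn.map _ (QuotientGroup.mk'_surjective DN)
      have hab : ∀ a ∈ A, ∀ b ∈ A, a * b = b * a := by
        rintro _ ⟨a, ha, rfl⟩ _ ⟨b, hb, rfl⟩
        rw [← commutatorElement_eq_one_iff_mul_comm, ← map_commutatorElement]
        exact (QuotientGroup.eq_one_iff _).2 (hDNeq ▸ Subgroup.commutator_mem_commutator ha hb)
      obtain ⟨d, hd, hdvd⟩ := CharTheory.Ito.degree_dvd_index_abelian A hab (hψ θ.2)
      have hd' : Cfsg.charDegree (θ : ↥N → ℂ) = d := by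
        have := Blocks.charDegree_cast θ
        rw [← he 1, QuotientGroup.mk_one, hd] at this
        exact_mod_cast this
      rw [hd']
      intro hpd
      have hA' : A.index = PN.index := by
        rw [hA, Subgroup.index_map, QuotientGroup.ker_mk',
          sup_eq_left.2 ((hDNeq.le).trans (Subgroup.commutator_le_self PN)),
          MonoidHom.range_eq_top.2 (QuotientGroup.mk'_surjective DN), Subgroup.index_top, mul_one]
      rw [hA'] at hdvd
      exact P.not_dvd_index ((hpd.trans hdvd).trans (Subgroup.relIndex_dvd_index_of_le hPN))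
    -- extensions of the characters of `N / P'`
    let T := {θ : Cfsg.IrrCharacter ↥N // ∀ x ∈ DN, (θ : ↥N → ℂ) x = (θ : ↥N → ℂ) 1}
    choose χ hχ using fun θ : T => hext θ.1 (hdeg θ.1 θ.2)
    let ker : T → Subgroup G := fun θ =>
      Characters.charKernel (χ θ : G → ℂ) (Characters.irr_isCharacter (χ θ))
    set M : Subgroup G := ⨅ θ : T, ker θ with hMdef
    have hMn : M.Normal := Subgroup.normal_iInf_normal fun θ =>
      Characters.charKernel_normal (Characters.irr_isCharacter (χ θ))
    set L := Subgroup.normalClosure ((P : Subgroup G) : Set G) with hLdef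
    have hPL : (P : Subgroup G) ≤ L := Subgroup.le_normalClosure
    have hval : ∀ (θ : T) (x : G) (hx : x ∈ N),
        x ∈ ker θ ↔ (θ.1 : ↥N → ℂ) ⟨x, hx⟩ = (θ.1 : ↥N → ℂ) 1 := by
      intro θ x hx
      rw [Characters.mem_charKernel, ← hχ θ ⟨x, hx⟩, ← hχ θ 1, Subgroup.coe_one]
    have hinfl : ∀ (K : Subgroup ↥N) [K.Normal], DN ≤ K → ∀ (x : G) (hx : x ∈ N),
        (∀ θ : T, (∀ y ∈ K, (θ.1 : ↥N → ℂ) y = (θ.1 : ↥N → ℂ) 1) → x ∈ ker θ) →
        (⟨x, hx⟩ : ↥N) ∈ K := by
      intro K _ hDK x hx h
      rw [← QuotientGroup.eq_one_iff]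
      refine Characters.eq_one_of_forall_irr fun ψ => ?_
      have hK : ∀ y ∈ K, (ψ : ↥N ⧸ K → ℂ) (QuotientGroup.mk' K y) =
          (ψ : ↥N ⧸ K → ℂ) (QuotientGroup.mk' K 1) := fun y hy => by
        rw [map_one, QuotientGroup.mk'_apply, (QuotientGroup.eq_one_iff y).2 hy]
      let θ : T := ⟨⟨_, Characters.isIrrCharacter_comp_surjective (QuotientGroup.mk' K)
        (QuotientGroup.mk'_surjective K) ψ.2⟩, fun y hy => hK y (hDK hy)⟩
      simpa [θ] using (hval θ x hx).1 (h θ hK)
    have hMN : M ⊓ N = D := by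
      refine le_antisymm (fun x hx => ?_) (fun x hx => ⟨?_, hPN (hDP hx)⟩)
      · have := hinfl DN le_rfl x hx.2 fun θ _ => Subgroup.mem_iInf.1 hx.1 θ
        exact Subgroup.mem_subgroupOf.1 this
      · exact Subgroup.mem_iInf.2 fun θ => (hval θ x (hPN (hDP hx))).2
          (θ.2 _ (Subgroup.mem_subgroupOf.2 hx))
    have hLN : L ⊓ N = (P : Subgroup G) := by
      refine le_antisymm (fun x hx => ?_) (le_inf hPL hPN)
      have := hinfl PN ((hDNeq.le).trans (Subgroup.commutator_le_self PN)) x hx.2 fun θ hθ => by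
        haveI := Characters.charKernel_normal (Characters.irr_isCharacter (χ θ))
        refine Subgroup.normalClosure_le_normal (N := ker θ) ?_ hx.1
        intro y hy
        exact (hval θ y (hPN hy)).2 (hθ _ (Subgroup.mem_subgroupOf.2 hy))
      exact Subgroup.mem_subgroupOf.1 this
    let Q : Sylow p ↥L := P.subtype hPL
    have hQmap : (Q : Subgroup ↥L).map L.subtype = (P : Subgroup G) :=
      Subgroup.map_subgroupOf_eq_of_le hPL
    have hQN : Subgroup.normalizer ((Q : Subgroup ↥L) : Set ↥L) = (Q : Subgroup ↥L) := by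
      refine le_antisymm (fun y hy => ?_) Subgroup.le_normalizer
      have hyN : (y : G) ∈ N := by
        have h1 := Subgroup.le_normalizer_map L.subtype (Subgroup.mem_map_of_mem L.subtype hy)
        rwa [hQmap] at h1
      have : (y : G) ∈ (P : Subgroup G) := hLN ▸ ⟨y.2, hyN⟩
      exact this
    have hTQ : M.subgroupOf L ⊓ (Q : Subgroup ↥L) =
        ⁅(Q : Subgroup ↥L), (Q : Subgroup ↥L)⁆ := by
      apply Subgroup.map_injective L.subtype_injective
      rw [Subgroup.map_commutator, hQmap, Subgroup.map_inf _ _ _ L.subtype_injective,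
        hQmap, Subgroup.subgroupOf_map_subtype, ← hDdef, inf_assoc,
        inf_eq_right.2 hPL, ← hMN]
      refine le_antisymm (inf_le_inf_left _ hPN) (fun x hx => ⟨hx.1, hDP (hMN ▸ hx)⟩)
    haveI : (M.subgroupOf L).Normal := hMn.subgroupOf L
    have hcompl := CharTheory.Blocks.hasNormalPComplement_of_selfNormalizing Q hQN _ hTQ
    obtain ⟨j, hj⟩ := Transfer.NormalPComplement.hasNormalPComplement_iff_pPrimeCore.1 hcompl
    set K₀ := Cfsg.pPrimeCore p ↥L with hK₀
    haveI : K₀.Characteristic := Cfsg.Agent.PLocal.Cores.pPrimeCore_characteristic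
    haveI : L.Normal := Subgroup.normalClosure_normal
    have hK₀cop : (Nat.card ↥K₀).Coprime p := Cfsg.Agent.PLocal.Cores.coprime_card_pPrimeCore
    refine ⟨K₀.map L.subtype, inferInstance, ?_, ?_⟩
    · rw [eq_top_iff, ← Sylow.normalizer_sup_eq_top' P hPL]
      refine sup_le le_sup_right ?_
      have hc := (Transfer.NormalPComplement.isComplement'_of_coprime_card hK₀cop hj Q).sup_eq_top
      have : L ≤ K₀.map L.subtype ⊔ (P : Subgroup G) := by
        rw [← hQmap, ← Subgroup.map_sup, hc, ← MonoidHom.range_eq_map, Subgroup.range_subtype]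
      exact this.trans (sup_le_sup_left hPN _)
    · rw [eq_bot_iff]
      intro x hx
      obtain ⟨k, hk, rfl⟩ := hx.1
      have hkP : (k : G) ∈ (P : Subgroup G) := hLN ▸ ⟨k.2, hx.2⟩
      have h1 : orderOf k = 1 := by
        obtain ⟨a, ha⟩ := P.2.exists_card_eq
        refine Nat.eq_one_of_dvd_coprimes (hK₀cop.pow_right a)
          (Subgroup.orderOf_dvd_natCard _ hk) ?_
        rw [← ha, ← Subgroup.orderOf_coe]
        exact Subgroup.orderOf_dvd_natCard _ hkP
      rw [orderOf_eq_one_iff.1 h1]
      exact one_mem _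
  · rintro ⟨K, hK, hsup, hinf⟩ θ -
    haveI := hK
    let f : ↥N →* G ⧸ K := (QuotientGroup.mk' K).comp N.subtype
    have hinj : Function.Injective f := by
      rw [← MonoidHom.ker_eq_bot_iff, eq_bot_iff]
      intro x hx
      have : (x : G) ∈ K ⊓ N := ⟨(QuotientGroup.eq_one_iff _).1 hx, x.2⟩
      rw [hinf, Subgroup.mem_bot] at this
      exact Subtype.ext this
    have hsurj : Function.Surjective f := by
      intro z
      obtain ⟨g, rfl⟩ := QuotientGroup.mk'_surjective K z
      obtain ⟨k, hk, n, hn, rfl⟩ := Subgroup.mem_sup_of_normal_left.1 (hsup ▸ Subgroup.mem_top g)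
      exact ⟨⟨n, hn⟩, by simp [f, (QuotientGroup.eq_one_iff k).2 hk]⟩
    let e : ↥N ≃* G ⧸ K := MulEquiv.ofBijective f ⟨hinj, hsurj⟩
    refine ⟨⟨_, Characters.isIrrCharacter_comp_surjective
      (e.symm.toMonoidHom.comp (QuotientGroup.mk' K))
      (e.symm.surjective.comp (QuotientGroup.mk'_surjective K)) θ.2⟩, fun x => ?_⟩
    show (θ : ↥N → ℂ) (e.symm (QuotientGroup.mk' K (x : G))) = _
    rw [show QuotientGroup.mk' K (x : G) = e x from rfl, e.symm_apply_apply]

end Cfsg.Agent.S4931
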