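import Cfsg.Statements.S4930
import Cfsg.Agent.S4931
import Cfsg.Agent.S4445
import Cfsg.Agent.Lib.CharTheory.Ito
import Cfsg.Agent.Lib.Characters.Normal
import Cfsg.Agent.Lib.Blocks.Defect
import Cfsg.Agent.Lib.Blocks.PGroupSum
set_option linter.style.haveILetI false

set_option autoImplicit false
open Cfsg

namespace Cfsg.Agent.S4930

open Cfsg.Agent.Characters

universe u

/-- The irreducible characters of odd degree. -/
abbrev OddChar (H : Type u) [Group H] :=
  {χ : Cfsg.IrrCharacter H // ¬ 2 ∣ Cfsg.charDegree (χ : H → ℂ)}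

/-- The sum of the squares of the odd degrees. -/
noncomputable def oddSq (H : Type u) [Group H] : ℕ :=
  ∑ᶠ χ : OddChar H, Cfsg.charDegree (χ.1 : H → ℂ) ^ 2

theorem deg_eq {H : Type u} [Group H] (χ : Cfsg.IrrCharacter H) {d : ℕ}
    (h : (χ : H → ℂ) 1 = (d : ℂ)) : Cfsg.charDegree (χ : H → ℂ) = d := by
  have := Blocks.charDegree_cast χ
  rw [h] at this
  exact_mod_cast this

/-- Only the trivial character of an odd order normal subgroup occurs in odd degrees. -/
theorem le_ker_of_odd {G : Type u} [Group G] [Finite G] (P K : Subgroup G) [K.Normal]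
    (hP : IsPGroup 2 P) (hK : ¬ 2 ∣ Nat.card K)
    (hC : ∀ k ∈ K, (∀ u ∈ P, u * k * u⁻¹ = k) → k = 1) (χ : Cfsg.IrrCharacter G)
    (hodd : ¬ 2 ∣ Cfsg.charDegree (χ : G → ℂ)) :
    ∀ k ∈ K, (χ : G → ℂ) k = (χ : G → ℂ) 1 := by
  classical
  haveI := Fintype.ofFinite G
  haveI := Fintype.ofFinite K
  haveI := Fintype.ofFinite (Cfsg.IrrCharacter K)
  -- the only invariant class
  have hcls : ∀ c : {c : ConjClasses K // ∀ s ∈ P, ∀ g g' : K, (g' : G) = s * g * s⁻¹ →
      ConjClasses.mk g = c → ConjClasses.mk g' = c}, c.1 = ConjClasses.mk 1 := by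
    rintro ⟨c, hc⟩
    have hmem : ∀ (u : P) (k : K), k ∈ c.carrier → MulAut.conjNormal (u : G) k ∈ c.carrier := by
      intro u k hk
      rw [ConjClasses.mem_carrier_iff_mk_eq] at hk ⊢
      exact hc u u.2 k _ (by simp [MulAut.conjNormal_apply]) hk
    letI : MulAction P c.carrier :=
      { smul := fun u k => ⟨MulAut.conjNormal (u : G) k.1, hmem u k.1 k.2⟩
        one_smul := fun k => Subtype.ext (by
          show MulAut.conjNormal ((1 : P) : G) k.1 = k.1
          simp)
        mul_smul := fun u v k => Subtype.ext (by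
          show MulAut.conjNormal ((u * v : P) : G) k.1 =
            MulAut.conjNormal (u : G) (MulAut.conjNormal (v : G) k.1)
          simp) }
    obtain ⟨a, ha⟩ := ConjClasses.exists_rep c
    have hdvd : Nat.card c.carrier ∣ Nat.card K := by
      subst ha
      exact ⟨_, (Characters.card_carrier_mul_card_centralizer a).symm⟩
    obtain ⟨k, hk⟩ := hP.nonempty_fixed_point_of_prime_not_dvd_card c.carrier
      fun h => hK (h.trans hdvd)
    have h1 : (k.1 : G) = 1 := hC _ k.1.2 fun u hu => by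
      have := congrArg (fun z : c.carrier => ((z.1 : K) : G)) (hk ⟨u, hu⟩)
      exact (MulAut.conjNormal_apply u k.1).symm.trans this
    exact (ConjClasses.mem_carrier_iff_mk_eq.1 k.2).symm.trans
      (congrArg ConjClasses.mk (Subtype.ext h1))
  haveI : Fact (Nat.Prime 2) := ⟨Nat.prime_two⟩
  haveI : Group.IsNilpotent P := hP.isNilpotent
  have hcnt := S4445.result K P (fun s _ g hg => ‹K.Normal›.conj_mem g hg s)
    (by
      obtain ⟨n, hn⟩ := hP.exists_card_eq
      rw [hn]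
      exact ((Nat.prime_two.coprime_iff_not_dvd.2 hK).symm).pow_right n)
    inferInstance
  haveI hsub : Subsingleton {ψ : Cfsg.IrrCharacter K // ∀ s ∈ P, ∀ g g' : K,
      (g' : G) = s * g * s⁻¹ → (ψ : K → ℂ) g' = (ψ : K → ℂ) g} := by
    rw [← Finite.card_le_one_iff_subsingleton, hcnt, Finite.card_le_one_iff_subsingleton]
    exact ⟨fun a b => Subtype.ext ((hcls a).trans (hcls b).symm)⟩
  -- the action on characters
  letI : MulAction P (Cfsg.IrrCharacter K) :=
    { smul := fun u θ => ⟨conjFun K θ.1 ((u⁻¹ : P) : G), isIrrCharacter_conjFun K θ.2 _⟩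
      one_smul := fun θ => Subtype.ext (funext fun n => by
        show conjFun K θ.1 (((1 : P)⁻¹ : P) : G) n = _
        simp [conjFun])
      mul_smul := fun u v θ => Subtype.ext (funext fun n => by
        show conjFun K θ.1 (((u * v)⁻¹ : P) : G) n =
          conjFun K (conjFun K θ.1 ((v⁻¹ : P) : G)) ((u⁻¹ : P) : G) n
        simp [conjFun, mul_assoc]) }
  set R : K → ℂ := fun n => (χ : G → ℂ) n with hR
  have hRc : Cfsg.IsCharacter K R := isCharacter_restrict K (irr_isCharacter χ)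
  have hfix : ∀ θ : Cfsg.IrrCharacter K, (∀ u : P, u • θ = θ) → θ = trivIrr K := by
    intro θ hθ
    have key : ∀ s ∈ P, ∀ g g' : K, (g' : G) = s * g * s⁻¹ →
        (θ : K → ℂ) g' = (θ : K → ℂ) g := by
      intro s hs g g' he
      have h2 := congrFun (congrArg Subtype.val (hθ ⟨s⁻¹, P.inv_mem hs⟩)) g
      change conjFun K θ.1 (((⟨s⁻¹, P.inv_mem hs⟩ : P)⁻¹ : P) : G) g = _ at h2
      rw [← h2]
      show (θ : K → ℂ) g' = (θ : K → ℂ) ⟨_, _⟩
      refine congrArg (θ : K → ℂ) (Subtype.ext (he.trans ?_))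
      simp
    exact congrArg Subtype.val
      (hsub.elim ⟨θ, key⟩ ⟨trivIrr K, fun _ _ _ _ _ => rfl⟩)
  choose n hn using fun θ : Cfsg.IrrCharacter K =>
    classInner_char_nat hRc (irr_isCharacter θ)
  let f : Cfsg.IrrCharacter K → ℕ := fun θ => n θ * Cfsg.charDegree (θ : K → ℂ)
  have hsum : ((∑ θ, f θ : ℕ) : ℂ) = (χ : G → ℂ) 1 := by
    have h := congrFun (classFun_eq_sum (char_isClassFunction hRc)) 1
    simp only [Finset.sum_apply, Pi.smul_apply, smul_eq_mul, hn] at h
    simp only [hR] at h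
    rw [Nat.cast_sum, ← Subgroup.coe_one K, h]
    refine Finset.sum_congr rfl fun θ _ => ?_
    rw [Nat.cast_mul, Blocks.charDegree_cast]
  have hne : n (trivIrr K) ≠ 0 := by
    intro h0
    obtain ⟨a, ha⟩ := Blocks.exists_sum_eq_fixed_add hP (fun θ => (f θ : ℤ)) (fun u θ => by
      have h1 : n (u • θ) = n θ := by
        have := hn (u • θ)
        rw [show ((u • θ : Cfsg.IrrCharacter K) : K → ℂ) = conjFun K θ.1 ((u⁻¹ : P) : G) from rfl,
          classInner_conjFun K (irr_isClassFunction χ), hn θ] at this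
        exact_mod_cast this.symm
      have h2 : Cfsg.charDegree ((u • θ : Cfsg.IrrCharacter K) : K → ℂ) =
          Cfsg.charDegree (θ : K → ℂ) := by
        show ⌊(conjFun K θ.1 ((u⁻¹ : P) : G) 1).re⌋₊ = ⌊((θ : K → ℂ) 1).re⌋₊
        simp [conjFun]
        rfl
      simp only [f, h1, h2]) (Finset.univ.filter fun θ => ∀ u : P, u • θ = θ) (fun θ => by simp)
    have h3 : ∑ θ ∈ Finset.univ.filter (fun θ : Cfsg.IrrCharacter K => ∀ u : P, u • θ = θ),
        (f θ : ℤ) = 0 := Finset.sum_eq_zero fun θ hθ => by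
      simp only [f, hfix θ (Finset.mem_filter.1 hθ).2, h0, zero_mul, Nat.cast_zero]
    rw [h3, zero_add, nsmul_eq_mul, ← Nat.cast_sum] at ha
    rw [deg_eq χ hsum.symm, ← Int.natCast_dvd_natCast, ha] at hodd
    exact hodd (dvd_mul_right _ a)
  intro k hk
  have hall : ∀ θ : Cfsg.IrrCharacter K, n θ ≠ 0 → θ = trivIrr K := by
    intro θ hθ
    obtain ⟨g, hg⟩ := exists_conjugate_of_constituents K χ.2 (trivIrr K).2 θ.2
      (by rw [hn]; exact_mod_cast hne) (by rw [hn]; exact_mod_cast hθ)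
    exact Subtype.ext hg
  have h := classFun_eq_sum (char_isClassFunction hRc)
  rw [Finset.sum_eq_single (trivIrr K) (fun θ _ hθ => by
    rw [hn, not_not.1 (fun h => hθ (hall θ h)), Nat.cast_zero, zero_smul]) (by simp)] at h
  have h1 := congrFun h ⟨k, hk⟩
  have h2 := congrFun h 1
  simp only [hR, Pi.smul_apply, trivIrr_coe, Subgroup.coe_one] at h1 h2
  rw [h1, h2]

/-- Odd degree characters are trivial on the derived group of a normal 2-subgroup. -/
theorem trivial_on_derived {H : Type u} [Group H] [Finite H] (Q : Subgroup H) [Q.Normal]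
    (hQ : IsPGroup 2 Q) (θ : Cfsg.IrrCharacter H) (hodd : ¬ 2 ∣ Cfsg.charDegree (θ : H → ℂ)) :
    ∀ x ∈ ⁅Q, Q⁆, (θ : H → ℂ) x = (θ : H → ℂ) 1 := by
  classical
  haveI := Fintype.ofFinite H
  haveI := Fintype.ofFinite Q
  haveI := Fintype.ofFinite (Cfsg.IrrCharacter Q)
  set R : Q → ℂ := fun n => (θ : H → ℂ) n with hR
  have hRc : Cfsg.IsCharacter Q R := isCharacter_restrict Q (irr_isCharacter θ)
  choose n hn using fun ξ : Cfsg.IrrCharacter Q => classInner_char_nat hRc (irr_isCharacter ξ)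
  have h := classFun_eq_sum (char_isClassFunction hRc)
  simp only [hn] at h
  have hsum : ((∑ ξ : Cfsg.IrrCharacter Q, n ξ * Cfsg.charDegree (ξ : Q → ℂ) : ℕ) : ℂ) =
      (θ : H → ℂ) 1 := by
    have h1 := congrFun h 1
    simp only [Finset.sum_apply, Pi.smul_apply, smul_eq_mul, hR] at h1
    rw [Nat.cast_sum, ← Subgroup.coe_one Q, h1]
    refine Finset.sum_congr rfl fun θ _ => ?_
    rw [Nat.cast_mul, Blocks.charDegree_cast]
  rw [deg_eq θ hsum.symm] at hodd
  obtain ⟨ξ, -, hξ⟩ : ∃ ξ ∈ Finset.univ, ¬ 2 ∣ n ξ * Cfsg.charDegree (ξ : Q → ℂ) := by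
    by_contra hh
    push Not at hh
    exact hodd (Finset.dvd_sum hh)
  have hξ1 : (ξ : Q → ℂ) 1 = 1 := by
    haveI : Fact (Nat.Prime 2) := ⟨Nat.prime_two⟩
    obtain ⟨a, ha⟩ := hQ.exists_card_eq
    obtain ⟨b, -, hb⟩ := (Nat.dvd_prime_pow Nat.prime_two).1
      (ha ▸ Blocks.char_degree_dvd_card ξ)
    have : Cfsg.charDegree (ξ : Q → ℂ) = 1 := by
      rcases Nat.eq_zero_or_pos b with rfl | hb0
      · simpa using hb
      · exact absurd (Dvd.dvd.mul_left (hb ▸ dvd_pow_self 2 hb0.ne') _) hξ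
    rw [← Blocks.charDegree_cast ξ, this, Nat.cast_one]
  intro x hx
  have hxQ : x ∈ Q := Subgroup.commutator_le_self Q hx
  have hxc : (⟨x, hxQ⟩ : Q) ∈ commutator Q := by
    rw [← Subgroup.map_subtype_commutator] at hx
    obtain ⟨y, hy, rfl⟩ := hx
    exact hy
  have hall : ∀ η : Cfsg.IrrCharacter Q, n η ≠ 0 →
      (η : Q → ℂ) ⟨x, hxQ⟩ = (η : Q → ℂ) 1 := by
    intro η hη
    obtain ⟨g, hg⟩ := exists_conjugate_of_constituents Q θ.2 ξ.2 η.2
      (by rw [hn]; exact_mod_cast fun h0 => hξ (by simp [h0])) (by rw [hn]; exact_mod_cast hη)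
    have h1 : (η : Q → ℂ) 1 = 1 := by
      rw [hg]
      refine (congrArg (ξ : Q → ℂ) (Subtype.ext ?_)).trans hξ1
      simp
    have hk : (⟨x, hxQ⟩ : Q) ∈ (linearOfDegreeOne (irr_isCharacter η) h1).ker :=
      Abelianization.commutator_subset_ker _ hxc
    rw [h1, ← linearOfDegreeOne_apply (irr_isCharacter η) h1, MonoidHom.mem_ker.1 hk]
    rfl
  have e1 := congrFun h ⟨x, hxQ⟩
  have e2 := congrFun h 1
  simp only [Finset.sum_apply, Pi.smul_apply, smul_eq_mul, hR, Subgroup.coe_one] at e1 e2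
  rw [e1, e2]
  refine Finset.sum_congr rfl fun η _ => ?_
  by_cases h0 : n η = 0
  · simp [h0]
  · rw [hall η h0]

/-- With a normal 2-subgroup of odd index the odd degrees come from the quotient by its
derived group. -/
theorem card_eq_mul_oddSq {H : Type u} [Group H] [Finite H] (Q : Subgroup H) [Q.Normal]
    (hQ : IsPGroup 2 Q) (hQi : ¬ 2 ∣ Q.index) :
    Nat.card H = Nat.card (⁅Q, Q⁆ : Subgroup H) * oddSq H := by
  classical
  haveI := Fintype.ofFinite H
  set D : Subgroup H := ⁅Q, Q⁆ with hD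
  haveI hDn : D.Normal := Subgroup.commutator_normal Q Q
  haveI := Fintype.ofFinite (Cfsg.IrrCharacter (H ⧸ D))
  haveI := Fintype.ofFinite (OddChar H)
  set A := Q.map (QuotientGroup.mk' D) with hA
  haveI : A.Normal := ‹Q.Normal›.map _ (QuotientGroup.mk'_surjective D)
  have hab : ∀ a ∈ A, ∀ b ∈ A, a * b = b * a := by
    rintro _ ⟨a, ha, rfl⟩ _ ⟨b, hb, rfl⟩
    rw [← commutatorElement_eq_one_iff_mul_comm, ← map_commutatorElement]
    exact (QuotientGroup.eq_one_iff _).2 (Subgroup.commutator_mem_commutator ha hb)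
  have hinfl : ∀ ψ : Cfsg.IrrCharacter (H ⧸ D),
      Cfsg.IsIrrCharacter H (fun h => (ψ : H ⧸ D → ℂ) (QuotientGroup.mk' D h)) := fun ψ =>
    isIrrCharacter_comp_surjective _ (QuotientGroup.mk'_surjective D) ψ.2
  have hdeg : ∀ ψ : Cfsg.IrrCharacter (H ⧸ D),
      Cfsg.charDegree (fun h => (ψ : H ⧸ D → ℂ) (QuotientGroup.mk' D h)) =
        Cfsg.charDegree (ψ : H ⧸ D → ℂ) := fun ψ => by
    simp only [Cfsg.charDegree, map_one]
  have hodd : ∀ ψ : Cfsg.IrrCharacter (H ⧸ D), ¬ 2 ∣ Cfsg.charDegree (ψ : H ⧸ D → ℂ) := by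
    intro ψ h2
    obtain ⟨d, hd, hdvd⟩ := CharTheory.Ito.degree_dvd_index_abelian A hab ψ.2
    rw [deg_eq ψ hd] at h2
    have hA' : A.index = Q.index := by
      rw [hA, Subgroup.index_map, QuotientGroup.ker_mk',
        sup_eq_left.2 (Subgroup.commutator_le_self Q),
        MonoidHom.range_eq_top.2 (QuotientGroup.mk'_surjective D), Subgroup.index_top, mul_one]
    exact hQi (hA' ▸ h2.trans hdvd)
  let F : Cfsg.IrrCharacter (H ⧸ D) → OddChar H := fun ψ =>
    ⟨⟨_, hinfl ψ⟩, by rw [hdeg]; exact hodd ψ⟩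
  have hF : Function.Bijective F := by
    constructor
    · intro a b hab'
      refine Subtype.ext (funext fun q => ?_)
      obtain ⟨h, rfl⟩ := QuotientGroup.mk'_surjective D q
      exact congrFun (congrArg (fun z : OddChar H => (z.1 : H → ℂ)) hab') h
    · intro θ
      obtain ⟨ψ, -, he, hψ⟩ := exists_deflate_quotient D (irr_isCharacter θ.1)
        (trivial_on_derived Q hQ θ.1 θ.2)
      exact ⟨⟨ψ, hψ θ.1.2⟩, Subtype.ext (Subtype.ext (funext fun h => he h))⟩
  have hsum : oddSq H = Nat.card (H ⧸ D) := by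
    rw [oddSq, finsum_eq_sum_of_fintype, ← hF.sum_comp]
    have := sum_degree_sq (G := H ⧸ D)
    simp only [← Blocks.charDegree_cast, ← Nat.cast_pow, ← Nat.cast_sum, Nat.cast_inj] at this
    refine (Finset.sum_congr rfl fun ψ _ => ?_).trans this
    rw [← hdeg ψ]
  rw [hsum, ← Subgroup.index_eq_card, Subgroup.card_mul_index]

theorem card_fibre_le_one {ι : Type*} [DecidableEq ι] {s : Finset ι} {d : ι → ℕ}
    (hd : ∀ i ∈ s, 0 < d i) (he : ∑ i ∈ s, d i ^ 2 = (∑ i ∈ s, d i) ^ 2) {i : ι} (hi : i ∈ s) :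
    d i = ∑ j ∈ s, d j := by
  have h1 : ∑ j ∈ s, d j ^ 2 = ∑ j ∈ s, d j * ∑ k ∈ s, d k := by
    rw [he, ← Finset.sum_mul, sq]
  have h2 : ∀ j ∈ s, d j ^ 2 ≤ d j * ∑ k ∈ s, d k := fun j hj => by
    rw [sq]
    exact Nat.mul_le_mul_left _ (Finset.single_le_sum (fun k _ => Nat.zero_le (d k)) hj)
  have h3 := (Finset.sum_eq_sum_iff_of_le h2).1 h1 i hi
  rw [sq] at h3
  exact Nat.eq_of_mul_eq_mul_left (hd i hi) h3

/-- Odd index: the sum of squares does not decrease, and is equal only if everything extends. -/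
theorem oddSq_le {G : Type u} [Group G] [Finite G] (H : Subgroup G) (hH : ¬ 2 ∣ H.index) :
    oddSq H ≤ oddSq G ∧ (oddSq H = oddSq G → ∀ θ : OddChar H, ∃ χ : Cfsg.IrrCharacter G,
      ∀ x : H, (χ : G → ℂ) x = (θ.1 : H → ℂ) x) := by
  classical
  haveI := Fintype.ofFinite G
  haveI := Fintype.ofFinite H
  haveI := Fintype.ofFinite (Cfsg.IrrCharacter G)
  haveI := Fintype.ofFinite (Cfsg.IrrCharacter H)
  haveI := Fintype.ofFinite (OddChar G)
  haveI := Fintype.ofFinite (OddChar H)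
  have hex : ∀ θ : OddChar H, ∃ χ : OddChar G,
      Cfsg.classInner (fun h : H => (χ.1 : G → ℂ) h) (θ.1 : H → ℂ) ≠ 0 := by
    intro θ
    set I := Cfsg.indFun H (θ.1 : H → ℂ) with hI
    have hIc : Cfsg.IsCharacter G I := isCharacter_indFun H (irr_isCharacter θ.1)
    choose m hm using fun χ : Cfsg.IrrCharacter G =>
      classInner_char_nat hIc (irr_isCharacter χ)
    have h := congrFun (classFun_eq_sum (char_isClassFunction hIc)) 1
    simp only [Finset.sum_apply, Pi.smul_apply, smul_eq_mul, hm] at h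
    rw [hI, indFun_one, ← Blocks.charDegree_cast] at h
    simp only [← Blocks.charDegree_cast, ← Nat.cast_mul, ← Nat.cast_sum, Nat.cast_inj] at h
    obtain ⟨χ, -, hχ⟩ : ∃ χ ∈ Finset.univ, ¬ 2 ∣ m χ * Cfsg.charDegree (χ : G → ℂ) := by
      by_contra hh
      push Not at hh
      have := Finset.dvd_sum hh
      rw [← h] at this
      exact (Nat.prime_two.dvd_mul.1 this).elim hH θ.2
    refine ⟨⟨χ, fun h2 => hχ (h2.mul_left _)⟩, fun h0 => hχ ?_⟩
    have := frobenius_reciprocity H (θ.1 : H → ℂ) (irr_isClassFunction χ)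
    rw [hm χ, classInner_conj_symm (fun h : H => (χ : G → ℂ) h), h0, map_zero,
      Nat.cast_eq_zero] at this
    simp [this]
  choose f hf using hex
  let d : OddChar H → ℕ := fun θ => Cfsg.charDegree (θ.1 : H → ℂ)
  let e : OddChar G → ℕ := fun χ => Cfsg.charDegree (χ.1 : G → ℂ)
  choose n hn using fun (χ : OddChar G) (θ : Cfsg.IrrCharacter H) => classInner_char_nat
    (isCharacter_restrict H (irr_isCharacter χ.1)) (irr_isCharacter θ)
  have hdec : ∀ χ : OddChar G, (fun h : H => (χ.1 : G → ℂ) h) =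
      ∑ θ, (n χ θ : ℂ) • (θ : H → ℂ) := fun χ => by
    simp only [← hn]
    exact classFun_eq_sum (char_isClassFunction (isCharacter_restrict H (irr_isCharacter χ.1)))
  have hdd : ∀ χ : OddChar G, e χ = ∑ θ, n χ θ * Cfsg.charDegree (θ : H → ℂ) := fun χ => by
    have h := congrFun (hdec χ) 1
    simp only [Finset.sum_apply, Pi.smul_apply, smul_eq_mul, ← Blocks.charDegree_cast,
      Subgroup.coe_one, ← Nat.cast_mul, ← Nat.cast_sum, Nat.cast_inj] at h
    exact h
  have hfib : ∀ χ : OddChar G, ∑ θ ∈ Finset.univ.filter (fun θ => f θ = χ), d θ ≤ e χ := by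
    intro χ
    rw [hdd χ]
    calc ∑ θ ∈ Finset.univ.filter (fun θ => f θ = χ), d θ
        ≤ ∑ θ ∈ Finset.univ.filter (fun θ => f θ = χ), n χ θ.1 * d θ := by
          refine Finset.sum_le_sum fun θ hθ => Nat.le_mul_of_pos_left _ (Nat.pos_of_ne_zero ?_)
          intro h0
          refine hf θ ?_
          rw [(Finset.mem_filter.1 hθ).2, hn, h0, Nat.cast_zero]
      _ = ∑ θ ∈ (Finset.univ.filter (fun θ => f θ = χ)).image Subtype.val,
            n χ θ * Cfsg.charDegree (θ : H → ℂ) :=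
          (Finset.sum_image (f := fun θ => n χ θ * Cfsg.charDegree (θ : H → ℂ))
            Subtype.val_injective.injOn).symm
      _ ≤ _ := Finset.sum_le_sum_of_subset (Finset.subset_univ _)
  have hsq : ∀ χ : OddChar G,
      ∑ θ ∈ Finset.univ.filter (fun θ => f θ = χ), d θ ^ 2 ≤ e χ ^ 2 := fun χ =>
    (Finset.sum_sq_le_sq_sum_of_nonneg (f := d) fun _ _ => Nat.zero_le _).trans (Nat.pow_le_pow_left (hfib χ) 2)
  have hH' : oddSq H = ∑ χ, ∑ θ ∈ Finset.univ.filter (fun θ => f θ = χ), d θ ^ 2 := by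
    rw [oddSq, finsum_eq_sum_of_fintype, Finset.sum_fiberwise Finset.univ f (fun θ => d θ ^ 2)]
  have hG' : oddSq G = ∑ χ, e χ ^ 2 := by rw [oddSq, finsum_eq_sum_of_fintype]
  refine ⟨by rw [hH', hG']; exact Finset.sum_le_sum fun χ _ => hsq χ, fun heq θ => ?_⟩
  rw [hH', hG', Finset.sum_eq_sum_iff_of_le fun χ _ => hsq χ] at heq
  set χ := f θ with hχ
  have h1 := heq χ (Finset.mem_univ _)
  set s := Finset.univ.filter (fun η => f η = χ) with hs
  have h2 : (∑ η ∈ s, d η) ^ 2 = e χ ^ 2 :=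
    le_antisymm (Nat.pow_le_pow_left (hfib χ) 2)
      (h1 ▸ Finset.sum_sq_le_sq_sum_of_nonneg (f := d) fun _ _ => Nat.zero_le _)
  have h3 : d θ = e χ := by
    rw [card_fibre_le_one (fun i _ => Blocks.charDegree_pos i.1) (h1.trans h2.symm)
      (show θ ∈ s by simp [hs, hχ])]
    exact Nat.pow_left_injective two_ne_zero h2
  rw [hdd χ] at h3
  have hpos : 1 ≤ n χ θ.1 := Nat.pos_of_ne_zero fun h0 => hf θ (by rw [← hχ, hn, h0, Nat.cast_zero])
  have hsplit := Finset.add_sum_erase Finset.univ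
    (fun η : Cfsg.IrrCharacter H => n χ η * Cfsg.charDegree (η : H → ℂ)) (Finset.mem_univ θ.1)
  have hmul : d θ ≤ n χ θ.1 * d θ := Nat.le_mul_of_pos_left _ hpos
  simp only [d] at h3 hmul
  have hone : n χ θ.1 = 1 :=
    Nat.eq_of_mul_eq_mul_right (Blocks.charDegree_pos θ.1) (by omega)
  have hrest : ∀ η : Cfsg.IrrCharacter H, η ≠ θ.1 → n χ η = 0 := by
    intro η hη
    rw [hone, one_mul] at hsplit
    have : n χ η * Cfsg.charDegree (η : H → ℂ) = 0 :=
      Finset.sum_eq_zero_iff.1 (show ∑ x ∈ Finset.univ.erase θ.1,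
        n χ x * Cfsg.charDegree (x : H → ℂ) = 0 by omega) η
        (Finset.mem_erase.2 ⟨hη, Finset.mem_univ _⟩)
    exact (Nat.mul_eq_zero.1 this).resolve_right (Blocks.charDegree_pos η).ne'
  refine ⟨χ.1, fun x => ?_⟩
  have h := congrFun (hdec χ) x
  rw [Finset.sum_eq_single θ.1 (fun η _ hη => by rw [hrest η hη, Nat.cast_zero, zero_smul])
    (by simp), hone, Nat.cast_one, one_smul] at h
  exact h

/-- A complement acted on without fixed points adds no odd degree characters. -/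
theorem oddSq_ge {G : Type u} [Group G] [Finite G] (N K : Subgroup G) [K.Normal]
    (hsup : K ⊔ N = ⊤) (hinf : K ⊓ N = ⊥)
    (hker : ∀ χ : OddChar G, ∀ k ∈ K, (χ.1 : G → ℂ) k = (χ.1 : G → ℂ) 1) :
    oddSq G ≤ oddSq N := by
  classical
  haveI := Fintype.ofFinite (OddChar G)
  haveI := Fintype.ofFinite (OddChar N)
  let f : ↥N →* G ⧸ K := (QuotientGroup.mk' K).comp N.subtype
  have hinj : Function.Injective f := by
    rw [← MonoidHom.ker_eq_bot_iff, eq_bot_iff]
    intro x hx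
    have : (x : G) ∈ K ⊓ N := ⟨(QuotientGroup.eq_one_iff _).1 hx, x.2⟩
    rw [hinf, Subgroup.mem_bot] at this
    exact Subtype.ext this
  have hsurj : Function.Surjective f := by
    intro z
    obtain ⟨g, rfl⟩ := QuotientGroup.mk'_surjective K z
    obtain ⟨k, hk, n, hn, rfl⟩ := Subgroup.mem_sup_of_normal_left.1 (hsup ▸ Subgroup.mem_top g)
    exact ⟨⟨n, hn⟩, by simp [f, (QuotientGroup.eq_one_iff k).2 hk]⟩
  have hres : ∀ χ : OddChar G, Cfsg.IsIrrCharacter N (fun x : N => (χ.1 : G → ℂ) x) := fun χ => by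
    obtain ⟨ψ, -, he, hψ⟩ := exists_deflate_quotient K (irr_isCharacter χ.1) (hker χ)
    have h := isIrrCharacter_comp_surjective f hsurj (hψ χ.1.2)
    have he' : (fun x : N => ψ (f x)) = fun x : N => (χ.1 : G → ℂ) x := funext fun x => he x
    exact he' ▸ h
  let F : OddChar G → OddChar N := fun χ => ⟨⟨_, hres χ⟩, χ.2⟩
  have hF : Function.Injective F := by
    intro a b hab
    refine Subtype.ext (Subtype.ext (funext fun g => ?_))
    obtain ⟨k, hk, n, hn, rfl⟩ := Subgroup.mem_sup_of_normal_left.1 (hsup ▸ Subgroup.mem_top g)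
    rw [char_mul_of_eq_one (irr_isCharacter a.1) (hker a k hk),
      char_mul_of_eq_one (irr_isCharacter b.1) (hker b k hk)]
    exact congrFun (congrArg (fun z : OddChar N => (z.1 : N → ℂ)) hab) ⟨n, hn⟩
  rw [oddSq, oddSq, finsum_eq_sum_of_fintype, finsum_eq_sum_of_fintype]
  calc ∑ χ : OddChar G, Cfsg.charDegree (χ.1 : G → ℂ) ^ 2
      = ∑ θ ∈ Finset.univ.image F, Cfsg.charDegree (θ.1 : N → ℂ) ^ 2 := by
        rw [Finset.sum_image hF.injOn]
        rfl
    _ ≤ _ := Finset.sum_le_sum_of_subset (Finset.subset_univ _)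

/-- Let G be a finite group, P a Sylow 2-subgroup of G with normalizer N, and P′ the commutator subgroup of P. Then the sum of the squares of the degrees of the irreducible complex characters of G of odd degree is at least the index of P′ in N (the order of N divided by the order of P′), and equality holds if and only if N has a normal complement in G: a normal subgroup K of G with K ∩ N = 1 and KN = G. -/
theorem result {G : Type*} [Group G] [Finite G] (P : Sylow 2 G) :
    Nat.card (Subgroup.normalizer ((P : Subgroup G) : Set G)) ≤ Nat.card (commutator ↥P) * (∑ᶠ χ : {χ : Cfsg.IrrCharacter G // ¬ 2 ∣ Cfsg.charDegree (χ : G → ℂ)}, Cfsg.charDegree (χ.1 : G → ℂ) ^ 2) ∧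
    (Nat.card (Subgroup.normalizer ((P : Subgroup G) : Set G)) = Nat.card (commutator ↥P) * (∑ᶠ χ : {χ : Cfsg.IrrCharacter G // ¬ 2 ∣ Cfsg.charDegree (χ : G → ℂ)}, Cfsg.charDegree (χ.1 : G → ℂ) ^ 2) ↔
      ∃ K : Subgroup G, K.Normal ∧ K ⊓ Subgroup.normalizer ((P : Subgroup G) : Set G) = ⊥ ∧ K ⊔ Subgroup.normalizer ((P : Subgroup G) : Set G) = ⊤) := by
  classical
  haveI : Fact (Nat.Prime 2) := ⟨Nat.prime_two⟩
  set N := Subgroup.normalizer ((P : Subgroup G) : Set G) with hNdef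
  have hPN : (P : Subgroup G) ≤ N := Subgroup.le_normalizer
  set Q := (P : Subgroup G).subgroupOf N with hQdef
  haveI : Q.Normal := Subgroup.normal_in_normalizer
  have hmap : Q.map N.subtype = (P : Subgroup G) := Subgroup.map_subgroupOf_eq_of_le hPN
  have hQp : IsPGroup 2 Q := P.2.comap_of_injective _ N.subtype_injective
  have hNi : ¬ 2 ∣ N.index := fun h =>
    P.not_dvd_index (h.trans (Subgroup.index_dvd_of_le hPN))
  have hQi : ¬ 2 ∣ Q.index := fun h =>
    P.not_dvd_index (h.trans (Subgroup.relIndex_dvd_index_of_le hPN))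
  have hD : Nat.card (⁅Q, Q⁆ : Subgroup N) = Nat.card (commutator ↥P) := by
    rw [← Subgroup.card_map_of_injective (K := (⁅Q, Q⁆ : Subgroup N)) N.subtype_injective,
      Subgroup.map_commutator, hmap, ← Subgroup.map_subtype_commutator,
      Subgroup.card_map_of_injective (Subgroup.subtype_injective _)]
    rfl
  have hcard : Nat.card N = Nat.card (commutator ↥P) * oddSq N :=
    hD ▸ card_eq_mul_oddSq Q hQp hQi
  obtain ⟨hle, hext⟩ := oddSq_le N hNi
  change _ ≤ _ * oddSq G ∧ (_ = _ * oddSq G ↔ _)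
  refine ⟨hcard ▸ Nat.mul_le_mul_left _ hle, ⟨fun h => ?_, ?_⟩⟩
  · rw [hcard] at h
    have heq := Nat.eq_of_mul_eq_mul_left Nat.card_pos h
    obtain ⟨K, hK, hs, hi⟩ := (S4931.result 2 P).1 fun θ hθ => hext heq ⟨θ, hθ⟩
    exact ⟨K, hK, hi, hs⟩
  · rintro ⟨K, hK, hinf, hsup⟩
    haveI := hK
    rw [hcard, le_antisymm hle (oddSq_ge N K hsup hinf fun χ =>
      le_ker_of_odd (P : Subgroup G) K P.2 ?_ ?_ χ.1 χ.2)]
    · intro h2
      have hc : K.IsComplement' N :=
        Subgroup.isComplement'_of_disjoint_and_mul_eq_univ (disjoint_iff.2 hinf)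
          (by rw [← Subgroup.normal_mul, hsup, Subgroup.coe_top])
      exact hNi (hc.index_eq_card ▸ h2)
    · intro k hk hfix
      have hkN : k ∈ N := by
        rw [hNdef, Subgroup.mem_normalizer_iff]
        have hc : ∀ u ∈ (P : Subgroup G), k * u * k⁻¹ = u := fun u hu => by
          have h := hfix u hu
          calc k * u * k⁻¹ = (u * k * u⁻¹) * u * k⁻¹ := by rw [h]
            _ = u := by group
        refine fun x => ⟨fun hx => ?_, fun hx => ?_⟩
        · show k * x * k⁻¹ ∈ (P : Subgroup G)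
          rw [hc x hx]; exact hx
        · show x ∈ (P : Subgroup G)
          have h := hc _ hx
          have h' : k * x * k⁻¹ = x := by
            calc k * x * k⁻¹ = k⁻¹ * (k * (k * x * k⁻¹) * k⁻¹) * k := by group
              _ = k⁻¹ * (k * x * k⁻¹) * k := by rw [h]
              _ = x := by group
          rwa [← h']
      exact (Subgroup.eq_bot_iff_forall _).1 hinf k ⟨hk, hkN⟩

end Cfsg.Agent.S4930
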