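import Cfsg.Statements.S4955
import Cfsg.Agent.Lib.CharTheory.KGV.Values
set_option linter.style.haveILetI false

set_option autoImplicit false
open Cfsg

namespace Cfsg.Agent.S4955

/-- Let X be a finite group with an abelian normal Sylow p-subgroup V (a normal p-subgroup of index prime to p in which any two elements commute), and let G be a complement to V in X. Then for every v in V, writing C for the centralizer of v in G, the number k(X) of conjugacy classes of X satisfies k(X) ≤ (order of C)·(order of V) − ((order of G) − k(G)); the statement is written with the subtracted term moved to the left. In particular, if some v in V is centralized by no nonidentity element of G, then k(X) is at most the order of V. -/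
theorem result {X : Type*} [Group X] [Finite X] (p : ℕ) [Fact p.Prime] (V : Subgroup X) [V.Normal] (hVp : IsPGroup p V) (hidx : ¬ p ∣ V.index) (hab : ∀ a ∈ V, ∀ b ∈ V, a * b = b * a) (G : Subgroup X) (hGV : Subgroup.IsComplement' V G) (v : X) (hv : v ∈ V) : Nat.card (ConjClasses X) + Nat.card G ≤ Nat.card ↥(G ⊓ Subgroup.centralizer ({v} : Set X)) * Nat.card V + Nat.card (ConjClasses G) := by
  classical
  haveI := Fintype.ofFinite X
  haveI := Fintype.ofFinite (Cfsg.IrrCharacter X)
  haveI := Fintype.ofFinite (Cfsg.IrrCharacter (X ⧸ V))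
  set N := Nat.card X with hN
  have hN0 : 0 < N := Nat.card_pos
  set ζ := Complex.exp (2 * Real.pi * Complex.I / N)
  have hζ : IsPrimitiveRoot ζ N := Complex.isPrimitiveRoot_exp N hN0.ne'
  -- the characters with `V` in the kernel
  let infl : Cfsg.IrrCharacter (X ⧸ V) → Cfsg.IrrCharacter X := fun ψ =>
    ⟨_, Characters.isIrrCharacter_comp_surjective (QuotientGroup.mk' V)
      (QuotientGroup.mk'_surjective V) ψ.2⟩
  have hinfl : Function.Injective infl := fun ψ ψ' e => Subtype.ext (funext fun z => by
    obtain ⟨x, rfl⟩ := QuotientGroup.mk'_surjective V z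
    exact congrFun (congrArg Subtype.val e) x)
  set S := Finset.univ.image infl with hS
  let e : ↥G ≃* X ⧸ V := MulEquiv.ofBijective ((QuotientGroup.mk' V).comp G.subtype) (by
    constructor
    · rw [← MonoidHom.ker_eq_bot_iff, eq_bot_iff]
      intro x hx
      refine Subtype.ext ?_
      exact Subgroup.mem_bot.1 (hGV.disjoint.le_bot
        ⟨(QuotientGroup.eq_one_iff _).1 (MonoidHom.mem_ker.1 hx), x.2⟩)
    · intro z
      obtain ⟨x, rfl⟩ := QuotientGroup.mk'_surjective V z
      obtain ⟨w, hw, g, hg, rfl⟩ := Subgroup.mem_sup_of_normal_left.1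
        (hGV.sup_eq_top ▸ Subgroup.mem_top x)
      exact ⟨⟨g, hg⟩, by simp [(QuotientGroup.eq_one_iff w).2 hw]⟩)
  have hScard : S.card = Nat.card (ConjClasses G) := by
    rw [hS, Finset.card_image_of_injective _ hinfl, Finset.card_univ, ← Nat.card_eq_fintype_card,
      Characters.card_irrCharacter]
    refine (Nat.card_congr (Equiv.ofBijective (ConjClasses.map e.toMonoidHom) ⟨?_, ?_⟩)).symm
    · intro a b hab'
      obtain ⟨a, rfl⟩ := ConjClasses.exists_rep a
      obtain ⟨b, rfl⟩ := ConjClasses.exists_rep b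
      rw [ConjClasses.mk_eq_mk_iff_isConj]
      simpa using e.symm.toMonoidHom.map_isConj
        (ConjClasses.mk_eq_mk_iff_isConj.1 (show ConjClasses.mk (e a) = ConjClasses.mk (e b) from hab'))
    · exact ConjClasses.map_surjective e.surjective
  have hSsum : ∑ χ ∈ S, ‖(χ : X → ℂ) v‖ ^ 2 = (Nat.card G : ℝ) := by
    rw [hS, Finset.sum_image hinfl.injOn, Nat.card_congr e.toEquiv]
    have hv1 : ∀ ψ : Cfsg.IrrCharacter (X ⧸ V),
        (infl ψ : X → ℂ) v = (ψ : X ⧸ V → ℂ) 1 := fun ψ => by
      show (ψ : X ⧸ V → ℂ) (QuotientGroup.mk' V v) = _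
      rw [QuotientGroup.mk'_apply, (QuotientGroup.eq_one_iff v).2 hv]
    simp only [hv1]
    have h := Characters.second_orthogonality (1 : X ⧸ V) 1
    rw [if_pos (IsConj.refl _), show Subgroup.centralizer ({(1 : X ⧸ V)} : Set (X ⧸ V)) = ⊤ from by
      ext x; simp [Subgroup.mem_centralizer_singleton_iff], Subgroup.card_top] at h
    rw [← Complex.ofReal_inj, Complex.ofReal_natCast, ← h, Complex.ofReal_sum]
    exact Finset.sum_congr rfl fun ψ _ => by rw [Complex.ofReal_pow, Complex.mul_conj']
  have hall : ∑ χ : Cfsg.IrrCharacter X, ‖(χ : X → ℂ) v‖ ^ 2 =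
      (Nat.card (Subgroup.centralizer ({v} : Set X)) : ℝ) := by
    have h := Characters.second_orthogonality v v
    rw [if_pos (IsConj.refl _)] at h
    rw [← Complex.ofReal_inj, Complex.ofReal_natCast, ← h, Complex.ofReal_sum]
    exact Finset.sum_congr rfl fun ψ _ => by rw [Complex.ofReal_pow, Complex.mul_conj']
  have hle := CharTheory.KGV.sum_weight_le hN0 hζ (ι := {χ // χ ∈ Sᶜ}) (fun _ => (1 : ℚ))
    (fun _ => zero_le_one) (fun χ => (χ.1 : X → ℂ) v)
    (fun χ => CharTheory.KGV.cycInt_value hN0 hζ dvd_rfl χ.1 v)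
    (q := (Nat.card (Subgroup.centralizer ({v} : Set X)) : ℚ) - Nat.card G) (by
      simp only [Rat.cast_one, one_mul, Rat.cast_sub, Rat.cast_natCast]
      rw [Finset.sum_coe_sort Sᶜ (fun χ => ‖(χ : X → ℂ) v‖ ^ 2), ← hall, ← hSsum,
        ← Finset.sum_compl_add_sum S]
      ring)
  simp only [CharTheory.KGV.irr_ne_zero V hidx hab hVp _ hv, if_false, Finset.sum_const,
    Finset.card_univ, Fintype.card_coe, nsmul_one] at hle
  have hk : Sᶜ.card + Nat.card (ConjClasses G) = Nat.card (ConjClasses X) := by
    rw [← hScard, Finset.card_compl_add_card, ← Nat.card_eq_fintype_card,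
      Characters.card_irrCharacter]
  have hC : Nat.card (Subgroup.centralizer ({v} : Set X)) ≤
      Nat.card ↥(G ⊓ Subgroup.centralizer ({v} : Set X)) * Nat.card V := by
    rw [mul_comm, ← Nat.card_prod]
    have hd : ∀ x : ↥(Subgroup.centralizer ({v} : Set X)), ∃ wg : ↥V × ↥(G ⊓ Subgroup.centralizer ({v} : Set X)),
        (wg.1 : X) * wg.2 = x := by
      rintro ⟨x, hx⟩
      obtain ⟨w, hw, g, hg, rfl⟩ := Subgroup.mem_sup_of_normal_left.1
        (hGV.sup_eq_top ▸ Subgroup.mem_top x)
      refine ⟨(⟨w, hw⟩, ⟨g, hg, ?_⟩), rfl⟩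
      have : w ∈ Subgroup.centralizer ({v} : Set X) :=
        Subgroup.mem_centralizer_singleton_iff.2 (hab w hw v hv)
      simpa using mul_mem (inv_mem this) hx
    choose f hf using hd
    exact Nat.card_le_card_of_injective f fun a b e => Subtype.ext (by rw [← hf a, ← hf b, e])
  have h2 : ((Sᶜ.card + Nat.card G : ℕ) : ℚ) ≤
      ((Nat.card (Subgroup.centralizer ({v} : Set X)) : ℕ) : ℚ) := by
    push_cast; linarith
  have h3 := Nat.cast_le.1 h2
  omega

end Cfsg.Agent.S4955
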