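import Cfsg.Statements.S4957
import Cfsg.Agent.Lib.Perm.TransCoprime.Main
import Cfsg.Agent.S4956

set_option autoImplicit false
open Cfsg

namespace Cfsg.Agent.S4957

/-- Let X be a finite group and V a normal subgroup of X in which every element has order dividing the prime p, whose index in X is prime to p and which is its own centralizer in X; so V is an elementary abelian normal Sylow p-subgroup, and any complement G to V in X is a group of order prime to p acting faithfully on the vector space V by conjugation (the coprime linear setting of the k(GV) problem). Suppose a complement G to V in X is transitive by conjugation on the nonidentity elements of V. Then X has at most (order of V) conjugacy classes, and if equality holds then G is cyclic (hence, being transitive, a Singer cycle), or V has order 8 and G has order 21 (the nonabelian group of order 21 inside the simple group of order 168), or V has order 9 and G has order 16 (a semidihedral Sylow 2-subgroup of the 2-dimensional general linear group over the field with 3 elements). -/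
theorem result {X : Type*} [Group X] [Finite X] (p : ℕ) [Fact p.Prime] (V : Subgroup X) [V.Normal] (hVexp : ∀ v ∈ V, v ^ p = 1) (hidx : ¬ p ∣ V.index) (hself : Subgroup.centralizer (V : Set X) = V) (G : Subgroup X) (hGV : Subgroup.IsComplement' V G) (htrans : ∀ v ∈ V, ∀ w ∈ V, v ≠ 1 → w ≠ 1 → ∃ g ∈ G, g * v * g⁻¹ = w) : Nat.card (ConjClasses X) ≤ Nat.card V ∧ (Nat.card (ConjClasses X) = Nat.card V → (IsCyclic G ∨ (Nat.card V = 8 ∧ Nat.card G = 21) ∨ (Nat.card V = 9 ∧ Nat.card G = 16))) := by
  classical
  have hab : ∀ a ∈ V, ∀ b ∈ V, a * b = b * a := fun a ha b hb =>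
    Subgroup.mem_centralizer_iff.1 (hself.symm ▸ hb : b ∈ Subgroup.centralizer (V : Set X)) a ha
  have hGcard : V.index = Nat.card G := hGV.symm.index_eq_card
  letI : CommGroup V := { (inferInstance : Group V) with mul_comm := fun a b => Subtype.ext (hab a a.2 b b.2) }
  have hdisj : ∀ g ∈ G, g ∈ V → g = 1 := fun g hg hgV => by
    have h : g ∈ (V ⊓ G : Subgroup X) := ⟨hgV, hg⟩
    rwa [hGV.disjoint.eq_bot, Subgroup.mem_bot] at h
  let φ : G →* MulAut V := (MulAut.conjNormal (H := V)).comp G.subtype
  have hφ : Function.Injective φ := by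
    rw [injective_iff_map_eq_one]
    intro g hg
    refine Subtype.ext (hdisj g g.2 (hself ▸ Subgroup.mem_centralizer_iff.2 fun v hv => ?_))
    have h : (g : X) * v * (g : X)⁻¹ = v :=
      congrArg Subtype.val (DFunLike.congr_fun hg (⟨v, hv⟩ : V))
    exact (mul_inv_eq_iff_eq_mul.1 h).symm
  rcases eq_or_ne V ⊥ with hbot | hne
  · haveI hX : Subsingleton X := by
      refine subsingleton_of_forall_eq 1 fun x => ?_
      have hx : x ∈ V := hself ▸ Subgroup.mem_centralizer_iff.2 fun v hv => by
        rw [hbot] at hv
        rw [Subgroup.mem_bot.1 hv, one_mul, mul_one]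
      rwa [hbot, Subgroup.mem_bot] at hx
    haveI : Subsingleton (ConjClasses X) := ⟨fun a b => Quotient.inductionOn₂ a b fun x y =>
      congrArg ConjClasses.mk (Subsingleton.elim x y)⟩
    refine ⟨?_, fun _ => Or.inl inferInstance⟩
    exact (Finite.card_le_one_iff_subsingleton.2 inferInstance).trans Nat.card_pos
  obtain ⟨v₀, hv₀, hv₁⟩ := (V.bot_or_exists_ne_one).resolve_left hne
  have hcop : (Nat.card V).Coprime (Nat.card G) := by
    have hpV : IsPGroup p V := fun v => ⟨1, Subtype.ext (by simpa using hVexp v v.2)⟩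
    obtain ⟨n, hn⟩ := IsPGroup.iff_card.1 hpV
    rw [hn, ← hGcard]
    exact (((Fact.out : p.Prime).coprime_iff_not_dvd).2 hidx).pow_left _
  have hk := S4956.result V hab G hGV hcop {1, v₀} (fun s hs => by
      rcases Finset.mem_insert.1 hs with rfl | hs
      · exact V.one_mem
      · exact (Finset.mem_singleton.1 hs) ▸ hv₀)
    (fun v hv => by
      rcases eq_or_ne v 1 with rfl | hv'
      · refine ⟨1, ⟨Finset.mem_insert_self _ _, 1, G.one_mem, by simp⟩, ?_⟩
        rintro s ⟨-, g, -, rfl⟩
        simp
      · obtain ⟨g, hg, hgv⟩ := htrans v hv v₀ hv₀ hv' hv₁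
        refine ⟨v₀, ⟨Finset.mem_insert_of_mem (Finset.mem_singleton_self _), g, hg, hgv⟩, ?_⟩
        rintro s ⟨hs, g', -, rfl⟩
        rcases Finset.mem_insert.1 hs with h | h
        · exact absurd (conj_eq_one_iff.1 h) hv'
        · exact Finset.mem_singleton.1 h)
  rw [Finset.sum_pair hv₁.symm] at hk
  have h1 : Nat.card (ConjClasses (G ⊓ Subgroup.centralizer ({1} : Set X) : Subgroup X)) =
      Nat.card (ConjClasses G) := by
    have he : G ⊓ Subgroup.centralizer ({1} : Set X) = G :=
      inf_eq_left.2 fun g _ => Subgroup.mem_centralizer_singleton_iff.2 (by simp)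
    exact Perm.TransCoprime.card_classes_congr (MulEquiv.subgroupCongr he)
  let S : Subgroup G := (Subgroup.centralizer ({v₀} : Set X)).subgroupOf G
  have h2 : Nat.card (ConjClasses (G ⊓ Subgroup.centralizer ({v₀} : Set X) : Subgroup X)) =
      Nat.card (ConjClasses S) := by
    refine (Perm.TransCoprime.card_classes_congr ((Subgroup.subgroupOfEquivOfLe
      (inf_le_left : G ⊓ Subgroup.centralizer ({v₀} : Set X) ≤ G)).symm.trans
      (MulEquiv.subgroupCongr ?_)))
    exact Subgroup.inf_subgroupOf_left _ _
  rw [h1, h2] at hk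
  obtain ⟨ha, hb⟩ := Perm.TransCoprime.bound_of_action (fun v : V => Subtype.ext (by simpa using hVexp v v.2))
    φ hφ (hGcard ▸ hidx)
    (fun a b ha hb => by
      obtain ⟨g, hg, hgab⟩ := htrans a a.2 b b.2 (fun e => ha (Subtype.ext e)) (fun e => hb (Subtype.ext e))
      exact ⟨⟨g, hg⟩, Subtype.ext hgab⟩)
    ⟨v₀, hv₀⟩ (fun e => hv₁ (congrArg Subtype.val e)) S fun g => by
      constructor
      · intro hg
        refine Subtype.ext ?_
        show (g : X) * v₀ * (g : X)⁻¹ = v₀
        exact mul_inv_eq_iff_eq_mul.2 (Subgroup.mem_centralizer_singleton_iff.1 (Subgroup.mem_subgroupOf.1 hg))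
      · intro hg
        have e : (g : X) * v₀ * (g : X)⁻¹ = v₀ := congrArg Subtype.val hg
        exact Subgroup.mem_subgroupOf.2 (Subgroup.mem_centralizer_singleton_iff.2 (mul_inv_eq_iff_eq_mul.1 e))
  exact ⟨hk ▸ ha, fun e => hb (hk ▸ e)⟩

end Cfsg.Agent.S4957
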