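import Cfsg.Statements.S4958
import Cfsg.Agent.Lib.CharTheory.KGV.Values
import Cfsg.Agent.Lib.CharTheory.KGV.Chain
set_option linter.style.haveILetI false

set_option autoImplicit false
open Cfsg
open scoped ComplexConjugate IsMulCommutative

namespace Cfsg.Agent.S4958

/-- Let X be a finite group and V a normal subgroup of X in which every element has order dividing the prime p, whose index in X is prime to p and which is its own centralizer in X; so V is an elementary abelian normal Sylow p-subgroup, and any complement G to V in X is a group of order prime to p acting faithfully on the vector space V by conjugation (the coprime linear setting of the k(GV) problem). Let G be a complement to V in X and suppose that for some v in V the centralizer of v in G is abelian. Then the number of conjugacy classes of X is at most the order of V (the abelian-stabilizer criterion for the k(GV) problem). -/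
theorem result {X : Type*} [Group X] [Finite X] (p : ℕ) [Fact p.Prime] (V : Subgroup X) [V.Normal] (hVexp : ∀ v ∈ V, v ^ p = 1) (hidx : ¬ p ∣ V.index) (hself : Subgroup.centralizer (V : Set X) = V) (G : Subgroup X) (hGV : Subgroup.IsComplement' V G) (v : X) (hv : v ∈ V) (hab : ∀ a ∈ G ⊓ Subgroup.centralizer ({v} : Set X), ∀ b ∈ G ⊓ Subgroup.centralizer ({v} : Set X), a * b = b * a) : Nat.card (ConjClasses X) ≤ Nat.card V := by
  classical
  have hp : p.Prime := Fact.out
  have habV : ∀ a ∈ V, ∀ b ∈ V, a * b = b * a := fun a ha b hb =>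
    (Subgroup.mem_centralizer_iff.1 (hself.ge hb : b ∈ Subgroup.centralizer (V : Set X)) a ha)
  have hVp : IsPGroup p V := fun a => ⟨1, Subtype.ext (by simpa using hVexp a a.2)⟩
  set C := G ⊓ Subgroup.centralizer ({v} : Set X) with hCdef
  letI : CommGroup ↥C :=
    { (inferInstance : Group ↥C) with mul_comm := fun a b => Subtype.ext (hab a a.2 b b.2) }
  haveI := Fintype.ofFinite ↥C
  haveI := Fintype.ofFinite X
  haveI := Fintype.ofFinite (Cfsg.IrrCharacter X)
  have hcv : ∀ c : ↥C, (c : X) * v = v * c := fun c =>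
    Subgroup.mem_centralizer_singleton_iff.1 c.2.2
  have hcop : (Nat.card ↥C).Coprime (Nat.card V) := by
    obtain ⟨a, ha⟩ := hVp.exists_card_eq
    rw [ha]
    refine Nat.Coprime.pow_right a ((hp.coprime_iff_not_dvd).2 fun h => hidx ?_).symm
    rw [show V.index = Nat.card G from hGV.symm.index_eq_card]
    exact h.trans (Subgroup.card_dvd_of_le inf_le_left)
  obtain ⟨l, hl, hlK⟩ := CharTheory.KGV.exists_list C.subtype V habV hcop _ V le_rfl le_rfl
    (fun c w hw => Subgroup.Normal.conj_mem inferInstance w hw _)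
  have hker : ∀ c : ↥C, (∀ K ∈ l, c ∈ K) → c = 1 := by
    intro c hc
    have hV : (c : X) ∈ V := hself ▸ Subgroup.mem_centralizer_iff.2 fun w hw => by
      have := hlK c hc w hw
      exact (mul_inv_eq_iff_eq_mul.1 this).symm
    exact Subtype.ext (Subgroup.mem_bot.1 (hGV.disjoint.le_bot ⟨hV, c.2.1⟩))
  set N := Nat.card X with hN
  have hN0 : 0 < N := Nat.card_pos
  haveI : NeZero N := ⟨hN0.ne'⟩
  set ζ := Complex.exp (2 * Real.pi * Complex.I / N)
  have hζ : IsPrimitiveRoot ζ N := Complex.isPrimitiveRoot_exp N hN0.ne'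
  let f : Cfsg.IrrCharacter X → ↥C → ℂ := fun χ c => (χ : X → ℂ) (v * c)
  -- the Fourier coefficients are cyclotomic integers
  have hint : ∀ χ (x : CharTheory.KGV.Dual ↥C),
      CharTheory.KGV.CycInt ζ (CharTheory.KGV.hat (f χ) x) := by
    intro χ x
    refine ⟨?_, ?_⟩
    · let ψ : ↥C × ↥(Subgroup.zpowers v) →* X :=
        MonoidHom.noncommCoprod C.subtype (Subgroup.zpowers v).subtype (fun c z => by
          obtain ⟨k, hk⟩ := Subgroup.mem_zpowers_iff.1 z.2
          simp only [Subgroup.subtype_apply, ← hk]
          exact (show Commute (c : X) v from hcv c).zpow_right k)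
      haveI := Fintype.ofFinite (Cfsg.IrrCharacter (↥C × ↥(Subgroup.zpowers v)))
      obtain ⟨n, hn⟩ := Characters.char_eq_sum_nat
        (Characters.isCharacter_comp ψ (Characters.irr_isCharacter χ))
      have hlin : ∀ θ : Cfsg.IrrCharacter (↥C × ↥(Subgroup.zpowers v)),
          ∃ F : (↥C × ↥(Subgroup.zpowers v)) →* ℂˣ, ∀ a,
            (F a : ℂ) = (θ : ↥C × ↥(Subgroup.zpowers v) → ℂ) a := fun θ =>
        CharTheory.ExtendChar.exists_hom (Characters.irr_isCharacter θ)
          (Characters.irr_degree_one_of_comm (fun a b => mul_comm a b) θ.2)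
      choose F hF using hlin
      let zv : ↥(Subgroup.zpowers v) := ⟨v, Subgroup.mem_zpowers v⟩
      have hf : ∀ c : ↥C, f χ c = ∑ θ, (n θ : ℂ) * ((F θ (1, zv) : ℂ) * (F θ (c, 1) : ℂ)) := by
        intro c
        have h1 := congrFun hn (c, zv)
        simp only [Finset.sum_apply, Pi.smul_apply, smul_eq_mul, Function.comp_apply] at h1
        have h2 : ψ (c, zv) = v * (c : X) := hcv c
        simp only [f]
        rw [← h2, h1]
        refine Finset.sum_congr rfl fun θ _ => ?_
        rw [← hF, ← Units.val_mul, ← map_mul, Prod.mk_mul_mk, one_mul, mul_one]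
      have horth : ∀ θ, (Nat.card ↥C : ℂ)⁻¹ * ∑ c : ↥C, (F θ (c, 1) : ℂ) * conj (x c : ℂ) =
          if ((F θ).comp (MonoidHom.inl _ _) = x) then 1 else 0 := by
        intro θ
        have h := Characters.classInner_irr
          (⟨_, Characters.isIrrCharacter_linear ((F θ).comp (MonoidHom.inl _ _))⟩ :
            Cfsg.IrrCharacter ↥C) ⟨_, Characters.isIrrCharacter_linear x⟩
        rw [Characters.classInner_def] at h
        refine h.trans (if_congr ⟨fun e => MonoidHom.ext fun c => Units.ext ?_, fun e => ?_⟩ rfl rfl)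
        · exact congrFun (congrArg Subtype.val e) c
        · subst e; rfl
      have hval : CharTheory.KGV.hat (f χ) x =
          ∑ θ, (n θ : ℂ) * ((F θ (1, zv) : ℂ) *
            if ((F θ).comp (MonoidHom.inl _ _) = x) then 1 else 0) := by
        simp only [CharTheory.KGV.hat, hf, ← horth, Finset.sum_mul, Finset.mul_sum]
        rw [Finset.sum_comm]
        exact Finset.sum_congr rfl fun θ _ => Finset.sum_congr rfl fun c _ => by ring
      rw [hval]
      refine IsIntegral.sum _ fun θ _ => (isIntegral_algebraMap (R := ℤ) (x := (n θ : ℤ))).mul ?_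
      refine IsIntegral.mul ?_ (by split_ifs <;> first | exact isIntegral_one | exact isIntegral_zero)
      rw [hF]
      exact Characters.char_value_isIntegral (Characters.irr_isCharacter θ) _
    · refine mul_mem ?_ (sum_mem fun c _ => mul_mem ?_ ?_)
      · rw [show (Nat.card ↥C : ℂ)⁻¹ = algebraMap ℚ ℂ ((Nat.card ↥C : ℚ)⁻¹) by simp]
        exact Subalgebra.algebraMap_mem _ _
      · exact (CharTheory.KGV.cycInt_value hN0 hζ dvd_rfl χ (v * c)).2
      · rw [CharTheory.KGV.dual_conj]
        refine CharTheory.KGV.pow_eq_one_mem hζ ?_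
        obtain ⟨k, hk⟩ := (C.card_subgroup_dvd_card)
        rw [← Units.val_pow_eq_pow_val, ← map_pow, hN, hk, pow_mul, pow_card_eq_one', one_pow,
          map_one, Units.val_one]
  let z : Cfsg.IrrCharacter X × CharTheory.KGV.Dual ↥C × CharTheory.KGV.Idx l → ℂ := fun i =>
    CharTheory.KGV.form l (CharTheory.KGV.hat fun c => f i.1 c * conj (i.2.1 c : ℂ)) i.2.2
  have hz : ∀ i, CharTheory.KGV.CycInt ζ (z i) := fun i =>
    CharTheory.KGV.form_induction (fun a b => CharTheory.KGV.cycInt_sub) l _ (fun x => by
      rw [← CharTheory.KGV.hat_shift]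
      exact hint _ _) _
  set T : ℕ := ∑ c : ↥C, CharTheory.KGV.eta l c *
    Nat.card (Subgroup.centralizer ({v * (c : X)} : Set X)) with hT
  set S := CharTheory.KGV.size l with hS
  have hq : ∑ i, ((CharTheory.KGV.wt l i.2.2 : ℚ) : ℝ) * ‖z i‖ ^ 2 =
      (((S : ℚ) * (Nat.card ↥C : ℚ)⁻¹ * T : ℚ) : ℝ) := by
    apply Complex.ofReal_injective
    push_cast
    rw [Fintype.sum_prod_type]
    simp only [Fintype.sum_prod_type (γ := ℂ) (α₁ := CharTheory.KGV.Dual ↥C), z, ← Complex.mul_conj']
    rw [Finset.sum_congr rfl fun χ _ => CharTheory.KGV.sum_form_sq l (f χ), ← Finset.mul_sum,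
      Finset.sum_comm, hT, Nat.cast_sum]
    congr 1
    refine Finset.sum_congr rfl fun c _ => ?_
    rw [← Finset.mul_sum, Nat.cast_mul]
    congr 1
    have := Characters.second_orthogonality (v * (c : X)) (v * (c : X))
    rw [if_pos (IsConj.refl _)] at this
    exact this
  have hge := CharTheory.KGV.sum_weight_le hN0 hζ
    (fun i : Cfsg.IrrCharacter X × CharTheory.KGV.Dual ↥C × CharTheory.KGV.Idx l =>
      CharTheory.KGV.wt l i.2.2) (fun i => CharTheory.KGV.wt_nonneg l _) z hz hq
  have hlow : ((Nat.card (ConjClasses X) * Nat.card ↥C * S : ℕ) : ℚ) ≤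
      ∑ i, (if z i = 0 then 0 else CharTheory.KGV.wt l i.2.2) := by
    rw [Fintype.sum_prod_type]
    simp only [Fintype.sum_prod_type (γ := ℚ) (α₁ := CharTheory.KGV.Dual ↥C), z]
    refine le_trans (le_of_eq ?_) (Finset.sum_le_sum fun χ _ => Finset.sum_le_sum fun m _ =>
      CharTheory.KGV.size_le_weight l _ ?_)
    · simp only [Finset.sum_const, Finset.card_univ, nsmul_eq_mul, CharTheory.KGV.card_dual,
        ← Nat.card_eq_fintype_card (α := Cfsg.IrrCharacter X), Characters.card_irrCharacter, ← hS]
      push_cast; ring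
    · rw [CharTheory.KGV.total_hat, Finset.sum_eq_single (1 : ↥C)]
      · rw [if_pos fun K _ => one_mem K]
        refine mul_ne_zero (mul_ne_zero ?_ (inv_ne_zero (Nat.cast_ne_zero.2 Nat.card_pos.ne'))) ?_
        · have hpos : ∀ L : List (Subgroup ↥C), 0 < CharTheory.KGV.size L := fun L => by
            induction L with
            | nil => exact Nat.one_pos
            | cons K L ih => exact Nat.mul_pos (Nat.pos_of_ne_zero Subgroup.index_ne_zero_of_finite) ih
          exact Nat.cast_ne_zero.2 (hpos l).ne'
        · simpa [f] using CharTheory.KGV.irr_ne_zero V hidx habV hVp χ hv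
      · intro c _ hc
        rw [if_neg fun h => hc (hker c h)]
      · simp
  -- the centralizers
  have hT2 : T ≤ Nat.card ↥C * Nat.card ↥C * Nat.card V := by
    rw [hT]
    refine (Finset.sum_le_card_nsmul Finset.univ _ (Nat.card ↥C * Nat.card V) fun c _ => ?_).trans
      (by rw [Finset.card_univ, ← Nat.card_eq_fintype_card, smul_eq_mul, mul_assoc])
    set A := V ⊓ Subgroup.centralizer ({(c : X)} : Set X)
    have hcard : Nat.card (Subgroup.centralizer ({v * (c : X)} : Set X)) ≤
        Nat.card A * Nat.card ↥C := by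
      rw [← Nat.card_prod]
      have hd : ∀ x : ↥(Subgroup.centralizer ({v * (c : X)} : Set X)),
          ∃ wg : ↥A × ↥C, (wg.1 : X) * wg.2 = x := by
        rintro ⟨x, hx⟩
        have hxv : Commute x (v * (c : X)) := Subgroup.mem_centralizer_singleton_iff.1 hx
        -- `v` is a power of `v * c`
        obtain ⟨e, he1, he0⟩ := Nat.chineseRemainder (hcop.symm) 1 0
        have hve : (v * (c : X)) ^ e = v := by
          rw [(show Commute v (c : X) from (hcv c).symm).mul_pow]
          have h1 : (c : X) ^ e = 1 := by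
            obtain ⟨k, hk⟩ := Nat.modEq_zero_iff_dvd.1 he0
            rw [hk, pow_mul, ← Subgroup.coe_pow, pow_card_eq_one', Subgroup.coe_one, one_pow]
          have h2 : (⟨v, hv⟩ : V) ^ e = (⟨v, hv⟩ : V) := by
            conv_rhs => rw [← pow_one (⟨v, hv⟩ : V)]
            exact pow_eq_pow_iff_modEq.2 (he1.of_dvd (orderOf_dvd_natCard _))
          rw [h1, mul_one]
          simpa using congrArg Subtype.val h2
        have hxv' : Commute x v := hve ▸ hxv.pow_right e
        have hxc : Commute x (c : X) := by
          simpa using (hxv'.inv_right.mul_right hxv)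
        obtain ⟨w, hw, g, hg, rfl⟩ := Subgroup.mem_sup_of_normal_left.1
          (hGV.sup_eq_top ▸ Subgroup.mem_top x)
        have hgC : g ∈ C := ⟨hg, Subgroup.mem_centralizer_singleton_iff.2 (by
          have : Commute w v := habV w hw v hv
          simpa using (this.inv_left.mul_left hxv').eq)⟩
        refine ⟨(⟨w, hw, Subgroup.mem_centralizer_singleton_iff.2 ?_⟩, ⟨g, hgC⟩), rfl⟩
        have : Commute g (c : X) := hab g hgC c c.2
        simpa using (hxc.mul_left this.inv_left).eq
      choose F hF using hd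
      exact Nat.card_le_card_of_injective F fun a b e => Subtype.ext (by rw [← hF a, ← hF b, e])
    calc _ ≤ CharTheory.KGV.eta l c * (Nat.card A * Nat.card ↥C) := Nat.mul_le_mul_left _ hcard
      _ = (CharTheory.KGV.eta l c * Nat.card A) * Nat.card ↥C := by ring
      _ ≤ Nat.card V * Nat.card ↥C := Nat.mul_le_mul_right _ (hl c)
      _ = _ := mul_comm _ _
  have h1 := hlow.trans hge
  have hS0 : (0 : ℚ) < S := by
    have : ∀ L : List (Subgroup ↥C), 0 < CharTheory.KGV.size L := fun L => by
      induction L with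
      | nil => exact Nat.one_pos
      | cons K L ih => exact Nat.mul_pos (Nat.pos_of_ne_zero Subgroup.index_ne_zero_of_finite) ih
    exact_mod_cast this l
  have hC0 : (0 : ℚ) < Nat.card ↥C := by exact_mod_cast Nat.card_pos
  have h2 : ((T : ℕ) : ℚ) ≤ ((Nat.card ↥C * Nat.card ↥C * Nat.card V : ℕ) : ℚ) := by exact_mod_cast hT2
  push_cast at h1 h2
  have h3 : (Nat.card (ConjClasses X) : ℚ) * (Nat.card ↥C * Nat.card ↥C) ≤ T := by
    have h4 := mul_le_mul_of_nonneg_right h1 hC0.le
    rw [show (S : ℚ) * (Nat.card ↥C : ℚ)⁻¹ * T * Nat.card ↥C = S * T by field_simp] at h4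
    nlinarith
  have h5 : (Nat.card (ConjClasses X) : ℚ) ≤ Nat.card V := by nlinarith [mul_pos hC0 hC0]
  exact_mod_cast h5

end Cfsg.Agent.S4958
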