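import Cfsg.Statements.S4964
import Cfsg.Agent.Lib.CharTheory.Blocks.QuotientBlocks
import Cfsg.Agent.Lib.Coprime.Commutator
import Cfsg.Agent.Lib.Coprime.PGroup
set_option linter.style.haveILetI false

set_option autoImplicit false
open Cfsg

namespace Cfsg.Agent.S4964

/-- Let D be a normal p-subgroup of the finite group G, let D′ be its commutator subgroup (normal in G), and fix a maximal ideal M of the algebraic integers containing p. Then (i) two irreducible characters of G ⧸ D′ lie in the same p-block if and only if their inflations to G do, and (ii) every p-block of G contains the inflation of some irreducible character of G ⧸ D′; so inflation induces a bijection between the p-blocks of G ⧸ D′ and the p-blocks of G. -/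
theorem result {G : Type*} [Group G] [Finite G] (p : ℕ) [Fact p.Prime] (M : Ideal Cfsg.AlgInt) (hM : Cfsg.IsPModular p M) (D : Subgroup G) [D.Normal] (hD : IsPGroup p D) : (∀ χ ψ : Cfsg.IrrCharacter (G ⧸ ⁅D, D⁆), Cfsg.SameBlock M (χ : G ⧸ ⁅D, D⁆ → ℂ) (ψ : G ⧸ ⁅D, D⁆ → ℂ) ↔ Cfsg.SameBlock M ((χ : G ⧸ ⁅D, D⁆ → ℂ) ∘ QuotientGroup.mk) ((ψ : G ⧸ ⁅D, D⁆ → ℂ) ∘ QuotientGroup.mk)) ∧ ∀ B : Set (Cfsg.IrrCharacter G), Cfsg.IsPBlock M B → ∃ χ : Cfsg.IrrCharacter (G ⧸ ⁅D, D⁆), ∃ θ ∈ B, (θ : G → ℂ) = (χ : G ⧸ ⁅D, D⁆ → ℂ) ∘ QuotientGroup.mk := by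
  classical
  have hp : p.Prime := Fact.out
  have hD' : IsPGroup p ↥⁅D, D⁆ := hD.to_le (Subgroup.commutator_le_self D)
  refine ⟨fun χ ψ => CharTheory.Blocks.sameBlock_inflate_iff_of_lift hM hD'
    (D := D.map (QuotientGroup.mk' ⁅D, D⁆)) (hD.map _) ?_ χ ψ, fun B hB => ?_⟩
  · intro g hg hgD
    have hA : Subgroup.zpowers g ≤ Subgroup.centralizer (D : Set G) := by
      refine Coprime.le_centralizer_of_frattini (fun x _ => ?_) ?_ ?_
      · rw [Subgroup.normalizer_eq_top]; trivial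
      · obtain ⟨k, hk⟩ := IsPGroup.iff_card.1 (hD.to_subgroup (frattini ↥D))
        rw [Nat.card_zpowers, hk]
        exact ((hp.coprime_iff_not_dvd).2 hg).symm.pow_right k
      · intro a ha k hk
        have h1 : (k : G ⧸ ⁅D, D⁆) * (a : G ⧸ ⁅D, D⁆) = (a : G ⧸ ⁅D, D⁆) * (k : G ⧸ ⁅D, D⁆) := by
          obtain ⟨m, rfl⟩ := Subgroup.mem_zpowers_iff.1 ha
          rw [QuotientGroup.mk_zpow]
          have hcm : Commute (k : G ⧸ ⁅D, D⁆) (g : G ⧸ ⁅D, D⁆) :=
            Subgroup.mem_centralizer_iff.1 hgD _ ⟨k, hk, rfl⟩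
          exact (hcm.zpow_right m).eq
        have h2 : a * k * a⁻¹ * k⁻¹ ∈ ⁅D, D⁆ := by
          rw [← QuotientGroup.eq_one_iff, QuotientGroup.mk_mul, QuotientGroup.mk_mul,
            QuotientGroup.mk_mul, ← h1, QuotientGroup.mk_inv, QuotientGroup.mk_inv,
            mul_inv_cancel_right, mul_inv_cancel]
        haveI := hD.isNilpotent
        refine Subgroup.map_mono (Coprime.commutator_le_frattini ↥D) ?_
        rwa [_root_.commutator_def, Subgroup.map_commutator, ← MonoidHom.range_eq_map,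
          Subgroup.range_subtype]
    exact Subgroup.centralizer_le (Subgroup.commutator_le_self D) (hA (Subgroup.mem_zpowers g))
  · obtain ⟨Bbar, hBbar, hsub, -⟩ := Blocks.exists_block_quotient hM hD' hB
    obtain ⟨χ, hχ⟩ := Blocks.block_nonempty hM hBbar
    exact ⟨χ, Blocks.inflIrr χ, hsub χ hχ, rfl⟩

end Cfsg.Agent.S4964
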