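import Cfsg.Statements.S4965
import Mathlib

set_option autoImplicit false
open Cfsg

namespace Cfsg.Agent.S4965

/-- Let X be a finite group with an abelian normal subgroup V (any two elements of V commute), and let φ be the action of X ⧸ V on V induced by conjugation (well defined because V is abelian; the hypothesis hφ says that the class of x acts as conjugation by x). Then X has at most as many conjugacy classes as the semidirect product of V by X ⧸ V formed with this action: the split extension has the largest class number among extensions with the given action. -/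
theorem result {X : Type*} [Group X] [Finite X] (V : Subgroup X) [V.Normal] (hab : ∀ a ∈ V, ∀ b ∈ V, a * b = b * a) (φ : X ⧸ V →* MulAut ↥V) (hφ : ∀ (x : X) (v : ↥V), ((φ (QuotientGroup.mk x) v : ↥V) : X) = x * v * x⁻¹) : Nat.card (ConjClasses X) ≤ Nat.card (ConjClasses (SemidirectProduct ↥V (X ⧸ V) φ)) := by
  classical
  have key : Nat.card {p : X × X // Commute p.1 p.2} ≤
      Nat.card {p : SemidirectProduct ↥V (X ⧸ V) φ × SemidirectProduct ↥V (X ⧸ V) φ //
        Commute p.1 p.2} := by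
    have : Finite (SemidirectProduct ↥V (X ⧸ V) φ) :=
      Finite.of_equiv _ SemidirectProduct.equivProd.symm
    -- a commuting lift of each pair of cosets that has one
    let ch : (X ⧸ V) → (X ⧸ V) → X × X := fun a b =>
      if h : ∃ g k : X, Commute g k ∧ (QuotientGroup.mk g : X ⧸ V) = a ∧
        (QuotientGroup.mk k : X ⧸ V) = b then (h.choose, h.choose_spec.choose) else (1, 1)
    have hch : ∀ p : {p : X × X // Commute p.1 p.2},
        Commute (ch ↑p.1.1 ↑p.1.2).1 (ch ↑p.1.1 ↑p.1.2).2 ∧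
        (QuotientGroup.mk (ch ↑p.1.1 ↑p.1.2).1 : X ⧸ V) = ↑p.1.1 ∧
        (QuotientGroup.mk (ch ↑p.1.1 ↑p.1.2).2 : X ⧸ V) = ↑p.1.2 := by
      intro p
      have h : ∃ g k : X, Commute g k ∧ (QuotientGroup.mk g : X ⧸ V) = ↑p.1.1 ∧
          (QuotientGroup.mk k : X ⧸ V) = ↑p.1.2 := ⟨p.1.1, p.1.2, p.2, rfl, rfl⟩
      simp only [ch, dif_pos h]
      exact h.choose_spec.choose_spec
    have hmem : ∀ g g' : X, (QuotientGroup.mk g' : X ⧸ V) = ↑g → g * g'⁻¹ ∈ V := by
      intro g g' h
      exact (Subgroup.Normal.mem_comm_iff (H := V) inferInstance).1 (QuotientGroup.eq.1 h)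
    let F : {p : X × X // Commute p.1 p.2} →
        {p : SemidirectProduct ↥V (X ⧸ V) φ × SemidirectProduct ↥V (X ⧸ V) φ //
          Commute p.1 p.2} := fun p =>
      ⟨(⟨⟨p.1.1 * (ch ↑p.1.1 ↑p.1.2).1⁻¹, hmem _ _ (hch p).2.1⟩, ↑p.1.1⟩,
        ⟨⟨p.1.2 * (ch ↑p.1.1 ↑p.1.2).2⁻¹, hmem _ _ (hch p).2.2⟩, ↑p.1.2⟩), by
        apply SemidirectProduct.ext
        · obtain ⟨hc, h1, h2⟩ := hch p
          have hp : p.1.1 * p.1.2 = p.1.2 * p.1.1 := p.2
          set g₀ := (ch ↑p.1.1 ↑p.1.2).1
          set k₀ := (ch ↑p.1.1 ↑p.1.2).2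
          simp only [SemidirectProduct.mul_left]
          apply Subtype.ext
          simp only [Subgroup.coe_mul]
          have e1 : ∀ v : ↥V, ((φ ↑p.1.1 v : ↥V) : X) = g₀ * v * g₀⁻¹ := fun v =>
            (congrArg (fun q : X ⧸ V => ((φ q v : ↥V) : X)) h1).symm.trans (hφ g₀ v)
          have e2 : ∀ v : ↥V, ((φ ↑p.1.2 v : ↥V) : X) = k₀ * v * k₀⁻¹ := fun v =>
            (congrArg (fun q : X ⧸ V => ((φ q v : ↥V) : X)) h2).symm.trans (hφ k₀ v)
          rw [e1, e2]
          have hc' : g₀ * k₀ = k₀ * g₀ := hc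
          calc p.1.1 * g₀⁻¹ * (g₀ * (p.1.2 * k₀⁻¹) * g₀⁻¹)
              = p.1.1 * p.1.2 * (g₀ * k₀)⁻¹ := by group
            _ = p.1.2 * p.1.1 * (k₀ * g₀)⁻¹ := by rw [hp, hc']
            _ = p.1.2 * k₀⁻¹ * (k₀ * (p.1.1 * g₀⁻¹) * k₀⁻¹) := by group
        · simp only [SemidirectProduct.mul_right]
          rw [← QuotientGroup.mk_mul, ← QuotientGroup.mk_mul, p.2.eq]⟩
    refine Nat.card_le_card_of_injective F ?_
    intro p q hpq
    have h := congrArg Subtype.val hpq
    simp only [F, Prod.mk.injEq, SemidirectProduct.ext_iff, Subtype.mk.injEq] at h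
    obtain ⟨⟨hl1, hr1⟩, hl2, hr2⟩ := h
    rw [hr1, hr2] at hl1 hl2
    exact Subtype.ext (Prod.ext (mul_right_cancel hl1) (mul_right_cancel hl2))
  rw [card_comm_eq_card_conjClasses_mul_card, card_comm_eq_card_conjClasses_mul_card] at key
  have hc : Nat.card (SemidirectProduct ↥V (X ⧸ V) φ) = Nat.card X := by
    rw [SemidirectProduct.card, Subgroup.card_eq_card_quotient_mul_card_subgroup V, mul_comm]
  rw [hc] at key
  exact Nat.le_of_mul_le_mul_right key Nat.card_pos

end Cfsg.Agent.S4965
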