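import Cfsg.Statements.S5252
import Cfsg.Agent.S1991
import Cfsg.Agent.S5197
import Cfsg.Agent.Lib.Fusion.ModelExists
import Cfsg.Agent.Lib.Fusion.KNormalizer
import Cfsg.Agent.Lib.Fusion.NormalizerModel
import Cfsg.Agent.Lib.Fusion.Hyperfocal
import Cfsg.Agent.Lib.Fusion.TateFocal
import Cfsg.Agent.Lib.CharP.LocalJ
set_option linter.all false
-- import your own Cfsg.Agent.* helpers here

set_option autoImplicit false
open Cfsg

namespace Cfsg.Agent.S5252

open Cfsg.Agent.Fusion.Basic Cfsg.Agent.Fusion.Saturation Cfsg.Agent.Fusion.Normal Cfsg.FusionSystem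

/-- A constrained system with `Aut(S)` a `p`-group, `p ≥ 5`, has proper focal subgroup. -/
theorem focal_lt {Ω : Type*} [Group Ω] {S : Subgroup Ω} [Finite S] {p : ℕ} [Fact p.Prime]
    (hS : IsPGroup p S) (N : FusionSystem S) (hN : N.IsConstrained p) (hp : 5 ≤ p) (hS1 : S ≠ ⊥)
    (haut : IsPGroup p ↥(N.autGroup S)) : N.focalSubgroup < S := by
  obtain ⟨L, hL, ι, hfinL, ⟨hinj, hreal⟩, ⟨T, hT⟩, hchar⟩ := Fusion.Model.exists_model hS hN
  have hle : N.focalSubgroup ≤ S := Fusion.TateFocal.focal_le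
  refine lt_of_le_of_ne hle fun heq => ?_
  have hTne : (T : Subgroup L) ≠ ⊥ := by
    rw [hT, Ne, MonoidHom.range_eq_bot_iff]
    intro h
    refine hS1 ((Subgroup.eq_bot_iff_forall S).2 fun x hx => ?_)
    exact congrArg Subtype.val (hinj (a₁ := ⟨x, hx⟩) (a₂ := 1) (by rw [h]; rfl))
  have hcent : ∀ g ∈ Subgroup.normalizer ((T : Subgroup L) : Set L), (orderOf g).Coprime p →
      g ∈ Subgroup.centralizer ((T : Subgroup L) : Set L) := by
    intro g hg hco
    rw [hT] at hg ⊢
    let e : S ≃* ι.range := MonoidHom.ofInjective hinj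
    let ψ : Subgroup.normalizer (ι.range : Set L) →* MulAut S :=
      (MulAut.congr e.symm).toMonoidHom.comp (Subgroup.normalizerMonoidHom ι.range)
    have hψ : ∀ x : S, ι (ψ ⟨g, hg⟩ x) = g * ι x * g⁻¹ := fun x =>
      congrArg Subtype.val (e.apply_symm_apply (Subgroup.normalizerMonoidHom ι.range ⟨g, hg⟩ (e x)))
    have hmem : ψ ⟨g, hg⟩ ∈ N.autGroup S :=
      Subgroup.subset_closure ((hreal S le_rfl (S.subtype.comp (ψ ⟨g, hg⟩).toMonoidHom)
        (fun x => (ψ ⟨g, hg⟩ x).2)).2 ⟨g, fun x => hψ x⟩)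
    have hone : ψ ⟨g, hg⟩ = 1 := by
      obtain ⟨k, hk⟩ := (IsPGroup.iff_orderOf.1 haut) ⟨_, hmem⟩
      rw [Subgroup.orderOf_mk] at hk
      have h1 : orderOf (ψ ⟨g, hg⟩) ∣ orderOf g := by
        have := orderOf_map_dvd ψ (⟨g, hg⟩ : Subgroup.normalizer (ι.range : Set L))
        rwa [Subgroup.orderOf_mk] at this
      rw [← orderOf_eq_one_iff]
      exact Nat.eq_one_of_dvd_coprimes (hco.symm.pow_left k) (hk.dvd) h1
    rintro _ ⟨x, rfl⟩
    have h2 := hψ x
    rw [hone] at h2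
    exact (eq_mul_inv_iff_mul_eq.1 h2)
  obtain ⟨M, hMn, hMi⟩ := S1991.result hp T hTne hcent
  have hfoc : N.focalSubgroup ≤ (M.comap ι).map S.subtype := by
    rw [FusionSystem.focalSubgroup, Subgroup.closure_le]
    rintro y ⟨P, φ, x, hφ, rfl⟩
    have hP : P ≤ S := (IsMap.of_hom hφ).le
    have hv : ∀ x : P, φ x ∈ S := fun x => (ext_apply φ x) ▸ (IsMap.of_hom hφ).mem x.2
    obtain ⟨g, hg⟩ := (hreal P hP φ hv).1 hφ
    refine ⟨(⟨x, hP x.2⟩ : S)⁻¹ * ⟨φ x, hv x⟩, ?_, rfl⟩
    show ι ((⟨x, hP x.2⟩ : S)⁻¹ * ⟨φ x, hv x⟩) ∈ M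
    rw [map_mul, map_inv, hg x, ← QuotientGroup.eq_one_iff]
    have hcomm : ∀ a b : L ⧸ M, a * b = b * a := by
      have : IsCyclic (L ⧸ M) := isCyclic_of_prime_card (p := p) (by
        rw [← Subgroup.index_eq_card]; exact hMi)
      letI := IsCyclic.commGroup (α := L ⧸ M)
      exact mul_comm
    simp only [QuotientGroup.mk_mul, QuotientGroup.mk_inv]
    rw [hcomm (g : L ⧸ M) _]
    group
  have hTM : (T : Subgroup L) ≤ M := by
    rw [hT]
    rintro _ ⟨x, rfl⟩
    obtain ⟨z, hz, hzx⟩ := hfoc (heq.ge x.2)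
    obtain rfl : z = x := Subtype.ext hzx
    exact hz
  refine T.not_dvd_index ?_
  exact hMi.symm.dvd.trans (Subgroup.index_dvd_of_le hTM)

/-- Let p ≥ 5 be a prime and F a saturated fusion system over a nontrivial finite p-group S such that Aut_F(S) is a p-group. Then the focal subgroup of F is a proper subgroup of S. -/
theorem result {Ω : Type*} [Group Ω] {S : Subgroup Ω} [Finite S] (p : ℕ) [Fact p.Prime] (hS : IsPGroup p S) (F : Cfsg.FusionSystem S) (hF : F.IsSaturated p) (hp : 5 ≤ p) (hS1 : S ≠ ⊥) (haut : IsPGroup p ↥(F.autGroup S)) : F.focalSubgroup < S := by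
  have hW := Techniques.KSeq.isCharPFunctor_kInfLower.{_} (p := p)
  have hiso : CharP.LocalControl.IsoInv p (fun (Q : Type _) [Group Q] => kInfLower Q) := hW.2
  set R := (kInfLower ↥S).map S.subtype with hR
  have hRS : R ≤ S := Subgroup.map_subtype_le _
  have hSN : S ≤ normalizerIn S R := fun x hx => ⟨hx, CharP.LocalControl.normalizer_le_Wof
    (W := fun (Q : Type _) [Group Q] => kInfLower Q) hiso hS (Subgroup.le_normalizer hx)⟩
  have hT : normalizerIn S R = S := le_antisymm inf_le_left hSN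
  have hfin : Finite (normalizerIn S R) := finite_of_le inf_le_left
  have hfn : F.IsFullyNormalized R := ⟨hRS, fun A _ => card_le_card (fun x hx => hSN hx.1)⟩
  obtain ⟨N, hN⟩ := Fusion.KNormalizer.exists_normalizerSystem (F := F) hRS
  have hNsat := Fusion.KNormalizer.normalizerSystem_saturated hS hF hfn hN
  have hfoc : N.focalSubgroup = F.focalSubgroup := by
    refine S5197.result (fun (Q : Type _) [Group Q] => kInfLower Q) hW.1 hW.2 ?_ hS F hF N hN
    intro G _ _ P _
    rw [Subgroup.map_subtype_commutator]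
    refine le_antisymm (le_inf inf_le_left ?_) (inf_le_inf_left _ ?_)
    · intro x hx
      have : x ∈ (P : Subgroup G) ⊓ commutator G := ⟨PLocal.Cores.pCore_le_sylow P hx.1, hx.2⟩
      rw [Techniques.KInf.transfer_kInfLower hp P] at this
      exact this.2
    · exact Subgroup.commutator_mono le_top le_top
  have hRn : N.IsNormal R := Fusion.NormalizerModel.isNormal hN hRS
  have hc : centralizerIn (normalizerIn S R) R ≤ R := by
    rw [hT]
    rintro x ⟨hxS, hx⟩
    refine ⟨⟨x, hxS⟩, Techniques.KSeq.centralizer_kInfLower_le hS ?_, rfl⟩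
    exact Subgroup.mem_centralizer_iff.2 fun y hy => Subtype.ext (hx y.1 ⟨y, hy, rfl⟩)
  have hcon : N.IsConstrained p := ⟨hNsat, R, hRn, le_normalizerIn hRS,
    fun Q hQ => by
      obtain ⟨f, hf, rfl⟩ := isConj_iff_map.1 hQ
      rw [normal_img_eq hRn hf le_rfl]
      exact hc⟩
  rw [← hfoc]
  refine lt_of_lt_of_eq (focal_lt (S := normalizerIn S R) (hS.to_le hT.le) N hcon hp (hT.symm ▸ hS1) ?_) hT
  have h1 : N.autGroup (normalizerIn S R) ≤ F.autGroup (normalizerIn S R) :=
    Fusion.Focal.autGroup_mono (fun A φ hφ => (Fusion.NormalizerModel.isMap_le hN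
      (IsMap.of_hom hφ)).hom_mem fun x => (ext_apply φ x).symm) _
  exact IsPGroup.to_le (hT.symm ▸ haut) h1

end Cfsg.Agent.S5252
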