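import Cfsg.Statements.S4978
import Cfsg.Agent.Lib.CharTheory.HeightZeroOrbits
import Cfsg.Agent.Lib.CharTheory.MajorContrib.CentralFibre
import Cfsg.Agent.BlockCharsA.PairCorr
import Cfsg.Agent.BlockCharsA.PairReceptive
import Cfsg.Agent.S5252

set_option autoImplicit false
open Cfsg

namespace Cfsg.Agent.S4978

theorem sq_eq_one_two : ∀ a : ZMod 2, a ≠ 0 → a ^ 2 = 1 := by decide

theorem sq_eq_one_three : ∀ a : ZMod 3, a ≠ 0 → a ^ 2 = 1 := by decide

/-- Let p be a prime and B a p-block of the finite group G (relative to a maximal ideal M of the algebraic integers containing p) with a nontrivial defect group D whose automorphism group is a p-group (for a p-group D this is the same as its outer automorphism group being a p-group). Then the number of irreducible characters of height zero in B is divisible by p; if p > 3 this number is at least 2p, and if moreover p ≡ 3 (mod 4) it is at least 3p. -/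
theorem result {G : Type*} [Group G] [Finite G] (p : ℕ) [Fact p.Prime] (M : Ideal Cfsg.AlgInt) (hM : Cfsg.IsPModular p M) (B : Set (Cfsg.IrrCharacter G)) (hB : Cfsg.IsPBlock M B) (D : Subgroup G) (hD : Cfsg.IsDefectGroup p M B D) (hD1 : D ≠ ⊥) (hAut : IsPGroup p (MulAut ↥D)) : p ∣ Nat.card {χ : Cfsg.IrrCharacter G // χ ∈ B ∧ Cfsg.blockHeight p B (χ : G → ℂ) = 0} ∧ (3 < p → 2 * p ≤ Nat.card {χ : Cfsg.IrrCharacter G // χ ∈ B ∧ Cfsg.blockHeight p B (χ : G → ℂ) = 0}) ∧ (3 < p → p % 4 = 3 → 3 * p ≤ Nat.card {χ : Cfsg.IrrCharacter G // χ ∈ B ∧ Cfsg.blockHeight p B (χ : G → ℂ) = 0}) := by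
  classical
  haveI := Fintype.ofFinite G
  haveI := Fintype.ofFinite (Cfsg.IrrCharacter G)
  have hp : p.Prime := Fact.out
  set d := Cfsg.blockDefect p B
  have hcD : Nat.card D = p ^ d := Blocks.card_defectGroup hM hB hD
  have hd1 : 1 ≤ d := by
    by_contra h
    refine hD1 (Subgroup.card_eq_one.1 ?_)
    rw [hcD, show d = 0 by omega, pow_zero]
  obtain ⟨z, hz, hzs, hzd, -, -, -, hzrow, -⟩ := BlockCharsA.Contrib.exists_matrix hM hB
  obtain ⟨χ₀, hχ₀, h00⟩ := Blocks.exists_height_zero hM hB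
  have hmod := (CharTheory.MajorContrib.mod_prime_table hM hB z hz).2
  set X := Finset.univ.filter fun χ : Cfsg.IrrCharacter G =>
    χ ∈ B ∧ Cfsg.blockHeight p B (χ : G → ℂ) = 0
  have hX : ∀ {χ}, χ ∈ X ↔ χ ∈ B ∧ Cfsg.blockHeight p B (χ : G → ℂ) = 0 := fun {χ} => by simp [X]
  have hk0 : Nat.card {χ : Cfsg.IrrCharacter G // χ ∈ B ∧ Cfsg.blockHeight p B (χ : G → ℂ) = 0}
      = X.card := by
    rw [← Nat.card_eq_finsetCard]
    exact Nat.card_congr (Equiv.subtypeEquivRight fun χ => hX.symm)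
  have hunit : ∀ χ ∈ X, ¬ (p : ℤ) ∣ z χ₀ χ := fun χ hχ h =>
    (hmod χ₀ hχ₀ χ (hX.1 hχ).1).1 h ⟨h00, (hX.1 hχ).2⟩
  -- the row of a character of height zero
  have hrow : ∀ n, n ≤ d → n ≤ 2 → ((p : ℤ) ^ n) ∣ ∑ χ ∈ X, z χ₀ χ ^ 2 := by
    intro n hn hn2
    have h := hzrow χ₀ hχ₀
    rw [ZStar.Principal.finsum_mem_eq_sum_filter,
      ← Finset.sum_filter_add_sum_filter_not _ fun χ : Cfsg.IrrCharacter G =>
        Cfsg.blockHeight p B (χ : G → ℂ) = 0, Finset.filter_filter, Finset.filter_filter] at h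
    rw [eq_sub_of_add_eq h]
    refine dvd_sub ((pow_dvd_pow _ hn).mul_right _) (Finset.dvd_sum fun χ hχ => ?_)
    obtain ⟨-, hχB, hχh⟩ := Finset.mem_filter.1 hχ
    refine (pow_dvd_pow _ hn2).trans (pow_dvd_pow_of_dvd ?_ 2)
    exact (dvd_pow_self _ hχh).trans (hzd χ₀ hχ₀ χ hχB)
  rw [hk0]
  have hXne : X.Nonempty := ⟨χ₀, hX.2 ⟨hχ₀, h00⟩⟩
  rcases Nat.lt_or_ge p 5 with hp5 | hp5
  · have hp23 : p = 2 ∨ p = 3 := by
      have := hp.two_le
      interval_cases p <;> simp_all (config := { decide := true })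
    refine ⟨?_, fun h => by omega, fun h => by omega⟩
    have h := hrow 1 hd1 (by omega)
    rw [pow_one, ← ZMod.intCast_zmod_eq_zero_iff_dvd, Int.cast_sum,
      Finset.sum_congr rfl (g := fun _ => (1 : ZMod p)) fun χ hχ => ?_, Finset.sum_const,
      nsmul_eq_mul, mul_one] at h
    · exact (ZMod.natCast_eq_zero_iff _ _).1 h
    · have h1 : ((z χ₀ χ : ℤ) : ZMod p) ≠ 0 := fun e =>
        hunit χ hχ ((ZMod.intCast_zmod_eq_zero_iff_dvd _ _).1 e)
      rw [Int.cast_pow]
      generalize ((z χ₀ χ : ℤ) : ZMod p) = a at h1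
      rcases hp23 with rfl | rfl
      · exact sq_eq_one_two a h1
      · exact sq_eq_one_three a h1
  -- the focal subgroup is proper
  haveI := Fintype.ofFinite D
  obtain ⟨e, hmax⟩ := BlockCharsA.PairCorr.exists_maximal_on hM hB hD
  have hS := BlockCharsA.PairFusion.isBlockFusion_blockSystem hM hmax
  set F := BlockCharsA.PairFusion.blockSystem hM hmax
  have hDp : IsPGroup p D := hmax.1.1.1
  have hfoc := S5252.result p hDp F (BlockCharsA.PairReceptive.isSaturated hM hS) hp5 hD1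
    (hAut.to_subgroup _)
  set N := F.focalSubgroup.subgroupOf D
  have hind : p ∣ N.index := by
    obtain ⟨n, hn⟩ := hDp.index N
    rw [hn]
    refine dvd_pow_self p fun h0 => ?_
    rw [h0, pow_zero, Subgroup.index_eq_one, Subgroup.subgroupOf_eq_top] at hn
    exact hfoc.not_ge hn
  have hfib : ∀ c : ℤ, p ∣ (X.filter fun χ => z χ₀ χ = c).card := by
    intro c
    refine hind.trans ((CharTheory.HeightZeroOrbits.dvd_card_height_zero_pred hM hS
      (fun χ => z χ₀ χ = c) fun χ ψ hχ hψ heq hc => ?_).trans (dvd_of_eq ?_))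
    · show z χ₀ ψ = c
      rw [← hc]
      apply Int.cast_injective (α := ℂ)
      rw [← hz χ₀ hχ₀ ψ hψ, ← hz χ₀ hχ₀ χ hχ]
      simp only [BlockCharsA.Contrib.contrib, Blocks.regSum_eq_sum]
      congr 1
      refine Finset.sum_congr rfl fun s _ => ?_
      split
      · next hs => rw [heq s hs]
      · rfl
    · rw [← Nat.card_eq_finsetCard]
      exact Nat.card_congr (Equiv.subtypeEquivRight fun χ => by simp [X, and_assoc])
  have hd2 : 2 ≤ d := by
    by_contra h
    haveI : IsCyclic D := isCyclic_of_prime_card (p := p) (by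
      rw [hcD, show d = 1 by omega, pow_one])
    letI : CommGroup D := IsCyclic.commGroup
    obtain ⟨k, hk⟩ := IsPGroup.iff_orderOf.1 hAut (MulEquiv.inv D)
    have h2 : MulEquiv.inv D ^ 2 = 1 := MulEquiv.ext fun x => by
      rw [pow_two]; exact inv_inv x
    have hk0 : k = 0 := by
      by_contra hk0
      have h3 := orderOf_dvd_of_pow_eq_one h2
      rw [hk] at h3
      have := Nat.le_of_dvd two_pos ((dvd_pow_self p hk0).trans h3)
      omega
    rw [hk0, pow_zero, orderOf_eq_one_iff] at hk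
    obtain ⟨a, ha⟩ := exists_prime_orderOf_dvd_card' p
      (show p ∣ Nat.card D by rw [hcD]; exact dvd_pow_self p (by omega))
    have h4 : a⁻¹ = a := congrArg (fun f : D ≃* D => f a) hk
    have h5 : a ^ 2 = 1 := by
      rw [pow_two]
      calc a * a = a⁻¹ * a := by rw [h4]
        _ = 1 := inv_mul_cancel a
    have := Nat.le_of_dvd two_pos (ha ▸ orderOf_dvd_of_pow_eq_one h5)
    omega
  have hsq : ∀ c : ℤ, (∀ χ ∈ X.filter (fun χ => z χ₀ χ = c), True) →
      ∑ χ ∈ X.filter (fun χ => z χ₀ χ = c), z χ₀ χ ^ 2 =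
        ((X.filter fun χ => z χ₀ χ = c).card : ℤ) * c ^ 2 := fun c _ => by
    rw [Finset.sum_congr rfl fun χ hχ => by rw [(Finset.mem_filter.1 hχ).2], Finset.sum_const,
      nsmul_eq_mul]
  have hp2 := hrow 2 hd2 le_rfl
  have hdvd : p ∣ X.card := by
    rw [Finset.card_eq_sum_card_fiberwise (f := fun χ => z χ₀ χ) (t := X.image fun χ => z χ₀ χ)
      fun χ hχ => Finset.mem_image_of_mem _ hχ]
    exact Finset.dvd_sum fun c _ => hfib c
  obtain ⟨m, hm⟩ := hdvd
  have hm0 : m ≠ 0 := fun h => by rw [h, mul_zero, Finset.card_eq_zero] at hm; simp [hm] at hXne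
  have hpZ : Prime (p : ℤ) := Nat.prime_iff_prime_int.1 hp
  -- the value at one member and the size of its fibre
  obtain ⟨χ₁, hχ₁⟩ := hXne
  set A := X.filter fun χ => z χ₀ χ = z χ₀ χ₁ with hA
  have hApos : 0 < A.card := Finset.card_pos.2 ⟨χ₁, Finset.mem_filter.2 ⟨hχ₁, rfl⟩⟩
  obtain ⟨i, hi⟩ : p ∣ A.card := hfib _
  have hi0 : i ≠ 0 := fun h => by rw [h, mul_zero] at hi; omega
  have hAle : A.card ≤ X.card := Finset.card_filter_le _ _
  have hfull : ∀ n, X.card = p * n → A.card = X.card → n < p → False := by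
    intro n hn hAX hnp
    have hAX' : A = X := Finset.eq_of_subset_of_card_le (Finset.filter_subset _ _) hAX.ge
    rw [← hAX', hA, hsq _ fun _ _ => trivial, ← hA, hAX, hn, pow_two, Nat.cast_mul, mul_assoc] at hp2
    have h3 := (mul_dvd_mul_iff_left hpZ.ne_zero).1 hp2
    rcases hpZ.dvd_or_dvd h3 with h4 | h4
    · have h5 := Nat.le_of_dvd (Nat.pos_of_ne_zero (fun e => by
        rw [e, mul_zero] at hn; omega)) (Int.natCast_dvd_natCast.1 h4)
      omega
    · exact hunit χ₁ hχ₁ (hpZ.dvd_of_dvd_pow h4)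
  refine ⟨⟨m, hm⟩, fun _ => ?_, fun _ h34 => ?_⟩
  · rcases Nat.lt_or_ge m 2 with h | h
    · obtain rfl : m = 1 := by omega
      exact (hfull 1 hm (le_antisymm hAle (by rw [hm, hi]; exact Nat.mul_le_mul_left p (by omega)))
        (by omega)).elim
    · rw [hm]; nlinarith
  · rcases Nat.lt_or_ge m 3 with h | h
    swap
    · rw [hm]; nlinarith
    have hm2 : m ≤ 2 := by omega
    have hcase : A.card = X.card ∨ (m = 2 ∧ i = 1) := by
      rcases Nat.lt_or_ge i m with h' | h'
      · right; omega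
      · left; nlinarith
    rcases hcase with hAX | ⟨rfl, rfl⟩
    · exact (hfull m hm hAX (by omega)).elim
    exfalso
    obtain ⟨χ₂, hχ₂, hne⟩ : ∃ χ₂ ∈ X, z χ₀ χ₂ ≠ z χ₀ χ₁ := by
      by_contra hcon
      push Not at hcon
      have hAX : A = X := Finset.filter_true_of_mem hcon
      rw [hAX] at hi
      omega
    set C := X.filter fun χ => z χ₀ χ = z χ₀ χ₂ with hC
    obtain ⟨j, hj⟩ : p ∣ C.card := hfib _
    have hj0 : 0 < C.card := Finset.card_pos.2 ⟨χ₂, Finset.mem_filter.2 ⟨hχ₂, rfl⟩⟩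
    have hdisj : Disjoint A C := Finset.disjoint_filter.2 fun χ _ h1 h2 => hne (h2.symm.trans h1)
    have hsub : A ∪ C ⊆ X := Finset.union_subset (Finset.filter_subset _ _) (Finset.filter_subset _ _)
    have hle := Finset.card_le_card hsub
    rw [Finset.card_union_of_disjoint hdisj, hi, hj, hm] at hle
    obtain rfl : j = 1 := by
      have h1 : j ≠ 0 := fun e => by rw [e, mul_zero] at hj; omega
      have h2 : p * j ≤ p * 1 := by linarith
      have := Nat.le_of_mul_le_mul_left h2 hp.pos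
      omega
    have hun : A ∪ C = X := Finset.eq_of_subset_of_card_le hsub
      (by rw [Finset.card_union_of_disjoint hdisj, hi, hj, hm]; omega)
    rw [← hun, Finset.sum_union hdisj, hA, hC, hsq _ fun _ _ => trivial,
      hsq _ fun _ _ => trivial, ← hA, ← hC, hi, hj, mul_one, ← mul_add, pow_two,
      mul_dvd_mul_iff_left hpZ.ne_zero, ← ZMod.intCast_zmod_eq_zero_iff_dvd] at hp2
    push_cast at hp2
    have h1 : ((z χ₀ χ₁ : ℤ) : ZMod p) ≠ 0 := fun e =>
      hunit χ₁ hχ₁ ((ZMod.intCast_zmod_eq_zero_iff_dvd _ _).1 e)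
    refine (ZMod.exists_sq_eq_neg_one_iff.1 ⟨((z χ₀ χ₂ : ℤ) : ZMod p) / ((z χ₀ χ₁ : ℤ) : ZMod p), ?_⟩) h34
    field_simp
    linear_combination -hp2

end Cfsg.Agent.S4978
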