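import Cfsg.Statements.S4989
import Mathlib
import Cfsg.Agent.BlocksChars.ValueMean
-- import your own Cfsg.Agent.* helpers here

set_option autoImplicit false
open Cfsg

namespace Cfsg.Agent.S4989

open Cfsg.Agent.Characters

/-- Let H be a subgroup of the finite group G and χ an irreducible complex character of G. Then the inner product of the restriction of χ to H with itself, (1/#H)·Σ_{h ∈ H} |χ(h)|², is at most 1 + #(Z ∖ H)/#H, where Z is the set of zeros of χ in G. -/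
theorem result {G : Type*} [Group G] [Finite G] (H : Subgroup G) (χ : Cfsg.IrrCharacter G) : (Nat.card ↥H : ℝ)⁻¹ * ∑ᶠ h : ↥H, ‖(χ : G → ℂ) h‖ ^ 2 ≤ 1 + (Set.ncard ({x : G | (χ : G → ℂ) x = 0} \ (H : Set G)) : ℝ) / (Nat.card ↥H : ℝ) := by
  classical
  haveI := Fintype.ofFinite G
  obtain ⟨d, ρ, hρ⟩ := irr_isCharacter χ
  set S : Finset G := Finset.univ.filter fun g => g ∉ H ∧ (χ : G → ℂ) g ≠ 0 with hS
  have h1 := card_le_sum_norm_sq ρ S (fun g hg k hk => by
    simp only [hS, Finset.mem_filter, Finset.mem_univ, true_and] at hg ⊢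
    obtain ⟨j, hj⟩ := Subgroup.mem_zpowers_iff.1
      ((mem_zpowers_pow_iff).2 (Nat.coprime_iff_gcd_eq_one.1
        (Nat.Coprime.coprime_dvd_right (orderOf_dvd_natCard g) hk)) :
        g ∈ Subgroup.zpowers (g ^ k))
    refine ⟨fun hgk => hg.1 (hj ▸ H.zpow_mem hgk j), fun h0 => hg.2 ?_⟩
    haveI : NeZero (Nat.card G) := ⟨Nat.card_pos.ne'⟩
    have hζ := Complex.isPrimitiveRoot_exp (Nat.card G) Nat.card_pos.ne'
    obtain ⟨P, hP⟩ := exists_poly_values ρ g Nat.card_pos pow_card_eq_one' hζ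
    have h2 := aeval_eq_rat_of_primitive Nat.card_pos (hζ.pow_of_coprime k hk) hζ P (q := 0)
      (by rw [← hP k, hρ, h0, Rat.cast_zero])
    rw [← pow_one (Complex.exp _), ← hP 1, pow_one, hρ, Rat.cast_zero] at h2
    exact h2) (fun g hg => by rw [hρ]; exact (Finset.mem_filter.1 hg).2.2)
  rw [hρ] at h1
  have htot : ∑ g : G, ‖(χ : G → ℂ) g‖ ^ 2 = (Nat.card G : ℝ) := by
    have h3 := classInner_isIrr_self χ.2
    rw [classInner_def, inv_mul_eq_iff_eq_mul₀ natCard_ne_zero, mul_one] at h3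
    simp only [Complex.mul_conj'] at h3
    exact_mod_cast h3
  set A : Finset G := Finset.univ.filter fun g => g ∈ H with hA
  set Z : Finset G := Finset.univ.filter fun g => g ∉ H ∧ (χ : G → ℂ) g = 0 with hZ
  have hsplit : ∀ f : G → ℝ, ∑ g : G, f g = ∑ g ∈ A, f g + (∑ g ∈ S, f g + ∑ g ∈ Z, f g) := by
    intro f
    rw [hA, hS, hZ, ← Finset.sum_filter_add_sum_filter_not Finset.univ (fun g => g ∈ H)]
    congr 1
    rw [← Finset.sum_filter_add_sum_filter_not (Finset.univ.filter fun g => ¬ g ∈ H)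
      (fun g => (χ : G → ℂ) g ≠ 0), Finset.filter_filter, Finset.filter_filter]
    simp only [not_not]
  have hH : ∑ᶠ h : ↥H, ‖(χ : G → ℂ) h‖ ^ 2 = ∑ g ∈ A, ‖(χ : G → ℂ) g‖ ^ 2 := by
    rw [finsum_eq_sum_of_fintype, hA]
    exact (Finset.sum_subtype (Finset.univ.filter fun g => g ∈ H) (fun x => by simp) fun g => ‖(χ : G → ℂ) g‖ ^ 2).symm
  have hcard := hsplit fun _ => (1 : ℝ)
  simp only [Finset.sum_const, nsmul_one, Finset.card_univ] at hcard
  have hAc : (A.card : ℝ) = Nat.card ↥H := by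
    rw [Nat.card_eq_fintype_card, Fintype.card_subtype]
  have hZc : (Z.card : ℝ) = (Set.ncard ({x : G | (χ : G → ℂ) x = 0} \ (H : Set G)) : ℝ) := by
    rw [Set.ncard_eq_toFinset_card', hZ]
    congr 2
    ext g
    simp [and_comm]
  have hs := hsplit fun g => ‖(χ : G → ℂ) g‖ ^ 2
  have hZ0 : ∑ g ∈ Z, ‖(χ : G → ℂ) g‖ ^ 2 = 0 := Finset.sum_eq_zero fun g hg => by
    rw [(Finset.mem_filter.1 hg).2.2, norm_zero, zero_pow two_ne_zero]
  rw [htot, hZ0, Nat.card_eq_fintype_card (α := G), hcard, add_zero] at hs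
  rw [hH, ← hZc, inv_mul_le_iff₀ (Nat.cast_pos.2 Nat.card_pos), mul_add, mul_one,
    mul_div_cancel₀ _ (Nat.cast_ne_zero.2 Nat.card_pos.ne')]
  linarith

end Cfsg.Agent.S4989
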