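import Cfsg.Statements.S4993
import Cfsg.Agent.Lib.CharTheory.Primitive.Average
import Cfsg.Agent.Lib.CharTheory.Primitive.Structure
import Cfsg.Agent.BlocksChars.Degrees

set_option linter.style.haveILetI false
set_option linter.unusedSectionVars false

set_option autoImplicit false
open Cfsg

namespace Cfsg.Agent.S4993

open Cfsg.Agent.Characters Cfsg.Agent.CharTheory Cfsg.Agent.CharTheory.Primitive
open scoped commutatorElement

universe u

variable {G : Type u} [Group G] [Fintype G] {F : Subgroup G} [F.Normal]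

theorem primePart_card {V : Type u} [CommGroup V] [Finite V] (r : ℕ) [Fact r.Prime] :
    ∃ W : Subgroup V, Nat.card W = r ^ (Nat.card V).factorization r ∧
      (∀ v, v ∈ W ↔ ∃ a, v ^ r ^ a = 1) := by
  obtain ⟨P⟩ : Nonempty (Sylow r V) := inferInstance
  refine ⟨P, P.card_eq_multiplicity, fun v => ⟨fun hv => ?_, fun ⟨a, ha⟩ => ?_⟩⟩
  · obtain ⟨a, ha⟩ := P.isPGroup' ⟨v, hv⟩
    exact ⟨a, congrArg Subtype.val ha⟩
  · have hp : IsPGroup r (Subgroup.zpowers v) := by
      rintro ⟨x, hx⟩
      obtain ⟨k, rfl⟩ := Subgroup.mem_zpowers_iff.1 hx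
      refine ⟨a, Subtype.ext ?_⟩
      show (v ^ k) ^ r ^ a = 1
      rw [← zpow_natCast, ← zpow_mul, mul_comm, zpow_mul, zpow_natCast, ha, one_zpow]
    haveI : (Subgroup.zpowers v).Normal := inferInstance
    have hle : Subgroup.zpowers v ⊔ (P : Subgroup V) = P :=
      P.3 (hp.to_sup_of_normal_left P.isPGroup') le_sup_right
    exact hle.le (Subgroup.mem_sup_left (Subgroup.mem_zpowers v))

/-- The two-prime case: faithful homogeneous character, nilpotent normal subgroup with nilpotent
quotient. -/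
theorem core {χ : G → ℂ} (hχ : Cfsg.IsIrrCharacter G χ) (hH : Homogeneous χ)
    (hfaith : ∀ g : G, χ g = χ 1 → g = 1) (hodd : Odd (Nat.card G))
    (hnil : Group.IsNilpotent F) (hquot : Group.IsNilpotent (G ⧸ F))
    (p q : ℕ) [Fact p.Prime] [Fact q.Prime] (hpq : p ≠ q)
    (hprimes : ∀ r : ℕ, r.Prime → r ∣ Nat.card G → r = p ∨ r = q) {d : ℕ} (hd : χ 1 = (d : ℂ)) :
    ∃ g : G, d ∣ (Subgroup.centralizer ({g} : Set G)).index := by
  classical
  have hcard := sq_degree_eq hH hfaith F hnil hχ (isIrr_restrict hH F hquot hχ) hd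
  set Z := Subgroup.center F with hZ
  have hVcomm : ∀ a b : F ⧸ Z, a * b = b * a := by
    intro a b
    obtain ⟨a, rfl⟩ := QuotientGroup.mk'_surjective Z a
    obtain ⟨b, rfl⟩ := QuotientGroup.mk'_surjective Z b
    rw [← commutatorElement_eq_one_iff_mul_comm, ← map_commutatorElement, QuotientGroup.mk'_apply,
      QuotientGroup.eq_one_iff]
    have h := commutator_le_center hH hfaith F hnil hχ ⟨_,
      Subgroup.commutator_mem_commutator (Subgroup.mem_top a) (Subgroup.mem_top b), rfl⟩
    exact Subgroup.mem_center_iff.2 fun z => Subtype.ext (Subgroup.mem_center_iff.1 h (z : G))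
  letI : CommGroup (F ⧸ Z) :=
    { (inferInstance : Group (F ⧸ Z)) with mul_comm := hVcomm }
  have hcV : Nat.card (F ⧸ Z) = d ^ 2 :=
    Nat.eq_of_mul_eq_mul_right (Nat.card_pos (α := Z)) (by
      rw [← Subgroup.card_eq_card_quotient_mul_card_subgroup, hcard, mul_comm])
  -- the action
  let c : ∀ g : G, (F ⧸ Z) →* (F ⧸ Z) := fun g =>
    QuotientGroup.map Z Z (MulAut.conjNormal g : F ≃* F).toMonoidHom
      (Subgroup.Characteristic.fixed (inferInstance : Z.Characteristic)
        (MulAut.conjNormal g : F ≃* F)).ge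
  have hc_mk : ∀ (g : G) (x : F), c g (QuotientGroup.mk x) =
      QuotientGroup.mk (MulAut.conjNormal g x) := fun g x => rfl
  have hcmul : ∀ (g h : G) (v : F ⧸ Z), c (g * h) v = c g (c h v) := by
    intro g h v
    induction v using QuotientGroup.induction_on with
    | H x => rw [hc_mk, hc_mk, hc_mk, map_mul, MulAut.mul_apply]
  have hcone : ∀ v : F ⧸ Z, c 1 v = v := by
    intro v
    induction v using QuotientGroup.induction_on with
    | H x => rw [hc_mk, map_one, MulAut.one_apply]
  let ρ : G →* MulAut (F ⧸ Z) :=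
    { toFun := fun g =>
        { toFun := c g
          invFun := c g⁻¹
          left_inv := fun v => by rw [← hcmul, inv_mul_cancel, hcone]
          right_inv := fun v => by rw [← hcmul, mul_inv_cancel, hcone]
          map_mul' := map_mul (c g) }
      map_one' := MulEquiv.ext hcone
      map_mul' := fun g h => MulEquiv.ext (hcmul g h) }
  have hρ : ∀ (g : G) (v : F ⧸ Z), ρ g v = c g v := fun g v => rfl
  have hF : ∀ f ∈ F, ∀ v, ρ f v = v := by
    intro f hf v
    induction v using QuotientGroup.induction_on with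
    | H x =>
      rw [hρ, hc_mk, show MulAut.conjNormal f x = (⟨f, hf⟩ : F) * x * (⟨f, hf⟩ : F)⁻¹ from
        Subtype.ext (MulAut.conjNormal_apply f x), QuotientGroup.mk_mul, QuotientGroup.mk_mul,
        hVcomm _ (QuotientGroup.mk x), QuotientGroup.mk_inv, mul_inv_cancel_right]
  have hfixG : ∀ v, (∀ g, ρ g v = v) → v = 1 := by
    intro v hv
    induction v using QuotientGroup.induction_on with
    | H x =>
      set A := Subgroup.zpowers (x : G) ⊔ Z.map F.subtype with hA
      haveI hZn : (Z.map F.subtype).Normal := Cores.normal_map_subtype F Z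
      have hZc : Z.map F.subtype ≤ Subgroup.center G := abelian_le_center hH hfaith _ (by
        rintro _ ⟨a, ha, rfl⟩ _ ⟨b, hb, rfl⟩
        rw [← map_mul, ← map_mul, Subgroup.mem_center_iff.1 hb a]) hχ
      have hconj : ∀ g : G, g * (x : G) * g⁻¹ ∈ A := by
        intro g
        have h := QuotientGroup.eq.1 ((hv g).symm)
        have h' : (x : G)⁻¹ * (g * x * g⁻¹) ∈ Z.map F.subtype :=
          ⟨_, h, by simp [MulAut.conjNormal_apply]⟩
        have := mul_mem (Subgroup.mem_sup_left (T := Z.map F.subtype)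
          (Subgroup.mem_zpowers (x : G))) (Subgroup.mem_sup_right h')
        rwa [mul_inv_cancel_left] at this
      haveI : A.Normal := ⟨fun a ha g => by
        have hle : A ≤ A.comap (MulAut.conj g).toMonoidHom := sup_le
          (Subgroup.zpowers_le.2 (hconj g)) fun z hz => Subgroup.mem_sup_right (hZn.conj_mem z hz g)
        exact hle ha⟩
      have hab : ∀ a ∈ A, ∀ b ∈ A, a * b = b * a := by
        intro a ha b hb
        have hcen : ∀ y ∈ A, Commute (x : G) y := fun y hy => by
          have : A ≤ Subgroup.centralizer {(x : G)} := sup_le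
            (Subgroup.zpowers_le.2 (Subgroup.mem_centralizer_singleton_iff.2 rfl))
            (hZc.trans (Subgroup.center_le_centralizer _))
          exact (Subgroup.mem_centralizer_singleton_iff.1 (this hy)).symm
        have : A ≤ Subgroup.centralizer {b} := sup_le
          (Subgroup.zpowers_le.2 (Subgroup.mem_centralizer_singleton_iff.2 (hcen b hb)))
          (hZc.trans (Subgroup.center_le_centralizer _))
        exact Subgroup.mem_centralizer_singleton_iff.1 (this ha)
      have hxc := abelian_le_center hH hfaith A hab hχ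
        (Subgroup.mem_sup_left (Subgroup.mem_zpowers (x : G)))
      exact (QuotientGroup.eq_one_iff x).2 (Subgroup.mem_center_iff.2 fun y =>
        Subtype.ext (Subgroup.mem_center_iff.1 hxc (y : G)))
  have hVG : Nat.card (F ⧸ Z) ∣ Nat.card G :=
    (Subgroup.card_quotient_dvd_card Z).trans (Subgroup.card_subgroup_dvd_card F)
  -- one element for each prime
  have hmain : ∀ (r s : ℕ) [Fact r.Prime] [Fact s.Prime], r ≠ s →
      (∀ t : ℕ, t.Prime → t ∣ Nat.card G → t = r ∨ t = s) →
      ∀ (Q : Sylow s G), ∃ b ∈ (Q : Subgroup G), ∀ W : Subgroup (F ⧸ Z),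
        (∀ v, v ∈ W ↔ ∃ a, v ^ r ^ a = 1) → Nat.card ↥(W ⊓ fixSub (ρ b)) ^ 2 ≤ Nat.card W := by
    intro r s _ _ hrs hprimes Q
    obtain ⟨W, hWc, hWm⟩ := primePart_card (V := F ⧸ Z) r
    have hinv : ∀ (g : G), ∀ w ∈ W, ρ g w ∈ W := fun g w hw => by
      obtain ⟨a, ha⟩ := (hWm w).1 hw
      exact (hWm _).2 ⟨a, by rw [← map_pow, ha, map_one]⟩
    have hsW : ¬ s ∣ Nat.card W := by
      rw [hWc]
      exact fun h => hrs ((Nat.prime_dvd_prime_iff_eq Fact.out Fact.out).1
        ((Fact.out : s.Prime).dvd_of_dvd_pow h)).symm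
    have hfixQ : ∀ w ∈ W, (∀ b : (Q : Subgroup G), ρ b w = w) → w = 1 := by
      intro w₀ hw₀ hwQ₀
      by_contra hne
      let U : Subgroup (F ⧸ Z) := W ⊓ ⨅ b : (Q : Subgroup G), fixSub (ρ b)
      have hw₀U : w₀ ∈ U := ⟨hw₀, Subgroup.mem_iInf.2 fun b => hwQ₀ b⟩
      -- `Q F` is normal
      haveI := hquot
      have hQn : ∀ (g : G), ∀ b ∈ (Q : Subgroup G),
          ∃ b' ∈ (Q : Subgroup G), ∃ f ∈ F, b * g = g * (b' * f) := by
        intro g b hb
        let Qb : Sylow s (G ⧸ F) := Q.mapSurjective (QuotientGroup.mk'_surjective F)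
        haveI : Subgroup.Normal (Qb : Subgroup (G ⧸ F)) := inferInstance
        have : (g : G ⧸ F)⁻¹ * b * g ∈ (Qb : Subgroup (G ⧸ F)) := by
          have h := (inferInstance : Subgroup.Normal (Qb : Subgroup (G ⧸ F))).conj_mem (b : G ⧸ F)
            ⟨b, hb, rfl⟩ (g : G ⧸ F)⁻¹
          rwa [inv_inv] at h
        obtain ⟨b', hb', he⟩ := this
        refine ⟨b', hb', b'⁻¹ * g⁻¹ * b * g, ?_, by group⟩
        refine (QuotientGroup.eq_one_iff _).1 ?_
        rw [QuotientGroup.mk_mul, QuotientGroup.mk_mul, QuotientGroup.mk_mul, QuotientGroup.mk_inv,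
          QuotientGroup.mk_inv, show (b' : G ⧸ F) = _ from he]
        group
      have hUinv : ∀ (g : G), ∀ u ∈ U, ρ g u ∈ U := by
        intro g u hu
        refine ⟨hinv g u hu.1, Subgroup.mem_iInf.2 fun b => ?_⟩
        obtain ⟨b', hb', f, hf, he⟩ := hQn g b b.2
        show ρ b (ρ g u) = ρ g u
        rw [← MulAut.mul_apply, ← map_mul, he, map_mul, map_mul, MulAut.mul_apply, MulAut.mul_apply,
          hF f hf]
        exact congrArg (ρ g) (Subgroup.mem_iInf.1 hu.2 ⟨b', hb'⟩)
      obtain ⟨P⟩ : Nonempty (Sylow r G) := inferInstance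
      letI : MulAction P U :=
        { smul := fun g w => ⟨ρ g w, hUinv g w w.2⟩
          one_smul := fun w => Subtype.ext (by show ρ 1 (w : F ⧸ Z) = w; simp)
          mul_smul := fun g h w => Subtype.ext (by
            show ρ ((g : G) * h) (w : F ⧸ Z) = ρ g (ρ h w); simp) }
      have hrU : r ∣ Nat.card U := by
        have hUW : Nat.card U ∣ r ^ (Nat.card (F ⧸ Z)).factorization r :=
          hWc ▸ Subgroup.card_dvd_of_le inf_le_left
        obtain ⟨k, -, hk⟩ := (Nat.dvd_prime_pow Fact.out).1 hUW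
        rw [hk]
        refine dvd_pow_self r fun h0 => hne ?_
        rw [h0, pow_zero] at hk
        exact Subgroup.mem_bot.1 (Subgroup.card_eq_one.1 hk ▸ hw₀U)
      obtain ⟨w, hw, hw1⟩ := P.isPGroup'.exists_fixed_point_of_prime_dvd_card_of_fixed_point U hrU
        (a := 1) (fun g => Subtype.ext (map_one (ρ g)))
      let T : Subgroup G :=
        { carrier := {g | ρ g (w : F ⧸ Z) = w}
          one_mem' := by simp
          mul_mem' := fun {a b} (ha : ρ a _ = _) (hb : ρ b _ = _) => by
            show ρ (a * b) _ = _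
            rw [map_mul, MulAut.mul_apply, hb, ha]
          inv_mem' := fun {a} (ha : ρ a _ = _) => by
            show ρ a⁻¹ _ = _
            conv_lhs => rw [← ha, ← MulAut.mul_apply, ← map_mul, inv_mul_cancel, map_one,
              MulAut.one_apply] }
      have hPT : (P : Subgroup G) ≤ T := fun g hg => congrArg Subtype.val (hw ⟨g, hg⟩)
      have hQT : (Q : Subgroup G) ≤ T := fun g hg => Subgroup.mem_iInf.1 w.2.2 ⟨g, hg⟩
      have hT : T = ⊤ := by
        refine Subgroup.eq_top_of_card_eq T (Nat.dvd_antisymm (Subgroup.card_subgroup_dvd_card T) ?_)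
        refine (Nat.factorization_le_iff_dvd Nat.card_pos.ne' Nat.card_pos.ne').1 fun t => ?_
        by_cases ht : t.Prime
        swap
        · simp [Nat.factorization_eq_zero_of_not_prime _ ht]
        by_cases htd : t ∣ Nat.card G
        swap
        · exact (Nat.factorization_eq_zero_of_not_dvd htd).le.trans (Nat.zero_le _)
        refine (Nat.Prime.pow_dvd_iff_le_factorization ht Nat.card_pos.ne').1 ?_
        rcases hprimes t ht htd with rfl | rfl
        · exact P.card_eq_multiplicity ▸ Subgroup.card_dvd_of_le hPT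
        · exact Q.card_eq_multiplicity ▸ Subgroup.card_dvd_of_le hQT
      exact hw1 (Subtype.ext (hfixG w fun g => (hT.ge (Subgroup.mem_top g) :))).symm
    obtain ⟨b, hb⟩ := exists_fix_le (ρ.comp (Q : Subgroup G).subtype) Q.isPGroup' W
      (fun b w hw => hinv b w hw) hsW hfixQ
    refine ⟨b, b.2, fun W' hW' => ?_⟩
    have hWW : W' = W := SetLike.ext fun v => (hW' v).trans (hWm v).symm
    rw [hWW]
    have h2 : 2 ≤ s := (Fact.out : s.Prime).two_le
    exact le_trans (Nat.pow_le_pow_right Nat.card_pos h2) hb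
  obtain ⟨P⟩ : Nonempty (Sylow p G) := inferInstance
  obtain ⟨Q⟩ : Nonempty (Sylow q G) := inferInstance
  obtain ⟨b, hbQ, hb⟩ := hmain p q hpq hprimes Q
  obtain ⟨a, haP, ha⟩ := hmain q p (Ne.symm hpq) (fun t ht hd => (hprimes t ht hd).symm) P
  refine ⟨a * b, ?_⟩
  -- `a` and `b` commute modulo `F`
  have hcommF : Commute (a : G ⧸ F) (b : G ⧸ F) := by
    haveI := hquot
    refine Subgroup.commute_of_normal_of_disjoint
      (P.mapSurjective (QuotientGroup.mk'_surjective F) : Subgroup (G ⧸ F))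
      (Q.mapSurjective (QuotientGroup.mk'_surjective F) : Subgroup (G ⧸ F))
      inferInstance inferInstance ?_ _ _ ⟨a, haP, rfl⟩ ⟨b, hbQ, rfl⟩
    exact IsPGroup.disjoint_of_ne p q hpq _ _ (Sylow.isPGroup' _) (Sylow.isPGroup' _)
  obtain ⟨k, hk⟩ := P.isPGroup' ⟨a, haP⟩
  obtain ⟨l, hl⟩ := Q.isPGroup' ⟨b, hbQ⟩
  have hk' : a ^ p ^ k = 1 := congrArg Subtype.val hk
  have hl' : b ^ q ^ l = 1 := congrArg Subtype.val hl
  have hcopkl : (p ^ k).Coprime (q ^ l) :=
    Nat.Coprime.pow k l ((Nat.coprime_primes Fact.out Fact.out).2 hpq)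
  have hrec : ∀ (m : ℕ) (y : G), ((a * b) ^ m)⁻¹ * y ∈ F →
      ∀ v, ρ (a * b) v = v → ρ y v = v := by
    intro m y hy v hv
    rw [show y = (a * b) ^ m * (((a * b) ^ m)⁻¹ * y) by group, map_mul, MulAut.mul_apply, hF _ hy,
      map_pow]
    exact mem_fixSub_pow hv m
  have hfixb : ∀ v, ρ (a * b) v = v → ρ b v = v := by
    obtain ⟨n, hn0, hn1⟩ := Nat.chineseRemainder hcopkl 0 1
    refine hrec n b (QuotientGroup.eq.1 ?_)
    rw [QuotientGroup.mk_pow, QuotientGroup.mk_mul, hcommF.mul_pow]
    rw [show (a : G ⧸ F) ^ n = 1 by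
      rw [← QuotientGroup.mk_pow, pow_eq_pow_mod n hk', show n % p ^ k = 0 % p ^ k from hn0,
        Nat.zero_mod, pow_zero, QuotientGroup.mk_one], one_mul, ← QuotientGroup.mk_pow,
      pow_eq_pow_mod n hl', show n % q ^ l = 1 % q ^ l from hn1, ← pow_eq_pow_mod 1 hl', pow_one]
  have hfixa : ∀ v, ρ (a * b) v = v → ρ a v = v := by
    obtain ⟨n, hn1, hn0⟩ := Nat.chineseRemainder hcopkl 1 0
    refine hrec n a (QuotientGroup.eq.1 ?_)
    rw [QuotientGroup.mk_pow, QuotientGroup.mk_mul, hcommF.mul_pow]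
    rw [show (b : G ⧸ F) ^ n = 1 by
      rw [← QuotientGroup.mk_pow, pow_eq_pow_mod n hl', show n % q ^ l = 0 % q ^ l from hn0,
        Nat.zero_mod, pow_zero, QuotientGroup.mk_one], mul_one, ← QuotientGroup.mk_pow,
      pow_eq_pow_mod n hk', show n % p ^ k = 1 % p ^ k from hn1, ← pow_eq_pow_mod 1 hk', pow_one]
  set X := fixSub (ρ (a * b)) with hX
  have hd0 : d ≠ 0 := by
    rintro rfl
    rw [zero_pow two_ne_zero] at hcV
    exact Nat.card_pos.ne' hcV
  have hdiv : d * Nat.card X ∣ Nat.card (F ⧸ Z) := by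
    refine (Nat.factorization_le_iff_dvd (mul_ne_zero hd0 Nat.card_pos.ne') Nat.card_pos.ne').1
      fun t => ?_
    rw [Nat.factorization_mul hd0 Nat.card_pos.ne', Finsupp.add_apply]
    by_cases ht : t.Prime
    swap
    · simp [Nat.factorization_eq_zero_of_not_prime _ ht]
    have hVt : (Nat.card (F ⧸ Z)).factorization t = 2 * d.factorization t := by
      rw [hcV, Nat.factorization_pow, Finsupp.smul_apply, smul_eq_mul]
    by_cases htd : t ∣ Nat.card (F ⧸ Z)
    swap
    · rw [Nat.factorization_eq_zero_of_not_dvd htd] at hVt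
      rw [Nat.factorization_eq_zero_of_not_dvd (fun h => htd (h.trans X.card_subgroup_dvd_card))]
      omega
    haveI := Fact.mk ht
    have key : ∀ c : G, (∀ v, ρ (a * b) v = v → ρ c v = v) → (∀ W : Subgroup (F ⧸ Z),
        (∀ v, v ∈ W ↔ ∃ e, v ^ t ^ e = 1) → Nat.card ↥(W ⊓ fixSub (ρ c)) ^ 2 ≤ Nat.card W) →
        2 * (Nat.card X).factorization t ≤ (Nat.card (F ⧸ Z)).factorization t := by
      intro c hc hW
      obtain ⟨W, hWc, hWm⟩ := primePart_card (V := F ⧸ Z) t
      obtain ⟨S, hSc, hSm⟩ := primePart_card (V := X) t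
      have hle : S.map X.subtype ≤ W ⊓ fixSub (ρ c) := by
        rintro _ ⟨v, hv, rfl⟩
        obtain ⟨e, he⟩ := (hSm v).1 hv
        exact ⟨(hWm _).2 ⟨e, congrArg Subtype.val he⟩, hc _ v.2⟩
      have h1 := Nat.pow_le_pow_left (Subgroup.card_le_of_le hle) 2
      rw [Subgroup.card_map_of_injective X.subtype_injective, hSc] at h1
      have h2 := h1.trans (hW W hWm)
      rw [hWc, ← pow_mul] at h2
      have := (Nat.pow_le_pow_iff_right ht.one_lt).1 h2
      omega
    have h3 : 2 * (Nat.card X).factorization t ≤ (Nat.card (F ⧸ Z)).factorization t := by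
      rcases hprimes t ht (htd.trans hVG) with rfl | rfl
      · exact key b hfixb hb
      · exact key a hfixa ha
    omega
  have hdX : d ∣ X.index := by
    refine Nat.dvd_of_mul_dvd_mul_right (Nat.card_pos (α := X)) ?_
    rwa [mul_comm X.index, X.card_mul_index]
  refine hdX.trans ?_
  set C := Subgroup.centralizer ({a * b} : Set G)
  have hle : C.subgroupOf F ≤ X.comap (QuotientGroup.mk' Z) := by
    intro f hf
    show ρ (a * b) (QuotientGroup.mk f) = QuotientGroup.mk f
    rw [hρ, hc_mk]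
    refine congrArg _ (Subtype.ext ?_)
    rw [MulAut.conjNormal_apply, mul_inv_eq_iff_eq_mul]
    exact (Subgroup.mem_centralizer_singleton_iff.1 (hf : (f : G) ∈ C)).symm
  rw [← Subgroup.index_comap_of_surjective X (QuotientGroup.mk'_surjective Z)]
  refine (Subgroup.index_dvd_of_le hle).trans ?_
  show C.relIndex F ∣ C.index
  have h1 := Subgroup.relIndex_mul_relIndex (C ⊓ F) F (C ⊔ F) inf_le_right le_sup_right
  have h2 := Subgroup.relIndex_mul_relIndex (C ⊓ F) C (C ⊔ F) inf_le_left le_sup_left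
  rw [Subgroup.inf_relIndex_right, Subgroup.relIndex_sup_right] at h1
  rw [Subgroup.inf_relIndex_left, ← h1, mul_comm (F.relIndex C)] at h2
  rw [← Nat.eq_of_mul_eq_mul_right (Nat.pos_of_ne_zero Subgroup.index_ne_zero_of_finite) h2]
  exact Dvd.intro _ (Subgroup.relIndex_mul_index le_sup_left)


/-- Let G be a group of odd order whose order has exactly two prime divisors and whose quotient by its Fitting subgroup is nilpotent (G is metanilpotent), and let χ be a primitive irreducible complex character of G (not induced from a character of any proper subgroup). Then χ(1) divides the size of some conjugacy class of G. -/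
theorem result {G : Type*} [Group G] [Fintype G] (hodd : Odd (Nat.card G)) (h2 : (Nat.card G).primeFactors.card = 2) [hF : (Cfsg.fittingSubgroup G).Normal] (hmeta : Group.IsNilpotent (G ⧸ Cfsg.fittingSubgroup G)) (χ : Cfsg.IrrCharacter G) (hprim : ¬ ∃ (H : Subgroup G), H ≠ ⊤ ∧ ∃ θ : ↥H → ℂ, Cfsg.IsCharacter ↥H θ ∧ Cfsg.indFun H θ = (χ : G → ℂ)) : ∃ g : G, Cfsg.charDegree (χ : G → ℂ) ∣ (Subgroup.centralizer ({g} : Set G)).index := by
  classical
  obtain ⟨p, q, hpq, hpqs⟩ := Finset.card_eq_two.1 h2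
  have hp : p.Prime := Nat.prime_of_mem_primeFactors (hpqs ▸ Finset.mem_insert_self p _)
  have hq : q.Prime := Nat.prime_of_mem_primeFactors
    (hpqs ▸ Finset.mem_insert_of_mem (Finset.mem_singleton_self q))
  haveI := Fact.mk hp
  haveI := Fact.mk hq
  have hχc := irr_isCharacter χ
  set N := charKernel (χ : G → ℂ) hχc with hN
  haveI : N.Normal := charKernel_normal hχc
  obtain ⟨ψ, -, hψ, hψi⟩ := exists_deflate_quotient N hχc (fun x hx => hx)
  haveI := Fintype.ofFinite (G ⧸ N)
  have hπ : Function.Surjective (QuotientGroup.mk' N) := QuotientGroup.mk'_surjective N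
  have hH : Homogeneous ψ := homogeneous_of_not_induced (QuotientGroup.mk' N) hπ (hψi χ.2) (by
    rw [show ψ ∘ QuotientGroup.mk' N = (χ : G → ℂ) from funext hψ]
    exact hprim)
  have hfaith : ∀ x : G ⧸ N, ψ x = ψ 1 → x = 1 := by
    intro x hx
    induction x using QuotientGroup.induction_on with
    | H g =>
      refine (QuotientGroup.eq_one_iff g).2 (mem_charKernel.2 ?_)
      rw [← hψ, ← hψ, hx, QuotientGroup.mk_one]
  haveI : ((Cfsg.fittingSubgroup G).map (QuotientGroup.mk' N)).Normal := hF.map _ hπ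
  have hnil : Group.IsNilpotent ((Cfsg.fittingSubgroup G).map (QuotientGroup.mk' N)) :=
    Cores.isNilpotent_map _ _ Cores.fittingSubgroup_isNilpotent
  haveI := hmeta
  have hquot : Group.IsNilpotent
      ((G ⧸ N) ⧸ (Cfsg.fittingSubgroup G).map (QuotientGroup.mk' N)) :=
    Group.nilpotent_of_surjective (QuotientGroup.map (Cfsg.fittingSubgroup G) _
      (QuotientGroup.mk' N) (Subgroup.le_comap_map _ _)) (fun x => by
      induction x using QuotientGroup.induction_on with
      | H y =>
        obtain ⟨g, rfl⟩ := hπ y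
        exact ⟨QuotientGroup.mk g, rfl⟩)
  have hdvd : Nat.card (G ⧸ N) ∣ Nat.card G := Subgroup.card_quotient_dvd_card N
  have hψd : ψ 1 = (Cfsg.charDegree (χ : G → ℂ) : ℂ) := by
    rw [BlocksChars.Degrees.charDegree_cast χ, ← hψ 1, QuotientGroup.mk_one]
  obtain ⟨g', hg'⟩ := core (F := (Cfsg.fittingSubgroup G).map (QuotientGroup.mk' N)) (hψi χ.2) hH
    hfaith (hodd.of_dvd_nat hdvd) hnil hquot p q hpq (fun r hr hrd => by
      have : r ∈ (Nat.card G).primeFactors :=
        Nat.mem_primeFactors.2 ⟨hr, hrd.trans hdvd, Nat.card_pos.ne'⟩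
      rw [hpqs] at this
      simpa using this) hψd
  obtain ⟨g, rfl⟩ := hπ g'
  refine ⟨g, hg'.trans ?_⟩
  refine (Subgroup.index_dvd_of_le (?_ : (Subgroup.centralizer ({g} : Set G)).map
    (QuotientGroup.mk' N) ≤ _)).trans (Subgroup.index_map_dvd _ hπ)
  rintro _ ⟨x, hx, rfl⟩
  refine Subgroup.mem_centralizer_singleton_iff.2 ?_
  rw [← map_mul, ← map_mul, Subgroup.mem_centralizer_singleton_iff.1 hx]

end Cfsg.Agent.S4993
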