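import Cfsg.Statements.S5001
import Mathlib
import Cfsg.Agent.Lib.Blocks.CentralBlock
import Cfsg.Agent.Lib.Blocks.CentralDefect
import Cfsg.Agent.Lib.Characters.Kernel
-- import your own Cfsg.Agent.* helpers here

set_option autoImplicit false
open Cfsg

namespace Cfsg.Agent.S5001

open Cfsg.Agent.Blocks Cfsg.Agent.Characters
open scoped ComplexConjugate

theorem value_not_ideal {G : Type*} [Group G] [Finite G] {p : ℕ} {M : Ideal Cfsg.AlgInt}
    (hM : Cfsg.IsPModular p M) {B : Set (Cfsg.IrrCharacter G)} (hB : Cfsg.IsPBlock M B) {g : G}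
    (hg : Cfsg.IsDefectClass M B g) {χ : Cfsg.IrrCharacter G} (hχ : χ ∈ B)
    (h0 : Cfsg.blockHeight p B (χ : G → ℂ) = 0) : ¬ Cfsg.MemLocalIdeal M ((χ : G → ℂ) g) := by
  intro hi
  apply hg.2.2 χ hχ
  have hle : (Cfsg.charDegree (χ : G → ℂ)).factorization p ≤
      (Subgroup.centralizer ({g} : Set G)).index.factorization p := by
    have := h0
    rw [Cfsg.blockHeight, sInf_degree_eq hM hB hg] at this
    omega
  rw [Cfsg.centralChar, mul_div_right_comm, ← charDegree_cast χ]
  exact ideal_mul_left hM (ring_natCast_div hM (charDegree_pos χ).ne' hle) hi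

theorem exists_scalar_shift {G : Type*} [Group G] [Finite G] (χ : Cfsg.IrrCharacter G) {t : G}
    (ht : t ∈ Subgroup.center G) {c : ℂ} (h : (χ : G → ℂ) t = (χ : G → ℂ) 1 * c) (g : G) :
    (χ : G → ℂ) (g * t) = c * (χ : G → ℂ) g := by
  rw [(centralRatio_spec χ ht).2 g, centralRatio, h, mul_div_cancel_left₀ c (irr_one_ne_zero χ.2)]

/-- Let p be a prime, G a finite group and B a p-block of G (relative to a maximal ideal M of the algebraic integers containing p) with defect group D. Let Z be a central p-subgroup of G contained in D and λ a linear character of Z (a homomorphism to the nonzero complex numbers). Say an irreducible character χ of G lies over λ when χ(z) = χ(1)λ(z) for all z ∈ Z. If some irreducible character in B lying over λ has height zero, then λ extends to a linear character of D. -/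
theorem result {G : Type*} [Group G] [Finite G] (p : ℕ) [Fact p.Prime] (M : Ideal Cfsg.AlgInt) (hM : Cfsg.IsPModular p M) (B : Set (Cfsg.IrrCharacter G)) (hB : Cfsg.IsPBlock M B) (D : Subgroup G) (hD : Cfsg.IsDefectGroup p M B D) (Z : Subgroup G) (hZc : Z ≤ Subgroup.center G) (hZp : IsPGroup p ↥Z) (hZD : Z ≤ D) (lam : ↥Z →* ℂˣ) (χ : Cfsg.IrrCharacter G) (hχ : χ ∈ B) (hover : (∀ z : ↥Z, (χ : G → ℂ) z = (χ : G → ℂ) 1 * (lam z : ℂ))) (h0 : Cfsg.blockHeight p B (χ : G → ℂ) = 0) : (∃ μ : ↥D →* ℂˣ, ∀ z : ↥Z, μ ⟨(z : G), hZD z.2⟩ = lam z) := by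
  classical
  haveI := Fintype.ofFinite G
  obtain ⟨g, hg, P, hDP⟩ := hD
  set H := Subgroup.centralizer ({g} : Set G) with hHdef
  have hDH : D ≤ H := hDP ▸ Subgroup.map_subtype_le _
  have hgH : g ∈ H := by
    rw [hHdef, Subgroup.mem_centralizer_singleton_iff]
  have hgc : (⟨g, hgH⟩ : H) ∈ Subgroup.center H := by
    refine Subgroup.mem_center_iff.2 fun x => Subtype.ext ?_
    exact (Subgroup.mem_centralizer_singleton_iff.1 (hHdef ▸ x.2 :
      (x : G) ∈ Subgroup.centralizer ({g} : Set G)))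
  have hu := value_not_ideal hM hB hg hχ h0
  haveI := Fintype.ofFinite (Cfsg.IrrCharacter H)
  have hf : Cfsg.IsCharacter H (fun h : H => (χ : G → ℂ) h) :=
    isCharacter_restrict H (irr_isCharacter χ)
  obtain ⟨η, hη⟩ : ∃ η : Cfsg.IrrCharacter H, ¬ Cfsg.MemLocalIdeal M
      (Cfsg.classInner (fun h : H => (χ : G → ℂ) h) (η : H → ℂ) * (η : H → ℂ) ⟨g, hgH⟩) := by
    by_contra hcon
    push Not at hcon
    apply hu
    have hexp := congrFun (classFun_eq_sum (char_isClassFunction hf)) ⟨g, hgH⟩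
    simp only [Finset.sum_apply, Pi.smul_apply, smul_eq_mul] at hexp
    rw [hexp]
    exact ideal_sum hM fun η _ => hcon η
  obtain ⟨n, hn⟩ := classInner_char_nat hf (irr_isCharacter η)
  rw [hn] at hη
  have hn0 : (n : ℂ) ≠ 0 := left_ne_zero_of_mul (ne_zero_of_not_ideal hM hη)
  obtain ⟨d, ρ, hρirr, hρ⟩ := η.2
  have hd1 : (η : H → ℂ) 1 = (d : ℂ) := by
    rw [← hρ, Representation.char_one, Module.finrank_fin_fun]
  have hpd : ¬ p ∣ d := by
    intro hdvd
    apply hη
    refine ideal_mul_left hM (ring_natCast hM n) ?_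
    have h1 := (centralRatio_spec η hgc).2 1
    rw [one_mul, hd1] at h1
    rw [h1, mul_comm]
    refine ideal_mul_right hM ((ideal_natCast_iff hM d).2 hdvd) ?_
    obtain ⟨c, hc⟩ : ∃ c : ℂ, ∀ v, ρ ⟨g, hgH⟩ v = c • v := by
      obtain ⟨c, hc⟩ := schur_scalar ρ (ρ ⟨g, hgH⟩) (fun x v => by
        rw [← Module.End.mul_apply, ← Module.End.mul_apply, ← map_mul, ← map_mul,
          Subgroup.mem_center_iff.1 hgc x])
      exact ⟨c, fun v => by rw [hc]; rfl⟩
    have hval : (η : H → ℂ) ⟨g, hgH⟩ = c * d := by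
      rw [← hρ, Representation.character, show ρ ⟨g, hgH⟩ = c • LinearMap.id from
        LinearMap.ext hc, map_smul, LinearMap.trace_id, Module.finrank_fin_fun, smul_eq_mul]
    have hd0 : (d : ℂ) ≠ 0 := hd1 ▸ irr_one_ne_zero η.2
    rw [centralRatio, hval, hd1, mul_div_assoc, div_self hd0, mul_one]
    have hpow : ∀ (k : ℕ) (v : Fin d → ℂ), ρ (⟨g, hgH⟩ ^ k : H) v = c ^ k • v := by
      intro k
      induction k with
      | zero => intro v; simp
      | succ k ih =>
        intro v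
        rw [pow_succ, map_mul, Module.End.mul_apply, hc, map_smul, ih, smul_smul, ← pow_succ']
    haveI : NeZero d := ⟨Nat.cast_ne_zero.1 hd0⟩
    have h3 := congrFun ((hpow (Nat.card H) (fun _ => 1)).symm.trans
      (by rw [pow_card_eq_one', map_one, Module.End.one_apply])) 0
    simp only [Pi.smul_apply, smul_eq_mul, mul_one] at h3
    exact ring_of_pow_eq_one hM Nat.card_pos.ne' h3
  have hzH : ∀ z : Z, (z : G) ∈ H := fun z => hDH (hZD z.2)
  have hzc : ∀ z : Z, (⟨z, hzH z⟩ : H) ∈ Subgroup.center H := fun z =>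
    Subgroup.mem_center_iff.2 fun x => Subtype.ext (Subgroup.mem_center_iff.1 (hZc z.2) x)
  have hrat : ∀ z : Z, centralRatio (η : H → ℂ) ⟨z, hzH z⟩ = (lam z : ℂ) := by
    intro z
    obtain ⟨hω, hsh⟩ := centralRatio_spec η (hzc z)
    set ω := centralRatio (η : H → ℂ) ⟨z, hzH z⟩
    have h1 : Cfsg.classInner (fun h : H => (χ : G → ℂ) h) (η : H → ℂ) =
        (lam z : ℂ) * conj ω * Cfsg.classInner (fun h : H => (χ : G → ℂ) h) (η : H → ℂ) := by
      unfold Cfsg.classInner
      conv_rhs => rw [mul_left_comm, Finset.mul_sum]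
      rw [← Equiv.sum_comp (Equiv.mulRight (⟨z, hzH z⟩ : H))]
      congr 1
      refine Finset.sum_congr rfl fun h _ => ?_
      simp only [Equiv.coe_mulRight, Subgroup.coe_mul, hsh,
        exists_scalar_shift χ (hZc z.2) (hover z), map_mul]
      ring
    rw [hn] at h1
    have h2 : (lam z : ℂ) * conj ω = 1 := (mul_eq_right₀ hn0).1 h1.symm
    calc ω = (lam z : ℂ) * (ω * conj ω) := by rw [mul_left_comm, h2, mul_one]
      _ = _ := by rw [hω, mul_one]
  have hscal : ∀ z : Z, ρ ⟨z, hzH z⟩ = (lam z : ℂ) • LinearMap.id := by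
    intro z
    obtain ⟨c, hc⟩ := schur_scalar ρ (ρ ⟨z, hzH z⟩) (fun x v => by
      rw [← Module.End.mul_apply, ← Module.End.mul_apply, ← map_mul, ← map_mul,
        Subgroup.mem_center_iff.1 (hzc z) x])
    have hd0 : (d : ℂ) ≠ 0 := hd1 ▸ irr_one_ne_zero η.2
    have h := hrat z
    rw [centralRatio, hd1, ← hρ, Representation.character, hc, map_smul, LinearMap.trace_id,
      Module.finrank_fin_fun, smul_eq_mul, mul_div_assoc, div_self hd0, mul_one] at h
    rw [hc, h]
  let μ₀ : D →* ℂˣ := MonoidHom.toHomUnits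
    (((LinearMap.det : ((Fin d → ℂ) →ₗ[ℂ] (Fin d → ℂ)) →* ℂ).comp ρ).comp
      (Subgroup.inclusion hDH))
  have hμ₀ : ∀ z : Z, μ₀ ⟨z, hZD z.2⟩ = lam z ^ d := by
    intro z
    apply Units.ext
    show LinearMap.det (ρ ⟨z, hzH z⟩) = _
    rw [hscal z, LinearMap.det_smul, LinearMap.det_id, mul_one, Module.finrank_fin_fun,
      Units.val_pow_eq_pow_val]
  obtain ⟨e, he⟩ := IsPGroup.iff_card.1 hZp
  obtain ⟨k, hk⟩ : ∃ k, d * k ≡ 1 [MOD Nat.card Z] := by
    rcases Nat.eq_or_lt_of_le (Nat.one_le_iff_ne_zero.2 Nat.card_pos.ne' :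
        1 ≤ Nat.card Z) with h1 | h1
    · exact ⟨0, by rw [← h1]; exact Nat.modEq_one⟩
    · have hcop : Nat.Coprime d (Nat.card Z) := by
        rw [he]
        exact ((Nat.Prime.coprime_iff_not_dvd Fact.out).2 hpd).symm.pow_right e
      obtain ⟨k, -, hk⟩ := Nat.exists_mul_mod_eq_one_of_coprime hcop h1
      exact ⟨k, by rw [Nat.ModEq, hk, Nat.mod_eq_of_lt h1]⟩
  refine ⟨μ₀ ^ k, fun z => ?_⟩
  rw [MonoidHom.pow_apply, hμ₀, ← pow_mul]
  have hz1 : lam z ^ Nat.card Z = 1 := by rw [← map_pow, pow_card_eq_one', map_one]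
  conv_rhs => rw [← pow_one (lam z)]
  exact pow_eq_pow_of_modEq hk hz1

end Cfsg.Agent.S5001
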