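import Cfsg.Statements.S5010
import Cfsg.Agent.Lib.CharTheory.Primitive.Regular
import Cfsg.Agent.Lib.Characters.Monomial
import Cfsg.Agent.Lib.Cores.Fitting
import Cfsg.Agent.Lib.Coprime.PGroup
import Cfsg.Agent.Lib.CharTheory.KGV.Weights
import Cfsg.Agent.BlocksChars.DerivedLength
import Cfsg.Agent.BlocksChars.EqualDegreeGalois

set_option linter.style.haveILetI false
set_option linter.unusedSectionVars false

set_option autoImplicit false
open Cfsg

namespace Cfsg.Agent.S5010

open Cfsg.Agent.Characters Cfsg.Agent.CharTheory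
open scoped commutatorElement

universe u

/-- A nilpotent group all of whose character degrees are squarefree is metabelian. -/
theorem derived_two_nilpotent {F : Type u} [Group F] [Finite F] [Group.IsNilpotent F]
    (h : ∀ χ : Cfsg.IrrCharacter F, Squarefree (Cfsg.charDegree (χ : F → ℂ))) :
    derivedSeries F 2 = ⊥ := by
  classical
  haveI := Fintype.ofFinite F
  rw [Subgroup.eq_bot_iff_forall]
  intro x hx
  refine eq_one_of_forall_irr fun χ => ?_
  obtain ⟨U, lam, hχ⟩ := Monomial.monomial_of_nilpotent χ.2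
  have hdeg : Cfsg.charDegree (χ : F → ℂ) = U.index := by
    rw [Cfsg.charDegree, hχ, indFun_one]
    simp
  have hsq : Squarefree U.index := hdeg ▸ h χ
  let R : Subgroup F := ⨆ (p : (Nat.card F).primeFactors) (P : Sylow (p : ℕ) F),
    ⁅(P : Subgroup F), (P : Subgroup F)⁆
  have hRU : R ≤ U := by
    refine iSup₂_le fun p P => ?_
    haveI : Fact (p : ℕ).Prime := ⟨Nat.prime_of_mem_primeFactors p.2⟩
    haveI : (P : Subgroup F).Normal := inferInstance
    haveI : Group.IsNilpotent (P : Subgroup F) := P.isPGroup'.isNilpotent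
    rw [← Subgroup.map_subtype_commutator]
    refine le_trans (Subgroup.map_mono ?_) (Subgroup.map_subgroupOf_eq_of_le
      (inf_le_right : U ⊓ (P : Subgroup F) ≤ P) ▸ inf_le_left)
    rw [Subgroup.inf_subgroupOf_right]
    set W := U.subgroupOf (P : Subgroup F)
    have hdvd : W.index ∣ U.index := by
      show U.relIndex (P : Subgroup F) ∣ U.index
      have h1 := Subgroup.relIndex_mul_relIndex (U ⊓ P) P (U ⊔ P) inf_le_right le_sup_right
      have h2 := Subgroup.relIndex_mul_relIndex (U ⊓ P) U (U ⊔ P) inf_le_left le_sup_left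
      rw [Subgroup.inf_relIndex_right, Subgroup.relIndex_sup_right] at h1
      rw [Subgroup.inf_relIndex_left, ← h1, mul_comm ((P : Subgroup F).relIndex U)] at h2
      rw [← Nat.eq_of_mul_eq_mul_right (Nat.pos_of_ne_zero Subgroup.index_ne_zero_of_finite) h2]
      exact Dvd.intro _ (Subgroup.relIndex_mul_index le_sup_left)
    obtain ⟨k, hk⟩ := P.isPGroup'.index W
    have hkle : k ≤ 1 := by
      by_contra hk2
      have hpp : ((p : ℕ) * p) ∣ U.index := (dvd_trans ⟨(p : ℕ) ^ (k - 2), by
        rw [hk, ← sq, ← pow_add]; congr 1; omega⟩ hdvd)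
      exact (Fact.out : (p : ℕ).Prime).ne_one (Nat.isUnit_iff.1 (hsq _ hpp))
    rcases Nat.le_one_iff_eq_zero_or_eq_one.1 hkle with rfl | rfl
    · rw [show W = ⊤ from Subgroup.index_eq_one.1 (by rw [hk, pow_zero])]
      exact le_top
    · have hW : IsCoatom W := by
        rw [pow_one] at hk
        refine ⟨fun h => (Fact.out : (p : ℕ).Prime).ne_one (by
          rw [← hk, h, Subgroup.index_top]), fun X hX => ?_⟩
        have hmul := Subgroup.relIndex_mul_index hX.le
        rw [hk] at hmul
        rcases (Fact.out : (p : ℕ).Prime).eq_one_or_self_of_dvd _ (Dvd.intro _ hmul) with h1 | h1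
        · exact absurd (Subgroup.relIndex_eq_one.1 h1) hX.not_ge
        · exact Subgroup.index_eq_one.1 (by
            rw [h1] at hmul
            exact (Nat.mul_eq_left (Fact.out : (p : ℕ).Prime).ne_zero).1 hmul)
      exact (Coprime.commutator_le_frattini _).trans (frattini_le_coatom hW)
  haveI hRn : R.Normal := by
    haveI : ∀ (p : (Nat.card F).primeFactors) (P : Sylow (p : ℕ) F),
        (⁅(P : Subgroup F), (P : Subgroup F)⁆).Normal := fun p P => by
      haveI : Fact (p : ℕ).Prime := ⟨Nat.prime_of_mem_primeFactors p.2⟩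
      exact Subgroup.commutator_normal _ _
    infer_instance
  have hFR : commutator F ≤ R := by
    rw [commutator_def, Subgroup.commutator_le]
    intro a _ b _
    let π := QuotientGroup.mk' R
    have hcen : ∀ (p : (Nat.card F).primeFactors) (P : Sylow (p : ℕ) F),
        (P : Subgroup F) ≤ (Subgroup.center (F ⧸ R)).comap π := by
      intro p P y hy
      haveI : Fact (p : ℕ).Prime := ⟨Nat.prime_of_mem_primeFactors p.2⟩
      have htop : (Subgroup.centralizer {π y}).comap π = ⊤ := Cores.eq_top_of_sylow_le fun r hr hrd => by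
        haveI := Fact.mk hr
        obtain ⟨T⟩ : Nonempty (Sylow r F) := inferInstance
        refine ⟨T, fun z hz => ?_⟩
        rw [Subgroup.mem_comap, Subgroup.mem_centralizer_singleton_iff, ← map_mul, ← map_mul]
        by_cases hrp : r = p
        · subst hrp
          haveI : Subsingleton (Sylow (p : ℕ) F) := Sylow.unique_of_normal P inferInstance |>.instSubsingleton
          rw [Subsingleton.elim T P] at hz
          refine QuotientGroup.eq.2 ?_
          have hmem := Subgroup.commutator_mem_commutator (inv_mem hy) (inv_mem hz)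
          rw [show (z * y)⁻¹ * (y * z) = ⁅y⁻¹, z⁻¹⁆ by rw [commutatorElement_def]; group]
          exact le_iSup₂_of_le (f := fun p (P : Sylow ((p : (Nat.card F).primeFactors) : ℕ) F) =>
            ⁅(P : Subgroup F), (P : Subgroup F)⁆) p P le_rfl hmem
        · exact congrArg π (Subgroup.commute_of_normal_of_disjoint _ _ inferInstance inferInstance
            (IsPGroup.disjoint_of_ne r p hrp _ _ T.isPGroup' P.isPGroup') z y hz hy)
      rw [Subgroup.mem_comap, Subgroup.mem_center_iff]
      intro g
      obtain ⟨g, rfl⟩ := QuotientGroup.mk'_surjective R g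
      exact Subgroup.mem_centralizer_singleton_iff.1
        (show π g ∈ Subgroup.centralizer {π y} from htop.ge (Subgroup.mem_top g))
    have htop : (Subgroup.center (F ⧸ R)).comap π = ⊤ := Cores.eq_top_of_sylow_le fun r hr hrd => by
      haveI := Fact.mk hr
      obtain ⟨T⟩ : Nonempty (Sylow r F) := inferInstance
      exact ⟨T, hcen ⟨r, Nat.mem_primeFactors.2 ⟨hr, hrd, Nat.card_pos.ne'⟩⟩ T⟩
    rw [← QuotientGroup.eq_one_iff]
    show π ⁅a, b⁆ = 1
    rw [map_commutatorElement, commutatorElement_eq_one_iff_mul_comm]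
    exact (Subgroup.mem_center_iff.1 (htop.ge (Subgroup.mem_top a)) (π b)).symm
  haveI : U.Normal := ⟨fun n hn g => by
    rw [show g * n * g⁻¹ = ⁅g, n⁆ * n by rw [commutatorElement_def]; group]
    exact mul_mem (hRU (hFR (Subgroup.commutator_mem_commutator (Subgroup.mem_top g)
      (Subgroup.mem_top n)))) hn⟩
  have hker : ∀ z ∈ derivedSeries F 2, ∃ hz : z ∈ U, lam ⟨z, hz⟩ = 1 := by
    intro z hz
    have hmem : z ∈ (commutator U).map U.subtype := by
      rw [Subgroup.map_subtype_commutator]
      rw [derivedSeries_succ, derivedSeries_one] at hz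
      exact Subgroup.commutator_mono (hFR.trans hRU) (hFR.trans hRU) hz
    obtain ⟨⟨z', hz'⟩, hz'c, rfl⟩ := hmem
    exact ⟨hz', MonoidHom.mem_ker.1 (Abelianization.commutator_subset_ker lam hz'c)⟩
  rw [hχ, indFun_one]
  simp only [map_one, Units.val_one, mul_one]
  haveI := Fintype.ofFinite U
  apply mul_left_cancel₀ (natCard_ne_zero (G := U))
  rw [IndBasic.card_mul_indFun, Finset.sum_congr rfl (g := fun _ => (1 : ℂ)) fun g _ => ?_,
    Finset.sum_const, Finset.card_univ, nsmul_eq_mul, mul_one, ← Nat.cast_mul,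
    Subgroup.card_mul_index, Nat.card_eq_fintype_card]
  obtain ⟨hz, hz1⟩ := hker (g⁻¹ * x * g) (by
    simpa using (inferInstance : (derivedSeries F 2).Normal).conj_mem x hx g⁻¹)
  rw [IndBasic.extendByZero_of_mem _ _ hz, hz1, Units.val_one]

variable {G : Type u} [Group G] [Finite G]

theorem squarefree_over (h : ∀ χ : Cfsg.IrrCharacter G, Squarefree (Cfsg.charDegree (χ : G → ℂ)))
    (N : Subgroup G) [N.Normal] (θ : Cfsg.IrrCharacter N) :
    Squarefree (Cfsg.charDegree (θ : N → ℂ)) ∧
      Squarefree (BlocksChars.ItoPSolvable.inertia N (θ : N → ℂ)).index := by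
  obtain ⟨χ, h1, h2⟩ := BlocksChars.ItoPSolvable.exists_over N θ
  exact ⟨(h χ).squarefree_of_dvd h1, (h χ).squarefree_of_dvd h2⟩

/-- The `p`-core of `G ⧸ F(G)` has order at most `p`. -/
theorem card_pCore_le [Group.IsSolvable G]
    (h : ∀ χ : Cfsg.IrrCharacter G, Squarefree (Cfsg.charDegree (χ : G → ℂ)))
    [(Cfsg.fittingSubgroup G).Normal] (p : ℕ) [Fact p.Prime] :
    Nat.card (Cfsg.pCore p (G ⧸ Cfsg.fittingSubgroup G)) ≤ p := by
  classical
  set F := Cfsg.fittingSubgroup G with hFdef
  haveI : Group.IsNilpotent F := Cores.fittingSubgroup_isNilpotent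
  let V := F →* ℂˣ
  haveI : Finite V := by
    haveI : Finite (Abelianization F →* ℂˣ) := by
      haveI := Fintype.ofFinite (Abelianization F)
      exact Finite.of_fintype (KGV.Dual (Abelianization F))
    exact Finite.of_equiv _ Abelianization.lift.symm
  let c : G → V →* V := fun g =>
    { toFun := fun l => l.comp (MulAut.conjNormal g⁻¹ : F ≃* F).toMonoidHom
      map_one' := rfl
      map_mul' := fun _ _ => rfl }
  have hc_apply : ∀ g l x, c g l x = l (MulAut.conjNormal g⁻¹ x) := fun g l x => rfl
  have hcmul : ∀ g g' l, c (g * g') l = c g (c g' l) := fun g g' l => MonoidHom.ext fun x => by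
    rw [hc_apply, hc_apply, hc_apply, mul_inv_rev, map_mul, MulAut.mul_apply]
  have hcone : ∀ l, c 1 l = l := fun l => MonoidHom.ext fun x => by
    rw [hc_apply, inv_one, map_one, MulAut.one_apply]
  let ρ : G →* MulAut V :=
    { toFun := fun g =>
        { toFun := c g
          invFun := c g⁻¹
          left_inv := fun v => by rw [← hcmul, inv_mul_cancel, hcone]
          right_inv := fun v => by rw [← hcmul, mul_inv_cancel, hcone]
          map_mul' := map_mul (c g) }
      map_one' := MulEquiv.ext hcone
      map_mul' := fun g g' => MulEquiv.ext (hcmul g g') }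
  have hFker : F ≤ ρ.ker := fun f hf => MulEquiv.ext fun l => MonoidHom.ext fun x => by
    show l (MulAut.conjNormal f⁻¹ x) = l x
    rw [show MulAut.conjNormal f⁻¹ x = (⟨f, hf⟩ : F)⁻¹ * x * (⟨f, hf⟩ : F) from
      Subtype.ext (by simp [MulAut.conjNormal_apply]), map_mul, map_mul, map_inv, mul_comm,
      mul_inv_cancel_left]
  let D : Subgroup V :=
    { carrier := {l | ¬ p ∣ orderOf l}
      one_mem' := fun h => (Fact.out : p.Prime).not_dvd_one (orderOf_one (G := V) ▸ h)
      mul_mem' := fun {a b} ha hb h => ((Fact.out : p.Prime).dvd_mul.1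
        (h.trans (Commute.all a b).orderOf_mul_dvd_mul_orderOf)).elim ha hb
      inv_mem' := fun {a} (ha : ¬ p ∣ orderOf a) (h : p ∣ orderOf a⁻¹) => ha (orderOf_inv a ▸ h) }
  have hDinv : ∀ g, ∀ l ∈ D, ρ g l ∈ D := fun g l (hl : ¬ p ∣ orderOf l) =>
    show ¬ p ∣ orderOf (ρ g l) from fun h => hl (h.trans (orderOf_map_dvd (c g) l))
  have hpD : ¬ p ∣ Nat.card D := fun hd => by
    obtain ⟨⟨l, hl⟩, hord⟩ := exists_prime_orderOf_dvd_card' p hd
    rw [Subgroup.orderOf_mk] at hord
    exact hl (hord ▸ dvd_rfl)
  set N := (Cfsg.pCore p (G ⧸ F)).comap (QuotientGroup.mk' F) with hN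
  haveI : (Cfsg.pCore p (G ⧸ F)).Normal := Cores.pCore_normal p
  haveI : N.Normal := inferInstance
  -- the kernel on `D` inside `N` is `F`
  let N₀ : Subgroup G :=
    { carrier := {g | g ∈ N ∧ ∀ l ∈ D, ρ g l = l}
      one_mem' := ⟨one_mem N, fun l _ => by simp⟩
      mul_mem' := fun {a b} ha hb => ⟨mul_mem ha.1 hb.1, fun l hl => by
        rw [map_mul, MulAut.mul_apply, hb.2 l hl, ha.2 l hl]⟩
      inv_mem' := fun {a} ha => ⟨inv_mem ha.1, fun l hl => by
        conv_lhs => rw [← ha.2 l hl]
        rw [← MulAut.mul_apply, ← map_mul, inv_mul_cancel, map_one, MulAut.one_apply]⟩ }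
  haveI : N₀.Normal := ⟨fun a ha g => ⟨(inferInstance : N.Normal).conj_mem a ha.1 g, fun l hl => by
    rw [map_mul, map_mul, MulAut.mul_apply, MulAut.mul_apply, ha.2 _ (hDinv _ l hl),
      ← MulAut.mul_apply, ← map_mul, mul_inv_cancel, map_one, MulAut.one_apply]⟩⟩
  have hFN₀ : F ≤ N₀ := fun f hf => ⟨by
      rw [hN, Subgroup.mem_comap, QuotientGroup.mk'_apply, (QuotientGroup.eq_one_iff f).2 hf]
      exact one_mem _, fun l _ => by rw [MonoidHom.mem_ker.1 (hFker hf)]; rfl⟩
  have hN₀F : N₀ ≤ F := by
    obtain ⟨P₀⟩ : Nonempty (Sylow p N₀) := inferInstance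
    set P := (P₀ : Subgroup N₀).map N₀.subtype with hP
    have hPp : IsPGroup p P := P₀.isPGroup'.map _
    have hPN₀ : P ≤ N₀ := Subgroup.map_subtype_le _
    set M := Cfsg.pCore p G with hM
    haveI : M.Normal := Cores.pCore_normal p
    have hMF : M ≤ F := Cores.pCore_le_fitting p
    have hMP : M ≤ P := by
      have h1 : M.subgroupOf N₀ ≤ (P₀ : Subgroup N₀) :=
        IsPGroup.le_sylow_of_normal (Cores.pCore_isPGroup p).comap_subtype P₀
      intro x hx
      exact ⟨⟨x, hFN₀ (hMF hx)⟩, h1 hx, rfl⟩
    let π := QuotientGroup.mk' M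
    have hπ : Function.Surjective π := QuotientGroup.mk'_surjective M
    set K := F.map π with hK
    haveI : K.Normal := (inferInstance : F.Normal).map π hπ
    haveI : Group.IsNilpotent K := Cores.isNilpotent_map F π inferInstance
    have hKp : ¬ p ∣ Nat.card K := by
      obtain ⟨S⟩ : Nonempty (Sylow p F) := inferInstance
      have h1 : Nat.card M = Nat.card (S : Subgroup F) := by
        rw [hM, ← Cores.sylow_fitting_map S, Subgroup.card_map_of_injective F.subtype_injective]
      have h2 : Nat.card F = Nat.card K * Nat.card M := by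
        have := (M.subgroupOf F).card_eq_card_quotient_mul_card_subgroup
        rw [Nat.card_congr (Subgroup.subgroupOfEquivOfLe hMF).toEquiv] at this
        rw [this]
        congr 1
        refine Nat.card_congr ((QuotientGroup.quotientMulEquivOfEq ?_).trans
          ((QuotientGroup.quotientKerEquivRange (π.comp F.subtype)).trans
            (MulEquiv.subgroupCongr (by rw [MonoidHom.range_comp, Subgroup.range_subtype])))).toEquiv
        ext x
        simp [π, Subgroup.mem_subgroupOf, QuotientGroup.eq_one_iff]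
      intro hd
      have h3 := P₀.card_eq_multiplicity
      have h4 := S.card_eq_multiplicity
      rw [← h1] at h4
      have h5 : p ^ ((Nat.card F).factorization p + 1) ∣ Nat.card F := by
        rw [pow_succ, mul_comm, ← h4, h2]
        exact mul_dvd_mul hd dvd_rfl
      exact (Nat.pow_succ_factorization_not_dvd Nat.card_pos.ne' Fact.out) h5
    have hcent : P.map π ≤ Subgroup.centralizer (K : Set (G ⧸ M)) := by
      refine Coprime.le_centralizer_of_frattini (le_top.trans
        (Subgroup.normalizer_eq_top_iff.2 inferInstance).ge) ?_ ?_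
      · obtain ⟨k, hk⟩ := IsPGroup.iff_card.1 (hPp.map π)
        rw [hk]
        refine Nat.Coprime.pow_left k ((Fact.out : p.Prime).coprime_iff_not_dvd.2 fun hd => hKp ?_)
        exact hd.trans (Subgroup.card_subgroup_dvd_card _)
      · rintro _ ⟨a, ha, rfl⟩ _ ⟨y, hy, rfl⟩
        have hcF : a * y * a⁻¹ * y⁻¹ ∈ F :=
          mul_mem ((inferInstance : F.Normal).conj_mem y hy a) (inv_mem hy)
        let Y : Subgroup F := commutator F ⊔ M.subgroupOf F
        have hcY : (⟨_, hcF⟩ : F) ∈ Y := by
          by_contra hcY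
          haveI : Y.Normal := inferInstance
          obtain ⟨μ, hμ⟩ := BlocksChars.EqualDegreeGalois.exists_linear_ne (P := F ⧸ Y)
            (g := ((⟨_, hcF⟩ : F) : F ⧸ Y)) (fun hg => hcY ((QuotientGroup.eq_one_iff _).1 (by
              have hcomm : commutator (F ⧸ Y) = ⊥ := by
                rw [← QuotientGroup.map_mk'_self Y, commutator_def,
                  ← Subgroup.map_top_of_surjective _ (QuotientGroup.mk'_surjective Y),
                  ← Subgroup.map_commutator]
                refine le_antisymm (Subgroup.map_mono le_sup_left) ?_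
                rw [QuotientGroup.map_mk'_self]
                exact bot_le
              rwa [hcomm, Subgroup.mem_bot] at hg)))
          have hlD : μ.comp (QuotientGroup.mk' Y) ∈ D := by
            refine (fun h hd => h (hd.trans (orderOf_dvd_of_pow_eq_one (n := Nat.card (F ⧸ Y))
              (MonoidHom.ext fun x => ?_)))) (fun hd => hKp ?_)
            · have h1 : Y.index ∣ (M.subgroupOf F).index := Subgroup.index_dvd_of_le le_sup_right
              have h2 : (M.subgroupOf F).index = Nat.card K := by
                rw [Subgroup.index_eq_card]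
                refine Nat.card_congr ((QuotientGroup.quotientMulEquivOfEq ?_).trans
                  ((QuotientGroup.quotientKerEquivRange (π.comp F.subtype)).trans
                    (MulEquiv.subgroupCongr (by
                      rw [MonoidHom.range_comp, Subgroup.range_subtype])))).toEquiv
                ext x
                simp [π, Subgroup.mem_subgroupOf, QuotientGroup.eq_one_iff]
              rw [Subgroup.index_eq_card, h2] at h1
              exact hd.trans h1
            · rw [MonoidHom.pow_apply, MonoidHom.comp_apply, ← map_pow, pow_card_eq_one', map_one,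
                MonoidHom.one_apply]
          have hfix := DFunLike.congr_fun ((hPN₀ ha).2 _ hlD)
            (⟨a * y * a⁻¹, (inferInstance : F.Normal).conj_mem y hy a⟩ : F)
          rw [show ρ a (μ.comp (QuotientGroup.mk' Y)) = c a (μ.comp (QuotientGroup.mk' Y)) from rfl,
            hc_apply] at hfix
          refine hμ (Units.val_eq_one.2 ?_)
          have he : (⟨_, hcF⟩ : F) = (⟨a * y * a⁻¹, (inferInstance : F.Normal).conj_mem y hy a⟩ : F) *
              ⟨y, hy⟩⁻¹ := rfl
          rw [show MulAut.conjNormal a⁻¹ (⟨a * y * a⁻¹, (inferInstance : F.Normal).conj_mem y hy a⟩ : F)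
              = (⟨y, hy⟩ : F) from Subtype.ext (by simp [MulAut.conjNormal_apply, mul_assoc])] at hfix
          show (μ.comp (QuotientGroup.mk' Y)) (⟨_, hcF⟩ : F) = 1
          rw [he, map_mul, map_inv, ← hfix, mul_inv_cancel]
        have h1 : π (a * y * a⁻¹ * y⁻¹) ∈ Y.map (π.comp F.subtype) := ⟨_, hcY, rfl⟩
        rw [Subgroup.map_sup, ← Subgroup.map_map, ← Subgroup.map_map, Subgroup.map_subtype_commutator,
          Subgroup.map_subgroupOf_eq_of_le hMF, QuotientGroup.map_mk'_self, sup_bot_eq,
          Subgroup.map_commutator, ← hK, ← Subgroup.map_subtype_commutator] at h1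
        have h2 := Subgroup.map_mono (Coprime.commutator_le_frattini K) h1
        simpa only [map_mul, map_inv] using h2
    have hFnorm : F ≤ Subgroup.normalizer (P : Set G) := by
      have hmove : ∀ f ∈ F, ∀ a ∈ P, f * a * f⁻¹ ∈ P := by
        intro f hf a ha
        have h1 := Subgroup.mem_centralizer_iff.1 (hcent (Subgroup.mem_map_of_mem π ha)) (π f)
          (Subgroup.mem_map_of_mem π hf)
        rw [← map_mul, ← map_mul] at h1
        have h2 : (a * f)⁻¹ * (f * a) ∈ P := hMP (QuotientGroup.eq.1 h1.symm)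
        have h3 : a⁻¹ * (f * a * f⁻¹) ∈ M := by
          have h4 := QuotientGroup.eq.1 h1.symm
          have h5 := (inferInstance : M.Normal).conj_mem _ h4 f
          rwa [show f * ((a * f)⁻¹ * (f * a)) * f⁻¹ = a⁻¹ * (f * a * f⁻¹) by group] at h5
        have := mul_mem ha (hMP h3)
        rwa [mul_inv_cancel_left] at this
      intro f hf
      rw [Subgroup.mem_normalizer_iff]
      refine fun a => ⟨hmove f hf a, fun ha => ?_⟩
      have := hmove f⁻¹ (inv_mem hf) _ ha
      rwa [show f⁻¹ * (f * a * f⁻¹) * f⁻¹⁻¹ = a by group] at this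
    have hsup : P ⊔ F = N₀ := by
      refine le_antisymm (sup_le hPN₀ hFN₀) ?_
      set J := (P ⊔ F).subgroupOf N₀
      have h1 : ¬ p ∣ J.index := fun hd => P₀.not_dvd_index (hd.trans (Subgroup.index_dvd_of_le
        (fun x hx => Subgroup.mem_sup_left ⟨x, hx, rfl⟩)))
      have h2 : ∃ k, J.index = p ^ k := by
        have h3 : IsPGroup p (N₀ ⧸ F.subgroupOf N₀) := by
          intro z
          induction z using QuotientGroup.induction_on with
          | H z =>
            obtain ⟨k, hk⟩ := Cores.pCore_isPGroup (G := G ⧸ F) p ⟨_, z.2.1⟩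
            refine ⟨k, ?_⟩
            rw [← QuotientGroup.mk_pow, QuotientGroup.eq_one_iff, Subgroup.mem_subgroupOf,
              SubgroupClass.coe_pow, ← QuotientGroup.eq_one_iff, QuotientGroup.mk_pow]
            exact congrArg Subtype.val hk
        obtain ⟨k, hk⟩ := IsPGroup.iff_card.1 h3
        have h4 : J.index ∣ p ^ k := by
          rw [← hk, ← Subgroup.index_eq_card]
          exact Subgroup.index_dvd_of_le fun x hx => Subgroup.mem_sup_right hx
        obtain ⟨i, -, hi⟩ := (Nat.dvd_prime_pow Fact.out).1 h4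
        exact ⟨i, hi⟩
      obtain ⟨k, hk⟩ := h2
      rcases Nat.eq_zero_or_pos k with rfl | hk0
      · exact Subgroup.subgroupOf_eq_top.1 (Subgroup.index_eq_one.1 (by rw [hk, pow_zero]))
      · exact absurd (hk ▸ dvd_pow_self p hk0.ne') h1
    have hPn : (P₀ : Subgroup N₀).Normal := by
      have : N₀ ≤ Subgroup.normalizer (P : Set G) := hsup ▸ sup_le Subgroup.le_normalizer hFnorm
      refine ⟨fun a ha g => ?_⟩
      obtain ⟨b, hb, hbe⟩ := (Subgroup.mem_normalizer_iff.1 (this g.2) (a : G)).1 ⟨a, ha, rfl⟩
      rwa [show g * a * g⁻¹ = b from Subtype.ext (by simpa using hbe.symm)]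
    haveI := hPn
    haveI : (P₀ : Subgroup N₀).Characteristic := P₀.characteristic_of_normal hPn
    haveI : P.Normal := Cores.normal_map_subtype N₀ _
    rw [← hsup]
    exact sup_le ((Cores.le_pCore hPp).trans hMF) le_rfl
  by_contra hlt
  push Not at hlt
  obtain ⟨n, hn⟩ := IsPGroup.iff_card.1 (Cores.pCore_isPGroup (G := G ⧸ F) p)
  have hn2 : 2 ≤ n := by
    by_contra h2
    rw [hn] at hlt
    interval_cases n <;> simp at hlt
    exact absurd hlt (by have := (Fact.out : p.Prime).two_le; omega)
  obtain ⟨A₀, hA₀⟩ := Sylow.exists_subgroup_card_pow_prime p (n := 2)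
    (G := Cfsg.pCore p (G ⧸ F)) (hn ▸ pow_dvd_pow p hn2)
  set A := A₀.map (Cfsg.pCore p (G ⧸ F)).subtype with hA
  have hAc : Nat.card A = p ^ 2 := by
    rw [Subgroup.card_map_of_injective (Cfsg.pCore p (G ⧸ F)).subtype_injective, hA₀]
  let ρA : A →* MulAut V := (QuotientGroup.lift F ρ hFker).comp A.subtype
  obtain ⟨l, hlD, hlreg⟩ := Primitive.exists_regular_orbit ρA
    (fun a b => (IsPGroup.commGroupOfCardEqPrimeSq hAc).mul_comm a b) D
    (fun a w hw => by
      obtain ⟨g, hg⟩ := QuotientGroup.mk'_surjective F (a : G ⧸ F)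
      show QuotientGroup.lift F ρ hFker (a : G ⧸ F) w ∈ D
      rw [← hg]
      exact hDinv g w hw)
    (by rw [hAc]; exact Nat.Coprime.pow_left 2 ((Fact.out : p.Prime).coprime_iff_not_dvd.2 hpD))
    (fun a ha => by
      obtain ⟨g, hg⟩ := QuotientGroup.mk'_surjective F (a : G ⧸ F)
      have hgN : g ∈ N := by
        rw [hN, Subgroup.mem_comap, hg]
        exact Subgroup.map_subtype_le _ a.2
      have := hN₀F ⟨hgN, fun w hw => by
        have := ha w hw
        change QuotientGroup.lift F ρ hFker (a : G ⧸ F) w = w at this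
        rwa [← hg] at this⟩
      exact Subtype.ext (hg.symm.trans ((QuotientGroup.eq_one_iff g).2 this)))
  haveI := Fintype.ofFinite F
  let θ : Cfsg.IrrCharacter F := ⟨_, isIrrCharacter_linear l⟩
  have hsqT := (squarefree_over h F θ).2
  set T := BlocksChars.ItoPSolvable.inertia F (θ : F → ℂ)
  have hTF : F ≤ T := fun f hf => funext fun n =>
    (char_isClassFunction (irr_isCharacter θ)) n ⟨f, hf⟩
  set Tb := T.map (QuotientGroup.mk' F) with hTb
  have hdis : A ⊓ Tb = ⊥ := by
    rw [Subgroup.eq_bot_iff_forall]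
    rintro _ ⟨ha, g, hg, rfl⟩
    have h1 := hlreg ⟨_, ha⟩ (MonoidHom.ext fun x => Units.ext ?_)
    · exact congrArg Subtype.val h1
    show ((l (MulAut.conjNormal g⁻¹ x) : ℂˣ) : ℂ) = (l x : ℂ)
    have := congrFun (inv_mem hg : g⁻¹ ∈ T) x
    rw [Clifford.conjBy_apply] at this
    refine Eq.trans (congrArg (fun y => ((l y : ℂˣ) : ℂ)) (Subtype.ext ?_)) this
    rw [MulAut.conjNormal_apply]
  set O := Cfsg.pCore p (G ⧸ F)
  have hdvd : Tb.relIndex O ∣ Tb.index := by
    have h1 := Subgroup.relIndex_mul_relIndex (Tb ⊓ O) O (Tb ⊔ O) inf_le_right le_sup_right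
    have h2 := Subgroup.relIndex_mul_relIndex (Tb ⊓ O) Tb (Tb ⊔ O) inf_le_left le_sup_left
    rw [Subgroup.inf_relIndex_right, Subgroup.relIndex_sup_right] at h1
    rw [Subgroup.inf_relIndex_left, ← h1, mul_comm (O.relIndex Tb)] at h2
    rw [← Nat.eq_of_mul_eq_mul_right (Nat.pos_of_ne_zero Subgroup.index_ne_zero_of_finite) h2]
    exact Dvd.intro _ (Subgroup.relIndex_mul_index le_sup_left)
  have hTbi : Tb.index = T.index := by
    rw [hTb, Subgroup.index_map_eq _ (QuotientGroup.mk'_surjective F)
      (by rw [QuotientGroup.ker_mk']; exact hTF)]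
  have hAO : A ≤ O := Subgroup.map_subtype_le _
  have hge : p ^ 2 ≤ Tb.relIndex O := by
    rw [← hAc]
    refine le_trans (le_of_eq ?_) (Subgroup.relIndex_le_of_le_right (H := Tb) hAO
      Subgroup.index_ne_zero_of_finite)
    rw [← Subgroup.inf_relIndex_right, inf_comm, hdis, Subgroup.relIndex_bot_left]
  obtain ⟨k, hk⟩ := (Cores.pCore_isPGroup (G := G ⧸ F) p).index (Tb.subgroupOf O)
  change Tb.relIndex O = p ^ k at hk
  rw [hk] at hge hdvd
  have hk2 := (Nat.pow_le_pow_iff_right (Fact.out : p.Prime).one_lt).1 hge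
  rw [hTbi] at hdvd
  exact (Fact.out : p.Prime).ne_one (Nat.isUnit_iff.1
    (hsqT p (by rw [← sq]; exact (pow_dvd_pow p hk2).trans hdvd)))

/-- `G ⧸ F(G)` is metabelian. -/
theorem derived_two_quotient [Group.IsSolvable G]
    (h : ∀ χ : Cfsg.IrrCharacter G, Squarefree (Cfsg.charDegree (χ : G → ℂ)))
    [(Cfsg.fittingSubgroup G).Normal] :
    derivedSeries (G ⧸ Cfsg.fittingSubgroup G) 2 = ⊥ := by
  classical
  set H := G ⧸ Cfsg.fittingSubgroup G
  set L := Cfsg.fittingSubgroup H
  haveI : L.Normal := inferInstance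
  haveI : Group.IsNilpotent L := Cores.fittingSubgroup_isNilpotent
  haveI : IsCyclic L := by
    have hsq : Squarefree (Nat.card L) := by
      rw [Nat.squarefree_iff_factorization_le_one Nat.card_pos.ne']
      intro r
      by_cases hr : r.Prime
      swap
      · simp [Nat.factorization_eq_zero_of_not_prime _ hr]
      haveI := Fact.mk hr
      obtain ⟨S⟩ : Nonempty (Sylow r L) := inferInstance
      have h1 : Nat.card (S : Subgroup L) ≤ r := by
        rw [← Subgroup.card_map_of_injective (f := L.subtype) L.subtype_injective,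
          Cores.sylow_fitting_map S]
        exact card_pCore_le h r
      rw [S.card_eq_multiplicity] at h1
      by_contra h2
      have := h1.trans_lt (lt_self_pow₀ hr.one_lt (not_le.1 h2))
      exact lt_irrefl _ this
    haveI := IsZGroup.of_squarefree hsq
    infer_instance
  have hcomm : ∀ a b : MulAut L, a * b = b * a := fun a b => by
    apply (IsCyclic.mulAutMulEquiv L).injective
    rw [map_mul, map_mul, mul_comm]
  have h1 : commutator H ≤ L := by
    rw [commutator_def, Subgroup.commutator_le]
    intro a _ b _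
    refine Cores.centralizer_fittingSubgroup_le (G := H) ?_
    rw [Subgroup.mem_centralizer_iff]
    intro z hz
    have h2 : MulAut.conjNormal (H := L) ⁅a, b⁆ = 1 := by
      rw [map_commutatorElement, commutatorElement_eq_one_iff_mul_comm, hcomm]
    have := congrArg Subtype.val (DFunLike.congr_fun h2 (⟨z, hz⟩ : L))
    rw [MulAut.conjNormal_apply, MulAut.one_apply] at this
    exact (mul_inv_eq_iff_eq_mul.1 this).symm
  rw [derivedSeries_succ, derivedSeries_one, Subgroup.commutator_eq_bot_iff_le_centralizer]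
  refine h1.trans fun x hx => Subgroup.mem_centralizer_iff.2 fun y hy => ?_
  letI := IsCyclic.commGroup (α := L)
  exact congrArg Subtype.val (mul_comm (⟨y, h1 hy⟩ : L) ⟨x, hx⟩)


/-- Let `G` be a finite solvable group. If every irreducible complex character degree of `G` is squarefree (1 included), then the derived length of `G` is at most 4. -/
theorem result {G : Type*} [Group G] [Finite G] [Group.IsSolvable G]
    (h : ∀ χ : Cfsg.IrrCharacter G, Squarefree (Cfsg.charDegree (χ : G → ℂ))) : derivedSeries G 4 = ⊥ := by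
  classical
  haveI : (Cfsg.fittingSubgroup G).Normal := inferInstance
  set F := Cfsg.fittingSubgroup G with hFdef
  haveI : Group.IsNilpotent F := Cores.fittingSubgroup_isNilpotent
  have hF : derivedSeries F 2 = ⊥ := derived_two_nilpotent fun θ => (squarefree_over h F θ).1
  have h2 : derivedSeries G 2 ≤ F := by
    intro x hx
    have hx' := map_derivedSeries_le_derivedSeries (QuotientGroup.mk' F) 2
      (Subgroup.mem_map_of_mem _ hx)
    rw [derived_two_quotient h, Subgroup.mem_bot] at hx'
    exact (QuotientGroup.eq_one_iff x).1 hx'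
  rw [eq_bot_iff]
  calc derivedSeries G 4 = ⁅⁅derivedSeries G 2, derivedSeries G 2⁆, ⁅derivedSeries G 2,
        derivedSeries G 2⁆⁆ := by simp only [derivedSeries_succ]
    _ ≤ ⁅⁅F, F⁆, ⁅F, F⁆⁆ := Subgroup.commutator_mono (Subgroup.commutator_mono h2 h2)
        (Subgroup.commutator_mono h2 h2)
    _ = (derivedSeries F 2).map F.subtype := by
        rw [derivedSeries_succ, derivedSeries_one, Subgroup.map_commutator,
          Subgroup.map_subtype_commutator]
    _ ≤ ⊥ := by rw [hF, Subgroup.map_bot]

end Cfsg.Agent.S5010
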