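import Cfsg.Statements.S5011
import Mathlib

set_option autoImplicit false
open Cfsg

namespace Cfsg.Agent.S5011

/-- Let G be a finite non-abelian simple group and ρ an irreducible complex representation of G on a space of dimension greater than one (irreducible in the sense that the only subspaces invariant under every ρ(x) are 0 and the whole space). Then for every non-identity element g of G, the centralizer of g does not act irreducibly: there is a non-zero proper subspace invariant under ρ(c) for every c commuting with g. -/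
theorem result {G : Type*} [Group G] [Finite G] [IsSimpleGroup G]
    (hG : ¬ IsMulCommutative G) {V : Type*} [AddCommGroup V] [Module ℂ V] [FiniteDimensional ℂ V]
    (ρ : Representation ℂ G V)
    (hirr : ∀ W : Submodule ℂ V, (∀ x : G, ∀ v ∈ W, ρ x v ∈ W) → W = ⊥ ∨ W = ⊤)
    (hdim : 1 < Module.finrank ℂ V) (g : G) (hg : g ≠ 1) :
    ∃ W : Submodule ℂ V, W ≠ ⊥ ∧ W ≠ ⊤ ∧ ∀ c ∈ Subgroup.centralizer ({g} : Set G), ∀ v ∈ W, ρ c v ∈ W := by
  by_contra hcon
  push_neg at hcon
  have hne : Nontrivial V := Module.nontrivial_of_finrank_pos (R := ℂ) (by omega)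
  obtain ⟨μ, hμ⟩ := Module.End.exists_eigenvalue (ρ g : Module.End ℂ V)
  -- `g` acts as a scalar
  have hscal : ∀ v : V, ρ g v = μ • v := by
    have hbot : Module.End.eigenspace (ρ g : Module.End ℂ V) μ ≠ ⊥ :=
      Module.End.hasEigenvalue_iff.1 hμ
    by_contra hs
    have htop : Module.End.eigenspace (ρ g : Module.End ℂ V) μ ≠ ⊤ := by
      intro h
      exact hs fun v => Module.End.mem_eigenspace_iff.1 (h ▸ Submodule.mem_top)
    obtain ⟨c, hc, v, hv, hcv⟩ := hcon _ hbot htop
    apply hcv
    rw [Module.End.mem_eigenspace_iff] at hv ⊢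
    have hcom : g * c = c * g := Subgroup.mem_centralizer_iff.1 hc g rfl
    rw [← Module.End.mul_apply, ← map_mul, hcom, map_mul, Module.End.mul_apply, hv, map_smul]
  let N : Subgroup G :=
    { carrier := {x | ∃ a : ℂ, ∀ v : V, ρ x v = a • v}
      one_mem' := ⟨1, by simp⟩
      mul_mem' := by
        rintro x y ⟨a, ha⟩ ⟨b, hb⟩
        exact ⟨a * b, fun v => by simp [map_mul, ha, hb, smul_smul, mul_comm]⟩
      inv_mem' := by
        rintro x ⟨a, ha⟩
        refine ⟨a⁻¹, fun v => ?_⟩
        have h1 : ∀ w : V, a • ρ x⁻¹ w = w := fun w => by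
          rw [← ha, ← Module.End.mul_apply, ← map_mul]; simp
        by_cases ha0 : a = 0
        · exfalso
          obtain ⟨w, hw⟩ := exists_ne (0 : V)
          exact hw (by rw [← h1 w, ha0, zero_smul])
        · conv_rhs => rw [← h1 v, smul_smul, inv_mul_cancel₀ ha0, one_smul] }
  have hN : N.Normal := ⟨by
    rintro x ⟨a, ha⟩ y
    refine ⟨a, fun v => ?_⟩
    have h2 : ρ y (ρ y⁻¹ v) = v := by rw [← Module.End.mul_apply, ← map_mul]; simp
    rw [map_mul, map_mul, Module.End.mul_apply, Module.End.mul_apply, ha, map_smul, h2]⟩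
  rcases hN.eq_bot_or_eq_top with h | h
  · have hgN : g ∈ N := ⟨μ, hscal⟩
    exact hg (Subgroup.mem_bot.1 (h ▸ hgN))
  · obtain ⟨v, hv⟩ := exists_ne (0 : V)
    rcases hirr (Submodule.span ℂ {v}) (fun x w hw => by
      obtain ⟨a, ha⟩ : x ∈ N := h ▸ Subgroup.mem_top x
      rw [ha]; exact Submodule.smul_mem _ _ hw) with h' | h'
    · exact hv (Submodule.span_singleton_eq_bot.1 h')
    · have h3 : Module.finrank ℂ (Submodule.span ℂ ({v} : Set V)) = 1 := finrank_span_singleton hv
      rw [h', finrank_top] at h3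
      omega

end Cfsg.Agent.S5011
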