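import Cfsg.Statements.S5012
import Cfsg.Agent.Lib.LieLocalChar.Main
import Cfsg.Agent.Lib.Blocks.FirstMain
-- import your own Cfsg.Agent.* helpers here

set_option autoImplicit false
open Cfsg

namespace Cfsg.Agent.S5012

/-- Let G be a finite simple group of Lie type in characteristic p. Then every p-block of G has defect zero or full defect: its defect is 0 or the exponent of p in the order of G (its defect groups are trivial or Sylow p-subgroups). -/
theorem result {G : Type*} [Group G] [Finite G] (p : ℕ) [Fact p.Prime] (hG : Cfsg.IsLieTypeChar p G) (M : Ideal Cfsg.AlgInt) (hM : Cfsg.IsPModular p M) (B : Set (Cfsg.IrrCharacter G)) (hB : Cfsg.IsPBlock M B) : Cfsg.blockDefect p B = 0 ∨ Cfsg.blockDefect p B = (Nat.card G).factorization p := by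
  open Cfsg.Agent.Blocks in
  exact by
    have hLC := Cfsg.Agent.LieLocalChar.of_isLieTypeChar (p := p) hG
    obtain ⟨D, hD⟩ := exists_defectGroup hM hB
    have hDp := isPGroup_defect hD
    by_cases hD1 : D = ⊥
    · refine Or.inl ?_
      have h1 := card_defectGroup hM hB hD
      rw [hD1, Subgroup.card_bot] at h1
      exact (Nat.pow_eq_one.1 h1.symm).resolve_left (Fact.out : p.Prime).ne_one
    refine Or.inr ?_
    obtain ⟨g, hg, hs⟩ := isDefectGroup_iff.1 hD
    obtain ⟨b, ⟨hb, hbD, -⟩, -⟩ := existsUnique_correspondent hM hB hD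
    have hgC : g ∈ Subgroup.centralizer (D : Set G) := isSylCent_mem hs
    have hgN : g ∈ Subgroup.normalizer (D : Set G) := centralizer_le_normalizer' D hgC
    have hcore : Cfsg.pCore p ↥(Subgroup.normalizer (D : Set G)) ≤
        D.subgroupOf (Subgroup.normalizer (D : Set G)) :=
      normal_le_defect hM (Cfsg.Agent.CharP.isPGroup_pCore p _) hb hbD
    have hg1 : g = 1 := by
      have h1 : (⟨g, hgN⟩ : ↥(Subgroup.normalizer (D : Set G))) ∈
          Cfsg.pCore p ↥(Subgroup.normalizer (D : Set G)) := by
        refine Cfsg.Agent.LieLocalChar.centralizer_pCore_le hLC hDp hD1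
          (Subgroup.mem_centralizer_iff.2 fun r hr => Subtype.ext ?_)
        exact Subgroup.mem_centralizer_iff.1 hgC (r : G) (Subgroup.mem_subgroupOf.1 (hcore hr))
      have h2 := Cfsg.Agent.CharP.eq_one_of_mem_pgroup (Cfsg.Agent.CharP.isPGroup_pCore p _) h1
        (by
          rw [Subgroup.orderOf_mk]
          exact ((Fact.out : p.Prime).coprime_iff_not_dvd.2 (defectClass_regular hM hB hg)).symm)
      exact congrArg Subtype.val h2
    rw [blockDefect_eq hM hB hg, hg1,
      show Subgroup.centralizer ({1} : Set G) = ⊤ from eq_top_iff.2 fun y _ =>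
        Subgroup.mem_centralizer_singleton_iff.2 (Commute.one_right y), Subgroup.card_top]

end Cfsg.Agent.S5012
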