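import Cfsg.Statements.S5014
import Cfsg.Agent.Lib.ThreeTransp.RankOne

set_option autoImplicit false
open Cfsg

namespace Cfsg.Agent.S5014

open Cfsg.Agent.ThreeTransp

/-- Let X = ⟨A, B⟩ be a rank one group with unipotent subgroups A and B and let Ω be the set of conjugates of A under X. Then Ω has at least three members, X acts doubly transitively on Ω by conjugation (any two ordered pairs of distinct members are carried to one another by a single element of X), and A acts regularly on Ω with A removed: for C, D in Ω different from A there is exactly one element of A conjugating C to D. -/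
theorem result {G : Type*} [Group G] {A B : Subgroup G} (h : Cfsg.IsRankOnePair A B) :
    (∃ C₁ ∈ Cfsg.unipotentSubgroups A B, ∃ C₂ ∈ Cfsg.unipotentSubgroups A B, ∃ C₃ ∈ Cfsg.unipotentSubgroups A B,
      C₁ ≠ C₂ ∧ C₁ ≠ C₃ ∧ C₂ ≠ C₃) ∧
    (∀ C₁ ∈ Cfsg.unipotentSubgroups A B, ∀ C₂ ∈ Cfsg.unipotentSubgroups A B, ∀ D₁ ∈ Cfsg.unipotentSubgroups A B,
      ∀ D₂ ∈ Cfsg.unipotentSubgroups A B, C₁ ≠ C₂ → D₁ ≠ D₂ →
        ∃ x ∈ A ⊔ B, Cfsg.conjBy C₁ x = D₁ ∧ Cfsg.conjBy C₂ x = D₂) ∧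
    (∀ C ∈ Cfsg.unipotentSubgroups A B, ∀ D ∈ Cfsg.unipotentSubgroups A B, C ≠ A → D ≠ A →
      ∃! a : G, a ∈ A ∧ Cfsg.conjBy C a = D) := by
  refine ⟨?_, ?_, ?_⟩
  · obtain ⟨a, ha, ha1⟩ := RankOne.exists_ne_one h
    refine ⟨A, RankOne.self_mem, B, RankOne.right_mem h, Cfsg.conjBy B a,
      RankOne.conj_mem (RankOne.right_mem h) (Subgroup.mem_sup_left ha), h.ne, fun e => h.ne ?_,
      fun e => ha1 (RankOne.inf_normalizer h ha (RankOne.conjBy_eq_iff.1 e.symm))⟩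
    rw [RankOne.eq_conjBy_inv e.symm, RankOne.conjBy_eq_self_of_mem (A.inv_mem ha)]
  · intro C₁ hC₁ C₂ hC₂ D₁ hD₁ D₂ hD₂ hC hD
    obtain ⟨x, hx, e1, e2⟩ := RankOne.exists_move h hC₁ hC₂ hC
    obtain ⟨y, hy, f1, f2⟩ := RankOne.exists_move h hD₁ hD₂ hD
    refine ⟨y⁻¹ * x, Subgroup.mul_mem _ (Subgroup.inv_mem _ hy) hx, ?_, ?_⟩
    · rw [← RankOne.conjBy_conjBy, e1, RankOne.eq_conjBy_inv f1]
    · rw [← RankOne.conjBy_conjBy, e2, RankOne.eq_conjBy_inv f2]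
  · intro C hC D hD hCA hDA
    obtain ⟨a₁, ha₁, rfl⟩ := ((RankOne.mem_iff h).1 hC).resolve_left hCA
    obtain ⟨a₂, ha₂, rfl⟩ := ((RankOne.mem_iff h).1 hD).resolve_left hDA
    refine ⟨a₂ * a₁⁻¹, ⟨A.mul_mem ha₂ (A.inv_mem ha₁), ?_⟩, ?_⟩
    · rw [RankOne.conjBy_conjBy, inv_mul_cancel_right]
    · rintro c ⟨hc, e⟩
      have h1 : a₂⁻¹ * (c * a₁) = 1 := RankOne.inf_normalizer h
        (A.mul_mem (A.inv_mem ha₂) (A.mul_mem hc ha₁)) (RankOne.conjBy_eq_iff.1 (by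
          rw [← RankOne.conjBy_conjBy, ← RankOne.conjBy_conjBy B c a₁, e,
            RankOne.conjBy_conjBy, inv_mul_cancel, RankOne.conjBy_one]))
      rw [inv_mul_eq_one] at h1
      rw [h1, mul_inv_cancel_right]

end Cfsg.Agent.S5014
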