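import Cfsg.Statements.S5015
import Cfsg.Agent.Lib.ThreeTransp.RankOne

set_option autoImplicit false
open Cfsg

namespace Cfsg.Agent.S5015

open Cfsg.Agent.ThreeTransp
theorem exists_third {Ω : Type*} (hΩ : 3 ≤ ENat.card Ω) (p q : Ω) : ∃ r, r ≠ p ∧ r ≠ q := by
  by_contra h
  push Not at h
  have hu : (Set.univ : Set Ω) ⊆ {p, q} := fun r _ => by
    by_cases hr : r = p
    · exact Or.inl hr
    · exact Or.inr (h r hr)
  have := Set.encard_le_encard hu
  rw [Set.encard_univ] at this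
  have h2 : ({p, q} : Set Ω).encard ≤ 2 := by
    refine (Set.encard_insert_le _ _).trans ?_
    rw [Set.encard_singleton]
    norm_num
  have h3 := (hΩ.trans this).trans h2
  exact absurd h3 (by norm_num)

/-- Let a group Y act doubly transitively on a set Ω with at least three points, and suppose that the stabilizer of a point α contains a nilpotent subgroup A, normalized by that stabilizer, which acts regularly on the points other than α. Then for any y in Y moving α, the subgroups A and y A y⁻¹ are the unipotent subgroups of a rank one group, and the normal closure of A in Y (the subgroup generated by all conjugates of A) is generated by A and y A y⁻¹ alone. -/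
theorem result {Y Ω : Type*} [Group Y] [MulAction Y Ω]
    (h2 : MulAction.IsMultiplyPretransitive Y Ω 2) (hΩ : 3 ≤ ENat.card Ω) (α : Ω) (A : Subgroup Y)
    (hA : A ≤ MulAction.stabilizer Y α) (hAn : ∀ y ∈ MulAction.stabilizer Y α, Cfsg.conjBy A y = A)
    (hnil : Group.IsNilpotent A) (hreg : ∀ β γ : Ω, β ≠ α → γ ≠ α → ∃! a : Y, a ∈ A ∧ a • β = γ)
    (y : Y) (hy : y ∉ MulAction.stabilizer Y α) :
    Cfsg.IsRankOnePair A (Cfsg.conjBy A y) ∧ Subgroup.normalClosure (A : Set Y) = A ⊔ Cfsg.conjBy A y := by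
  set β := y • α with hβ
  have hβα : β ≠ α := fun e => hy e
  set A' := Cfsg.conjBy A y with hA'
  have hsame : ∀ g k : Y, g • α = k • α → Cfsg.conjBy A g = Cfsg.conjBy A k := by
    intro g k e
    have : k⁻¹ * g ∈ MulAction.stabilizer Y α := by
      rw [MulAction.mem_stabilizer_iff, mul_smul, e, inv_smul_smul]
    rw [← mul_inv_cancel_left k g, ← RankOne.conjBy_conjBy, hAn _ this]
  have hAfix : ∀ a ∈ A, a • α = α := fun a ha => hA ha
  have hA'reg : ∀ γ δ : Ω, γ ≠ β → δ ≠ β → ∃ b ∈ A', b • γ = δ := by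
    intro γ δ h1 h2'
    obtain ⟨a, ⟨ha, e⟩, -⟩ := hreg (y⁻¹ • γ) (y⁻¹ • δ) (fun e => h1 (by rw [hβ, ← e, smul_inv_smul]))
      (fun e => h2' (by rw [hβ, ← e, smul_inv_smul]))
    exact ⟨y * a * y⁻¹, RankOne.conj_mem_conjBy ha, by rw [mul_smul, mul_smul, e, smul_inv_smul]⟩
  have hA'fix : ∀ b ∈ A', b • β = β := by
    intro b hb
    have := hAfix _ (RankOne.mem_conjBy.1 hb)
    rw [mul_smul, mul_smul] at this
    rw [hβ]
    conv_rhs => rw [← this, smul_inv_smul]
  have hfree : ∀ a ∈ A, ∀ γ : Ω, γ ≠ α → a • γ = γ → a = 1 := fun a ha γ hγ e =>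
    (hreg γ γ hγ hγ).unique ⟨ha, e⟩ ⟨A.one_mem, one_smul _ _⟩
  have hA'free : ∀ b ∈ A', ∀ γ : Ω, γ ≠ β → b • γ = γ → b = 1 := by
    intro b hb γ hγ e
    have := hfree _ (RankOne.mem_conjBy.1 hb) (y⁻¹ • γ)
      (fun e' => hγ (by rw [hβ, ← e', smul_inv_smul]))
      (by rw [mul_smul, mul_smul, smul_inv_smul, e])
    have e2 := congrArg (fun x => y * x * y⁻¹) this
    simpa [mul_assoc] using e2
  have hne : A ≠ A' := by
    intro e
    obtain ⟨γ, hγ1, hγ2⟩ := exists_third hΩ α β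
    obtain ⟨a, ⟨ha, ha2⟩, -⟩ := hreg β γ hβα hγ1
    rw [hA'fix a (e ▸ ha)] at ha2
    exact hγ2 ha2.symm
  have hA'nil : Group.IsNilpotent ↥A' :=
    Group.nilpotent_of_surjective (A.equivMapOfInjective _ (MulAut.conj y).injective).toMonoidHom
      (A.equivMapOfInjective _ (MulAut.conj y).injective).surjective
  refine ⟨⟨hne, hnil, hA'nil, ?_, ?_⟩, ?_⟩
  · intro a ha ha1
    have h1 : a⁻¹ • β ≠ α := fun e => hβα (by
      rw [inv_smul_eq_iff, hAfix a ha] at e; exact e)
    have h2' : a⁻¹ • β ≠ β := fun e => ha1 (inv_eq_one.1 (hfree _ (A.inv_mem ha) β hβα e))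
    obtain ⟨b, hb, e⟩ := hA'reg α (a⁻¹ • β) (Ne.symm hβα) h2'
    refine ⟨b⁻¹, A'.inv_mem hb, fun e' => h1 ?_, ?_⟩
    · rw [inv_eq_one] at e'; rw [← e, e', one_smul]
    · rw [inv_inv, hA', RankOne.conjBy_conjBy]
      exact hsame _ _ (by rw [e, mul_smul])
  · intro b hb hb1
    have h1 : b⁻¹ • α ≠ β := fun e => hβα (by
      rw [inv_smul_eq_iff, hA'fix b hb] at e; exact e.symm)
    have h2' : b⁻¹ • α ≠ α := fun e =>
      hb1 (inv_eq_one.1 (hA'free _ (A'.inv_mem hb) α (Ne.symm hβα) e))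
    obtain ⟨a, ⟨ha, e⟩, -⟩ := hreg β (b⁻¹ • α) hβα h2'
    refine ⟨a⁻¹, A.inv_mem ha, fun e' => h1 ?_, ?_⟩
    · rw [inv_eq_one] at e'; rw [← e, e', one_smul]
    · rw [inv_inv, hA', RankOne.conjBy_conjBy]
      exact hsame _ _ (by rw [mul_smul, ← hβ, e])
  · refine le_antisymm ?_ (sup_le Subgroup.subset_normalClosure ?_)
    · rw [Subgroup.normalClosure, Subgroup.closure_le]
      intro x hx
      obtain ⟨a, ha, hc⟩ := Group.mem_conjugatesOfSet_iff.1 hx
      obtain ⟨g, rfl⟩ := isConj_iff.1 hc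
      have hm : g * a * g⁻¹ ∈ Cfsg.conjBy A g := RankOne.conj_mem_conjBy ha
      by_cases hg : g • α = β
      · rw [hsame g y hg] at hm
        exact Subgroup.mem_sup_right hm
      · obtain ⟨b, hb, e⟩ := hA'reg α (g • α) (Ne.symm hβα) hg
        rw [← hsame b g e] at hm
        exact RankOne.conjBy_le le_sup_left (Subgroup.mem_sup_right hb) hm
    · intro x hx
      have := Subgroup.normalClosure_normal.conj_mem _
        (Subgroup.subset_normalClosure (RankOne.mem_conjBy.1 hx : y⁻¹ * x * y ∈ (A : Set Y))) y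
      simpa [mul_assoc] using this

end Cfsg.Agent.S5015
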