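import Cfsg.Statements.S5016
import Cfsg.Agent.Lib.ThreeTransp.RankOne

set_option autoImplicit false
open Cfsg

namespace Cfsg.Agent.S5016

open Cfsg.Agent.ThreeTransp
variable {k : Type*} [Field k]

/-- Upper unitriangular element. -/
def up (x : k) : Matrix.SpecialLinearGroup (Fin 2) k := ⟨!![1, x; 0, 1], by simp [Matrix.det_fin_two]⟩

/-- Lower unitriangular element. -/
def low (x : k) : Matrix.SpecialLinearGroup (Fin 2) k := ⟨!![1, 0; x, 1], by simp [Matrix.det_fin_two]⟩

theorem up_coe (x : k) : (up x : Matrix (Fin 2) (Fin 2) k) = !![1, x; 0, 1] := rfl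

theorem low_coe (x : k) : (low x : Matrix (Fin 2) (Fin 2) k) = !![1, 0; x, 1] := rfl

theorem up_mul (x y : k) : up x * up y = up (x + y) := by
  apply Subtype.ext
  ext i j
  fin_cases i <;> fin_cases j <;> simp [up_coe, Matrix.mul_apply, Fin.sum_univ_two, add_comm]

theorem low_mul (x y : k) : low x * low y = low (x + y) := by
  apply Subtype.ext
  ext i j
  fin_cases i <;> fin_cases j <;> simp [low_coe, Matrix.mul_apply, Fin.sum_univ_two]

theorem up_zero : up (0 : k) = 1 := by
  apply Subtype.ext; ext i j; fin_cases i <;> fin_cases j <;> simp [up]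

theorem low_zero : low (0 : k) = 1 := by
  apply Subtype.ext; ext i j; fin_cases i <;> fin_cases j <;> simp [low]

theorem up_inv (x : k) : (up x)⁻¹ = up (-x) :=
  inv_eq_of_mul_eq_one_right (by rw [up_mul, add_neg_cancel, up_zero])

theorem low_inv (x : k) : (low x)⁻¹ = low (-x) :=
  inv_eq_of_mul_eq_one_right (by rw [low_mul, add_neg_cancel, low_zero])

theorem mem_upper {g : Matrix.SpecialLinearGroup (Fin 2) k} :
    g ∈ Cfsg.upperUnipotentSL2 k ↔ ∃ x, g = up x := by
  constructor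
  · intro hg
    induction hg using Subgroup.closure_induction with
    | mem h hh =>
      obtain ⟨h1, h2, h3⟩ := hh
      refine ⟨(h : Matrix (Fin 2) (Fin 2) k) 0 1, ?_⟩
      apply Subtype.ext
      ext i j
      fin_cases i <;> fin_cases j <;> simp [up, h1, h2, h3]
    | one => exact ⟨0, up_zero.symm⟩
    | mul a b _ _ ha hb =>
      obtain ⟨x, rfl⟩ := ha; obtain ⟨y, rfl⟩ := hb; exact ⟨_, up_mul x y⟩
    | inv a _ ha => obtain ⟨x, rfl⟩ := ha; exact ⟨_, up_inv x⟩
  · rintro ⟨x, rfl⟩; exact Subgroup.subset_closure ⟨by simp [up], by simp [up], by simp [up]⟩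

theorem mem_lower {g : Matrix.SpecialLinearGroup (Fin 2) k} :
    g ∈ Cfsg.lowerUnipotentSL2 k ↔ ∃ x, g = low x := by
  constructor
  · intro hg
    induction hg using Subgroup.closure_induction with
    | mem h hh =>
      obtain ⟨h1, h2, h3⟩ := hh
      refine ⟨(h : Matrix (Fin 2) (Fin 2) k) 1 0, ?_⟩
      apply Subtype.ext
      ext i j
      fin_cases i <;> fin_cases j <;> simp [low, h1, h2, h3]
    | one => exact ⟨0, low_zero.symm⟩
    | mul a b _ _ ha hb =>
      obtain ⟨x, rfl⟩ := ha; obtain ⟨y, rfl⟩ := hb; exact ⟨_, low_mul x y⟩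
    | inv a _ ha => obtain ⟨x, rfl⟩ := ha; exact ⟨_, low_inv x⟩
  · rintro ⟨x, rfl⟩; exact Subgroup.subset_closure ⟨by simp [low], by simp [low], by simp [low]⟩

theorem key {c d : k} (h : c * d = 1) (y : k) :
    up (-d) * low y * up d = low (-c) * up (-(d * d * y)) * low c := by
  apply Subtype.ext
  ext i j
  fin_cases i <;> fin_cases j <;> simp [up_coe, low_coe, Matrix.mul_apply, Fin.sum_univ_two]
  · linear_combination (-d * y) * h
  · ring
  · linear_combination (-(y) * (c * d + 1)) * h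
  · linear_combination (d * y) * h * (-1 : k)

theorem conj_eq {c d : k} (h : c * d = 1) :
    Cfsg.conjBy (Cfsg.lowerUnipotentSL2 k) (up d)⁻¹ =
      Cfsg.conjBy (Cfsg.upperUnipotentSL2 k) (low c)⁻¹ := by
  ext g
  rw [RankOne.mem_conjBy, RankOne.mem_conjBy, mem_lower, mem_upper, inv_inv, inv_inv]
  constructor
  · rintro ⟨y, hy⟩
    refine ⟨-(d * d * y), ?_⟩
    have e : g = up (-d) * low y * up d := by
      rw [← hy, ← up_inv]; simp [mul_assoc]
    rw [e, key h, ← low_inv]; simp [mul_assoc]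
  · rintro ⟨x, hx⟩
    refine ⟨-(c * c * x), ?_⟩
    have e : g = low (-c) * up x * low c := by
      rw [← hx, ← low_inv]; simp [mul_assoc]
    have hxy : -(d * d * -(c * c * x)) = x := by linear_combination (c * d + 1) * x * h
    have := key h (-(c * c * x))
    rw [hxy] at this
    rw [e, ← this, ← up_inv]; simp [mul_assoc]

theorem generate (g : Matrix.SpecialLinearGroup (Fin 2) k) :
    g ∈ Cfsg.lowerUnipotentSL2 k ⊔ Cfsg.upperUnipotentSL2 k := by
  have hu : ∀ x : k, up x ∈ Cfsg.lowerUnipotentSL2 k ⊔ Cfsg.upperUnipotentSL2 k :=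
    fun x => Subgroup.mem_sup_right (mem_upper.2 ⟨x, rfl⟩)
  have hl : ∀ x : k, low x ∈ Cfsg.lowerUnipotentSL2 k ⊔ Cfsg.upperUnipotentSL2 k :=
    fun x => Subgroup.mem_sup_left (mem_lower.2 ⟨x, rfl⟩)
  have main : ∀ g : Matrix.SpecialLinearGroup (Fin 2) k, (g : Matrix (Fin 2) (Fin 2) k) 1 0 ≠ 0 →
      g ∈ Cfsg.lowerUnipotentSL2 k ⊔ Cfsg.upperUnipotentSL2 k := by
    intro g hg
    have hdet := g.2
    rw [Matrix.det_fin_two] at hdet
    set a := (g : Matrix (Fin 2) (Fin 2) k) 0 0
    set b := (g : Matrix (Fin 2) (Fin 2) k) 0 1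
    set c := (g : Matrix (Fin 2) (Fin 2) k) 1 0
    set d := (g : Matrix (Fin 2) (Fin 2) k) 1 1
    have e : g = up ((a - 1) / c) * low c * up ((d - 1) / c) := by
      apply Subtype.ext
      ext i j
      fin_cases i <;> fin_cases j <;> simp [up_coe, low_coe, Matrix.mul_apply, Fin.sum_univ_two]
      · field_simp; ring
      · field_simp; linear_combination (-1 : k) * hdet
      · rfl
      · field_simp; ring
    rw [e]
    exact Subgroup.mul_mem _ (Subgroup.mul_mem _ (hu _) (hl _)) (hu _)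
  by_cases hg : (g : Matrix (Fin 2) (Fin 2) k) 1 0 = 0
  · have h1 := main (low 1 * g) (by
      have hdet := g.2
      rw [Matrix.det_fin_two, hg] at hdet
      simp [low_coe, Matrix.mul_apply, Fin.sum_univ_two, hg]
      intro h; rw [h] at hdet; simp at hdet)
    have := Subgroup.mul_mem _ (inv_mem (hl 1)) h1
    rwa [inv_mul_cancel_left] at this
  · exact main g hg

/-- For any field k, the special linear group SL₂(k) is a special rank one group with abelian unipotent subgroups, the unipotent subgroups being the group of lower unitriangular matrices and the group of upper unitriangular matrices. -/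
theorem result (k : Type*) [Field k] :
    Cfsg.IsRankOneGroup (Matrix.SpecialLinearGroup (Fin 2) k) (Cfsg.lowerUnipotentSL2 k) (Cfsg.upperUnipotentSL2 k) ∧
    Cfsg.IsSpecialRankOnePair (Cfsg.lowerUnipotentSL2 k) (Cfsg.upperUnipotentSL2 k) ∧
    Cfsg.HasAbelianUnipotents (Cfsg.lowerUnipotentSL2 k) (Cfsg.upperUnipotentSL2 k) := by
  have hAc : IsMulCommutative ↥(Cfsg.lowerUnipotentSL2 k) := ⟨⟨fun a b => by
    obtain ⟨x, hx⟩ := mem_lower.1 a.2
    obtain ⟨y, hy⟩ := mem_lower.1 b.2
    exact Subtype.ext (by simp [hx, hy, low_mul, add_comm])⟩⟩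
  have hBc : IsMulCommutative ↥(Cfsg.upperUnipotentSL2 k) := ⟨⟨fun a b => by
    obtain ⟨x, hx⟩ := mem_upper.1 a.2
    obtain ⟨y, hy⟩ := mem_upper.1 b.2
    exact Subtype.ext (by simp [hx, hy, up_mul, add_comm])⟩⟩
  have hnil : ∀ (H : Subgroup (Matrix.SpecialLinearGroup (Fin 2) k)), IsMulCommutative ↥H →
      Group.IsNilpotent ↥H := by
    intro H hH
    rw [Subgroup.nilpotent_iff_lowerCentralSeries]
    refine ⟨1, ?_⟩
    rw [Subgroup.lowerCentralSeries_succ, Subgroup.lowerCentralSeries_zero, RankOne.commutator_eq_bot_iff]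
    exact fun a _ b _ => mul_comm' a b
  have hpair : Cfsg.IsRankOnePair (Cfsg.lowerUnipotentSL2 k) (Cfsg.upperUnipotentSL2 k) := by
    refine ⟨fun e => ?_, hnil _ hAc, hnil _ hBc, ?_, ?_⟩
    · obtain ⟨x, hx⟩ := mem_upper.1 (e ▸ mem_lower.2 ⟨(1 : k), rfl⟩)
      have := congrArg (fun g : Matrix.SpecialLinearGroup (Fin 2) k =>
        (g : Matrix (Fin 2) (Fin 2) k) 1 0) hx
      simp [low, up] at this
    · intro a ha ha1
      obtain ⟨c, rfl⟩ := mem_lower.1 ha
      have hc : c ≠ 0 := fun h => ha1 (by rw [h, low_zero])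
      refine ⟨up c⁻¹, mem_upper.2 ⟨_, rfl⟩, fun h => ?_, conj_eq (mul_inv_cancel₀ hc)⟩
      have := congrArg (fun g : Matrix.SpecialLinearGroup (Fin 2) k =>
        (g : Matrix (Fin 2) (Fin 2) k) 0 1) h
      simp [up, hc] at this
    · intro b hb hb1
      obtain ⟨d, rfl⟩ := mem_upper.1 hb
      have hd : d ≠ 0 := fun h => hb1 (by rw [h, up_zero])
      refine ⟨low d⁻¹, mem_lower.2 ⟨_, rfl⟩, fun h => ?_, (conj_eq (inv_mul_cancel₀ hd)).symm⟩
      have := congrArg (fun g : Matrix.SpecialLinearGroup (Fin 2) k =>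
        (g : Matrix (Fin 2) (Fin 2) k) 1 0) h
      simp [low, hd] at this
  refine ⟨⟨eq_top_iff.2 fun g _ => generate g, hpair⟩, ⟨hpair, ?_⟩, hAc, hBc⟩
  intro a ha ha1 b hb hb1 e
  obtain ⟨c, rfl⟩ := mem_lower.1 ha
  have hc : c ≠ 0 := fun h => ha1 (by rw [h, low_zero])
  obtain rfl : b = up c⁻¹ := by
    refine (RankOne.unique_partner hpair ha ha1).unique ⟨hb, hb1, e⟩
      ⟨mem_upper.2 ⟨_, rfl⟩, fun h => ?_, conj_eq (mul_inv_cancel₀ hc)⟩
    have := congrArg (fun g : Matrix.SpecialLinearGroup (Fin 2) k =>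
      (g : Matrix (Fin 2) (Fin 2) k) 0 1) h
    simp [up, hc] at this
  rw [up_inv, low_inv, key (mul_inv_cancel₀ hc) c]
  congr 3
  field_simp

end Cfsg.Agent.S5016
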