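import Cfsg.Statements.S5020
import Cfsg.Agent.Lib.RootSubgroups.SpecialPerfect
import Cfsg.Agent.Lib.RootSubgroups.SpecialPrime
import Cfsg.Agent.Lib.RootSubgroups.SpecialDiagonal
import Cfsg.Agent.S5017

set_option autoImplicit false
open Cfsg

namespace Cfsg.Agent.S5020

/-- Let X be a special rank one group with abelian unipotent subgroups A and B, and H = N(A) ∩ N(B) its diagonal subgroup. Then either A has at most three elements and X is isomorphic to SL₂(2), SL₂(3) or PSL₂(3); or X = X' A with the commutator subgroup X' quasisimple and the commutator subgroup ⁅A, H⁆ having more than three elements. -/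
theorem result {X : Type*} [Group X] {A B : Subgroup X} (h : Cfsg.IsRankOneGroup X A B)
    (hs : Cfsg.IsSpecialRankOnePair A B) (hab : Cfsg.HasAbelianUnipotents A B) :
    (ENat.card A ≤ 3 ∧ (Nonempty (X ≃* Matrix.SpecialLinearGroup (Fin 2) (ZMod 2)) ∨
        Nonempty (X ≃* Matrix.SpecialLinearGroup (Fin 2) (ZMod 3)) ∨
        Nonempty (X ≃* Matrix.ProjectiveSpecialLinearGroup (Fin 2) (ZMod 3)))) ∨
    (commutator X ⊔ A = ⊤ ∧ Cfsg.IsQuasisimple (commutator X) ∧
      3 < ENat.card ↥(⁅A, Cfsg.rankOneDiagonal A B⁆ : Subgroup X)) := by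
  obtain ⟨htop, hp0⟩ := h
  rcases le_or_gt (ENat.card A) 3 with h3 | h3
  swap
  · right
    have hperf : commutator X = ⊤ := by
      have hA : A ≤ commutator X :=
        (Cfsg.Agent.RootSubgroups.SpecialPerfect.le_commutator hs h3).trans
          (Subgroup.commutator_mono le_top le_top)
      refine top_le_iff.1 (htop ▸ sup_le hA ?_)
      obtain ⟨x, -, e⟩ := Cfsg.Agent.ThreeTransp.RankOne.right_mem hp0
      rw [e]
      exact (Subgroup.map_mono hA).trans (Subgroup.Normal.conjAct (inferInstance : (commutator X).Normal) (ConjAct.toConjAct x)).le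
    refine ⟨by rw [hperf, top_sup_eq], ?_, ?_⟩
    · rw [hperf]
      exact Cfsg.Agent.Components.Basic.quasisimple_of_mulEquiv Subgroup.topEquiv.symm
        ((Cfsg.Agent.S5017.result ⟨htop, hp0⟩).2 ⟨hperf⟩)
    · refine h3.trans_le ?_
      exact ENat.card_le_card_of_injective (Subgroup.inclusion_injective
        (Cfsg.Agent.RootSubgroups.SpecialDiagonal.le_commutator hs hab.1 h3))
  left
  refine ⟨h3, ?_⟩
  have hfin : Finite ↥A := ENat.card_lt_top.1 (h3.trans_lt (ENat.coe_lt_top 3))
  obtain ⟨a, ha, ha1⟩ := Cfsg.Agent.ThreeTransp.RankOne.exists_ne_one hp0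
  have hp : (orderOf a).Prime := Cfsg.Agent.RootSubgroups.Special.orderOf_prime hs ha ha1 (by
    have := isOfFinOrder_of_finite (⟨a, ha⟩ : ↥A)
    exact (Submonoid.isOfFinOrder_coe (H := A.toSubmonoid) (x := ⟨a, ha⟩)).2 this)
  have hc3 : Nat.card ↥A ≤ 3 := by
    rw [ENat.card_eq_coe_natCard] at h3
    exact_mod_cast h3
  have hle : orderOf a ≤ 3 := le_trans (Nat.le_of_dvd Nat.card_pos (A.orderOf_dvd_natCard ha)) hc3
  have hcard : Nat.card ↥A = orderOf a := by
    obtain ⟨k, hk⟩ := A.orderOf_dvd_natCard ha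
    have h2 := hp.two_le
    rcases k with _ | _ | k
    · exact absurd hk (by simp [Nat.card_pos.ne'])
    · simpa using hk
    · nlinarith
  have hzA : Subgroup.zpowers a = A :=
    Subgroup.eq_of_le_of_card_ge (Subgroup.zpowers_le.2 ha) (by rw [Nat.card_zpowers, hcard])
  obtain ⟨c, hc⟩ := Cfsg.Agent.RootSubgroups.Special.exists_opp hs ha ha1
  have hgen : Subgroup.closure ({a, c} : Set X) = ⊤ := by
    have hzB : Subgroup.zpowers c = B := by
      rw [← Cfsg.Agent.RootSubgroups.Special.weyl_left hc, ← hzA, Cfsg.conjBy, MonoidHom.map_zpowers]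
      congr 1
      exact (Cfsg.Agent.RootSubgroups.Special.weyl_a hc).symm
    refine top_le_iff.1 (htop ▸ sup_le ?_ ?_)
    · rw [← hzA, Subgroup.zpowers_le]; exact Subgroup.subset_closure (Set.mem_insert _ _)
    · rw [← hzB, Subgroup.zpowers_le]; exact Subgroup.subset_closure (Set.mem_insert_of_mem _ rfl)
  have key := fun (p : ℕ) (hpp : Fact p.Prime) (hap : a ^ p = 1) =>
    Cfsg.Agent.RootSubgroups.SpecialPrime.main hs hc hap
  rw [hgen] at key
  have h23 : orderOf a = 2 ∨ orderOf a = 3 := by have := hp.two_le; omega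
  rcases h23 with e | e
  · refine Or.inl ?_
    have hap : a ^ 2 = 1 := by rw [← e]; exact pow_orderOf_eq_one a
    rcases key 2 ⟨Nat.prime_two⟩ hap with hh | hh
    · exact hh.map fun f => Subgroup.topEquiv.symm.trans f
    · obtain ⟨f⟩ := hh
      haveI : Fact (Nat.Prime 2) := ⟨Nat.prime_two⟩
      have hz : Subgroup.center (Matrix.SpecialLinearGroup (Fin 2) (ZMod 2)) = ⊥ := by
        rw [Subgroup.eq_bot_iff_forall]
        intro g hg
        rcases (Cfsg.Agent.RootSubgroups.SpecialPrime.center_eq).1 hg with hg' | hg'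
        · exact hg'
        · rw [hg']; ext i j; simp [ZMod.neg_eq_self_mod_two]
      exact ⟨(Subgroup.topEquiv.symm.trans f).trans
        ((QuotientGroup.quotientMulEquivOfEq hz).trans QuotientGroup.quotientBot)⟩
  · refine Or.inr ?_
    have hap : a ^ 3 = 1 := by rw [← e]; exact pow_orderOf_eq_one a
    rcases key 3 ⟨Nat.prime_three⟩ hap with hh | hh
    · exact Or.inl (hh.map fun f => Subgroup.topEquiv.symm.trans f)
    · exact Or.inr (hh.map fun f => Subgroup.topEquiv.symm.trans f)

end Cfsg.Agent.S5020
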