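import Cfsg.Statements.S5023
import Cfsg.Agent.Lib.RootSubgroups.SpecialQuadratic

set_option autoImplicit false
open Cfsg

namespace Cfsg.Agent.S5023

/-- Let X be a rank one group with unipotent subgroups A and B that acts faithfully on an abelian group V (written additively) with A acting quadratically: a' • (a • v − v) = a • v − v for all a, a' in A and v in V. Then A is either torsion-free or an elementary abelian p-group for some prime p. -/
theorem result {X : Type*} [Group X] {A B : Subgroup X} (h : Cfsg.IsRankOneGroup X A B)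
    {V : Type*} [AddCommGroup V] [DistribMulAction X V] (hf : ∀ x : X, (∀ v : V, x • v = v) → x = 1)
    (hq : ∀ a ∈ A, ∀ a' ∈ A, ∀ v : V, a' • (a • v - v) = a • v - v) :
    (∀ a ∈ A, a ≠ 1 → ¬ IsOfFinOrder a) ∨ ∃ p : ℕ, p.Prime ∧ Cfsg.IsElementaryAbelian p A := by
  have comm : ∀ S : Set X, (∀ a ∈ S, ∀ a' ∈ S, ∀ v : V, a' • (a • v - v) = a • v - v) →
      ∀ a ∈ S, ∀ a' ∈ S, a * a' = a' * a := by
    intro S hS a ha a' ha'
    rw [← mul_inv_eq_one]
    refine hf _ fun v => ?_
    have e1 : ∀ w : V, (a * a') • w = (a' * a) • w := fun w => by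
      have h1 := hS a ha a' ha' w
      have h2 := hS a' ha' a ha w
      rw [smul_sub, sub_eq_iff_eq_add] at h1 h2
      rw [mul_smul, mul_smul, h1, h2]
      abel
    rw [mul_smul, e1, ← mul_smul, mul_inv_cancel, one_smul]
  have hA : IsMulCommutative A := ⟨⟨fun a b => Subtype.ext (comm A hq a a.2 b b.2)⟩⟩
  have hX : ¬ ∀ x y : X, ∀ n : V, y • (x • n - n) = x • n - n := fun hh =>
    Cfsg.Agent.ThreeTransp.RankOne.not_commute h.2 (Cfsg.Agent.ThreeTransp.RankOne.commutator_eq_bot_iff.2
      fun a _ b _ => comm Set.univ (fun x _ y _ => hh x y) a trivial b trivial)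
  rcases Cfsg.Agent.RootSubgroups.Special.elementary_or_divisible
    (Cfsg.Agent.RootSubgroups.SpecialQuadratic.special h.1 h.2 hq hX) hA with ⟨p, hp, hpow⟩ | hfree
  · exact Or.inr ⟨p, hp, hA, hpow⟩
  · exact Or.inl hfree.1

end Cfsg.Agent.S5023
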