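import Cfsg.Statements.S5024
import Cfsg.Agent.Lib.ThreeTransp.RankOne
import Cfsg.Agent.Lib.ThreeTransp.RootSets

set_option autoImplicit false
open Cfsg

namespace Cfsg.Agent.S5024

open Cfsg.Agent.ThreeTransp

/-- Let S be a set of abstract root subgroups of G, A and C members of S, B a rank one partner of A in S and D a rank one partner of C in S. If the rank one group ⟨A, B⟩ is contained in ⟨C, D⟩ then the two coincide, and C and D are conjugates of A inside ⟨A, B⟩. -/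
theorem result {G : Type*} [Group G] {S : Set (Subgroup G)} (hS : Cfsg.IsRootSubgroupSet S)
    {A B C D : Subgroup G} (hA : A ∈ S) (hC : C ∈ S) (hB : B ∈ Cfsg.rankOnePartners S A) (hD : D ∈ Cfsg.rankOnePartners S C)
    (hle : A ⊔ B ≤ C ⊔ D) : A ⊔ B = C ⊔ D ∧ C ∈ Cfsg.unipotentSubgroups A B ∧ D ∈ Cfsg.unipotentSubgroups A B := by
  obtain ⟨hBS, hAB⟩ := hB
  obtain ⟨hDS, hCD⟩ := hD
  have hnc : ⁅A, B⁆ ≠ ⊥ := RankOne.not_commute hAB
  have inΩ : ∀ E ∈ S, E ≤ A ⊔ B → (∃ E' , E' ≤ A ⊔ B ∧ ⁅E, E'⁆ ≠ ⊥) →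
      E ∈ Cfsg.unipotentSubgroups C D := by
    rintro E hE hEle ⟨E', hE'le, hEE'⟩
    refine (RootSets.member_in_pair hS hC hCD hE (hEle.trans hle)).resolve_right fun hall => hEE' ?_
    have : C ⊔ D ≤ Subgroup.centralizer (E : Set G) := by
      refine sup_le ?_ ?_
      · exact Subgroup.commutator_eq_bot_iff_le_centralizer.1
          ((Subgroup.commutator_comm _ _).trans (hall C RankOne.self_mem))
      · exact Subgroup.commutator_eq_bot_iff_le_centralizer.1
          ((Subgroup.commutator_comm _ _).trans (hall D (RankOne.right_mem hCD)))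
    rw [Subgroup.commutator_comm, Subgroup.commutator_eq_bot_iff_le_centralizer]
    exact hE'le.trans (hle.trans this)
  have hAΩ := inΩ A hA le_sup_left ⟨B, le_sup_right, hnc⟩
  have hBΩ := inΩ B hBS le_sup_right ⟨A, le_sup_left, by rwa [Subgroup.commutator_comm]⟩
  have heq : A ⊔ B = C ⊔ D := RankOne.sup_eq hCD hAΩ hBΩ hAB.ne
  have back : ∀ E ∈ Cfsg.unipotentSubgroups C D, E ∈ Cfsg.unipotentSubgroups A B := by
    rintro E ⟨x, hx, rfl⟩
    obtain ⟨y, hy, e⟩ := hAΩ
    refine ⟨x * y⁻¹, by rw [heq]; exact Subgroup.mul_mem _ hx (Subgroup.inv_mem _ hy), ?_⟩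
    rw [← RankOne.conjBy_conjBy A x y⁻¹, e, RankOne.conjBy_conjBy C y⁻¹ y, inv_mul_cancel,
      RankOne.conjBy_one]
  exact ⟨heq, back C RankOne.self_mem, back D (RankOne.right_mem hCD)⟩

end Cfsg.Agent.S5024
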