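import Cfsg.Statements.S5026
import Cfsg.Agent.Lib.ThreeTransp.RankOne
import Cfsg.Agent.Lib.ThreeTransp.RootSets

set_option autoImplicit false
open Cfsg

namespace Cfsg.Agent.S5026

open Cfsg.Agent.ThreeTransp

/-- Let S be a degenerate set of abstract root subgroups of G (a set of abstract transvection groups) and let a, b be commuting non-identity elements of members of S with a b ≠ 1. Then the members of S centralizing a b are exactly those centralizing both a and b. -/
theorem result {G : Type*} [Group G] {S : Set (Subgroup G)} (hS : Cfsg.IsRootSubgroupSet S) (hdeg : Cfsg.IsDegenerateRootSet S)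
    {a b : G} (ha : a ∈ Cfsg.rootElements S) (hb : b ∈ Cfsg.rootElements S) (hab : a * b = b * a) (hab1 : a * b ≠ 1) :
    Cfsg.centralizingMembers S (Subgroup.zpowers (a * b)) =
      Cfsg.centralizingMembers S (Subgroup.zpowers a) ∩ Cfsg.centralizingMembers S (Subgroup.zpowers b) := by
  obtain ⟨ha1, A, hA, haA⟩ := ha
  obtain ⟨hb1, B, hB, hbB⟩ := hb
  have hcz : ∀ (E : Subgroup G) (g : G),
      E ≤ Subgroup.centralizer (Subgroup.zpowers g : Set G) ↔ ∀ e ∈ E, g * e = e * g := by
    intro E g
    constructor
    · intro h e he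
      exact Subgroup.mem_centralizer_iff.1 (h he) g (Subgroup.mem_zpowers g)
    · intro h e he
      rw [Subgroup.mem_centralizer_iff]
      rintro _ ⟨k, rfl⟩
      exact ((show Commute g e from h e he).zpow_left k).eq
  ext E
  simp only [Cfsg.centralizingMembers, Set.mem_inter_iff, Set.mem_setOf_eq, hcz]
  constructor
  · rintro ⟨hE, hc⟩
    have hfin : (∀ e ∈ E, a * e = e * a) → ((E ∈ S ∧ ∀ e ∈ E, a * e = e * a) ∧
        E ∈ S ∧ ∀ e ∈ E, b * e = e * b) := fun h => ⟨⟨hE, h⟩, hE, fun e he => by
      have h1 : Commute (a⁻¹ * (a * b)) e :=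
        (show Commute a e from h e he).inv_left.mul_left (hc e he)
      rwa [inv_mul_cancel_left] at h1⟩
    rcases hS.pair A hA E hE with h | h | h
    · exact hfin fun e he => RankOne.commutator_eq_bot_iff.1 h a haA e he
    · exfalso
      rcases hS.pair B hB E hE with h' | h' | h'
      · have hbe : ∀ e ∈ E, Commute b e := fun e he =>
          RankOne.commutator_eq_bot_iff.1 h' b hbB e he
        have hae : ∀ e ∈ E, a * e = e * a := fun e he => by
          have h1 : Commute (a * b * b⁻¹) e :=
            (show Commute (a * b) e from hc e he).mul_left (hbe e he).inv_left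
          rwa [mul_inv_cancel_right] at h1
        exact ha1 (RankOne.inf_normalizer h haA (RankOne.mem_normalizer_of_centralizes hae))
      · obtain ⟨e₁, he₁, -, r1⟩ := h.cond_left a haA ha1
        obtain ⟨e₂, he₂, -, r2⟩ := h'.cond_left b⁻¹ (B.inv_mem hbB) (inv_ne_one.2 hb1)
        rw [inv_inv] at r2
        have hcn : Cfsg.conjBy E (a * b) = E :=
          RankOne.conjBy_eq_iff.2 (RankOne.mem_normalizer_of_centralizes hc)
        have heq : Cfsg.conjBy E b = Cfsg.conjBy E a⁻¹ := by
          conv_lhs => rw [show b = a⁻¹ * (a * b) from (inv_mul_cancel_left a b).symm,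
            ← RankOne.conjBy_conjBy, hcn]
        have hBΩ : B ∈ Cfsg.unipotentSubgroups A E := by
          refine ⟨e₂ * e₁⁻¹, Subgroup.mul_mem _ (Subgroup.mem_sup_right he₂)
            (Subgroup.mem_sup_right (inv_mem he₁)), ?_⟩
          rw [← RankOne.conjBy_conjBy, r1, ← heq, ← r2, RankOne.conjBy_conjBy, mul_inv_cancel,
            RankOne.conjBy_one]
        have hBA : B = A := by
          by_contra hne
          have haba : b ∈ Cfsg.conjBy B a := RankOne.mem_conjBy.2 (by
            rw [mul_assoc, ← hab, inv_mul_cancel_left]; exact hbB)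
          have hBaΩ : Cfsg.conjBy B a ∈ Cfsg.unipotentSubgroups A E :=
            RankOne.conj_mem hBΩ (Subgroup.mem_sup_left haA)
          by_cases e : Cfsg.conjBy B a = B
          · exact ha1 (RankOne.eq_one_of_normalizes h RankOne.self_mem hBΩ (Ne.symm hne) haA
              (RankOne.conjBy_eq_iff.1 e))
          · exact hb1 (RankOne.eq_one_of_normalizes h hBΩ hBaΩ (Ne.symm e) hbB
              (Subgroup.le_normalizer haba))
        exact hab1 (RankOne.inf_normalizer h (A.mul_mem haA (hBA ▸ hbB))
          (RankOne.mem_normalizer_of_centralizes hc))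
      · exact hdeg B hB E hE h'
    · exact absurd h (hdeg A hA E hE)
  · rintro ⟨⟨hE, h1⟩, -, h2⟩
    exact ⟨hE, fun e he => ((show Commute a e from h1 e he).mul_left (h2 e he)).eq⟩

end Cfsg.Agent.S5026
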