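import Cfsg.Statements.S5027
import Cfsg.Agent.Lib.ThreeTransp.RootSets

set_option autoImplicit false
open Cfsg

namespace Cfsg.Agent.S5027

open Cfsg.Agent.ThreeTransp

/-- Let S be a set of abstract root subgroups of G such that every member of S has a rank one partner in S (the graph of rank one pairs on S has no isolated vertex). Then the second centre of G equals its centre. -/
theorem result {G : Type*} [Group G] {S : Set (Subgroup G)} (hS : Cfsg.IsRootSubgroupSet S)
    (hF : ∀ A ∈ S, ¬ Cfsg.IsIsolatedIn (Cfsg.FAdj S) S A) : Subgroup.upperCentralSeries G 2 = Subgroup.center G := by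
  refine le_antisymm (fun z hz => ?_) ?_
  · rw [← Subgroup.upperCentralSeries_one] at *
    have hz' := (Subgroup.mem_upperCentralSeries_succ_iff (n := 1)).1 hz
    rw [Subgroup.upperCentralSeries_one] at hz' ⊢
    rw [Subgroup.mem_center_iff]
    have key : ∀ A ∈ S, ∀ a ∈ A, z * a = a * z := by
      intro A hA a ha
      by_cases ha1 : a = 1
      · simp [ha1]
      obtain ⟨B, hB⟩ := RootSets.exists_partner hS (hF A hA) hA
      have hcz := hz' a
      rw [commutatorElement_def] at hcz
      by_contra hne
      refine RootSets.mul_notMem_rootElements hS hA hB (z := z * a * z⁻¹ * a⁻¹) ?_ ?_ ha ha1 ?_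
      · rw [Subgroup.mem_centralizer_iff]
        exact fun x _ => Subgroup.mem_center_iff.1 hcz x
      · exact fun e => hne (mul_inv_eq_iff_eq_mul.1 (mul_inv_eq_one.1 e))
      · rw [inv_mul_cancel_right]
        exact ⟨fun e => ha1 (conj_eq_one_iff.1 e), Cfsg.conjBy A z, hS.conj_mem A hA z,
          RankOne.conj_mem_conjBy ha⟩
    intro g
    have hg : g ∈ ⨆ A ∈ S, A := hS.generates ▸ Subgroup.mem_top g
    rw [iSup_subtype', Subgroup.iSup_eq_closure] at hg
    induction hg using Subgroup.closure_induction with
    | mem x hx =>
      obtain ⟨⟨A, hA⟩, hxA⟩ := Set.mem_iUnion.1 hx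
      exact (key A hA x hxA).symm
    | one => simp
    | mul x y _ _ hx hy => exact ((show Commute x z from hx).mul_left hy).eq
    | inv x _ hx => exact ((show Commute x z from hx).inv_left).eq
  · rw [← Subgroup.upperCentralSeries_one]
    exact Subgroup.upperCentralSeries_mono G (by norm_num)

end Cfsg.Agent.S5027
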