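import Cfsg.Statements.S5043
import Cfsg.Agent.Lib.RootExamples.Linear

set_option autoImplicit false
open Matrix
open Cfsg

namespace Cfsg.Agent.S5043

open Matrix Cfsg.Agent.RootExamples

variable {k : Type*} [Field k] {n : ℕ}

local notation "SL" => Matrix.SpecialLinearGroup (Fin (n + 3)) k
local notation "V" => Fin (n + 3) → k

theorem pair_cases {A B : Subgroup SL} (hA : A ∈ Linear.S) (hB : B ∈ Linear.S) :
    ⁅A, B⁆ = ⊥ ∨ (IsRankOnePair A B ∧ IsPSL2PairOver k A B) ∨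
      (RootCommutatorCase Linear.S A B ∧ ¬ IsRankOnePair A B) := by
  obtain ⟨v, φ, hA'⟩ := Linear.mem_S.1 hA
  obtain ⟨w, ψ, hB'⟩ := Linear.mem_S.1 hB
  have hf := Linear.coeHom_injective (k := k) (n := n)
  by_cases h1 : φ ⬝ᵥ w = 0 <;> by_cases h2 : ψ ⬝ᵥ v = 0
  · exact Or.inl (comm_case hf hA' hB' h1 h2)
  · obtain ⟨C, hC, hC'⟩ := Linear.exists_member hB'.vne hA'.φne h1
    obtain ⟨e, hc, c1, c2, hn⟩ := comm2_case hf hB' hA' hC' h2 h1
    rw [Subgroup.commutator_comm] at e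
    refine Or.inr (Or.inr ⟨⟨by rw [e]; exact hC, by rw [e, sup_comm]; exact hc, fun a ha ha1 => ?_,
      fun b hb hb1 => ?_⟩, fun h => hn (RankOnePair_symm h)⟩)
    · rw [e, ← c2 a ha ha1]
      refine le_antisymm ((Subgroup.closure_le _).2 ?_) ((Subgroup.closure_le _).2 ?_) <;>
      · rintro _ ⟨b, hb, rfl⟩
        rw [SetLike.mem_coe, ← inv_mem_iff]
        exact Subgroup.subset_closure ⟨b, hb, by group⟩
    · rw [e, ← c1 b hb hb1]
      refine le_antisymm ((Subgroup.closure_le _).2 ?_) ((Subgroup.closure_le _).2 ?_) <;>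
      · rintro _ ⟨a, ha, rfl⟩
        rw [SetLike.mem_coe, ← inv_mem_iff]
        exact Subgroup.subset_closure ⟨a, ha, by group⟩
  · obtain ⟨C, hC, hC'⟩ := Linear.exists_member hA'.vne hB'.φne h2
    obtain ⟨e, hc, c1, c2, hn⟩ := comm2_case hf hA' hB' hC' h1 h2
    exact Or.inr (Or.inr ⟨⟨by rw [e]; exact hC, by rw [e]; exact hc, by rw [e]; exact c1,
      by rw [e]; exact c2⟩, hn⟩)
  · exact Or.inr (Or.inl (rankOne_case hf hA' hB' h1 h2))

theorem conj_mem {A : Subgroup SL} (hA : A ∈ Linear.S) (g : SL) : conjBy A g ∈ Linear.S := by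
  obtain ⟨h, rfl⟩ := hA
  exact ⟨g * h, ThreeTransp.RankOne.conjBy_conjBy _ _ _⟩

theorem rootSet : IsRootSubgroupSet (Linear.S (k := k) (n := n)) where
  commutative A hA := (Linear.mem_S.1 hA).choose_spec.choose_spec.comm Linear.coeHom_injective
  ne_bot A hA := (Linear.mem_S.1 hA).choose_spec.choose_spec.ne_bot Linear.coeHom_injective
  generates := by
    refine Classical.Linear.eq_top_of_transvection_mem _ fun i j hij c => ?_
    obtain ⟨A, hA, hA'⟩ := Linear.exists_member (n := n) (v := (Pi.single i 1 : V))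
      (φ := (Pi.single j 1 : V)) (by simp) (by simp) (by simp [Pi.single_apply, hij.symm])
    exact Subgroup.mem_iSup_of_mem A (Subgroup.mem_iSup_of_mem hA
      ((hA'.mem _).2 ⟨c, Linear.transvection_eq c⟩))
  conj_mem A hA g := conj_mem hA g
  pair A hA B hB := (pair_cases hA hB).imp_right fun h => h.imp And.left And.left

theorem all_props : IsRootSubgroupClass (Linear.S (k := k) (n := n)) ∧
    IsNondegenerateRootSet (Linear.S (k := k) (n := n)) ∧
    IsKRootSubgroupSet k (Linear.S (k := k) (n := n)) ∧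
    IsConnectedFamily (FAdj (Linear.S (k := k) (n := n))) (Linear.S (k := k) (n := n)) := by
  have hf := Linear.coeHom_injective (k := k) (n := n)
  have h10 : (1 : Fin (n + 3)) ≠ 0 := by simp [Fin.ext_iff]
  have h20 : (2 : Fin (n + 3)) ≠ 0 := by simp [Fin.ext_iff, Nat.mod_eq_of_lt]
  have h21 : (2 : Fin (n + 3)) ≠ 1 := by simp [Fin.ext_iff, Nat.mod_eq_of_lt]
  have inc : ∀ {i j : Fin (n + 3)}, i ≠ j → (Pi.single j 1 : V) ⬝ᵥ Pi.single i 1 = 0 := fun h => by
    simp [Pi.single_apply, h]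
  obtain ⟨A, hA, hA'⟩ := Linear.exists_member (v := (Pi.single 0 1 : V)) (φ := Pi.single 1 1)
    (by simp) (by simp) (inc h10.symm)
  obtain ⟨B, hB, hB'⟩ := Linear.exists_member (v := (Pi.single 0 1 : V)) (φ := Pi.single 2 1)
    (by simp) (by simp) (inc h20.symm)
  obtain ⟨C, hC, hC'⟩ := Linear.exists_member (v := (Pi.single 1 1 : V)) (φ := Pi.single 0 1)
    (by simp) (by simp) (inc h10)
  obtain ⟨D, hD, hD'⟩ := Linear.exists_member (v := (Pi.single 1 1 : V)) (φ := Pi.single 2 1)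
    (by simp) (by simp) (inc h21.symm)
  refine ⟨⟨rootSet, ⟨A, hA⟩, ?_⟩, ⟨⟨A, hA, B, hB, ?_, comm_case hf hA' hB' hA'.inc hB'.inc⟩,
    ⟨A, hA, C, hC, (rankOne_case hf hA' hC' (by simp) (by simp)).1⟩, ⟨A, hA, D, hD, ?_⟩⟩,
    ⟨rootSet, fun X hX Y hY h => ?_⟩, ?_⟩
  · rintro _ ⟨g, rfl⟩ _ ⟨h, rfl⟩
    exact ⟨h * g⁻¹, by rw [ThreeTransp.RankOne.conjBy_conjBy, inv_mul_cancel_right]⟩
  · intro e
    obtain ⟨g, hg⟩ := hA'.ex 1
    obtain ⟨c, hc⟩ := (hB'.mem g).1 (e ▸ (hA'.mem g).2 ⟨1, hg⟩)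
    have := congrFun (congrFun (hg.symm.trans hc) 0) 1
    simp [TV, vecMulVec_apply, Pi.single_apply, h21.symm, h10.symm] at this
  · rcases pair_cases hA hD with h | ⟨h, -⟩ | ⟨h, -⟩
    · exfalso
      obtain ⟨E, hE, hE'⟩ := Linear.exists_member hA'.vne hD'.φne (inc h20.symm)
      exact hE'.ne_bot hf ((comm2_case hf hA' hD' hE' (by simp) (inc h20.symm)).1 ▸ h)
    · obtain ⟨E, hE, hE'⟩ := Linear.exists_member hA'.vne hD'.φne (inc h20.symm)
      exact absurd h (comm2_case hf hA' hD' hE' (by simp) (inc h20.symm)).2.2.2.2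
    · exact h
  · rcases pair_cases hX hY with h' | ⟨-, h'⟩ | ⟨-, h'⟩
    · exact absurd h' (ThreeTransp.RankOne.not_commute h)
    · exact h'
    · exact absurd h h'
  · intro X hX Y hY
    obtain ⟨v, φ, hX'⟩ := Linear.mem_S.1 hX
    obtain ⟨w, ψ, hY'⟩ := Linear.mem_S.1 hY
    obtain ⟨u, hu1, hu2⟩ := exists_both φ ψ hX'.φne hY'.φne
    have key : ∀ (v φ : V), v ≠ 0 → φ ⬝ᵥ v = 0 → φ ⬝ᵥ u ≠ 0 →
        ∃ χ : V, χ ⬝ᵥ u = 0 ∧ χ ⬝ᵥ v ≠ 0 := fun v φ hv h0 hu => by
      obtain ⟨i, hi⟩ := Function.ne_iff.1 hv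
      simp only [Pi.zero_apply] at hi
      refine ⟨Pi.single i 1 - ((Pi.single i 1 : V) ⬝ᵥ u / (φ ⬝ᵥ u)) • φ, ?_, ?_⟩
      · rw [sub_dotProduct, smul_dotProduct, smul_eq_mul, div_mul_cancel₀ _ hu, sub_self]
      · rw [sub_dotProduct, smul_dotProduct, h0, smul_zero, sub_zero]; simpa using hi
    obtain ⟨χ1, a1, b1⟩ := key v φ hX'.vne hX'.inc hu1
    obtain ⟨χ2, a2, b2⟩ := key w ψ hY'.vne hY'.inc hu2
    obtain ⟨χ, hχu, hχv, hχw⟩ : ∃ χ : V, χ ⬝ᵥ u = 0 ∧ χ ⬝ᵥ v ≠ 0 ∧ χ ⬝ᵥ w ≠ 0 := by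
      by_cases c1 : χ1 ⬝ᵥ w = 0
      · by_cases c2 : χ2 ⬝ᵥ v = 0
        · exact ⟨χ1 + χ2, by rw [add_dotProduct, a1, a2, add_zero],
            by rw [add_dotProduct, c2, add_zero]; exact b1,
            by rw [add_dotProduct, c1, zero_add]; exact b2⟩
        · exact ⟨χ2, a2, c2, b2⟩
      · exact ⟨χ1, a1, b1, c1⟩
    obtain ⟨Z, hZ, hZ'⟩ := Linear.exists_member (v := u) (φ := χ)
      (fun e => hu1 (by rw [e, dotProduct_zero])) (fun e => hχv (by rw [e, zero_dotProduct])) hχu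
    exact (Relation.ReflTransGen.single ⟨hX, hZ, (rankOne_case hf hX' hZ' hu1 hχv).1⟩).tail
      ⟨hZ, hY, (rankOne_case hf hZ' hY' hχw hu2).1⟩

/-- Let k be a field and n a natural number. In SL_{n+3}(k) (so in every dimension at least 3) the conjugates of the root subgroup of elementary transvections 1 + c E₁₂ (c ∈ k) — that is, the groups of transvections attached to an incident point–hyperplane pair — form a non-degenerate class of abstract k-root subgroups of SL_{n+3}(k) whose graph of rank one pairs is connected. -/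
theorem result (k : Type*) [Field k] (n : ℕ) :
    Cfsg.IsRootSubgroupClass {A : Subgroup (Matrix.SpecialLinearGroup (Fin (n + 3)) k) |
        ∃ g : Matrix.SpecialLinearGroup (Fin (n + 3)) k,
          A = Cfsg.conjBy (Subgroup.closure {t : Matrix.SpecialLinearGroup (Fin (n + 3)) k |
            ∃ c : k, (t : Matrix (Fin (n + 3)) (Fin (n + 3)) k) = Matrix.transvection 0 1 c}) g} ∧
    Cfsg.IsNondegenerateRootSet {A : Subgroup (Matrix.SpecialLinearGroup (Fin (n + 3)) k) |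
        ∃ g : Matrix.SpecialLinearGroup (Fin (n + 3)) k,
          A = Cfsg.conjBy (Subgroup.closure {t : Matrix.SpecialLinearGroup (Fin (n + 3)) k |
            ∃ c : k, (t : Matrix (Fin (n + 3)) (Fin (n + 3)) k) = Matrix.transvection 0 1 c}) g} ∧
    Cfsg.IsKRootSubgroupSet k {A : Subgroup (Matrix.SpecialLinearGroup (Fin (n + 3)) k) |
        ∃ g : Matrix.SpecialLinearGroup (Fin (n + 3)) k,
          A = Cfsg.conjBy (Subgroup.closure {t : Matrix.SpecialLinearGroup (Fin (n + 3)) k |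
            ∃ c : k, (t : Matrix (Fin (n + 3)) (Fin (n + 3)) k) = Matrix.transvection 0 1 c}) g} ∧
    Cfsg.IsConnectedFamily (Cfsg.FAdj {A : Subgroup (Matrix.SpecialLinearGroup (Fin (n + 3)) k) |
        ∃ g : Matrix.SpecialLinearGroup (Fin (n + 3)) k,
          A = Cfsg.conjBy (Subgroup.closure {t : Matrix.SpecialLinearGroup (Fin (n + 3)) k |
            ∃ c : k, (t : Matrix (Fin (n + 3)) (Fin (n + 3)) k) = Matrix.transvection 0 1 c}) g})
      {A : Subgroup (Matrix.SpecialLinearGroup (Fin (n + 3)) k) |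
        ∃ g : Matrix.SpecialLinearGroup (Fin (n + 3)) k,
          A = Cfsg.conjBy (Subgroup.closure {t : Matrix.SpecialLinearGroup (Fin (n + 3)) k |
            ∃ c : k, (t : Matrix (Fin (n + 3)) (Fin (n + 3)) k) = Matrix.transvection 0 1 c}) g} := by
  show Cfsg.IsRootSubgroupClass (Linear.S (k := k) (n := n)) ∧ Cfsg.IsNondegenerateRootSet (Linear.S (k := k) (n := n)) ∧
    Cfsg.IsKRootSubgroupSet k (Linear.S (k := k) (n := n)) ∧
    Cfsg.IsConnectedFamily (Cfsg.FAdj (Linear.S (k := k) (n := n))) (Linear.S (k := k) (n := n))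
  exact all_props

end Cfsg.Agent.S5043
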