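import Cfsg.Statements.S5045
import Cfsg.Agent.Lib.RootInvolutions.Graph

set_option autoImplicit false
open Cfsg

namespace Cfsg.Agent.S5045

/-- Let G be a finite group generated by a set D of root involutions, and W the set of members of D whose product with every other member of D has even order or is trivial (the isolated vertices of the odd-order-product graph on D). Then W is conjugation-invariant and generates a normal 2-subgroup of G meeting D in exactly W; the commutator of two members of D lying in different connected components of that graph, each with more than one member, lies in the subgroup generated by W; and for a in such a component, every member of D commuting with a, different from a and with product with a in D, lies in that component or in W. -/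
theorem result {G : Type*} [Group G] [Finite G] {D : Set G} (hD : Cfsg.IsRootInvolutionSet D) :
    (∀ w ∈ {w | Cfsg.IsIsolatedElem (Cfsg.OddAdj D) D w}, ∀ g : G, g * w * g⁻¹ ∈ {w | Cfsg.IsIsolatedElem (Cfsg.OddAdj D) D w}) ∧
    (Subgroup.closure {w | Cfsg.IsIsolatedElem (Cfsg.OddAdj D) D w}).Normal ∧
    IsPGroup 2 ↥(Subgroup.closure {w | Cfsg.IsIsolatedElem (Cfsg.OddAdj D) D w}) ∧
    (Subgroup.closure {w | Cfsg.IsIsolatedElem (Cfsg.OddAdj D) D w} : Set G) ∩ D = {w | Cfsg.IsIsolatedElem (Cfsg.OddAdj D) D w} ∧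
    (∀ a ∈ D, ∀ b ∈ D, (∃ a' ∈ Cfsg.elemComponentOf (Cfsg.OddAdj D) D a, a' ≠ a) →
      (∃ b' ∈ Cfsg.elemComponentOf (Cfsg.OddAdj D) D b, b' ≠ b) →
      Cfsg.elemComponentOf (Cfsg.OddAdj D) D a ≠ Cfsg.elemComponentOf (Cfsg.OddAdj D) D b →
        a * b * a⁻¹ * b⁻¹ ∈ Subgroup.closure {w | Cfsg.IsIsolatedElem (Cfsg.OddAdj D) D w}) ∧
    (∀ a ∈ D, (∃ a' ∈ Cfsg.elemComponentOf (Cfsg.OddAdj D) D a, a' ≠ a) →
      Cfsg.productPartners D a ⊆ Cfsg.elemComponentOf (Cfsg.OddAdj D) D a ∪ {w | Cfsg.IsIsolatedElem (Cfsg.OddAdj D) D w}) := by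
  set W := {w | Cfsg.IsIsolatedElem (Cfsg.OddAdj D) D w} with hW
  haveI : Fact (Nat.Prime 2) := ⟨Nat.prime_two⟩
  have hconj : ∀ w ∈ W, ∀ g : G, g * w * g⁻¹ ∈ W := fun w hw g =>
    Agent.RootInvolutions.Graph.isolated_conj hD hw g
  have hle : Subgroup.closure W ≤ Cfsg.pCore 2 G := (Subgroup.closure_le _).2 fun w hw =>
    (Agent.RootInvolutions.Graph.mem_pCore_iff hD hw.1).2 hw
  have hnotiso : ∀ a ∈ D, (∃ a' ∈ Cfsg.elemComponentOf (Cfsg.OddAdj D) D a, a' ≠ a) →
      ¬ Cfsg.IsIsolatedElem (Cfsg.OddAdj D) D a := by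
    rintro a - ⟨a', ⟨-, hr⟩, hne⟩ hiso
    rcases hr.cases_head with h | ⟨c, hc, -⟩
    · exact hne h.symm
    · exact (hiso.2 c).1 hc
  refine ⟨hconj, ⟨fun x hx g => ?_⟩, (Cores.pCore_isPGroup (G := G) 2).to_le hle, ?_, ?_, ?_⟩
  · induction hx using Subgroup.closure_induction with
    | mem y hy => exact Subgroup.subset_closure (hconj y hy g)
    | one => simp
    | mul y z _ _ hy hz => rw [conj_mul.symm]; exact mul_mem hy hz
    | inv y _ hy =>
      rw [show g * y⁻¹ * g⁻¹ = (g * y * g⁻¹)⁻¹ by simp [mul_assoc]]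
      exact inv_mem hy
  · ext w
    exact ⟨fun h => (Agent.RootInvolutions.Graph.mem_pCore_iff hD h.2).1 (hle h.1),
      fun h => ⟨Subgroup.subset_closure h, h.1⟩⟩
  · intro a ha b hb hA hB hne
    have hsame : ¬ Relation.ReflTransGen (Cfsg.OddAdj D) a b := fun h => hne (by
      ext x
      exact ⟨fun hx => ⟨hx.1, (Agent.RootInvolutions.Graph.reach_symm hD h).trans hx.2⟩,
        fun hx => ⟨hx.1, h.trans hx.2⟩⟩)
    rcases Agent.RootInvolutions.Basic.trichotomy hD ha hb with h | ⟨h1, h2, -⟩ | h4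
    · rw [h.eq, mul_inv_cancel_right, mul_inv_cancel]
      exact one_mem _
    · exact absurd (Relation.ReflTransGen.single ⟨ha, hb, h2, h1⟩) hsame
    · rw [Agent.RootInvolutions.Basic.inv hD ha, Agent.RootInvolutions.Basic.inv hD hb,
        show a * b * a * b = (a * b) ^ 2 by rw [pow_two, ← mul_assoc]]
      by_cases hc : Cfsg.IsIsolatedElem (Cfsg.OddAdj D) D ((a * b) ^ 2)
      · exact Subgroup.subset_closure hc
      exfalso
      have hcD := Agent.RootInvolutions.Basic.sq_mem hD ha hb h4
      refine hsame ((Agent.RootInvolutions.Graph.partner_reach hD ha hcD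
        (Agent.RootInvolutions.Basic.sq_commute_left hD ha hb h4).symm
        (Agent.RootInvolutions.Basic.mul_sq_left_mem hD ha hb h4) (hnotiso a ha hA) hc).trans
        (Agent.RootInvolutions.Graph.reach_symm hD
          (Agent.RootInvolutions.Graph.partner_reach hD hb hcD
            (Agent.RootInvolutions.Basic.sq_commute_right hD ha hb h4).symm
            (Agent.RootInvolutions.Basic.mul_sq_right_mem hD ha hb h4) (hnotiso b hb hB) hc)))
  · intro a ha hA e he
    obtain ⟨⟨heD, hea, -⟩, hmem⟩ := he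
    by_cases hiso : Cfsg.IsIsolatedElem (Cfsg.OddAdj D) D e
    · exact Or.inr hiso
    · exact Or.inl ⟨heD, Agent.RootInvolutions.Graph.partner_reach hD ha heD
        (show Commute a e from hea.symm) (hea ▸ hmem) (hnotiso a ha hA) hiso⟩

end Cfsg.Agent.S5045
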