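import Cfsg.Statements.S5046
import Cfsg.Agent.Lib.RootInvolutions.SameClass

set_option autoImplicit false
open Cfsg

namespace Cfsg.Agent.S5046

/-- Let G be a finite group generated by a set D of root involutions whose odd-order-product graph is connected, and d ∈ D. Then the members e of D with the same commuting members as d are exactly those for which the union of the commuting members of d and the members whose product with d has order 4 equals the corresponding union for e. -/
theorem result {G : Type*} [Group G] [Finite G] {D : Set G} (hD : Cfsg.IsRootInvolutionSet D)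
    (hc : Cfsg.IsConnectedSet (Cfsg.OddAdj D) D) {d : G} (hd : d ∈ D) :
    Cfsg.sameCommutingClass D d =
      {e | e ∈ D ∧ Cfsg.commutingMembers D d ∪ Cfsg.fourPartners D d = Cfsg.commutingMembers D e ∪ Cfsg.fourPartners D e} := by
  have hcompl : ∀ d ∈ D, ∀ e, e ∈ Cfsg.commutingMembers D d ∪ Cfsg.fourPartners D d ↔
      e ∈ D ∧ e ∉ Cfsg.oddPartners D d := by
    intro d hd e
    constructor
    · rintro (⟨he, h⟩ | ⟨he, h⟩)
      · exact ⟨he, fun ho => Agent.RootInvolutions.SameClass.not_commute_oddPartner hD hd ho
          (show d * e = e * d from h.symm)⟩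
      · exact ⟨he, fun ho => absurd (h ▸ ho.2.2 : Odd 4) (by decide)⟩
    · rintro ⟨he, ho⟩
      rcases Agent.RootInvolutions.Basic.trichotomy hD hd he with h | ⟨h1, h2, -⟩ | h
      · exact Or.inl ⟨he, h.symm⟩
      · exact absurd ⟨he, h2.symm, h1⟩ ho
      · exact Or.inr ⟨he, h⟩
  ext e
  refine and_congr_right fun he => ?_
  rw [Agent.RootInvolutions.SameClass.commutingMembers_eq_iff hD hc hd he]
  constructor
  · intro h
    ext x
    rw [hcompl d hd, hcompl e he, h]
  · intro h
    ext x
    have h1 : (x ∈ D ∧ x ∉ Cfsg.oddPartners D d) ↔ (x ∈ D ∧ x ∉ Cfsg.oddPartners D e) := by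
      rw [← hcompl d hd, ← hcompl e he, h]
    exact ⟨fun hx => by by_contra hn; exact (h1.2 ⟨hx.1, hn⟩).2 hx,
      fun hx => by by_contra hn; exact (h1.1 ⟨hx.1, hn⟩).2 hx⟩

end Cfsg.Agent.S5046
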