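import Cfsg.Statements.S5048
import Cfsg.Agent.Lib.RootInvolutions.NormalSubgroups

set_option autoImplicit false
open Cfsg

namespace Cfsg.Agent.S5048

/-- Let G be a finite group generated by a set D of root involutions whose odd-order-product graph is connected, with some product of two different commuting members of D again in D. Then the largest solvable normal subgroup of G is the preimage of the centre of G/O₂(G), and the quotient of G by it is a simple group. -/
theorem result {G : Type*} [Group G] [Finite G] {D : Set G} (hD : Cfsg.IsRootInvolutionSet D)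
    (hc : Cfsg.IsConnectedSet (Cfsg.OddAdj D) D) (hDD : (D ∩ Cfsg.commutingProducts D).Nonempty) :
    Cfsg.solvableRadical G = Cfsg.twoZCore G ∧ IsSimpleGroup (G ⧸ Cfsg.twoZCore G) := by
  haveI : Fact (Nat.Prime 2) := ⟨Nat.prime_two⟩
  haveI : (Cfsg.pCore 2 G).Normal := Cores.pCore_normal 2
  have hdich := fun (N : Subgroup G) [N.Normal] =>
    Agent.RootInvolutions.NormalSubgroups.normal_dichotomy hD hc hDD N
  have hZ : Cfsg.twoZCore G ≠ ⊤ :=
    Agent.RootInvolutions.NormalSubgroups.twoZCore_ne_top hD hc hDD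
  have hZsol : Group.IsSolvable ↥(Cfsg.twoZCore G) := by
    haveI : Group.IsSolvable ↥(Cfsg.pCore 2 G) := by
      haveI := (Cores.pCore_isPGroup (G := G) 2).isNilpotent
      infer_instance
    have hle : Cfsg.pCore 2 G ≤ Cfsg.twoZCore G := fun x hx => by
      show QuotientGroup.mk' (Cfsg.pCore 2 G) x ∈ Subgroup.center _
      rw [show QuotientGroup.mk' (Cfsg.pCore 2 G) x = 1 from
        (QuotientGroup.eq_one_iff (N := Cfsg.pCore 2 G) x).2 hx]
      exact one_mem _
    haveI : Group.IsSolvable ↥(Subgroup.center (G ⧸ Cfsg.pCore 2 G)) :=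
      Group.isSolvable_of_comm fun a b => Subtype.ext (Subgroup.mem_center_iff.1 b.2 a)
    refine solvable_of_ker_le_range (G' := ↥(Cfsg.pCore 2 G))
      (G'' := ↥(Subgroup.center (G ⧸ Cfsg.pCore 2 G))) (Subgroup.inclusion hle)
      (((QuotientGroup.mk' (Cfsg.pCore 2 G)).comp (Cfsg.twoZCore G).subtype).codRestrict _
        fun x => x.2) ?_
    intro x hx
    exact ⟨⟨x, (QuotientGroup.eq_one_iff (N := Cfsg.pCore 2 G) _).1 (congrArg Subtype.val hx)⟩, rfl⟩
  -- a solvable group would be `twoZCore`
  have hns : ¬ Group.IsSolvable G := by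
    intro hsol
    haveI : Nontrivial G := by
      obtain ⟨x, hxD, -⟩ := hDD
      exact ⟨x, 1, Agent.RootInvolutions.Basic.ne_one hD hxD⟩
    have hG' : commutator G ≠ ⊤ := (Group.IsSolvable.commutator_lt_top_of_nontrivial G).ne
    rcases hdich (commutator G) with h | h
    · exact hG' h
    obtain ⟨x, hxD, a, ha, b, hb, hab, hne, rfl⟩ := hDD
    have hne' : a ≠ b := fun e => hne (by rw [e]; exact Agent.RootInvolutions.Basic.sq hD hb)
    obtain ⟨y, hy, hodd, hay⟩ :=
      Agent.RootInvolutions.Graph.not_isolated_of_connected hD hc ha hb hne'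
    refine Agent.RootInvolutions.NormalSubgroups.sq_not_mem_twoZCore hD hc
      ⟨_, hxD, a, ha, b, hb, hab, hne, rfl⟩ ha hy hodd hay (h ?_)
    have h1 := Subgroup.commutator_mem_commutator (Subgroup.mem_top a) (Subgroup.mem_top y)
    rw [commutatorElement_def, Agent.RootInvolutions.Basic.inv hD ha,
      Agent.RootInvolutions.Basic.inv hD hy] at h1
    rw [commutator_def, pow_two, ← mul_assoc]
    exact h1
  refine ⟨le_antisymm (sSup_le ?_) (le_sSup ⟨inferInstance, hZsol⟩), ?_⟩
  · rintro N ⟨hN, hNs⟩
    rcases hdich N with rfl | h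
    · exact absurd (solvable_of_surjective
        (f := ((⊤ : Subgroup G).subtype)) (fun g => ⟨⟨g, Subgroup.mem_top g⟩, rfl⟩)) hns
    · exact h
  · haveI : Nontrivial (G ⧸ Cfsg.twoZCore G) := QuotientGroup.nontrivial_iff.2 hZ
    refine ⟨fun M hM => ?_⟩
    haveI := hM
    have hmap : M = (M.comap (QuotientGroup.mk' (Cfsg.twoZCore G))).map
        (QuotientGroup.mk' (Cfsg.twoZCore G)) :=
      (Subgroup.map_comap_eq_self_of_surjective (QuotientGroup.mk'_surjective _) M).symm
    rcases hdich (M.comap (QuotientGroup.mk' (Cfsg.twoZCore G))) with h | h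
    · right
      rw [hmap, h, Subgroup.map_top_of_surjective _ (QuotientGroup.mk'_surjective _)]
    · left
      rw [hmap, Subgroup.map_eq_bot_iff, QuotientGroup.ker_mk']
      exact h

end Cfsg.Agent.S5048
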