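import Cfsg.Statements.S5049
import Cfsg.Agent.Lib.Cores.Basic
import Cfsg.Agent.Lib.Involutions.Basic
import Cfsg.Agent.Lib.ThreeTransp.Basic
import Cfsg.Agent.Lib.ThreeTransp.Dihedral

set_option autoImplicit false
open Cfsg

namespace Cfsg.Agent.S5049

open Cfsg.Agent.ThreeTransp

/-- Let G be a finite group generated by a set D of odd transpositions (root involutions with no product of order 4), Q = O₂(G), and for a ∈ D let Q_a be the commutator subgroup of Q with a. Then every member of D commuting with a centralizes Q_a; and for b ∈ D with ab of odd order greater than 1, the centralizer of ab in Q is the intersection of the centralizers of a and b in Q. -/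
theorem result {G : Type*} [Group G] [Finite G] {D : Set G} (hD : Cfsg.IsOddTranspositionSet D) {a : G} (ha : a ∈ D) :
    (∀ e ∈ Cfsg.commutingMembers D a, ∀ q ∈ ⁅Cfsg.pCore 2 G, Subgroup.zpowers a⁆, e * q = q * e) ∧
    (∀ b ∈ Cfsg.oddPartners D a,
      Cfsg.pCore 2 G ⊓ Subgroup.centralizer {a * b} = Cfsg.pCore 2 G ⊓ Subgroup.centralizer {a} ⊓ Subgroup.centralizer {b}) := by
  obtain ⟨hroot, h4⟩ := hD
  have hpair : ∀ a ∈ D, ∀ b ∈ D, Commute a b ∨ Odd (orderOf (a * b)) := fun a ha b hb => by
    rcases hroot.pair a ha b hb with h | h | h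
    · exact Or.inl h
    · exact Or.inr h
    · exact absurd h.1 (h4 a ha b hb)
  have hord := hroot.orderOf_eq
  have h2 : ∀ {a : G}, a ∈ D → a * a = 1 := fun ha => Basic.mul_self_of_orderOf_two (hord _ ha)
  haveI : Fact (Nat.Prime 2) := ⟨Nat.prime_two⟩
  have hP := Cores.pCore_isPGroup (G := G) 2
  -- members congruent modulo `O₂` behave alike
  have hcong : ∀ u ∈ D, ∀ v ∈ D, (∃ p ∈ Cfsg.pCore 2 G, v = p * u) → ∀ e ∈ D, Commute e u →
      Commute e v := by
    rintro u hu v hv ⟨p, hp, rfl⟩ e he heu
    rcases hpair e he _ hv with h | h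
    · exact h
    rw [← Basic.sq_prod_eq_one_iff (h2 he) (h2 hv)]
    have hm : (e * (p * u)) ^ 2 ∈ Cfsg.pCore 2 G := by
      rw [← QuotientGroup.eq_one_iff (N := Cfsg.pCore 2 G), QuotientGroup.mk_pow,
        QuotientGroup.mk_mul, QuotientGroup.mk_mul, (QuotientGroup.eq_one_iff p).2 hp, one_mul,
        ← QuotientGroup.mk_mul, ← QuotientGroup.mk_pow,
        (Basic.sq_prod_eq_one_iff (h2 he) (h2 hu)).2 heu, QuotientGroup.mk_one]
    obtain ⟨k, hk⟩ := (IsPGroup.iff_orderOf.1 hP) ⟨_, hm⟩
    rw [Subgroup.orderOf_mk] at hk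
    have hdvd : orderOf ((e * (p * u)) ^ 2) ∣ orderOf (e * (p * u)) := orderOf_pow_dvd 2
    rw [hk] at hdvd
    rcases Nat.eq_zero_or_pos k with h0 | h0
    · rw [h0, pow_zero, orderOf_eq_one_iff] at hk; exact hk
    · exfalso
      have := ((dvd_pow_self 2 h0.ne').trans hdvd)
      exact Nat.not_even_iff_odd.2 h (even_iff_two_dvd.2 this)
  have hxa : ∀ x ∈ Cfsg.pCore 2 G, ∀ u : G, ∃ p ∈ Cfsg.pCore 2 G, x * u * x⁻¹ = p * u :=
    fun x hx u => ⟨x * (u * x⁻¹ * u⁻¹),
      mul_mem hx ((Cores.pCore_normal 2).conj_mem _ (inv_mem hx) u), by simp [mul_assoc]⟩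
  refine ⟨?_, ?_⟩
  · rintro e ⟨he, hea⟩ q hq
    have hle : ⁅Cfsg.pCore 2 G, Subgroup.zpowers a⁆ ≤ Subgroup.centralizer {e} := by
      rw [Subgroup.commutator_le]
      intro x hx g hg
      rw [Subgroup.mem_centralizer_singleton_iff, commutatorElement_def]
      obtain ⟨k, rfl⟩ := hg
      have h1 : Commute e (x * a * x⁻¹) :=
        hcong a ha _ (hroot.conj_mem a ha x) (hxa x hx a) e he hea
      have h1' : Commute e (x * a ^ k * x⁻¹) := by
        rw [← conj_zpow]; exact h1.zpow_right k
      exact ((h1'.mul_right ((show Commute e a from hea).zpow_right k).inv_right)).symm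
    exact (Subgroup.mem_centralizer_singleton_iff.1 (hle hq)).symm
  · rintro b ⟨hb, hba, hodd⟩
    refine le_antisymm ?_ ?_
    · intro x hxx
      obtain ⟨hx, hxab⟩ := Subgroup.mem_inf.1 hxx
      rw [Subgroup.mem_centralizer_singleton_iff] at hxab
      set a' := x * a * x⁻¹ with ha'
      set b' := x * b * x⁻¹ with hb'
      have ha'D : a' ∈ D := hroot.conj_mem a ha x
      have hb'D : b' ∈ D := hroot.conj_mem b hb x
      have hcaa : Commute a a' := hcong a ha a' ha'D (hxa x hx a) a ha (Commute.refl a)
      have hcbb : Commute b b' := hcong b hb b' hb'D (hxa x hx b) b hb (Commute.refl b)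
      have hprod : a' * b' = a * b := by
        rw [ha', hb']
        calc x * a * x⁻¹ * (x * b * x⁻¹) = x * (a * b) * x⁻¹ := by simp [mul_assoc]
          _ = a * b := by rw [hxab, mul_inv_cancel_right]
      set r := a' * a with hr
      have hb'r : b' = r * b := by
        calc b' = a' * (a' * b') := by rw [← mul_assoc, h2 ha'D, one_mul]
          _ = r * b := by rw [hprod]; exact (mul_assoc _ _ _).symm
      have hbr : Commute b r := by
        have h3 : Commute b (b' * b) := hcbb.mul_right (Commute.refl b)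
        rwa [hb'r, mul_assoc, h2 hb, mul_one] at h3
      have har : Commute a r := hcaa.mul_right (Commute.refl a)
      have hr2 : r * r = 1 := by
        rw [← pow_two, hr]
        exact (Basic.sq_prod_eq_one_iff (h2 ha'D) (h2 ha)).2 hcaa.symm
      have hr1 : r = 1 := by
        by_contra hr1
        obtain ⟨δ, hδ, hδb⟩ := Involutions.Basic.exists_conj_of_odd (hord a ha) (hord b hb) hodd
        have hδr : Commute δ r := by
          obtain ⟨k, rfl⟩ := hδ
          exact (har.mul_left hbr).zpow_left k
        have hbrD : b * r ∈ D := by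
          have e : δ * a' * δ⁻¹ = b * r := by
            have e0 : a' = a * r := by
              rw [hr, hcaa.symm.eq, ← mul_assoc, h2 ha, one_mul]
            rw [e0, ← hδb]
            calc δ * (a * r) * δ⁻¹ = δ * a * (r * δ⁻¹) := by simp [mul_assoc]
              _ = δ * a * (δ⁻¹ * r) := by rw [hδr.symm.inv_right.eq]
              _ = δ * a * δ⁻¹ * r := by simp [mul_assoc]
          exact e ▸ hroot.conj_mem a' ha'D δ
        have hpow : ∀ n : ℕ, (a * (b * r)) ^ n = (a * b) ^ n * r ^ n := fun n => by
          rw [← mul_assoc]; exact (har.mul_left hbr).mul_pow n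
        rcases hpair a ha _ hbrD with h | h
        · have e1 := (Basic.sq_prod_eq_one_iff (h2 ha) (h2 hbrD)).2 h
          rw [hpow, pow_two r, hr2, mul_one] at e1
          have h5 := orderOf_dvd_of_pow_eq_one e1
          rcases (Nat.dvd_prime Nat.prime_two).1 h5 with h6 | h6
          · rw [orderOf_eq_one_iff] at h6
            exact hba ((inv_eq_of_mul_eq_one_right h6).symm.trans
              (Basic.inv_eq_of_orderOf_two (hord a ha)))
          · rw [h6] at hodd; exact absurd hodd (by decide)
        · obtain ⟨k, hk⟩ := h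
          have e1 := pow_orderOf_eq_one (a * (b * r))
          rw [hk, hpow, pow_succ r, pow_mul r, pow_two, hr2, one_pow, one_mul] at e1
          have e2 := congrArg (· ^ orderOf (a * b)) (eq_inv_of_mul_eq_one_right e1)
          simp only [inv_pow, ← pow_mul] at e2
          rw [mul_comm, pow_mul, pow_orderOf_eq_one, one_pow, inv_one] at e2
          obtain ⟨l, hl⟩ := hodd
          rw [hl, pow_succ, pow_mul, pow_two, hr2, one_pow, one_mul] at e2
          exact hr1 e2
      have hfixa : Commute x a := by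
        rw [hr, mul_eq_one_iff_eq_inv, Basic.inv_eq_of_orderOf_two (hord a ha), ha'] at hr1
        exact mul_inv_eq_iff_eq_mul.1 hr1
      refine ⟨⟨hx, Subgroup.mem_centralizer_singleton_iff.2 hfixa.eq⟩,
        Subgroup.mem_centralizer_singleton_iff.2 ?_⟩
      have h3 : Commute x (a * (a * b)) := hfixa.mul_right hxab
      rwa [← mul_assoc, h2 ha, one_mul] at h3
    · intro x hxx
      obtain ⟨hxx', hxb⟩ := Subgroup.mem_inf.1 hxx
      obtain ⟨hx, hxa'⟩ := Subgroup.mem_inf.1 hxx'
      rw [Subgroup.mem_centralizer_singleton_iff] at hxa' hxb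
      exact ⟨hx, Subgroup.mem_centralizer_singleton_iff.2
        ((show Commute x a from hxa').mul_right hxb).eq⟩

end Cfsg.Agent.S5049
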