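import Cfsg.Statements.S5050
import Cfsg.Agent.GenA.OddTransp

set_option autoImplicit false
open Cfsg

namespace Cfsg.Agent.S5050

/-- Let G be a finite group generated by a class D of odd transpositions whose commuting graph is connected, with some product of two different commuting members again in D. Then for every d ∈ D and every x ∈ D with dx of odd order greater than 1, some member of D commutes with both d and x. -/
theorem result {G : Type*} [Group G] [Finite G] {D : Set G} (hD : Cfsg.IsOddTranspositionSet D) (hcl : Cfsg.IsRootInvolutionClass D)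
    (hc : Cfsg.IsConnectedSet (Cfsg.CommAdj D) D) (hDD : (D ∩ Cfsg.commutingProducts D).Nonempty)
    {d x : G} (hd : d ∈ D) (hx : x ∈ Cfsg.oddPartners D d) : ∃ e ∈ D, e * d = d * e ∧ e * x = x * e := by
  obtain ⟨hroot, h4⟩ := hD
  have h : Cfsg.Agent.GenA.OddTransp.OT D := ⟨hroot.orderOf_eq, hroot.conj_mem, fun a ha b hb => by
    rcases hroot.pair a ha b hb with h | h | h
    · exact Or.inl h
    · exact Or.inr h
    · exact absurd h.1 (h4 a ha b hb)⟩
  have htri : ∀ e ∈ D, ∃ e₂, Cfsg.Agent.GenA.OddTransp.Tri D e e₂ := by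
    intro e he
    obtain ⟨z, hzD, a, ha, b, hb, hab, -, rfl⟩ := hDD
    obtain ⟨g, rfl⟩ := hcl.2.2 a ha e he
    refine ⟨g * b * g⁻¹, h.conj b hb g, ?_, ?_⟩
    · show _ = _
      simp [mul_assoc]
      rw [← mul_assoc a b, hab, mul_assoc]
    · have := h.conj _ hzD g
      simpa [mul_assoc] using this
  have hp : Relation.ReflTransGen (fun a b => a ∈ D ∧ b ∈ D ∧ Commute a b) d x :=
    Relation.ReflTransGen.mono (fun a b hab => ⟨hab.1, hab.2.1, hab.2.2.2⟩) _ _ (hc d hd x hx.1)
  obtain ⟨c, hcD, h1, h2⟩ := Cfsg.Agent.GenA.OddTransp.common h htri hd hx.1 hp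
  exact ⟨c, hcD, h1, h2⟩

end Cfsg.Agent.S5050
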