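import Cfsg.Statements.S5057
import Cfsg.Agent.Lib.ThreeTransp.Basic
import Cfsg.Agent.Lib.Involutions.Basic

set_option autoImplicit false
open Cfsg

namespace Cfsg.Agent.S5057

open Cfsg.Agent.ThreeTransp
theorem order_le : ∀ σ : Equiv.Perm (Fin 6), Equiv.Perm.sign σ = 1 →
    σ = 1 ∨ σ ^ 2 = 1 ∨ σ ^ 3 = 1 ∨ σ ^ 4 = 1 ∨ σ ^ 5 = 1 := by
  decide +kernel

theorem one_class : ∀ σ : Equiv.Perm (Fin 6), σ ^ 2 = 1 → σ = 1 ∨ Equiv.Perm.sign σ ≠ 1 ∨
    ∃ τ : Equiv.Perm (Fin 6), τ * (Equiv.swap 0 1 * Equiv.swap 2 3) * τ⁻¹ = σ ∧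
      Equiv.Perm.sign τ = 1 := by
  decide +kernel

theorem witness : orderOf (⟨Equiv.swap 0 1 * Equiv.swap 2 3, Equiv.Perm.mem_alternatingGroup.2 (by decide +kernel)⟩ :
    ↥(alternatingGroup (Fin 6))) = 2 := by
  refine orderOf_eq_prime ?_ ?_
  · apply Subtype.ext; show (Equiv.swap (0 : Fin 6) 1 * Equiv.swap 2 3) ^ 2 = 1; decide +kernel
  · intro h
    have := congrArg Subtype.val h
    revert this
    show Equiv.swap (0 : Fin 6) 1 * Equiv.swap 2 3 = 1 → False
    decide +kernel

/-- The involutions of the alternating group of degree 6 form a class of root involutions (a single conjugacy class of involutions generating the group, any two of which commute, have product of odd order, or have product of order 4 whose square is again an involution of the class), and the product of any two of them has order at most 5. -/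
theorem result :
    Cfsg.IsRootInvolutionClass {g : ↥(alternatingGroup (Fin 6)) | orderOf g = 2} ∧
    ∀ d ∈ {g : ↥(alternatingGroup (Fin 6)) | orderOf g = 2}, ∀ e ∈ {g : ↥(alternatingGroup (Fin 6)) | orderOf g = 2},
      orderOf (d * e) ≤ 5 := by
  set D := {g : ↥(alternatingGroup (Fin 6)) | orderOf g = 2} with hD
  set w : ↥(alternatingGroup (Fin 6)) :=
    ⟨Equiv.swap 0 1 * Equiv.swap 2 3, Equiv.Perm.mem_alternatingGroup.2 (by decide +kernel)⟩ with hw
  have hle : ∀ g : ↥(alternatingGroup (Fin 6)), orderOf g ≤ 5 := by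
    intro g
    have key : ∀ k, 1 ≤ k → k ≤ 5 → (g : Equiv.Perm (Fin 6)) ^ k = 1 → orderOf g ≤ 5 :=
      fun k h1 h5 e => (Nat.le_of_dvd (by omega) (orderOf_dvd_of_pow_eq_one
        (Subtype.ext (by simpa using e)))).trans h5
    rcases order_le g g.2 with h | h | h | h | h
    · exact key 1 le_rfl (by norm_num) (by rw [h, one_pow])
    · exact key 2 (by norm_num) (by norm_num) h
    · exact key 3 (by norm_num) (by norm_num) h
    · exact key 4 (by norm_num) (by norm_num) h
    · exact key 5 (by norm_num) le_rfl h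
  have hclass : ∀ g ∈ D, ∃ t, g = t * w * t⁻¹ := by
    intro g hg
    have h2 : (g : Equiv.Perm (Fin 6)) ^ 2 = 1 := by
      have := congrArg Subtype.val (pow_orderOf_eq_one g)
      rw [hg] at this
      simpa using this
    rcases one_class g h2 with h | h | ⟨τ, hτ, hs⟩
    · rw [Set.mem_setOf_eq, show g = 1 from Subtype.ext h, orderOf_one] at hg
      exact absurd hg (by norm_num)
    · exact absurd g.2 h
    · exact ⟨⟨τ, hs⟩, Subtype.ext hτ.symm⟩
  have hconj : ∀ d ∈ D, ∀ g, g * d * g⁻¹ ∈ D := fun d hd g => by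
    show orderOf (g * d * g⁻¹) = 2
    rw [Involutions.Basic.orderOf_conj]
    exact hd
  refine ⟨⟨⟨fun d hd => hd, ?_, hconj, ?_⟩, ⟨w, witness⟩, ?_⟩, fun d _ e _ => hle _⟩
  · haveI := alternatingGroup.isSimpleGroup (α := Fin 6) (by simp)
    have hn : (Subgroup.closure D).Normal :=
      Subgroup.Normal.mk fun x hx g => by
        induction hx using Subgroup.closure_induction with
        | mem d hd => exact Subgroup.subset_closure (hconj d hd g)
        | one => simpa using Subgroup.one_mem _
        | mul x y _ _ ihx ihy => simpa [mul_assoc] using Subgroup.mul_mem _ ihx ihy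
        | inv x _ ih => simpa [mul_assoc] using Subgroup.inv_mem _ ih
    refine (hn.eq_bot_or_eq_top).resolve_left fun h => ?_
    have hwm : w ∈ Subgroup.closure D := Subgroup.subset_closure witness
    rw [h, Subgroup.mem_bot] at hwm
    exact Basic.ne_one_of_orderOf_two witness hwm
  · intro a ha b hb
    have h5 := hle (a * b)
    have hpos := orderOf_pos (a * b)
    obtain ⟨n, hn⟩ : ∃ n, orderOf (a * b) = n := ⟨_, rfl⟩
    rw [hn] at h5 hpos
    interval_cases n
    · exact Or.inr (Or.inl (by rw [hn]; decide))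
    · refine Or.inl ((Basic.sq_prod_eq_one_iff (Basic.mul_self_of_orderOf_two ha)
        (Basic.mul_self_of_orderOf_two hb)).1 ?_)
      rw [← hn]; exact pow_orderOf_eq_one _
    · exact Or.inr (Or.inl (by rw [hn]; decide))
    · refine Or.inr (Or.inr ⟨hn, ?_⟩)
      show orderOf ((a * b) ^ 2) = 2
      rw [orderOf_pow, hn]; rfl
    · exact Or.inr (Or.inl (by rw [hn]; decide))
  · intro a ha b hb
    obtain ⟨s, rfl⟩ := hclass a ha
    obtain ⟨t, rfl⟩ := hclass b hb
    exact ⟨t * s⁻¹, by simp [mul_assoc]⟩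

end Cfsg.Agent.S5057
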