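import Cfsg.Statements.S5058
import Cfsg.Agent.Lib.RootExamples.Linear

set_option autoImplicit false
open Matrix
open Cfsg

namespace Cfsg.Agent.S5058

open Matrix Cfsg.Agent.RootExamples

variable {F : Type*} [Field F] {n : ℕ}

local notation "SL" => Matrix.SpecialLinearGroup (Fin (n + 3)) F
local notation "V" => Fin (n + 3) → F

theorem two_eq [CharP F 2] : (2 : F) = 0 := CharTwo.two_eq_zero

/-- In characteristic two a product of two opposite elementary matrices has odd order. -/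
theorem odd_order [Fintype F] [CharP F 2] (s t : F) (hs : s ≠ 0) (ht : t ≠ 0) :
    Odd (orderOf (el (zero_ne_one (α := Fin 2)) s * el (one_ne_zero (α := Fin 2)) t)) ∧
    (s * t = 1 → orderOf (el (zero_ne_one (α := Fin 2)) s * el (one_ne_zero (α := Fin 2)) t) = 3) := by
  set m := el (zero_ne_one (α := Fin 2)) s * el (one_ne_zero (α := Fin 2)) t with hm
  set M : Matrix (Fin 2) (Fin 2) F := (m : Matrix (Fin 2) (Fin 2) F) with hM
  have hMe : M = !![1 + s * t, s; t, 1] := by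
    rw [hM, hm]
    change (1 + single 0 1 s : Matrix (Fin 2) (Fin 2) F) * (1 + single 1 0 t) = _
    ext a b; fin_cases a <;> fin_cases b <;>
      simp [Matrix.mul_apply, Fin.sum_univ_two, Matrix.single_apply, Matrix.one_apply]
  have hsq : M * M = (s * t) • M + 1 := by
    rw [hMe]; ext a b; fin_cases a <;> fin_cases b <;>
      simp [Matrix.mul_apply, Fin.sum_univ_two, Matrix.one_apply] <;> grind
  have hlin : ∀ j : ℕ, ∃ a b : F, M ^ j = a • M + b • 1 := by
    intro j
    induction j with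
    | zero => exact ⟨0, 1, by simp⟩
    | succ j ih =>
      obtain ⟨a, b, h⟩ := ih
      refine ⟨a * (s * t) + b, a, ?_⟩
      rw [pow_succ, h, add_mul, smul_mul_assoc, hsq, smul_mul_assoc, one_mul]
      module
  have hcoe : ∀ j : ℕ, ((m ^ j : Matrix.SpecialLinearGroup (Fin 2) F) : Matrix (Fin 2) (Fin 2) F) = M ^ j :=
    fun j => Matrix.SpecialLinearGroup.coe_pow m j
  refine ⟨Nat.not_even_iff_odd.1 fun heven => ?_, fun h1 => ?_⟩
  · obtain ⟨j, hj⟩ := heven
    have hpos : 0 < orderOf m := (isOfFinOrder_of_finite m).orderOf_pos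
    have hne : m ^ j ≠ 1 := pow_ne_one_of_lt_orderOf (by omega) (by omega)
    have hsq1 : m ^ j * m ^ j = 1 := by rw [← pow_add, ← hj, pow_orderOf_eq_one]
    obtain ⟨a, b, hab⟩ := hlin j
    have h2 : M ^ j * M ^ j = 1 := by
      rw [← hcoe]; exact congrArg (fun x : Matrix.SpecialLinearGroup (Fin 2) F =>
        (x : Matrix (Fin 2) (Fin 2) F)) hsq1
    rw [hab, hMe] at h2
    have e01 := congrFun (congrFun h2 0) 1
    have e11 := congrFun (congrFun h2 1) 1
    simp [Matrix.mul_apply, Fin.sum_univ_two, Matrix.one_apply] at e01 e11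
    have two := two_eq (F := F)
    have ha : a = 0 := by
      have : a * a * (s * t) * s = 0 := by grind
      simpa [hs, ht] using this
    subst ha
    have hb : b = 1 := by
      have : (b - 1) * (b - 1) = 0 := by grind
      exact sub_eq_zero.1 (mul_self_eq_zero.1 this)
    subst hb
    apply hne
    refine Matrix.SpecialLinearGroup.ext _ _ fun x y => ?_
    rw [hcoe, hab]; simp
  · rw [orderOf_eq_iff (by norm_num)]
    refine ⟨Matrix.SpecialLinearGroup.ext _ _ fun x y => ?_, fun j hj hj0 e => ?_⟩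
    · rw [hcoe]
      have : M ^ 3 = 1 := by
        rw [pow_succ, pow_two, hsq, h1, one_smul, add_mul, one_mul, hsq, h1, one_smul]
        ext a b; simp [two_eq, CharTwo.add_self_eq_zero, add_comm, add_left_comm]
      rw [this]; rfl
    · have h2 := congrArg (fun x : Matrix.SpecialLinearGroup (Fin 2) F =>
        (x : Matrix (Fin 2) (Fin 2) F) 0 1) e
      simp only [hcoe] at h2
      interval_cases j
      · rw [pow_one, hMe] at h2; simp [hs] at h2
      · rw [pow_two, hMe] at h2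
        simp [Matrix.mul_apply, Fin.sum_univ_two] at h2
        grind

/-- The class of transvections. -/
def D : Set SL := {t | ∃ c : F, c ≠ 0 ∧ ∃ g : SL, ((g⁻¹ * t * g : SL) :
  Matrix (Fin (n + 3)) (Fin (n + 3)) F) = Matrix.transvection 0 1 c}

theorem mem_D {t : SL} : t ∈ D ↔ ∃ v φ : V, v ≠ 0 ∧ φ ≠ 0 ∧ φ ⬝ᵥ v = 0 ∧
    Linear.coeHom t = TV v φ 1 := by
  have hf := Linear.coeHom_injective (k := F) (n := n)
  constructor
  · rintro ⟨c, hc, g, hg⟩
    have hX := RootExamples.conj hf (Linear.isX_X0 (k := F) (n := n)) g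
    have hmem : t ∈ conjBy Linear.X0 g := ThreeTransp.RankOne.mem_conjBy.2
      (((Linear.isX_X0 (k := F) (n := n)).mem _).2 ⟨c, hg.trans (Linear.transvection_eq c)⟩)
    obtain ⟨d, hd⟩ := (hX.mem t).1 hmem
    have hd0 : d ≠ 0 := by
      rintro rfl
      have ht : t = 1 := hf (by rw [hd, TV_zero, map_one])
      subst ht
      rw [mul_one, inv_mul_cancel] at hg
      have h10 : (1 : Fin (n + 3)) ≠ 0 := by simp [Fin.ext_iff]
      have := congrFun (congrFun hg 0) 1
      simp [Matrix.transvection, h10.symm] at this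
      exact hc this.symm
    refine ⟨_, _, smul_ne_zero hd0 hX.vne, hX.φne, by rw [dotProduct_smul, hX.inc, smul_zero], ?_⟩
    rw [hd, TV, TV, smul_vecMulVec, one_smul]
  · rintro ⟨v, φ, hv, hφ, h, ht⟩
    obtain ⟨g, hg1, hg2⟩ := Linear.exists_std hv hφ h
    refine ⟨1, one_ne_zero, g, ?_⟩
    have h1 : Linear.coeHom g⁻¹ * Linear.coeHom g = 1 := by rw [← map_mul, inv_mul_cancel, map_one]
    show Linear.coeHom (g⁻¹ * t * g) = _
    rw [Linear.transvection_eq, map_mul, map_mul, ht, TV, TV, mul_add, add_mul, mul_one, h1,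
      one_smul, one_smul, mul_vecMulVec, vecMulVec_mul, hg2, ← hg1, mulVec_mulVec, h1, one_mulVec]

theorem isX_of (v φ : V) (hv : v ≠ 0) (hφ : φ ≠ 0) (h : φ ⬝ᵥ v = 0) :
    ∃ A : Subgroup SL, IsX (Linear.coeHom : SL →* _) A v φ :=
  (Linear.exists_member hv hφ h).imp fun _ h => h.2

theorem sq_eq_one [CharP F 2] {t : SL} (ht : t ∈ D) : t * t = 1 := by
  obtain ⟨v, φ, hv, hφ, h, e⟩ := mem_D.1 ht
  exact Linear.coeHom_injective (by
    rw [map_mul, e, TV_mul h, CharTwo.add_self_eq_zero, TV_zero, map_one])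

theorem conj_D {t : SL} (ht : t ∈ D) (g : SL) : g * t * g⁻¹ ∈ D := by
  obtain ⟨c, hc, h, hh⟩ := ht
  exact ⟨c, hc, g * h, by rw [show (g * h)⁻¹ * (g * t * g⁻¹) * (g * h) = h⁻¹ * t * h by group]; exact hh⟩

theorem four [CharP F 2] {a b : SL} {v φ w ψ : V} (hv : v ≠ 0) (hφ : φ ≠ 0) (hva : φ ⬝ᵥ v = 0)
    (hw : w ≠ 0) (hψ : ψ ≠ 0) (hwb : ψ ⬝ᵥ w = 0) (ea : Linear.coeHom a = TV v φ 1)
    (eb : Linear.coeHom b = TV w ψ 1) (h1 : φ ⬝ᵥ w ≠ 0) (h2 : ψ ⬝ᵥ v = 0) :
    orderOf (a * b) = 4 ∧ (a * b) ^ 2 ∈ D := by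
  have hf := Linear.coeHom_injective (k := F) (n := n)
  have ha : a ∈ D := mem_D.2 ⟨v, φ, hv, hφ, hva, ea⟩
  have hb : b ∈ D := mem_D.2 ⟨w, ψ, hw, hψ, hwb, eb⟩
  obtain ⟨A, hA⟩ := isX_of v φ hv hφ hva
  obtain ⟨B, hB⟩ := isX_of w ψ hw hψ hwb
  have hsq : (a * b) ^ 2 = a * b * a⁻¹ * b⁻¹ := by
    rw [inv_eq_of_mul_eq_one_right (sq_eq_one ha), inv_eq_of_mul_eq_one_right (sq_eq_one hb),
      pow_two, mul_assoc (a * b)]
  have hD : (a * b) ^ 2 ∈ D := mem_D.2 ⟨(φ ⬝ᵥ w) • v, ψ, smul_ne_zero h1 hv, hψ,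
    by rw [dotProduct_smul, h2, smul_zero], by
      rw [hsq, f_comm hf hA hB h2 ea eb, one_mul, one_mul, TV, TV, smul_vecMulVec, one_smul]⟩
  refine ⟨?_, hD⟩
  have hne : (a * b) ^ 2 ≠ 1 := fun e => by
    obtain ⟨v', φ', hv', hφ', h', e'⟩ := mem_D.1 hD
    rw [e, map_one, ← TV_zero v' φ'] at e'
    exact zero_ne_one (TV_inj hv' hφ' e')
  haveI : Fact (Nat.Prime 2) := ⟨Nat.prime_two⟩
  exact orderOf_eq_prime_pow (p := 2) (n := 1) (by simpa using hne) (by
    rw [show 2 ^ (1 + 1) = 2 * 2 by norm_num, pow_mul, pow_two, sq_eq_one hD])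

theorem trichotomy [Fintype F] [CharP F 2] {a b : SL} (ha : a ∈ D) (hb : b ∈ D) :
    a * b = b * a ∨ (Odd (orderOf (a * b)) ∧ (Fintype.card F = 2 → orderOf (a * b) = 3)) ∨
      (orderOf (a * b) = 4 ∧ (a * b) ^ 2 ∈ D) := by
  have hf := Linear.coeHom_injective (k := F) (n := n)
  obtain ⟨v, φ, hv, hφ, hva, ea⟩ := mem_D.1 ha
  obtain ⟨w, ψ, hw, hψ, hwb, eb⟩ := mem_D.1 hb
  obtain ⟨A, hA⟩ := isX_of v φ hv hφ hva
  obtain ⟨B, hB⟩ := isX_of w ψ hw hψ hwb
  by_cases h1 : φ ⬝ᵥ w = 0 <;> by_cases h2 : ψ ⬝ᵥ v = 0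
  · left
    have h := comm_case hf hA hB h1 h2
    rw [Subgroup.commutator_eq_bot_iff_le_centralizer] at h
    exact ((h ((hA.mem a).2 ⟨1, ea⟩)) b ((hB.mem b).2 ⟨1, eb⟩)).symm
  · right; right
    obtain ⟨h4, hD⟩ := four hw hψ hwb hv hφ hva eb ea h2 h1
    have hinv : a * b = (b * a)⁻¹ := by
      rw [_root_.mul_inv_rev, inv_eq_of_mul_eq_one_right (sq_eq_one ha),
        inv_eq_of_mul_eq_one_right (sq_eq_one hb)]
    refine ⟨by rw [hinv, orderOf_inv, h4], ?_⟩
    rw [hinv, inv_pow, inv_eq_of_mul_eq_one_right (sq_eq_one hD)]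
    exact hD
  · exact Or.inr (Or.inr (four hv hφ hva hw hψ hwb ea eb h1 h2))
  · right; left
    obtain ⟨Ψ, hΨ, hu, hl⟩ := pair_hom hf hA hB h1 h2
    have e : a * b = Ψ (el (zero_ne_one (α := Fin 2)) (φ ⬝ᵥ w) *
        el (one_ne_zero (α := Fin 2)) (ψ ⬝ᵥ v)) := by
      rw [map_mul]
      congr 1
      · exact hf (by rw [hu, div_self h1, ea])
      · exact hf (by rw [hl, div_self h2, eb])
    rw [e, orderOf_injective Ψ hΨ]
    refine ⟨(odd_order _ _ h1 h2).1, fun hq => (odd_order _ _ h1 h2).2 ?_⟩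
    have hone : ∀ x : F, x ≠ 0 → x = 1 := fun x hx => by
      have := FiniteField.pow_card_sub_one_eq_one x hx
      simpa [hq] using this
    rw [hone _ h1, hone _ h2, one_mul]

theorem rootSet [Fintype F] [CharP F 2] : IsRootInvolutionSet (D (F := F) (n := n)) where
  orderOf_eq d hd := by
    refine orderOf_eq_prime (p := 2) (by rw [pow_two, sq_eq_one hd]) fun e => ?_
    obtain ⟨v, φ, hv, hφ, h, e'⟩ := mem_D.1 hd
    rw [e, map_one, ← TV_zero v φ] at e'
    exact zero_ne_one (TV_inj hv hφ e')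
  generates := by
    refine Classical.Linear.eq_top_of_transvection_mem _ fun i j hij c => ?_
    by_cases hc : c = 0
    · subst hc
      have : Matrix.SpecialLinearGroup.transvection hij (0 : F) = (1 : SL) :=
        Linear.coeHom_injective ((Linear.transvection_eq 0).trans (by rw [TV_zero, map_one]))
      rw [this]; exact one_mem _
    · refine Subgroup.subset_closure (mem_D.2 ⟨c • (Pi.single i 1 : V), Pi.single j 1,
        smul_ne_zero hc (by simp), by simp, by simp [Pi.single_apply, hij.symm], ?_⟩)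
      refine (Linear.transvection_eq c).trans ?_
      rw [TV, TV, smul_vecMulVec, one_smul]
  conj_mem d hd g := conj_D hd g
  pair a ha b hb := (trichotomy ha hb).imp_right fun h => h.imp_left And.left

theorem all_props [Fintype F] [CharP F 2] : IsRootInvolutionClass (D (F := F) (n := n)) ∧
    (Fintype.card F = 2 → IsThreeFourPlusTranspositionSet (D (F := F) (n := n))) := by
  refine ⟨⟨rootSet, ?_, ?_⟩, fun hq => ⟨rootSet, fun a ha b hb ho => ?_⟩⟩
  · have h10 : (1 : Fin (n + 3)) ≠ 0 := by simp [Fin.ext_iff]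
    exact ⟨Linear.tvSL (Pi.single 0 1) (Pi.single 1 1) (by simp [Pi.single_apply, h10]) 1,
      mem_D.2 ⟨_, _, by simp, by simp, by simp [Pi.single_apply, h10], rfl⟩⟩
  · intro a ha b hb
    obtain ⟨v, φ, hv, hφ, hva, ea⟩ := mem_D.1 ha
    obtain ⟨w, ψ, hw, hψ, hwb, eb⟩ := mem_D.1 hb
    obtain ⟨g, hg1, hg2⟩ := Linear.exists_std hv hφ hva
    obtain ⟨h, hh1, hh2⟩ := Linear.exists_std hw hψ hwb
    have hc : ∀ x : SL, Linear.coeHom x⁻¹ * Linear.coeHom x = 1 ∧
        Linear.coeHom x * Linear.coeHom x⁻¹ = 1 := fun x =>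
      ⟨by rw [← map_mul, inv_mul_cancel, map_one], by rw [← map_mul, mul_inv_cancel, map_one]⟩
    have key : ∀ (x y : SL) (v φ : V), Linear.coeHom y *ᵥ Pi.single 0 1 = v →
        φ ᵥ* Linear.coeHom y = Pi.single 1 1 → Linear.coeHom x = TV v φ 1 →
        Linear.coeHom (y⁻¹ * x * y) = TV (Pi.single 0 1) (Pi.single 1 1) 1 := fun x y v φ e1 e2 ex => by
      rw [map_mul, map_mul, ex, TV, TV, mul_add, add_mul, mul_one, (hc y).1, one_smul, one_smul,
        mul_vecMulVec, vecMulVec_mul, e2, ← e1, mulVec_mulVec, (hc y).1, one_mulVec]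
    have e : g⁻¹ * a * g = h⁻¹ * b * h := Linear.coeHom_injective
      ((key a g v φ hg1 hg2 ea).trans (key b h w ψ hh1 hh2 eb).symm)
    refine ⟨h * g⁻¹, ?_⟩
    calc b = h * (h⁻¹ * b * h) * h⁻¹ := by group
      _ = h * (g⁻¹ * a * g) * h⁻¹ := by rw [e]
      _ = h * g⁻¹ * a * (h * g⁻¹)⁻¹ := by group
  · rcases trichotomy ha hb with h | ⟨-, h⟩ | ⟨h, -⟩
    · left
      have h2 : orderOf (a * b) ∣ 2 := orderOf_dvd_of_pow_eq_one (by
        rw [pow_two]; nth_rw 2 [h]
        rw [mul_assoc a b, ← mul_assoc b b, sq_eq_one hb, one_mul, sq_eq_one ha])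
      rcases (Nat.dvd_prime Nat.prime_two).1 h2 with e | e
      · exact e
      · rw [e] at ho; exact absurd ho (by decide)
    · exact Or.inr (h hq)
    · rw [h] at ho; exact absurd ho (by decide)

/-- Let F be a finite field of characteristic 2 and n a natural number. Then the transvections of SL_{n+3}(F) (so in every dimension at least 3) (the conjugates of the elementary matrices 1 + c E₁₂, c ≠ 0) form a class of root involutions of SL_{n+3}(F); when F has two elements they form a class of {3,4}⁺-transpositions (every product of odd order has order 1 or 3). -/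
theorem result (F : Type*) [Field F] [Fintype F] [CharP F 2] (n : ℕ) :
    Cfsg.IsRootInvolutionClass {t : Matrix.SpecialLinearGroup (Fin (n + 3)) F | ∃ c : F, c ≠ 0 ∧
        ∃ g : Matrix.SpecialLinearGroup (Fin (n + 3)) F, ((g⁻¹ * t * g : Matrix.SpecialLinearGroup (Fin (n + 3)) F) :
          Matrix (Fin (n + 3)) (Fin (n + 3)) F) = Matrix.transvection 0 1 c} ∧
    (Fintype.card F = 2 → Cfsg.IsThreeFourPlusTranspositionSet {t : Matrix.SpecialLinearGroup (Fin (n + 3)) F | ∃ c : F, c ≠ 0 ∧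
        ∃ g : Matrix.SpecialLinearGroup (Fin (n + 3)) F, ((g⁻¹ * t * g : Matrix.SpecialLinearGroup (Fin (n + 3)) F) :
          Matrix (Fin (n + 3)) (Fin (n + 3)) F) = Matrix.transvection 0 1 c}) := by
  exact all_props

end Cfsg.Agent.S5058
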