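import Cfsg.Statements.S5059


set_option autoImplicit false
universe u
open Cfsg

namespace Cfsg.Agent.S5059

/-- Let k be a field of characteristic not 2 with k not of order 3, M a finite-dimensional k-vector space and G ≤ GL(M) such that (G, M) is a quadratic pair (M irreducible for G, and G generated by its quadratically acting elements σ whose scalar family 1 + c(σ − 1), c ∈ k, lies in G). Write 𝒬_d for the quadratic elements of G of minimal commutator rank, E(σ) for the subgroup generated by the members of 𝒬_d with the same fixed space and commutator space as σ, and Σ for the set of these subgroups. Then for σ ∈ 𝒬_d the subgroup E(σ) consists exactly of those members together with the identity, it is abelian, and if k has prime characteristic p every element of E(σ) has order dividing p. -/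
theorem result {k : Type u} [Field k] (hk2 : ringChar k ≠ 2) (hk3 : Nat.card k ≠ 3)
    {M : Type u} [AddCommGroup M] [Module k M] [FiniteDimensional k M]
    {G : Subgroup (LinearMap.GeneralLinearGroup k M)} (hG : Cfsg.IsQuadraticPair G)
    {σ : LinearMap.GeneralLinearGroup k M} (hσ : σ ∈ Cfsg.minimalQuadraticElements G) :
    (Cfsg.sameActionSubgroup G σ : Set (LinearMap.GeneralLinearGroup k M)) = Cfsg.sameActionClass G σ ∪ {1} ∧
    IsMulCommutative ↥(Cfsg.sameActionSubgroup G σ) ∧
    (∀ p : ℕ, p.Prime → ringChar k = p → ∀ x ∈ Cfsg.sameActionSubgroup G σ, x ^ p = 1) := by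
  set Q := Cfsg.sameActionClass G σ with hQ
  let N : LinearMap.GeneralLinearGroup k M → (M →ₗ[k] M) := fun τ => (τ : M →ₗ[k] M) - 1
  have hNσ : N σ * N σ = 0 := hσ.1.2.1.1
  have hRK : LinearMap.range (N σ) ≤ LinearMap.ker (N σ) := by
    rintro _ ⟨m, rfl⟩
    rw [LinearMap.mem_ker]
    exact LinearMap.congr_fun hNσ m
  -- products of two such transformations
  have hzero : ∀ τ ∈ Q, ∀ τ' ∈ Q, N τ * N τ' = 0 := by
    intro τ hτ τ' hτ'
    ext m
    show N τ (N τ' m) = 0
    have h1 : N τ' m ∈ LinearMap.range (N σ) := hτ'.2.2 ▸ LinearMap.mem_range_self _ m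
    have h2 := hRK h1
    rw [← hτ.2.1] at h2
    exact LinearMap.mem_ker.1 h2
  have hval : ∀ τ ∈ Q, ∀ τ' ∈ Q, N (τ * τ') = N τ + N τ' := by
    intro τ hτ τ' hτ'
    have h := hzero τ hτ τ' hτ'
    simp only [N, sub_mul, mul_sub, one_mul, mul_one] at h ⊢
    rw [Units.val_mul]
    linear_combination (norm := abel) h
  have hfam : ∀ τ ∈ Q, ∀ c : k, ∃ u : LinearMap.GeneralLinearGroup k M, (u : M →ₗ[k] M) = 1 + c • N τ ∧ u ∈ G := by
    intro τ hτ c
    have h0 := hzero τ hτ τ hτ
    refine ⟨⟨1 + c • N τ, 1 - c • N τ, ?_, ?_⟩, rfl, hτ.1.1.2.2 ⟨c, rfl⟩⟩ <;>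
      simp [add_mul, mul_add, sub_mul, mul_sub, smul_mul_smul_comm, h0]
  have hmk : ∀ u : LinearMap.GeneralLinearGroup k M, u ∈ G →
      LinearMap.ker (N σ) ≤ LinearMap.ker (N u) → LinearMap.range (N u) ≤ LinearMap.range (N σ) →
      (∀ c : k, ∀ w : LinearMap.GeneralLinearGroup k M,
        (w : M →ₗ[k] M) = 1 + c • N u → w ∈ G) → u = 1 ∨ u ∈ Q := by
    intro u hu hker hran hsc
    by_cases h0 : N u = 0
    · exact Or.inl (Units.ext (sub_eq_zero.1 h0))
    have hq : u ∈ Cfsg.quadraticElements G := by
      refine ⟨hu, ⟨?_, h0⟩, fun w ⟨c, hc⟩ => hsc c w hc⟩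
      ext m
      exact LinearMap.mem_ker.1 (hker (hRK (hran (LinearMap.mem_range_self _ m))))
    have hr : Module.finrank k (LinearMap.range (N u)) = Module.finrank k (LinearMap.range (N σ)) :=
      le_antisymm (Submodule.finrank_mono hran) (hσ.2 u hq)
    have hran' : LinearMap.range (N u) = LinearMap.range (N σ) :=
      Submodule.eq_of_le_of_finrank_eq hran hr
    have hker' : LinearMap.ker (N σ) = LinearMap.ker (N u) := by
      refine Submodule.eq_of_le_of_finrank_eq hker ?_
      have h1 := LinearMap.finrank_range_add_finrank_ker (N σ)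
      have h2 := LinearMap.finrank_range_add_finrank_ker (N u)
      omega
    exact Or.inr ⟨⟨hq, fun τ hτ => le_of_eq_of_le hr (hσ.2 τ hτ)⟩, hker'.symm, hran'⟩
  have hmul : ∀ τ ∈ Q, ∀ τ' ∈ Q, τ * τ' = 1 ∨ τ * τ' ∈ Q := by
    intro τ hτ τ' hτ'
    refine hmk _ (G.mul_mem hτ.1.1.1 hτ'.1.1.1) ?_ ?_ ?_
    · intro m hm
      rw [LinearMap.mem_ker, hval τ hτ τ' hτ', LinearMap.add_apply]
      have h1 : m ∈ LinearMap.ker (N τ) := hτ.2.1.symm ▸ hm
      have h2 : m ∈ LinearMap.ker (N τ') := hτ'.2.1.symm ▸ hm
      rw [LinearMap.mem_ker.1 h1, LinearMap.mem_ker.1 h2, add_zero]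
    · rintro _ ⟨m, rfl⟩
      rw [hval τ hτ τ' hτ', LinearMap.add_apply]
      exact add_mem (hτ.2.2 ▸ LinearMap.mem_range_self _ m) (hτ'.2.2 ▸ LinearMap.mem_range_self _ m)
    · intro c w hw
      obtain ⟨u, hu, huG⟩ := hfam τ hτ c
      obtain ⟨u', hu', huG'⟩ := hfam τ' hτ' c
      have : w = u * u' := by
        apply Units.ext
        rw [hw, Units.val_mul, hu, hu', hval τ hτ τ' hτ', add_mul, mul_add, mul_add,
          smul_mul_smul_comm, hzero τ hτ τ' hτ', smul_zero, add_zero, one_mul, one_mul, mul_one,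
          smul_add]
        abel
      exact this ▸ G.mul_mem huG huG'
  have hinv : ∀ τ ∈ Q, τ⁻¹ = 1 ∨ τ⁻¹ ∈ Q := by
    intro τ hτ
    have hv : N τ⁻¹ = -N τ := by
      obtain ⟨u, hu, -⟩ := hfam τ hτ (-1)
      have : u = τ⁻¹ := by
        refine eq_inv_of_mul_eq_one_left (Units.ext ?_)
        have hτv : (τ : M →ₗ[k] M) = 1 + N τ := by simp [N]
        rw [Units.val_mul, hu, Units.val_one, hτv, add_mul, one_mul, mul_add, mul_one,
          smul_mul_assoc, hzero τ hτ τ hτ, smul_zero, add_zero]
        module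
      rw [← this]
      show (u : M →ₗ[k] M) - 1 = -N τ
      rw [hu]
      module
    refine hmk _ (G.inv_mem hτ.1.1.1) ?_ ?_ ?_
    · intro m hm
      have h1 : m ∈ LinearMap.ker (N τ) := hτ.2.1.symm ▸ hm
      rw [LinearMap.mem_ker, hv, LinearMap.neg_apply, LinearMap.mem_ker.1 h1, neg_zero]
    · rintro _ ⟨m, rfl⟩
      rw [hv, LinearMap.neg_apply]
      exact neg_mem (hτ.2.2 ▸ LinearMap.mem_range_self _ m)
    · intro c w hw
      obtain ⟨u, hu, huG⟩ := hfam τ hτ (-c)
      have : w = u := Units.ext (by rw [hw, hu, hv]; module)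
      exact this ▸ huG
  let H : Subgroup (LinearMap.GeneralLinearGroup k M) :=
    { carrier := Q ∪ {1}
      one_mem' := Or.inr rfl
      mul_mem' := by
        rintro x y (hx | hx) (hy | hy)
        · exact (hmul x hx y hy).elim Or.inr Or.inl
        · rw [Set.mem_singleton_iff] at hy; exact Or.inl (by rwa [hy, mul_one])
        · rw [Set.mem_singleton_iff] at hx; exact Or.inl (by rwa [hx, one_mul])
        · rw [Set.mem_singleton_iff] at hx hy; exact Or.inr (by rw [hx, hy, one_mul]; rfl)
      inv_mem' := by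
        rintro x (hx | hx)
        · exact (hinv x hx).elim Or.inr Or.inl
        · rw [Set.mem_singleton_iff] at hx; exact Or.inr (by rw [hx, inv_one]; rfl) }
  have hEH : Cfsg.sameActionSubgroup G σ = H := by
    refine le_antisymm ((Subgroup.closure_le H).2 fun x hx => Or.inl hx) ?_
    rintro x (hx | hx)
    · exact Subgroup.subset_closure hx
    · rw [Set.mem_singleton_iff] at hx; exact hx ▸ Subgroup.one_mem _
  refine ⟨by rw [hEH]; rfl, ?_, ?_⟩
  · refine Subgroup.isMulCommutative_closure fun x hx y hy => ?_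
    apply Units.ext
    apply sub_left_injective (b := (1 : M →ₗ[k] M))
    show N (x * y) = N (y * x)
    rw [hval x hx y hy, hval y hy x hx, add_comm]
  · intro p hp hchar x hx
    rw [hEH] at hx
    rcases hx with hx | hx
    · have hpow : ∀ n : ℕ, (x ^ n : LinearMap.GeneralLinearGroup k M) = 1 ∨
          True ∧ N (x ^ n) = (n : k) • N x := by
        intro n
        right
        refine ⟨trivial, ?_⟩
        induction n with
        | zero => simp [N]
        | succ n ih =>
          rw [pow_succ]
          have h := hzero x hx x hx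
          have h2 : N (x ^ n) * N x = 0 := by rw [ih, smul_mul_assoc, h, smul_zero]
          simp only [N, Units.val_mul, Units.val_pow_eq_pow_val] at ih h2 ⊢
          simp only [sub_mul, mul_sub, one_mul, mul_one] at h2
          rw [Nat.cast_succ, add_smul, one_smul, ← ih]
          linear_combination (norm := abel) h2
      rcases hpow p with h | ⟨-, h⟩
      · exact h
      · apply Units.ext
        have h0 : (p : k) = 0 := by rw [← hchar]; exact ringChar.Nat.cast_ringChar
        rw [h0, zero_smul] at h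
        exact sub_eq_zero.1 h
    · rw [Set.mem_singleton_iff] at hx; rw [hx, one_pow]

end Cfsg.Agent.S5059
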