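import Cfsg.Statements.S5060
import Cfsg.Agent.Lib.QuadraticPair.WordsRing
-- import your own Cfsg.Agent.* helpers here

set_option autoImplicit false
open Cfsg

namespace Cfsg.Agent.S5060

/-- Let k ⊆ K be fields with the characteristic of k not 2 and k not of order 3, and let α ∈ K be a non-zero element algebraic over k. Then the subgroup of SL₂(K) generated by the upper unitriangular matrices with entry c and the lower unitriangular matrices with entry cα, c ranging over k, is exactly the group of matrices of SL₂(K) with all entries in k(α). -/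
theorem result {k K : Type*} [Field k] [Field K] [Algebra k K] (hk2 : ringChar k ≠ 2) (hk3 : Nat.card k ≠ 3)
    (α : K) (hα : IsAlgebraic k α) (hα0 : α ≠ 0) :
    (Subgroup.closure ({g : Matrix.SpecialLinearGroup (Fin 2) K | ∃ c : k, (g : Matrix (Fin 2) (Fin 2) K) = !![1, algebraMap k K c; 0, 1]} ∪
        {g : Matrix.SpecialLinearGroup (Fin 2) K | ∃ c : k, (g : Matrix (Fin 2) (Fin 2) K) = !![1, 0; algebraMap k K c * α, 1]}) :
      Set (Matrix.SpecialLinearGroup (Fin 2) K)) =
    {g : Matrix.SpecialLinearGroup (Fin 2) K | ∀ i j : Fin 2, (g : Matrix (Fin 2) (Fin 2) K) i j ∈ IntermediateField.adjoin k ({α} : Set K)} := by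
  classical
  have hint : IsIntegral k α := hα.isIntegral
  let L := IntermediateField.adjoin k ({α} : Set K)
  haveI : FiniteDimensional k L := IntermediateField.adjoin.finiteDimensional hint
  let a : L := IntermediateField.AdjoinSimple.gen k α
  have ha : (a : K) = α := IntermediateField.AdjoinSimple.coe_gen k α
  have ha0 : a ≠ 0 := fun e => hα0 (by rw [← ha, e]; rfl)
  have h2 : (2 : k) ≠ 0 := Ring.two_ne_zero hk2
  have hgen : Function.Surjective (Polynomial.aeval a : Polynomial k → L) := by
    intro r
    have hr : (r : K) ∈ (IntermediateField.adjoin k ({α} : Set K)).toSubalgebra := r.2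
    rw [IntermediateField.adjoin_simple_toSubalgebra_of_isAlgebraic hα,
      Algebra.adjoin_singleton_eq_range_aeval] at hr
    obtain ⟨q, hq⟩ := hr
    refine ⟨q, Subtype.ext ?_⟩
    have := Polynomial.aeval_algHom_apply L.val a q
    rw [show L.val a = α from ha] at this
    exact this.symm.trans hq
  have htop : QuadraticPair.Generic.words k a = ⊤ :=
    QuadraticPair.Generic.eq_top_of_up_low _
      (fun c => (QuadraticPair.Generic.up_low_mem h2 hk3 (isUnit_iff_ne_zero.2 ha0) hgen c).1)
      (fun c => (QuadraticPair.Generic.up_low_mem h2 hk3 (isUnit_iff_ne_zero.2 ha0) hgen c).2)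
  have hmap := QuadraticPair.Generic.map_words L.val a
  rw [show L.val a = α from ha, htop, ← MonoidHom.range_eq_map] at hmap
  rw [show ({g : Matrix.SpecialLinearGroup (Fin 2) K | ∃ c : k, (g : Matrix (Fin 2) (Fin 2) K) = !![1, algebraMap k K c; 0, 1]} ∪
      {g : Matrix.SpecialLinearGroup (Fin 2) K | ∃ c : k, (g : Matrix (Fin 2) (Fin 2) K) = !![1, 0; algebraMap k K c * α, 1]}) =
      Set.range (fun c : k => QuadraticPair.Generic.up (algebraMap k K c)) ∪
        Set.range (fun c : k => QuadraticPair.Generic.low (algebraMap k K c * α)) from ?_]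
  · rw [show Subgroup.closure (Set.range (fun c : k => QuadraticPair.Generic.up (algebraMap k K c)) ∪
        Set.range (fun c : k => QuadraticPair.Generic.low (algebraMap k K c * α))) =
        QuadraticPair.Generic.words k α from rfl, ← hmap]
    ext g
    constructor
    · rintro ⟨h, rfl⟩ i j
      exact (h i j).2
    · intro hg
      refine ⟨⟨Matrix.of fun i j => (⟨g i j, hg i j⟩ : L), Subtype.ext ?_⟩, ?_⟩
      · have hd := g.det_coe
        rw [Matrix.det_fin_two] at hd ⊢
        exact hd
      · ext i j
        rfl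
  · ext g
    refine or_congr ?_ ?_ <;>
      exact ⟨fun ⟨c, hc⟩ => ⟨c, Subtype.ext hc.symm⟩, fun ⟨c, hc⟩ => ⟨c, hc ▸ rfl⟩⟩

end Cfsg.Agent.S5060
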