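import Cfsg.Statements.S5061
import Cfsg.Agent.Lib.RootSubgroups.UnipotentFamily
-- import your own Cfsg.Agent.* helpers here

set_option autoImplicit false
open Cfsg

namespace Cfsg.Agent.S5061

theorem unip_iff {k : Type*} [Field k] {M : Type*} [AddCommGroup M] [Module k M] [FiniteDimensional k M]
    (H : Subgroup (LinearMap.GeneralLinearGroup k M)) :
    Cfsg.IsUnipotentOn H ↔ Cfsg.Agent.RootSubgroups.UnipotentFamily.Nil k (R := Module.End k M) H := by
  rw [Cfsg.Agent.RootSubgroups.UnipotentFamily.nil_iff]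
  unfold Cfsg.IsUnipotentOn
  simp [List.map_map, List.map_eq_map, Function.comp_def, List.map_flatMap, ← List.map_eq_flatMap]

/-- Let M be a finite-dimensional vector space over a field k, G ≤ GL(M), and 𝒲 a set of subgroups of G, invariant under conjugation by G, such that any two members of 𝒲 generate a subgroup acting unipotently on M (for some n all products of n endomorphisms g − 1 from it vanish). Then the subgroup generated by all members of 𝒲 acts unipotently on M and is normal in G. -/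
theorem result {k : Type*} [Field k] {M : Type*} [AddCommGroup M] [Module k M] [FiniteDimensional k M]
    {G : Subgroup (LinearMap.GeneralLinearGroup k M)} {W : Set (Subgroup (LinearMap.GeneralLinearGroup k M))} (hWG : ∀ A ∈ W, A ≤ G)
    (hWW : ∀ A ∈ W, ∀ B ∈ W, Cfsg.IsUnipotentOn (A ⊔ B)) (hWconj : ∀ A ∈ W, ∀ g ∈ G, Cfsg.conjBy A g ∈ W) :
    Cfsg.IsUnipotentOn (⨆ A ∈ W, A) ∧ ∀ g ∈ G, Cfsg.conjBy (⨆ A ∈ W, A) g = ⨆ A ∈ W, A := by
  refine ⟨?_, fun g hg => ?_⟩
  · have := Cfsg.Agent.RootSubgroups.UnipotentFamily.nil_iSup (k := k) (R := Module.End k M) (W := W)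
      (fun A hA B hB => (unip_iff _).mp (hWW A hA B hB))
      (fun A hA B hB g hg => hWconj A hA g (hWG B hB hg))
    exact (unip_iff _).mpr this
  · have key : ∀ g ∈ G, Cfsg.conjBy (⨆ A ∈ W, A) g ≤ ⨆ A ∈ W, A := fun g hg => by
      rw [Cfsg.conjBy, Subgroup.map_le_iff_le_comap]
      refine iSup₂_le fun A hA => ?_
      rw [← Subgroup.map_le_iff_le_comap]
      exact le_iSup₂_of_le _ (hWconj A hA g hg) le_rfl
    refine le_antisymm (key g hg) fun x hx => ?_
    exact ⟨g⁻¹ * x * g, key g⁻¹ (inv_mem hg) ⟨x, hx, by simp⟩, by simp [mul_assoc]⟩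

end Cfsg.Agent.S5061
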