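import Cfsg.Statements.S5064
import Cfsg.Agent.Lib.QuadraticPair.Frame
-- import your own Cfsg.Agent.* helpers here

set_option autoImplicit false
universe u
open Cfsg

namespace Cfsg.Agent.S5064

open Cfsg.Agent.QuadraticPair in
theorem chi_injective {k : Type u} [Field k] {M : Type u} [AddCommGroup M] [Module k M] [FiniteDimensional k M]
    {G : Subgroup (LinearMap.GeneralLinearGroup k M)} {a b : Module.End k M} (P : Pair G a b) :
    Function.Injective (chi P.minL.sq P.minR.sq P.fit P.inv P.inv_spec) := by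
  rw [injective_iff_map_eq_one]
  intro g hg
  have h : Ψ P.fit P.inv (g : Matrix (Fin 2) (Fin 2) P.fit.R) = P.fit.e := by
    have := congrArg (fun u : LinearMap.GeneralLinearGroup k M => (u : Module.End k M)) hg
    simp only [coe_chi, Units.val_one] at this
    linear_combination (norm := abel) this
  have hca := fun r => (P.fit.commute_φ (z_comm_left (b := b) P.minL.sq) r).eq
  have hcb := fun r => (P.fit.commute_φ (z_comm_right (a := a) P.minR.sq) r).eq
  have inA : ∀ r s, P.fit.φ r * a = P.fit.φ s * a → r = s := by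
    intro r s h
    have h0 : P.fit.φ (r - s) * a = 0 := by
      have : P.fit.φ (r - s) = P.fit.φ r - P.fit.φ s := by
        rw [eq_sub_iff_add_eq, ← P.fit.φ_add, sub_add_cancel]
      rw [this, sub_mul, h, sub_self]
    refine sub_eq_zero.1 (P.fit.isUnit_x.mul_left_eq_zero.1 (P.fit.φ_inj ?_))
    rw [← P.fit.φ_mul_z, mul_add, ← mul_assoc _ a b, h0, zero_mul, zero_add, ← mul_assoc, hcb, mul_assoc, h0, mul_zero]
  have inB : ∀ r s, P.fit.φ r * b = P.fit.φ s * b → r = s := by
    intro r s h
    have h0 : P.fit.φ (r - s) * b = 0 := by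
      have : P.fit.φ (r - s) = P.fit.φ r - P.fit.φ s := by
        rw [eq_sub_iff_add_eq, ← P.fit.φ_add, sub_add_cancel]
      rw [this, sub_mul, h, sub_self]
    refine sub_eq_zero.1 (P.fit.isUnit_x.mul_left_eq_zero.1 (P.fit.φ_inj ?_))
    rw [← P.fit.φ_mul_z, mul_add, ← mul_assoc _ b a, h0, zero_mul, add_zero, ← mul_assoc, hca, mul_assoc, h0, mul_zero]
  have za : a * (b * a) = (a * b + b * a) * a := by
    rw [add_mul, mul_assoc b a a, P.minL.sq, mul_zero, add_zero, mul_assoc]
  have zb : b * (a * b) = (a * b + b * a) * b := by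
    rw [add_mul, mul_assoc a b b, P.minR.sq, mul_zero, zero_add, mul_assoc]
  have cl : ∀ (X Y : Module.End k M) (r : P.fit.R), X * P.fit.φ r = P.fit.φ r * X →
      X * (P.fit.φ r * Y) = P.fit.φ r * (X * Y) := fun X Y r hX => by rw [← mul_assoc, hX, mul_assoc]
  have hL : a * Ψ P.fit P.inv (g : Matrix (Fin 2) (Fin 2) P.fit.R) =
      P.fit.φ (g 1 0 * P.inv) * (a * b) + P.fit.φ (g 1 1) * a := by
    simp only [Ψ, mul_add, cl _ _ _ (hca _).symm]
    rw [← mul_assoc a a b, P.minL.sq, zero_mul, mul_zero, mul_zero, zero_add, zero_add, za, ← mul_assoc (P.fit.φ (g 1 1 * P.inv)),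
      P.fit.φ_mul_z, mul_assoc (g 1 1), mul_comm P.inv, P.inv_spec, mul_one]
  have hR : b * Ψ P.fit P.inv (g : Matrix (Fin 2) (Fin 2) P.fit.R) =
      P.fit.φ (g 0 0) * b + P.fit.φ (g 0 1) * (b * a) := by
    simp only [Ψ, mul_add, cl _ _ _ (hcb _).symm]
    rw [← mul_assoc b b a, P.minR.sq, zero_mul, mul_zero, mul_zero, add_zero, add_zero, zb, ← mul_assoc (P.fit.φ (g 0 0 * P.inv)),
      P.fit.φ_mul_z, mul_assoc (g 0 0), mul_comm P.inv, P.inv_spec, mul_one]
  rw [h, ← (commute_e P.minL.sq P.minR.sq P.fit trivial).1.eq, P.ea] at hL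
  rw [h, ← (commute_e P.minL.sq P.minR.sq P.fit trivial).2.eq, P.eb] at hR
  have e10 : g 1 0 = 0 := by
    have := congrArg (· * a) hL
    simp only [add_mul, mul_assoc, P.minL.sq, mul_zero, add_zero] at this
    rw [za, ← mul_assoc (P.fit.φ _), P.fit.φ_mul_z, mul_assoc (g 1 0), mul_comm P.inv, P.inv_spec, mul_one] at this
    exact inA _ _ (by rw [P.fit.φ_zero, zero_mul]; exact this.symm)
  have e01 : g 0 1 = 0 := by
    have := congrArg (· * b) hR
    simp only [add_mul, mul_assoc, P.minR.sq, mul_zero, zero_add] at this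
    rw [zb, ← mul_assoc (P.fit.φ _), P.fit.φ_mul_z] at this
    exact P.fit.isUnit_x.mul_left_eq_zero.1 (inB _ _ (by rw [P.fit.φ_zero, zero_mul]; exact this.symm))
  rw [e10, zero_mul, P.fit.φ_zero, zero_mul, zero_add] at hL
  rw [e01, P.fit.φ_zero, zero_mul, add_zero] at hR
  have e11 : g 1 1 = 1 := inA _ _ (by rw [P.fit.φ_one, P.ea]; exact hL.symm)
  have e00 : g 0 0 = 1 := inB _ _ (by rw [P.fit.φ_one, P.eb]; exact hR.symm)
  ext i j
  fin_cases i <;> fin_cases j <;> simp [e00, e01, e10, e11]

/-- Let k be a field of characteristic not 2 with k not of order 3, M a finite-dimensional k-vector space and G ≤ GL(M) such that (G, M) is a quadratic pair (M irreducible for G, and G generated by its quadratically acting elements σ whose scalar family 1 + c(σ − 1), c ∈ k, lies in G). Write 𝒬_d for the quadratic elements of G of minimal commutator rank, E(σ) for the subgroup generated by the members of 𝒬_d with the same fixed space and commutator space as σ, and Σ for the set of these subgroups.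 If σ, τ ∈ 𝒬_d and the subgroup H generated by their two scalar families does not act unipotently on M, then H is isomorphic to SL₂ over a simple algebraic extension k(λ) of k. -/
theorem result {k : Type u} [Field k] (hk2 : ringChar k ≠ 2) (hk3 : Nat.card k ≠ 3)
    {M : Type u} [AddCommGroup M] [Module k M] [FiniteDimensional k M]
    {G : Subgroup (LinearMap.GeneralLinearGroup k M)} (hG : Cfsg.IsQuadraticPair G)
    {σ τ : LinearMap.GeneralLinearGroup k M} (hσ : σ ∈ Cfsg.minimalQuadraticElements G) (hτ : τ ∈ Cfsg.minimalQuadraticElements G)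
    (hH : ¬ Cfsg.IsUnipotentOn (Subgroup.closure (Cfsg.scalarFamily σ ∪ Cfsg.scalarFamily τ))) :
    ∃ (K : Type u) (_ : Field K) (_ : Algebra k K) (lam : K), IsAlgebraic k lam ∧
      IntermediateField.adjoin k ({lam} : Set K) = ⊤ ∧
      Nonempty (↥(Subgroup.closure (Cfsg.scalarFamily σ ∪ Cfsg.scalarFamily τ)) ≃* Matrix.SpecialLinearGroup (Fin 2) K) := by
  classical
  have hset : ∀ (x : LinearMap.GeneralLinearGroup k M) (hx : Agent.QuadraticPair.op x * Agent.QuadraticPair.op x = 0),
      Cfsg.scalarFamily x = Set.range (Agent.QuadraticPair.ex (k := k) hx) := by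
    intro x hx
    ext t
    exact ⟨fun ⟨c, hc⟩ => ⟨c, Units.ext hc.symm⟩, fun ⟨c, hc⟩ => ⟨c, hc ▸ rfl⟩⟩
  have ha := Agent.QuadraticPair.min_op hσ
  have hb := Agent.QuadraticPair.min_op hτ
  have hgrp : Subgroup.closure (Cfsg.scalarFamily σ ∪ Cfsg.scalarFamily τ) =
      Agent.QuadraticPair.pairGroup (k := k) ha.sq hb.sq := by
    rw [hset σ ha.sq, hset τ hb.sq]; rfl
  rw [hgrp] at hH ⊢
  obtain ⟨P⟩ := Agent.QuadraticPair.exists_pair hk2 hk3 ha hb
    fun hn => hH (Agent.QuadraticPair.unipotent_of_nilpotent ha.sq hb.sq hn)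
  haveI := P.fit.finite
  letI : Field P.fit.R := P.field.toField
  have hadj : IntermediateField.adjoin k ({P.fit.x} : Set P.fit.R) = ⊤ := by
    refine eq_top_iff.2 fun r _ => ?_
    obtain ⟨q, rfl⟩ := P.fit.surj r
    exact IntermediateField.algebra_adjoin_le_adjoin k _ (Polynomial.aeval_mem_adjoin_singleton k P.fit.x)
  refine ⟨P.fit.R, inferInstance, inferInstance, P.fit.x,
    (IsIntegral.of_finite k P.fit.x).isAlgebraic, hadj, ⟨?_⟩⟩
  have htop : Agent.QuadraticPair.Generic.words k P.fit.x = ⊤ :=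
    Agent.QuadraticPair.Generic.eq_top_of_up_low _
      (fun c => (Agent.QuadraticPair.Generic.up_low_mem (Ring.two_ne_zero hk2) hk3 P.fit.isUnit_x P.fit.surj c).1)
      (fun c => (Agent.QuadraticPair.Generic.up_low_mem (Ring.two_ne_zero hk2) hk3 P.fit.isUnit_x P.fit.surj c).2)
  have hmap := Agent.QuadraticPair.chi_map ha.sq hb.sq P.fit P.inv_spec P.ea P.eb
  rw [htop, ← MonoidHom.range_eq_map] at hmap
  exact ((MonoidHom.ofInjective (chi_injective P)).trans (MulEquiv.subgroupCongr hmap)).symm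

end Cfsg.Agent.S5064
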