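import Cfsg.Statements.S5065
import Cfsg.Agent.Lib.QuadraticPair.RankOne
-- import your own Cfsg.Agent.* helpers here

set_option autoImplicit false
universe u
open Cfsg

namespace Cfsg.Agent.S5065

/-- Let k be a field of characteristic not 2 with k not of order 3, M a finite-dimensional k-vector space and G ≤ GL(M) such that (G, M) is a quadratic pair (M irreducible for G, and G generated by its quadratically acting elements σ whose scalar family 1 + c(σ − 1), c ∈ k, lies in G). Write 𝒬_d for the quadratic elements of G of minimal commutator rank, E(σ) for the subgroup generated by the members of 𝒬_d with the same fixed space and commutator space as σ, and Σ for the set of these subgroups. For σ, τ ∈ 𝒬_d put A = E(σ), B = E(τ) and X = ⟨A, B⟩. Then either X acts unipotently on M, or A and B are the unipotent subgroups of a special rank one group X; in the latter case X contains exactly one central involution acting as −1 on the commutator space [M, X] and trivially on the fixed space C_M(X), and M is the direct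 sum of C_M(X) and [M, X]. -/
theorem result {k : Type u} [Field k] (hk2 : ringChar k ≠ 2) (hk3 : Nat.card k ≠ 3)
    {M : Type u} [AddCommGroup M] [Module k M] [FiniteDimensional k M]
    {G : Subgroup (LinearMap.GeneralLinearGroup k M)} (hG : Cfsg.IsQuadraticPair G)
    {σ τ : LinearMap.GeneralLinearGroup k M} (hσ : σ ∈ Cfsg.minimalQuadraticElements G) (hτ : τ ∈ Cfsg.minimalQuadraticElements G) :
    Cfsg.IsUnipotentOn (Cfsg.sameActionSubgroup G σ ⊔ Cfsg.sameActionSubgroup G τ) ∨
    (Cfsg.IsSpecialRankOnePair (Cfsg.sameActionSubgroup G σ) (Cfsg.sameActionSubgroup G τ) ∧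
      (∃! i : LinearMap.GeneralLinearGroup k M, i ∈ Cfsg.sameActionSubgroup G σ ⊔ Cfsg.sameActionSubgroup G τ ∧ i ≠ 1 ∧ i * i = 1 ∧
        (∀ x ∈ Cfsg.sameActionSubgroup G σ ⊔ Cfsg.sameActionSubgroup G τ, i * x = x * i) ∧
        (∀ m ∈ Cfsg.commutatorSubmodule (Cfsg.sameActionSubgroup G σ ⊔ Cfsg.sameActionSubgroup G τ), (i : M →ₗ[k] M) m = -m) ∧
        (∀ m ∈ Cfsg.fixedSubmodule (Cfsg.sameActionSubgroup G σ ⊔ Cfsg.sameActionSubgroup G τ), (i : M →ₗ[k] M) m = m)) ∧
      IsCompl (Cfsg.fixedSubmodule (Cfsg.sameActionSubgroup G σ ⊔ Cfsg.sameActionSubgroup G τ))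
        (Cfsg.commutatorSubmodule (Cfsg.sameActionSubgroup G σ ⊔ Cfsg.sameActionSubgroup G τ))) := by
  have S := Agent.QuadraticPair.setting_of hk2 hk3 hG
  rw [Agent.QuadraticPair.sameAction_eq hσ, Agent.QuadraticPair.sameAction_eq hτ]
  have ha := Agent.QuadraticPair.min_op hσ
  rcases Agent.QuadraticPair.dichotomy S ha (Agent.QuadraticPair.min_op hτ) with h | ⟨d, hd, hroot, ho⟩
  · exact Or.inl (Agent.QuadraticPair.unipotent_of_aba S ha (Agent.QuadraticPair.min_op hτ) h)
  right
  rw [← hroot]
  obtain ⟨hF, hC, key⟩ := Agent.QuadraticPair.fixed_sup ha hd ho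
  set a := Agent.QuadraticPair.op σ
  set e := a * d + d * a with he
  have hee : e * e = e := by
    rw [he]
    simp only [add_mul, mul_add]
    rw [← mul_assoc (a * d) a d, ho.left, mul_assoc a d (d * a), ← mul_assoc d d a, hd.sq,
      mul_assoc d a (a * d), ← mul_assoc a a d, ha.sq, ← mul_assoc (d * a) d a, ho.right]
    simp
  refine ⟨Agent.QuadraticPair.special S ha hd ho, ?_, ?_⟩
  · let w := Agent.QuadraticPair.ex ha.sq (1 : k) * (Agent.QuadraticPair.ex hd.sq (1 : k))⁻¹ * Agent.QuadraticPair.ex ha.sq (1 : k)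
    have hw : (w : M →ₗ[k] M) = 1 - e + a - d := by
      simp only [w, he, Units.val_mul, Agent.QuadraticPair.coe_ex, Agent.QuadraticPair.coe_ex_inv, one_smul,
        add_mul, mul_add, mul_sub, sub_mul, one_mul, mul_one, ho.left, ha.sq]
      abel
    have hea : e * a = a ∧ a * e = a ∧ e * d = d ∧ d * e = d := by
      refine ⟨?_, ?_, ?_, ?_⟩
      · rw [he, add_mul, ho.left, mul_assoc, ha.sq]; simp
      · rw [he, mul_add, ← mul_assoc, ha.sq, ← mul_assoc, ho.left]; simp
      · rw [he, add_mul, mul_assoc a, hd.sq, ho.right]; simp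
      · rw [he, mul_add, ← mul_assoc, ← mul_assoc, hd.sq, ho.right]; simp
    have hi : ((w * w : LinearMap.GeneralLinearGroup k M) : M →ₗ[k] M) = 1 - e - e := by
      rw [Units.val_mul, hw]
      simp only [add_mul, mul_add, mul_sub, sub_mul, one_mul, mul_one, hee, hea.1, hea.2.1, hea.2.2.1, hea.2.2.2,
        ha.sq, hd.sq]
      rw [he]
      abel
    have hwmem : w ∈ Agent.QuadraticPair.root ha.toAdm ⊔ Agent.QuadraticPair.root hd.toAdm :=
      mul_mem (mul_mem (Subgroup.mem_sup_left (Agent.QuadraticPair.ex_mem_root _ (Agent.QuadraticPair.self_mem_opSpace _) 1))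
        (inv_mem (Subgroup.mem_sup_right (Agent.QuadraticPair.ex_mem_root _ (Agent.QuadraticPair.self_mem_opSpace _) 1))))
        (Subgroup.mem_sup_left (Agent.QuadraticPair.ex_mem_root _ (Agent.QuadraticPair.self_mem_opSpace _) 1))
    have hne : e ≠ 0 := fun h0 => ha.ne (by rw [← hea.1, h0, zero_mul])
    refine ⟨w * w, ⟨mul_mem hwmem hwmem, ?_, ?_, ?_, ?_, ?_⟩, ?_⟩
    · intro h1
      have h' := congrArg (fun g : LinearMap.GeneralLinearGroup k M => (g : M →ₗ[k] M)) h1
      simp only [hi, Units.val_one] at h'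
      have h2 : (2 : k) • e = 0 := by rw [two_smul]; linear_combination (norm := abel) -h'
      exact hne ((smul_eq_zero.1 h2).resolve_left (Ring.two_ne_zero hk2))
    · refine Units.ext ?_
      rw [Units.val_mul, hi, Units.val_one]
      simp only [add_mul, mul_sub, sub_mul, one_mul, mul_one, hee]
      abel
    · intro x hx
      refine Units.ext ?_
      rw [Units.val_mul, Units.val_mul x, hi, show (x : M →ₗ[k] M) = 1 + Agent.QuadraticPair.op x by
        simp [Agent.QuadraticPair.op]]
      obtain ⟨k1, k2⟩ := key x hx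
      generalize Agent.QuadraticPair.op x = X at k1 k2 ⊢
      simp only [mul_add, add_mul, mul_sub, sub_mul, one_mul, mul_one, k1, k2]
      abel
    · intro m hm
      rw [hC] at hm
      obtain ⟨v, rfl⟩ := hm
      rw [hi]
      have : e (e v) = e v := LinearMap.congr_fun hee v
      simp [this]
    · intro m hm
      rw [hF] at hm
      rw [hi]
      simp [LinearMap.mem_ker.1 hm]
    · rintro i ⟨-, -, -, -, hneg, hpos⟩
      refine Units.ext (LinearMap.ext fun m => ?_)
      have hidem : e (e m) = e m := LinearMap.congr_fun hee m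
      have h1 := hneg (e m) (hC.ge ⟨m, rfl⟩)
      have h2 := hpos (m - e m) (hF.ge (by simp [map_sub, hidem]))
      rw [map_sub, h1, sub_neg_eq_add, ← eq_sub_iff_add_eq] at h2
      rw [h2, hi]
      simp
  · rw [hF, hC]
    refine ⟨disjoint_iff.2 (eq_bot_iff.2 ?_), codisjoint_iff.2 (eq_top_iff.2 fun m _ => ?_)⟩
    · rintro _ ⟨hm, v, rfl⟩
      rw [Submodule.mem_bot]
      have := LinearMap.congr_fun hee v
      rw [← this]
      exact LinearMap.mem_ker.1 hm
    · refine Submodule.mem_sup.2 ⟨m - e m, ?_, e m, ⟨m, rfl⟩, sub_add_cancel _ _⟩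
      have : e (e m) = e m := LinearMap.congr_fun hee m
      simp [map_sub, this]

end Cfsg.Agent.S5065
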