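import Cfsg.Statements.S5066
import Cfsg.Agent.Lib.QuadraticPair.Root
-- import your own Cfsg.Agent.* helpers here

set_option autoImplicit false
universe u
open Cfsg

namespace Cfsg.Agent.S5066

/-- Let k be a field of characteristic not 2 with k not of order 3, M a finite-dimensional k-vector space and G ≤ GL(M) such that (G, M) is a quadratic pair (M irreducible for G, and G generated by its quadratically acting elements σ whose scalar family 1 + c(σ − 1), c ∈ k, lies in G). Write 𝒬_d for the quadratic elements of G of minimal commutator rank, E(σ) for the subgroup generated by the members of 𝒬_d with the same fixed space and commutator space as σ, and Σ for the set of these subgroups. Let E, F ∈ Σ generate a subgroup that is nilpotent of class exactly two. Then D = ⁅E, F⁆ belongs to Σ, equals the subgroup generated by the commutators of e with F, and also of E with f, for every non-identity e ∈ E, f ∈ F, and ⟨E, F⟩ lies in U(D), the set of elements g of G normalizing D with (g − 1)M inside the fixed space of D, (g − 1) mapping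 that fixed space into the commutator space of D, and g acting trivially on the commutator space of D. -/
theorem result {k : Type u} [Field k] (hk2 : ringChar k ≠ 2) (hk3 : Nat.card k ≠ 3)
    {M : Type u} [AddCommGroup M] [Module k M] [FiniteDimensional k M]
    {G : Subgroup (LinearMap.GeneralLinearGroup k M)} (hG : Cfsg.IsQuadraticPair G)
    {E F : Subgroup (LinearMap.GeneralLinearGroup k M)} (hE : E ∈ Cfsg.quadraticRootSubgroups G) (hF : F ∈ Cfsg.quadraticRootSubgroups G)
    (h2 : ⁅E ⊔ F, E ⊔ F⁆ ≠ ⊥ ∧ ⁅⁅E ⊔ F, E ⊔ F⁆, E ⊔ F⁆ = ⊥) :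
    ⁅E, F⁆ ∈ Cfsg.quadraticRootSubgroups G ∧
    (∀ e ∈ E, e ≠ 1 → Subgroup.closure ((fun f : LinearMap.GeneralLinearGroup k M => e * f * e⁻¹ * f⁻¹) '' (F : Set (LinearMap.GeneralLinearGroup k M))) = ⁅E, F⁆) ∧
    (∀ f ∈ F, f ≠ 1 → Subgroup.closure ((fun e : LinearMap.GeneralLinearGroup k M => e * f * e⁻¹ * f⁻¹) '' (E : Set (LinearMap.GeneralLinearGroup k M))) = ⁅E, F⁆) ∧
    ((E ⊔ F : Subgroup (LinearMap.GeneralLinearGroup k M)) : Set (LinearMap.GeneralLinearGroup k M)) ⊆ Cfsg.quadraticUnipotentCore G ⁅E, F⁆ := by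
  obtain ⟨a, ha, rfl⟩ := Agent.QuadraticPair.exists_root hE
  obtain ⟨b, hb, rfl⟩ := Agent.QuadraticPair.exists_root hF
  have S := Agent.QuadraticPair.setting_of hk2 hk3 hG
  have h := Agent.QuadraticPair.aba_of_class_two S ha hb h2.2
  rcases eq_or_ne (b * a - a * b) 0 with h0 | h0
  · have hc := Agent.QuadraticPair.commute_roots S ha hb h (sub_eq_zero.1 h0)
    refine absurd (eq_bot_iff.2 (Agent.QuadraticPair.commutator_sup_le (D := ⊥) ?_ ?_ ?_ ?_)) h2.1
    · intro d hd x hx; rw [Subgroup.mem_bot.1 hd]; simp
    · intro x hx y hy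
      exact Agent.QuadraticPair.commute_iff.2 ((Agent.QuadraticPair.mul_zero_of_mem ha.toAdm hx hy).trans
        (Agent.QuadraticPair.mul_zero_of_mem ha.toAdm hy hx).symm)
    · intro x hx y hy
      exact Agent.QuadraticPair.commute_iff.2 ((Agent.QuadraticPair.mul_zero_of_mem hb.toAdm hx hy).trans
        (Agent.QuadraticPair.mul_zero_of_mem hb.toAdm hy hx).symm)
    · intro x hx y hy
      rw [← hc, ← commutatorElement_def]
      exact Subgroup.commutator_mem_commutator hx hy
  obtain ⟨hδ, h1, h3, h4, h5, -, -⟩ := Agent.QuadraticPair.commutator_case S ha hb h h0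
  rw [h1]
  exact ⟨Agent.QuadraticPair.root_mem_roots hδ, h3, h4, h5⟩

end Cfsg.Agent.S5066
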