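import Cfsg.Statements.S5067


set_option autoImplicit false
open Cfsg

namespace Cfsg.Agent.S5067

open scoped commutatorElement in
theorem class_lt {P : Type*} [Group P] [Group.IsNilpotent P] (hna : ¬ IsMulCommutative P)
    {E : Subgroup P} (hE : IsMulCommutative ↥E) :
    Group.nilpotencyClass ↥(Subgroup.normalClosure (E : Set P)) < Group.nilpotencyClass P := by
  set N := Subgroup.normalClosure (E : Set P) with hN
  set γ := fun n => (⊤ : Subgroup P).lowerCentralSeries n with hγ
  haveI hγn : ∀ n, (γ n).Normal := fun n => by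
    show ((⊤ : Subgroup P).lowerCentralSeries n).Normal
    infer_instance
  have hcle : 2 ≤ Group.nilpotencyClass P := by
    by_contra h
    apply hna
    have h1 : (⊤ : Subgroup P).lowerCentralSeries 1 = ⊥ :=
      Subgroup.lowerCentralSeries_eq_bot_iff_nilpotencyClass_le.2 (by omega)
    rw [Subgroup.lowerCentralSeries_succ, Subgroup.lowerCentralSeries_zero] at h1
    refine ⟨⟨fun a b => ?_⟩⟩
    have := Subgroup.commutator_mem_commutator (Subgroup.mem_top a) (Subgroup.mem_top b)
    rw [h1, Subgroup.mem_bot] at this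
    exact commutatorElement_eq_one_iff_mul_comm.1 this
  have hNle : N ≤ E ⊔ γ 1 := by
    haveI : (E ⊔ γ 1).Normal := by
      refine ⟨fun x hx g => ?_⟩
      have h1 : g * x * g⁻¹ * x⁻¹ ∈ γ 1 := by
        show g * x * g⁻¹ * x⁻¹ ∈ (⊤ : Subgroup P).lowerCentralSeries 1
        rw [Subgroup.lowerCentralSeries_succ]
        exact Subgroup.commutator_mem_commutator (Subgroup.mem_top g) (Subgroup.mem_top x)
      simpa using Subgroup.mul_mem _ (Subgroup.mem_sup_right h1 : _ ∈ E ⊔ γ 1) hx
    exact Subgroup.normalClosure_le_normal fun x hx => Subgroup.mem_sup_left hx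
  have h2 : ⁅E ⊔ γ 1, E ⊔ γ 1⁆ ≤ γ 2 := by
    have hker : (QuotientGroup.mk' (γ 2)).ker = γ 2 := QuotientGroup.ker_mk' _
    rw [← hker, ← Subgroup.map_eq_bot_iff, Subgroup.map_commutator, Subgroup.map_sup,
      Subgroup.commutator_eq_bot_iff_le_centralizer]
    have hEE : E.map (QuotientGroup.mk' (γ 2)) ≤
        Subgroup.centralizer (E.map (QuotientGroup.mk' (γ 2)) : Set (P ⧸ γ 2)) := by
      rintro _ ⟨x, hx, rfl⟩
      rw [Subgroup.mem_centralizer_iff]
      rintro _ ⟨y, hy, rfl⟩
      rw [← map_mul, ← map_mul]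
      exact congrArg _ (congrArg Subtype.val (mul_comm' (⟨y, hy⟩ : ↥E) ⟨x, hx⟩))
    have hγ1 : (γ 1).map (QuotientGroup.mk' (γ 2)) ≤ Subgroup.center (P ⧸ γ 2) := by
      rintro _ ⟨x, hx, rfl⟩
      rw [Subgroup.mem_center_iff]
      intro q
      obtain ⟨g, rfl⟩ := QuotientGroup.mk'_surjective (γ 2) q
      rw [← commutatorElement_eq_one_iff_mul_comm, ← map_commutatorElement, ← MonoidHom.mem_ker, hker]
      have : ⁅x, g⁆ ∈ γ 2 := by
        show ⁅x, g⁆ ∈ (⊤ : Subgroup P).lowerCentralSeries 2
        rw [Subgroup.lowerCentralSeries_succ]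
        exact Subgroup.commutator_mem_commutator hx (Subgroup.mem_top g)
      rw [← commutatorElement_inv]
      exact inv_mem this
    refine sup_le ?_ (hγ1.trans (Subgroup.center_le_centralizer _))
    rw [Subgroup.le_centralizer_iff]
    exact sup_le hEE (hγ1.trans (Subgroup.center_le_centralizer _))
  have hstep : ∀ j, N.lowerCentralSeries (j + 1) ≤ γ (j + 2) := by
    intro j
    induction j with
    | zero =>
      rw [Subgroup.lowerCentralSeries_succ, Subgroup.lowerCentralSeries_zero]
      exact (Subgroup.commutator_mono hNle hNle).trans h2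
    | succ j ih =>
      show N.lowerCentralSeries (j + 1 + 1) ≤ (⊤ : Subgroup P).lowerCentralSeries (j + 2 + 1)
      rw [Subgroup.lowerCentralSeries_succ, Subgroup.lowerCentralSeries_succ]
      exact Subgroup.commutator_mono ih le_top
  obtain ⟨c, hc⟩ : ∃ c, Group.nilpotencyClass P = c + 2 := ⟨Group.nilpotencyClass P - 2, by omega⟩
  have hbot : N.lowerCentralSeries (c + 1) = ⊥ := by
    refine eq_bot_iff.2 ((hstep c).trans (le_of_eq ?_))
    show (⊤ : Subgroup P).lowerCentralSeries (c + 2) = ⊥
    exact Subgroup.lowerCentralSeries_eq_bot_iff_nilpotencyClass_le.2 hc.le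
  have htop : (⊤ : Subgroup ↥N).lowerCentralSeries (c + 1) = ⊥ := by
    rw [← Subgroup.map_eq_bot_iff_of_injective _ N.subtype_injective,
      Subgroup.map_lowerCentralSeries, ← MonoidHom.range_eq_map, Subgroup.range_subtype]
    exact hbot
  have := Subgroup.lowerCentralSeries_eq_bot_iff_nilpotencyClass_le.1 htop
  omega

/-- Let P be a non-abelian nilpotent p-group (every element of p-power order; P possibly infinite) generated by two abelian subgroups E and F. Then the normal closure of E in P, and likewise that of F, has nilpotency class strictly smaller than that of P. -/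
theorem result {P : Type*} [Group P] {p : ℕ} [Fact p.Prime] (hP : IsPGroup p P) [Group.IsNilpotent P]
    (hna : ¬ IsMulCommutative P) {E F : Subgroup P} (hE : IsMulCommutative ↥E) (hF : IsMulCommutative ↥F) (hgen : E ⊔ F = ⊤) :
    Group.nilpotencyClass ↥(Subgroup.normalClosure (E : Set P)) < Group.nilpotencyClass P ∧
    Group.nilpotencyClass ↥(Subgroup.normalClosure (F : Set P)) < Group.nilpotencyClass P := by
  exact ⟨class_lt hna hE, class_lt hna hF⟩

end Cfsg.Agent.S5067
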