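import Cfsg.Statements.S5068
import Cfsg.Agent.Lib.QuadraticPair.Root
-- import your own Cfsg.Agent.* helpers here

set_option autoImplicit false
universe u
open Cfsg

namespace Cfsg.Agent.S5068

/-- Let k be a field of characteristic not 2 with k not of order 3, M a finite-dimensional k-vector space and G ≤ GL(M) such that (G, M) is a quadratic pair (M irreducible for G, and G generated by its quadratically acting elements σ whose scalar family 1 + c(σ − 1), c ∈ k, lies in G). Write 𝒬_d for the quadratic elements of G of minimal commutator rank, E(σ) for the subgroup generated by the members of 𝒬_d with the same fixed space and commutator space as σ, and Σ for the set of these subgroups. Let E, F ∈ Σ generate a subgroup acting unipotently on M. Then either E and F commute elementwise, or L = ⁅E, F⁆ belongs to Σ, equals the subgroup generated by the commutators of e with F, and of E with f, for all non-identity e ∈ E, f ∈ F, the group ⟨E, F⟩ is nilpotent of class two, and ⟨E, F⟩ lies in U(L), the set of elements g of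 G normalizing L with (g − 1)M inside the fixed space of L, (g − 1) mapping that fixed space into the commutator space of L, and g acting trivially on the commutator space of L. -/
theorem result {k : Type u} [Field k] (hk2 : ringChar k ≠ 2) (hk3 : Nat.card k ≠ 3)
    {M : Type u} [AddCommGroup M] [Module k M] [FiniteDimensional k M]
    {G : Subgroup (LinearMap.GeneralLinearGroup k M)} (hG : Cfsg.IsQuadraticPair G)
    {E F : Subgroup (LinearMap.GeneralLinearGroup k M)} (hE : E ∈ Cfsg.quadraticRootSubgroups G) (hF : F ∈ Cfsg.quadraticRootSubgroups G)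
    (hu : Cfsg.IsUnipotentOn (E ⊔ F)) :
    ⁅E, F⁆ = ⊥ ∨
    (⁅E, F⁆ ∈ Cfsg.quadraticRootSubgroups G ∧
      (∀ e ∈ E, e ≠ 1 → Subgroup.closure ((fun f : LinearMap.GeneralLinearGroup k M => e * f * e⁻¹ * f⁻¹) '' (F : Set (LinearMap.GeneralLinearGroup k M))) = ⁅E, F⁆) ∧
      (∀ f ∈ F, f ≠ 1 → Subgroup.closure ((fun e : LinearMap.GeneralLinearGroup k M => e * f * e⁻¹ * f⁻¹) '' (E : Set (LinearMap.GeneralLinearGroup k M))) = ⁅E, F⁆) ∧
      ⁅E ⊔ F, E ⊔ F⁆ ≠ ⊥ ∧ ⁅⁅E ⊔ F, E ⊔ F⁆, E ⊔ F⁆ = ⊥ ∧
      ((E ⊔ F : Subgroup (LinearMap.GeneralLinearGroup k M)) : Set (LinearMap.GeneralLinearGroup k M)) ⊆ Cfsg.quadraticUnipotentCore G ⁅E, F⁆) := by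
  obtain ⟨a, ha, rfl⟩ := Agent.QuadraticPair.exists_root hE
  obtain ⟨b, hb, rfl⟩ := Agent.QuadraticPair.exists_root hF
  have S := Agent.QuadraticPair.setting_of hk2 hk3 hG
  have h := Agent.QuadraticPair.aba_of_unipotent S ha hb hu
  rcases eq_or_ne (b * a - a * b) 0 with h0 | h0
  · exact Or.inl (Agent.QuadraticPair.commute_roots S ha hb h (sub_eq_zero.1 h0))
  obtain ⟨hδ, h1, h2, h3, h4, h5, h6⟩ := Agent.QuadraticPair.commutator_case S ha hb h h0
  right
  rw [h1]
  refine ⟨Agent.QuadraticPair.root_mem_roots hδ, h2, h3, ?_, ?_, h4⟩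
  · rw [h6]
    intro hbot
    have := hbot.le (Agent.QuadraticPair.ex_mem_root _ (Agent.QuadraticPair.self_mem_opSpace hδ.toAdm) 1)
    rw [Subgroup.mem_bot] at this
    refine h0 ?_
    simpa [Agent.QuadraticPair.op] using congrArg Agent.QuadraticPair.op this
  · rw [eq_bot_iff, Subgroup.commutator_le, h6]
    intro c hc x hx
    rw [Subgroup.mem_bot, commutatorElement_eq_one_iff_mul_comm]
    exact (mul_inv_eq_iff_eq_mul.1 (h5 c hc x hx)).symm

end Cfsg.Agent.S5068
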