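import Cfsg.Statements.S5069
import Cfsg.Agent.Lib.QuadraticPair.Quasisimple
-- import your own Cfsg.Agent.* helpers here

set_option autoImplicit false
universe u
open Cfsg

namespace Cfsg.Agent.S5069

/-- Let k be a field of characteristic not 2 with k not of order 3, M a finite-dimensional k-vector space and G ≤ GL(M) such that (G, M) is a quadratic pair (M irreducible for G, and G generated by its quadratically acting elements σ whose scalar family 1 + c(σ − 1), c ∈ k, lies in G). Write 𝒬_d for the quadratic elements of G of minimal commutator rank, E(σ) for the subgroup generated by the members of 𝒬_d with the same fixed space and commutator space as σ, and Σ for the set of these subgroups. Then Σ is a disjoint union of finitely many parts Σ₁, …, Σ_r such that the subgroups G_i generated by the Σ_i commute pairwise, each G_i is quasisimple, and inside G_i the members of Σ_i form a class of abstract root subgroups in which every rank one pair A, B contains subgroups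 A₀ ≤ A, B₀ ≤ B generating an image of SL₂(k₁) with central kernel on unitriangular subgroups for some field k₁ with at least four elements. -/
theorem result {k : Type u} [Field k] (hk2 : ringChar k ≠ 2) (hk3 : Nat.card k ≠ 3)
    {M : Type u} [AddCommGroup M] [Module k M] [FiniteDimensional k M]
    {G : Subgroup (LinearMap.GeneralLinearGroup k M)} (hG : Cfsg.IsQuadraticPair G) :
    ∃ (r : ℕ) (part : Fin r → Set (Subgroup (LinearMap.GeneralLinearGroup k M))),
      (⋃ i, part i) = Cfsg.quadraticRootSubgroups G ∧ (∀ i j, i ≠ j → Disjoint (part i) (part j)) ∧ (∀ i, (part i).Nonempty) ∧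
      (∀ i j, i ≠ j → ⁅(⨆ A ∈ part i, A), (⨆ A ∈ part j, A)⁆ = ⊥) ∧
      (∀ i, Cfsg.IsQuasisimple ↥(⨆ A ∈ part i, A) ∧
        Cfsg.IsRootSubgroupClass ((fun A : Subgroup (LinearMap.GeneralLinearGroup k M) => A.subgroupOf (⨆ B ∈ part i, B)) '' (part i)) ∧
        ∀ A ∈ part i, ∀ B ∈ Cfsg.rankOnePartners (part i) A, ∃ A₀ B₀ : Subgroup (LinearMap.GeneralLinearGroup k M), A₀ ≤ A ∧ B₀ ≤ B ∧
          ∃ (k₁ : Type u) (_ : Field k₁), 3 < ENat.card k₁ ∧ Cfsg.IsPSL2PairOver k₁ A₀ B₀) := by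
  classical
  have S := Agent.QuadraticPair.setting_of hk2 hk3 hG
  haveI := (Agent.QuadraticPair.finite_parts S.toBase).to_subtype
  obtain ⟨r, ⟨e⟩⟩ := Finite.exists_equiv_fin
    ↥{P | ∃ A ∈ Cfsg.quadraticRootSubgroups G, P = Agent.QuadraticPair.part G A}
  refine ⟨r, fun i => (e.symm i).1, ?_, ?_, ?_, ?_, ?_⟩
  · refine Set.Subset.antisymm (Set.iUnion_subset fun i => ?_) fun A hA => ?_
    · obtain ⟨A, -, hP⟩ := (e.symm i).2
      intro B hB
      rw [hP] at hB
      exact hB.1
    · refine Set.mem_iUnion.2 ⟨e ⟨_, A, hA, rfl⟩, ?_⟩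
      rw [e.symm_apply_apply]
      exact ⟨hA, .refl⟩
  · intro i j hij
    obtain ⟨A, -, hP⟩ := (e.symm i).2
    obtain ⟨B, -, hQ⟩ := (e.symm j).2
    refine Set.disjoint_left.2 fun C hC hC' => hij (e.symm.injective (Subtype.ext ?_))
    dsimp only at hC hC'
    rw [hP] at hC
    rw [hQ] at hC'
    rw [hP, hQ, ← Agent.QuadraticPair.part_eq hC, ← Agent.QuadraticPair.part_eq hC']
  · intro i
    obtain ⟨A, hA, hP⟩ := (e.symm i).2
    dsimp only
    rw [hP]
    exact ⟨A, hA, .refl⟩
  · intro i j hij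
    obtain ⟨A, -, hP⟩ := (e.symm i).2
    obtain ⟨B, hB, hQ⟩ := (e.symm j).2
    show ⁅(⨆ C ∈ (e.symm i).1, C), (⨆ C ∈ (e.symm j).1, C)⁆ = ⊥
    rw [hP, hQ]
    refine Agent.QuadraticPair.part_group_commute S fun h => hij (e.symm.injective (Subtype.ext ?_))
    rw [hP, hQ, Agent.QuadraticPair.part_eq ⟨hB, h⟩]
  · intro i
    obtain ⟨A, hA, hP⟩ := (e.symm i).2
    suffices ∀ P, P = Agent.QuadraticPair.part G A → Cfsg.IsQuasisimple ↥(⨆ A ∈ P, A) ∧
        Cfsg.IsRootSubgroupClass ((fun A : Subgroup (LinearMap.GeneralLinearGroup k M) => A.subgroupOf (⨆ B ∈ P, B)) '' P) ∧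
        ∀ A ∈ P, ∀ B ∈ Cfsg.rankOnePartners P A, ∃ A₀ B₀ : Subgroup (LinearMap.GeneralLinearGroup k M), A₀ ≤ A ∧ B₀ ≤ B ∧
          ∃ (k₁ : Type u) (_ : Field k₁), 3 < ENat.card k₁ ∧ Cfsg.IsPSL2PairOver k₁ A₀ B₀ from this _ hP
    rintro P rfl
    refine ⟨Agent.QuadraticPair.partGroup_quasisimple S hA, ⟨?_, ?_⟩, ?_⟩
    · refine Agent.QuadraticPair.isRootSubgroupSet_image ?_ ?_ ?_ ?_
      · intro C hC
        obtain ⟨a, ha, rfl⟩ := Agent.QuadraticPair.exists_root hC.1
        exact ⟨⟨fun x y => Subtype.ext (Agent.QuadraticPair.root_commutative ha.toAdm x x.2 y y.2)⟩⟩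
      · intro C hC
        obtain ⟨a, ha, rfl⟩ := Agent.QuadraticPair.exists_root hC.1
        exact Agent.QuadraticPair.root_ne_bot ha
      · exact fun C hC g hg => Agent.QuadraticPair.part_conj S hC (Agent.QuadraticPair.partGroup_le_root hg)
      · exact fun C hC D hD => Agent.QuadraticPair.part_pair S hC hD
    · refine ⟨⟨_, A, ⟨hA, .refl⟩, rfl⟩, ?_⟩
      rintro _ ⟨C, hC, rfl⟩ _ ⟨D, hD, rfl⟩
      obtain ⟨g, hg, rfl⟩ := Agent.QuadraticPair.conj_pair_class S hC hD
      refine ⟨⟨g, hg⟩, ?_⟩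
      exact (Agent.QuadraticPair.conjBy_subgroupOf (R := ⨆ B ∈ Agent.QuadraticPair.part G A, B) (A := C)
        (le_iSup₂_of_le C hC le_rfl) ⟨g, hg⟩).symm
    · exact fun C hC D hD => Agent.QuadraticPair.exists_sl2 S hC.1 hD.1.1 hD.2

end Cfsg.Agent.S5069
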