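import Cfsg.Statements.S5070
import Cfsg.Agent.Lib.RootExamples.Basic
import Cfsg.Agent.Lib.Classical.Symplectic

set_option autoImplicit false
open Matrix
open Cfsg

namespace Cfsg.Agent.S5070

open Matrix Cfsg.Agent.RootExamples Cfsg.Agent.Forms.SympStd

variable {F : Type*} [Field F] {m : ℕ}

set_option quotPrecheck false in
local notation "Sp" => ↥(Matrix.symplecticGroup (Fin (m + 1)) F)
local notation "V" => Fin (m + 1) ⊕ Fin (m + 1) → F
local notation "MM" => Matrix (Fin (m + 1) ⊕ Fin (m + 1)) (Fin (m + 1) ⊕ Fin (m + 1)) F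

/-- The inclusion in the matrix ring. -/
def coeHom : Sp →* MM where
  toFun g := (g : MM)
  map_one' := rfl
  map_mul' _ _ := rfl

theorem coeHom_injective : Function.Injective (coeHom : Sp →* MM) := fun _ _ h => Subtype.ext h

/-- The root group of `p`. -/
def T (p : V) : Subgroup Sp :=
  Subgroup.closure {g : Sp | ∃ c : F, ∀ v : V,
    (g : MM) *ᵥ v = v + (c * (v ⬝ᵥ (Matrix.J (Fin (m + 1)) F *ᵥ p))) • p}

theorem inc (p : V) : (Matrix.J (Fin (m + 1)) F *ᵥ p) ⬝ᵥ p = 0 := by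
  rw [dotProduct_comm]; exact sympForm_self p

theorem tv_coe (p : V) (c : F) :
    coeHom (tv p c : Sp) = TV p (Matrix.J (Fin (m + 1)) F *ᵥ p) c := rfl

theorem isX_T {p : V} (hp : p ≠ 0) :
    IsX (coeHom : Sp →* MM) (T p) p (Matrix.J (Fin (m + 1)) F *ᵥ p) := by
  refine ⟨hp, fun h => ?_, inc p, fun g => ⟨fun hg => ?_, ?_⟩, fun c => ⟨tv p c, tv_coe p c⟩⟩
  · obtain ⟨w, hw⟩ := Classical.Symplectic.exists_partner hp
    rw [sympForm_swap, Cfsg.sympForm, h, dotProduct_zero, neg_zero] at hw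
    exact zero_ne_one hw
  · rw [T] at hg
    induction hg using Subgroup.closure_induction with
    | mem x hx =>
      obtain ⟨c, hc⟩ := hx
      refine ⟨c, Matrix.ext_iff_mulVec.2 fun v => ?_⟩
      rw [TV_mulVec, dotProduct_comm]
      exact hc v
    | one => exact ⟨0, by rw [map_one, TV_zero]⟩
    | mul x y _ _ hx hy =>
      obtain ⟨c, hc⟩ := hx; obtain ⟨d, hd⟩ := hy
      exact ⟨c + d, by rw [map_mul, hc, hd, TV_mul (inc p)]⟩
    | inv x _ hx => obtain ⟨c, hc⟩ := hx; exact ⟨-c, f_inv (inc p) hc⟩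
  · rintro ⟨c, hc⟩
    refine Subgroup.subset_closure ⟨c, fun v => ?_⟩
    show coeHom g *ᵥ v = _
    rw [hc, TV_mulVec, dotProduct_comm]

/-- The class of symplectic root groups. -/
def S : Set (Subgroup Sp) := {A | ∃ p : V, p ≠ 0 ∧ A = T p}

theorem conjBy_T {p : V} (hp : p ≠ 0) (g : Sp) :
    (g : MM) *ᵥ p ≠ 0 ∧ conjBy (T p) g = T ((g : MM) *ᵥ p) := by
  have hX := RootExamples.conj coeHom_injective (isX_T hp) g
  refine ⟨hX.vne, ?_⟩
  ext x
  rw [ThreeTransp.RankOne.mem_conjBy, (isX_T hp).mem, (isX_T (p := (g : MM) *ᵥ p) hX.vne).mem]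
  refine exists_congr fun c => ⟨fun h => ?_, fun h => ?_⟩
  · have e : g⁻¹ * x * g = tv p c := coeHom_injective h
    have e' : x = tv ((g : MM) *ᵥ p) c := by
      rw [← Classical.Symplectic.tv_conj, ← e]; group
    rw [e']; rfl
  · have e : x = tv ((g : MM) *ᵥ p) c := coeHom_injective h
    rw [e, ← Classical.Symplectic.tv_conj, show g⁻¹ * (g * tv p c * g⁻¹) * g = tv p c by group]
    rfl

theorem cases {A B : Subgroup Sp} (hA : A ∈ S) (hB : B ∈ S) :
    ⁅A, B⁆ = ⊥ ∨ (IsRankOnePair A B ∧ IsPSL2PairOver F A B) := by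
  obtain ⟨p, hp, rfl⟩ := hA
  obtain ⟨q, hq, rfl⟩ := hB
  by_cases h : Cfsg.sympForm (m + 1) F q p = 0
  · refine Or.inl (comm_case coeHom_injective (isX_T hp) (isX_T hq) ?_ ?_)
    · rw [dotProduct_comm]; exact h
    · rw [dotProduct_comm]; show Cfsg.sympForm (m + 1) F p q = 0
      rw [sympForm_swap, h, neg_zero]
  · refine Or.inr (rankOne_case coeHom_injective (isX_T hp) (isX_T hq) ?_ ?_)
    · rw [dotProduct_comm]; exact h
    · rw [dotProduct_comm]; show Cfsg.sympForm (m + 1) F p q ≠ 0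
      rw [sympForm_swap]; exact neg_ne_zero.2 h

theorem rootSet : IsRootSubgroupSet (S (F := F) (m := m)) where
  commutative := by rintro _ ⟨p, hp, rfl⟩; exact (isX_T hp).comm coeHom_injective
  ne_bot := by rintro _ ⟨p, hp, rfl⟩; exact (isX_T hp).ne_bot coeHom_injective
  generates := by
    rw [eq_top_iff, ← closure_tvSet_eq_top, Subgroup.closure_le]
    rintro x ⟨w, c, -, hx⟩
    by_cases hw : w = 0
    · have : x = 1 := coeHom_injective (by
        show (x : MM) = _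
        rw [hx, map_one, hw]; simp [Cfsg.sympTransvection])
      rw [this]; exact one_mem _
    · exact Subgroup.mem_iSup_of_mem (T w) (Subgroup.mem_iSup_of_mem ⟨w, hw, rfl⟩
        (((isX_T hw).mem x).2 ⟨c, hx⟩))
  conj_mem := by
    rintro _ ⟨p, hp, rfl⟩ g
    exact ⟨_, (conjBy_T hp g).1, (conjBy_T hp g).2⟩
  pair A hA B hB := (cases hA hB).imp_right fun h => Or.inl h.1

theorem all_props : IsRootSubgroupClass (S (F := F) (m := m)) ∧
    IsDegenerateRootSet (S (F := F) (m := m)) ∧ IsKRootSubgroupSet F (S (F := F) (m := m)) ∧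
    IsConnectedFamily (FAdj (S (F := F) (m := m))) (S (F := F) (m := m)) := by
  refine ⟨⟨rootSet, ?_, ?_⟩, fun A hA B hB hc => ?_, ⟨rootSet, fun A hA B hB h => ?_⟩, ?_⟩
  · exact ⟨_, Pi.single (Sum.inl 0) 1, by simp, rfl⟩
  · rintro _ ⟨p, hp, rfl⟩ _ ⟨q, hq, rfl⟩
    obtain ⟨g, hg⟩ := Classical.Symplectic.exists_move hp hq
    exact ⟨g, by rw [(conjBy_T hp g).2, hg]⟩
  · rcases cases hA hB with h | ⟨h, Ψ, -, hker, hU, hL⟩
    · exact rootSet.ne_bot _ hc.1 h
    · obtain ⟨p, hp, rfl⟩ := hA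
      obtain ⟨q, hq, rfl⟩ := hB
      have hne : ¬ (Cfsg.sympForm (m + 1) F q p = 0) := fun e =>
        ThreeTransp.RankOne.not_commute h (comm_case coeHom_injective (isX_T hp) (isX_T hq)
          (by rw [dotProduct_comm]; exact e)
          (by rw [dotProduct_comm]; show Cfsg.sympForm (m + 1) F p q = 0; rw [sympForm_swap, e, neg_zero]))
      obtain ⟨Φ, hΦ, hu, hl⟩ := pair_hom coeHom_injective (isX_T hp) (isX_T hq)
        (by rw [dotProduct_comm]; exact hne)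
        (by rw [dotProduct_comm]; show Cfsg.sympForm (m + 1) F p q ≠ 0
            rw [sympForm_swap]; exact neg_ne_zero.2 hne)
      set a := el (zero_ne_one (α := Fin 2)) (1 : F) with ha
      set b := el (one_ne_zero (α := Fin 2)) (1 : F) with hb
      have hpa : Φ a ∈ T p := ((isX_T hp).mem _).2 ⟨_, hu 1⟩
      have hqb : Φ b ∈ T q := ((isX_T hq).mem _).2 ⟨_, hl 1⟩
      have hcom := hc.2.1 (Φ (a * b * a⁻¹ * b⁻¹)) (by
        rw [map_mul, map_mul, map_mul, map_inv, map_inv]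
        exact Subgroup.commutator_mem_commutator hpa hqb) (Φ a) (Subgroup.mem_sup_left hpa)
      rw [← map_mul, ← map_mul] at hcom
      have h11 := congrFun (congrFun (congrArg (fun x : Matrix.SpecialLinearGroup (Fin 2) F =>
        (x : Matrix (Fin 2) (Fin 2) F)) (hΦ hcom)) 1) 1
      rw [ha, hb, el_inv, el_inv] at h11
      simp [el_coe, Matrix.mul_apply, Fin.sum_univ_two] at h11
  · rcases cases hA hB with h' | ⟨-, h'⟩
    · exact absurd h' (ThreeTransp.RankOne.not_commute h)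
    · exact h'
  · rintro _ ⟨p, hp, rfl⟩ _ ⟨q, hq, rfl⟩
    obtain ⟨r, hr1, hr2⟩ := exists_both _ _ (isX_T hp).φne (isX_T hq).φne
    have hr : r ≠ 0 := fun e => hr1 (by rw [e, dotProduct_zero])
    have key : ∀ s : V, (Matrix.J (Fin (m + 1)) F *ᵥ s) ⬝ᵥ r ≠ 0 →
        (Matrix.J (Fin (m + 1)) F *ᵥ r) ⬝ᵥ s ≠ 0 := fun s h => by
      rw [dotProduct_comm] at h ⊢
      change Cfsg.sympForm (m + 1) F r s ≠ 0 at h
      show Cfsg.sympForm (m + 1) F s r ≠ 0
      rw [sympForm_swap]; exact neg_ne_zero.2 h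
    exact (Relation.ReflTransGen.single ⟨⟨p, hp, rfl⟩, ⟨r, hr, rfl⟩,
        (rankOne_case coeHom_injective (isX_T hp) (isX_T hr) hr1 (key p hr1)).1⟩).tail
      ⟨⟨r, hr, rfl⟩, ⟨q, hq, rfl⟩,
        (rankOne_case coeHom_injective (isX_T hr) (isX_T hq) (key q hr2) hr2).1⟩

/-- Let F be a field, m a natural number and V = F^{2(m+1)} with the standard non-degenerate alternating form f(u, v) = uᵀ J v. For a non-zero vector p let T(p) be the group of symplectic transvections v ↦ v + c f(v, p) p, c ∈ F. Then the subgroups T(p), p ≠ 0, generate the symplectic group Sp_{2(m+1)}(F) and form a degenerate class of abstract F-root subgroups of it (any two of them either commute elementwise or are the unipotent subgroups of a rank one group that is an image of SL₂(F) with central kernel, never the commutator case), and their graph of rank one pairs is connected. -/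
theorem result (F : Type*) [Field F] (m : ℕ) :
    Cfsg.IsRootSubgroupClass {A : Subgroup ↥(Matrix.symplecticGroup (Fin (m + 1)) F) | ∃ p : Fin (m + 1) ⊕ Fin (m + 1) → F, p ≠ 0 ∧
        A = Subgroup.closure {g : ↥(Matrix.symplecticGroup (Fin (m + 1)) F) | ∃ c : F, ∀ v : Fin (m + 1) ⊕ Fin (m + 1) → F,
          (g : Matrix (Fin (m + 1) ⊕ Fin (m + 1)) (Fin (m + 1) ⊕ Fin (m + 1)) F) *ᵥ v =
            v + (c * (v ⬝ᵥ (Matrix.J (Fin (m + 1)) F *ᵥ p))) • p}} ∧
    Cfsg.IsDegenerateRootSet {A : Subgroup ↥(Matrix.symplecticGroup (Fin (m + 1)) F) | ∃ p : Fin (m + 1) ⊕ Fin (m + 1) → F, p ≠ 0 ∧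
        A = Subgroup.closure {g : ↥(Matrix.symplecticGroup (Fin (m + 1)) F) | ∃ c : F, ∀ v : Fin (m + 1) ⊕ Fin (m + 1) → F,
          (g : Matrix (Fin (m + 1) ⊕ Fin (m + 1)) (Fin (m + 1) ⊕ Fin (m + 1)) F) *ᵥ v =
            v + (c * (v ⬝ᵥ (Matrix.J (Fin (m + 1)) F *ᵥ p))) • p}} ∧
    Cfsg.IsKRootSubgroupSet F {A : Subgroup ↥(Matrix.symplecticGroup (Fin (m + 1)) F) | ∃ p : Fin (m + 1) ⊕ Fin (m + 1) → F, p ≠ 0 ∧
        A = Subgroup.closure {g : ↥(Matrix.symplecticGroup (Fin (m + 1)) F) | ∃ c : F, ∀ v : Fin (m + 1) ⊕ Fin (m + 1) → F,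
          (g : Matrix (Fin (m + 1) ⊕ Fin (m + 1)) (Fin (m + 1) ⊕ Fin (m + 1)) F) *ᵥ v =
            v + (c * (v ⬝ᵥ (Matrix.J (Fin (m + 1)) F *ᵥ p))) • p}} ∧
    Cfsg.IsConnectedFamily (Cfsg.FAdj {A : Subgroup ↥(Matrix.symplecticGroup (Fin (m + 1)) F) | ∃ p : Fin (m + 1) ⊕ Fin (m + 1) → F, p ≠ 0 ∧
        A = Subgroup.closure {g : ↥(Matrix.symplecticGroup (Fin (m + 1)) F) | ∃ c : F, ∀ v : Fin (m + 1) ⊕ Fin (m + 1) → F,
          (g : Matrix (Fin (m + 1) ⊕ Fin (m + 1)) (Fin (m + 1) ⊕ Fin (m + 1)) F) *ᵥ v =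
            v + (c * (v ⬝ᵥ (Matrix.J (Fin (m + 1)) F *ᵥ p))) • p}})
      {A : Subgroup ↥(Matrix.symplecticGroup (Fin (m + 1)) F) | ∃ p : Fin (m + 1) ⊕ Fin (m + 1) → F, p ≠ 0 ∧
        A = Subgroup.closure {g : ↥(Matrix.symplecticGroup (Fin (m + 1)) F) | ∃ c : F, ∀ v : Fin (m + 1) ⊕ Fin (m + 1) → F,
          (g : Matrix (Fin (m + 1) ⊕ Fin (m + 1)) (Fin (m + 1) ⊕ Fin (m + 1)) F) *ᵥ v =
            v + (c * (v ⬝ᵥ (Matrix.J (Fin (m + 1)) F *ᵥ p))) • p}} := by
  exact all_props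

end Cfsg.Agent.S5070
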