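import Cfsg.Statements.S5071
import Cfsg.Agent.Lib.RootExamples.Basic
import Cfsg.Agent.Lib.Classical.UnitaryGen

set_option autoImplicit false
open Matrix
open Cfsg

namespace Cfsg.Agent.S5071

section

open Matrix Cfsg.Agent.RootExamples Cfsg.Agent.Classical.Unitary Cfsg.Agent.Forms

/-- A copy of `Fin q` to carry the field structure. -/
def LL (q : ℕ) : Type := Fin q

variable {F : Type*} [Field F] [Fintype F] {q n : ℕ}

set_option quotPrecheck false in
local notation "SUn" => ↥(Cfsg.SU (n + 2) F q)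
local notation "V" => Fin (n + 2) → F
local notation "MM" => Matrix (Fin (n + 2)) (Fin (n + 2)) F
local notation "H" => Cfsg.hermForm (n + 2) F q

/-- The transvection group of an isotropic vector. -/
def T (p : V) : Subgroup SUn :=
  Subgroup.closure {g : SUn |
    (∀ v : V, ∃ c : F, ((g : Matrix.SpecialLinearGroup (Fin (n + 2)) F) : MM) *ᵥ v = v + c • p) ∧
    ∀ v : V, H v p = 0 → ((g : Matrix.SpecialLinearGroup (Fin (n + 2)) F) : MM) *ᵥ v = v}

/-- The set of transvection groups. -/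
def Sset (F : Type*) [Field F] [Fintype F] (q n : ℕ) : Set (Subgroup ↥(Cfsg.SU (n + 2) F q)) :=
  {A | ∃ p : Fin (n + 2) → F, p ≠ 0 ∧ Cfsg.hermForm (n + 2) F q p p = 0 ∧ A = T p}

/-- The group generated by them. -/
def G0 (F : Type*) [Field F] [Fintype F] (q n : ℕ) : Subgroup ↥(Cfsg.SU (n + 2) F q) :=
  ⨆ B ∈ Sset F q n, B

/-- The matrix of an element of `G0`. -/
def coeHom : ↥(G0 F q n) →* MM where
  toFun g := mat (g : SUn)
  map_one' := rfl
  map_mul' _ _ := rfl

theorem coeHom_injective : Function.Injective (coeHom : ↥(G0 F q n) →* MM) :=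
  fun _ _ h => Subtype.ext (Subtype.ext (Subtype.ext h))

/-- The dual vector of `p`. -/
def phi (q : ℕ) (p : V) : V := fun i => p i ^ q

theorem phi_dot (p x : V) : phi q p ⬝ᵥ x = H x p := by rw [dotProduct_comm]; rfl

variable (hF : Fintype.card F = q ^ 2)
include hF

theorem mem_T {p : V} (hp : p ≠ 0) (hpp : H p p = 0) (g : SUn) :
    g ∈ T p ↔ ∃ c : F, c + c ^ q = 0 ∧ mat g = TV p (phi q p) c := by
  have hinc : phi q p ⬝ᵥ p = 0 := by rw [phi_dot, hpp]
  constructor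
  · intro hg
    rw [T] at hg
    induction hg using Subgroup.closure_induction with
    | mem g hg =>
      obtain ⟨h1, h2⟩ := hg
      obtain ⟨z, hz⟩ := exists_H_eq_one hF hp
      have hzp : H z p = 1 := by rw [← H_conj hF, hz, one_pow]
      obtain ⟨c, hc⟩ := h1 z
      have hall : ∀ v, mat g *ᵥ v = v + (c * H v p) • p := fun v => by
        have h0 : H (v - H v p • z) p = 0 := by
          rw [H_sub_left, H_smul_left, hzp, mul_one, sub_self]
        have e := h2 _ h0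
        rw [show ((g : Matrix.SpecialLinearGroup (Fin (n + 2)) F) : MM) = mat g from rfl,
          mulVec_sub, mulVec_smul] at e
        rw [show ((g : Matrix.SpecialLinearGroup (Fin (n + 2)) F) : MM) = mat g from rfl] at hc
        rw [hc, smul_add, smul_smul, sub_eq_iff_eq_add] at e
        rw [e, mul_comm c]
        abel
      refine ⟨c, ?_, Matrix.ext_iff_mulVec.2 fun v => by rw [TV_mulVec, phi_dot]; exact hall v⟩
      have e := SU_H g z z
      rw [hall z, hzp, mul_one] at e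
      simp only [H_add_left, H_add_right hF, H_smul_left, H_smul_right, hpp, hz, hzp] at e
      linear_combination e
    | one => exact ⟨0, by simp [q_ne_zero hF], by rw [TV_zero]; rfl⟩
    | mul x y _ _ hx hy =>
      obtain ⟨c, hc, ec⟩ := hx; obtain ⟨d, hd, ed⟩ := hy
      exact ⟨c + d, by rw [HermStd.add_pow_q hF]; linear_combination hc + hd,
        by rw [mat_mul, ec, ed, TV_mul hinc]⟩
    | inv x _ hx =>
      obtain ⟨c, hc, ec⟩ := hx
      refine ⟨-c, by rw [← HermStd.qHom_apply hF, map_neg, HermStd.qHom_apply]; linear_combination -hc, ?_⟩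
      calc mat x⁻¹ = mat x⁻¹ * (mat x * TV p (phi q p) (-c)) := by
            rw [ec, TV_mul hinc, add_neg_cancel, TV_zero, mul_one]
        _ = TV p (phi q p) (-c) := by
            rw [← mul_assoc, ← mat_mul, inv_mul_cancel, show mat (1 : SUn) = 1 from rfl, one_mul]
  · rintro ⟨c, -, hg⟩
    refine Subgroup.subset_closure ⟨fun v => ⟨c * H v p, ?_⟩, fun v hv => ?_⟩
    · show mat g *ᵥ v = _
      rw [hg, TV_mulVec, phi_dot]
    · show mat g *ᵥ v = _
      rw [hg, TV_mulVec, phi_dot, hv, mul_zero, zero_smul, add_zero]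

/-- The root group inside `G0`. -/
def X (p : V) : Subgroup ↥(G0 F q n) := (T p).subgroupOf (G0 F q n)

omit hF in
theorem T_le {p : V} (hp : p ≠ 0) (hpp : H p p = 0) : T p ≤ G0 F q n :=
  le_iSup₂_of_le (T p) ⟨p, hp, hpp, rfl⟩ le_rfl

theorem mem_X {p : V} (hp : p ≠ 0) (hpp : H p p = 0) (g : ↥(G0 F q n)) :
    g ∈ X p ↔ ∃ c : F, c + c ^ q = 0 ∧ coeHom g = TV p (phi q p) c :=
  mem_T hF hp hpp g

theorem ex_X {p : V} (hp : p ≠ 0) (hpp : H p p = 0) {c : F} (hc : c + c ^ q = 0) :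
    ∃ g : ↥(G0 F q n), coeHom g = TV p (phi q p) c := by
  have hm : tvu hF hpp hc ∈ T p := (mem_T hF hp hpp _).2 ⟨c, hc, Matrix.ext_iff_mulVec.2 fun v => by
    rw [TV_mulVec, phi_dot, tvu_mulVec]⟩
  refine ⟨⟨_, T_le hp hpp hm⟩, Matrix.ext_iff_mulVec.2 fun v => ?_⟩
  rw [TV_mulVec, phi_dot]
  exact tvu_mulVec hF hpp hc v

theorem phi_ne {p : V} (hp : p ≠ 0) : phi q p ≠ 0 := fun h => hp (funext fun i => by
  have := congrFun h i
  simpa [phi, q_ne_zero hF] using this)

theorem X_comm {p : V} (hp : p ≠ 0) (hpp : H p p = 0) : IsMulCommutative ↥(X (q := q) p) := by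
  refine ⟨⟨fun a b => Subtype.ext (coeHom_injective ?_)⟩⟩
  obtain ⟨c, -, hc⟩ := (mem_X hF hp hpp a).1 a.2
  obtain ⟨d, -, hd⟩ := (mem_X hF hp hpp b).1 b.2
  show coeHom (a.1 * b.1) = coeHom (b.1 * a.1)
  rw [map_mul, map_mul, hc, hd, TV_mul (by rw [phi_dot, hpp]), TV_mul (by rw [phi_dot, hpp]), add_comm c d]

theorem X_ne_bot {p : V} (hp : p ≠ 0) (hpp : H p p = 0) : X (q := q) p ≠ ⊥ := by
  intro e
  obtain ⟨c, hc0, hc⟩ := exists_traceZero hF
  obtain ⟨g, hg⟩ := ex_X hF hp hpp hc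
  have h1 : g ∈ X p := (mem_X hF hp hpp g).2 ⟨c, hc, hg⟩
  rw [e, Subgroup.mem_bot] at h1
  subst h1
  rw [map_one, ← TV_zero p (phi q p)] at hg
  exact hc0 (TV_inj hp (phi_ne hF hp) hg).symm

theorem X_comm_case {p r : V} (hp : p ≠ 0) (hpp : H p p = 0) (hr : r ≠ 0) (hrr : H r r = 0)
    (h : H p r = 0) : ⁅(X p : Subgroup ↥(G0 F q n)), (X r : Subgroup ↥(G0 F q n))⁆ = ⊥ := by
  rw [Subgroup.commutator_eq_bot_iff_le_centralizer]
  intro a ha b hb
  obtain ⟨s, -, hs⟩ := (mem_X hF hp hpp a).1 ha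
  obtain ⟨t, -, ht⟩ := (mem_X hF hr hrr b).1 hb
  refine coeHom_injective ?_
  rw [map_mul, map_mul, hs, ht]
  simp only [TV, add_mul, mul_add, one_mul, mul_one, smul_mul_assoc, mul_smul_comm, PQ, phi_dot, h,
    (H_eq_zero_comm hF).1 h, zero_smul, smul_zero, add_zero]
  abel

/-- The embedded `SL₂` over the fixed field. -/
theorem pair {L : Type} [Field L] (j : L →+* F) (hj : ∀ x : F, x ^ q = x ↔ ∃ l, j l = x)
    {p r : V} (hp : p ≠ 0) (hpp : H p p = 0) (hr : r ≠ 0) (hrr : H r r = 0) (h : H p r ≠ 0) :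
    ∃ Ψ : Matrix.SpecialLinearGroup (Fin 2) L →* ↥(G0 F q n), Function.Injective Ψ ∧
      (∀ g, g ∈ X p ↔ ∃ c, g = Ψ (el (zero_ne_one (α := Fin 2)) c)) ∧
      (∀ g, g ∈ X r ↔ ∃ c, g = Ψ (el (one_ne_zero (α := Fin 2)) c)) := by
  obtain ⟨δ, hδ0, hδ⟩ := exists_traceZero hF
  set a := H r p with ha
  have hb : H p r = a ^ q := by rw [ha, H_conj hF]
  have ha0 : a ≠ 0 := fun e => h (by rw [hb, e, zero_pow (q_ne_zero hF)])
  set α := δ * a with hα
  have hα0 : α ≠ 0 := mul_ne_zero hδ0 ha0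
  let M : Matrix (Fin (n + 2)) (Fin 2) F := Matrix.of fun x y => ![α * p x, r x] y
  let N : Matrix (Fin 2) (Fin (n + 2)) F :=
    Matrix.of ![(α * a ^ q)⁻¹ • phi q r, a⁻¹ • phi q p]
  have hq0 : a ^ q ≠ 0 := pow_ne_zero _ ha0
  have hNM : N * M = 1 := by
    have e : ∀ (x y : Fin 2), (N * M) x y = N x ⬝ᵥ fun z => M z y := fun _ _ => rfl
    ext x y
    rw [e]
    fin_cases x <;> fin_cases y
    · show ((α * a ^ q)⁻¹ • phi q r) ⬝ᵥ (α • p) = _
      rw [smul_dotProduct, dotProduct_smul, phi_dot, hb]; simp; field_simp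
    · show ((α * a ^ q)⁻¹ • phi q r) ⬝ᵥ r = _
      simp [phi_dot, hrr]
    · show (a⁻¹ • phi q p) ⬝ᵥ (α • p) = _
      simp [phi_dot, hpp]
    · show (a⁻¹ • phi q p) ⬝ᵥ r = _
      simp [phi_dot, ← ha, ha0]
  set E := (emb M N hNM).comp (Matrix.SpecialLinearGroup.map j) with hE
  have hmap : ∀ {x y : Fin 2} (hxy : x ≠ y) (c : L),
      Matrix.SpecialLinearGroup.map j (el hxy c) = el hxy (j c) := fun hxy c => by
    refine Matrix.SpecialLinearGroup.ext _ _ fun u v => ?_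
    change j ((1 + Matrix.single _ _ c : Matrix (Fin 2) (Fin 2) L) u v) = (1 + Matrix.single _ _ (j c) : Matrix (Fin 2) (Fin 2) F) u v
    simp [Matrix.one_apply, Matrix.single_apply, apply_ite j]
  have hu : ∀ c : L, E (el (zero_ne_one (α := Fin 2)) c) = TV p (phi q p) (δ * j c) := fun c => by
    rw [hE, MonoidHom.comp_apply, hmap, emb_el]
    show TV (α • p) (a⁻¹ • phi q p) (j c) = _
    rw [TV, TV, smul_vecMulVec, vecMulVec_smul, smul_smul, smul_smul]
    congr 2
    rw [hα]; field_simp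
  have hl : ∀ c : L, E (el (one_ne_zero (α := Fin 2)) c) = TV r (phi q r) (j c / (α * a ^ q)) :=
    fun c => by
    rw [hE, MonoidHom.comp_apply, hmap, emb_el]
    show TV r ((α * a ^ q)⁻¹ • phi q r) (j c) = _
    rw [TV, TV, vecMulVec_smul, smul_smul, div_eq_mul_inv]
  have hN : (a * a ^ q) ^ q = a * a ^ q := by rw [mul_pow, pow_qq hF, mul_comm]
  have hδq : δ ^ q = -δ := by linear_combination hδ
  have tu : ∀ c : F, c + c ^ q = 0 ↔ ∃ l, δ * j l = c := fun c => by
    constructor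
    · intro hc
      obtain ⟨l, hl⟩ := (hj (c / δ)).1 (by
        rw [div_pow, hδq, show c ^ q = -c by linear_combination hc, neg_div_neg_eq])
      exact ⟨l, by rw [hl, mul_div_cancel₀ _ hδ0]⟩
    · rintro ⟨l, rfl⟩
      rw [mul_pow, (hj _).2 ⟨l, rfl⟩, hδq]; ring
  have tl : ∀ c : F, c + c ^ q = 0 ↔ ∃ l, j l / (α * a ^ q) = c := fun c => by
    have e : α * a ^ q = δ * (a * a ^ q) := by rw [hα]; ring
    constructor
    · intro hc
      obtain ⟨l, hl⟩ := (hj (c * (α * a ^ q))).1 (by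
        rw [e, mul_pow, mul_pow, hN, hδq, show c ^ q = -c by linear_combination hc]; ring)
      exact ⟨l, by rw [hl, mul_div_assoc, div_self (mul_ne_zero hα0 hq0), mul_one]⟩
    · rintro ⟨l, rfl⟩
      rw [e, div_pow, mul_pow, hN, (hj _).2 ⟨l, rfl⟩, hδq, neg_mul, div_neg, add_neg_cancel]
  have hex : ∀ g, ∃ x : ↥(G0 F q n), coeHom x = E g := by
    intro g
    refine Matrix.SL2.transvection_induction
      (fun g => ∃ x : ↥(G0 F q n), coeHom x = E g) (fun x y hxy c => ?_) (fun u v hu hv => ?_) g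
    · fin_cases x <;> fin_cases y
      · exact absurd rfl hxy
      · obtain ⟨g, hg⟩ := ex_X hF hp hpp ((tu _).2 ⟨c, rfl⟩); exact ⟨g, hg.trans (hu c).symm⟩
      · obtain ⟨g, hg⟩ := ex_X hF hr hrr ((tl _).2 ⟨c, rfl⟩); exact ⟨g, hg.trans (hl c).symm⟩
      · exact absurd rfl hxy
    · obtain ⟨x, hx⟩ := hu
      obtain ⟨y, hy⟩ := hv
      exact ⟨x * y, by rw [map_mul, map_mul, hx, hy]⟩
  choose x hx using hex
  refine ⟨MonoidHom.mk' x fun a b => coeHom_injective (by rw [map_mul, hx, hx, hx, map_mul]),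
    fun u v e => ?_, fun g => ?_, fun g => ?_⟩
  · have h' : E u = E v := by rw [← hx, ← hx]; exact congrArg coeHom e
    have h'' := emb_injective M N hNM h'
    refine Matrix.SpecialLinearGroup.ext _ _ fun s t => j.injective ?_
    exact congrFun (congrFun (congrArg (fun z : Matrix.SpecialLinearGroup (Fin 2) F =>
      (z : Matrix (Fin 2) (Fin 2) F)) h'') s) t
  · rw [mem_X hF hp hpp]
    constructor
    · rintro ⟨c, hc, hg⟩
      obtain ⟨l, rfl⟩ := (tu c).1 hc
      exact ⟨l, coeHom_injective (by rw [hg]; exact ((hx _).trans (hu l)).symm)⟩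
    · rintro ⟨l, rfl⟩
      exact ⟨_, (tu _).2 ⟨l, rfl⟩, (hx _).trans (hu l)⟩
  · rw [mem_X hF hr hrr]
    constructor
    · rintro ⟨c, hc, hg⟩
      obtain ⟨l, rfl⟩ := (tl c).1 hc
      exact ⟨l, coeHom_injective (by rw [hg]; exact ((hx _).trans (hl l)).symm)⟩
    · rintro ⟨l, rfl⟩
      exact ⟨_, (tl _).2 ⟨l, rfl⟩, (hx _).trans (hl l)⟩

theorem conjBy_X {p : V} (hp : p ≠ 0) (hpp : H p p = 0) (g : ↥(G0 F q n)) :
    ∃ r : V, r ≠ 0 ∧ H r r = 0 ∧ conjBy (X p) g = X r := by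
  set r := mat (g : SUn) *ᵥ p with hr
  have hrr : H r r = 0 := by rw [hr, SU_H, hpp]
  have hr0 : r ≠ 0 := by
    intro e
    have h1 : mat ((g : SUn)⁻¹) *ᵥ r = p := by
      rw [hr, ← mul_mulVec, inv_mul_cancel]; exact one_mulVec p
    rw [e, mulVec_zero] at h1
    exact hp h1.symm
  refine ⟨r, hr0, hrr, ?_⟩
  ext x
  rw [ThreeTransp.RankOne.mem_conjBy, mem_X hF hp hpp, mem_X hF hr0 hrr]
  refine exists_congr fun c => and_congr_right fun hc => ?_
  have ep : ∀ (w : V) (hw : H w w = 0) (y : ↥(G0 F q n)),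
      coeHom y = TV w (phi q w) c ↔ (y : SUn) = tvu hF hw hc := fun w hw y => by
    have e : mat (tvu hF hw hc) = TV w (phi q w) c := Matrix.ext_iff_mulVec.2 fun v => by
      rw [TV_mulVec, phi_dot, tvu_mulVec]
    rw [← e]
    exact ⟨fun h => Subtype.ext (Subtype.ext h), fun h => by show mat (y : SUn) = _; rw [h]⟩
  rw [ep p hpp, ep r hrr, ← tvu_conj hF (g : SUn) hr.symm hpp hrr hc]
  push_cast
  constructor
  · intro h; rw [← h]; group
  · intro h; rw [h]; group

theorem all_props : ∃ (S : Set (Subgroup ↥(G0 F q n))),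
    S = (fun A : Subgroup SUn => A.subgroupOf (G0 F q n)) '' Sset F q n ∧
    IsRootSubgroupClass S ∧ IsDegenerateRootSet S ∧
    (∃ (L : Type) (_ : Field L) (_ : Fintype L), Fintype.card L = q ∧ IsKRootSubgroupSet L S) ∧
    IsConnectedFamily (FAdj S) S := by
  classical
  set S := (fun A : Subgroup SUn => A.subgroupOf (G0 F q n)) '' Sset F q n with hS
  have hmem : ∀ A, A ∈ S ↔ ∃ p : V, p ≠ 0 ∧ H p p = 0 ∧ A = X p := fun A => by
    constructor
    · rintro ⟨_, ⟨p, hp, hpp, rfl⟩, rfl⟩; exact ⟨p, hp, hpp, rfl⟩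
    · rintro ⟨p, hp, hpp, rfl⟩; exact ⟨_, ⟨p, hp, hpp, rfl⟩, rfl⟩
  let e : ↥(fixField hF) ≃ LL q :=
    (Fintype.equivFin _).trans (finCongr (by rw [← Nat.card_eq_fintype_card, natCard_fixField hF]))
  letI instL : Field (LL q) := e.symm.field
  letI : Fintype (LL q) := inferInstanceAs (Fintype (Fin q))
  let j : LL q →+* F := (fixField hF).subtype.comp (Equiv.ringEquiv e.symm).toRingHom
  have hj : ∀ x : F, x ^ q = x ↔ ∃ l, j l = x := fun x => by
    constructor
    · intro hx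
      exact ⟨(Equiv.ringEquiv e.symm).symm ⟨x, hx⟩, by simp [j]⟩
    · rintro ⟨l, rfl⟩
      exact ((Equiv.ringEquiv e.symm) l).2
  have adj : ∀ p r : V, p ≠ 0 → H p p = 0 → r ≠ 0 → H r r = 0 → H p r ≠ 0 →
      IsRankOnePair (X (q := q) p) (X r) ∧ IsPSL2PairOver (LL q) (X (q := q) p) (X r) ∧
        ¬ RootCommutatorCase S (X p) (X r) := fun p r hp hpp hr hrr h => by
    obtain ⟨Ψ, hΨ, mA, mB⟩ := pair hF j hj hp hpp hr hrr h
    haveI := X_comm hF hp hpp
    haveI := X_comm hF hr hrr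
    exact ⟨(rankOne_of_hom hΨ mA mB).1, (rankOne_of_hom hΨ mA mB).2,
      not_commutatorCase_of_hom hΨ mA mB⟩
  have hconn : IsConnectedFamily (FAdj S) S := by
    intro A hA B hB
    obtain ⟨p, hp, hpp, rfl⟩ := (hmem A).1 hA
    obtain ⟨r, hr, hrr, rfl⟩ := (hmem B).1 hB
    by_cases h : H p r = 0
    · by_cases hd : LinearIndependent F ![p, r]
      · obtain ⟨z, hz1, hz2⟩ : ∃ z : V, H z p ≠ 0 ∧ H z r ≠ 0 := by
          obtain ⟨z, a, b⟩ := exists_both _ _ (phi_ne hF hp) (phi_ne hF hr)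
          exact ⟨z, by rwa [phi_dot] at a, by rwa [phi_dot] at b⟩
        set w := (H z p)⁻¹ • z with hw
        have hwp : H w p = 1 := by rw [hw, H_smul_left, inv_mul_cancel₀ hz1]
        have hwr : H w r ≠ 0 := by rw [hw, H_smul_left]; exact mul_ne_zero (inv_ne_zero hz1) hz2
        have hpw : H p w = 1 := by rw [← H_conj hF, hwp, one_pow]
        obtain ⟨b, hb⟩ := exists_trace_eq hF (c := - H w w) (by
          rw [← HermStd.qHom_apply hF, map_neg, HermStd.qHom_apply, H_conj hF])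
        set s := w + b • p with hs
        have hss : H s s = 0 := by
          simp only [hs, H_add_left, H_add_right hF, H_smul_left, H_smul_right, hpp, hpw, hwp]
          linear_combination hb
        have hps : H p s ≠ 0 := by
          simp only [hs, H_add_right hF, H_smul_right, hpp, hpw]; simp
        have hsr : H s r ≠ 0 := by
          simp only [hs, H_add_left, H_smul_left, h]; simpa using hwr
        have hs0 : s ≠ 0 := fun e => hps (by rw [e, H_zero_right hF])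
        have hSs : X s ∈ S := (hmem _).2 ⟨s, hs0, hss, rfl⟩
        exact (Relation.ReflTransGen.single ⟨hA, hSs, (adj p s hp hpp hs0 hss hps).1⟩).tail
          ⟨hSs, hB, (adj s r hs0 hss hr hrr hsr).1⟩
      · obtain ⟨c, hc⟩ : ∃ c : F, c • p = r := by
          by_contra hno
          push Not at hno
          exact hd (LinearIndependent.pair_iff' hp |>.2 hno)
        have : X (q := q) r = X p := by
          ext g
          rw [mem_X hF hr hrr, mem_X hF hp hpp]
          have hc0 : c ≠ 0 := fun e => hr (by rw [← hc, e, zero_smul])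
          have key : ∀ d, TV r (phi q r) d = TV p (phi q p) (d * (c * c ^ q)) := fun d => by
            have : phi q r = c ^ q • phi q p := funext fun i => by simp [phi, ← hc, mul_pow]
            rw [TV, TV, this, ← hc, smul_vecMulVec, vecMulVec_smul, smul_smul, smul_smul, mul_assoc]
          have hN : (c * c ^ q) ^ q = c * c ^ q := by rw [mul_pow, pow_qq hF, mul_comm]
          constructor
          · rintro ⟨d, hd, e⟩
            exact ⟨_, by rw [mul_pow, hN]; linear_combination (c * c ^ q) * hd, e.trans (key d)⟩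
          · rintro ⟨d, hd, e⟩
            refine ⟨d / (c * c ^ q), by rw [div_pow, hN, ← add_div, hd, zero_div], ?_⟩
            rw [key, div_mul_cancel₀ _ (mul_ne_zero hc0 (pow_ne_zero _ hc0)), e]
        rw [this]
    · exact Relation.ReflTransGen.single ⟨hA, hB, (adj p r hp hpp hr hrr h).1⟩
  have hroot : IsRootSubgroupSet S :=
  { commutative := fun A hA => by
      obtain ⟨p, hp, hpp, rfl⟩ := (hmem A).1 hA; exact X_comm hF hp hpp
    ne_bot := fun A hA => by
      obtain ⟨p, hp, hpp, rfl⟩ := (hmem A).1 hA; exact X_ne_bot hF hp hpp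
    generates := by
      apply Subgroup.map_injective (G0 F q n).subtype_injective
      rw [← MonoidHom.range_eq_map, Subgroup.range_subtype, Subgroup.map_iSup]
      refine le_antisymm (iSup_le fun A => ?_) ?_
      · rw [Subgroup.map_iSup]
        exact iSup_le fun _ => Subgroup.map_subtype_le _
      · refine iSup₂_le fun B hB => ?_
        obtain ⟨p, hp, hpp, rfl⟩ := hB
        refine le_iSup_of_le (X p) ?_
        rw [Subgroup.map_iSup]
        refine le_iSup_of_le ((hmem _).2 ⟨p, hp, hpp, rfl⟩) ?_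
        rw [X, Subgroup.subgroupOf_map_subtype, inf_eq_left.2 (T_le hp hpp)]
    conj_mem := fun A hA g => by
      obtain ⟨p, hp, hpp, rfl⟩ := (hmem A).1 hA
      obtain ⟨r, hr, hrr, e⟩ := conjBy_X hF hp hpp g
      exact (hmem _).2 ⟨r, hr, hrr, e⟩
    pair := fun A hA B hB => by
      obtain ⟨p, hp, hpp, rfl⟩ := (hmem A).1 hA
      obtain ⟨r, hr, hrr, rfl⟩ := (hmem B).1 hB
      by_cases h : H p r = 0
      · exact Or.inl (X_comm_case hF hp hpp hr hrr h)
      · exact Or.inr (Or.inl (adj p r hp hpp hr hrr h).1) }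
  refine ⟨S, rfl, ⟨hroot, ?_, fun A hA B hB => ?_⟩, fun A hA B hB hc => ?_,
    ⟨LL q, instL, inferInstance, Fintype.card_fin q, hroot, fun A hA B hB h => ?_⟩, hconn⟩
  · obtain ⟨v, hvv, hvi, -⟩ := exists_isotropic_pair hF (n := n + 2) 0 1 (by simp)
    have hv : v ≠ 0 := fun e => by simp [e] at hvi
    exact ⟨X v, (hmem _).2 ⟨v, hv, hvv, rfl⟩⟩
  · have hp := hconn A hA B hB
    clear hB
    induction hp with
    | refl => exact ⟨1, (ThreeTransp.RankOne.conjBy_one A).symm⟩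
    | tail _ hstep ih =>
      obtain ⟨g, rfl⟩ := ih
      obtain ⟨x, -, hx⟩ := ThreeTransp.RankOne.right_mem hstep.2.2
      exact ⟨x * g, by rw [hx, ThreeTransp.RankOne.conjBy_conjBy]⟩
  · obtain ⟨p, hp, hpp, rfl⟩ := (hmem A).1 hA
    obtain ⟨r, hr, hrr, rfl⟩ := (hmem B).1 hB
    by_cases h : H p r = 0
    · exact hroot.ne_bot _ hc.1 (X_comm_case hF hp hpp hr hrr h)
    · exact (adj p r hp hpp hr hrr h).2.2 hc
  · obtain ⟨p, hp, hpp, rfl⟩ := (hmem A).1 hA
    obtain ⟨r, hr, hrr, rfl⟩ := (hmem B).1 hB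
    by_cases h' : H p r = 0
    · exact absurd (X_comm_case hF hp hpp hr hrr h') (ThreeTransp.RankOne.not_commute h)
    · exact (adj p r hp hpp hr hrr h').2.1

end

/-- Let F be a finite field with q² elements, n a natural number, and h the Hermitian form Σ uᵢ vᵢ^q on F^{n+2}. For a non-zero isotropic vector p let T(p) be the group of unitary transvections with centre ⟨p⟩: the elements of SU_{n+2}(q) moving every vector by a multiple of p and fixing every vector perpendicular to p. Let Σ be the set of these T(p) and G₀ the subgroup they generate. Then, viewed inside G₀, the members of Σ form a degenerate class of abstract k-root subgroups of G₀ for some field k with q elements (any two commute or are the unipotent subgroups of a rank one group that is an image of SL₂(k) with central kernel, never the commutator case), and their graph of rank one pairs is connected. -/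
theorem result (F : Type*) [Field F] [Fintype F] (q n : ℕ) (hF : Fintype.card F = q ^ 2) :
    Cfsg.IsRootSubgroupClass ((fun A : Subgroup ↥(Cfsg.SU (n + 2) F q) => A.subgroupOf (⨆ B ∈ {A : Subgroup ↥(Cfsg.SU (n + 2) F q) | ∃ p : Fin (n + 2) → F, p ≠ 0 ∧ Cfsg.hermForm (n + 2) F q p p = 0 ∧
          A = Subgroup.closure {g : ↥(Cfsg.SU (n + 2) F q) |
            (∀ v : Fin (n + 2) → F, ∃ c : F, ((g : Matrix.SpecialLinearGroup (Fin (n + 2)) F) : Matrix (Fin (n + 2)) (Fin (n + 2)) F) *ᵥ v = v + c • p) ∧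
            ∀ v : Fin (n + 2) → F, Cfsg.hermForm (n + 2) F q v p = 0 →
              ((g : Matrix.SpecialLinearGroup (Fin (n + 2)) F) : Matrix (Fin (n + 2)) (Fin (n + 2)) F) *ᵥ v = v}}, B)) ''
      {A : Subgroup ↥(Cfsg.SU (n + 2) F q) | ∃ p : Fin (n + 2) → F, p ≠ 0 ∧ Cfsg.hermForm (n + 2) F q p p = 0 ∧
          A = Subgroup.closure {g : ↥(Cfsg.SU (n + 2) F q) |
            (∀ v : Fin (n + 2) → F, ∃ c : F, ((g : Matrix.SpecialLinearGroup (Fin (n + 2)) F) : Matrix (Fin (n + 2)) (Fin (n + 2)) F) *ᵥ v = v + c • p) ∧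
            ∀ v : Fin (n + 2) → F, Cfsg.hermForm (n + 2) F q v p = 0 →
              ((g : Matrix.SpecialLinearGroup (Fin (n + 2)) F) : Matrix (Fin (n + 2)) (Fin (n + 2)) F) *ᵥ v = v}}) ∧
    Cfsg.IsDegenerateRootSet ((fun A : Subgroup ↥(Cfsg.SU (n + 2) F q) => A.subgroupOf (⨆ B ∈ {A : Subgroup ↥(Cfsg.SU (n + 2) F q) | ∃ p : Fin (n + 2) → F, p ≠ 0 ∧ Cfsg.hermForm (n + 2) F q p p = 0 ∧
          A = Subgroup.closure {g : ↥(Cfsg.SU (n + 2) F q) |
            (∀ v : Fin (n + 2) → F, ∃ c : F, ((g : Matrix.SpecialLinearGroup (Fin (n + 2)) F) : Matrix (Fin (n + 2)) (Fin (n + 2)) F) *ᵥ v = v + c • p) ∧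
            ∀ v : Fin (n + 2) → F, Cfsg.hermForm (n + 2) F q v p = 0 →
              ((g : Matrix.SpecialLinearGroup (Fin (n + 2)) F) : Matrix (Fin (n + 2)) (Fin (n + 2)) F) *ᵥ v = v}}, B)) ''
      {A : Subgroup ↥(Cfsg.SU (n + 2) F q) | ∃ p : Fin (n + 2) → F, p ≠ 0 ∧ Cfsg.hermForm (n + 2) F q p p = 0 ∧
          A = Subgroup.closure {g : ↥(Cfsg.SU (n + 2) F q) |
            (∀ v : Fin (n + 2) → F, ∃ c : F, ((g : Matrix.SpecialLinearGroup (Fin (n + 2)) F) : Matrix (Fin (n + 2)) (Fin (n + 2)) F) *ᵥ v = v + c • p) ∧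
            ∀ v : Fin (n + 2) → F, Cfsg.hermForm (n + 2) F q v p = 0 →
              ((g : Matrix.SpecialLinearGroup (Fin (n + 2)) F) : Matrix (Fin (n + 2)) (Fin (n + 2)) F) *ᵥ v = v}}) ∧
    (∃ (L : Type) (_ : Field L) (_ : Fintype L), Fintype.card L = q ∧ Cfsg.IsKRootSubgroupSet L ((fun A : Subgroup ↥(Cfsg.SU (n + 2) F q) => A.subgroupOf (⨆ B ∈ {A : Subgroup ↥(Cfsg.SU (n + 2) F q) | ∃ p : Fin (n + 2) → F, p ≠ 0 ∧ Cfsg.hermForm (n + 2) F q p p = 0 ∧
          A = Subgroup.closure {g : ↥(Cfsg.SU (n + 2) F q) |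
            (∀ v : Fin (n + 2) → F, ∃ c : F, ((g : Matrix.SpecialLinearGroup (Fin (n + 2)) F) : Matrix (Fin (n + 2)) (Fin (n + 2)) F) *ᵥ v = v + c • p) ∧
            ∀ v : Fin (n + 2) → F, Cfsg.hermForm (n + 2) F q v p = 0 →
              ((g : Matrix.SpecialLinearGroup (Fin (n + 2)) F) : Matrix (Fin (n + 2)) (Fin (n + 2)) F) *ᵥ v = v}}, B)) ''
      {A : Subgroup ↥(Cfsg.SU (n + 2) F q) | ∃ p : Fin (n + 2) → F, p ≠ 0 ∧ Cfsg.hermForm (n + 2) F q p p = 0 ∧
          A = Subgroup.closure {g : ↥(Cfsg.SU (n + 2) F q) |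
            (∀ v : Fin (n + 2) → F, ∃ c : F, ((g : Matrix.SpecialLinearGroup (Fin (n + 2)) F) : Matrix (Fin (n + 2)) (Fin (n + 2)) F) *ᵥ v = v + c • p) ∧
            ∀ v : Fin (n + 2) → F, Cfsg.hermForm (n + 2) F q v p = 0 →
              ((g : Matrix.SpecialLinearGroup (Fin (n + 2)) F) : Matrix (Fin (n + 2)) (Fin (n + 2)) F) *ᵥ v = v}})) ∧
    Cfsg.IsConnectedFamily (Cfsg.FAdj ((fun A : Subgroup ↥(Cfsg.SU (n + 2) F q) => A.subgroupOf (⨆ B ∈ {A : Subgroup ↥(Cfsg.SU (n + 2) F q) | ∃ p : Fin (n + 2) → F, p ≠ 0 ∧ Cfsg.hermForm (n + 2) F q p p = 0 ∧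
          A = Subgroup.closure {g : ↥(Cfsg.SU (n + 2) F q) |
            (∀ v : Fin (n + 2) → F, ∃ c : F, ((g : Matrix.SpecialLinearGroup (Fin (n + 2)) F) : Matrix (Fin (n + 2)) (Fin (n + 2)) F) *ᵥ v = v + c • p) ∧
            ∀ v : Fin (n + 2) → F, Cfsg.hermForm (n + 2) F q v p = 0 →
              ((g : Matrix.SpecialLinearGroup (Fin (n + 2)) F) : Matrix (Fin (n + 2)) (Fin (n + 2)) F) *ᵥ v = v}}, B)) ''
      {A : Subgroup ↥(Cfsg.SU (n + 2) F q) | ∃ p : Fin (n + 2) → F, p ≠ 0 ∧ Cfsg.hermForm (n + 2) F q p p = 0 ∧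
          A = Subgroup.closure {g : ↥(Cfsg.SU (n + 2) F q) |
            (∀ v : Fin (n + 2) → F, ∃ c : F, ((g : Matrix.SpecialLinearGroup (Fin (n + 2)) F) : Matrix (Fin (n + 2)) (Fin (n + 2)) F) *ᵥ v = v + c • p) ∧
            ∀ v : Fin (n + 2) → F, Cfsg.hermForm (n + 2) F q v p = 0 →
              ((g : Matrix.SpecialLinearGroup (Fin (n + 2)) F) : Matrix (Fin (n + 2)) (Fin (n + 2)) F) *ᵥ v = v}})) ((fun A : Subgroup ↥(Cfsg.SU (n + 2) F q) => A.subgroupOf (⨆ B ∈ {A : Subgroup ↥(Cfsg.SU (n + 2) F q) | ∃ p : Fin (n + 2) → F, p ≠ 0 ∧ Cfsg.hermForm (n + 2) F q p p = 0 ∧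
          A = Subgroup.closure {g : ↥(Cfsg.SU (n + 2) F q) |
            (∀ v : Fin (n + 2) → F, ∃ c : F, ((g : Matrix.SpecialLinearGroup (Fin (n + 2)) F) : Matrix (Fin (n + 2)) (Fin (n + 2)) F) *ᵥ v = v + c • p) ∧
            ∀ v : Fin (n + 2) → F, Cfsg.hermForm (n + 2) F q v p = 0 →
              ((g : Matrix.SpecialLinearGroup (Fin (n + 2)) F) : Matrix (Fin (n + 2)) (Fin (n + 2)) F) *ᵥ v = v}}, B)) ''
      {A : Subgroup ↥(Cfsg.SU (n + 2) F q) | ∃ p : Fin (n + 2) → F, p ≠ 0 ∧ Cfsg.hermForm (n + 2) F q p p = 0 ∧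
          A = Subgroup.closure {g : ↥(Cfsg.SU (n + 2) F q) |
            (∀ v : Fin (n + 2) → F, ∃ c : F, ((g : Matrix.SpecialLinearGroup (Fin (n + 2)) F) : Matrix (Fin (n + 2)) (Fin (n + 2)) F) *ᵥ v = v + c • p) ∧
            ∀ v : Fin (n + 2) → F, Cfsg.hermForm (n + 2) F q v p = 0 →
              ((g : Matrix.SpecialLinearGroup (Fin (n + 2)) F) : Matrix (Fin (n + 2)) (Fin (n + 2)) F) *ᵥ v = v}}) := by
  obtain ⟨S, rfl, h1, h2, h3, h4⟩ := all_props (n := n) hF
  exact ⟨h1, h2, h3, h4⟩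

end Cfsg.Agent.S5071
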