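import Cfsg.Statements.S5072
import Cfsg.Agent.Lib.RootExamples.Siegel

set_option autoImplicit false
open Matrix
open Cfsg

namespace Cfsg.Agent.S5072

open Matrix Cfsg.Agent.RootExamples Cfsg.Agent.RootExamples.Siegel

variable {F : Type*} [Field F] {m : ℕ}

set_option quotPrecheck false in
local notation "II" => ↥(Cfsg.isometryGroup F (Cfsg.quadFormPlus (m + 3) F))
local notation "V" => Fin (m + 3) ⊕ Fin (m + 3) → F
local notation "MM" => Matrix (Fin (m + 3) ⊕ Fin (m + 3)) (Fin (m + 3) ⊕ Fin (m + 3)) F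

/-- The inclusion in the matrix ring. -/
def coeHom : II →* MM where
  toFun g := ((g : Matrix.GeneralLinearGroup (Fin (m + 3) ⊕ Fin (m + 3)) F) : MM)
  map_one' := rfl
  map_mul' _ _ := rfl

theorem coeHom_injective : Function.Injective (coeHom : II →* MM) :=
  fun _ _ h => Subtype.ext (Units.ext h)

theorem coeHom_iso (g : II) (v : V) :
    Cfsg.quadFormPlus (m + 3) F (coeHom g *ᵥ v) = Cfsg.quadFormPlus (m + 3) F v := g.2 v v

/-- The group fixing the orthogonal complement. -/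
def T (p r : V) : Subgroup II :=
  Subgroup.closure {σ : II | ∀ v : V,
    Cfsg.quadFormPlus (m + 3) F (v + p) - Cfsg.quadFormPlus (m + 3) F v - Cfsg.quadFormPlus (m + 3) F p = 0 →
    Cfsg.quadFormPlus (m + 3) F (v + r) - Cfsg.quadFormPlus (m + 3) F v - Cfsg.quadFormPlus (m + 3) F r = 0 →
      ((σ : Matrix.GeneralLinearGroup (Fin (m + 3) ⊕ Fin (m + 3)) F) : MM) *ᵥ v = v}

theorem isZ_T {p r : V} (h : Line p r) : IsZ (coeHom : II →* MM) (T p r) p r := by
  have hex : ∀ c, ∃ g : II, coeHom g = E p r c := fun c =>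
    ⟨⟨⟨E p r c, E p r (-c), E_mul_neg h c, E_neg_mul h c⟩, fun u _ => Q_E h c u⟩, rfl⟩
  refine ⟨h, fun g => ⟨fun hg => ?_, ?_⟩, hex⟩
  · rw [T] at hg
    induction hg using Subgroup.closure_induction with
    | mem x hx =>
      exact eq_E_of_fix h (coeHom_iso x) fun v h1 h2 => hx v (by rw [Bf_polar]; exact h1) (by rw [Bf_polar]; exact h2)
    | one => exact ⟨0, by rw [map_one, E_zero]⟩
    | mul x y _ _ hx hy =>
      obtain ⟨c, hc⟩ := hx; obtain ⟨d, hd⟩ := hy
      exact ⟨c + d, by rw [map_mul, hc, hd, E_mul h]⟩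
    | inv x _ hx =>
      obtain ⟨c, hc⟩ := hx
      refine ⟨-c, ?_⟩
      calc coeHom x⁻¹ = coeHom x⁻¹ * (coeHom x * E p r (-c)) := by rw [hc, E_mul_neg h, mul_one]
        _ = E p r (-c) := by rw [← mul_assoc, ← map_mul, inv_mul_cancel, map_one, one_mul]
  · rintro ⟨c, hc⟩
    refine Subgroup.subset_closure fun v h1 h2 => ?_
    rw [Bf_polar] at h1 h2
    show coeHom g *ᵥ v = v
    rw [hc, E_mulVec, h1, h2]
    simp

/-- The set of Siegel transvection groups. -/
def SS : Set (Subgroup II) := {A | ∃ p r : V, LinearIndependent F ![p, r] ∧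
  Cfsg.quadFormPlus (m + 3) F p = 0 ∧ Cfsg.quadFormPlus (m + 3) F r = 0 ∧
  Cfsg.quadFormPlus (m + 3) F (p + r) = 0 ∧ A = T p r}

theorem setting : Setting (coeHom : II →* MM) :=
  ⟨coeHom_injective, coeHom_iso, fun _ _ h => ⟨_, isZ_T h⟩⟩

theorem SS_eq : (SS : Set (Subgroup II)) = Siegel.S (coeHom : II →* MM) := by
  ext A
  constructor
  · rintro ⟨p, r, hli, hp, hr, hpr, rfl⟩
    refine ⟨p, r, isZ_T ⟨LinearIndependent.pair_iff.1 hli, hp, hr, ?_⟩⟩
    rw [Q_add, hp, hr] at hpr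
    linear_combination hpr
  · rintro ⟨p, r, hA⟩
    refine ⟨p, r, hA.line.li, hA.line.qp, hA.line.qr, ?_, hA.unique setting (isZ_T hA.line)⟩
    rw [Q_add, hA.line.qp, hA.line.qr, hA.line.orth, add_zero, add_zero]

/-- The subgroup generated by the root groups. -/
def G0 : Subgroup II := ⨆ B ∈ (SS : Set (Subgroup II)), B

theorem le_G0 {A : Subgroup II} (hA : A ∈ (SS : Set (Subgroup II))) : A ≤ G0 := le_biSup id hA

theorem sub_isZ {A : Subgroup II} {p r : V} (h : IsZ (coeHom : II →* MM) A p r) :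
    IsZ (coeHom.comp (G0 (F := F) (m := m)).subtype) (A.subgroupOf G0) p r := by
  refine ⟨h.line, fun g => ?_, fun c => ?_⟩
  · rw [Subgroup.mem_subgroupOf]; exact h.mem g
  · obtain ⟨g, hg⟩ := h.ex c
    exact ⟨⟨g, le_G0 (by rw [SS_eq]; exact ⟨p, r, h⟩) ((h.mem g).2 ⟨c, hg⟩)⟩, hg⟩

theorem setting0 : Setting (coeHom.comp (G0 (F := F) (m := m)).subtype) :=
  ⟨coeHom_injective.comp Subtype.val_injective, fun g v => coeHom_iso g.1 v,
    fun _ _ h => ⟨_, sub_isZ (isZ_T h)⟩⟩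

theorem all_props : IsKRootSubgroupSet F ((fun A : Subgroup II => A.subgroupOf G0) '' SS) ∧
    IsConnectedFamily (FAdj (SS : Set (Subgroup II))) SS := by
  refine ⟨?_, by rw [SS_eq]; exact connected (by omega) setting⟩
  have himg : (fun A : Subgroup II => A.subgroupOf G0) '' SS
      = Siegel.S (coeHom.comp (G0 (F := F) (m := m)).subtype) := by
    ext A
    constructor
    · rintro ⟨A, hA, rfl⟩
      rw [SS_eq] at hA
      obtain ⟨p, r, hA⟩ := hA
      exact ⟨p, r, sub_isZ hA⟩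
    · rintro ⟨p, r, hA⟩
      exact ⟨T p r, by rw [SS_eq]; exact ⟨p, r, isZ_T hA.line⟩, ((sub_isZ (isZ_T hA.line)).unique setting0 hA)⟩
  rw [himg]
  refine rootSet setting0 ?_
  rw [← himg, iSup_image]
  apply Subgroup.map_injective (G0 (F := F) (m := m)).subtype_injective
  rw [Subgroup.map_iSup]
  simp only [Subgroup.map_iSup, ← MonoidHom.range_eq_map, Subgroup.range_subtype]
  conv_rhs => rw [G0]
  exact iSup_congr fun A => iSup_congr fun hA => Subgroup.map_subgroupOf_eq_of_le (le_G0 hA)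

/-- Let F be a field, m a natural number and V = F^{2(m+3)} with the hyperbolic quadratic form q(x, y) = Σ xᵢ yᵢ (non-degenerate, Witt index m + 3 ≥ 3). For a singular line ℓ (a 2-dimensional subspace on which q vanishes) let T(ℓ) be the group of isometries of q fixing every vector of ℓ^⊥ (the Siegel transvection group of ℓ), let Σ be the set of these groups and G₀ the subgroup they generate. Then, viewed inside G₀, the members of Σ form a set of abstract F-root subgroups of G₀ (any two commute, or are the unipotent subgroups of a rank one group that is an image of SL₂(F) with central kernel, or satisfy the commutator case), and their graph of rank one pairs is connected. -/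
theorem result (F : Type*) [Field F] (m : ℕ) :
    Cfsg.IsKRootSubgroupSet F ((fun A : Subgroup ↥(Cfsg.isometryGroup F (Cfsg.quadFormPlus (m + 3) F)) => A.subgroupOf (⨆ B ∈ {A : Subgroup ↥(Cfsg.isometryGroup F (Cfsg.quadFormPlus (m + 3) F)) | ∃ p r : Fin (m + 3) ⊕ Fin (m + 3) → F, LinearIndependent F ![p, r] ∧
          Cfsg.quadFormPlus (m + 3) F p = 0 ∧ Cfsg.quadFormPlus (m + 3) F r = 0 ∧
          Cfsg.quadFormPlus (m + 3) F (p + r) = 0 ∧
          A = Subgroup.closure {σ : ↥(Cfsg.isometryGroup F (Cfsg.quadFormPlus (m + 3) F)) | ∀ v : Fin (m + 3) ⊕ Fin (m + 3) → F,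
            Cfsg.quadFormPlus (m + 3) F (v + p) - Cfsg.quadFormPlus (m + 3) F v - Cfsg.quadFormPlus (m + 3) F p = 0 →
            Cfsg.quadFormPlus (m + 3) F (v + r) - Cfsg.quadFormPlus (m + 3) F v - Cfsg.quadFormPlus (m + 3) F r = 0 →
              ((σ : Matrix.GeneralLinearGroup (Fin (m + 3) ⊕ Fin (m + 3)) F) : Matrix (Fin (m + 3) ⊕ Fin (m + 3)) (Fin (m + 3) ⊕ Fin (m + 3)) F) *ᵥ v = v}}, B)) ''
      {A : Subgroup ↥(Cfsg.isometryGroup F (Cfsg.quadFormPlus (m + 3) F)) | ∃ p r : Fin (m + 3) ⊕ Fin (m + 3) → F, LinearIndependent F ![p, r] ∧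
          Cfsg.quadFormPlus (m + 3) F p = 0 ∧ Cfsg.quadFormPlus (m + 3) F r = 0 ∧
          Cfsg.quadFormPlus (m + 3) F (p + r) = 0 ∧
          A = Subgroup.closure {σ : ↥(Cfsg.isometryGroup F (Cfsg.quadFormPlus (m + 3) F)) | ∀ v : Fin (m + 3) ⊕ Fin (m + 3) → F,
            Cfsg.quadFormPlus (m + 3) F (v + p) - Cfsg.quadFormPlus (m + 3) F v - Cfsg.quadFormPlus (m + 3) F p = 0 →
            Cfsg.quadFormPlus (m + 3) F (v + r) - Cfsg.quadFormPlus (m + 3) F v - Cfsg.quadFormPlus (m + 3) F r = 0 →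
              ((σ : Matrix.GeneralLinearGroup (Fin (m + 3) ⊕ Fin (m + 3)) F) : Matrix (Fin (m + 3) ⊕ Fin (m + 3)) (Fin (m + 3) ⊕ Fin (m + 3)) F) *ᵥ v = v}}) ∧
    Cfsg.IsConnectedFamily (Cfsg.FAdj {A : Subgroup ↥(Cfsg.isometryGroup F (Cfsg.quadFormPlus (m + 3) F)) | ∃ p r : Fin (m + 3) ⊕ Fin (m + 3) → F, LinearIndependent F ![p, r] ∧
          Cfsg.quadFormPlus (m + 3) F p = 0 ∧ Cfsg.quadFormPlus (m + 3) F r = 0 ∧
          Cfsg.quadFormPlus (m + 3) F (p + r) = 0 ∧
          A = Subgroup.closure {σ : ↥(Cfsg.isometryGroup F (Cfsg.quadFormPlus (m + 3) F)) | ∀ v : Fin (m + 3) ⊕ Fin (m + 3) → F,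
            Cfsg.quadFormPlus (m + 3) F (v + p) - Cfsg.quadFormPlus (m + 3) F v - Cfsg.quadFormPlus (m + 3) F p = 0 →
            Cfsg.quadFormPlus (m + 3) F (v + r) - Cfsg.quadFormPlus (m + 3) F v - Cfsg.quadFormPlus (m + 3) F r = 0 →
              ((σ : Matrix.GeneralLinearGroup (Fin (m + 3) ⊕ Fin (m + 3)) F) : Matrix (Fin (m + 3) ⊕ Fin (m + 3)) (Fin (m + 3) ⊕ Fin (m + 3)) F) *ᵥ v = v}})
      {A : Subgroup ↥(Cfsg.isometryGroup F (Cfsg.quadFormPlus (m + 3) F)) | ∃ p r : Fin (m + 3) ⊕ Fin (m + 3) → F, LinearIndependent F ![p, r] ∧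
          Cfsg.quadFormPlus (m + 3) F p = 0 ∧ Cfsg.quadFormPlus (m + 3) F r = 0 ∧
          Cfsg.quadFormPlus (m + 3) F (p + r) = 0 ∧
          A = Subgroup.closure {σ : ↥(Cfsg.isometryGroup F (Cfsg.quadFormPlus (m + 3) F)) | ∀ v : Fin (m + 3) ⊕ Fin (m + 3) → F,
            Cfsg.quadFormPlus (m + 3) F (v + p) - Cfsg.quadFormPlus (m + 3) F v - Cfsg.quadFormPlus (m + 3) F p = 0 →
            Cfsg.quadFormPlus (m + 3) F (v + r) - Cfsg.quadFormPlus (m + 3) F v - Cfsg.quadFormPlus (m + 3) F r = 0 →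
              ((σ : Matrix.GeneralLinearGroup (Fin (m + 3) ⊕ Fin (m + 3)) F) : Matrix (Fin (m + 3) ⊕ Fin (m + 3)) (Fin (m + 3) ⊕ Fin (m + 3)) F) *ᵥ v = v}} := by
  exact all_props

end Cfsg.Agent.S5072
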