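import Cfsg.Statements.S5073
import Cfsg.Agent.Lib.QuadraticPair.Basic
import Cfsg.Agent.S5059

set_option autoImplicit false
universe u
open Cfsg

namespace Cfsg.Agent.S5073

/-- Let k be a field of characteristic not 2 with k not of order 3, M a finite-dimensional k-vector opSpace and G ≤ GL(M) such that (G, M) is a quadratic pair (M irreducible for G, and G generated by its quadratically acting elements σ whose scalar family 1 + c(σ − 1), c ∈ k, lies in G). Write 𝒬_d for the quadratic elements of G of minimal commutator rank, E(σ) for the subgroup generated by the members of 𝒬_d with the same fixed opSpace and commutator opSpace as σ, and Σ for the set of these subgroups. Let E, F ∈ Σ. If some non-identity element of E commutes with some non-identity element of F, or some non-identity element of E normalizes F, then E and F commute elementwise. -/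
theorem result {k : Type u} [Field k] (hk2 : ringChar k ≠ 2) (hk3 : Nat.card k ≠ 3)
    {M : Type u} [AddCommGroup M] [Module k M] [FiniteDimensional k M]
    {G : Subgroup (LinearMap.GeneralLinearGroup k M)} (hG : Cfsg.IsQuadraticPair G)
    {E F : Subgroup (LinearMap.GeneralLinearGroup k M)} (hE : E ∈ Cfsg.quadraticRootSubgroups G) (hF : F ∈ Cfsg.quadraticRootSubgroups G)
    (h : (∃ e ∈ E, e ≠ 1 ∧ ∃ f ∈ F, f ≠ 1 ∧ e * f = f * e) ∨ E ⊓ Subgroup.normalizer (F : Set (LinearMap.GeneralLinearGroup k M)) ≠ ⊥) :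
    ⁅E, F⁆ = ⊥ := by
  obtain ⟨σ, hσ, rfl⟩ := hE
  obtain ⟨τ, hτ, rfl⟩ := hF
  have memE : ∀ {ρ}, ρ ∈ minimalQuadraticElements G → ∀ g, g ∈ sameActionSubgroup G ρ →
      g ∈ sameActionClass G ρ ∪ {1} := fun hρ g hg =>
    (Cfsg.Agent.S5059.result hk2 hk3 hG hρ).1.le hg
  have inE : ∀ {ρ}, ∀ g, g ∈ sameActionClass G ρ → g ∈ sameActionSubgroup G ρ := fun g hg =>
    Subgroup.subset_closure hg
  -- a non-identity element of one group commuting with an element of the other centralizes it
  have step : ∀ {ρ π : LinearMap.GeneralLinearGroup k M}, ρ ∈ minimalQuadraticElements G →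
      π ∈ minimalQuadraticElements G → ∀ f ∈ sameActionSubgroup G π, ∀ e ∈ sameActionSubgroup G ρ, e ≠ 1 →
      (e * f = f * e ∨ f * e * f⁻¹ ∈ sameActionSubgroup G ρ) → ∀ e' ∈ sameActionSubgroup G ρ, f * e' = e' * f := by
    intro ρ π hρ hπ f hf e he he1 hcase e' he'
    have hec : e ∈ sameActionClass G ρ := (memE hρ e he).resolve_right he1
    have hfa : Cfsg.Agent.QuadraticPair.Adm G (Cfsg.Agent.QuadraticPair.op f) :=
      (Cfsg.Agent.QuadraticPair.op_mem_opSpace hπ (memE hπ f hf)).1
    have hconj : f * e * f⁻¹ ∈ sameActionClass G ρ := by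
      rcases hcase with hc | hc
      · rwa [← hc, mul_inv_cancel_right]
      · exact (memE hρ _ hc).resolve_right fun e0 => he1 (conj_eq_one_iff.1 e0)
    set b := Cfsg.Agent.QuadraticPair.op f
    set x := Cfsg.Agent.QuadraticPair.op ρ
    set y := Cfsg.Agent.QuadraticPair.op e
    set y' := Cfsg.Agent.QuadraticPair.op (f * e * f⁻¹)
    have hrel : y' * (f : Module.End k M) = (f : Module.End k M) * y := by
      simp only [y, y', Cfsg.Agent.QuadraticPair.op, sub_mul, mul_sub, one_mul, mul_one]
      rw [← Units.val_mul, inv_mul_cancel_right, Units.val_mul]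
    have hbm : ∀ m, b m = (f : Module.End k M) m - m := fun m => rfl
    refine Cfsg.Agent.QuadraticPair.commute_iff.2 (Cfsg.Agent.QuadraticPair.commute_of_stab hk2
      (Cfsg.Agent.QuadraticPair.min_op hρ) hfa (fun m hm => ?_) (fun m hm => ?_)
      (Cfsg.Agent.QuadraticPair.op_mem_opSpace hρ (memE hρ e' he')))
    · obtain ⟨n, rfl⟩ := hec.2.2.ge hm
      refine hbm _ ▸ sub_mem ?_ hm
      exact hconj.2.2.le ⟨_, LinearMap.congr_fun hrel n⟩
    · refine hbm _ ▸ sub_mem ?_ hm
      refine hconj.2.1.le (LinearMap.mem_ker.2 ?_)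
      have h0 : y m = 0 := LinearMap.mem_ker.1 (hec.2.1.ge hm)
      show y' ((f : Module.End k M) m) = 0
      rw [← Module.End.mul_apply, hrel, Module.End.mul_apply, h0, map_zero]
  have fin : ∀ e ∈ sameActionSubgroup G σ, e ≠ 1 → (∀ f' ∈ sameActionSubgroup G τ, e * f' = f' * e) →
      ⁅sameActionSubgroup G σ, sameActionSubgroup G τ⁆ = ⊥ := by
    intro e he he1 hall
    rw [Subgroup.commutator_eq_bot_iff_le_centralizer]
    intro e' he'
    exact Subgroup.mem_centralizer_iff.2 fun f' hf' =>
      step hσ hτ f' hf' e he he1 (Or.inl (hall f' hf')) e' he'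
  rcases h with ⟨e, he, he1, f, hf, hf1, hc⟩ | h
  · exact fin e he he1 fun f' hf' => step hτ hσ e he f hf hf1 (Or.inl hc.symm) f' hf'
  · obtain ⟨e, he, he1⟩ := (Subgroup.bot_or_exists_ne_one _).resolve_left h
    obtain ⟨f, hf, hf1⟩ : ∃ f ∈ sameActionSubgroup G τ, f ≠ 1 :=
      ⟨τ, inE τ ⟨hτ, rfl, rfl⟩, fun e0 => hτ.1.2.1.2 (by rw [e0]; simp)⟩
    exact fin e he.1 he1 fun f' hf' =>
      step hτ hσ e he.1 f hf hf1 (Or.inr ((Subgroup.mem_normalizer_iff.1 he.2 f).1 hf)) f' hf'

end Cfsg.Agent.S5073
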