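import Cfsg.Statements.S5075
import Cfsg.Agent.Lib.Transvections.Linear

set_option autoImplicit false
open Cfsg

namespace Cfsg.Agent.S5075

open Cfsg.Agent.Transvections

/-- Restriction of a group to an invariant subspace. -/
noncomputable def restrictHom {R V : Type*} [CommRing R] [AddCommGroup V] [Module R V] (H : Subgroup (V ≃ₗ[R] V))
    (X : Submodule R V) (hX : ∀ h ∈ H, X.map (h : V →ₗ[R] V) = X) : ↥H →* (↥X ≃ₗ[R] ↥X) where
  toFun h := LinearEquiv.ofSubmodules h.1 X X (hX h.1 h.2)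
  map_one' := LinearEquiv.ext fun x => Subtype.ext rfl
  map_mul' a b := LinearEquiv.ext fun x => Subtype.ext rfl


/-- Let p be an odd prime, V a finite-dimensional vector space over the field with p elements, and H a group of linear automorphisms of V generated by transvections (elements of order p fixing a hyperplane pointwise) and having no nontrivial normal p-subgroup. Then for some n ≥ 1 there are a decomposition V = V₀ ⊕ V₁ ⊕ ⋯ ⊕ Vₙ into H-invariant subspaces and a decomposition of H as the internal direct product of normal subgroups H₁, …, Hₙ such that Hⱼ acts trivially on every Vᵢ with i ≠ j, and Hⱼ induces on Vⱼ exactly the special linear group of Vⱼ or exactly the isometry group of a non-degenerate alternating form on Vⱼ. -/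
theorem result {p : ℕ} [Fact p.Prime] (hp : Odd p) {V : Type*} [AddCommGroup V] [Module (ZMod p) V] [Finite V]
    (H : Subgroup (V ≃ₗ[ZMod p] V)) (T : Set (V ≃ₗ[ZMod p] V)) (hHT : H = Subgroup.closure T)
    (hT : ∀ t ∈ T, orderOf t = p ∧
      Module.finrank (ZMod p) ↥(LinearMap.ker ((t : V →ₗ[ZMod p] V) - LinearMap.id)) + 1 =
        Module.finrank (ZMod p) V)
    (hOp : Cfsg.pCore p ↥H = ⊥) :
    ∃ (n : ℕ) (W : Fin (n + 1) → Submodule (ZMod p) V) (K : Fin n → Subgroup (V ≃ₗ[ZMod p] V)),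
      1 ≤ n ∧ DirectSum.IsInternal W ∧
      (∀ h ∈ H, ∀ i, (W i).map (h : V →ₗ[ZMod p] V) = W i) ∧
      (∀ j, K j ≤ H ∧ ((K j).subgroupOf H).Normal) ∧ ⨆ j, K j = H ∧
      (∀ j, K j ⊓ (⨆ j' ∈ {j' : Fin n | j' ≠ j}, K j') = ⊥) ∧
      (∀ j j', j ≠ j' → ∀ a ∈ K j, ∀ b ∈ K j', a * b = b * a) ∧
      (∀ j, ∀ h ∈ K j, ∀ i : Fin (n + 1), i ≠ j.succ → ∀ v ∈ W i, h v = v) ∧
      (∀ j, ∃ ρ : ↥(K j) →* (↥(W j.succ) ≃ₗ[ZMod p] ↥(W j.succ)),
        (∀ (h : ↥(K j)) (v : ↥(W j.succ)), ((ρ h v : ↥(W j.succ)) : V) = (h : V ≃ₗ[ZMod p] V) (v : V)) ∧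
        ((ρ.range : Set (↥(W j.succ) ≃ₗ[ZMod p] ↥(W j.succ))) =
            {f : ↥(W j.succ) ≃ₗ[ZMod p] ↥(W j.succ) | LinearMap.det (f : ↥(W j.succ) →ₗ[ZMod p] ↥(W j.succ)) = 1} ∨
          ∃ B : LinearMap.BilinForm (ZMod p) ↥(W j.succ), B.IsAlt ∧ B.Nondegenerate ∧
            (ρ.range : Set (↥(W j.succ) ≃ₗ[ZMod p] ↥(W j.succ))) = {f : ↥(W j.succ) ≃ₗ[ZMod p] ↥(W j.succ) | ∀ x y, B (f x) (f y) = B x y})) := by
  classical
  haveI : Module.Finite (ZMod p) V := Module.Finite.of_finite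
  haveI : Finite (V ≃ₗ[ZMod p] V) := Finite.of_injective (fun e : V ≃ₗ[ZMod p] V => (e : V → V)) DFunLike.coe_injective
  have hex : ∀ i : ↥(insert 1 T), ∃ (v : V) (φ : Module.Dual (ZMod p) V), φ v = 0 ∧ (v = 0 ↔ φ = 0) ∧
      ∀ z, i.1 z = z + φ z • v := by
    rintro ⟨t, rfl | ht⟩
    · exact ⟨0, 0, rfl, by simp, fun z => by simp⟩
    · obtain ⟨v, φ, h1, h2, h3, h4⟩ := exists_pair_of_order (hT t ht).1 (hT t ht).2
      exact ⟨v, φ, h3, ⟨fun h => absurd h h1, fun h => absurd h h2⟩, h4⟩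
  choose vv ff hpair hzero hgen using hex
  let gen : ↥(insert 1 T) → V ≃ₗ[ZMod p] V := Subtype.val
  have hH : H = Subgroup.closure (Set.range gen) := by
    rw [show Set.range gen = insert 1 T from Subtype.range_coe, Subgroup.closure_insert_one, hHT]
  -- the classes
  let R := Set.range (cls vv ff)
  haveI : Nonempty R := ⟨⟨_, ⟨⟨1, Set.mem_insert _ _⟩, rfl⟩⟩⟩
  let r := Nat.card R
  let e : Fin r ≃ R := (Finite.equivFin R).symm
  choose rep hrep using fun k : Fin r => (e k).2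
  let c : Fin r → Set ↥(insert 1 T) := fun k => cls vv ff (rep k)
  let X : Fin r → Submodule (ZMod p) V := fun k => ctr (p := p) vv (c k)
  have hex' : ∀ i, ∃ k, i ∈ c k := fun i => ⟨e.symm ⟨_, i, rfl⟩, by
    show i ∈ cls vv ff _
    rw [hrep, e.apply_symm_apply]; exact Relation.ReflTransGen.refl⟩
  have hdisj : ∀ {k k' i}, i ∈ c k → i ∈ c k' → k = k' := fun {k k' i} h h' => e.injective (Subtype.ext (by
    rw [← hrep, ← hrep]; exact (cls_eq vv ff h).symm.trans (cls_eq vv ff h')))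
  have hoff : ∀ {k k'}, k ≠ k' → ∀ i ∈ c k', (∀ x ∈ X k, ff i x = 0) ∧ ∀ ω ∈ axs ff (c k), ω (vv i) = 0 :=
    fun {k k'} hne i hi => cross vv ff fun h => hne (hdisj h hi)
  have hoffX : ∀ {k k'}, k ≠ k' → ∀ x ∈ X k, ∀ ω ∈ axs ff (c k'), ω x = 0 := fun {k k'} hne x hx ω hω =>
    (Submodule.span_le.2 (by rintro _ ⟨i, hi, rfl⟩; exact (hoff hne i hi).1 x hx) :
      axs ff (c k') ≤ LinearMap.ker (evalP p V x)) hω
  have hco := fun k => coords hp hOp gen vv ff hgen hpair hzero hH (rep k)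
  choose hlift π hπ1 hπ2 hπ3 hπ4 using hco
  let W0 : Submodule (ZMod p) V := ⨅ i, LinearMap.ker (ff i)
  have hW0 : ∀ {z}, z ∈ W0 ↔ ∀ i, ff i z = 0 := fun {z} => by simp [W0]
  let W : Fin (r + 1) → Submodule (ZMod p) V := Fin.cons W0 X
  have hWs : ∀ k, W k.succ = X k := fun k => Fin.cons_succ _ _ _
  have hW0' : W 0 = W0 := rfl
  have hinv : ∀ h ∈ H, ∀ i, ∀ v ∈ W i, h v ∈ W i := by
    intro h hh i
    induction i using Fin.cases with
    | zero => intro v hv; rw [fixed gen vv ff hgen hH v (hW0.1 hv) h hh]; exact hv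
    | succ k =>
      rw [hWs]
      refine invariant gen vv ff hgen hH (X k) (fun i a ha => ?_) h hh
      by_cases hi : i ∈ c k
      · exact (X k).smul_mem _ (Submodule.subset_span ⟨i, hi, rfl⟩)
      · rw [(cross vv ff hi).1 a ha, zero_smul]; exact zero_mem _
  have hmap : ∀ h ∈ H, ∀ i, (W i).map (h : V →ₗ[ZMod p] V) = W i := fun h hh i =>
    Submodule.eq_of_le_of_finrank_eq (by rintro _ ⟨x, hx, rfl⟩; exact hinv h hh i x hx)
      (LinearEquiv.finrank_map_eq h (W i))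
  -- the projections
  let Q : V →ₗ[ZMod p] V := ∑ k, π k
  have hQ : ∀ z, Q z = ∑ k, π k z := fun z => LinearMap.sum_apply _ _ _
  have hQ0 : ∀ z, z - Q z ∈ W0 := fun z => hW0.2 fun i => by
    obtain ⟨k, hk⟩ := hex' i
    rw [map_sub, hQ, map_sum, Finset.sum_eq_single k
      (fun k' _ hk' => (hoff hk' i hk).1 _ (hπ1 k' z)) (fun h => absurd (Finset.mem_univ k) h),
      hπ2 k z (ff i) (Submodule.subset_span ⟨i, hk, rfl⟩), sub_self]
  have hQX : ∀ k, ∀ x ∈ X k, Q x = x := fun k x hx => by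
    rw [hQ, Finset.sum_eq_single k (fun k' _ hk' => hπ4 k' x (hoffX (Ne.symm hk') x hx))
      (fun h => absurd (Finset.mem_univ k) h), hπ3 k x hx]
  have htop : iSup W = ⊤ := eq_top_iff.2 fun z _ => by
    rw [← sub_add_cancel z (Q z)]
    refine add_mem (Submodule.mem_iSup_of_mem 0 (hQ0 z)) ?_
    rw [hQ]
    exact Submodule.sum_mem _ fun k _ => le_iSup W k.succ ((hWs k).symm ▸ hπ1 k z)
  have hindep : iSupIndep W := iSupIndep_def.2 fun i => by
    rw [Submodule.disjoint_def]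
    induction i using Fin.cases with
    | zero =>
      intro z hz hz'
      have hle : (⨆ (j) (_ : j ≠ 0), W j) ≤ LinearMap.eqLocus Q LinearMap.id := iSup₂_le fun j hj => by
        obtain ⟨k, rfl⟩ := Fin.exists_succ_eq.2 hj
        rw [hWs]; exact hQX k
      have h1 : Q z = z := hle hz'
      rw [← h1, hQ]
      exact Finset.sum_eq_zero fun k _ => hπ4 k z fun ω hω =>
        (Submodule.span_le.2 (by rintro _ ⟨i, -, rfl⟩; exact hW0.1 hz i) :
          axs ff (c k) ≤ LinearMap.ker (evalP p V z)) hω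
    | succ k =>
      rw [hWs]
      intro z hz hz'
      have hle : (⨆ (j) (_ : j ≠ k.succ), W j) ≤ (axs ff (c k)).dualCoannihilator := iSup₂_le fun j hj => by
        induction j using Fin.cases with
        | zero => exact fun x hx => (Submodule.mem_dualCoannihilator _).2 fun ω hω =>
            (Submodule.span_le.2 (by rintro _ ⟨i, -, rfl⟩; exact hW0.1 hx i) :
              axs ff (c k) ≤ LinearMap.ker (evalP p V x)) hω
        | succ k' =>
          rw [hWs]
          exact fun x hx => (Submodule.mem_dualCoannihilator _).2 (hoffX (fun e => hj (by rw [e])) x hx)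
      exact (nondeg hp hOp gen vv ff hgen hpair hzero hH (rep k)).1 z hz
        ((Submodule.mem_dualCoannihilator _).1 (hle hz'))
  -- the factors
  let K : Fin r → Subgroup (V ≃ₗ[ZMod p] V) := fun j =>
    { carrier := {h | h ∈ H ∧ ∀ i, i ≠ j.succ → ∀ v ∈ W i, h v = v}
      one_mem' := ⟨one_mem _, fun _ _ _ _ => rfl⟩
      mul_mem' := fun {a b} ha hb => ⟨mul_mem ha.1 hb.1, fun i hi v hv => by
        rw [LinearEquiv.mul_apply, hb.2 i hi v hv, ha.2 i hi v hv]⟩
      inv_mem' := fun {a} ha => ⟨inv_mem ha.1, fun i hi v hv => by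
        show a.symm v = v
        rw [LinearEquiv.symm_apply_eq, ha.2 i hi v hv]⟩ }
  have ext' : ∀ a b : V ≃ₗ[ZMod p] V, (∀ i, ∀ v ∈ W i, a v = b v) → a = b := fun a b h => LinearEquiv.ext fun v => by
    have hle : iSup W ≤ LinearMap.eqLocus (a : V →ₗ[ZMod p] V) (b : V →ₗ[ZMod p] V) := iSup_le fun i v hv => h i v hv
    exact hle (htop.symm ▸ Submodule.mem_top)
  refine ⟨r, W, K, Nat.card_pos, (DirectSum.isInternal_submodule_iff_iSupIndep_and_iSup_eq_top W).2 ⟨hindep, htop⟩,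
    hmap, fun j => ⟨fun h hh => hh.1, ⟨fun a ha g => ?_⟩⟩, le_antisymm (iSup_le fun j h hh => hh.1) ?_,
    fun j => ?_, fun j j' hne a ha b hb => ?_, fun j h hh => hh.2, fun j => ?_⟩
  · refine ⟨(g * a * g⁻¹).2, fun i hi v hv => ?_⟩
    show g.1 (a.1 ((g⁻¹).1 v)) = v
    rw [(show (a.1 : V ≃ₗ[ZMod p] V) ∈ K j from ha).2 i hi _ (hinv _ (g⁻¹).2 i v hv)]
    exact g.1.apply_symm_apply v
  · conv_lhs => rw [hH]
    rw [Subgroup.closure_le]
    rintro _ ⟨i, rfl⟩
    obtain ⟨k, hk⟩ := hex' i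
    refine Subgroup.mem_iSup_of_mem k ⟨gen_mem gen hH i, fun l hl v hv => ?_⟩
    have : ff i v = 0 := by
      induction l using Fin.cases with
      | zero => exact hW0.1 hv i
      | succ k' => rw [hWs] at hv; exact (hoff (fun e => hl (by rw [e])) i hk).1 v hv
    show i.1 v = v
    rw [hgen, this, zero_smul, add_zero]
  · let F : Subgroup (V ≃ₗ[ZMod p] V) :=
      { carrier := {h | ∀ v ∈ W j.succ, h v = v}
        one_mem' := fun _ _ => rfl
        mul_mem' := fun {a b} ha hb v hv => by rw [LinearEquiv.mul_apply, hb v hv, ha v hv]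
        inv_mem' := fun {a} ha v hv => by
          show a.symm v = v
          rw [LinearEquiv.symm_apply_eq, ha v hv] }
    have hF : (⨆ j' ∈ {j' : Fin r | j' ≠ j}, K j') ≤ F := iSup₂_le fun j' hj' h hh =>
      hh.2 _ fun e => hj' (Fin.succ_injective _ e).symm
    refine (Subgroup.eq_bot_iff_forall _).2 fun h hh => ext' h 1 fun i v hv => ?_
    by_cases hi : i = j.succ
    · subst hi; exact hF hh.2 v hv
    · exact hh.1.2 i hi v hv
  · refine ext' _ _ fun i v hv => ?_
    rw [LinearEquiv.mul_apply, LinearEquiv.mul_apply]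
    by_cases hi : i = j.succ
    · have hi' : i ≠ j'.succ := fun e => hne (Fin.succ_injective _ (hi.symm.trans e))
      rw [hb.2 i hi' v hv, hb.2 i hi' _ (hinv a ha.1 i v hv)]
    · rw [ha.2 i hi v hv, ha.2 i hi _ (hinv b hb.1 i v hv)]
  · let ρ' := restrictHom H (W j.succ) fun h hh => hmap h hh _
    refine ⟨ρ'.comp (Subgroup.inclusion fun h hh => hh.1), fun h v => rfl, ?_⟩
    rw [show (ρ'.comp (Subgroup.inclusion (show K j ≤ H from fun h hh => hh.1))).range = ((K j).subgroupOf H).map ρ' by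
      rw [MonoidHom.range_comp, Subgroup.inclusion_range]]
    have key : ∀ (S : Submodule (ZMod p) V) (hS : ∀ h ∈ H, S.map (h : V →ₗ[ZMod p] V) = S), S = X j →
        ((((K j).subgroupOf H).map (restrictHom H S hS) : Subgroup (↥S ≃ₗ[ZMod p] ↥S)) : Set (↥S ≃ₗ[ZMod p] ↥S)) =
            {f : ↥S ≃ₗ[ZMod p] ↥S | LinearMap.det (f : ↥S →ₗ[ZMod p] ↥S) = 1} ∨
          ∃ B : LinearMap.BilinForm (ZMod p) ↥S, B.IsAlt ∧ B.Nondegenerate ∧
            ((((K j).subgroupOf H).map (restrictHom H S hS) : Subgroup (↥S ≃ₗ[ZMod p] ↥S)) : Set (↥S ≃ₗ[ZMod p] ↥S)) =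
              {f : ↥S ≃ₗ[ZMod p] ↥S | ∀ x y, B (f x) (f y) = B x y} := by
      rintro S hS rfl
      refine class_image hp hOp gen vv ff hgen hpair hzero hH (rep j) _ (fun h x => rfl) _ fun h h1 h2 => ?_
      refine ⟨h.2, fun i hi v hv => ?_⟩
      induction i using Fin.cases with
      | zero => exact h2 v (hW0.1 hv)
      | succ k =>
        rw [hWs] at hv
        exact h1 (rep k) (fun h => hi (by rw [hdisj (k := j) (k' := k) h Relation.ReflTransGen.refl])) v hv
    exact key _ _ (hWs j)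

end Cfsg.Agent.S5075
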