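import Cfsg.Statements.S5084
import Cfsg.Agent.Lib.Fusion.Normal

set_option autoImplicit false
open Cfsg

namespace Cfsg.Agent.S5084

open Cfsg.FusionSystem Cfsg.Agent.Fusion.Basic Cfsg.Agent.Fusion.Saturation Cfsg.Agent.Fusion.Alperin Cfsg.Agent.Fusion.Normal

/-- In a saturated fusion system over a finite p-group S, a subgroup Q is central in the system if and only if Q ≤ S and no element of Q is conjugate in the system to any element other than itself. -/
theorem result {Ω : Type*} [Group Ω] {S : Subgroup Ω} [Finite S] (p : ℕ) [Fact p.Prime] (hS : IsPGroup p S) (F : Cfsg.FusionSystem S) (hF : F.IsSaturated p) (Q : Subgroup Ω) : F.IsCentral Q ↔ (Q ≤ S ∧ ∀ x ∈ Q, ∀ y : Ω, F.IsConjElt x y → y = x) := by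
  constructor
  · intro h
    refine ⟨h.1, fun x hx y hxy => ?_⟩
    obtain ⟨φ, hφ, hy⟩ := hxy
    obtain ⟨g, -, he, hfix⟩ := (isCentral_iff.1 h).2 _ _ (IsMap.of_hom hφ)
    rw [← hy, ← ext_apply φ ⟨x, _⟩, ← he x (Subgroup.mem_zpowers x)]
    exact hfix x hx
  · rintro ⟨hQS, h⟩
    have hfix : ∀ (R : Subgroup Ω) (f : Ω → Ω), IsMap F R f → ∀ x ∈ R, x ∈ Q → f x = x := by
      intro R f hf x hxR hxQ
      have hm := hf.restrict ((Subgroup.zpowers_le).2 hxR)
      exact h x hxQ (f x) ⟨hm.hom, hm.hom_mem_self, rfl⟩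
    have hQ : F.IsNormal Q := by
      refine normal_of_invariant hS hF fun P hP => ?_
      have hQP : Q ≤ P := by
        rcases hP with rfl | hP
        · exact hQS
        · intro x hx
          refine centric_centralizerIn_le hP.1 ⟨hQS hx, fun y hy => ?_⟩
          have h1 := hfix _ _ (isMap_cj (F := F) hQS (hP.1.1 hy)) x hx hx
          rw [cj_apply, mul_inv_eq_iff_eq_mul] at h1
          exact h1
      have hPS : P ≤ S := by
        rcases hP with rfl | hP
        exacts [le_rfl, hP.1.1]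
      refine ⟨hQP, fun α hα => ?_⟩
      rw [img_congr (g := id) fun x hx => hfix _ _ (isMap_of_mem_autGroup hPS hα) x (hQP hx) hx,
        img_id]
    refine isCentral_iff.2 ⟨hQS, fun P f hf => ?_⟩
    obtain ⟨g, hg, he, -⟩ := (isNormal_iff.1 hQ).2 P f hf
    exact ⟨g, hg, he, fun x hx => hfix _ g hg x (Subgroup.mem_sup_right hx) hx⟩

end Cfsg.Agent.S5084
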