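import Cfsg.Statements.S5087
import Cfsg.Agent.Lib.Fusion.Normal

set_option autoImplicit false
open Cfsg

namespace Cfsg.Agent.S5087

open Cfsg.FusionSystem Cfsg.Agent.Fusion.Basic Cfsg.Agent.Fusion.Saturation Cfsg.Agent.Fusion.Alperin Cfsg.Agent.Fusion.Normal

/-- In a saturated fusion system over a finite p-group S, a subgroup Q is normal in the system if and only if every subgroup P that equals S or is essential contains Q and every element of Aut_F(P) maps Q onto itself. -/
theorem result {Ω : Type*} [Group Ω] {S : Subgroup Ω} [Finite S] (p : ℕ) [Fact p.Prime] (hS : IsPGroup p S) (F : Cfsg.FusionSystem S) (hF : F.IsSaturated p) (Q : Subgroup Ω) : F.IsNormal Q ↔ ∀ P : Subgroup Ω, (P = S ∨ F.IsEssential p P) → (Q ≤ P ∧ ∀ α ∈ F.autGroup P, (Q.subgroupOf P).map α.toMonoidHom = Q.subgroupOf P) := by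
  constructor
  · intro h P hP
    obtain ⟨h1, h2⟩ := normal_invariant hS h hP
    refine ⟨h1, fun α hα => ?_⟩
    apply Subgroup.map_injective P.subtype_injective
    rw [Subgroup.map_subgroupOf_eq_of_le h1, Subgroup.map_map,
      map_subgroupOf_eq_img (f := autFun α) (fun x => (autFun_apply α x).symm) h1, h2 α hα]
  · intro h
    refine normal_of_invariant hS hF fun P hP => ?_
    obtain ⟨h1, h2⟩ := h P hP
    refine ⟨h1, fun α hα => ?_⟩
    rw [← map_subgroupOf_eq_img (φ := P.subtype.comp α.toMonoidHom) (f := autFun α)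
      (fun x => (autFun_apply α x).symm) h1, ← Subgroup.map_map, h2 α hα,
      Subgroup.map_subgroupOf_eq_of_le h1]

end Cfsg.Agent.S5087
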