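import Cfsg.Statements.S5088
import Cfsg.Agent.Lib.Fusion.Normal

set_option autoImplicit false
open Cfsg

namespace Cfsg.Agent.S5088

open Cfsg.FusionSystem Cfsg.Agent.Fusion.Basic Cfsg.Agent.Fusion.Saturation Cfsg.Agent.Fusion.Alperin Cfsg.Agent.Fusion.Normal

/-- In a saturated fusion system over a finite p-group, a subgroup Q is normal in the system if and only if there is a chain of subgroups 1 = Q₀ ≤ Q₁ ≤ ⋯ ≤ Qₙ = Q such that each Qᵢ with i ≥ 1 is strongly closed in the system and [Q, Qᵢ] ≤ Qᵢ₋₁. -/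
theorem result {Ω : Type*} [Group Ω] {S : Subgroup Ω} [Finite S] (p : ℕ) [Fact p.Prime] (hS : IsPGroup p S) (F : Cfsg.FusionSystem S) (hF : F.IsSaturated p) (Q : Subgroup Ω) : F.IsNormal Q ↔ ∃ (n : ℕ) (Qs : Fin (n + 1) → Subgroup Ω), Qs 0 = ⊥ ∧ Qs (Fin.last n) = Q ∧ Monotone Qs ∧ ∀ i : Fin n, F.StronglyClosed (Qs i.succ) ∧ ⁅Q, Qs i.succ⁆ ≤ Qs (Fin.castSucc i) := by
  constructor
  · intro h
    obtain ⟨n, C, h0, hn, hmono, hnorm, -, hcomm⟩ := normal_series hS h
    refine ⟨n, fun i => C i, h0, hn, fun i j hij => hmono hij, fun i => ⟨normal_stronglyClosed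
      (hnorm _), ?_⟩⟩
    rw [Subgroup.commutator_le]
    intro x hx y hy
    rw [commutatorElement_def]
    exact hcomm i x hx y hy
  · rintro ⟨n, Qs, h0, hn, hmono, hstep⟩
    have hsc : ∀ i : Fin (n + 1), F.StronglyClosed (Qs i) := by
      intro i
      rcases Fin.eq_zero_or_eq_succ i with rfl | ⟨j, rfl⟩
      · rw [h0]; exact normal_stronglyClosed isNormal_bot
      · exact (hstep j).1
    refine normal_of_series hS hF n (fun i => Qs ⟨min i n, by omega⟩) ?_ ?_ (fun i hi => hmono ?_)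
      (fun i _ => hsc _) fun i hi x hx y hy => ?_
    · simpa using h0
    · rw [← hn]; exact congrArg Qs (Fin.ext (min_self n))
    · exact Fin.mk_le_mk.2 (by omega)
    · have h1 := (hstep ⟨i, hi⟩).2
      have e1 : (⟨min (i + 1) n, by omega⟩ : Fin (n + 1)) = (⟨i, hi⟩ : Fin n).succ :=
        Fin.ext (show min (i + 1) n = i + 1 by omega)
      have e2 : (⟨min i n, by omega⟩ : Fin (n + 1)) = Fin.castSucc ⟨i, hi⟩ :=
        Fin.ext (show min i n = i by omega)
      simp only [e2]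
      simp only [e1] at hy
      exact h1 (Subgroup.commutator_mem_commutator hx hy)

end Cfsg.Agent.S5088
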