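import Cfsg.Statements.S5089
import Cfsg.Agent.Lib.Fusion.Normal

set_option autoImplicit false
open Cfsg

namespace Cfsg.Agent.S5089

open Cfsg.FusionSystem Cfsg.Agent.Fusion.Basic Cfsg.Agent.Fusion.Saturation Cfsg.Agent.Fusion.Alperin Cfsg.Agent.Fusion.Normal

/-- A saturated fusion system over a finite p-group has a nontrivial subgroup that is normal in the system (O_p(F) ≠ 1) if and only if some nontrivial abelian subgroup is strongly closed in the system. -/
theorem result {Ω : Type*} [Group Ω] {S : Subgroup Ω} [Finite S] (p : ℕ) [Fact p.Prime] (hS : IsPGroup p S) (F : Cfsg.FusionSystem S) (hF : F.IsSaturated p) : F.core ≠ ⊥ ↔ ∃ Q : Subgroup Ω, Q ≠ ⊥ ∧ IsMulCommutative Q ∧ F.StronglyClosed Q := by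
  constructor
  · intro hne
    have hn := core_isNormal (F := F)
    have hfin : Finite F.core := finite_of_le hn.1
    have hnt : Nontrivial F.core := (Subgroup.nontrivial_iff_ne_bot _).2 hne
    have hz : Nontrivial (Subgroup.center F.core) := (hS.to_le hn.1).center_nontrivial
    refine ⟨(Subgroup.center F.core).map F.core.subtype, ?_, ⟨⟨?_⟩⟩, normal_stronglyClosed
      (isNormal_of_char hn (Subgroup.map_subtype_le _) ?_)⟩
    · rw [Ne, Subgroup.map_eq_bot_iff_of_injective _ F.core.subtype_injective]
      exact (Subgroup.nontrivial_iff_ne_bot _).1 hz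
    · rintro ⟨_, a, ha, rfl⟩ ⟨_, b, hb, rfl⟩
      exact Subtype.ext (show (a : Ω) * b = b * a from
        congrArg Subtype.val (Subgroup.mem_center_iff.1 hb a))
    · rw [Subgroup.subgroupOf, Subgroup.comap_map_eq_self_of_injective F.core.subtype_injective]
      infer_instance
  · rintro ⟨Q, hQ, hab, hsc⟩ hcore
    have hN : F.IsNormal Q := by
      refine normal_of_series hS hF 1 (fun i => if i = 0 then ⊥ else Q) (by simp) (by simp)
        (fun i hi => ?_) (fun i hi => ?_) fun i hi x hx y hy => ?_
      · obtain rfl : i = 0 := by omega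
        simp
      · rcases Nat.eq_zero_or_pos i with rfl | h
        · simpa using normal_stronglyClosed isNormal_bot
        · simpa [h.ne'] using hsc
      · obtain rfl : i = 0 := by omega
        simp only [if_true, Subgroup.mem_bot]
        rw [show x * y = y * x from congrArg Subtype.val
          (hab.is_comm.comm ⟨x, hx⟩ ⟨y, by simpa using hy⟩)]
        simp [mul_assoc]
    exact hQ (le_bot_iff.1 (hcore ▸ le_core hN))

end Cfsg.Agent.S5089
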