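import Cfsg.Statements.S5102
import Cfsg.Agent.Lib.Fusion.Group

set_option autoImplicit false
open Cfsg

namespace Cfsg.Agent.S5102

open Cfsg.FusionSystem Cfsg.Agent.Fusion.Basic Cfsg.Agent.Fusion.Saturation Cfsg.Agent.Fusion.SylIn Cfsg.Agent.Fusion.Group

/-- A normal p-subgroup of a finite group G is normal in the fusion system of G on a Sylow p-subgroup. -/
theorem result {G : Type*} [Group G] [Finite G] (p : ℕ) [Fact p.Prime] (S : Sylow p G) (R : Subgroup G) [R.Normal] (hR : IsPGroup p R) : (Cfsg.groupFusionSystem (S : Subgroup G)).IsNormal R := by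
  have hRS : R ≤ (S : Subgroup G) := hR.le_sylow_of_normal S
  refine ⟨hRS, fun P φ hφ => ?_⟩
  obtain ⟨hP, hS, g, he⟩ := hφ
  have hle : P ⊔ R ≤ (S : Subgroup G).comap (MulAut.conj g).toMonoidHom := by
    refine sup_le (fun x hx => ?_) (fun x hx => hRS (‹R.Normal›.conj_mem x hx g))
    show g * x * g⁻¹ ∈ (S : Subgroup G)
    have h := hS ⟨x, hx⟩
    rwa [he] at h
  have hm : IsMap (Cfsg.groupFusionSystem (S : Subgroup G)) (P ⊔ R) (cj g) :=
    isMap_group_iff.2 ⟨sup_le hP hRS, fun x hx => hle hx, g, fun _ _ => rfl⟩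
  refine ⟨hm.hom, hm.hom_mem_self, fun x => (he x).symm, ?_⟩
  rw [map_subgroupOf_eq_img (f := cj g) (fun _ => rfl) le_sup_right]
  exact img_cj_eq_of_mem_normalizer (Subgroup.normalizer_eq_top R ▸ Subgroup.mem_top g)

end Cfsg.Agent.S5102
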