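import Cfsg.Statements.S5107
import Cfsg.Agent.Lib.Fusion.Normal
import Cfsg.Agent.Lib.Fusion.Group

set_option autoImplicit false
open Cfsg

namespace Cfsg.Agent.S5107

open Cfsg.FusionSystem Cfsg.Agent.Fusion.Basic Cfsg.Agent.Fusion.Saturation Cfsg.Agent.Fusion.Normal Cfsg.Agent.Fusion.Group

/-- If a Sylow p-subgroup S of a finite group G has nilpotency class at most two and its centre is strongly closed in S with respect to G, then every map of the fusion system of G on S is conjugation by an element of N_G(S), and S is the largest subgroup normal in that fusion system. -/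
theorem result {G : Type*} [Group G] [Finite G] (p : ℕ) [Fact p.Prime] (S : Sylow p G) (hcl : ⁅(S : Subgroup G), (S : Subgroup G)⁆ ≤ (S : Subgroup G) ⊓ Subgroup.centralizer ((S : Subgroup G) : Set G)) (hZ : Cfsg.IsStronglyClosed ((S : Subgroup G) ⊓ Subgroup.centralizer ((S : Subgroup G) : Set G)) (S : Subgroup G)) : (∀ (P : Subgroup G) (φ : P →* G), φ ∈ (Cfsg.groupFusionSystem (S : Subgroup G)).Hom P → ∃ g ∈ Subgroup.normalizer ((S : Subgroup G) : Set G), ∀ x : P, φ x = g * (x : G) * g⁻¹) ∧ (Cfsg.groupFusionSystem (S : Subgroup G)).core = S := by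
  set Z := (S : Subgroup G) ⊓ Subgroup.centralizer ((S : Subgroup G) : Set G) with hZdef
  have hFs := group_saturated S
  have hn : (groupFusionSystem (S : Subgroup G)).IsNormal (S : Subgroup G) := by
    refine normal_of_series S.isPGroup' hFs 2
      (fun i => if i = 0 then ⊥ else if i = 1 then Z else (S : Subgroup G)) rfl rfl ?_ ?_ ?_
    · intro i hi
      interval_cases i <;> simp [hZdef]
    · intro i hi
      interval_cases i
      · exact normal_stronglyClosed isNormal_bot
      · refine ⟨inf_le_left, fun R hR φ hφ x => ?_⟩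
        obtain ⟨-, hT, g, he⟩ := isMap_group_iff.1 (IsMap.of_hom hφ)
        have h2 := he x x.2
        rw [ext_apply, cj_apply] at h2
        show φ x ∈ Z
        rw [h2]
        refine hZ.2 _ (hR x.2) g ?_
        rw [← h2, ← ext_apply φ x]
        exact hT x x.2
      · exact ⟨le_rfl, fun R hR φ hφ x => (FusionSystem.le_of_mem _ hφ).2 x⟩
    · intro i hi x hx y hy
      interval_cases i
      · have hy' : y ∈ Z := hy
        have h1 := (Subgroup.mem_inf.1 hy').2 x hx
        simp [h1]
      · exact hcl (Subgroup.commutator_mem_commutator hx hy)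
  refine ⟨fun P φ hφ => ?_, le_antisymm (sSup_le fun Q hQ => hQ.1) (le_core hn)⟩
  obtain ⟨f, hf, hfe, hfS⟩ := (isNormal_iff.1 hn).2 P _ (IsMap.of_hom hφ)
  obtain ⟨-, -, g, hg⟩ := isMap_group_iff.1 hf
  refine ⟨g, mem_normalizer_of_forall fun x hx => ?_, fun x => ?_⟩
  · have h := mem_img_self f hx
    rw [hfS, hg x (Subgroup.mem_sup_right hx), cj_apply] at h
    exact h
  · rw [← ext_apply φ x, ← hfe x x.2, hg x (Subgroup.mem_sup_left x.2), cj_apply]

end Cfsg.Agent.S5107
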