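import Cfsg.Statements.S5112
import Cfsg.Agent.Lib.Fusion.TwoGroupAut
import Cfsg.Agent.S3116
import Cfsg.Agent.BlocksChars.GagolaSolvable

set_option autoImplicit false
open Cfsg

namespace Cfsg.Agent.S5112

open Cfsg.FusionSystem Cfsg.Agent.Fusion.Basic Cfsg.Agent.Fusion.TwoGroupAut

/-- If S is a dihedral or generalized quaternion 2-group of order at least 16, then in every saturated fusion system over S (at the prime 2) the automorphism group Aut_F(S) consists of the inner automorphisms of S. -/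
theorem result {Ω : Type*} [Group Ω] {S : Subgroup Ω} [Finite S] (n : ℕ) (hn : 4 ≤ n) (hshape : Nonempty (S ≃* DihedralGroup (2 ^ (n - 1))) ∨ Nonempty (S ≃* QuaternionGroup (2 ^ (n - 2)))) (F : Cfsg.FusionSystem S) (hF : F.IsSaturated 2) : F.autGroup S = Cfsg.Inn S := by
    have : Fact (Nat.Prime 2) := ⟨Nat.prime_two⟩
    have hp : IsPGroup 2 ↥S := by
      rcases hshape with ⟨⟨e⟩⟩ | ⟨⟨e⟩⟩
      · refine IsPGroup.of_card (n := n) ?_
        rw [Nat.card_congr e.toEquiv, DihedralGroup.nat_card, ← pow_succ', show n - 1 + 1 = n by omega]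
      · have : NeZero (2 ^ (n - 2)) := ⟨by positivity⟩
        refine IsPGroup.of_card (n := n) ?_
        rw [Nat.card_congr e.toEquiv, Nat.card_eq_fintype_card, QuaternionGroup.card,
          show 4 = 2 ^ 2 from rfl, ← pow_add]
        congr 1
        omega
    refine autGroup_eq_inn hp hF ?_
    rcases hshape with h | ⟨⟨e⟩⟩
    · obtain ⟨e⟩ := h
      exact Cfsg.Agent.S3116.result hp (Or.inl ⟨2 ^ (n - 1),
        (Nat.pow_le_pow_right two_pos (by omega : 2 ≤ n - 1)), ⟨e⟩⟩)
    · exact isPGroup_mulAut_congr e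
        (Cfsg.Agent.BlocksChars.GagolaSolvable.isPGroup_mulAut_quaternion (by omega))

end Cfsg.Agent.S5112
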