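import Cfsg.Statements.S5118
import Cfsg.Agent.Lib.Fusion.Group
import Cfsg.Agent.Lib.Fusion.Factor

set_option autoImplicit false
open Cfsg

namespace Cfsg.Agent.S5118

open Cfsg.FusionSystem Cfsg.Agent.Fusion Cfsg.Agent.Fusion.Basic Cfsg.Agent.Fusion.Saturation Cfsg.Agent.Fusion.SylIn Cfsg.Agent.Fusion.Group Cfsg.Agent.Fusion.Factor

/-- For a finite group G with Sylow p-subgroup S and a normal subgroup H, the fusion system of H on S ∩ H is a normal subsystem of the fusion system of G on S. -/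
theorem result {G : Type*} [Group G] [Finite G] (p : ℕ) [Fact p.Prime] (S : Sylow p G) (H : Subgroup G) [H.Normal] : (Cfsg.fusionSystemOfSubgroup H ((S : Subgroup G) ⊓ H) inf_le_right).IsNormalIn (Cfsg.groupFusionSystem (S : Subgroup G)) p := by
  set T := (S : Subgroup G) ⊓ H with hTdef
  have hTS : T ≤ (S : Subgroup G) := inf_le_left
  have hTH : T ≤ H := inf_le_right
  have hsyl : SylIn p T H := (of_sylow S).inf_normal le_top (by rw [Subgroup.normalizer_eq_top])
  have hsat := group_saturated S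
  have hsc : (groupFusionSystem (S : Subgroup G)).StronglyClosed T := by
    refine ⟨hTS, fun R hR φ hφ x => ⟨hφ.2.1 x, ?_⟩⟩
    obtain ⟨g, hg⟩ := hφ.2.2
    rw [hg]
    exact ‹H.Normal›.conj_mem _ (hTH (hR x.2)) g
  have hnT : (S : Subgroup G) ≤ Subgroup.normalizer (T : Set G) :=
    Normal.le_normalizer_of_stronglyClosed hsc
  refine ⟨⟨sub_saturated hsyl, hsat, ?_, hsc, ?_, ?_⟩, ?_⟩
  · rintro P φ ⟨hP, hφ, g, -, hg⟩
    exact ⟨hP.trans hTS, fun x => hTS (hφ x), g, hg⟩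
  · rintro P hPT φ ⟨-, hφT, h, hh, hhe⟩ α hα
    obtain ⟨-, -, g, hg⟩ := isMap_group_iff.1 (isMap_of_mem_autGroup hTS hα)
    have hval : ∀ x : T, ((α x : T) : G) = g * (x : G) * g⁻¹ := fun x => by
      rw [← autFun_apply, hg x x.2]; rfl
    refine ⟨conjHom _ (g * h * g⁻¹), ⟨?_, ?_, g * h * g⁻¹, ‹H.Normal›.conj_mem h hh g,
      fun _ => rfl⟩, ?_⟩
    · rintro _ ⟨y, -, rfl⟩
      exact SetLike.coe_mem _
    · rintro ⟨_, y, hy, rfl⟩
      show g * h * g⁻¹ * ((α y : T) : G) * (g * h * g⁻¹)⁻¹ ∈ T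
      have h1 := hφT ⟨y, hy⟩
      rw [hhe] at h1
      rw [show g * h * g⁻¹ * ((α y : T) : G) * (g * h * g⁻¹)⁻¹ = ((α ⟨_, h1⟩ : T) : G) by
        rw [hval, hval]; group]
      exact SetLike.coe_mem _
    · intro x hφx hαx
      show g * h * g⁻¹ * ((α ⟨x, hPT x.2⟩ : T) : G) * (g * h * g⁻¹)⁻¹ = _
      rw [hval, hval]
      show g * h * g⁻¹ * (g * (x : G) * g⁻¹) * (g * h * g⁻¹)⁻¹ = g * φ x * g⁻¹
      rw [hhe]
      group
  · rintro P hPT φ ⟨-, hφS, g, hg⟩
    obtain ⟨b, hb, hbe⟩ := exists_frattini (K := H) (of_sylow S) g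
    have hm : IsMap (groupFusionSystem (S : Subgroup G)) T (cj (b * g)) :=
      isMap_group_iff.2 ⟨hTS, hbe, b * g, fun _ _ => rfl⟩
    have hfin : Finite T := inferInstance
    obtain ⟨α, hα, hαe⟩ := hm.exists_aut (eq_of_le_card (img_le fun x hx =>
      (⟨hbe x hx, ‹H.Normal›.conj_mem x (hTH hx) (b * g)⟩ : cj (b * g) x ∈ T)) hm.card_img.ge)
    have hk : g⁻¹ * b⁻¹ * g ∈ H := by
      simpa using ‹H.Normal›.conj_mem _ (H.inv_mem hb) g⁻¹
    have hval : ∀ x : P, conjHom P (g⁻¹ * b⁻¹ * g) x = autFun α⁻¹ (φ x) := by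
      intro x
      have hφT : φ x ∈ T := ⟨hφS x, by rw [hg]; exact ‹H.Normal›.conj_mem _ (hTH (hPT x.2)) g⟩
      have h1 := hαe _ (autFun_mem α⁻¹ hφT)
      rw [autFun_apply_inv, hg] at h1
      show g⁻¹ * b⁻¹ * g * (x : G) * (g⁻¹ * b⁻¹ * g)⁻¹ = _
      rw [cj_apply] at h1
      calc g⁻¹ * b⁻¹ * g * (x : G) * (g⁻¹ * b⁻¹ * g)⁻¹
          = (b * g)⁻¹ * (g * (x : G) * g⁻¹) * (b * g) := by group
        _ = autFun α⁻¹ (φ x) := by rw [h1, hg]; group
    refine ⟨α, hα, conjHom P (g⁻¹ * b⁻¹ * g), ⟨hPT, fun x => ?_, _, hk, fun _ => rfl⟩,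
      fun x hx => ?_⟩
    · rw [hval x]
      exact autFun_mem α⁻¹ ⟨hφS x, by rw [hg]; exact ‹H.Normal›.conj_mem _ (hTH (hPT x.2)) g⟩
    · rw [← autFun_of_mem α hx, hval x, autFun_apply_inv]
  · intro α hα
    obtain ⟨-, -, h, hh, hhe⟩ := isMap_sub_iff.1 (isMap_of_mem_autGroup le_rfl hα)
    set C := centralizerIn (S : Subgroup G) T with hCdef
    let M := centralizerIn H T ⊔ C
    have hS' : SylIn p (normalizerIn (S : Subgroup G) T) (normalizerIn ⊤ T) := by
      have e : normalizerIn (S : Subgroup G) T = (S : Subgroup G) := inf_eq_left.2 hnT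
      rw [e]
      exact (of_sylow S).mono (le_inf le_top hnT) le_top
    have hMC : M ≤ centralizerIn ⊤ T :=
      sup_le (inf_le_inf_right _ le_top) (inf_le_inf_right _ le_top)
    have hC : SylIn p C M := (good_centralizer le_top hS').mono le_sup_right hMC
    have hN : h ∈ Subgroup.normalizer (T : Set G) := by
      refine mem_normalizer_of_forall fun x hx => ?_
      rw [← cj_apply, ← hhe x hx]
      exact autFun_mem α hx
    have hle : img (cj h) C ≤ M := by
      refine img_le fun x hx => ?_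
      rw [show cj h x = (h * x * h⁻¹ * x⁻¹) * x by simp [cj]]
      refine Subgroup.mul_mem _ (Subgroup.mem_sup_left ⟨?_, ?_⟩) (Subgroup.mem_sup_right hx)
      · simpa [mul_assoc] using H.mul_mem hh (‹H.Normal›.conj_mem _ (H.inv_mem hh) x)
      · refine Subgroup.mul_mem _ ?_ (Subgroup.inv_mem _ hx.2)
        intro y hy
        have h1 : h⁻¹ * y * h ∈ T := by
          simpa using (Subgroup.mem_normalizer_iff.1 (Subgroup.inv_mem _ hN) y).1 hy
        calc y * (h * x * h⁻¹) = h * (h⁻¹ * y * h * x) * h⁻¹ := by group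
          _ = h * (x * (h⁻¹ * y * h)) * h⁻¹ := by rw [hx.2 _ h1]
          _ = h * x * h⁻¹ * y := by group
    have hCp : IsPGroup p C := S.2.to_le inf_le_left
    obtain ⟨b, hb, hble⟩ := hC.exists_conj hle (isPGroup_img_cj hCp)
    have hnorm : C ≤ Subgroup.normalizer (centralizerIn H T : Set G) := by
      intro s hs
      refine mem_normalizer_of_forall fun x hx => ⟨‹H.Normal›.conj_mem x hx.1 s, ?_⟩
      exact Subgroup.mul_mem _ (Subgroup.mul_mem _ hs.2 hx.2) (Subgroup.inv_mem _ hs.2)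
    have hb' : b ∈ ((centralizerIn H T ⊔ C : Subgroup G) : Set G) := hb
    rw [sup_comm, Subgroup.coe_mul_of_left_le_normalizer_right _ _ hnorm] at hb'
    obtain ⟨s, hs, c, hc, rfl⟩ := hb'
    let u := c * h
    have huC : ∀ x ∈ C, u * x * u⁻¹ ∈ C := fun x hx => by
      have h1 := C.mul_mem (C.mul_mem (C.inv_mem hs) (hble (mem_img_self _ (mem_img_self _ hx)))) hs
      simpa [u, cj, mul_assoc] using h1
    have huT : ∀ x ∈ T, u * x * u⁻¹ = h * x * h⁻¹ := fun x hx => by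
      have hy : h * x * h⁻¹ ∈ T := (Subgroup.mem_normalizer_iff.1 hN x).1 hx
      calc u * x * u⁻¹ = c * (h * x * h⁻¹) * c⁻¹ := by simp [u, mul_assoc]
        _ = (h * x * h⁻¹) * c * c⁻¹ := by rw [hc.2 _ hy]
        _ = _ := by simp
    have hnC : ∀ y ∈ T ⊔ C, cj u y ∈ T ⊔ C := by
      intro y hy
      have : img (cj u) (T ⊔ C) ≤ T ⊔ C := by
        rw [img_cj, Subgroup.map_sup, ← img_cj, ← img_cj]
        refine sup_le_sup (img_le fun x hx => ?_) (img_le huC)
        rw [cj_apply, huT x hx]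
        exact (Subgroup.mem_normalizer_iff.1 hN x).1 hx
      exact this (mem_img_self _ hy)
    have hTC : T ⊔ C ≤ (S : Subgroup G) := sup_le hTS inf_le_left
    have hm : IsMap (groupFusionSystem (S : Subgroup G)) (T ⊔ C) (cj u) :=
      isMap_group_iff.2 ⟨hTC, fun y hy => hTC (hnC y hy), u, fun _ _ => rfl⟩
    have hfin : Finite (T ⊔ C : Subgroup G) := inferInstance
    obtain ⟨β, hβ, hβe⟩ := hm.exists_aut (eq_of_le_card (img_le hnC) hm.card_img.ge)
    refine ⟨β, hβ, fun x => ?_, fun y hy => ?_⟩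
    · rw [← autFun_apply, ← autFun_apply, hhe x x.2]
      exact (hβe _ (Subgroup.mem_sup_left x.2)).trans (huT x x.2)
    · rw [← autFun_apply, hβe _ y.2, cj_apply]
      have huH : u ∈ H := H.mul_mem hc.1 hh
      have h1 := huC y hy
      refine ⟨⟨(S : Subgroup G).mul_mem ((S : Subgroup G).inv_mem hy.1) h1.1, ?_⟩,
        Subgroup.mul_mem _ (Subgroup.inv_mem _ hy.2) h1.2⟩
      simpa [mul_assoc] using H.mul_mem (‹H.Normal›.conj_mem u huH (y : G)⁻¹) (H.inv_mem huH)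

end Cfsg.Agent.S5118
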