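import Cfsg.Statements.S5119
import Cfsg.Agent.Lib.Fusion.InvariantCriterion
-- import your own Cfsg.Agent.* helpers here

set_option autoImplicit false
open Cfsg

namespace Cfsg.Agent.S5119

open Cfsg.FusionSystem Cfsg.Agent.Fusion.Basic Cfsg.Agent.Fusion.InvariantCriterion

/-- Let F be a saturated fusion system over a finite p-group S and E a subsystem of F over a subgroup T that is strongly closed in F. Then E is invariant in F (invariance under Aut_F(T) plus the Frattini condition) if and only if the strong invariance condition holds: for P ≤ Q ≤ T, every map φ of E from P into Q and every map ψ of F with source Q, the transported map ψ φ ψ⁻¹ on ψ(P) is a map of E. -/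
theorem result {Ω : Type*} [Group Ω] {S : Subgroup Ω} [Finite S] (p : ℕ) [Fact p.Prime] (hS : IsPGroup p S) (F : Cfsg.FusionSystem S) (hF : F.IsSaturated p) {T : Subgroup Ω} (E : Cfsg.FusionSystem T) (hE : E.IsSubsystemOf F) (hT : F.StronglyClosed T) : E.IsInvariantIn F ↔ ∀ (P Q : Subgroup Ω) (hPQ : P ≤ Q) (_ : Q ≤ T) (φ : P →* Ω) (_ : φ ∈ E.Hom P) (hφQ : ∀ x : P, φ x ∈ Q) (ψ : Q →* Ω) (_ : ψ ∈ F.Hom Q), ∃ χ ∈ E.Hom ((P.subgroupOf Q).map ψ), ∀ (x : P) (hx : ψ (Subgroup.inclusion hPQ x) ∈ (P.subgroupOf Q).map ψ), χ ⟨ψ (Subgroup.inclusion hPQ x), hx⟩ = ψ ⟨φ x, hφQ x⟩ := by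
  constructor
  · intro hinv P Q hPQ hQT φ hφ hφQ ψ hψ
    obtain ⟨χ, hχ, he⟩ := strong_of_invariant hinv P Q (ext φ) (ext ψ) hPQ hQT (IsMap.of_hom hφ)
      (fun x hx => by rw [ext_of_mem φ hx]; exact hφQ _) (IsMap.of_hom hψ)
    have hdom : (P.subgroupOf Q).map ψ = img (ext ψ) P :=
      map_subgroupOf_eq_img (fun x => (ext_apply ψ x).symm) hPQ
    rw [← hdom] at hχ
    refine ⟨hχ.hom, hχ.hom_mem_self, fun x hx => ?_⟩
    have := he x x.2
    rw [ext_of_mem ψ (hPQ x.2), ext_apply φ x, ext_of_mem ψ (hφQ x)] at this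
    exact this
  · intro h
    have hTS := hT.1
    have hsi : Strong F E := by
      intro P Q φ ψ hPQ hQT hφ hmaps hψ
      obtain ⟨χ, hχ, he⟩ := h P Q hPQ hQT hφ.hom hφ.hom_mem_self
        (fun x => hmaps x x.2) hψ.hom hψ.hom_mem_self
      have hdom : (P.subgroupOf Q).map hψ.hom = img ψ P :=
        map_subgroupOf_eq_img (fun x => hψ.hom_apply x) hPQ
      have hχ' : IsMap E (img ψ P) (ext χ) := hdom ▸ IsMap.of_hom hχ
      refine ⟨ext χ, hχ', fun x hx => ?_⟩
      have hmem : hψ.hom (Subgroup.inclusion hPQ ⟨x, hx⟩) ∈ (P.subgroupOf Q).map hψ.hom :=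
        ⟨_, hx, rfl⟩
      have h1 := he ⟨x, hx⟩ hmem
      rw [← ext_apply χ] at h1
      exact h1
    refine ⟨hE, hT, fun P hPT φ hφ α hα => ?_, fun P hPT φ hφ => ?_⟩
    · obtain ⟨k, hk, hke⟩ := transport hTS hsi (IsMap.of_hom hφ) hα
      have hdom : (P.subgroupOf T).map (T.subtype.comp α.toMonoidHom) = img (autFun α) P :=
        map_subgroupOf_eq_img (fun x => (autFun_apply α x).symm) hPT
      rw [← hdom] at hk
      refine ⟨hk.hom, hk.hom_mem_self, fun x hφx hαx => ?_⟩
      have := hke x x.2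
      rw [ext_apply φ x, autFun_of_mem α (hPT x.2), autFun_of_mem α hφx] at this
      exact this
    · obtain ⟨α, hα, f₀, hf₀, he⟩ :=
        fac_of_strong hS hF hT hE hsi hPT (IsMap.of_hom hφ)
      refine ⟨α, hα, hf₀.hom, hf₀.hom_mem_self, fun x hx => ?_⟩
      have := he x x.2
      rw [ext_apply φ x] at this
      exact this.trans (autFun_of_mem α hx)

end Cfsg.Agent.S5119
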