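import Cfsg.Statements.S5122
import Cfsg.Agent.Lib.Fusion.Group

set_option autoImplicit false
open Cfsg

namespace Cfsg.Agent.S5122

open Cfsg.FusionSystem Cfsg.Agent.Fusion.Basic Cfsg.Agent.Fusion.Saturation Cfsg.Agent.Fusion.SylIn Cfsg.Agent.Fusion.Group

/-- Let G be a finite group with Sylow p-subgroup S. Every subgroup P of S has a G-conjugate Q ≤ S such that N_S(Q) is a Sylow p-subgroup of N_G(Q); and for any Q ≤ S with that property, C_S(Q) is a Sylow p-subgroup of C_G(Q) and the automorphisms of Q induced by N_S(Q) form a Sylow p-subgroup of those induced by N_G(Q). -/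
theorem result {G : Type*} [Group G] [Finite G] (p : ℕ) [Fact p.Prime] (S : Sylow p G) : (∀ P : Subgroup G, P ≤ S → ∃ g : G, P.map (MulAut.conj g).toMonoidHom ≤ S ∧ (∃ R : Sylow p ↥(Subgroup.normalizer ((P.map (MulAut.conj g).toMonoidHom : Subgroup G) : Set G)), (R : Subgroup ↥(Subgroup.normalizer ((P.map (MulAut.conj g).toMonoidHom : Subgroup G) : Set G))) = (Cfsg.FusionSystem.normalizerIn (S : Subgroup G) (P.map (MulAut.conj g).toMonoidHom)).subgroupOf (Subgroup.normalizer ((P.map (MulAut.conj g).toMonoidHom : Subgroup G) : Set G)))) ∧ ∀ Q : Subgroup G, Q ≤ S → (∃ R : Sylow p ↥(Subgroup.normalizer (Q : Set G)), (R : Subgroup ↥(Subgroup.normalizer (Q : Set G))) = (Cfsg.FusionSystem.normalizerIn (S : Subgroup G) Q).subgroupOf (Subgroup.normalizer (Q : Set G))) → (∃ R : Sylow p ↥(Subgroup.centralizer (Q : Set G)), (R : Subgroup ↥(Subgroup.centralizer (Q : Set G))) = (Cfsg.FusionSystem.centralizerIn (S : Subgroup G) Q).subgroupOf (Subgroup.centralizer (Q : Set G))) ∧ (∃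 R : Sylow p ↥(Cfsg.autInducedBy ⊤ Q), (R : Subgroup ↥(Cfsg.autInducedBy ⊤ Q)) = (Cfsg.autInducedBy (S : Subgroup G) Q).subgroupOf (Cfsg.autInducedBy ⊤ Q)) := by
  have eN : ∀ Q : Subgroup G, normalizerIn (⊤ : Subgroup G) Q = Subgroup.normalizer (Q : Set G) :=
    fun Q => top_inf_eq _
  have eC : ∀ Q : Subgroup G, centralizerIn (⊤ : Subgroup G) Q = Subgroup.centralizer (Q : Set G) :=
    fun Q => top_inf_eq _
  refine ⟨fun P hP => ?_, fun Q hQ hR => ?_⟩
  · obtain ⟨g, -, hle, hs⟩ := exists_good (of_sylow S) hP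
    rw [img_cj, eN, sylIn_iff_exists (normalizerIn_le_normalizer _ _)] at hs
    rw [img_cj] at hle
    exact ⟨g, hle, hs⟩
  · have hs : SylIn p (normalizerIn (S : Subgroup G) Q) (normalizerIn ⊤ Q) := by
      rw [eN, sylIn_iff_exists (normalizerIn_le_normalizer _ _)]
      exact hR
    refine ⟨?_, ?_⟩
    · have h := good_centralizer le_top hs
      rwa [eC, sylIn_iff_exists (centralizerIn_le_centralizer _ _)] at h
    · have hle : Cfsg.autInducedBy (S : Subgroup G) Q ≤ Cfsg.autInducedBy ⊤ Q := by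
        rw [← autGroup_group hQ]
        exact autInducedBy_le hQ
      rw [← sylIn_iff_exists hle]
      exact ⟨hle, isPGroup_autInducedBy S.2, autInduced_sylIn le_top hs⟩

end Cfsg.Agent.S5122
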