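import Cfsg.Statements.S5123
import Cfsg.Agent.Lib.Fusion.Group

set_option autoImplicit false
open Cfsg

namespace Cfsg.Agent.S5123

open Cfsg.FusionSystem Cfsg.Agent.Fusion.Basic Cfsg.Agent.Fusion.Saturation Cfsg.Agent.Fusion.SylIn Cfsg.Agent.Fusion.Group

/-- Let G be a finite group with Sylow p-subgroup S, P, Q ≤ S and g ∈ G with gPg⁻¹ = Q, and suppose N_S(Q) is a Sylow p-subgroup of N_G(Q). Let N be the set of x ∈ N_S(P) with gxg⁻¹ ∈ N_S(Q)C_G(Q). Then some h ∈ C_G(Q) satisfies (hg)N(hg)⁻¹ ≤ S. -/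
theorem result {G : Type*} [Group G] [Finite G] (p : ℕ) [Fact p.Prime] (S : Sylow p G) (P Q : Subgroup G) (hP : P ≤ S) (hQ : Q ≤ S) (g : G) (hg : P.map (MulAut.conj g).toMonoidHom = Q) (hN : (∃ R : Sylow p ↥(Subgroup.normalizer (Q : Set G)), (R : Subgroup ↥(Subgroup.normalizer (Q : Set G))) = (Cfsg.FusionSystem.normalizerIn (S : Subgroup G) Q).subgroupOf (Subgroup.normalizer (Q : Set G)))) : ∃ h ∈ Subgroup.centralizer (Q : Set G), ((Cfsg.FusionSystem.normalizerIn (S : Subgroup G) P) ⊓ (Cfsg.FusionSystem.normalizerIn (S : Subgroup G) Q ⊔ Subgroup.centralizer (Q : Set G)).comap (MulAut.conj g).toMonoidHom).map (MulAut.conj (h * g)).toMonoidHom ≤ S := by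
  have eN : normalizerIn (⊤ : Subgroup G) Q = Subgroup.normalizer (Q : Set G) := top_inf_eq _
  have eC : centralizerIn (⊤ : Subgroup G) Q = Subgroup.centralizer (Q : Set G) := top_inf_eq _
  have hs : SylIn p (normalizerIn (S : Subgroup G) Q) (normalizerIn ⊤ Q) := by
    rw [eN, sylIn_iff_exists (normalizerIn_le_normalizer _ _)]
    exact hN
  obtain ⟨c, hc, hle⟩ := exists_centralizer_conj le_top hs
    (isPGroup_img_cj (g := g)
      ((S.2.to_le normalizerIn_le).to_le (inf_le_left :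
        Cfsg.FusionSystem.normalizerIn (S : Subgroup G) P ⊓
          (Cfsg.FusionSystem.normalizerIn (S : Subgroup G) Q ⊔
            Subgroup.centralizer (Q : Set G)).comap (MulAut.conj g).toMonoidHom ≤ _)))
    (by rw [eC]; exact img_le fun x hx => hx.2)
  refine ⟨c, eC ▸ hc, ?_⟩
  rw [img_cj_img_cj, img_cj] at hle
  exact hle

end Cfsg.Agent.S5123
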