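import Cfsg.Statements.S5125
import Cfsg.Agent.Lib.Fusion.Normal

set_option autoImplicit false
open Cfsg

namespace Cfsg.Agent.S5125

open Cfsg.FusionSystem Cfsg.Agent.Fusion.Basic Cfsg.Agent.Fusion.Saturation Cfsg.Agent.Fusion.Normal

/-- Let F be a saturated fusion system over a finite p-group S and Q a subgroup strongly closed in F. If Q has a subgroup Q₁ that is normal in F, with Q/Q₁ abelian and Aut_F(Q₁) a p-group, then Q is normal in F. -/
theorem result {Ω : Type*} [Group Ω] {S : Subgroup Ω} [Finite S] (p : ℕ) [Fact p.Prime] (hS : IsPGroup p S) (F : Cfsg.FusionSystem S) (hF : F.IsSaturated p) (Q Q₁ : Subgroup Ω) (hQ : F.StronglyClosed Q) (hQ₁Q : Q₁ ≤ Q) (hQ₁ : F.IsNormal Q₁) (hab : ⁅Q, Q⁆ ≤ Q₁) (hAut : IsPGroup p ↥(F.autGroup Q₁)) : F.IsNormal Q := by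
  have : Finite Q₁ := finite_of_le hQ₁.1
  have hQ₁n : S ≤ Subgroup.normalizer (Q₁ : Set Ω) :=
    le_normalizer_of_stronglyClosed (normal_stronglyClosed hQ₁)
  let act : F.autGroup Q₁ →* MulAut Q₁ := (F.autGroup Q₁).subtype
  have : Finite (Q₁ ⋊[act] F.autGroup Q₁) := Finite.of_equiv _ SemidirectProduct.equivProd.symm
  have hp : IsPGroup p (Q₁ ⋊[act] F.autGroup Q₁) := by
    obtain ⟨a, ha⟩ := IsPGroup.iff_card.1 (hS.to_le hQ₁.1)
    obtain ⟨b, hb⟩ := IsPGroup.iff_card.1 hAut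
    refine IsPGroup.of_card (n := a + b) ?_
    rw [Nat.card_congr SemidirectProduct.equivProd, Nat.card_prod, ha, hb, pow_add]
  have : Group.IsNilpotent (Q₁ ⋊[act] F.autGroup Q₁) := hp.isNilpotent
  obtain ⟨n, hn⟩ := Group.IsNilpotent.nilpotent (Q₁ ⋊[act] F.autGroup Q₁)
  let D : ℕ → Subgroup Q₁ := fun i =>
    (Subgroup.upperCentralSeries (Q₁ ⋊[act] F.autGroup Q₁) i).comap SemidirectProduct.inl
  have hDinv : ∀ i, ∀ α ∈ F.autGroup Q₁, ∀ y ∈ D i, α y ∈ D i := by
    intro i α hα y hy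
    show SemidirectProduct.inl (φ := act) (act ⟨α, hα⟩ y) ∈ Subgroup.upperCentralSeries _ i
    rw [SemidirectProduct.inl_aut, map_inv]
    exact (inferInstance : (Subgroup.upperCentralSeries (Q₁ ⋊[act] F.autGroup Q₁) i).Normal).conj_mem
      _ hy _
  have hDcomm : ∀ i, ∀ α ∈ F.autGroup Q₁, ∀ y ∈ D (i + 1), α y * y⁻¹ ∈ D i := by
    intro i α hα y hy
    have h1 := (Subgroup.upperCentralSeries (Q₁ ⋊[act] F.autGroup Q₁) i).inv_mem
      (Subgroup.mem_upperCentralSeries_succ_iff.1 hy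
        (SemidirectProduct.inr (φ := act) ⟨α, hα⟩))
    show SemidirectProduct.inl (φ := act) (act ⟨α, hα⟩ y * y⁻¹) ∈ Subgroup.upperCentralSeries _ i
    rw [map_mul, SemidirectProduct.inl_aut]
    simpa [commutatorElement_def, mul_assoc] using h1
  let C : ℕ → Subgroup Ω := fun i => if i ≤ n then (D i).map Q₁.subtype else Q
  have hC : ∀ i, i ≤ n → C i = (D i).map Q₁.subtype := fun i hi => if_pos hi
  have hCn : C n = Q₁ := by
    rw [hC n le_rfl]
    show Subgroup.map _ (Subgroup.comap _ _) = _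
    rw [hn, Subgroup.comap_top, ← MonoidHom.range_eq_map, Subgroup.range_subtype]
  refine normal_of_series hS hF (n + 1) C ?_ (if_neg (by omega)) ?_ ?_ ?_
  · rw [hC 0 (Nat.zero_le n)]
    show Subgroup.map _ (Subgroup.comap _ _) = _
    rw [Subgroup.upperCentralSeries_zero, MonoidHom.comap_bot, (MonoidHom.ker_eq_bot_iff _).2 SemidirectProduct.inl_injective,
      Subgroup.map_bot]
  · intro i hi
    rcases Nat.lt_or_ge i n with h | h
    · rw [hC i h.le, hC (i + 1) h]
      exact Subgroup.map_mono (Subgroup.comap_mono (Subgroup.upperCentralSeries_mono _ (Nat.le_succ i)))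
    · obtain rfl : i = n := by omega
      rw [hCn, show C (i + 1) = Q from if_neg (by omega)]
      exact hQ₁Q
  · intro i hi
    rcases Nat.lt_or_ge n i with h | h
    · rw [show C i = Q from if_neg (by omega)]
      exact hQ
    rw [hC i h]
    refine ⟨(Subgroup.map_subtype_le _).trans hQ₁.1, fun R hR φ hφ x => ?_⟩
    obtain ⟨g, hg, he, hgQ⟩ := (isNormal_iff.1 hQ₁).2 R _ (IsMap.of_hom hφ)
    rw [sup_eq_right.2 (hR.trans (Subgroup.map_subtype_le _))] at hg
    obtain ⟨α, hα, hαe⟩ := hg.exists_aut hgQ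
    obtain ⟨y, hy, hyx⟩ := hR x.2
    rw [← ext_apply φ x, ← he x x.2, ← hyx, Subgroup.subtype_apply, ← hαe y y.2, autFun_apply]
    exact ⟨α y, hDinv i α hα y hy, rfl⟩
  · intro i hi x hx y hy
    rcases Nat.lt_or_ge i n with h | h
    · rw [hC (i + 1) h] at hy
      rw [hC i h.le]
      obtain ⟨y, hy, rfl⟩ := hy
      have hxS : x ∈ S := hQ.1 hx
      have hm := isMap_cj (F := F) hQ₁.1 hxS
      obtain ⟨α, hα, hαe⟩ := hm.exists_aut (img_cj_eq_of_mem_normalizer (hQ₁n hxS))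
      refine ⟨α y * y⁻¹, hDcomm i α hα y hy, ?_⟩
      rw [Subgroup.subtype_apply, Subgroup.subtype_apply, Subgroup.coe_mul, Subgroup.coe_inv,
        ← autFun_apply, hαe y y.2, cj_apply]
    · obtain rfl : i = n := by omega
      rw [show C (i + 1) = Q from if_neg (by omega)] at hy
      rw [hCn]
      exact hab (Subgroup.commutator_mem_commutator hx hy)

end Cfsg.Agent.S5125
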