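import Cfsg.Statements.S5130
import Mathlib
import Cfsg.Agent.Lib.Fusion.Saturation
import Cfsg.Agent.Lib.Fusion.Normal
import Cfsg.Agent.Lib.Fusion.Subsystems
import Cfsg.Agent.Lib.Fusion.Factor
import Cfsg.Agent.Lib.Fusion.Focal
import Cfsg.Agent.Lib.Fusion.Solvable
-- import your own Cfsg.Agent.* helpers here

set_option autoImplicit false
set_option linter.all false
open Cfsg

namespace Cfsg.Agent.S5130

open Cfsg Cfsg.FusionSystem Cfsg.Agent.Fusion Cfsg.Agent.Fusion.Basic Cfsg.Agent.Fusion.Saturation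
  Cfsg.Agent.Fusion.Normal Cfsg.Agent.Fusion.Subsystems

section Helpers

variable {Ω : Type*} [Group Ω] {S A B P Q : Subgroup Ω} {p : ℕ} {F : FusionSystem S}

/-- Two strongly closed commuting factors of `S`. -/
structure Fac (p : ℕ) (F : FusionSystem S) (A B : Subgroup Ω) : Prop where
  finite : Finite S
  hS : IsPGroup p S
  sat : F.IsSaturated p
  comm : ∀ a ∈ A, ∀ b ∈ B, a * b = b * a
  sup : A ⊔ B = S
  scA : F.StronglyClosed A
  scB : F.StronglyClosed B

variable (d : Fac p F A B)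
include d

theorem Fac.symm : Fac p F B A :=
  ⟨d.finite, d.hS, d.sat, fun b hb a ha => (d.comm a ha b hb).symm, by rw [sup_comm, d.sup],
    d.scB, d.scA⟩

theorem Fac.dec {s : Ω} (hs : s ∈ S) : ∃ a ∈ A, ∃ b ∈ B, a * b = s := by
  have := d.finite
  refine Factor.coe_sup_of_normal (le_normalizer_of_stronglyClosed d.scB) d.scA.1 ?_
  rw [d.sup]
  exact hs

theorem Fac.B_le_cent (hP : P ≤ A) : B ≤ centralizerIn S P := fun b hb =>
  ⟨d.scB.1 hb, fun a ha => d.comm a (hP ha) b hb⟩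

theorem Fac.conj_A {a b x : Ω} (hb : b ∈ B) (hx : x ∈ A) :
    a * b * x * (a * b)⁻¹ = a * x * a⁻¹ := by
  rw [mul_assoc a b x, ← d.comm x hx b hb]
  group

theorem Fac.mem_A {f : Ω → Ω} (hf : IsMap F P f) {x : Ω} (hx : x ∈ P) (hxA : x ∈ A) : f x ∈ A :=
  stronglyClosed_mem d.scA hf hx hxA

theorem Fac.img_B {f : Ω → Ω} (hf : IsMap F P f) (hB : B ≤ P) : img f B = B :=
  have := d.finite
  stronglyClosed_img d.scB hf hB

/-- Two maps agreeing on `A` and on `B` agree on the product. -/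
theorem Fac.agree {R : Subgroup Ω} {f g : Ω → Ω} (hf : IsMap F R f) (hg : IsMap F R g)
    (hR : R ≤ S) (hB : B ≤ R) (hA : ∀ x ∈ R, x ∈ A → f x = g x) (hb : ∀ x ∈ B, f x = g x)
    {x : Ω} (hx : x ∈ R) : f x = g x := by
  obtain ⟨a, ha, b, hb', rfl⟩ := d.dec (hR hx)
  have haR : a ∈ R := by simpa using R.mul_mem hx (R.inv_mem (hB hb'))
  rw [hf.map_mul haR (hB hb'), hg.map_mul haR (hB hb'), hA a haR ha, hb b hb']

variable [Fact p.Prime]

/-- A map containing `B` in its source agrees on `B` with one defined on all of `S`. -/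
theorem Fac.extend_S {h : Ω → Ω} (hh : IsMap F B h) :
    ∃ β, IsMap F S β ∧ ∀ b ∈ B, β b = h b := by
  have := d.finite
  have hfn : F.IsFullyNormalized B := ⟨d.scB.1, fun Q hQ => by
    obtain ⟨f, hf, rfl⟩ := isConj_iff_map.1 hQ
    rw [d.img_B hf le_rfl]⟩
  have hfc : F.IsFullyCentralized (img h B) := by
    rw [d.img_B hh le_rfl]
    exact fullyNormalized_fullyCentralized d.hS d.sat hfn
  obtain ⟨β, hβ, hβe⟩ := exists_extension d.hS d.sat hh hfc
  refine ⟨β, hβ.restrict fun s hs => mem_nSub.2 ⟨hs, le_normalizer_of_stronglyClosed d.scB hs, ?_⟩,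
    hβe⟩
  obtain ⟨a, ha, b, hb, rfl⟩ := d.dec hs
  refine ⟨h b, hh.mem hb, fun x hx => ?_⟩
  have hy : b * x * b⁻¹ ∈ B := B.mul_mem (B.mul_mem hb hx) (B.inv_mem hb)
  have h1 : a * b * x * (a * b)⁻¹ = b * x * b⁻¹ := by
    rw [show a * b * x * (a * b)⁻¹ = a * (b * x * b⁻¹) * a⁻¹ by group, d.comm a ha _ hy]
    group
  rw [h1, hh.map_conj hb hx]

/-- Every map on a subgroup of `A` extends to one defined also on `B`. -/
theorem Fac.extend_B {f : Ω → Ω} (hP : P ≤ A) (hf : IsMap F P f) :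
    ∃ h, IsMap F (P ⊔ B) h ∧ ∀ x ∈ P, h x = f x := by
  have := d.finite
  have hQA : img f P ≤ A := img_le fun x hx => d.mem_A hf hx (hP hx)
  obtain ⟨Q', hQ', hfn⟩ := exists_fullyNormalized (F := F) hf.img_le_S
  obtain ⟨g, hg, hgi⟩ := exists_map_to_fullyNormalized d.hS d.sat hfn hQ'
  have hQN : img f P ≤ normalizerIn S (img f P) := le_normalizerIn hf.img_le_S
  have hm : IsMap F P (fun x => g (f x)) := hg.comp hf fun x hx => hQN (mem_img_self f hx)
  have himg : img (fun x => g (f x)) P = Q' := by rw [← hf.img_img, hgi]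
  obtain ⟨k, hk, hke⟩ := exists_extension d.hS d.sat hm
    (by rw [himg]; exact fullyNormalized_fullyCentralized d.hS d.sat hfn)
  have hk' := hk.restrict (sup_le (le_nSub hm) ((d.B_le_cent hP).trans centralizerIn_le_nSub))
  have hBN : B ≤ normalizerIn S (img f P) :=
    (d.B_le_cent hQA).trans centralizerIn_le_normalizerIn
  have hg' := hg.restrict (sup_le hQN hBN)
  obtain ⟨gi, hgi', -, hgi'', -⟩ := hg'.exists_inv
  have hkB : img k B = B := d.img_B hk' le_sup_right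
  have hgB : img g B = B := d.img_B hg' le_sup_right
  have himgk : img k (P ⊔ B) = img g (img f P ⊔ B) := by
    rw [hk'.img_sup, hg'.img_sup, hkB, hgB, img_congr hke, himg, hgi]
  refine ⟨fun x => gi (k x), hgi'.comp hk' fun x hx => himgk ▸ mem_img_self k hx, fun x hx => ?_⟩
  show gi (k x) = f x
  rw [hke x hx]
  exact hgi'' _ (Subgroup.mem_sup_left (mem_img_self f hx))

/-- Composing with the inverse of a map of `S` that matches on `B`. -/
theorem Fac.straighten {R : Subgroup Ω} {h : Ω → Ω} (hB : B ≤ R) (hh : IsMap F R h) :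
    ∃ β γ, IsMap F S β ∧ IsMap F S γ ∧ (∀ x ∈ S, β (γ x) = x) ∧ (∀ x ∈ S, γ (β x) = x) ∧
      IsMap F R (fun x => γ (h x)) ∧ ∀ b ∈ B, γ (h b) = b := by
  have := d.finite
  obtain ⟨β, hβ, hβe⟩ := d.extend_S (hh.restrict hB)
  have hi : img β S = S := eq_of_le_card hβ.img_le_S hβ.card_img.ge
  obtain ⟨γ, hγ, -, hγβ, hβγ⟩ := hβ.exists_inv
  rw [hi] at hγ hβγ
  refine ⟨β, γ, hβ, hγ, hβγ, hγβ, hγ.comp hh fun x hx => hh.mem hx, fun b hb => ?_⟩
  rw [← hβe b hb, hγβ b (d.scB.1 hb)]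

/-- A subgroup of `A` with normalizer in `A` as large as possible among its conjugates by maps trivial
on `B` is fully centralized, also after adjoining `B`. -/
theorem Fac.fullyCentralized (hP : P ≤ A)
    (hmax : ∀ h, IsMap F (P ⊔ B) h → (∀ b ∈ B, h b = b) →
      Nat.card (normalizerIn A (img h P)) ≤ Nat.card (normalizerIn A P)) :
    F.IsFullyCentralized P ∧ F.IsFullyCentralized (P ⊔ B) := by
  have := d.finite
  have hPS : P ≤ S := hP.trans d.scA.1
  obtain ⟨P', hP', hfn⟩ := exists_fullyNormalized (F := F) hPS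
  obtain ⟨g, hg, hgi⟩ := exists_map_to_fullyNormalized d.hS d.sat hfn hP'
  have hPN : P ≤ normalizerIn S P := le_normalizerIn hPS
  have hBN : B ≤ normalizerIn S P := (d.B_le_cent hP).trans centralizerIn_le_normalizerIn
  have hP'A : P' ≤ A := hgi ▸ img_le fun x hx => d.mem_A hg (hPN hx) (hP hx)
  have hgB : img g B = B := d.img_B hg hBN
  obtain ⟨β, γ, hβ, hγ, hβγ, hγβ, hm, hfix⟩ := d.straighten hBN hg
  have hA1 : normalizerIn A P ≤ normalizerIn S P := inf_le_inf_right _ d.scA.1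
  have hN1 : img g (normalizerIn A P) ≤ normalizerIn A P' := img_le fun x hx =>
    ⟨d.mem_A hg (hA1 hx) hx.1, by
      have := hg.mem_normalizer_img hPN (hA1 hx) hx.2
      rwa [hgi] at this⟩
  have hcard : Nat.card (normalizerIn A P') ≤ Nat.card (normalizerIn A P) := by
    have h1 := hmax _ (hm.restrict (sup_le hPN hBN)) hfix
    have himg : img (fun x => γ (g x)) P = img γ P' := by
      rw [← (hg.restrict hPN).img_img, hgi]
    rw [himg] at h1
    have hN'S : normalizerIn A P' ≤ S := inf_le_left.trans d.scA.1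
    have h2 : img γ (normalizerIn A P') ≤ normalizerIn A (img γ P') := img_le fun x hx =>
      ⟨d.mem_A hγ (hN'S hx) hx.1,
        hγ.mem_normalizer_img (hP'A.trans d.scA.1) (hN'S hx) hx.2⟩
    have hf2 : Finite (normalizerIn A (img γ P')) := finite_of_le (inf_le_left.trans d.scA.1)
    rw [← (hγ.restrict hN'S).card_img]
    exact (card_le_card h2).trans h1
  have hN1eq : img g (normalizerIn A P) = normalizerIn A P' := by
    have hf' : Finite (normalizerIn A P') := finite_of_le (inf_le_left.trans d.scA.1)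
    refine eq_of_le_card hN1 ?_
    rw [(hg.restrict hA1).card_img]
    exact hcard
  -- preimages of centralizing elements centralize
  have hpre : ∀ c ∈ centralizerIn S P', ∃ y ∈ centralizerIn S P, g y = c := by
    intro c hc
    obtain ⟨a, ha, b, hb, rfl⟩ := d.dec hc.1
    have hac : a ∈ Subgroup.centralizer (P' : Set Ω) := fun x hx => by
      have h1 : x * (a * b) = a * b * x := hc.2 x hx
      rw [mul_assoc a b x, ← d.comm x (hP'A hx) b hb, ← mul_assoc, ← mul_assoc] at h1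
      exact mul_right_cancel h1
    have haN : a ∈ normalizerIn A P' := ⟨ha, Subgroup.centralizer_le_normalizer _ hac⟩
    rw [← hN1eq] at haN
    obtain ⟨y, hy, rfl⟩ := (hg.restrict hA1).mem_img.1 haN
    obtain ⟨z, hz, rfl⟩ := (hg.restrict hBN).mem_img.1 (hgB.ge hb)
    refine ⟨y * z, ⟨S.mul_mem (d.scA.1 hy.1) (d.scB.1 hz), fun x hx => ?_⟩,
      hg.map_mul (hA1 hy) (hBN hz)⟩
    have h2 : g x * g y = g y * g x := hac (g x) (hgi ▸ mem_img_self g hx)
    rw [← hg.map_mul (hPN hx) (hA1 hy), ← hg.map_mul (hA1 hy) (hPN hx)] at h2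
    have h3 := hg.inj ((normalizerIn S P).mul_mem (hPN hx) (hA1 hy))
      ((normalizerIn S P).mul_mem (hA1 hy) (hPN hx)) h2
    rw [← mul_assoc, h3, mul_assoc y x z, d.comm x (hP hx) z hz, ← mul_assoc]
  refine ⟨⟨hPS, fun R hR => ?_⟩, ⟨sup_le hPS d.scB.1, fun R hR => ?_⟩⟩
  · refine ((fullyNormalized_fullyCentralized d.hS d.sat hfn).2 R
      (isConj_trans (isConj_symm hP') hR)).trans ?_
    have hf1 : Finite (img g (centralizerIn S P)) :=
      finite_of_le (hg.restrict centralizerIn_le_normalizerIn).img_le_S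
    rw [← (hg.restrict centralizerIn_le_normalizerIn).card_img]
    refine card_le_card fun c hc => ?_
    obtain ⟨y, hy, rfl⟩ := hpre c hc
    exact mem_img_self g hy
  · obtain ⟨f, hf, rfl⟩ := isConj_iff_map.1 hR
    have hQ : F.IsConj (img f P) P' :=
      isConj_trans (isConj_symm ((hf.restrict le_sup_left).isConj)) hP'
    obtain ⟨g', hg', hgi'⟩ := exists_map_to_fullyNormalized d.hS d.sat hfn hQ
    have hfP : img f P ≤ A :=
      img_le fun x hx => d.mem_A hf (Subgroup.mem_sup_left hx) (hP hx)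
    rw [hf.img_sup, d.img_B hf le_sup_right]
    have hQN : img f P ⊔ B ≤ normalizerIn S (img f P) := sup_le
      (le_normalizerIn (hf.restrict le_sup_left).img_le_S)
      ((d.B_le_cent hfP).trans centralizerIn_le_normalizerIn)
    have hCN : ∀ X : Subgroup Ω, centralizerIn S (X ⊔ B) ≤ normalizerIn S X := fun X x hx =>
      centralizerIn_le_normalizerIn ⟨hx.1, fun y hy => hx.2 y (Subgroup.mem_sup_left hy)⟩
    have himg' : img g' (img f P ⊔ B) = P' ⊔ B := by
      rw [(hg'.restrict hQN).img_sup, hgi', d.img_B hg' (le_sup_right.trans hQN)]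
    have h1 : img g' (centralizerIn S (img f P ⊔ B)) ≤ centralizerIn S (P' ⊔ B) := img_le fun x hx =>
      ⟨hg'.mem (hCN _ hx), himg' ▸ hg'.mem_centralizer_img hQN (hCN _ hx) hx.2⟩
    have hf1 : Finite (img g (centralizerIn S (P ⊔ B))) :=
      finite_of_le (hg.restrict (hCN P)).img_le_S
    have hf2 : Finite (centralizerIn S (P' ⊔ B)) := finite_of_le centralizerIn_le
    rw [← (hg'.restrict (hCN _)).card_img]
    refine (card_le_card h1).trans ?_
    rw [← (hg.restrict (hCN P)).card_img]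
    refine card_le_card fun c hc => ?_
    obtain ⟨y, hy, rfl⟩ := hpre c ⟨hc.1, fun x hx => hc.2 x (Subgroup.mem_sup_left hx)⟩
    refine mem_img_self g ⟨hy.1, fun x hx => ?_⟩
    have hyN : y ∈ normalizerIn S P := centralizerIn_le_normalizerIn hy
    have hxN : x ∈ normalizerIn S P := sup_le hPN hBN hx
    have h2 : g x * g y = g y * g x := hc.2 (g x) (by
      have h3 := mem_img_self g hx
      rwa [(hg.restrict (sup_le hPN hBN)).img_sup, hgi, hgB] at h3)
    rw [← hg.map_mul hxN hyN, ← hg.map_mul hyN hxN] at h2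
    exact hg.inj ((normalizerIn S P).mul_mem hxN hyN) ((normalizerIn S P).mul_mem hyN hxN) h2

omit [Fact p.Prime] in
theorem Fac.autInduced_eq : autInducedBy S A = autInducedBy A A := by
  ext α
  rw [mem_autInducedBy_iff, mem_autInducedBy_iff]
  constructor
  · rintro ⟨s, hs, h⟩
    obtain ⟨a, ha, b, hb, rfl⟩ := d.dec hs
    exact ⟨a, ha, fun x => by rw [h x, d.conj_A hb x.2]⟩
  · rintro ⟨a, ha, h⟩
    exact ⟨a, d.scA.1 ha, h⟩

omit d [Fact p.Prime] in
theorem isMap_full {R : FusionSystem A} (hR : ∀ P : Subgroup Ω, P ≤ A → R.Hom P = F.Hom P)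
    {f : Ω → Ω} : IsMap R P f ↔ P ≤ A ∧ IsMap F P f := by
  constructor
  · rintro ⟨φ, hφ, he⟩
    have hP := (R.le_of_mem hφ).1
    exact ⟨hP, φ, hR P hP ▸ hφ, he⟩
  · rintro ⟨hP, φ, hφ, he⟩
    exact ⟨φ, (hR P hP).symm ▸ hφ, he⟩

omit [Fact p.Prime] in
theorem Fac.isMap_cen {R' : FusionSystem A}
    (hR' : ∀ P : Subgroup Ω, P ≤ A → R'.Hom P = F.centralizerHom B P) {f : Ω → Ω} :
    IsMap R' P f ↔ P ≤ A ∧ ∃ h, IsMap F (P ⊔ B) h ∧ (∀ x ∈ P, h x = f x) ∧ ∀ b ∈ B, h b = b := by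
  constructor
  · rintro ⟨φ, hφ, he⟩
    have hP := (R'.le_of_mem hφ).1
    rw [hR' P hP] at hφ
    obtain ⟨-, -, -, ψ, hψ, h1, h2⟩ := hφ
    refine ⟨hP, ext ψ, IsMap.of_hom hψ, fun x hx => ?_, fun b hb => ?_⟩
    · rw [ext_of_mem ψ (Subgroup.mem_sup_left hx), ← he ⟨x, hx⟩]
      exact h1 ⟨x, hx⟩
    · rw [ext_of_mem ψ (Subgroup.mem_sup_right hb)]
      exact h2 ⟨b, hb⟩
  · rintro ⟨hP, h, hh, h1, h2⟩
    have hf : IsMap F P f := (hh.restrict le_sup_left).congr h1
    have hc : ∀ y ∈ A, y ∈ centralizerIn S B := fun y hy =>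
      ⟨d.scA.1 hy, fun b hb => (d.comm y hy b hb).symm⟩
    refine ⟨hf.hom, ?_, fun _ => rfl⟩
    rw [hR' P hP]
    exact ⟨hf.hom_mem_self, fun x hx => hc x (hP hx), fun x => hc _ (d.mem_A hf x.2 (hP x.2)),
      hh.hom, hh.hom_mem_self, fun x => h1 x x.2, fun b => h2 b b.2⟩

theorem Fac.aut_A {R : FusionSystem A} (hR : ∀ P : Subgroup Ω, P ≤ A → R.Hom P = F.Hom P) :
    R.autGroup A = F.autGroup A := by
  ext α
  rw [mem_autGroup_iff le_rfl, mem_autGroup_iff d.scA.1, isMap_full hR]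
  exact ⟨fun h => h.2, fun h => ⟨le_rfl, h⟩⟩

theorem Fac.saturated_full {R : FusionSystem A}
    (hR : ∀ P : Subgroup Ω, P ≤ A → R.Hom P = F.Hom P) : R.IsSaturated p := by
  have := d.finite
  have : Finite A := finite_of_le d.scA.1
  have hA : IsPGroup p A := d.hS.to_le d.scA.1
  have hfnA : F.IsFullyNormalized A := ⟨d.scA.1, fun Q hQ => by
    obtain ⟨f, hf, rfl⟩ := isConj_iff_map.1 hQ
    rw [d.symm.img_B hf le_rfl]⟩
  refine saturated_of_receptive hA ((fullyAutomized_iff hA).2 ⟨le_rfl, ?_⟩) fun P hP => ?_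
  · rw [← d.autInduced_eq, d.aut_A hR]
    exact ((fullyAutomized_iff d.hS).1 (fullyNormalized_fullyAutomized d.hS d.sat hfnA)).2
  · have hfc := (d.fullyCentralized hP.1 fun h hh hb => hP.2 _ (IsMap.isConj
      ((isMap_full hR).2 ⟨hP.1, hh.restrict le_sup_left⟩))).1
    refine isReceptive_iff.2 ⟨hP.1, fun Q f hf himg => ?_⟩
    obtain ⟨hQ, hfF⟩ := (isMap_full hR).1 hf
    obtain ⟨g, hg, hge⟩ := exists_extension d.hS d.sat hfF (himg.symm ▸ hfc)
    refine ⟨g, (isMap_full hR).2 ⟨fun x hx => hx.1, hg.restrict ?_⟩, hge⟩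
    rintro x ⟨hx, hxN, u, hu, he⟩
    exact ⟨d.scA.1 hx, hxN, u, d.scA.1 hu, he⟩

theorem Fac.saturated_cen {R' : FusionSystem A}
    (hR' : ∀ P : Subgroup Ω, P ≤ A → R'.Hom P = F.centralizerHom B P) : R'.IsSaturated p := by
  have := d.finite
  have : Finite A := finite_of_le d.scA.1
  have hA : IsPGroup p A := d.hS.to_le d.scA.1
  have hfnA : F.IsFullyNormalized A := ⟨d.scA.1, fun Q hQ => by
    obtain ⟨f, hf, rfl⟩ := isConj_iff_map.1 hQ
    rw [d.symm.img_B hf le_rfl]⟩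
  refine saturated_of_receptive hA ((fullyAutomized_iff hA).2 ⟨le_rfl, ?_⟩) fun P hP => ?_
  · intro hdvd
    refine ((fullyAutomized_iff d.hS).1 (fullyNormalized_fullyAutomized d.hS d.sat hfnA)).2 ?_
    rw [d.autInduced_eq]
    have hle : R'.autGroup A ≤ F.autGroup A := fun α hα => by
      obtain ⟨-, h, hh, h1, -⟩ := (d.isMap_cen hR').1 ((mem_autGroup_iff le_rfl).1 hα)
      exact (mem_autGroup_iff d.scA.1).2 ((hh.restrict le_sup_left).congr h1)
    rw [← Subgroup.relIndex_mul_relIndex _ _ _ (autInducedBy_le le_rfl) hle]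
    exact hdvd.mul_right _
  · have hfc := (d.fullyCentralized hP.1 fun h hh hb => hP.2 _ (IsMap.isConj
      ((d.isMap_cen hR').2 ⟨hP.1, h, hh, fun _ _ => rfl, hb⟩))).2
    refine isReceptive_iff.2 ⟨hP.1, fun Q f hf himg => ?_⟩
    obtain ⟨hQ, h, hh, h1, h2⟩ := (d.isMap_cen hR').1 hf
    have himg' : img h (Q ⊔ B) = P ⊔ B := by
      rw [hh.img_sup, d.img_B hh le_sup_right, img_congr h1, himg]
    obtain ⟨g, hg, hge⟩ := exists_extension d.hS d.sat hh (himg'.symm ▸ hfc)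
    refine ⟨g, (d.isMap_cen hR').2 ⟨fun x hx => hx.1, g, hg.restrict (sup_le ?_ ?_),
      fun _ _ => rfl, fun b hb => by rw [hge b (Subgroup.mem_sup_right hb), h2 b hb]⟩,
      fun x hx => by rw [hge x (Subgroup.mem_sup_left hx), h1 x hx]⟩
    · intro a ha
      obtain ⟨haA, haN, u, hu, he⟩ := ha
      have : Finite (Q ⊔ B : Subgroup Ω) := finite_of_le hh.le
      have hkey : ∀ x ∈ Q ⊔ B, ∃ q ∈ Q, ∃ b ∈ B, q * b = x := fun x hx =>
        Factor.coe_sup_of_normal (le_normalizer_of_stronglyClosed d.scB) (hQ.trans d.scA.1) hx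
      have hconj : ∀ q ∈ Q, ∀ b ∈ B, a * (q * b) * a⁻¹ = a * q * a⁻¹ * b := fun q hq b hb => by
        rw [← mul_assoc a q b, mul_assoc (a * q) b, ← d.comm _ (A.inv_mem haA) b hb]
        group
      refine ⟨d.scA.1 haA, mem_normalizer_of_forall fun x hx => ?_, u, d.scA.1 hu, fun x hx => ?_⟩
      · obtain ⟨q, hq, b, hb, rfl⟩ := hkey x hx
        rw [hconj q hq b hb]
        exact Subgroup.mul_mem_sup ((Subgroup.mem_normalizer_iff.1 haN q).1 hq) hb
      · obtain ⟨q, hq, b, hb, rfl⟩ := hkey x hx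
        have hq' := (Subgroup.mem_normalizer_iff.1 haN q).1 hq
        rw [hconj q hq b hb, hh.map_mul (Subgroup.mem_sup_left hq') (Subgroup.mem_sup_right hb),
          hh.map_mul (Subgroup.mem_sup_left hq) (Subgroup.mem_sup_right hb), h1 _ hq', he q hq,
          h1 q hq, h2 b hb]
        have hc := d.comm _ (A.inv_mem hu) b hb
        rw [← mul_assoc u (f q) b, mul_assoc (u * f q) b, ← hc]
        group
    · exact le_sup_right.trans (le_nSub hh)

/-- Invariance and the Frattini property for both subsystems. -/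
theorem Fac.invariant_full {R : FusionSystem A}
    (hR : ∀ P : Subgroup Ω, P ≤ A → R.Hom P = F.Hom P) : R.IsInvariantIn F := by
  refine ⟨fun P => subset_of_isMap fun f hf => ((isMap_full hR).1 hf).2, d.scA,
    fun P hP φ hφ α hα => ?_,
    fun P hP φ hφ => ⟨1, Subgroup.one_mem _, φ, (hR P hP).symm ▸ hφ, fun _ _ => rfl⟩⟩
  set X := (P.subgroupOf A).map (A.subtype.comp α.toMonoidHom)
  have hXA : X ≤ A := by rintro _ ⟨z, -, rfl⟩; exact (α z).2
  have hXP : ∀ z ∈ X, autFun α⁻¹ z ∈ P := by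
    rintro _ ⟨z, hz, rfl⟩
    show autFun α⁻¹ ((α z : A) : Ω) ∈ P
    rw [← autFun_apply, autFun_inv_apply]
    exact hz
  have hf := ((isMap_full hR).1 (IsMap.of_hom hφ)).2
  have h1 := hf.comp ((isMap_of_mem_autGroup d.scA.1 (inv_mem hα)).restrict hXA) hXP
  have h2 := (isMap_of_mem_autGroup d.scA.1 hα).comp h1
    fun z hz => d.mem_A hf (hXP z hz) (hP (hXP z hz))
  have h3 := (isMap_full hR).2 ⟨hXA, h2⟩
  refine ⟨h3.hom, h3.hom_mem_self, fun x hφx hαx => ?_⟩
  rw [IsMap.hom_apply]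
  simp only
  rw [← autFun_apply, autFun_inv_apply, ext_apply, autFun_of_mem α hφx]

theorem Fac.frattini {R' : FusionSystem A}
    (hR' : ∀ P : Subgroup Ω, P ≤ A → R'.Hom P = F.centralizerHom B P) (hP : P ≤ A) {f : Ω → Ω}
    (hf : IsMap F P f) :
    ∃ α ∈ F.autGroup A, ∃ f₀, IsMap R' P f₀ ∧ ∀ x ∈ P, f x = autFun α (f₀ x) := by
  have := d.finite
  obtain ⟨h, hh, he⟩ := d.extend_B hP hf
  obtain ⟨β, γ, hβ, hγ, hβγ, hγβ, hm, hfix⟩ := d.straighten le_sup_right hh
  obtain ⟨α, hα, hαe⟩ := (hβ.restrict d.scA.1).exists_aut (d.symm.img_B hβ d.scA.1)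
  refine ⟨α, hα, _, (d.isMap_cen hR').2 ⟨hP, _, hm, fun _ _ => rfl, hfix⟩, fun x hx => ?_⟩
  have hxS : h x ∈ S := hh.mem (Subgroup.mem_sup_left hx)
  have hxA : γ (h x) ∈ A :=
    d.mem_A hγ hxS (d.mem_A hh (Subgroup.mem_sup_left hx) (hP hx))
  rw [hαe _ hxA, hβγ _ hxS, he x hx]

theorem Fac.invariant_cen {R' : FusionSystem A}
    (hR' : ∀ P : Subgroup Ω, P ≤ A → R'.Hom P = F.centralizerHom B P) : R'.IsInvariantIn F := by
  have := d.finite
  refine ⟨fun P => subset_of_isMap fun f hf => ?_, d.scA, fun P hP φ hφ α hα => ?_,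
    fun P hP φ hφ => ?_⟩
  · obtain ⟨-, h, hh, h1, -⟩ := (d.isMap_cen hR').1 hf
    exact (hh.restrict le_sup_left).congr h1
  · set X := (P.subgroupOf A).map (A.subtype.comp α.toMonoidHom)
    have hXA : X ≤ A := by rintro _ ⟨z, -, rfl⟩; exact (α z).2
    have hXP : ∀ z ∈ X, autFun α⁻¹ z ∈ P := by
      rintro _ ⟨z, hz, rfl⟩
      show autFun α⁻¹ ((α z : A) : Ω) ∈ P
      rw [← autFun_apply, autFun_inv_apply]
      exact hz
    obtain ⟨-, h, hh, he, hfix⟩ := (d.isMap_cen hR').1 (IsMap.of_hom hφ)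
    obtain ⟨β, hβ, hβe⟩ := d.symm.extend_S (isMap_of_mem_autGroup d.scA.1 hα)
    have hi : img β S = S := eq_of_le_card hβ.img_le_S hβ.card_img.ge
    obtain ⟨γ, hγ, -, hγβ, hβγ⟩ := hβ.exists_inv
    rw [hi] at hγ hβγ
    have hγA : ∀ z ∈ A, γ z = autFun α⁻¹ z := fun z hz => by
      conv_lhs => rw [← autFun_apply_inv α z, ← hβe _ (autFun_mem α⁻¹ hz)]
      exact hγβ _ (d.scA.1 (autFun_mem α⁻¹ hz))
    have hγB := d.img_B hγ d.scB.1
    have hXPB : X ⊔ B ≤ S := sup_le (hXA.trans d.scA.1) d.scB.1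
    have hin : ∀ z ∈ X ⊔ B, γ z ∈ P ⊔ B := fun z hz => by
      have h5 := mem_img_self γ hz
      rw [(hγ.restrict hXPB).img_sup, hγB] at h5
      exact sup_le_sup_right (img_le fun y hy => (hγA y (hXA hy)).symm ▸ hXP y hy) B h5
    have h1 := hh.comp (hγ.restrict hXPB) hin
    have h2 := hβ.comp h1 fun z hz => hh.mem (hin z hz)
    have h3 := (d.isMap_cen hR' (f := fun z => β (h (γ z)))).2 ⟨hXA, _, h2, fun _ _ => rfl,
      fun b hb => by
        show β (h (γ b)) = b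
        rw [hfix _ (hγB.le (mem_img_self γ hb)), hβγ _ (d.scB.1 hb)]⟩
    refine ⟨h3.hom, h3.hom_mem_self, fun x hφx hαx => ?_⟩
    rw [IsMap.hom_apply]
    simp only
    rw [← autFun_apply, hγA _ (autFun_mem α (hP x.2)), autFun_inv_apply, he x x.2, ext_apply,
      hβe _ hφx, autFun_of_mem α hφx]
  · obtain ⟨α, hα, f₀, hf₀, he⟩ := d.frattini hR' hP (IsMap.of_hom hφ)
    refine ⟨α, hα, hf₀.hom, hf₀.hom_mem_self, fun x hx => ?_⟩
    rw [IsMap.hom_apply] at hx
    rw [← ext_apply φ x, he x x.2, autFun_of_mem α hx]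
    rfl

theorem Fac.extension {R' : FusionSystem A}
    (hR' : ∀ P : Subgroup Ω, P ≤ A → R'.Hom P = F.centralizerHom B P) {α : MulAut A}
    (hα : α ∈ R'.autGroup A) :
    ∃ h, IsMap F S h ∧ (∀ x ∈ A, h x = autFun α x) ∧ ∀ c ∈ centralizerIn S A,
      c⁻¹ * h c ∈ A ⊓ Subgroup.centralizer (A : Set Ω) := by
  obtain ⟨-, h, hh, he, hfix⟩ := (d.isMap_cen hR').1 ((mem_autGroup_iff le_rfl).1 hα)
  rw [d.sup] at hh
  refine ⟨h, hh, he, fun c hc => ?_⟩
  obtain ⟨a, ha, b, hb, rfl⟩ := d.dec hc.1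
  have haZ : a ∈ Subgroup.centralizer (A : Set Ω) := fun x hx => by
    have h1 : x * (a * b) = a * b * x := hc.2 x hx
    rw [mul_assoc a b x, ← d.comm x hx b hb, ← mul_assoc, ← mul_assoc] at h1
    exact mul_right_cancel h1
  have hha : h a ∈ Subgroup.centralizer (A : Set Ω) := fun x hx => by
    have h1 : autFun α⁻¹ x * a = a * autFun α⁻¹ x := haZ _ (autFun_mem α⁻¹ hx)
    have h2 := congrArg (autFun α) h1
    rw [autFun_isHom α _ (autFun_mem α⁻¹ hx) _ ha, autFun_isHom α _ ha _ (autFun_mem α⁻¹ hx),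
      autFun_apply_inv, ← he a ha] at h2
    exact h2
  have hhaA : h a ∈ A := d.mem_A hh (d.scA.1 ha) ha
  rw [hh.map_mul (d.scA.1 ha) (d.scB.1 hb), hfix b hb]
  have h3 : (a * b)⁻¹ * (h a * b) = a⁻¹ * h a := by
    rw [mul_inv_rev, mul_assoc b⁻¹, ← mul_assoc a⁻¹,
      d.comm _ (A.mul_mem (A.inv_mem ha) hhaA) b hb]
    group
  rw [h3]
  exact ⟨A.mul_mem (A.inv_mem ha) hhaA, Subgroup.mul_mem _ (Subgroup.inv_mem _ haZ) hha⟩

end Helpers

/-- Let F be a saturated fusion system over a finite p-group S that is the direct product of two subgroups S₁ and S₂, each strongly closed in F. Let R be the full subsystem of F over S₁ (all maps of F between subgroups of S₁) and R′ the subsystem over S₁ of those maps that extend to the subgroup generated with S₂ fixing S₂ elementwise. Then R and R′ are saturated, R′ is normal in F and in R, and R is weakly normal in F. -/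
theorem result {Ω : Type*} [Group Ω] {S : Subgroup Ω} [Finite S] (p : ℕ) [Fact p.Prime] (hS : IsPGroup p S) (F : Cfsg.FusionSystem S) (hF : F.IsSaturated p) (S₁ S₂ : Subgroup Ω) (hprod : Cfsg.IsInternalDirectProduct S₁ S₂ S) (h₁ : F.StronglyClosed S₁) (h₂ : F.StronglyClosed S₂) (R R' : Cfsg.FusionSystem S₁) (hR : ∀ P : Subgroup Ω, P ≤ S₁ → R.Hom P = F.Hom P) (hR' : ∀ P : Subgroup Ω, P ≤ S₁ → R'.Hom P = F.centralizerHom S₂ P) : R.IsSaturated p ∧ R'.IsSaturated p ∧ R'.IsNormalIn F p ∧ R'.IsNormalIn R p ∧ R.IsWeaklyNormalIn F p := by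
  obtain ⟨-, -, hcomm, -, hsup⟩ := hprod
  have d : Fac p F S₁ S₂ := ⟨inferInstance, hS, hF, hcomm, hsup, h₁, h₂⟩
  have hfin1 : Finite S₁ := Cfsg.Agent.Fusion.Saturation.finite_of_le h₁.1
  have hRs := d.saturated_full hR
  have hR's := d.saturated_cen hR'
  have hRi := d.invariant_full hR
  have hR'i := d.invariant_cen hR'
  have hsub : R'.IsSubsystemOf R := fun P φ hφ => by
    rw [hR P (R'.le_of_mem hφ).1]
    exact hR'i.1 P hφ
  have hR'R : R'.IsInvariantIn R := by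
    refine ⟨hsub, Cfsg.Agent.Fusion.Solvable.stronglyClosed_self R, fun P hP φ hφ α hα => ?_,
      fun P hP φ hφ => ?_⟩
    · exact hR'i.2.2.1 P hP φ hφ α (d.aut_A hR ▸ hα)
    · rw [hR P hP] at hφ
      rw [d.aut_A hR]
      exact hR'i.2.2.2 P hP φ hφ
  refine ⟨hRs, hR's, ⟨⟨hR's, hF, hR'i⟩, fun α hα => ?_⟩, ⟨⟨hR's, hRs, hR'R⟩, fun α hα => ?_⟩,
    hRs, hF, hRi⟩
  · obtain ⟨h, hh, he, hc⟩ := d.extension hR' hα
    have hW : S₁ ⊔ centralizerIn S S₁ = S := le_antisymm (sup_le h₁.1 centralizerIn_le)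
      (d.sup.ge.trans (sup_le_sup_left (d.B_le_cent le_rfl) _))
    obtain ⟨β, hβ, hβe⟩ := (hh.restrict hW.le).exists_aut (by
      rw [hW]; exact eq_of_le_card hh.img_le_S hh.card_img.ge)
    refine ⟨β, hβ, fun x => ?_, fun c hcc => ?_⟩
    · rw [← autFun_apply, Subgroup.coe_inclusion, hβe _ (Subgroup.mem_sup_left x.2), he _ x.2,
        autFun_apply]
    · rw [← autFun_apply, hβe _ c.2]
      exact hc c hcc
  · have hαR : α ∈ R.autGroup S₁ := Cfsg.Agent.Fusion.Focal.autGroup_mono hsub S₁ hα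
    have hm := isMap_of_mem_autGroup le_rfl hαR
    have hW : S₁ ⊔ centralizerIn S₁ S₁ = S₁ := sup_eq_left.2 centralizerIn_le
    obtain ⟨β, hβ, hβe⟩ := (hm.restrict hW.le).exists_aut (by
      rw [hW]; exact autFun_img α)
    refine ⟨β, hβ, fun x => ?_, fun c hcc => ?_⟩
    · rw [← autFun_apply, Subgroup.coe_inclusion, hβe _ (Subgroup.mem_sup_left x.2), autFun_apply]
    · rw [← autFun_apply, hβe _ c.2]
      obtain ⟨h, -, he, hc⟩ := d.extension hR' hα
      rw [← he _ hcc.1]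
      exact hc c ⟨h₁.1 hcc.1, hcc.2⟩

end Cfsg.Agent.S5130
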