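import Cfsg.Statements.S5135
import Cfsg.Agent.Lib.Fusion.GroupQuot

set_option autoImplicit false
open Cfsg

namespace Cfsg.Agent.S5135

open Cfsg.FusionSystem Cfsg.Agent.Fusion.Basic Cfsg.Agent.Fusion.Saturation Cfsg.Agent.Fusion.GroupQuot

/-- Let G be a finite group, S a Sylow p-subgroup and H a normal subgroup of G. Then the fusion system of G/H on the image SH/H of S is the factor system of the fusion system of G on S modulo S ∩ H, read through the quotient map restricted to S: for each subgroup P' of SH/H, the conjugation maps by elements of G/H defined on P' with values in SH/H are exactly the homomorphisms induced by the conjugation maps by elements of G defined on the full preimage of P' in S with values in S. -/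
theorem result {G : Type*} [Group G] [Finite G] (p : ℕ) [Fact p.Prime] (S : Sylow p G) (H : Subgroup G) [H.Normal] : (Cfsg.groupFusionSystem (S : Subgroup G)).IsFactorSystem ((S : Subgroup G) ⊓ H) ((QuotientGroup.mk' H).comp (S : Subgroup G).subtype) (Cfsg.groupFusionSystem ((S : Subgroup G).map (QuotientGroup.mk' H))) := by
  set θ := (QuotientGroup.mk' H).comp (S : Subgroup G).subtype with hθ
  have hθa : ∀ s : (S : Subgroup G), θ s = ((s : G) : G ⧸ H) := fun _ => rfl
  refine ⟨inf_le_left, fun s => ?_, ?_, fun P' φ' => ?_⟩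
  · rw [hθa, QuotientGroup.eq_one_iff]
    exact ⟨fun h => ⟨s.2, h⟩, fun h => h.2⟩
  · rw [hθ, MonoidHom.range_comp, Subgroup.range_subtype]
  have hpre : Cfsg.FusionSystem.preimageAlong θ P' ≤ (S : Subgroup G) := Subgroup.map_subtype_le _
  constructor
  · rintro ⟨hP', hφ', γ, hγ⟩
    have hmem : ∀ x : Cfsg.FusionSystem.preimageAlong θ P', ((x : G) : G ⧸ H) ∈ P' := by
      rintro ⟨_, s, hs, rfl⟩
      exact hs
    obtain ⟨g, rfl, hgS⟩ := exists_lift_conj S H hpre γ fun x hx => by
      have h1 := hφ' ⟨_, hmem ⟨x, hx⟩⟩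
      rw [hγ] at h1
      exact h1
    refine ⟨hP', Cfsg.conjHom _ g, ⟨hpre, fun x => hgS x x.2, g, fun _ => rfl⟩,
      hpre, fun x => hgS x x.2, fun x => hmem x, fun x => ?_⟩
    rw [hγ]
    show (g : G ⧸ H) * ((x : G) : G ⧸ H) * (g : G ⧸ H)⁻¹ = (((g * (x : G) * g⁻¹ : G)) : G ⧸ H)
    rw [QuotientGroup.mk_mul, QuotientGroup.mk_mul, QuotientGroup.mk_inv]
  · rintro ⟨hP', φ, ⟨-, -, g, hg⟩, hP, hφ, hmem, he⟩
    have key : ∀ y : P', φ' y = (g : G ⧸ H) * (y : G ⧸ H) * (g : G ⧸ H)⁻¹ ∧
        φ' y ∈ (S : Subgroup G).map (QuotientGroup.mk' H) := by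
      rintro ⟨y, hy⟩
      obtain ⟨s, hs, rfl⟩ := hP' hy
      have hx : s ∈ Cfsg.FusionSystem.preimageAlong θ P' := ⟨⟨s, hs⟩, hy, rfl⟩
      have h1 := he ⟨s, hx⟩
      refine ⟨?_, ?_⟩
      · refine h1.trans ?_
        rw [hθa]
        show ((φ ⟨s, hx⟩ : G) : G ⧸ H) = _
        rw [hg, QuotientGroup.mk_mul, QuotientGroup.mk_mul, QuotientGroup.mk_inv]
        rfl
      · exact ⟨_, hφ ⟨s, hx⟩, h1.symm⟩
    exact ⟨hP', fun y => (key y).2, (g : G ⧸ H), fun y => (key y).1⟩

end Cfsg.Agent.S5135
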