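import Cfsg.Statements.S5138
import Cfsg.Agent.Lib.Fusion.ProductNormal
-- import your own Cfsg.Agent.* helpers here

set_option autoImplicit false
open Cfsg

namespace Cfsg.Agent.S5138

open Cfsg.FusionSystem Cfsg.Agent.Fusion.Basic Cfsg.Agent.Fusion.Saturation Cfsg.Agent.Fusion.Normal Cfsg.Agent.Fusion.CentralProduct

/-- Let F be a saturated fusion system over a finite p-group S and E₁, E₂ normal subsystems over T₁, T₂ with [T₁, T₂] = 1. Then there is a normal subsystem of F over T₁T₂ which, if moreover T₁ ∩ T₂ lies in the centre of E₁ and in the centre of E₂, is a central product of E₁ and E₂ (the factor system of a direct product of E₁ and E₂ modulo a subgroup of its centre meeting both factors trivially). -/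
theorem result {Ω : Type*} [Group Ω] {S : Subgroup Ω} [Finite S] (p : ℕ) [Fact p.Prime] (hS : IsPGroup p S) (F : Cfsg.FusionSystem S) (hF : F.IsSaturated p) {T₁ T₂ : Subgroup Ω} (E₁ : Cfsg.FusionSystem T₁) (E₂ : Cfsg.FusionSystem T₂) (hE₁ : E₁.IsNormalIn F p) (hE₂ : E₂.IsNormalIn F p) (hc : ⁅T₁, T₂⁆ = ⊥) : ∃ D : Cfsg.FusionSystem (T₁ ⊔ T₂), D.IsNormalIn F p ∧ (T₁ ⊓ T₂ ≤ E₁.center → T₁ ⊓ T₂ ≤ E₂.center → Cfsg.FusionSystem.IsCentralProductOf E₁ E₂ D) := by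
  have h₁ : T₁ ≤ S := hE₁.1.2.2.2.1.1
  have h₂ : T₂ ≤ S := hE₂.1.2.2.2.1.1
  have hfin₁ : Finite T₁ := finite_of_le h₁
  have hfin₂ : Finite T₂ := finite_of_le h₂
  have hp₁ := hS.to_le h₁
  have hp₂ := hS.to_le h₂
  have hcomm : Comm T₁ T₂ := comm_of_commutator hc
  by_cases hz : T₁ ⊓ T₂ ≤ E₁.center ∧ T₁ ⊓ T₂ ≤ E₂.center
  · obtain ⟨D, hD, hDs⟩ := exists_product hp₁ hp₂ hE₁.1.1 hE₂.1.1 hcomm hz.1 hz.2
    exact ⟨D, Cfsg.Agent.Fusion.ProductNormal.normal ⟨hS, hF, hE₁, hE₂⟩ hcomm hz.1 hz.2 hD hDs,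
      fun _ _ => hD⟩
  obtain ⟨R₁, hR₁⟩ := Cfsg.Agent.Fusion.PPrimeResidual.exists_residual (F := E₁) (p := p) hp₁ hE₁.1.1
  obtain ⟨R₂, hR₂⟩ := Cfsg.Agent.Fusion.PPrimeResidual.exists_residual (F := E₂) (p := p) hp₂ hE₂.1.1
  have hn₁ := Cfsg.Agent.Fusion.ComponentExists.residual_isNormal hS hF hE₁.1 hR₁
  have hn₂ := Cfsg.Agent.Fusion.ComponentExists.residual_isNormal hS hF hE₂.1 hR₂
  have hsc : ∀ {T : Subgroup Ω} (E : Cfsg.FusionSystem T), E.IsNormalIn F p → T₁ ⊓ T₂ ≤ T →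
      E.StronglyClosed (T₁ ⊓ T₂) := fun E hE hle =>
    ⟨hle, fun R hR φ hφ x =>
      ⟨hE₁.1.2.2.2.1.2 R (hR.trans inf_le_left) φ (hE.1.2.2.1 R hφ) x,
        hE₂.1.2.2.2.1.2 R (hR.trans inf_le_right) φ (hE.1.2.2.1 R hφ) x⟩⟩
  have hc₁ : T₁ ⊓ T₂ ≤ R₁.center := Cfsg.Agent.Fusion.ProductNormal.residual_center hp₁ hE₁.1.1
    (hsc E₁ hE₁ inf_le_left) (fun z hz t ht => (hcomm t ht z hz.2).symm) hR₁
  have hc₂ : T₁ ⊓ T₂ ≤ R₂.center := Cfsg.Agent.Fusion.ProductNormal.residual_center hp₂ hE₂.1.1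
    (hsc E₂ hE₂ inf_le_right) (fun z hz t ht => hcomm z hz.1 t ht) hR₂
  obtain ⟨D, hD, hDs⟩ := exists_product hp₁ hp₂ hn₁.1.1 hn₂.1.1 hcomm hc₁ hc₂
  exact ⟨D, Cfsg.Agent.Fusion.ProductNormal.normal ⟨hS, hF, hn₁, hn₂⟩ hcomm hc₁ hc₂ hD hDs,
    fun a b => absurd ⟨a, b⟩ hz⟩

end Cfsg.Agent.S5138
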