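import Cfsg.Statements.S5139
import Cfsg.Agent.Lib.Fusion.PPowerIndex
import Cfsg.Agent.Lib.Fusion.Group

set_option autoImplicit false
open Cfsg

namespace Cfsg.Agent.S5139

open Cfsg.FusionSystem Cfsg.Agent.Fusion.Basic Cfsg.Agent.Fusion.Saturation

theorem eq_of_unique {G : Type*} [Group G] {S H T : Subgroup G} [Finite S] {p : ℕ} [Fact p.Prime]
    {F : FusionSystem S} (hS : IsPGroup p S) (hTS : T ≤ S) (hHT : H = T)
    {E : FusionSystem H} {E' : FusionSystem T} (h₁ : E.IsSaturated p) (h₂ : E.HasPPowerIndexIn F p)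
    (h₁' : E'.IsSaturated p) (h₂' : E'.HasPPowerIndexIn F p) :
    ∀ P : Subgroup G, E.Hom P = E'.Hom P := by
  subst hHT
  intro P
  rw [Cfsg.Agent.Fusion.PPowerIndex.pPowerIndex_unique hS hTS h₁ h₂ h₁' h₂']

/-- Let G be a finite group with Sylow p-subgroup S and O^p(G) the subgroup generated by the elements of order prime to p. Then the p-residual subsystem of the fusion system of G on S — the saturated subsystem of p-power index over the hyperfocal subgroup — is the fusion system of O^p(G) on S ∩ O^p(G): its maps are exactly the conjugation maps by elements of O^p(G) between subgroups of S ∩ O^p(G). -/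
theorem result {G : Type*} [Group G] [Finite G] (p : ℕ) [Fact p.Prime] (S : Sylow p G) (E : Cfsg.FusionSystem ((Cfsg.groupFusionSystem (S : Subgroup G)).hyperfocalSubgroup p)) (hE : (Cfsg.groupFusionSystem (S : Subgroup G)).IsPResidual p E) : ∃ h : (S : Subgroup G) ⊓ Cfsg.pResidual p G ≤ Cfsg.pResidual p G, ∀ P : Subgroup G, E.Hom P = (Cfsg.fusionSystemOfSubgroup (Cfsg.pResidual p G) ((S : Subgroup G) ⊓ Cfsg.pResidual p G) h).Hom P := by
  obtain ⟨h₁, h₂⟩ := hE
  set K := pResidual p G with hK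
  set T := (S : Subgroup G) ⊓ K with hT
  have hsyl : Cfsg.Agent.Fusion.SylIn.SylIn p T K :=
    (Cfsg.Agent.Fusion.SylIn.of_sylow S).inf_normal le_top (by rw [Subgroup.normalizer_eq_top])
  refine ⟨inf_le_right, eq_of_unique S.isPGroup' inf_le_left
    (Cfsg.Agent.Fusion.Focal.hyp_group S) h₁ h₂ (Cfsg.Agent.Fusion.Group.sub_saturated hsyl)
    ⟨fun P φ hφ => ?_, (Cfsg.Agent.Fusion.Focal.hyp_group S).le, fun P hP => ?_⟩⟩
  · obtain ⟨g, _, hg⟩ := hφ.2.2
    exact ⟨hφ.1.trans inf_le_left, fun x => (hφ.2.1 x).1, g, hg⟩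
  rintro _ ⟨α, hα, rfl⟩
  have hPS : P ≤ (S : Subgroup G) := hP.trans inf_le_left
  have hr : (conjAut ⊤ P).range = (Cfsg.groupFusionSystem (S : Subgroup G)).autGroup P := by
    rw [conjAut_range, Cfsg.Agent.Fusion.Group.autGroup_group hPS]
  let f : normalizerIn ⊤ P →* (Cfsg.groupFusionSystem (S : Subgroup G)).autGroup P :=
    (MulEquiv.subgroupCongr hr).toMonoidHom.comp (conjAut ⊤ P).rangeRestrict
  have hf : Function.Surjective f :=
    (MulEquiv.subgroupCongr hr).surjective.comp (conjAut ⊤ P).rangeRestrict_surjective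
  rw [← Cfsg.Agent.Cores.map_pResidual_of_surjective hf p] at hα
  obtain ⟨n, hn, rfl⟩ := hα
  have hnK : (n : G) ∈ K :=
    Cfsg.Agent.Cores.map_pResidual_le (normalizerIn ⊤ P).subtype p ⟨n, hn, rfl⟩
  have he : ∀ x ∈ P, autFun (conjAut ⊤ P n) x = cj (n : G) x := fun x hx => conjAut_apply n hx
  refine (mem_autGroup_iff hP).2 ((Cfsg.Agent.Fusion.Group.isMap_sub_iff).2 ?_)
  exact ⟨hP, fun x hx => hP (autFun_mem _ hx), n, hnK, fun x hx => he x hx⟩

end Cfsg.Agent.S5139
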