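import Cfsg.Statements.S5141
import Cfsg.Agent.Lib.Fusion.PPrimeNormal
-- import your own Cfsg.Agent.* helpers here

set_option autoImplicit false
open Cfsg

namespace Cfsg.Agent.S5141

/-- Let F be a saturated fusion system over a finite p-group S and E a weakly normal subsystem of F over T. Then the p'-residual subsystem of E (the least saturated subsystem of E over T of index prime to p) is normal in F. -/
theorem result {Ω : Type*} [Group Ω] {S : Subgroup Ω} [Finite S] (p : ℕ) [Fact p.Prime] (hS : IsPGroup p S) (F : Cfsg.FusionSystem S) (hF : F.IsSaturated p) {T : Subgroup Ω} (E : Cfsg.FusionSystem T) (hE : E.IsWeaklyNormalIn F p) (D : Cfsg.FusionSystem T) (hD : E.IsPPrimeResidual p D) : D.IsNormalIn F p := by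
  have hTS : T ≤ S := Agent.Fusion.Subsystems.subsystem_le hE.2.2.1
  have : Finite T := Agent.Fusion.Saturation.finite_of_le hTS
  have hTp : IsPGroup p T := hS.to_le hTS
  obtain ⟨V, hV⟩ := Agent.Fusion.PPrimeResidual.exists_sys (F := E) (p := p) hTp
  have h1 := Agent.Fusion.PPrimeResidual.least hTp hE.1 hV hD.1 hD.2.1
  have h2 := hD.2.2 V (Agent.Fusion.PPrimeResidual.saturated hTp hE.1 hV)
    (Agent.Fusion.PPrimeResidual.hasPrimeToPIndex hTp hE.1 hV)
  refine Agent.Fusion.PPrimeNormal.normal_of_val hE.2.2 hS hF hE.1 hD.1 fun P f => ?_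
  exact ⟨fun h => (hV P f).1 (Agent.Fusion.Basic.isMap_of_subset h2 h),
    fun h => Agent.Fusion.Basic.isMap_of_subset h1 ((hV P f).2 h)⟩

end Cfsg.Agent.S5141
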