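import Cfsg.Statements.S5153
import Cfsg.Agent.Lib.Fusion.Subsystems

set_option autoImplicit false
open Cfsg

namespace Cfsg.Agent.S5153

open Cfsg.FusionSystem Cfsg.Agent.Fusion.Basic Cfsg.Agent.Fusion.Saturation Cfsg.Agent.Fusion.Normal Cfsg.Agent.Fusion.Subsystems

theorem main {Ω : Type*} [Group Ω] {T S : Subgroup Ω} {E : Cfsg.FusionSystem T}
    {F : Cfsg.FusionSystem S} {p : ℕ} (hE : E.IsSubnormalIn F p) :
    Fact p.Prime → Finite S → IsPGroup p S → F.IsSaturated p → ∀ P : Subgroup Ω, P ≤ T → F.IsFullyNormalized P → E.IsFullyNormalized P := by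
  have hle : ∀ {T S : Subgroup Ω} {E : Cfsg.FusionSystem T} {F : Cfsg.FusionSystem S} {q : ℕ},
      E.IsSubnormalIn F q → T ≤ S := by
    intro T S E F q h
    induction h with
    | refl => exact le_rfl
    | step _ hD ih => exact ih.trans (subsystem_le hD.1.2.2.1)
  induction hE with
  | refl => exact fun _ _ _ _ P _ h => h
  | step hED hD ih =>
    intro hp hfinS hS hF P hPT hP
    have hUS := subsystem_le hD.1.2.2.1
    have hfin := finite_of_le hUS
    exact ih hp hfin (hS.to_le hUS) hD.1.1 P hPT
      (fullyNormalized_of_subsystem hS hF hD.1.2.2.2.1 hD.1.2.2.1 (hPT.trans (hle hED)) hP)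

/-- Let F be a saturated fusion system over a finite p-group S and E a subnormal subsystem of F over T. Then every subgroup of T that is fully normalized in F is fully normalized in E. -/
theorem result {Ω : Type*} [Group Ω] {S : Subgroup Ω} [Finite S] (p : ℕ) [Fact p.Prime] (hS : IsPGroup p S) (F : Cfsg.FusionSystem S) (hF : F.IsSaturated p) {T : Subgroup Ω} (E : Cfsg.FusionSystem T) (hE : E.IsSubnormalIn F p) (P : Subgroup Ω) (hPT : P ≤ T) (hP : F.IsFullyNormalized P) : E.IsFullyNormalized P := by
  exact main hE inferInstance inferInstance hS hF P hPT hP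

end Cfsg.Agent.S5153
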