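import Cfsg.Statements.S5154
import Mathlib
import Cfsg.Agent.Lib.Components.FusionComponent
-- import your own Cfsg.Agent.* helpers here

set_option autoImplicit false
set_option linter.all false
open Cfsg Cfsg.FusionSystem Cfsg.Agent.Fusion Cfsg.Agent.Fusion.Basic Cfsg.Agent.Fusion.Saturation Cfsg.Agent.Fusion.Factor Cfsg.Agent.Fusion.Subsystems Cfsg.Agent.Fusion.Transport Cfsg.Agent.Components.FusionComponent
open Cfsg

namespace Cfsg.Agent.S5154

/-- Let F be a saturated fusion system over a finite p-group S, C a component of F over T, and γ a map of F with source T. Then the image of C under γ — the fusion system over γ(T) whose maps are the homomorphisms induced along γ by the maps of C — is again a component of F. -/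
theorem result {Ω : Type*} [Group Ω] {S : Subgroup Ω} [Finite S] (p : ℕ) [Fact p.Prime] (hS : IsPGroup p S) (F : Cfsg.FusionSystem S) (hF : F.IsSaturated p) {T : Subgroup Ω} (C : Cfsg.FusionSystem T) (hC : C.IsComponentIn F p) (γ : T →* Ω) (hγ : γ ∈ F.Hom T) (E : Cfsg.FusionSystem γ.range) (hE : C.IsFactorSystem ⊥ γ E) : E.IsComponentIn F p := by
  obtain ⟨e, he⟩ : ∃ e : Iso T γ.range, e.fwd = ext γ := by
    rw [range_eq_img]; exact exists_iso_of_map (IsMap.of_hom hγ)
  have hT : T ≤ S := (F.le_of_mem hγ).1
  have : Finite T := finite_of_le hT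
  have hE' := factor_bot hE e fun x => by rw [he, ext_apply]
  rw [← hE']
  exact ⟨conj_subnormal hC.1 hS e (by rw [he]; exact IsMap.of_hom hγ),
    push_quasisimple (hS.to_le hT) e hC.2⟩

end Cfsg.Agent.S5154
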