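import Cfsg.Statements.S5156
import Mathlib
import Cfsg.Agent.Lib.Fusion.PSolvableModel
import Cfsg.Agent.Lib.Fusion.PPowerNormal
import Cfsg.Agent.Lib.Fusion.PPrimeResidual
import Cfsg.Agent.Lib.Fusion.ModelExists
import Cfsg.Agent.Lib.Fusion.Hyperfocal
import Cfsg.Agent.Lib.Fusion.Solvable
import Cfsg.Agent.Lib.Fusion.Focal
import Cfsg.Agent.Lib.Cores.Residual
import Cfsg.Agent.S5141
import Cfsg.Agent.S5291
-- import your own Cfsg.Agent.* helpers here

set_option autoImplicit false
set_option linter.all false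
universe u
open Cfsg

namespace Cfsg.Agent.S5156

open Cfsg Cfsg.FusionSystem Cfsg.Agent.Fusion Cfsg.Agent.Fusion.Basic Cfsg.Agent.Fusion.Saturation
  Cfsg.Agent.Fusion.Normal Cfsg.Agent.Fusion.Subsystems

universe v

variable {p : ℕ}

/-- Extension of a `p`-solvable quotient by a `p`-group or a `p'`-group. -/
theorem good_ker [Fact p.Prime] {G H : Type*} [Group G] [Group H] [Finite G]
    (f : G →* H) (hf : Function.Surjective f)
    (hker : (∃ k, Nat.card f.ker = p ^ k) ∨ (Nat.card f.ker).Coprime p)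
    (h : IsPSolvable p H) : IsPSolvable p G := by
  obtain ⟨n, A, h0, h1, hmono, hn, hi⟩ := h
  have hmono' : Monotone (Fin.cons (⊥ : Subgroup G) fun i => (A i).comap f) := by
    refine Fin.monotone_iff_le_succ.2 fun i => ?_
    refine Fin.cases ?_ (fun i => ?_) i
    · simp
    · rw [Fin.castSucc_succ, Fin.cons_succ, Fin.cons_succ]
      exact Subgroup.comap_mono (hmono (Fin.castSucc_le_succ i))
  refine ⟨n + 1, Fin.cons ⊥ fun i => (A i).comap f, Fin.cons_zero _ _, ?_, hmono',
    fun i => ?_, fun i => ?_⟩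
  · rw [← Fin.succ_last, Fin.cons_succ, h1, Subgroup.comap_top]
  · refine Fin.cases ?_ (fun i => ?_) i
    · rw [Fin.cons_zero]
      infer_instance
    · rw [Fin.cons_succ]
      exact (hn i).comap f
  · refine Fin.cases ?_ (fun i => ?_) i
    · rw [Fin.castSucc_zero, Fin.cons_zero, Fin.cons_succ, h0, MonoidHom.comap_bot,
        Subgroup.relIndex_bot_left]
      exact hker
    · rw [Fin.castSucc_succ, Fin.cons_succ, Fin.cons_succ, Subgroup.relIndex_comap,
        Subgroup.map_comap_eq_self_of_surjective hf]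
      exact hi i

theorem ext_good_aux [Fact p.Prime] : ∀ (n : ℕ) (G : Type v) [Group G] [Finite G],
    Nat.card G ≤ n → ∀ N : Subgroup G, N.Normal → IsPSolvable p N →
    ((∃ k, N.index = p ^ k) ∨ N.index.Coprime p) → IsPSolvable p G := by
  intro n
  induction n with
  | zero =>
    intro G _ _ hn
    have : 0 < Nat.card G := Nat.card_pos
    omega
  | succ n ih =>
    intro G _ _ hn N hN hNs hi
    by_cases hb : N = ⊥
    · subst hb
      rw [Subgroup.index_bot] at hi
      refine ⟨1, ![⊥, ⊤], rfl, rfl, Fin.monotone_iff_le_succ.2 fun i => ?_, fun i => ?_,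
        fun i => ?_⟩
      · fin_cases i; exact bot_le
      · fin_cases i
        · exact (inferInstance : (⊥ : Subgroup G).Normal)
        · exact (inferInstance : (⊤ : Subgroup G).Normal)
      · fin_cases i
        show (∃ k, (⊥ : Subgroup G).relIndex ⊤ = p ^ k) ∨ ((⊥ : Subgroup G).relIndex ⊤).Coprime p
        rw [Subgroup.relIndex_bot_left, Subgroup.card_top]
        exact hi
    have : Nontrivial N := (Subgroup.nontrivial_iff_ne_bot _).2 hb
    obtain ⟨M₀, hchar, hne, hcard⟩ : ∃ M₀ : Subgroup N, M₀.Characteristic ∧ M₀ ≠ ⊥ ∧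
        ((∃ k, Nat.card M₀ = p ^ k) ∨ (Nat.card M₀).Coprime p) := by
      rcases Cfsg.Agent.PLocal.PSolvable.exists_core_ne_bot hNs with h | h
      · exact ⟨_, Cfsg.Agent.PLocal.Cores.pCore_characteristic, h,
          Or.inl (IsPGroup.iff_card.1 (Normal.pCore_isPGroup p N))⟩
      · exact ⟨_, Cfsg.Agent.PLocal.Cores.pPrimeCore_characteristic, h,
          Or.inr Cfsg.Agent.PLocal.Cores.coprime_card_pPrimeCore⟩
    set M := M₀.map N.subtype with hM
    have hMn : M.Normal := ConjAct.normal_of_characteristic_of_normal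
    have hMne : M ≠ ⊥ := fun h => hne ((Subgroup.map_eq_bot_iff_of_injective _
      N.subtype_injective).1 h)
    have hMcard : Nat.card M = Nat.card M₀ := Subgroup.card_map_of_injective N.subtype_injective
    refine good_ker (QuotientGroup.mk' M) (QuotientGroup.mk'_surjective M)
      (by rw [QuotientGroup.ker_mk', hMcard]; exact hcard) ?_
    refine ih (G ⧸ M) ?_ (N.map (QuotientGroup.mk' M))
      (hN.map _ (QuotientGroup.mk'_surjective M))
      (Cfsg.Agent.PLocal.PSolvable.of_surjective hNs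
        ((QuotientGroup.mk' M).subgroupMap_surjective N))
      (Cfsg.Agent.PLocal.PSolvable.good_of_dvd (Fact.out : p.Prime)
        (Subgroup.index_map_dvd N (QuotientGroup.mk'_surjective M)) hi)
    have h1 := Subgroup.card_eq_card_quotient_mul_card_subgroup M
    have h2 : 1 < Nat.card M := (Subgroup.one_lt_card_iff_ne_bot M).2 hMne
    have h3 : 0 < Nat.card (G ⧸ M) := Nat.card_pos
    nlinarith

theorem ext_good [Fact p.Prime] {G : Type v} [Group G] [Finite G] (N : Subgroup G) [hN : N.Normal]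
    (hNs : IsPSolvable p N) (hi : (∃ k, N.index = p ^ k) ∨ N.index.Coprime p) :
    IsPSolvable p G :=
  ext_good_aux (Nat.card G) G le_rfl N hN hNs hi

theorem exists_top_step {G : Type*} [Group G] [Nontrivial G] (h : IsPSolvable p G) :
    ∃ K : Subgroup G, K.Normal ∧ K ≠ ⊤ ∧ ((∃ k, K.index = p ^ k) ∨ K.index.Coprime p) := by
  obtain ⟨n, A, h0, h1, -, hn, hi⟩ := h
  by_contra hc
  have hall : ∀ i, A i = ⊤ := by
    intro i
    induction i using Fin.reverseInduction with
    | last => exact h1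
    | cast i ih =>
      by_contra hne
      refine hc ⟨_, hn _, hne, ?_⟩
      have := hi i
      rwa [ih, Subgroup.relIndex_top_right] at this
  exact bot_ne_top (h0.symm.trans (hall 0))

/-- An injective image of a subgroup of a `p`-solvable group. -/
theorem of_injective [Fact p.Prime] {G H : Type*} [Group G] [Group H] (h : IsPSolvable p H)
    (f : G →* H) (hf : Function.Injective f) : IsPSolvable p G :=
  Cfsg.Agent.PLocal.PSolvable.congr (MonoidHom.ofInjective hf).symm
    (Cfsg.Agent.PLocal.PSolvable.subgroup h f.range)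

variable {Ω : Type*} [Group Ω] {S T : Subgroup Ω} {F : FusionSystem S}

/-- `G`-elements paired with the automorphisms of `P` they induce. -/
def graph {G : Type*} [Group G] (F : FusionSystem S) (ι : S →* G) {P : Subgroup Ω} (hP : P ≤ S) :
    Subgroup (G × F.autGroup P) where
  carrier := {ga | ∀ x : S, (x : Ω) ∈ P → ∃ y : S, (y : Ω) = autFun (ga.2 : MulAut P) x ∧
    ι y = ga.1 * ι x * ga.1⁻¹}
  one_mem' := fun x _ => ⟨x, by simp [autFun_one], by simp⟩
  mul_mem' := by
    intro a b ha hb x hx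
    obtain ⟨y, hy, hy'⟩ := hb x hx
    obtain ⟨z, hz, hz'⟩ := ha y (by rw [hy]; exact autFun_mem _ hx)
    refine ⟨z, ?_, ?_⟩
    · rw [hz, hy, Prod.snd_mul, Subgroup.coe_mul, autFun_mul]
    · rw [hz', hy', Prod.fst_mul]
      group
  inv_mem' := by
    intro a ha x hx
    have hw : autFun (a.2 : MulAut P)⁻¹ x ∈ P := autFun_mem _ hx
    obtain ⟨y, hy, hy'⟩ := ha ⟨_, hP hw⟩ hw
    have he : y = x := Subtype.ext (hy.trans (autFun_apply_inv _ _))
    subst he
    refine ⟨⟨_, hP hw⟩, ?_, ?_⟩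
    · rw [Prod.snd_inv, Subgroup.coe_inv]
    · rw [Prod.fst_inv, hy']
      group

theorem graph_fst_injective {G : Type*} [Group G] {ι : S →* G} {P : Subgroup Ω} (hP : P ≤ S) :
    Function.Injective ι →
      Function.Injective ((MonoidHom.fst G (F.autGroup P)).comp (graph F ι hP).subtype) := by
  rintro hι ⟨⟨g, a⟩, ha⟩ ⟨⟨g', a'⟩, ha'⟩ (he : g = g')
  subst he
  refine Subtype.ext (Prod.ext rfl (Subtype.ext (autFun_ext fun x hx => ?_)))
  obtain ⟨y, hy, hy'⟩ := ha ⟨x, hP hx⟩ hx
  obtain ⟨z, hz, hz'⟩ := ha' ⟨x, hP hx⟩ hx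
  have h1 : y = z := hι (hy'.trans hz'.symm)
  exact hy.symm.trans ((congrArg Subtype.val h1).trans hz)

theorem graph_snd {G : Type*} [Group G] {ι : S →* G} (hr : F.IsRealizedBy ι) {P : Subgroup Ω}
    (hP : P ≤ S) (a : F.autGroup P) : ∃ g : G, (g, a) ∈ graph F ι hP := by
  have hm := isMap_of_mem_autGroup hP a.2
  obtain ⟨g, hg⟩ := (hr.2 P hP hm.hom fun x => hP (autFun_mem (a : MulAut P) x.2)).1 hm.hom_mem_self
  exact ⟨g, fun x hx => ⟨⟨_, hP (autFun_mem (a : MulAut P) hx)⟩, rfl, hg ⟨x, hx⟩⟩⟩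

/-- Automizers in the system of a `p`-solvable group are `p`-solvable. -/
theorem autGroup_psolvable [Fact p.Prime] {G : Type*} [Group G] {ι : S →* G}
    (hr : F.IsRealizedBy ι) (hG : IsPSolvable p G) {P : Subgroup Ω} (hP : P ≤ S) :
    IsPSolvable p (F.autGroup P) :=
  Cfsg.Agent.PLocal.PSolvable.of_surjective (of_injective hG _ (graph_fst_injective hP hr.1))
    (f := (MonoidHom.snd G (F.autGroup P)).comp (graph F ι hP).subtype) fun a => by
      obtain ⟨g, hg⟩ := graph_snd hr hP a
      exact ⟨⟨(g, a), hg⟩, rfl⟩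

/-- An automorphism of order prime to the index of a normal subgroup comes from that subgroup. -/
theorem exists_rep {G : Type*} [Group G] {ι : S →* G} (hr : F.IsRealizedBy ι) (K : Subgroup G)
    [K.Normal] {P : Subgroup Ω} (hP : P ≤ S) (a : F.autGroup P)
    (hco : K.index.Coprime (orderOf a)) : ∃ k ∈ K, (k, a) ∈ graph F ι hP := by
  obtain ⟨g, hg⟩ := graph_snd hr hP a
  obtain ⟨m, hm⟩ := exists_pow_eq_self_of_coprime hco
  refine ⟨(g ^ K.index) ^ m, K.pow_mem (Subgroup.pow_index_mem K g) m, ?_⟩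
  have h1 := (graph F ι hP).pow_mem ((graph F ι hP).pow_mem hg K.index) m
  rwa [Prod.pow_mk, Prod.pow_mk, hm] at h1

/-- The hyperfocal subgroup lies in every normal subgroup of `p`-power index. -/
theorem hyp_le_normal [Fact p.Prime] {G : Type*} [Group G] {ι : S →* G} (hr : F.IsRealizedBy ι)
    (K : Subgroup G) [K.Normal] (hK : ∃ k, K.index = p ^ k) :
    F.hyperfocalSubgroup p ≤ (K.comap ι).map S.subtype := by
  refine Hyperfocal.hyp_le_of fun P hP α hα x hx => ?_
  obtain ⟨k, hk⟩ := hK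
  obtain ⟨g, hg, hgr⟩ := exists_rep hr K hP α
    (by rw [hk]; exact (Nat.Coprime.pow_right k hα).symm)
  obtain ⟨y, hy, hy'⟩ := hgr ⟨x, hP hx⟩ hx
  refine ⟨⟨x, hP hx⟩⁻¹ * y, ?_, by simp [hy]⟩
  show ι (_ * y) ∈ K
  rw [map_mul, map_inv, hy']
  have hxn := Subgroup.Normal.conj_mem inferInstance g hg (ι ⟨x, hP hx⟩)⁻¹
  simpa [mul_assoc] using K.mul_mem hxn (K.inv_mem hg)

/-- The maps induced by the elements of `K`. -/
def subK {G : Type*} [Group G] (F : FusionSystem S) (ι : S →* G) (K : Subgroup G)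
    (hK : ι.range ≤ K) : FusionSystem S where
  Hom P := {φ | φ ∈ F.Hom P ∧ ∃ k ∈ K, ∀ (x : P) (hx : (x : Ω) ∈ S) (hy : φ x ∈ S),
    ι ⟨φ x, hy⟩ = k * ι ⟨x, hx⟩ * k⁻¹}
  le_of_mem h := F.le_of_mem h.1
  injective_of_mem h := F.injective_of_mem h.1
  conj_mem := by
    intro P g hP hg
    refine ⟨F.conj_mem hP hg, ι ⟨g, hg⟩, hK ⟨_, rfl⟩, fun x hx hy => ?_⟩
    rw [← map_inv, ← map_mul, ← map_mul]
    exact congrArg ι (Subtype.ext rfl)
  comp_mem := by
    rintro P Q φ ψ ⟨hφ, a, ha, ha'⟩ ⟨hψ, b, hb, hb'⟩ h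
    refine ⟨F.comp_mem hφ hψ h, b * a, K.mul_mem hb ha, fun x hx hy => ?_⟩
    have h1 := ha' x hx ((F.le_of_mem hφ).2 x)
    have h2 := hb' ⟨φ x, h x⟩ ((F.le_of_mem hφ).2 x) hy
    rw [h1] at h2
    exact h2.trans (by group)
  inv_mem := by
    rintro P φ ⟨hφ, a, ha, ha'⟩
    obtain ⟨ψ, hψ, hψe⟩ := F.inv_mem hφ
    refine ⟨ψ, ⟨hψ, a⁻¹, K.inv_mem ha, fun z hz hy => ?_⟩, hψe⟩
    obtain ⟨x, hx⟩ := z.2
    obtain rfl : z = ⟨φ x, ⟨x, rfl⟩⟩ := Subtype.ext hx.symm
    have hxS : (x : Ω) ∈ S := (F.le_of_mem hφ).1 x.2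
    have he : (⟨ψ ⟨φ x, ⟨x, rfl⟩⟩, hy⟩ : S) = ⟨x, hxS⟩ := Subtype.ext (hψe x)
    rw [he, ha' x hxS hz]
    group

theorem subK_realized {G : Type*} [Group G] {ι : S →* G} (hr : F.IsRealizedBy ι)
    (K : Subgroup G) (hK : ι.range ≤ K) :
    (subK F ι K hK).IsRealizedBy (ι.codRestrict K fun s => hK ⟨s, rfl⟩) := by
  refine ⟨fun a b h => hr.1 (congrArg Subtype.val h), fun P hP φ hφ => ⟨?_, ?_⟩⟩
  · rintro ⟨-, k, hk, hk'⟩
    exact ⟨⟨k, hk⟩, fun x => Subtype.ext (hk' x (hP x.2) (hφ x))⟩
  · rintro ⟨k, hk⟩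
    exact ⟨(hr.2 P hP φ hφ).2 ⟨k, fun x => congrArg Subtype.val (hk x)⟩, k, k.2,
      fun x _ _ => congrArg Subtype.val (hk x)⟩

variable [Fact p.Prime] [Finite S]

/-- Constrained, with `p`-solvable automizers. -/
def Good (p : ℕ) (F : FusionSystem S) : Prop :=
  F.IsConstrained p ∧ ∀ P : Subgroup Ω, P ≤ S → IsPSolvable p (F.autGroup P)

theorem sub_autGroup_psolvable {E : FusionSystem T} (hE : E.IsSubsystemOf F) {P : Subgroup Ω}
    (h : IsPSolvable p (F.autGroup P)) : IsPSolvable p (E.autGroup P) :=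
  of_injective h (Subgroup.inclusion (Focal.autGroup_mono hE P)) (Subgroup.inclusion_injective _)

theorem invariant_self (F : FusionSystem S) : F.IsInvariantIn F := by
  refine ⟨fun _ => subset_rfl, Solvable.stronglyClosed_self F, fun P hP φ hφ α hα => ?_,
    fun P hP φ hφ => ⟨1, Subgroup.one_mem _, φ, hφ, fun _ _ => rfl⟩⟩
  set A := (P.subgroupOf S).map (S.subtype.comp α.toMonoidHom)
  have hAS : A ≤ S := by rintro _ ⟨z, -, rfl⟩; exact (α z).2
  have hAP : ∀ z ∈ A, autFun α⁻¹ z ∈ P := by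
    rintro _ ⟨z, hz, rfl⟩
    show autFun α⁻¹ ((α z : S) : Ω) ∈ P
    rw [← autFun_apply, autFun_inv_apply]
    exact hz
  have h1 := (IsMap.of_hom hφ).comp
    ((isMap_of_mem_autGroup le_rfl (inv_mem hα)).restrict hAS) hAP
  have h2 := (isMap_of_mem_autGroup le_rfl hα).comp h1
    fun z hz => (IsMap.of_hom hφ).mem (hAP z hz)
  refine ⟨h2.hom, h2.hom_mem_self, fun x hφx hαx => ?_⟩
  rw [IsMap.hom_apply]
  simp only
  rw [← autFun_apply, autFun_inv_apply, ext_apply, autFun_of_mem α hφx]

theorem residual_weaklyNormal (hS : IsPGroup p S) (hF : F.IsSaturated p) {E : FusionSystem S}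
    (hE : F.IsPPrimeResidual p E) : E.IsWeaklyNormalIn F p :=
  (Cfsg.Agent.S5141.result p hS F hF F ⟨hF, hF, invariant_self F⟩ E hE).1

/-- The core of a weakly normal subsystem is normal. -/
theorem core_normal_of_weaklyNormal (hS : IsPGroup p S) (hF : F.IsSaturated p)
    {E : FusionSystem T} (hE : E.IsWeaklyNormalIn F p) : F.IsNormal E.core := by
  have hTS : T ≤ S := subsystem_le hE.2.2.1
  have hfinT : Finite T := finite_of_le hTS
  have hR : E.IsNormal E.core := core_isNormal
  have h := Cfsg.Agent.S5291.result p hS F hF E hE E.core hR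
  suffices he : Subgroup.closure {x : Ω | ∃ φ ∈ F.Hom E.core, ∃ r : E.core, x = φ r} = E.core by
    rwa [he] at h
  refine le_antisymm ((Subgroup.closure_le _).2 ?_) fun x hx => Subgroup.subset_closure ?_
  · rintro _ ⟨φ, hφ, r, rfl⟩
    obtain ⟨α, hα, f₀, hf₀, he⟩ := invariant_frattini hE.2.2 hR.1 (IsMap.of_hom hφ)
    rw [← ext_apply φ r, he r r.2]
    refine le_core (Cfsg.Agent.S5291.normal_transport hE.2.2 hTS hR hα) ?_
    exact mem_img_self _ ((normal_img_eq hR hf₀ le_rfl).le (mem_img_self f₀ r.2))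
  · exact ⟨conjHom E.core 1, F.conj_mem (hR.1.trans hTS) (Subgroup.one_mem _), ⟨x, hx⟩,
      by simp [conjHom]⟩

theorem centric_of_normal {Q : Subgroup Ω} (hQ : F.IsNormal Q) (h : centralizerIn S Q ≤ Q) :
    F.IsCentric Q := by
  refine ⟨hQ.1, fun R hR => ?_⟩
  obtain ⟨f, hf, rfl⟩ := isConj_iff_map.1 hR
  rwa [normal_img_eq hQ hf le_rfl]

theorem core_centralizer (hF : F.IsConstrained p) : centralizerIn S F.core ≤ F.core := by
  obtain ⟨-, D, hD, hDc⟩ := hF
  exact (CentricExt.centric_mono hDc (le_core hD) core_isNormal.1).2 _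
    (isConj_refl core_isNormal.1)

/-- The step from `O^{p'}(F)` to `F`. -/
theorem good_of_residual (hS : IsPGroup p S) (hF : F.IsSaturated p) {E : FusionSystem S}
    (hE : F.IsPPrimeResidual p E) (hg : Good p E) : Good p F := by
  refine ⟨⟨hF, E.core, core_normal_of_weaklyNormal hS hF (residual_weaklyNormal hS hF hE),
    centric_of_normal (core_normal_of_weaklyNormal hS hF (residual_weaklyNormal hS hF hE))
      (core_centralizer hg.1)⟩, fun P hP => ?_⟩
  have hfinP : Finite P := finite_of_le hP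
  set A := F.autGroup P
  set Z : Set A := {α : A | ∃ k : ℕ, orderOf α = p ^ k} with hZ
  have hn : (Subgroup.closure Z).Normal := ⟨fun z hz g => by
    have hle : (Subgroup.closure Z).map (MulAut.conj g).toMonoidHom ≤ Subgroup.closure Z := by
      rw [MonoidHom.map_closure, Subgroup.closure_le]
      rintro _ ⟨a, ⟨k, hk⟩, rfl⟩
      exact Subgroup.subset_closure ⟨k, ((MulAut.conj g).orderOf_eq a).trans hk⟩
    exact hle ⟨z, hz, rfl⟩⟩
  have hNs : IsPSolvable p (Subgroup.closure Z) := by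
    refine of_injective (hg.2 P hP)
      ((A.subtype.comp (Subgroup.closure Z).subtype).codRestrict (E.autGroup P)
        fun z => hE.2.1.2 P hP ⟨z, z.2, rfl⟩) fun a b h => ?_
    exact Subtype.ext (Subtype.ext (congrArg Subtype.val h :))
  refine ext_good (Subgroup.closure Z) hNs (Or.inr ?_)
  obtain ⟨R⟩ : Nonempty (Sylow p A) := inferInstance
  have hRle : (R : Subgroup A) ≤ Subgroup.closure Z := fun r hr => by
    obtain ⟨k, hk⟩ := (IsPGroup.iff_orderOf (G := R)).1 R.2 ⟨r, hr⟩
    rw [Subgroup.orderOf_mk] at hk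
    exact Subgroup.subset_closure ⟨k, hk⟩
  exact Nat.Coprime.symm ((Fact.out : p.Prime).coprime_iff_not_dvd.2 fun h =>
    R.not_dvd_index (h.trans (Subgroup.index_dvd_of_le hRle)))

/-- Every subgroup between the hyperfocal subgroup and `S` that is normal in `S` is strongly closed. -/
theorem closed_of_ge_hyp (hS : IsPGroup p S) (hF : F.IsSaturated p) {U : Subgroup Ω}
    (hU : F.hyperfocalSubgroup p ≤ U) (hUS : U ≤ S) (hn : ∀ a ∈ S, ∀ x ∈ U, a * x * a⁻¹ ∈ U) :
    F.StronglyClosed U := by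
  have hle : F ≤ Focal.closedSystem F U hn := by
    refine Alperin.le_of_autGroup hS hF fun P hP _ α hα => ?_
    obtain ⟨r, hr, a, ha, rfl⟩ := Focal.aut_decomp hS hF hP hα
    obtain ⟨g, hg, hge⟩ := mem_autInducedBy_iff'.1 ha
    have hm := isMap_of_mem_autGroup hP.1 hα
    refine (mem_autGroup_iff hP.1).2 ⟨hm.hom, ⟨hm.hom_mem_self, fun x => ?_⟩, fun _ => rfl⟩
    rw [IsMap.hom_apply, autFun_mul, hge _ (autFun_mem r x.2), cj_apply]
    have h2 := hU (Focal.mem_hyp (F := F) (p := p) hP.1 hr x.2)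
    have h1 : (x : Ω) ∈ U ↔ autFun r x ∈ U := by
      constructor
      · intro hx; simpa using U.mul_mem hx h2
      · intro hx; simpa [mul_assoc] using U.mul_mem hx (U.inv_mem h2)
    refine h1.trans ⟨fun h => hn _ hg.1 _ h, fun h => ?_⟩
    simpa [mul_assoc] using hn _ (S.inv_mem hg.1) _ h
  exact ⟨hUS, fun R hR φ hφ x => ((hle R hφ).2 x).1 (hR x.2)⟩

/-- A chain with central steps from `T` to `S`. -/
theorem exists_chain (hS : IsPGroup p S) (hTS : T ≤ S)
    (hn : ∀ a ∈ S, ∀ x ∈ T, a * x * a⁻¹ ∈ T) :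
    ∃ (m : ℕ) (U : ℕ → Subgroup Ω), U 0 = T ∧ U m = S ∧ Monotone U ∧ (∀ i, T ≤ U i) ∧
      (∀ i, U i ≤ S) ∧ (∀ i, ∀ a ∈ S, ∀ x ∈ U i, a * x * a⁻¹ ∈ U i) ∧
      ∀ i, ∀ x ∈ S, ∀ y ∈ U (i + 1), x * y * x⁻¹ * y⁻¹ ∈ U i := by
  have : Group.IsNilpotent S := hS.isNilpotent
  have hnT : S ≤ Subgroup.normalizer (T : Set Ω) := fun a ha =>
    Subgroup.mem_normalizer_iff.2 fun x => ⟨hn a ha x, fun h => by
      have := hn _ (S.inv_mem ha) _ h
      simpa [mul_assoc] using this⟩
  obtain ⟨m, hm⟩ := Group.IsNilpotent.nilpotent S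
  set Z : ℕ → Subgroup Ω := fun i => (Subgroup.upperCentralSeries S i).map S.subtype with hZ
  have hZS : ∀ i, Z i ≤ S := fun i => Subgroup.map_subtype_le _
  have hUS : ∀ i, Z i ⊔ T ≤ S := fun i => sup_le (hZS i) hTS
  have hcomm : ∀ i, ∀ x ∈ S, ∀ y ∈ Z (i + 1) ⊔ T, x * y * x⁻¹ * y⁻¹ ∈ Z i ⊔ T := by
    intro i x hx y hy
    obtain ⟨a, ⟨b, hb, rfl⟩, t, ht, rfl⟩ := Factor.coe_sup_of_normal hnT (hZS (i + 1)) hy
    have h1 := Subgroup.mem_upperCentralSeries_succ_iff.1 hb ⟨x, hx⟩
    have hz : x * (b : Ω) * x⁻¹ * (b : Ω)⁻¹ ∈ Z i :=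
      ⟨_, (Subgroup.upperCentralSeries S i).inv_mem h1, by simp [commutatorElement_def, mul_assoc]⟩
    have hbS : (b : Ω) ∈ S := b.2
    have h2 : (b : Ω) * ((x * t * x⁻¹) * t⁻¹) * (b : Ω)⁻¹ ∈ T :=
      hn _ hbS _ (T.mul_mem (hn _ hx _ ht) (T.inv_mem ht))
    have h3 : x * ((S.subtype b) * t) * x⁻¹ * ((S.subtype b) * t)⁻¹ =
        (x * (b : Ω) * x⁻¹ * (b : Ω)⁻¹) * ((b : Ω) * ((x * t * x⁻¹) * t⁻¹) * (b : Ω)⁻¹) := by
      rw [Subgroup.subtype_apply]; group
    rw [h3]
    exact Subgroup.mul_mem_sup hz h2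
  have hmono : Monotone fun i => Z i ⊔ T := fun i j h =>
    sup_le_sup_right (Subgroup.map_mono (Subgroup.upperCentralSeries_mono S h)) _
  refine ⟨m, fun i => Z i ⊔ T, by simp [hZ], ?_, hmono, fun i => le_sup_right, hUS, ?_, hcomm⟩
  · refine le_antisymm (hUS m) fun x hx => Subgroup.mem_sup_left ?_
    exact ⟨⟨x, hx⟩, hm ▸ Subgroup.mem_top _, rfl⟩
  · intro i a ha y hy
    have h1 := hcomm i a ha y (hmono (Nat.le_succ i) hy)
    have h2 := (Z i ⊔ T).mul_mem h1 hy
    simpa [mul_assoc] using h2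

/-- The step from `O^p(F)` to `F`. -/
theorem good_of_pResidual (hS : IsPGroup p S) (hF : F.IsSaturated p)
    {D : FusionSystem (F.hyperfocalSubgroup p)} (hD : F.IsPResidual p D) (hg : Good p D) :
    Good p F := by
  have hTS : (F.hyperfocalSubgroup p) ≤ S := Focal.hyp_le
  have hfinT : Finite (F.hyperfocalSubgroup p) := finite_of_le hTS
  have hTn : ∀ a ∈ S, ∀ x ∈ (F.hyperfocalSubgroup p), a * x * a⁻¹ ∈ (F.hyperfocalSubgroup p) := fun a ha x hx => Focal.conj_mem_hyp ha hx
  have hTsc : F.StronglyClosed (F.hyperfocalSubgroup p) := Focal.hyp_stronglyClosed hS hF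
  have hDn := PPowerNormal.isNormalIn_of_pPowerIndex hS hF hTS hTn hD.1 hD.2
  constructor
  · set R := D.core with hRdef
    have hR : F.IsNormal R := core_normal_of_weaklyNormal hS hF hDn.1
    have hRT : R ≤ (F.hyperfocalSubgroup p) := core_isNormal.1
    have hRc : centralizerIn (F.hyperfocalSubgroup p) R ≤ R := core_centralizer hg.1
    set V := R ⊔ centralizerIn S R with hV
    have hVsc : F.StronglyClosed V :=
      Factor.stronglyClosed_sup_centralizerIn hS hF (normal_stronglyClosed hR)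
    obtain ⟨n, B, B0, Bn, Bmono, BN, Ble, Bcomm⟩ := normal_series hS hR
    obtain ⟨m, U, U0, Um, Umono, UT, US, Un, Ucomm⟩ := exists_chain hS hTS hTn
    have hRn := le_normalizer_of_stronglyClosed (normal_stronglyClosed hR)
    have hdec : ∀ x ∈ V, ∃ c ∈ centralizerIn S R, ∃ r ∈ R, c * r = x := fun x hx =>
      Factor.coe_sup_of_normal hRn centralizerIn_le (sup_comm R (centralizerIn S R) ▸ hx)
    have hVT : U 0 ⊓ V = R := by
      rw [U0]
      refine le_antisymm ?_ (le_inf hRT le_sup_left)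
      rintro x ⟨hxT, hxV⟩
      obtain ⟨c, hc, r, hr, rfl⟩ := hdec x hxV
      have hcT : c ∈ (F.hyperfocalSubgroup p) := by simpa using (F.hyperfocalSubgroup p).mul_mem hxT ((F.hyperfocalSubgroup p).inv_mem (hRT hr))
      exact R.mul_mem (hRc ⟨hcT, hc.2⟩) hr
    have hVn : F.IsNormal V := by
      refine normal_of_series hS hF (n + m) (fun i => if i < n then B i else U (i - n) ⊓ V)
        ?_ ?_ ?_ ?_ ?_
      · show (if 0 < n then B 0 else U (0 - n) ⊓ V) = ⊥
        split_ifs with h
        · exact B0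
        · rw [Nat.zero_sub, hVT, ← Bn, show n = 0 by omega, B0]
      · show (if n + m < n then B (n + m) else U (n + m - n) ⊓ V) = V
        rw [if_neg (by omega), Nat.add_sub_cancel_left, Um, inf_eq_right.2 hVsc.1]
      · intro i hi
        show (if i < n then B i else U (i - n) ⊓ V) ≤
          if i + 1 < n then B (i + 1) else U (i + 1 - n) ⊓ V
        split_ifs with h1 h2 h2
        · exact Bmono (Nat.le_succ i)
        · rw [show i + 1 - n = 0 by omega, hVT]
          exact Ble i
        · omega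
        · exact inf_le_inf_right _ (Umono (by omega))
      · intro i _
        show F.StronglyClosed (if i < n then B i else U (i - n) ⊓ V)
        split_ifs
        · exact normal_stronglyClosed (BN i)
        · exact ⟨inf_le_left.trans (US _), fun A hA φ hφ x =>
            ⟨(closed_of_ge_hyp hS hF (UT _) (US _) (Un _)).2 A (hA.trans inf_le_left) φ hφ x,
              hVsc.2 A (hA.trans inf_le_right) φ hφ x⟩⟩
      · intro i hi x hx y hy
        show x * y * x⁻¹ * y⁻¹ ∈ if i < n then B i else U (i - n) ⊓ V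
        change y ∈ if i + 1 < n then B (i + 1) else U (i + 1 - n) ⊓ V at hy
        split_ifs with h1
        · have hyB : y ∈ B (i + 1) := by
            split_ifs at hy with h2
            · exact hy
            · rw [show i + 1 - n = 0 by omega, hVT] at hy
              rwa [show i + 1 = n by omega, Bn]
          obtain ⟨c, hc, r, hr, rfl⟩ := hdec x hx
          have h3 : r * y * r⁻¹ ∈ R := R.mul_mem (R.mul_mem hr (Ble _ hyB)) (R.inv_mem hr)
          rw [show c * r * y * (c * r)⁻¹ * y⁻¹ = c * (r * y * r⁻¹) * c⁻¹ * y⁻¹ by group,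
            ← hc.2 _ h3, mul_inv_cancel_right]
          exact Bcomm i r hr y hyB
        · rw [if_neg (by omega), show i + 1 - n = (i - n) + 1 by omega] at hy
          exact ⟨Ucomm _ x (hVsc.1 hx) y hy.1,
            V.mul_mem (V.mul_mem (V.mul_mem hx hy.2) (V.inv_mem hx)) (V.inv_mem hy.2)⟩
    exact ⟨hF, V, hVn, centric_of_normal hVn fun x hx => Subgroup.mem_sup_right
      ⟨hx.1, fun r hr => hx.2 r (Subgroup.mem_sup_left hr)⟩⟩
  · intro W hW
    have hfinW : Finite W := finite_of_le hW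
    have hWT : W ⊓ (F.hyperfocalSubgroup p) ≤ (F.hyperfocalSubgroup p) := inf_le_right
    have hfinWT : Finite (W ⊓ (F.hyperfocalSubgroup p) : Subgroup Ω) := finite_of_le hWT
    have hinv : ∀ a : F.autGroup W, ∀ x ∈ W ⊓ (F.hyperfocalSubgroup p), autFun (a : MulAut W) x ∈ W ⊓ (F.hyperfocalSubgroup p) :=
      fun a x hx => ⟨autFun_mem _ hx.1,
        stronglyClosed_mem hTsc (isMap_of_mem_autGroup hW a.2) hx.1 hx.2⟩
    have hex : ∀ a : F.autGroup W, ∃ b : F.autGroup (W ⊓ (F.hyperfocalSubgroup p)),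
        ∀ x ∈ W ⊓ (F.hyperfocalSubgroup p), autFun (b : MulAut (W ⊓ (F.hyperfocalSubgroup p) : Subgroup Ω)) x = autFun (a : MulAut W) x := by
      intro a
      have hm := (isMap_of_mem_autGroup hW a.2).restrict (inf_le_left : W ⊓ (F.hyperfocalSubgroup p) ≤ W)
      obtain ⟨b, hb, hbe⟩ := hm.exists_aut (eq_of_le_card (img_le (hinv a)) hm.card_img.ge)
      exact ⟨⟨b, hb⟩, hbe⟩
    choose r hr using hex
    let ρ : F.autGroup W →* MulAut (W ⊓ (F.hyperfocalSubgroup p) : Subgroup Ω) :=
      MonoidHom.mk' (fun a => (r a : MulAut (W ⊓ (F.hyperfocalSubgroup p) : Subgroup Ω))) fun a b => autFun_ext fun x hx => by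
        rw [hr _ x hx, autFun_mul, hr b x hx, hr a _ (hinv b x hx), Subgroup.coe_mul, autFun_mul]
    set K := pResidual p (F.autGroup W) with hK
    have hKle : K ≤ (D.autGroup (W ⊓ (F.hyperfocalSubgroup p))).comap ρ := by
      rw [hK, pResidual, Subgroup.closure_le]
      intro a ha
      refine PPowerNormal.pPrime_mem hD.2 hWT (r a).2 ?_
      exact Nat.Coprime.coprime_dvd_left (orderOf_map_dvd ρ a) ha
    let f : K →* D.autGroup (W ⊓ (F.hyperfocalSubgroup p)) := (ρ.comp K.subtype).codRestrict _ fun k => hKle k.2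
    have hker : IsPGroup p f.ker := by
      rintro ⟨⟨a, haK⟩, hak⟩
      have hρ : ρ a = 1 := congrArg Subtype.val (hak :)
      let C : ℕ → Subgroup W := fun i => if i = 0 then ⊥ else if i = 1 then (W ⊓ (F.hyperfocalSubgroup p)).subgroupOf W else ⊤
      obtain ⟨k, hk⟩ := Normal.exists_pow_eq_one_of_stabilizes (p := p) (hS.to_le hW) C 2 rfl rfl
        (fun i hi => by interval_cases i <;> simp [C]) (a : MulAut W) (fun i hi x hx => by
          interval_cases i
          · simp only [C] at hx ⊢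
            norm_num at hx ⊢
            rw [Subgroup.mem_subgroupOf] at hx
            have h1 := hr a _ ⟨x.2, hx⟩
            rw [show (r a : MulAut (W ⊓ (F.hyperfocalSubgroup p) : Subgroup Ω)) = 1 from hρ, autFun_one, autFun_apply] at h1
            rw [inv_mul_eq_one]
            exact Subtype.ext h1
          · simp only [C]
            norm_num
            rw [Subgroup.mem_subgroupOf, Subgroup.coe_mul, Subgroup.coe_inv, ← autFun_apply]
            exact Focal.mem_hyp (F := F) hW ⟨a, haK, rfl⟩ x.2)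
      exact ⟨k, Subtype.ext (Subtype.ext (Subtype.ext (by simpa using hk)))⟩
    have hKs : IsPSolvable p K :=
      good_ker f.rangeRestrict f.rangeRestrict_surjective
        (Or.inl (IsPGroup.iff_card.1 (by rw [MonoidHom.ker_rangeRestrict]; exact hker)))
        (Cfsg.Agent.PLocal.PSolvable.subgroup (hg.2 _ hWT) _)
    exact ext_good K hKs (Or.inl (Cfsg.Agent.Cores.pResidual_index p))

theorem forward {S : Subgroup Ω} {F : FusionSystem S} {q : ℕ}
    (h : F.HasTerminatingResidualSeries q) :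
    ∀ [Fact q.Prime] [Finite S], IsPGroup q S → F.IsSaturated q → Good q F := by
  induction h with
  | @trivial S F q hb =>
    intro _ _ hS hF
    have hbot : F.IsNormal ⊥ := isNormal_bot
    refine ⟨⟨hF, ⊥, hbot, centric_of_normal hbot fun x hx => ?_⟩, fun P hP => ?_⟩
    · exact hb ▸ hx.1
    · have : Finite P := finite_of_le hP
      have : Subsingleton P := by
        have hPb : P = ⊥ := le_bot_iff.1 (hb ▸ hP)
        subst hPb
        infer_instance
      have : Subsingleton (MulAut P) := ⟨fun a b => MulEquiv.ext fun x => Subsingleton.elim _ _⟩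
      exact ⟨0, fun _ => ⊥, rfl, Subsingleton.elim _ _, fun _ _ _ => le_rfl,
        fun _ => inferInstance, fun i => i.elim0⟩
  | @step S F E q D hE hD hh ih =>
    intro _ _ hS hF
    have hfin : Finite (E.hyperfocalSubgroup q) := finite_of_le Focal.hyp_le
    exact good_of_residual hS hF hE
      (good_of_pResidual hS hE.1 hD (ih (hS.to_le Focal.hyp_le) hD.1))

theorem backward {Ω : Type v} [Group Ω] [Fact p.Prime] : ∀ (n : ℕ) {S : Subgroup Ω} [Finite S],
    IsPGroup p S → ∀ (F : FusionSystem S), Nat.card S ≤ n → Good p F →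
      F.HasTerminatingResidualSeries p := by
  intro n
  induction n with
  | zero =>
    intro S _ _ F hn
    have : 0 < Nat.card S := Nat.card_pos
    omega
  | succ n ih =>
    intro S _ hS F hn hg
    by_cases hb : S = ⊥
    · exact .trivial F p hb
    obtain ⟨E, hE⟩ := PPrimeResidual.exists_residual hS hg.1.1
    have hEc : E.IsConstrained p :=
      Constrained.constrained_sub hS hg.1 hE.2.1.1 Subgroup.le_normalizer hE.1
    have hgE : ∀ P : Subgroup Ω, P ≤ S → IsPSolvable p (E.autGroup P) :=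
      fun P hP => sub_autGroup_psolvable hE.2.1.1 (hg.2 P hP)
    obtain ⟨D, hD⟩ := PPowerIndex.exists_pPowerIndex hS hE.1 Focal.hyp_le le_rfl
    have hTS : E.hyperfocalSubgroup p ≤ S := Focal.hyp_le
    have hfinT : Finite (E.hyperfocalSubgroup p) := finite_of_le hTS
    obtain ⟨H, _, ι, hm⟩ := Model.exists_model hS hEc
    have hfinH : Finite H := hm.1
    have hr := hm.2.1
    obtain ⟨R, hR⟩ := hm.2.2.1
    have m := ModelUnique.model_mSetting hS hm
    have hsol : IsPSolvable p H := (PSolvableModel.psolvable_iff m).2 (hgE _ core_isNormal.1)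
    have : Nontrivial S := (Subgroup.nontrivial_iff_ne_bot S).2 hb
    have : Nontrivial H := hr.1.nontrivial
    obtain ⟨K, hKn, hKtop, hKi⟩ := exists_top_step hsol
    have hlt : E.hyperfocalSubgroup p ≠ S := by
      intro heq
      have hKle : ι.range ≤ K := by
        rcases hKi with hi | hi
        · rintro _ ⟨s, rfl⟩
          obtain ⟨z, hz, he⟩ := hyp_le_normal hr K hi (show (s : Ω) ∈ E.hyperfocalSubgroup p by rw [heq]; exact s.2)
          exact (Subtype.ext he : z = s) ▸ hz
        · intro y hy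
          obtain ⟨s, rfl⟩ := hy
          obtain ⟨k, hk⟩ := hS s
          have h1 : ((ι s : H) : H ⧸ K) ^ p ^ k = 1 := by
            rw [← QuotientGroup.mk_pow, ← map_pow, hk, map_one]; rfl
          have h2 : orderOf ((ι s : H) : H ⧸ K) ∣ K.index := by
            rw [Subgroup.index_eq_card]; exact orderOf_dvd_natCard _
          have h3 := Nat.eq_one_of_dvd_coprimes (hi.pow_right k) h2 (orderOf_dvd_of_pow_eq_one h1)
          exact (QuotientGroup.eq_one_iff _).1 (orderOf_eq_one_iff.1 h3)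
      have hndvd : ¬ p ∣ K.index := fun h =>
        R.not_dvd_index (h.trans (Subgroup.index_dvd_of_le (hR ▸ hKle)))
      have hsub : ∀ P, E.Hom P ⊆ (subK E ι K hKle).Hom P := by
        refine hE.2.2 _ (Constrained.realized_saturated hS (subK_realized hr K hKle)
          (T := R.subtype (hR ▸ hKle)) ?_) ⟨fun P φ hφ => hE.2.1.1 P hφ.1, fun P hP => ?_⟩
        · rw [Sylow.coe_subtype, hR]
          ext ⟨y, hy⟩
          constructor
          · rintro ⟨s, hs⟩; exact ⟨s, Subtype.ext hs⟩
          · rintro ⟨s, hs⟩; exact ⟨s, congrArg Subtype.val hs⟩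
        · rw [Subgroup.map_le_iff_le_comap, Subgroup.closure_le]
          rintro a ⟨k, hk⟩
          have haE : (a : MulAut P) ∈ E.autGroup P :=
            hE.2.1.2 P hP ⟨a, Subgroup.subset_closure ⟨k, hk⟩, rfl⟩
          obtain ⟨g, hgK, hgr⟩ := exists_rep hr K hP ⟨_, haE⟩ (by
            rw [Subgroup.orderOf_mk, Subgroup.orderOf_coe, hk]
            exact Nat.Coprime.pow_right k
              ((Fact.out : p.Prime).coprime_iff_not_dvd.2 hndvd).symm)
          have hmap := isMap_of_mem_autGroup hP haE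
          refine (mem_autGroup_iff hP).2 ⟨hmap.hom, ⟨hmap.hom_mem_self, g, hgK,
            fun x hx hy => ?_⟩, fun _ => rfl⟩
          obtain ⟨y, hy1, hy2⟩ := hgr ⟨x, hx⟩ x.2
          rw [← hy2]
          exact congrArg ι (Subtype.ext hy1.symm)
      refine hKtop (top_le_iff.1 fun g _ => ?_)
      set a := ModelUnique.actHom m g
      obtain ⟨φ, ⟨-, k, hk, hk'⟩, hφ⟩ := isMap_of_mem_autGroup m.setting.le
        (Focal.autGroup_mono (fun P => hsub P) E.core a.2)
      obtain ⟨z, -, hz⟩ := m.centralizer (k⁻¹ * g) fun x hx => by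
        have h1 := ModelUnique.actHom_spec m g hx
        have hy : φ ⟨x, hx⟩ ∈ S := by
          rw [hφ]; exact m.setting.le (autFun_mem _ hx)
        have h2 := hk' ⟨x, hx⟩ x.2 hy
        rw [show (⟨φ ⟨x, hx⟩, hy⟩ : S) = ⟨autFun (a : MulAut E.core) x,
          m.setting.le (autFun_mem _ hx)⟩ from Subtype.ext (hφ _), h1] at h2
        calc k⁻¹ * g * ι x * (k⁻¹ * g)⁻¹ = k⁻¹ * (g * ι x * g⁻¹) * k := by group
          _ = _ := by rw [h2]; simp only [Subtype.coe_eta]; group
      have h3 : g = k * ι z := by rw [hz]; group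
      rw [h3]
      exact K.mul_mem hk (hKle ⟨z, rfl⟩)
    have hcard : Nat.card (E.hyperfocalSubgroup p) ≤ n := by
      by_contra hc
      exact hlt (eq_of_le_card hTS (by omega))
    refine .step F E p D hE hD (ih (hS.to_le hTS) D hcard ⟨?_, fun P hP => ?_⟩)
    · exact Constrained.constrained_sub hS hEc hD.2.1
        (le_normalizer_of_stronglyClosed (Focal.hyp_stronglyClosed hS hE.1)) hD.1
    · exact sub_autGroup_psolvable hD.2.1 (hgE P (hP.trans hTS))

/-- A saturated fusion system over a finite p-group has a terminating alternating chain of p'-residual and p-residual subsystems (the chain reaches the trivial system — the notion of solvability adapted to fusion systems of p-solvable groups) if and only if it is constrained and its models are p-solvable (a model is a finite group realizing the system on a Sylow p-subgroup with self-centralizing largest normal p-subgroup; it exists and is unique up to isomorphism for constrained systems). -/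
theorem result {Ω : Type u} [Group Ω] {S : Subgroup Ω} [Finite S] (p : ℕ) [Fact p.Prime] (hS : IsPGroup p S) (F : Cfsg.FusionSystem S) (hF : F.IsSaturated p) : F.HasTerminatingResidualSeries p ↔ (F.IsConstrained p ∧ ∀ (G : Type u) [Group G] (ι : S →* G), F.IsModel p G ι → Cfsg.IsPSolvable p G) := by
  constructor
  · intro h
    have hg := forward h hS hF
    exact ⟨hg.1, fun G _ ι hm => (PSolvableModel.psolvable_iff (ModelUnique.model_mSetting hS hm)).2
      (hg.2 F.core core_isNormal.1)⟩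
  · rintro ⟨hc, hm⟩
    obtain ⟨G, _, ι, hG⟩ := Model.exists_model hS hc
    exact backward (Nat.card S) hS F le_rfl
      ⟨hc, fun P hP => autGroup_psolvable hG.2.1 (hm G ι hG) hP⟩

end Cfsg.Agent.S5156
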