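import Cfsg.Statements.S5166
import Cfsg.Agent.Lib.Fusion.OneClass
import Cfsg.Agent.S3116
import Cfsg.Agent.Techniques.InvolutionPatternM11

set_option autoImplicit false
open Cfsg

namespace Cfsg.Agent.S5166

open Cfsg.Agent Cfsg.Agent.Fusion Cfsg.Agent.Fusion.OneClass

def gx : GL (Fin 2) (ZMod 3) := ⟨!![1, 1; 2, 1], !![2, 1; 2, 2], by decide, by decide⟩
def gy : GL (Fin 2) (ZMod 3) := ⟨!![1, 0; 0, 2], !![1, 0; 0, 2], by decide, by decide⟩

theorem rel : gy * gx * gy⁻¹ = gx ^ 3 ∧ gy * gy = 1 ∧ gy ≠ 1 ∧ gx ^ 8 = 1 ∧ gx ^ 4 ≠ 1 ∧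
    (gy * gx ^ 2) * (gy * gx ^ 2) = 1 ∧ gy * gx ^ 2 ≠ 1 ∧ gy * gx ≠ gx * gy := by
  refine ⟨Units.ext ?_, Units.ext ?_, fun h => ?_, Units.ext ?_, fun h => ?_, Units.ext ?_,
    fun h => ?_, fun h => ?_⟩ <;>
    first
      | (decide +kernel)
      | (have h1 := congrArg Units.val h; revert h1; decide +kernel)

theorem gl_sylow : ∃ P : Sylow 2 (GL (Fin 2) (ZMod 3)),
    Subgroup.zpowers gx ⊔ Subgroup.zpowers gy = (P : Subgroup (GL (Fin 2) (ZMod 3))) := by
  have : Fact (Nat.Prime 2) := ⟨Nat.prime_two⟩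
  obtain ⟨h1, h2, h3, h4, h5, -, -, h8⟩ := rel
  have hox : orderOf gx = 8 := orderOf_eq_prime_pow (p := 2) (n := 2) h5 h4
  have hn : Subgroup.zpowers gy ≤ Subgroup.normalizer (Subgroup.zpowers gx : Set (GL (Fin 2) (ZMod 3))) := by
    refine Subgroup.zpowers_le.2 (Saturation.mem_normalizer_of_forall fun z hz => ?_)
    obtain ⟨k, rfl⟩ := hz
    simp only
    rw [← conj_zpow, h1]
    exact Subgroup.zpow_mem _ (Subgroup.pow_mem _ (Subgroup.mem_zpowers _) 3) k
  have hp : IsPGroup 2 (Subgroup.zpowers gx ⊔ Subgroup.zpowers gy : Subgroup (GL (Fin 2) (ZMod 3))) :=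
    (IsPGroup.of_card (n := 3) (by rw [Nat.card_zpowers, hox]; rfl)).to_sup_of_normal_left'
      (IsPGroup.of_card (n := 1) (by rw [Nat.card_zpowers, orderOf_eq_prime (p := 2) (by rw [pow_two, h2]) h3, pow_one])) hn
  obtain ⟨P, hP⟩ := hp.exists_le_sylow
  refine ⟨P, Subgroup.eq_of_le_of_card_ge hP ?_⟩
  have hlt : 8 < Nat.card (Subgroup.zpowers gx ⊔ Subgroup.zpowers gy : Subgroup (GL (Fin 2) (ZMod 3))) := by
    rw [← hox, ← Nat.card_zpowers]
    refine Saturation.card_lt_card (lt_of_le_of_ne le_sup_left fun h => h8 ?_)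
    have hy : gy ∈ Subgroup.zpowers gx := h.ge (Subgroup.mem_sup_right (Subgroup.mem_zpowers _))
    obtain ⟨k, hk⟩ := hy
    rw [← hk]
    exact ((Commute.refl gx).zpow_left k).eq
  have hPc : Nat.card (P : Subgroup (GL (Fin 2) (ZMod 3))) = 2 ^ 4 := by
    rw [P.card_eq_multiplicity, InvChar.GL23.card_GL]
    have : (48 : ℕ).factorization 2 = 4 := by
      rw [show (48 : ℕ) = 2 ^ 4 * 3 by norm_num, Nat.factorization_mul (by norm_num) (by norm_num),
        Nat.Prime.factorization_pow Nat.prime_two, Nat.Prime.factorization Nat.prime_three]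
      simp
    rw [this]
  obtain ⟨n, hn⟩ := IsPGroup.iff_card.1 hp
  rw [hPc, hn]
  rw [hn] at hlt
  have : 3 < n := (Nat.pow_lt_pow_iff_right (by norm_num : 1 < 2)).1 (show 2 ^ 3 < 2 ^ n by simpa using hlt)
  exact Nat.pow_le_pow_right (by norm_num) this

/-- The 2-fusion system of the Mathieu group M₁₁ (as the explicit permutation group carved out of the automorphism group of the binary Golay code) on a Sylow 2-subgroup is simple: saturated, over a nontrivial 2-group, with no normal subsystem other than the trivial one and itself. -/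
theorem result (S : Sylow 2 Cfsg.Spor.M11) : (Cfsg.groupFusionSystem (S : Subgroup Cfsg.Spor.M11)).IsSimple 2 := by
    classical
    have : Fact (Nat.Prime 2) := ⟨Nat.prime_two⟩
    obtain ⟨D⟩ := Techniques.InvolutionPatternM11.nonempty_datum_M11
    have hsimp := D.simple
    obtain ⟨P, hP⟩ := gl_sylow
    obtain ⟨S0, hS0⟩ := D.exists_sylow_map P
    obtain ⟨g, hg⟩ := MulAction.exists_smul_eq ↥Spor.M11 S0 S
    set φ := (MulAut.conj g).toMonoidHom.comp D.f with hφ
    have hφi : Function.Injective φ := (MulAut.conj g).injective.comp D.f_injective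
    have hS : (S : Subgroup ↥Spor.M11) = (P : Subgroup (GL (Fin 2) (ZMod 3))).map φ := by
      rw [hφ, ← Subgroup.map_map, ← hS0, ← hg]
      rfl
    have hgen : Subgroup.zpowers (φ gx) ⊔ Subgroup.zpowers (φ gy) = (S : Subgroup ↥Spor.M11) := by
      rw [hS, ← hP, Subgroup.map_sup, MonoidHom.map_zpowers, MonoidHom.map_zpowers]
    obtain ⟨h1, h2, h3, h4, h5, h6, h7, -⟩ := rel
    have hoy : orderOf gy = 2 := orderOf_eq_prime (by rw [pow_two, h2]) h3
    have hox : orderOf gx = 8 := orderOf_eq_prime_pow (p := 2) (n := 2) h5 h4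
    have hxS : φ gx ∈ (S : Subgroup ↥Spor.M11) := hgen ▸ Subgroup.mem_sup_left (Subgroup.mem_zpowers _)
    have hyS : φ gy ∈ (S : Subgroup ↥Spor.M11) := hgen ▸ Subgroup.mem_sup_right (Subgroup.mem_zpowers _)
    have hqd : IsQuasiDihedral (S : Subgroup ↥Spor.M11) := by
      refine ⟨3, le_rfl, ?_, ⟨_, hxS⟩, ⟨_, hyS⟩, ?_, ?_, Subtype.ext ?_⟩
      · rw [hS, Subgroup.card_map_of_injective hφi, P.card_eq_multiplicity, InvChar.GL23.card_GL]
        have : (48 : ℕ).factorization 2 = 4 := by
          rw [show (48 : ℕ) = 2 ^ 4 * 3 by norm_num, Nat.factorization_mul (by norm_num) (by norm_num),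
            Nat.Prime.factorization_pow Nat.prime_two, Nat.Prime.factorization Nat.prime_three]
          simp
        rw [this]
      · rw [Subgroup.orderOf_mk, orderOf_injective φ hφi, hox]
        rfl
      · rw [Subgroup.orderOf_mk, orderOf_injective φ hφi, hoy]
      · show φ gy * φ gx * (φ gy)⁻¹ = φ gx ^ (2 ^ (3 - 1) - 1)
        rw [← map_mul, ← map_inv, ← map_mul, h1, map_pow]
        rfl
    refine isSimple_of_one_class ?_ S (Cfsg.Agent.S3116.result S.2 (Or.inr hqd)) hgen
      (by rw [orderOf_injective φ hφi, hoy]) ?_ fun u v hu hv => (D.isConj_t hu).trans (D.isConj_t hv).symm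
    · intro hp
      have h := (hp.to_subgroup (⊤ : Subgroup ↥Spor.M11))
      have e : (S : Subgroup ↥Spor.M11) = ⊤ := (S.3 h le_top).symm
      obtain ⟨m, hm, hcard⟩ := D.card
      have := congrArg (fun H : Subgroup ↥Spor.M11 => Nat.card H) e
      simp only [Subgroup.card_top] at this
      rw [hS, Subgroup.card_map_of_injective hφi] at this
      have hP16 : Nat.card (P : Subgroup (GL (Fin 2) (ZMod 3))) ∣ 16 := by
        obtain ⟨n, hn⟩ := IsPGroup.iff_card.1 P.2
        have hd := Subgroup.card_subgroup_dvd_card (P : Subgroup (GL (Fin 2) (ZMod 3)))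
        rw [InvChar.GL23.card_GL, hn, show (48 : ℕ) = 3 * 2 ^ 4 by norm_num] at hd
        rw [hn]
        exact Nat.Coprime.dvd_of_dvd_mul_left (Nat.Coprime.pow_left n (by norm_num)) hd
      rw [this, hcard] at hP16
      have hm1 : m = 1 := Nat.dvd_one.1 ((Nat.mul_dvd_mul_iff_left (by norm_num : 0 < 16)).1
        (by simpa using hP16))
      subst hm1
      -- a group of order 16 is not simple with an involution centralizer of order 48
      have h48 := Subgroup.card_subgroup_dvd_card (D.f.range)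
      rw [← Nat.card_congr (D.f.ofInjective D.f_injective).toEquiv, InvChar.GL23.card_GL, hcard] at h48
      exact absurd (Nat.le_of_dvd (by norm_num) h48) (by norm_num)
    · rw [← map_pow, ← map_mul, orderOf_injective φ hφi]
      exact orderOf_eq_prime (by rw [pow_two, h6]) h7

end Cfsg.Agent.S5166
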