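import Cfsg.Statements.S5178
import Mathlib
import Cfsg.Agent.Lib.Components.ExtraspecialIndexP
-- import your own Cfsg.Agent.* helpers here

set_option autoImplicit false
set_option linter.all false
open Cfsg.Agent.Components.ExtraspecialIndexP
open scoped commutatorElement
universe u
open Cfsg

namespace Cfsg.Agent.S5178

/-- Let p be an odd prime, S a finite p-group containing an extraspecial subgroup Q of index p, and F a saturated fusion system over S whose largest subgroup normal in F is trivial. Then the centre of S equals the centre of Q. -/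
theorem result {Ω : Type u} [Group Ω] {S : Subgroup Ω} [Finite S] (p : ℕ) [Fact p.Prime] (hp : Odd p) (hS : IsPGroup p S)
    (Q : Subgroup Ω) (hQS : Q ≤ S) (hQ : Cfsg.IsExtraspecial p ↥Q) (hQi : (Q.subgroupOf S).index = p)
    (F : Cfsg.FusionSystem S) (hF : F.IsSaturated p) (hO : F.core = ⊥) :
    S ⊓ Subgroup.centralizer (S : Set Ω) = Q ⊓ Subgroup.centralizer (Q : Set Ω) := by
  have hpp := (Fact.out : p.Prime)
  obtain ⟨⟨hQp, -, hder⟩, hcard⟩ := hQ
  have hp2 : p ≠ 2 := by rintro rfl; exact absurd hp (by decide)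
  have : Finite Q := Cfsg.Agent.Fusion.Saturation.finite_of_le hQS
  set Z := Q ⊓ Subgroup.centralizer (Q : Set Ω) with hZdef
  set C := S ⊓ Subgroup.centralizer (S : Set Ω) with hCdef
  have hZeq : Z.subgroupOf Q = Subgroup.center Q := by
    ext x
    rw [Subgroup.mem_subgroupOf, hZdef, Subgroup.mem_inf, Subgroup.mem_center_iff,
      Subgroup.mem_centralizer_iff]
    exact ⟨fun h y => Subtype.ext (h.2 y y.2), fun h => ⟨x.2, fun y hy => congrArg Subtype.val (h ⟨y, hy⟩)⟩⟩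
  have hZc : Nat.card Z = p := by
    rw [← Nat.card_congr (Subgroup.subgroupOfEquivOfLe (inf_le_left : Z ≤ Q)).toEquiv, hZeq, hcard]
  have : Finite Z := Cfsg.Agent.Fusion.Saturation.finite_of_le (inf_le_left : Z ≤ Q)
  obtain ⟨z₀, hz₀⟩ := (isCyclic_of_prime_card hZc).exists_generator
  set z := (z₀ : Ω) with hzdef
  have hZz : Z = Subgroup.zpowers z := by
    refine le_antisymm (fun x hx => ?_) (Subgroup.zpowers_le.2 z₀.2)
    obtain ⟨k, hk⟩ := hz₀ ⟨x, hx⟩
    exact ⟨k, by simpa using congrArg Subtype.val hk⟩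
  have hzord : orderOf z = p := by rw [← Nat.card_zpowers, ← hZz, hZc]
  have hQc : ∀ a ∈ Q, ∀ b ∈ Q, a * b * a⁻¹ * b⁻¹ ∈ Z := by
    intro a ha b hb
    have h : ⁅(⟨a, ha⟩ : Q), ⟨b, hb⟩⁆ ∈ Subgroup.center Q := by
      rw [← hder]
      exact Subgroup.commutator_mem_commutator (Subgroup.mem_top _) (Subgroup.mem_top _)
    rw [← hZeq] at h
    exact h
  -- Q is normal in S
  have hQn : (Q.subgroupOf S).Normal := by
    obtain ⟨n, hn⟩ := IsPGroup.iff_card.1 hS
    have hn0 : n ≠ 0 := by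
      rintro rfl
      have := (Q.subgroupOf S).index_dvd_card
      rw [hn, hQi, pow_zero, Nat.dvd_one] at this
      exact hpp.ne_one this
    refine Subgroup.normal_of_index_eq_minFac_card ?_
    rw [hQi, hn, Nat.Prime.pow_minFac hpp hn0]
  have hQnorm : ∀ s ∈ S, ∀ x, x ∈ Q → s * x * s⁻¹ ∈ Q := fun s hs x hx =>
    hQn.conj_mem ⟨x, hQS hx⟩ hx ⟨s, hs⟩
  -- Z is central in S
  have hZn : ∀ s ∈ S, ∀ x ∈ Z, s * x * s⁻¹ ∈ Z := by
    intro s hs x hx
    refine ⟨hQnorm s hs x hx.1, fun y hy => ?_⟩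
    have h1 : s⁻¹ * y * s ∈ Q := by simpa using hQnorm _ (S.inv_mem hs) y hy
    have h2 := hx.2 _ h1
    calc y * (s * x * s⁻¹) = s * (s⁻¹ * y * s * x) * s⁻¹ := by group
      _ = s * (x * (s⁻¹ * y * s)) * s⁻¹ := by rw [h2]
      _ = s * x * s⁻¹ * y := by group
  have hzS : Cen S z := by
    refine ⟨hQS z₀.2.1, fun s hs => ?_⟩
    obtain ⟨k, hk⟩ : ∃ k : ℤ, z ^ k = s * z * s⁻¹ := by
      have := hZn s hs z z₀.2
      rwa [hZz] at this
    have hiter : ∀ n : ℕ, s ^ n * z * (s ^ n)⁻¹ = z ^ (k ^ n) := by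
      intro n
      induction n with
      | zero => simp
      | succ n ih =>
        have : s ^ (n + 1) * z * (s ^ (n + 1))⁻¹ = MulAut.conj s (s ^ n * z * (s ^ n)⁻¹) := by
          simp [pow_succ', mul_assoc]
        rw [this, ih, map_zpow, MulAut.conj_apply, ← hk, ← zpow_mul, pow_succ']
    obtain ⟨m, hm⟩ := hS ⟨s, hs⟩
    have hm' : s ^ p ^ m = 1 := by simpa using congrArg Subtype.val hm
    have h1 := hiter (p ^ m)
    rw [hm', inv_one, one_mul, mul_one] at h1
    have h2 : z ^ (k ^ p ^ m - 1) = 1 := by rw [zpow_sub, ← h1, zpow_one, mul_inv_cancel]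
    rw [← orderOf_dvd_iff_zpow_eq_one, hzord, ← ZMod.intCast_eq_intCast_iff_dvd_sub] at h2
    push_cast at h2
    rw [ZMod.pow_card_pow] at h2
    have h3 : (p : ℤ) ∣ k - 1 := by
      rw [← ZMod.intCast_eq_intCast_iff_dvd_sub]; push_cast; exact h2
    have h4 : z ^ k = z := by
      rw [← hzord, orderOf_dvd_iff_zpow_eq_one, zpow_sub, zpow_one, mul_inv_eq_one] at h3
      exact h3
    rw [← mul_inv_eq_iff_eq_mul, ← hk, h4]
  have hZC : Z ≤ C := by
    rw [hZz, Subgroup.zpowers_le]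
    exact ⟨hzS.1, fun s hs => hzS.2 s hs⟩
  by_contra hne
  obtain ⟨c, hcC, hcZ⟩ := SetLike.exists_of_lt (lt_of_le_of_ne hZC (Ne.symm hne))
  have hcQ : c ∉ Q := fun h => hcZ ⟨h, fun q hq => hcC.2 q (hQS hq)⟩
  have hcc : Cen S c := ⟨hcC.1, fun s hs => hcC.2 s hs⟩
  set N := Q.subgroupOf S with hNdef
  have hgen : ∀ s ∈ S, ∃ q ∈ Q, ∃ i : ℤ, s = q * c ^ i := by
    intro s hs
    have hcN : (QuotientGroup.mk ⟨c, hcC.1⟩ : S ⧸ N) ≠ 1 := by
      rw [ne_eq, QuotientGroup.eq_one_iff]; exact hcQ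
    have hcardq : Nat.card (S ⧸ N) = p := by rw [← Subgroup.index_eq_card]; exact hQi
    obtain ⟨i, hi⟩ := mem_zpowers_of_prime_card hcardq hcN (g' := QuotientGroup.mk ⟨s, hs⟩)
    refine ⟨s * (c ^ i)⁻¹, ?_, i, by group⟩
    have hi' : (QuotientGroup.mk ((⟨c, hcC.1⟩ : S) ^ i) : S ⧸ N) = QuotientGroup.mk ⟨s, hs⟩ := by
      rw [QuotientGroup.mk_zpow]; exact hi
    rw [QuotientGroup.eq] at hi'
    have h5 : (c ^ i)⁻¹ * s ∈ Q := hi'
    have := hQnorm (c ^ i) (S.zpow_mem hcC.1 i) _ h5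
    simpa [mul_assoc] using this
  have hcpQ : ∀ s ∈ S, s ^ p ∈ Q := by
    intro s hs
    have := Subgroup.pow_index_mem N (⟨s, hs⟩ : S)
    rw [hQi] at this
    exact this
  have H : Hyp S p z c := by
    refine ⟨hzord, hzS, hcc, hZz ▸ hcZ, fun s hs t ht => ?_, fun s hs => ?_, fun x hx => ?_⟩
    · rw [← hZz]
      obtain ⟨q, hq, i, rfl⟩ := hgen s hs
      obtain ⟨q', hq', j, rfl⟩ := hgen t ht
      have hi : Cen S (c ^ i) := hcc.zpow i
      have hj : Cen S (c ^ j) := hcc.zpow j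
      have : dl (q * c ^ i) (q' * c ^ j) = q * q' * q⁻¹ * q'⁻¹ := by
        unfold dl
        have e1 : q * c ^ i * (q' * c ^ j) * (q * c ^ i)⁻¹ = q * q' * q⁻¹ * c ^ j := by
          calc q * c ^ i * (q' * c ^ j) * (q * c ^ i)⁻¹
              = q * (c ^ i * (q' * c ^ j) * (c ^ i)⁻¹) * q⁻¹ := by group
            _ = q * (q' * c ^ j) * q⁻¹ := by
              rw [← hi.2 _ ht, mul_inv_cancel_right]
            _ = q * q' * (c ^ j * q⁻¹) := by group
            _ = q * q' * (q⁻¹ * c ^ j) := by rw [hj.2 _ (S.inv_mem (hQS hq))]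
            _ = q * q' * q⁻¹ * c ^ j := by group
        rw [e1]; group
      rw [this]
      exact hQc q hq q' hq'
    · rw [← hZz]
      refine ⟨hcpQ s hs, fun b hb => ?_⟩
      obtain ⟨q, hq, i, rfl⟩ := hgen s hs
      set ζ := q * b * q⁻¹ * b⁻¹ with hζ
      have hζZ : ζ ∈ Z := hQc q hq b hb
      have hζC : Cen S ζ := ⟨(hZC hζZ).1, fun s hs => (hZC hζZ).2 s hs⟩
      have hsb : q * c ^ i * b * (q * c ^ i)⁻¹ = ζ * b := by
        calc q * c ^ i * b * (q * c ^ i)⁻¹ = q * (c ^ i * b * (c ^ i)⁻¹) * q⁻¹ := by group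
          _ = q * b * q⁻¹ := by rw [← (hcc.zpow i).2 b (hQS hb), mul_inv_cancel_right]
          _ = ζ * b := by rw [hζ, inv_mul_cancel_right]
      have hn : ∀ n : ℕ, (q * c ^ i) ^ n * b * ((q * c ^ i) ^ n)⁻¹ = ζ ^ n * b := by
        intro n
        induction n with
        | zero => simp
        | succ n ih =>
          rw [pow_succ' (q * c ^ i), mul_inv_rev,
            show q * c ^ i * (q * c ^ i) ^ n * b * (((q * c ^ i) ^ n)⁻¹ * (q * c ^ i)⁻¹)
              = q * c ^ i * ((q * c ^ i) ^ n * b * ((q * c ^ i) ^ n)⁻¹) * (q * c ^ i)⁻¹ by group,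
            ih,
            show q * c ^ i * (ζ ^ n * b) * (q * c ^ i)⁻¹
              = (q * c ^ i * ζ ^ n) * b * (q * c ^ i)⁻¹ by group,
            (Commute.pow_right (hζC.2 _ hs) n).eq, mul_assoc (ζ ^ n), mul_assoc (ζ ^ n), hsb,
            ← mul_assoc, ← pow_succ]
      have hzp : ζ ^ p = 1 := by
        rw [hZz] at hζZ
        obtain ⟨k, hk⟩ := hζZ
        rw [← hk]
        show (z ^ k) ^ p = 1
        rw [← zpow_natCast, ← zpow_mul, mul_comm, zpow_mul, zpow_natCast, ← hzord,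
          pow_orderOf_eq_one, one_zpow]
      have := hn p
      rw [hzp, one_mul, mul_inv_eq_iff_eq_mul] at this
      exact this.symm
    · obtain ⟨q, hq, j, rfl⟩ := hgen x hx.1
      have hqc : Cen S q := by
        have := hx.mul (hcc.zpow (-j))
        rwa [mul_assoc, ← zpow_add, add_neg_cancel, zpow_zero, mul_one] at this
      have hqZ : q ∈ Z := ⟨hq, fun b hb => hqc.2 b (hQS hb)⟩
      rw [hZz] at hqZ
      obtain ⟨i, rfl⟩ := hqZ
      exact ⟨i, j, rfl⟩
  exact core_ne_bot hS hp2 hF H hO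

end Cfsg.Agent.S5178
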