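import Cfsg.Statements.S5179
import Mathlib
import Cfsg.Agent.Lib.Components.ExtraspecialIndexP
-- import your own Cfsg.Agent.* helpers here

set_option autoImplicit false
set_option linter.all false
universe u
open Cfsg

namespace Cfsg.Agent.S5179

open Cfsg Cfsg.FusionSystem Cfsg.Agent.Fusion.Basic Cfsg.Agent.Fusion.Saturation
  Cfsg.Agent.Fusion.Embedded Cfsg.Agent.Components.ExtraspecialIndexP
open scoped commutatorElement

/-- A `p`-subgroup whose conjugates are all normalized by one of its nontrivial elements leaves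
no room for a strongly `p`-embedded subgroup. -/
theorem no_embedded {X : Type*} [Group X] [Finite X] {p : ℕ} [Fact p.Prime] {Y : Subgroup X}
    (hY : IsStronglyPEmbedded p Y) {K : Subgroup X} (hKp : IsPGroup p K) (hK : K ≠ ⊥)
    (h : ∀ g : X, g ∈ Subgroup.normalizer (K : Set X) ∨
      ∃ a ∈ K, a ≠ 1 ∧ a ∈ Subgroup.normalizer ((K.map (MulAut.conj g).toMonoidHom : Subgroup X) : Set X)) :
    False := by
  obtain ⟨-, htop, P, hP⟩ := stronglyPEmbedded_iff.1 hY
  obtain ⟨P₀, hP₀⟩ := hKp.exists_le_sylow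
  obtain ⟨d, hd⟩ := MulAction.exists_smul_eq X P₀ P
  have hK' : ∀ x ∈ K, d * x * d⁻¹ ∈ (P : Subgroup X) := fun x hx => by
    rw [← hd, Sylow.coe_subgroup_smul]
    exact Subgroup.smul_mem_pointwise_smul x (MulAut.conj d) _ (hP₀ hx)
  obtain ⟨x₀, hx₀, hx₀1⟩ := (Subgroup.bot_or_exists_ne_one K).resolve_left hK
  have main : ∀ g : X, d * g * d⁻¹ ∈ Y := by
    intro g
    rcases h g with hg | ⟨a, ha, ha1, haN⟩
    · exact Cfsg.Agent.Fusion.Embedded.mem_of_conj hP (hK' _ ((Subgroup.mem_normalizer_iff.1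
        hg x₀).1 hx₀ |> fun _ => hx₀)) (by simpa using hx₀1) (by
        have := hK' _ ((Subgroup.mem_normalizer_iff.1 hg x₀).1 hx₀)
        simpa [mul_assoc] using this)
    have hJ := IsPGroup.to_sup_of_normal_right'
      (hKp.to_le ((Subgroup.zpowers_le).2 ha)) (hKp.map (MulAut.conj g).toMonoidHom)
      (Subgroup.zpowers_le.2 haN)
    obtain ⟨P₁, hP₁⟩ := hJ.exists_le_sylow
    have hmem : d * a * d⁻¹ ∈ (P : Subgroup X) ⊓ ((d • P₁ : Sylow p X) : Subgroup X) := by
      refine ⟨hK' a ha, ?_⟩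
      rw [SetLike.mem_coe, Sylow.coe_subgroup_smul]
      exact Subgroup.smul_mem_pointwise_smul a (MulAut.conj d) _
        (hP₁ (Subgroup.mem_sup_left (Subgroup.mem_zpowers a)))
    obtain ⟨y, hy, hyP⟩ := exists_conj_of_inf_ne_bot hP (d • P₁) fun h0 => ha1 (by
      rw [h0, Subgroup.mem_bot] at hmem; simpa using hmem)
    have hx : y * d * (g * x₀ * g⁻¹) * (y * d)⁻¹ ∈ (P : Subgroup X) := by
      rw [← hyP, ← mul_smul, Sylow.coe_subgroup_smul]
      exact Subgroup.smul_mem_pointwise_smul _ (MulAut.conj (y * d)) _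
        (hP₁ (Subgroup.mem_sup_right ⟨x₀, hx₀, rfl⟩))
    have := Cfsg.Agent.Fusion.Embedded.mem_of_conj hP (a := y * d * g * d⁻¹) (hK' x₀ hx₀)
      (by simpa using hx₀1) (by simpa [mul_assoc, mul_inv_rev] using hx)
    have h2 := Y.mul_mem (Y.inv_mem hy) this
    simpa [mul_assoc] using h2
  exact htop (top_le_iff.1 fun u _ => by simpa [mul_assoc] using main (d⁻¹ * u * d))

/-- Let p be an odd prime, S a finite p-group of order at least p⁶ containing an extraspecial subgroup Q of index p, and F a saturated fusion system over S whose largest subgroup normal in F is trivial. Then no proper subgroup of Q is essential in F: an essential subgroup of F contained in Q equals Q. -/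
theorem result {Ω : Type u} [Group Ω] {S : Subgroup Ω} [Finite S] (p : ℕ) [Fact p.Prime] (hp : Odd p) (hS : IsPGroup p S)
    (Q : Subgroup Ω) (hQS : Q ≤ S) (hQ : Cfsg.IsExtraspecial p ↥Q) (hQi : (Q.subgroupOf S).index = p)
    (h6 : p ^ 6 ≤ Nat.card S)
    (F : Cfsg.FusionSystem S) (hF : F.IsSaturated p) (hO : F.core = ⊥)
    (E : Subgroup Ω) (hEQ : E ≤ Q) (hE : F.IsEssential p E) : E = Q := by
  have hpp := (Fact.out : p.Prime)
  obtain ⟨⟨-, -, hder⟩, hcard⟩ := hQ
  have : Finite Q := finite_of_le hQS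
  have : Finite E := finite_of_le (hEQ.trans hQS)
  by_contra hne
  have hcen : ∀ x : Q, x ∈ Subgroup.center Q ↔ ∀ b ∈ Q, b * (x : Ω) = x * b := fun x => by
    rw [Subgroup.mem_center_iff]
    exact ⟨fun h b hb => congrArg Subtype.val (h ⟨b, hb⟩), fun h b => Subtype.ext (h b b.2)⟩
  obtain ⟨z₀, hz₀⟩ := (isCyclic_of_prime_card hcard).exists_generator
  set z := ((z₀ : Q) : Ω) with hzdef
  have hzQ : z ∈ Q := (z₀ : Q).2
  have hzc : ∀ b ∈ Q, b * z = z * b := (hcen z₀).1 z₀.2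
  have hmemZ : ∀ x ∈ Q, (∀ b ∈ Q, b * x = x * b) → x ∈ Subgroup.zpowers z := by
    intro x hx hb
    obtain ⟨k, hk⟩ := hz₀ ⟨⟨x, hx⟩, (hcen _).2 hb⟩
    exact ⟨k, by simpa using congrArg (fun w : Subgroup.center Q => ((w : Q) : Ω)) hk⟩
  have hzp : z ^ p = 1 := by
    have := pow_card_eq_one' (x := z₀)
    rw [hcard] at this
    simpa using congrArg (fun w : Subgroup.center Q => ((w : Q) : Ω)) this
  have hz1 : z ≠ 1 := by
    intro h
    have h0 : ∀ w : Subgroup.center Q, w = 1 := fun w => by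
      obtain ⟨k, rfl⟩ := hz₀ w
      apply Subtype.ext; apply Subtype.ext
      simp only [SubgroupClass.coe_zpow, OneMemClass.coe_one]
      rw [← hzdef, h, one_zpow]
    have := Subgroup.eq_bot_iff_forall (H := Subgroup.center Q) |>.2 fun w hw =>
      congrArg Subtype.val (h0 ⟨w, hw⟩)
    rw [this, Subgroup.card_bot] at hcard
    exact hpp.ne_one hcard.symm
  have hZp : ∀ w ∈ Subgroup.zpowers z, w ^ p = 1 := by
    rintro _ ⟨k, rfl⟩
    show (z ^ k) ^ p = 1
    rw [← zpow_natCast, ← zpow_mul, mul_comm, zpow_mul, zpow_natCast, hzp, one_zpow]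
  have hgen : ∀ w ∈ Subgroup.zpowers z, w ≠ 1 → ∃ k : ℤ, w ^ k = z := by
    intro w hw hw1
    obtain ⟨k, hk⟩ := mem_zpowers_of_prime_card (G := Subgroup.zpowers z) (p := p)
      (by rw [Nat.card_zpowers, orderOf_eq_prime hzp hz1]) (g := ⟨w, hw⟩)
      (g' := ⟨z, Subgroup.mem_zpowers z⟩) (fun h => hw1 (congrArg Subtype.val h))
    exact ⟨k, by simpa using congrArg Subtype.val hk⟩
  have hQc : ∀ a ∈ Q, ∀ b ∈ Q, dl a b ∈ Subgroup.zpowers z := by
    intro a ha b hb
    have h : ⁅(⟨a, ha⟩ : Q), ⟨b, hb⟩⁆ ∈ Subgroup.center Q := by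
      rw [← hder]
      exact Subgroup.commutator_mem_commutator (Subgroup.mem_top _) (Subgroup.mem_top _)
    exact hmemZ _ (Q.mul_mem (Q.mul_mem (Q.mul_mem ha hb) (Q.inv_mem ha)) (Q.inv_mem hb))
      ((hcen _).1 h)
  have hcomm : ∀ {w}, w ∈ Subgroup.zpowers z → ∀ b ∈ Q, b * w = w * b := by
    rintro _ ⟨k, rfl⟩ b hb
    exact (Commute.zpow_right (hzc b hb) k).eq
  have hQpow : ∀ a ∈ Q, a ^ p ∈ Subgroup.zpowers z := by
    intro a ha
    refine hmemZ _ (Q.pow_mem ha p) fun b hb => ?_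
    set ζ := dl a b with hζ
    have hn : ∀ n : ℕ, a ^ n * b * (a ^ n)⁻¹ = ζ ^ n * b := by
      intro n
      induction n with
      | zero => simp
      | succ n ih =>
        rw [pow_succ' a, mul_inv_rev,
          show a * a ^ n * b * ((a ^ n)⁻¹ * a⁻¹) = a * (a ^ n * b * (a ^ n)⁻¹) * a⁻¹ by group, ih,
          ← mul_assoc a, hcomm (Subgroup.pow_mem _ (hQc a ha b hb) n) a ha, mul_assoc (ζ ^ n),
          mul_assoc (ζ ^ n), conj_eq a b, ← hζ, ← mul_assoc, ← pow_succ]
    have := hn p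
    rw [hZp _ (hQc a ha b hb), one_mul, mul_inv_eq_iff_eq_mul] at this
    exact this.symm
  have hES := hEQ.trans hQS
  have hzE : z ∈ E := centric_centralizerIn_le hE.1 ⟨hQS hzQ, fun x hx => hzc x (hEQ hx)⟩
  have hZE : ∀ {w}, w ∈ Subgroup.zpowers z → w ∈ E := fun hw => Subgroup.zpowers_le.2 hzE hw
  have hQN : ∀ q ∈ Q, q ∈ normalizerIn S E := fun q hq =>
    ⟨hQS hq, mem_normalizer_of_forall fun x hx => by
      rw [conj_eq]; exact E.mul_mem (hZE (hQc q hq x (hEQ hx))) hx⟩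
  have hcent : ∀ q ∈ Q, (∀ x ∈ E, dl q x = 1) → q ∈ E := fun q hq h =>
    centric_centralizerIn_le hE.1 ⟨hQS hq, fun x hx => (dl_eq_one.1 (h x hx)).symm⟩
  obtain ⟨q₀, hq₀, hq₀E⟩ := SetLike.exists_of_lt (lt_of_le_of_ne hEQ hne)
  let τ : ∀ q ∈ Q, F.autGroup E := fun q hq =>
    ⟨conjAut S E ⟨q, hQN q hq⟩, autInducedBy_le hES (conjAut_range S E ▸ ⟨_, rfl⟩)⟩
  have hτ : ∀ q (hq : q ∈ Q), ∀ x ∈ E, autFun (τ q hq : MulAut E) x = dl q x * x :=
    fun q hq x hx => (conjAut_apply ⟨q, hQN q hq⟩ hx).trans (conj_eq q x)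
  have hmapZ : ∀ {g : MulAut E}, autFun g z ∈ Subgroup.zpowers z → ∀ {w},
      w ∈ Subgroup.zpowers z → autFun g w ∈ Subgroup.zpowers z := by
    rintro g hg _ ⟨k, rfl⟩
    rw [map_zpow' (autFun_isHom g) hzE k]
    exact Subgroup.zpow_mem _ hg k
  have hfixZ : ∀ {g : MulAut E}, autFun g z = z → ∀ {w}, w ∈ Subgroup.zpowers z → autFun g w = w := by
    rintro g hg _ ⟨k, rfl⟩
    rw [map_zpow' (autFun_isHom g) hzE k, hg]
  -- some automorphism moves Z
  have hmoves : ∃ g ∈ F.autGroup E, autFun g z ∉ Subgroup.zpowers z := by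
    by_contra hcon
    push Not at hcon
    let C : ℕ → Subgroup E := fun i =>
      if i = 0 then ⊥ else if i = 1 then (Subgroup.zpowers z).subgroupOf E else ⊤
    have key : τ q₀ hq₀ ∈ pCore p (F.autGroup E) := by
      refine Cfsg.Agent.Fusion.EssentialShape.mem_pCore_of_stabilizes (hS.to_le hES) _ C 2 rfl rfl
        (fun i hi => ?_) (fun i _ g hg x hx => ?_) fun i hi x hx => ?_
      · interval_cases i <;> simp [C]
      · rcases i with - | - | i
        · simp only [C, if_true, Subgroup.mem_bot] at hx ⊢; simp [hx]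
        · simp only [C, Nat.one_ne_zero, if_false, zero_add, if_true, Subgroup.mem_subgroupOf] at hx ⊢
          rw [← autFun_apply]
          exact hmapZ (hcon g hg) hx
        · simp [C]
      · interval_cases i
        · simp only [C, zero_add, Nat.one_ne_zero, if_false, if_true, Subgroup.mem_subgroupOf] at hx
          simp only [C, if_true, Subgroup.mem_bot, inv_mul_eq_one]
          apply Subtype.ext
          rw [← autFun_apply, hτ q₀ hq₀ x x.2, dl_eq_one.2 (hcomm hx q₀ hq₀), one_mul]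
        · simp only [C, Nat.one_ne_zero, if_false, if_true, Subgroup.mem_subgroupOf, Subgroup.coe_mul,
            Subgroup.coe_inv]
          rw [← autFun_apply, hτ q₀ hq₀ x x.2]
          have hd := hQc q₀ hq₀ x (hEQ x.2)
          rw [← hcomm hd x (hEQ x.2), inv_mul_cancel_left]
          exact hd
    obtain ⟨t, ht, he⟩ := mem_inn_iff.1 (Cfsg.Agent.Fusion.EssentialShape.mem_inn_of_mem_pCore hE hS key)
    apply hq₀E
    have : t⁻¹ * q₀ ∈ E := by
      refine hcent _ (Q.mul_mem (Q.inv_mem (hEQ ht)) hq₀) fun x hx => dl_eq_one.2 ?_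
      have h1 : q₀ * x * q₀⁻¹ = t * x * t⁻¹ := by
        rw [conj_eq, ← hτ q₀ hq₀ x hx, he x hx, cj_apply]
      calc t⁻¹ * q₀ * x = t⁻¹ * (q₀ * x * q₀⁻¹) * q₀ := by group
        _ = t⁻¹ * (t * x * t⁻¹) * q₀ := by rw [h1]
        _ = x * (t⁻¹ * q₀) := by group
    simpa using E.mul_mem ht this
  obtain ⟨g₀, hg₀, hg₀m⟩ := hmoves
  have habel : ∀ x ∈ E, ∀ w ∈ E, dl x w = 1 := by
    intro x hx w hw
    by_contra h1
    apply hg₀m
    obtain ⟨k, hk⟩ := hgen _ (hQc x (hEQ hx) w (hEQ hw)) h1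
    have h2 := map_zpow' (autFun_isHom g₀) (hZE (hQc x (hEQ hx) w (hEQ hw))) k
    rw [hk] at h2
    rw [h2]
    refine Subgroup.zpow_mem _ ?_ k
    have hd : autFun g₀ (dl x w) = dl (autFun g₀ x) (autFun g₀ w) := by
      have hi := autFun_isHom g₀
      unfold dl
      rw [hi _ (E.mul_mem (E.mul_mem hx hw) (E.inv_mem hx)) _ (E.inv_mem hw), hi.map_inv hw,
        hi.map_conj hx hw]
    rw [hd]
    exact hQc _ (hEQ (autFun_mem g₀ hx)) _ (hEQ (autFun_mem g₀ hw))
  have hexp : ∀ x ∈ E, x ^ p = 1 := by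
    intro x hx
    by_contra h1
    apply hg₀m
    obtain ⟨k, hk⟩ := hgen _ (hQpow x (hEQ hx)) h1
    have h2 := map_zpow' (autFun_isHom g₀) (E.pow_mem hx p) k
    rw [hk] at h2
    rw [h2, ← zpow_natCast, map_zpow' (autFun_isHom g₀) hx, zpow_natCast]
    exact Subgroup.zpow_mem _ (hQpow _ (hEQ (autFun_mem g₀ hx))) k
  have hdl : ∀ q ∈ Q, ∀ x ∈ Q, ∀ u ∈ Q, dl q (x * u) = dl q x * dl q u := by
    intro q hq x hx u hu
    have hc := hcomm (hQc q hq u hu) x hx
    have h1 : q * (x * u) * q⁻¹ = dl q x * dl q u * (x * u) := by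
      rw [show q * (x * u) * q⁻¹ = (q * x * q⁻¹) * (q * u * q⁻¹) by group, conj_eq, conj_eq,
        mul_assoc (dl q x), ← mul_assoc x, hc]
      group
    show q * (x * u) * q⁻¹ * (x * u)⁻¹ = _
    rw [h1, mul_inv_cancel_right]
  have hbig : p ^ 5 ≤ Nat.card Q := by
    have h1 := Subgroup.index_mul_card (Q.subgroupOf S)
    rw [hQi, Nat.card_congr (Subgroup.subgroupOfEquivOfLe hQS).toEquiv] at h1
    rw [← h1, pow_succ'] at h6
    exact Nat.le_of_mul_le_mul_left h6 hpp.pos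
  -- a nontrivial transvection fixing a moved point
  have hfix : ∀ y ∈ E, y ∉ Subgroup.zpowers z → ∃ a ∈ Q, a ∉ E ∧ dl a y = 1 := by
    intro y hy hyZ
    by_contra hcon
    push Not at hcon
    obtain ⟨b, hb, hbd⟩ : ∃ b ∈ Q, dl b y ≠ 1 := by
      by_contra hh; push Not at hh
      exact hyZ (hmemZ y (hEQ hy) fun b hb => dl_eq_one.1 (hh b hb))
    obtain ⟨k, hk⟩ := hgen _ (hQc b hb y (hEQ hy)) hbd
    have hleft : ∀ a ∈ Q, ∀ c ∈ Q, ∀ x ∈ Q, dl (a * c) x = dl a x * dl c x := by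
      intro a ha c hc x hx
      have h1 : (a * c) * x * (a * c)⁻¹ = dl a x * dl c x * x := by
        rw [show (a * c) * x * (a * c)⁻¹ = a * (c * x * c⁻¹) * a⁻¹ by group, conj_eq c x,
          show a * (dl c x * x) * a⁻¹ = (a * dl c x * a⁻¹) * (a * x * a⁻¹) by group, conj_eq a x,
          hcomm (hQc c hc x hx) a ha, mul_inv_cancel_right, ← mul_assoc,
          hcomm (hQc a ha x hx) (dl c x) (hEQ (hZE (hQc c hc x hx)))]
      show (a * c) * x * (a * c)⁻¹ * x⁻¹ = _
      rw [h1, mul_inv_cancel_right]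
    let φ : Q →* Ω := MonoidHom.mk' (fun a : Q => dl a y) fun a c => hleft a a.2 c c.2 y (hEQ hy)
    have hrepQ : ∀ a ∈ Q, ∃ n : ℤ, a * (b ^ n)⁻¹ ∈ E := by
      intro a ha
      obtain ⟨i, hi⟩ := hQc a ha y (hEQ hy)
      refine ⟨k * i, ?_⟩
      by_contra hne
      refine hcon _ (Q.mul_mem ha (Q.inv_mem (Q.zpow_mem hb _))) hne ?_
      have h := map_mul φ ⟨a, ha⟩ (⟨b, hb⟩ ^ (k * i))⁻¹
      rw [map_inv, map_zpow] at h
      simp only [φ, MonoidHom.mk'_apply, Subgroup.coe_mul, Subgroup.coe_inv,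
        SubgroupClass.coe_zpow] at h
      rw [h, show dl a y = z ^ i from hi.symm, zpow_mul, hk, mul_inv_cancel]
    have hrepE : ∀ x ∈ E, ∃ m : ℤ, x * (y ^ m)⁻¹ ∈ Subgroup.zpowers z := by
      intro x hx
      obtain ⟨i, hi⟩ := hQc b hb x (hEQ hx)
      refine ⟨k * i, hmemZ _ (Q.mul_mem (hEQ hx) (Q.inv_mem (Q.zpow_mem (hEQ hy) _))) fun a ha => ?_⟩
      set w := x * (y ^ (k * i))⁻¹
      have hw : w ∈ E := E.mul_mem hx (E.inv_mem (E.zpow_mem hy _))
      let ψ : Q →* Ω := MonoidHom.mk' (fun u : Q => dl b u) fun u v => hdl b hb u u.2 v v.2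
      have hbw : dl b w = 1 := by
        have h := map_mul ψ ⟨x, hEQ hx⟩ (⟨y, hEQ hy⟩ ^ (k * i))⁻¹
        rw [map_inv, map_zpow] at h
        simp only [ψ, MonoidHom.mk'_apply, Subgroup.coe_mul, Subgroup.coe_inv,
          SubgroupClass.coe_zpow] at h
        rw [h, show dl b x = z ^ i from hi.symm, zpow_mul, hk, mul_inv_cancel]
      obtain ⟨n, hn⟩ := hrepQ a ha
      have hc1 : Commute (a * (b ^ n)⁻¹) w := dl_eq_one.1 (habel _ hn w hw)
      have hc2 : Commute (b ^ n) w := (show Commute b w from dl_eq_one.1 hbw).zpow_left n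
      have := hc1.mul_left hc2
      rw [inv_mul_cancel_right] at this
      exact this
    have hp0 : (p : ℤ) ≠ 0 := by exact_mod_cast hpp.ne_zero
    have hred : ∀ {u : Ω}, u ^ p = 1 → ∀ n : ℤ, u ^ n = u ^ (n % (p : ℤ)).toNat := by
      intro u hu n
      rw [← zpow_natCast, Int.toNat_of_nonneg (Int.emod_nonneg n hp0)]
      conv_lhs => rw [← Int.emod_add_mul_ediv n p, zpow_add, zpow_mul, zpow_natCast, hu, one_zpow,
        mul_one]
    have hlt : ∀ n : ℤ, (n % (p : ℤ)).toNat < p := fun n => by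
      have := Int.emod_lt_of_pos n (show (0 : ℤ) < p by exact_mod_cast hpp.pos)
      omega
    let f : Fin p × Fin p × Fin p → Q := fun v =>
      ⟨z ^ (v.1 : ℕ) * y ^ (v.2.1 : ℕ) * b ^ (v.2.2 : ℕ),
        Q.mul_mem (Q.mul_mem (Q.pow_mem hzQ _) (Q.pow_mem (hEQ hy) _)) (Q.pow_mem hb _)⟩
    have hf : Function.Surjective f := by
      intro a
      obtain ⟨n, hn⟩ := hrepQ a a.2
      set n' := (n % (p : ℤ)).toNat
      have hn' : (a : Ω) * (b ^ n')⁻¹ ∈ E := by
        have hbp : b ^ (p : ℤ) ∈ E := by rw [zpow_natCast]; exact hZE (hQpow b hb)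
        have : b ^ n = b ^ ((p : ℤ) * (n / p)) * b ^ n' := by
          rw [← zpow_natCast b n', Int.toNat_of_nonneg (Int.emod_nonneg n hp0), ← zpow_add,
            add_comm, Int.emod_add_mul_ediv]
        rw [this, mul_inv_rev, ← mul_assoc] at hn
        have h2 := E.mul_mem hn (E.zpow_mem hbp (n / p))
        rwa [← zpow_mul, inv_mul_cancel_right] at h2
      obtain ⟨m, hm⟩ := hrepE _ hn'
      obtain ⟨i, hi⟩ := hm
      refine ⟨⟨⟨_, hlt i⟩, ⟨_, hlt m⟩, ⟨n', hlt n⟩⟩, Subtype.ext ?_⟩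
      show z ^ _ * y ^ _ * b ^ n' = (a : Ω)
      rw [← hred hzp i, ← hred (hexp y hy) m, show z ^ i = _ from hi]
      group
    have := Nat.card_le_card_of_surjective f hf
    rw [Nat.card_prod, Nat.card_prod, Nat.card_fin] at this
    have h3 := Nat.pow_lt_pow_right hpp.one_lt (show 3 < 5 by norm_num)
    have h4 : p * (p * p) = p ^ 3 := by ring
    omega
  -- the stabiliser group
  let K : Subgroup (F.autGroup E) :=
    { carrier := {g | autFun (g : MulAut E) z = z ∧
        ∀ x ∈ E, autFun (g : MulAut E) x * x⁻¹ ∈ Subgroup.zpowers z}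
      one_mem' := ⟨by simp [autFun_one], fun x _ => by simp [autFun_one]⟩
      mul_mem' := by
        intro g g' hg hg'
        refine ⟨by rw [Subgroup.coe_mul, autFun_mul, hg'.1, hg.1], fun x hx => ?_⟩
        rw [Subgroup.coe_mul, autFun_mul]
        have := Subgroup.mul_mem _ (hg.2 _ (autFun_mem (g' : MulAut E) hx)) (hg'.2 x hx)
        simpa [mul_assoc] using this
      inv_mem' := by
        intro g hg
        refine ⟨?_, fun x hx => ?_⟩
        · conv_lhs => rw [Subgroup.coe_inv, ← hg.1]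
          exact autFun_inv_apply _ _
        · have := Subgroup.inv_mem _ (hg.2 _ (autFun_mem (g : MulAut E)⁻¹ hx))
          rw [autFun_apply_inv, mul_inv_rev, inv_inv] at this
          simpa using this }
  have hKp : IsPGroup p K := by
    intro g
    refine ⟨1, Subtype.ext (Subtype.ext ?_)⟩
    simp only [pow_one, SubmonoidClass.coe_pow, OneMemClass.coe_one]
    refine autFun_ext fun x hx => ?_
    obtain ⟨hgz, hgx⟩ := g.2
    set γ : MulAut E := ((g : F.autGroup E) : MulAut E)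
    set w := autFun γ x * x⁻¹ with hw
    have hwZ : w ∈ Subgroup.zpowers z := hgx x hx
    have key : ∀ n : ℕ, autFun (γ ^ n) x = w ^ n * x := by
      intro n
      induction n with
      | zero => simp [autFun_one]
      | succ n ih =>
        rw [pow_succ', autFun_mul, ih,
          autFun_isHom γ _ (E.pow_mem (hZE hwZ) n) _ hx, hfixZ hgz (Subgroup.pow_mem _ hwZ n),
          show autFun γ x = w * x from (inv_mul_cancel_right _ _).symm,
          ← mul_assoc (w ^ n), ← pow_succ]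
    rw [key, hZp w hwZ, autFun_one, one_mul]
    rfl
  have hinvZ : ∀ {g : MulAut E}, autFun g z ∈ Subgroup.zpowers z →
      autFun g⁻¹ z ∈ Subgroup.zpowers z := by
    intro g hg
    have h1 : autFun g z ≠ 1 := fun h => hz1 (by
      have := autFun_inv_apply g z
      rw [h, (autFun_isHom g⁻¹).map_one] at this
      exact this.symm)
    obtain ⟨k, hk⟩ := hgen _ hg h1
    have h2 := map_zpow' (autFun_isHom g⁻¹) (autFun_mem g hzE) k
    rw [hk, autFun_inv_apply] at h2
    rw [h2]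
    exact ⟨k, rfl⟩
  have hnorm : ∀ g : F.autGroup E, autFun (g : MulAut E) z ∈ Subgroup.zpowers z →
      g ∈ Subgroup.normalizer (K : Set (F.autGroup E)) := by
    have key : ∀ g : F.autGroup E, autFun (g : MulAut E) z ∈ Subgroup.zpowers z →
        ∀ k ∈ K, g * k * g⁻¹ ∈ K := by
      intro g hg k hk
      refine ⟨?_, fun x hx => ?_⟩
      · simp only [Subgroup.coe_mul, Subgroup.coe_inv, autFun_mul,
          hfixZ hk.1 (hinvZ hg), autFun_apply_inv]
      · simp only [Subgroup.coe_mul, Subgroup.coe_inv, autFun_mul]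
        have hu := autFun_mem (g : MulAut E)⁻¹ hx
        set u := autFun (g : MulAut E)⁻¹ x
        rw [show autFun (k : MulAut E) u = (autFun (k : MulAut E) u * u⁻¹) * u by simp,
          autFun_isHom _ _ (hZE (hk.2 u hu)) _ hu, autFun_apply_inv, mul_inv_cancel_right]
        exact hmapZ hg (hk.2 u hu)
    intro g hg
    rw [Subgroup.mem_normalizer_iff]
    refine fun k => ⟨key g hg k, fun hk => ?_⟩
    have := key g⁻¹ (hinvZ hg) _ hk
    simpa [mul_assoc] using this
  have hτK : ∀ q (hq : q ∈ Q), τ q hq ∈ K := fun q hq =>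
    ⟨by rw [hτ q hq z hzE, dl_eq_one.2 (hzc q hq), one_mul],
      fun x hx => by rw [hτ q hq x hx, mul_inv_cancel_right]; exact hQc q hq x (hEQ hx)⟩
  obtain ⟨-, -, hnN, Y, hY⟩ := id hE
  set π := QuotientGroup.mk' ((Inn E).subgroupOf (F.autGroup E))
  have hπ : ∀ g : F.autGroup E, π g = 1 → g = 1 := by
    intro g hg
    rw [QuotientGroup.mk'_apply, QuotientGroup.eq_one_iff, Subgroup.mem_subgroupOf, mem_inn_iff] at hg
    obtain ⟨t, ht, he⟩ := hg
    refine Subtype.ext (autFun_ext fun x hx => ?_)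
    rw [he x hx, cj_apply, dl_eq_one.1 (habel t ht x hx), mul_inv_cancel_right, OneMemClass.coe_one,
      autFun_one]
    rfl
  have hτ1 : ∀ q (hq : q ∈ Q), q ∉ E → π (τ q hq) ≠ 1 := fun q hq hqE h => hqE (hcent q hq fun x hx => by
    have := hτ q hq x hx
    rw [hπ _ h, OneMemClass.coe_one, autFun_one] at this
    exact mul_eq_right.1 this.symm)
  refine no_embedded hY (K := K.map π) (hKp.map π)
    (fun h0 => hτ1 q₀ hq₀ hq₀E ((Subgroup.eq_bot_iff_forall _).1 h0 _ ⟨_, hτK q₀ hq₀, rfl⟩))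
    fun G => ?_
  obtain ⟨g, rfl⟩ := QuotientGroup.mk'_surjective _ G
  have hnπ : ∀ u, u ∈ Subgroup.normalizer (K : Set (F.autGroup E)) →
      π u ∈ Subgroup.normalizer ((K.map π : Subgroup _) : Set _) := fun u hu =>
    Subgroup.le_normalizer_map π ⟨u, hu, rfl⟩
  by_cases hg : autFun (g : MulAut E) z ∈ Subgroup.zpowers z
  · exact Or.inl (hnπ g (hnorm g hg))
  obtain ⟨a, ha, haE, had⟩ := hfix _ (autFun_mem _ hzE) hg
  refine Or.inr ⟨π (τ a ha), ⟨_, hτK a ha, rfl⟩, hτ1 a ha haE, ?_⟩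
  have hn : g⁻¹ * τ a ha * g ∈ Subgroup.normalizer (K : Set (F.autGroup E)) := hnorm _ (by
    simp only [Subgroup.coe_mul, Subgroup.coe_inv, autFun_mul, hτ a ha _ (autFun_mem _ hzE), had,
      one_mul, autFun_inv_apply]
    exact Subgroup.mem_zpowers z)
  have hn' := hnπ _ hn
  have h2 := Subgroup.le_normalizer_map (MulAut.conj (π g)).toMonoidHom ⟨_, hn', rfl⟩
  simpa [π, mul_assoc] using h2

end Cfsg.Agent.S5179
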