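import Cfsg.Statements.S5180
import Cfsg.Agent.Lib.Fusion.RankThree.Main
import Cfsg.Agent.LocalFlavell.MaxClass.Push
-- import your own Cfsg.Agent.* helpers here

set_option autoImplicit false
universe u
open Cfsg

namespace Cfsg.Agent.S5180

/-- Let p ≥ 5 be a prime, S a finite p-group of sectional p-rank exactly 3, and F a saturated fusion system over S. Then every essential subgroup E of F that needs three generators (the Frattini quotient E/Φ(E) has order p³) is normal in S. -/
theorem result {Ω : Type u} [Group Ω] {S : Subgroup Ω} [Finite S] (p : ℕ) [Fact p.Prime] (hp : 5 ≤ p) (hS : IsPGroup p S) (hsr : Cfsg.SectionalPRankLE p 3 ↥S ∧ ¬ Cfsg.SectionalPRankLE p 2 ↥S)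
    (F : Cfsg.FusionSystem S) (hF : F.IsSaturated p) (E : Subgroup Ω) (hE : F.IsEssential p E)
    (hrk : (frattini ↥E).index = p ^ 3) : S ≤ Subgroup.normalizer (E : Set Ω) := by
  obtain ⟨-, hsat, hess⟩ := LocalFlavell.MaxClass.Push.essential hS hF hE
  have hES : E ≤ S := hE.1.1
  have : Finite E := Fusion.Saturation.finite_of_le hES
  have hmap : (frattini E).map E.subtype = Fusion.RankThree.phi p E := by
    rw [Fusion.RankThree.frattini_eq_phi (hS.to_le hES), Fusion.RankThree.phi_map,
      ← MonoidHom.range_eq_map, Subgroup.range_subtype]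
  have hrk' : (Fusion.RankThree.phi p (E.subgroupOf S)).relIndex (E.subgroupOf S) = p ^ 3 := by
    rw [← Subgroup.relIndex_map_map_of_injective _ _ S.subtype_injective, Fusion.RankThree.phi_map,
      Subgroup.map_subgroupOf_eq_of_le hES, ← hmap,
      Subgroup.relIndex, Subgroup.subgroupOf, Subgroup.comap_map_eq_self_of_injective E.subtype_injective,
      hrk]
  have h := Fusion.RankThree.normalizer_eq_top hS hp hsr.1 hsat hess hrk'
  intro s hs
  refine Fusion.Saturation.mem_normalizer_of_forall fun v hv => ?_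
  have h1 : (⟨s, hs⟩ : S) ∈ Subgroup.normalizer ((E.subgroupOf S : Subgroup S) : Set S) :=
    h ▸ Subgroup.mem_top _
  exact Subgroup.mem_subgroupOf.1
    ((Subgroup.mem_normalizer_iff.1 h1 ⟨v, hES hv⟩).1 (Subgroup.mem_subgroupOf.2 hv))

end Cfsg.Agent.S5180
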