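import Cfsg.Statements.S5186
import Cfsg.Agent.Lib.Fusion.EssentialShape
import Cfsg.Agent.Lib.CharP.Basic
import Cfsg.Agent.Lib.Transfer.Special
import Cfsg.Agent.Lib.PGroups.UniqueSubgroup

set_option linter.all false

set_option autoImplicit false
universe u
open Cfsg

namespace Cfsg.Agent.S5186

open Fusion.EssentialShape Subgroup
open scoped commutatorElement

/-- Let F be a saturated fusion system over a finite p-group S and H an essential subgroup of order p³. Then H is elementary abelian, or p is odd and H is extraspecial of exponent p, or p = 2 and H is the quaternion group of order 8. -/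
theorem result {Ω : Type u} [Group Ω] {S : Subgroup Ω} [Finite S] (p : ℕ) [Fact p.Prime] (hS : IsPGroup p S)
    (F : Cfsg.FusionSystem S) (hF : F.IsSaturated p) (H : Subgroup Ω) (hH : F.IsEssential p H) (hcard : Nat.card H = p ^ 3) :
    Cfsg.IsElementaryAbelian p H ∨ (Odd p ∧ Cfsg.IsExtraspecial p ↥H ∧ ∀ x ∈ H, x ^ p = 1) ∨
      (p = 2 ∧ Nonempty (↥H ≃* QuaternionGroup 2)) := by
  classical
  have hHS : H ≤ S := hH.1.1
  haveI : Finite H := Fusion.Saturation.finite_of_le hHS
  have hpH : IsPGroup p H := hS.to_le hHS
  have hp := (Fact.out : p.Prime)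
  haveI : Nontrivial H := by
    rw [← Finite.one_lt_card_iff_nontrivial, hcard]
    exact Nat.one_lt_pow (by norm_num) hp.one_lt
  by_cases hab : ∀ a b : H, a * b = b * a
  · left
    refine ⟨⟨⟨hab⟩⟩, fun x hx => ?_⟩
    letI : CommGroup H := { (inferInstance : Group H) with mul_comm := hab }
    by_contra hne
    have hMne : powImage H p 1 ≠ ⊥ := fun h => hne (by
      have h2 : (⟨x, hx⟩ : H) ^ p ∈ powImage H p 1 := ⟨⟨x, hx⟩, by simp⟩
      rw [h, Subgroup.mem_bot] at h2
      exact congrArg Subtype.val h2)
    have hidx : (powImage H p 1).index ≤ p ^ 2 := by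
      obtain ⟨e, he⟩ := IsPGroup.iff_card.mp (hpH.to_subgroup (powImage H p 1))
      have he0 : e ≠ 0 := fun h0 => hMne (Subgroup.card_eq_one.mp (by rw [he, h0, pow_zero]))
      have h := Subgroup.card_mul_index (powImage H p 1)
      rw [he, hcard] at h
      refine Nat.le_of_mul_le_mul_left ?_ hp.pos
      calc p * (powImage H p 1).index ≤ p ^ e * (powImage H p 1).index :=
            Nat.mul_le_mul_right _ (Nat.le_self_pow he0 p)
        _ = p * p ^ 2 := by rw [h]; ring
    rcases exists_series_or_homocyclic hpH hidx with ⟨C, n, h0, hn, hmono, hinv, hstep⟩ | ⟨b, hexp, hker, hM2⟩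
    · exact no_series hH hS C n h0 hn hmono hinv hstep
    · obtain ⟨e⟩ := homocyclic_equiv hpH hexp hker hM2
      have h := Nat.card_congr e.toEquiv
      rw [hcard, Nat.card_congr Multiplicative.toAdd, Nat.card_prod, Nat.card_zmod, ← pow_add] at h
      have := Nat.pow_right_injective hp.two_le h
      omega
  right
  set Z := Subgroup.center H with hZ
  have hZcard : Nat.card Z = p := by
    obtain ⟨e, he⟩ := IsPGroup.iff_card.mp (hpH.to_subgroup Z)
    have hle : e ≤ 3 := (Nat.pow_dvd_pow_iff_le_right hp.one_lt).mp (by rw [← he, ← hcard]; exact card_subgroup_dvd_card Z)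
    interval_cases e
    · exfalso
      haveI := hpH.center_nontrivial
      have := Finite.one_lt_card (α := Z)
      rw [he, pow_zero] at this; omega
    · rw [he, pow_one]
    · exfalso
      apply hab
      have hi : Z.index = p := by
        have h := Z.card_mul_index
        rw [he, hcard, pow_succ p 2] at h
        exact mul_left_cancel₀ (pow_ne_zero 2 hp.ne_zero) h
      haveI : IsCyclic (H ⧸ Z) := isCyclic_of_prime_card (p := p) (by rw [← index_eq_card, hi])
      exact fun a b => (isMulCommutative_of_isCyclic_quotient_center_self H).is_comm.comm a b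
    · exfalso
      apply hab
      have : Z = ⊤ := (card_eq_iff_eq_top Z).mp (by rw [he, hcard])
      exact fun a b => Subgroup.mem_center_iff.mp (show b ∈ Z by rw [this]; exact mem_top b) a
  have hqc : Nat.card (H ⧸ Z) = p ^ 2 := by
    have h := Z.card_mul_index
    rw [hZcard, hcard, pow_succ' p 2] at h
    rw [← index_eq_card]
    exact mul_left_cancel₀ hp.ne_zero h
  have hqab := IsPGroup.commutative_of_card_eq_prime_sq hqc
  have hqexp : ∀ q : H ⧸ Z, q ^ p = 1 := by
    intro q
    obtain ⟨i, hi, hiq⟩ := (Nat.dvd_prime_pow hp).mp (hqc ▸ orderOf_dvd_natCard q)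
    rcases (show i ≤ 1 ∨ i = 2 by omega) with h | h
    · rw [← orderOf_dvd_iff_pow_eq_one, hiq]
      exact (pow_dvd_pow p h).trans (by rw [pow_one])
    · exfalso
      apply hab
      subst h
      haveI : IsCyclic (H ⧸ Z) := isCyclic_of_orderOf_eq_card q (by rw [hiq, hqc])
      exact fun a b => (isMulCommutative_of_isCyclic_quotient_center_self H).is_comm.comm a b
  have hZpow : ∀ x : H, x ^ p ∈ Z := fun x => (QuotientGroup.eq_one_iff _).mp (hqexp (QuotientGroup.mk x))
  have hcomm : commutator H ≤ Z := (_root_.commutator_def H).le.trans (commutator_le.mpr fun a _ b _ => by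
    rw [← QuotientGroup.eq_one_iff (N := Z)]
    show QuotientGroup.mk' Z ⁅a, b⁆ = 1
    rw [map_commutatorElement, commutatorElement_eq_one_iff_commute]
    exact hqab _ _)
  haveI := hpH.isNilpotent
  have hcommZ : commutator H = Z := by
    refine eq_of_le_of_card_ge hcomm ?_
    rw [hZcard]
    obtain ⟨e, he⟩ := IsPGroup.iff_card.mp (hpH.to_subgroup (commutator H))
    rw [he]
    refine Nat.le_self_pow (fun h0 => hab ?_) p
    rw [h0, pow_zero, Subgroup.card_eq_one, _root_.commutator_eq_bot_iff] at he
    exact fun a b => he.is_comm.comm a b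
  have hfr : frattini H = Z := by
    refine le_antisymm (fun x hx => ?_) (hcommZ ▸ (?_ : commutator H ≤ frattini H))
    · have h := CharP.frattini_le_ker (p := p) (QuotientGroup.mk' Z) (fun a b => hqab _ _) (fun a => hqexp _) hx
      rwa [QuotientGroup.ker_mk'] at h
    · refine (_root_.commutator_def H).le.trans (commutator_le.mpr fun a _ b _ => ?_)
      have hn : (frattini H).Normal := inferInstance
      rw [← QuotientGroup.eq_one_iff (N := frattini H)]
      exact (QuotientGroup.eq_one_iff _).mpr (Coprime.commutator_le_frattini H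
        (commutator_mem_commutator (mem_top a) (mem_top b)))
  have hext : Cfsg.IsExtraspecial p H := ⟨⟨hpH, hfr, hcommZ⟩, hZcard⟩
  have hsmall : ∀ C : Subgroup H, Z ≤ C → Nat.card C = p ^ 2 → (∀ a : MulAut H, ∀ x ∈ C, a x ∈ C) → False := by
    intro C hZC hC hinv
    refine no_series hH hS (fun i => if i = 0 then ⊥ else if i = 1 then Z else if i = 2 then C else ⊤) 3 rfl rfl ?_ ?_ ?_
    · intro i hi; interval_cases i <;> simp [hZC]
    · intro i hi a x hx
      interval_cases i
      · simp only [if_true] at hx ⊢
        rw [Subgroup.mem_bot] at hx ⊢; rw [hx, map_one]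
      · simp only [one_ne_zero, if_false, if_true] at hx ⊢
        rw [Subgroup.mem_center_iff] at hx ⊢
        intro g
        obtain ⟨g, rfl⟩ := a.surjective g
        rw [← map_mul, hx, map_mul]
      · simp only [OfNat.ofNat_ne_zero, if_false, if_true] at hx ⊢
        exact hinv a x hx
      · simp
    · intro i hi
      interval_cases i
      · simp [relIndex_bot_left, hZcard]
      · simp only [one_ne_zero, if_false, if_true]
        have h := Solvable.Basics.card_mul_relIndex hZC
        rw [hZcard, hC, sq] at h
        exact (mul_left_cancel₀ hp.ne_zero h).le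
      · simp only [OfNat.ofNat_ne_zero, if_false, if_true]
        rw [show (if 2 = 1 then Z else C) = C by simp]
        simp only [Nat.reduceAdd, Nat.reduceEqDiff, if_false, relIndex_top_right]
        have h := C.card_mul_index
        rw [hC, hcard, pow_succ p 2] at h
        exact (mul_left_cancel₀ (pow_ne_zero 2 hp.ne_zero) h).le
  rcases hp.eq_two_or_odd' with h2 | hodd
  · subst h2
    right
    refine ⟨rfl, ?_⟩
    by_cases hu : ∀ K L : Subgroup H, Nat.card K = 2 → Nat.card L = 2 → K = L
    · rcases PGroups.UniqueSubgroup.isCyclic_or_quaternion hpH hu with hc | ⟨-, n, ⟨e⟩⟩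
      · exact absurd (fun a b => (IsCyclic.commutative : IsMulCommutative H).is_comm.comm a b) hab
      · have h := Nat.card_congr e.toEquiv
        haveI : NeZero (2 ^ n) := ⟨pow_ne_zero _ two_ne_zero⟩
        rw [hcard, Nat.card_eq_fintype_card, QuaternionGroup.card] at h
        have hn : n = 1 := by
          have : 2 ^ n = 2 ^ 1 := by norm_num at h ⊢; omega
          exact Nat.pow_right_injective le_rfl this
        subst hn
        exact ⟨e⟩
    exfalso
    push Not at hu
    obtain ⟨K, L, hK, hL, hKL⟩ := hu
    -- a noncentral involution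
    obtain ⟨s, hs, hsZ⟩ : ∃ s : H, s ^ 2 = 1 ∧ s ∉ Z := by
      by_contra! hall
      have hle : ∀ J : Subgroup H, Nat.card J = 2 → J = Z := fun J hJ => by
        refine eq_of_le_of_card_ge (fun j hj => hall j ?_) (by rw [hJ, hZcard])
        have := pow_card_eq_one' (x := (⟨j, hj⟩ : J))
        rw [hJ] at this
        exact congrArg Subtype.val this
      exact hKL ((hle K hK).trans (hle L hL).symm)
    obtain ⟨a, ha⟩ : ∃ a : H, a ^ 2 ≠ 1 := by
      by_contra! hall
      apply hab
      intro a b
      have h := hall (a * b)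
      have hA := hall a; have hB := hall b
      rw [sq] at h hA hB
      calc a * b = a * (a * b * (a * b)) * b := by rw [h, mul_one]
        _ = (a * a) * (b * a) * (b * b) := by group
        _ = b * a := by rw [hA, hB, one_mul, mul_one]
    set C := closure {x : H | x ^ 2 ≠ 1} with hC
    have haC : a ∈ C := subset_closure ha
    have hZa : Z ≤ zpowers a := by
      refine le_of_eq ?_ |>.trans (zpowers_le.mpr (pow_mem (mem_zpowers a) 2))
      refine (eq_of_le_of_card_ge (zpowers_le.mpr (hZpow a)) ?_).symm
      rw [hZcard, Nat.card_zpowers]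
      exact (Nat.two_le_iff _).mpr ⟨(orderOf_pos _).ne', fun h => ha (orderOf_eq_one_iff.mp h)⟩
    have hoa : orderOf a = 4 := by
      refine orderOf_eq_prime_pow (p := 2) (n := 1) (by simpa using ha) ?_
      show a ^ 2 ^ 2 = 1
      have h := pow_card_eq_one' (x := (⟨a ^ 2, hZpow a⟩ : Z))
      rw [hZcard] at h
      have h' : (a ^ 2) ^ 2 = 1 := congrArg Subtype.val h
      rw [← pow_mul] at h'; exact h'
    have h4' : a ^ 4 = 1 := hoa ▸ pow_orderOf_eq_one a
    have hsa : s ∉ zpowers a := by
      intro h
      obtain ⟨i, rfl⟩ := mem_zpowers_iff.mp h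
      rcases Int.even_or_odd' i with ⟨j, rfl | rfl⟩
      · exact hsZ (by rw [zpow_mul, zpow_ofNat]; exact zpow_mem (hZpow a) j)
      · apply ha
        have h1 : a ^ (2 * (2 * j + 1)) = 1 := by rw [mul_comm, zpow_mul, zpow_ofNat]; exact hs
        have h4 : a ^ (4 : ℤ) = 1 := by rw [zpow_ofNat, ← hoa]; exact pow_orderOf_eq_one a
        rw [← zpow_natCast, show ((2 : ℕ) : ℤ) = 2 * (2 * j + 1) + 4 * (-j) by push_cast; ring, zpow_add, h1, zpow_mul, h4,
          one_zpow, mul_one]
    have hidx : (zpowers a).index = 2 := by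
      have h := (zpowers a).card_mul_index
      rw [Nat.card_zpowers, hoa, hcard] at h
      omega
    have hCle : C ≤ zpowers a := by
      refine (closure_le _).mpr fun x hx => ?_
      by_contra hxa
      have h1 : s * x ∈ zpowers a := (mul_mem_iff_of_index_two hidx).mpr (iff_of_false hsa hxa)
      obtain ⟨i, hi⟩ := mem_zpowers_iff.mp h1
      apply hx
      have hcz : ⁅s, a⁆ ∈ Z := hcomm (commutator_mem_commutator (mem_top s) (mem_top a))
      have hne : ⁅s, a⁆ ≠ 1 := by
        intro h
        apply hab
        have hcen : ∀ y, y ∈ centralizer ({s} : Set H) := by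
          have htop : zpowers a ⊔ zpowers s = ⊤ := by
            by_contra hne
            have h2 := relIndex_mul_index (le_sup_left : zpowers a ≤ zpowers a ⊔ zpowers s)
            rw [hidx] at h2
            rcases (Nat.dvd_prime Nat.prime_two).mp (Dvd.intro _ h2) with e | e
            · exact hsa (relIndex_eq_one.mp e (mem_sup_right (mem_zpowers s)))
            · rw [e] at h2
              exact hne (index_eq_one.mp (by omega))
          intro y
          refine (htop ▸ (sup_le (zpowers_le.mpr ?_) (zpowers_le.mpr ?_)) : (⊤ : Subgroup H) ≤ centralizer ({s} : Set H)) (mem_top y)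
          · exact mem_centralizer_singleton_iff.mpr (commutatorElement_eq_one_iff_mul_comm.mp h).symm
          · exact mem_centralizer_singleton_iff.mpr rfl
        exact absurd (Subgroup.mem_center_iff.mpr fun g => mem_centralizer_singleton_iff.mp (hcen g)) hsZ
      have hinv : s * a * s⁻¹ = a⁻¹ := by
        have hz : ⁅s, a⁆ = a ^ 2 := by
          have hsub : ∀ z ∈ Z, z = 1 ∨ z = a ^ 2 := by
            intro z hz
            obtain ⟨i, hi⟩ := mem_zpowers_iff.mp (show z ∈ zpowers (a ^ 2) from
              (eq_of_le_of_card_ge (zpowers_le.mpr (hZpow a)) (by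
                rw [hZcard, Nat.card_zpowers]
                exact (Nat.two_le_iff _).mpr ⟨(orderOf_pos _).ne', fun h => ha (orderOf_eq_one_iff.mp h)⟩)).ge hz)
            have h22 : (a ^ 2) ^ (2 : ℤ) = 1 := by
              rw [zpow_ofNat, ← pow_mul]; exact h4'
            rcases Int.even_or_odd' i with ⟨j, rfl | rfl⟩
            · left; rw [← hi, zpow_mul, h22, one_zpow]
            · right; rw [← hi, zpow_add, zpow_mul, h22, one_zpow, one_mul, zpow_one]
          exact (hsub _ hcz).resolve_left hne
        have h3 : s * a * s⁻¹ = a ^ 2 * a := by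
          rw [← hz, commutatorElement_def]; group
        rw [h3, ← pow_succ, eq_inv_iff_mul_eq_one, ← pow_succ]
        exact h4'
      have hconj : s * a ^ i * s⁻¹ = (a ^ i)⁻¹ := by rw [← conj_zpow, hinv, inv_zpow]
      rw [sq] at hs ⊢
      have hxeq : x = s * a ^ i := by rw [hi, ← mul_assoc, hs, one_mul]
      rw [hxeq]
      calc s * a ^ i * (s * a ^ i) = (s * a ^ i * s⁻¹) * (s * s) * a ^ i := by group
        _ = 1 := by rw [hconj, hs, mul_one, inv_mul_cancel]
    refine hsmall C (hZa.trans (zpowers_le.mpr haC)) ?_ ?_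
    · rw [le_antisymm hCle (zpowers_le.mpr haC), Nat.card_zpowers, hoa]; norm_num
    · intro f x hx
      have hle : C.map f.toMonoidHom ≤ C := by
        rw [hC, MonoidHom.map_closure]
        refine closure_mono ?_
        rintro _ ⟨y, hy, rfl⟩
        exact fun h => hy (f.injective (by
          rw [map_pow, map_one]; exact h))
      exact hle ⟨x, hx, rfl⟩
  left
  refine ⟨hodd, hext, ?_⟩
  have hp2 : p ≠ 2 := fun e => absurd (e ▸ hodd) (by decide)
  let f : H →* H := MonoidHom.mk' (fun x => x ^ p) fun u v =>
    Transfer.Special.mul_pow_of_class_two hp2 hcomm u v (hZpow v)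
  intro x hx
  by_contra hne
  have hker : f.ker ≠ ⊤ := fun h => hne (by
    have : (⟨x, hx⟩ : H) ∈ f.ker := h ▸ mem_top _
    exact congrArg Subtype.val (MonoidHom.mem_ker.mp this))
  have hZker : Z ≤ f.ker := fun z hz => by
    have h := pow_card_eq_one' (x := (⟨z, hz⟩ : Z))
    rw [hZcard] at h
    exact MonoidHom.mem_ker.mpr (congrArg Subtype.val h)
  have hidx : f.ker.index = p := by
    have hd : f.ker.index ∣ p := by
      rw [index_ker, ← hZcard]
      exact card_dvd_of_le (fun _ ⟨y, hy⟩ => hy ▸ hZpow y)
    exact ((Nat.dvd_prime hp).mp hd).resolve_left fun h => hker (index_eq_one.mp h)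
  refine hsmall f.ker hZker ?_ fun a y hy => ?_
  · have h := f.ker.card_mul_index
    rw [hidx, hcard, pow_succ p 2] at h
    exact mul_right_cancel₀ hp.ne_zero h
  · rw [MonoidHom.mem_ker] at hy ⊢
    show (a y) ^ p = 1
    rw [← map_pow, show y ^ p = 1 from hy, map_one]

end Cfsg.Agent.S5186
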