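import Cfsg.Statements.S5187
import Cfsg.Agent.Lib.Fusion.EssentialShape
import Cfsg.Agent.Lib.CharP.Basic

set_option linter.all false

set_option autoImplicit false
universe u
open Cfsg

namespace Cfsg.Agent.S5187

open Fusion.EssentialShape Subgroup

/-- Let F be a saturated fusion system over a finite p-group S and H an abelian essential subgroup that can be generated by two elements (its Frattini quotient has order at most p²). Then H is elementary abelian of order p², or p ≤ 3 and H is homocyclic of rank two, that is isomorphic to C_{pᵏ} × C_{pᵏ} for some k. -/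
theorem result {Ω : Type u} [Group Ω] {S : Subgroup Ω} [Finite S] (p : ℕ) [Fact p.Prime] (hS : IsPGroup p S)
    (F : Cfsg.FusionSystem S) (hF : F.IsSaturated p) (H : Subgroup Ω) (hH : F.IsEssential p H) (hab : IsMulCommutative ↥H) (hrk : (frattini ↥H).index ≤ p ^ 2) :
    (Cfsg.IsElementaryAbelian p H ∧ Nat.card H = p ^ 2) ∨
      (p ≤ 3 ∧ ∃ k : ℕ, Nonempty (↥H ≃* Multiplicative (ZMod (p ^ k) × ZMod (p ^ k)))) := by
  classical
  have hHS : H ≤ S := hH.1.1
  haveI : Finite H := Fusion.Saturation.finite_of_le hHS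
  have hpH : IsPGroup p H := hS.to_le hHS
  letI : CommGroup H := { (inferInstance : Group H) with mul_comm := fun a b => hab.is_comm.comm a b }
  haveI : Nontrivial H := by
    by_contra hsub
    rw [not_nontrivial_iff_subsingleton] at hsub
    exact no_series hH hS (fun _ => ⊥) 0 rfl (Subsingleton.elim _ _) (by omega) (by
      intro i _ a x hx
      rw [Subsingleton.elim (a x) 1]; exact one_mem _) (by omega)
  have hM : frattini H ≤ powImage H p 1 := by
    intro x hx
    have h := CharP.frattini_le_ker (p := p) (QuotientGroup.mk' (powImage H p 1)) (fun a b => Commute.all _ _)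
      (fun a => by
        rw [← map_pow]
        exact (QuotientGroup.eq_one_iff _).mpr ⟨a, by simp⟩) hx
    rwa [QuotientGroup.ker_mk'] at h
  have hidx : (powImage H p 1).index ≤ p ^ 2 :=
    (Nat.le_of_dvd (Nat.pos_of_ne_zero index_ne_zero_of_finite) (index_dvd_of_le hM)).trans hrk
  rcases exists_series_or_homocyclic hpH hidx with ⟨C, n, h0, hn, hmono, hinv, hstep⟩ | ⟨b, hexp, hker, hM2⟩
  · exact absurd (no_series hH hS C n h0 hn hmono hinv hstep) not_false
  rcases Nat.eq_zero_or_pos b with rfl | hb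
  · left
    have hp1 : ∀ x : H, x ^ p = 1 := fun x => by simpa using hexp x
    refine ⟨⟨hab, fun x hx => congrArg Subtype.val (hp1 ⟨x, hx⟩)⟩, ?_⟩
    have hbot : powImage H p 1 = ⊥ := by
      rw [MonoidHom.range_eq_bot_iff]
      exact MonoidHom.ext fun x => by simpa using hp1 x
    rw [← hM2, hbot, index_bot]
  right
  refine ⟨?_, b + 1, homocyclic_equiv hpH hexp hker hM2⟩
  by_contra hp3
  have h5 : 5 ≤ p := by
    have h4 : p ≠ 4 := fun e => by
      have := (Fact.out : p.Prime); rw [e] at this; norm_num at this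
    omega
  have hInn : Cfsg.Inn H = ⊥ := by
    rw [Subgroup.eq_bot_iff_forall]
    rintro α ⟨g, rfl⟩
    exact MulEquiv.ext fun w => by
      show g * w * g⁻¹ = w
      rw [mul_inv_cancel_comm]
  obtain ⟨α, k, hk, hout⟩ := exists_outer hH
  have hdvd : p ∣ Nat.card (F.autGroup H) := by
    obtain ⟨i, -, hi⟩ := (Nat.dvd_prime_pow (Fact.out : p.Prime)).mp (orderOf_dvd_of_pow_eq_one hk)
    rcases Nat.eq_zero_or_pos i with rfl | hi0
    · rw [pow_zero, orderOf_eq_one_iff] at hi
      exact absurd (by rw [hi]; exact one_mem _) hout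
    · exact (dvd_pow_self p hi0.ne').trans (hi ▸ orderOf_dvd_natCard α)
  obtain ⟨β, hβ⟩ := exists_prime_orderOf_dvd_card' (G := F.autGroup H) p hdvd
  have hβp : (β : MulAut H) ^ p = 1 := by
    rw [← SubgroupClass.coe_pow, ← hβ, pow_orderOf_eq_one]; rfl
  have hstab := stabilizes_of_five_le hb hker hM2 h5 hβp
  have hmem : β ∈ Cfsg.pCore p (F.autGroup H) := by
    refine mem_pCore_of_stabilizes hpH _ (fun i => powImage H p (b + 1 - i)) (b + 1) ?_ ?_ (fun i hi => ?_) ?_ ?_
    · rw [Nat.sub_zero]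
      exact MonoidHom.range_eq_bot_iff.mpr (MonoidHom.ext hexp)
    · rw [Nat.sub_self]
      exact MonoidHom.range_eq_top.mpr fun x => ⟨x, by simp⟩
    · rintro _ ⟨x, rfl⟩
      refine ⟨x ^ p, ?_⟩
      show (x ^ p) ^ p ^ (b + 1 - (i + 1)) = x ^ p ^ (b + 1 - i)
      rw [← pow_mul, ← pow_succ', show b + 1 - (i + 1) + 1 = b + 1 - i by omega]
    · rintro i _ a _ _ ⟨x, rfl⟩
      exact ⟨a x, (map_pow a x _).symm⟩
    · rintro i hi _ ⟨x, rfl⟩
      obtain ⟨w, hw⟩ := hstab x
      refine ⟨w, ?_⟩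
      show w ^ p ^ (b + 1 - i) = (x ^ p ^ (b + 1 - (i + 1)))⁻¹ * (β : MulAut H) (x ^ p ^ (b + 1 - (i + 1)))
      rw [map_pow, ← inv_pow, ← mul_pow, ← hw]
      show w ^ p ^ (b + 1 - i) = (w ^ p ^ 1) ^ p ^ (b + 1 - (i + 1))
      rw [← pow_mul, ← pow_add, show 1 + (b + 1 - (i + 1)) = b + 1 - i by omega]
  have h1 := mem_inn_of_mem_pCore hH hS hmem
  rw [hInn, Subgroup.mem_bot] at h1
  rw [show β = 1 from Subtype.ext h1, orderOf_one] at hβ
  exact (Fact.out : p.Prime).one_lt.ne hβ

end Cfsg.Agent.S5187
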