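import Cfsg.Statements.S5182
import Cfsg.Agent.Lib.Fusion.RankThree.Normal.Transfer
import Cfsg.Agent.Lib.Fusion.RankThree.Pearl.Transfer
import Cfsg.Agent.S5180
import Cfsg.Agent.S5186
import Cfsg.Agent.S5187

set_option autoImplicit false
universe u
open Cfsg

namespace Cfsg.Agent.S5182

/-- Let p ≥ 5 be a prime, S a finite p-group of sectional p-rank exactly 3, and F a saturated fusion system over S whose largest subgroup normal in F is trivial. Then F has an essential subgroup that is either elementary abelian of order p² or extraspecial of order p³ and exponent p. -/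
theorem result {Ω : Type u} [Group Ω] {S : Subgroup Ω} [Finite S] (p : ℕ) [Fact p.Prime] (hp : 5 ≤ p) (hS : IsPGroup p S) (hsr : Cfsg.SectionalPRankLE p 3 ↥S ∧ ¬ Cfsg.SectionalPRankLE p 2 ↥S)
    (F : Cfsg.FusionSystem S) (hF : F.IsSaturated p) (hO : F.core = ⊥) :
    ∃ E : Subgroup Ω, (F.IsEssential p E ∧ ((Cfsg.IsElementaryAbelian p E ∧ Nat.card E = p ^ 2) ∨
        (Cfsg.IsExtraspecial p ↥E ∧ Nat.card E = p ^ 3 ∧ ∀ x ∈ E, x ^ p = 1))) := by
  have hp2 : p ≠ 2 := by omega
  have hodd : Odd p := (Fact.out : p.Prime).odd_of_ne_two hp2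
  have cube : ∀ E : Subgroup Ω, F.IsEssential p E → Nat.card E = p ^ 3 → ¬ IsMulCommutative ↥E →
      Cfsg.IsExtraspecial p ↥E ∧ Nat.card E = p ^ 3 ∧ ∀ x ∈ E, x ^ p = 1 := by
    intro E hE hc hnc
    rcases S5186.result p hS F hF E hE hc with h | ⟨-, hx, hpw⟩ | ⟨h, -⟩
    · exact absurd h.1 hnc
    · exact ⟨hx, hc, hpw⟩
    · exact absurd h hp2
  have small : ∀ E : Subgroup Ω, F.IsEssential p E → IsMulCommutative ↥E → (frattini ↥E).index ≤ p ^ 2 →
      Cfsg.IsElementaryAbelian p E ∧ Nat.card E = p ^ 2 := by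
    intro E hE hab hidx
    rcases S5187.result p hS F hF E hE hab hidx with h | ⟨h, -⟩
    · exact h
    · omega
  by_cases h : ∃ E : Subgroup Ω, F.IsEssential p E ∧ ¬ S ≤ Subgroup.normalizer (E : Set Ω)
  · obtain ⟨E, hE, hnn⟩ := h
    rcases Fusion.RankThree.Pearl.pearl_shape hp hS hsr.1 hF hE hnn with ⟨hab, hidx⟩ | hc
    · exact ⟨E, hE, Or.inl (small E hE hab hidx)⟩
    · by_cases hab : IsMulCommutative ↥E
      · refine ⟨E, hE, Or.inl (small E hE hab ?_)⟩
        by_contra hgt
        have hEp : IsPGroup p ↥E := IsPGroup.of_card hc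
        haveI : Finite ↥E := Nat.finite_of_card_ne_zero (by rw [hc]; exact pow_ne_zero _ (Fact.out : p.Prime).ne_zero)
        obtain ⟨k, hk⟩ := hEp.index (frattini ↥E)
        have hdvd : (frattini ↥E).index ∣ p ^ 3 := hc ▸ Subgroup.index_dvd_card _
        obtain ⟨i, hi, hie⟩ := (Nat.dvd_prime_pow (Fact.out : p.Prime)).1 hdvd
        have hi3 : i = 3 := by
          by_contra h3
          exact hgt (hie ▸ Nat.pow_le_pow_right (Fact.out : p.Prime).pos (by omega))
        exact hnn (S5180.result p hp hS hsr F hF E hE (by rw [hie, hi3]))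
      · exact ⟨E, hE, Or.inr (cube E hE hc hab)⟩
  · simp only [not_exists, not_and, not_not] at h
    obtain ⟨-, -, E, hE, hc, -, u, hu, v, hv, huv⟩ :=
      Fusion.RankThree.Normal.shape_push hodd hS hsr hF hO h
    refine ⟨E.map (Subgroup.subtype S), Fusion.RankThree.Normal.essential_of_push hS hF hE,
      Or.inr (cube _ (Fusion.RankThree.Normal.essential_of_push hS hF hE) ?_ ?_)⟩
    · rw [Subgroup.card_map_of_injective (Subgroup.subtype_injective S), hc]
    · intro hab
      refine huv (Subtype.ext ?_)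
      show (u : Ω) * (v : Ω) = (v : Ω) * (u : Ω)
      exact congrArg Subtype.val (hab.is_comm.comm ⟨(u : Ω), Subgroup.mem_map_of_mem _ hu⟩
        ⟨(v : Ω), Subgroup.mem_map_of_mem _ hv⟩)

end Cfsg.Agent.S5182
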