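import Cfsg.Statements.S5185
import Cfsg.Agent.Lib.Fusion.Alperin
import Cfsg.Agent.Lib.Chevalley.SL2
import Mathlib.GroupTheory.PGroup
import Mathlib.FieldTheory.Finite.Basic

set_option linter.all false

set_option autoImplicit false
universe u
open Cfsg

namespace Cfsg.Agent.S5185

open Matrix Subgroup

section Auto

variable {H : Type*} [Group H] [Finite H] {p : ℕ} [hp : Fact p.Prime]

/-- Coordinates on a group of order `p²` of exponent `p`. -/
theorem coord_bijective (hc : ∀ u v : H, u * v = v * u) (hexp : ∀ u : H, u ^ p = 1)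
    (hcard : Nat.card H = p ^ 2) {x y : H} (hx : x ≠ 1) (hy : y ∉ zpowers x) :
    Function.Bijective (fun v : Fin 2 → ZMod p => x ^ (v 0).val * y ^ (v 1).val) := by
  haveI : Fintype H := Fintype.ofFinite H
  have hox : orderOf x = p := orderOf_eq_prime (hexp x) hx
  refine (Fintype.bijective_iff_injective_and_card _).mpr ⟨fun u v h => ?_, ?_⟩
  · have h1 : u 1 = v 1 := by
      by_contra hne
      apply hy
      set j : ℤ := ((v 1).val : ℤ) - (u 1).val with hj
      have hyj : y ^ j ∈ zpowers x := by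
        rw [hj, _root_.zpow_sub, zpow_natCast, zpow_natCast]
        have e : y ^ (v 1).val * (y ^ (u 1).val)⁻¹ = (x ^ (v 0).val)⁻¹ * x ^ (u 0).val := by
          have h' : x ^ (v 0).val * y ^ (v 1).val = x ^ (u 0).val * y ^ (u 1).val := h.symm
          rw [eq_comm, inv_mul_eq_iff_eq_mul, ← mul_assoc, h', mul_inv_cancel_right]
        rw [e]
        exact mul_mem (inv_mem (npow_mem_zpowers x _)) (npow_mem_zpowers x _)
      have hcop : IsCoprime j (p : ℤ) := by
        rw [isCoprime_comm, (Nat.prime_iff_prime_int.mp hp.out).coprime_iff_not_dvd, ← ZMod.intCast_zmod_eq_zero_iff_dvd]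
        rw [hj, Int.cast_sub, Int.cast_natCast, Int.cast_natCast, ZMod.natCast_zmod_val, ZMod.natCast_zmod_val, sub_eq_zero]
        exact fun e => hne e.symm
      obtain ⟨a, b, hab⟩ := hcop
      have : y = (y ^ j) ^ a := by
        conv_lhs => rw [← zpow_one y, ← hab, _root_.zpow_add, mul_comm a j, _root_.zpow_mul, mul_comm b, _root_.zpow_mul, zpow_natCast,
          hexp, _root_.one_zpow, mul_one]
      rw [this]
      exact zpow_mem hyj a
    have h0 : x ^ (u 0).val = x ^ (v 0).val := by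
      simp only [h1] at h
      exact mul_right_cancel h
    rw [pow_eq_pow_iff_modEq, hox, ← ZMod.natCast_eq_natCast_iff, ZMod.natCast_zmod_val, ZMod.natCast_zmod_val] at h0
    exact funext fun i => by fin_cases i <;> assumption
  · rw [Fintype.card_fun, ZMod.card, Fintype.card_fin, ← hcard, Nat.card_eq_fintype_card]

/-- An automorphism of `p`-power order fixing `x` moves `y` by a power of `x`. -/
theorem moves_by (hc : ∀ u v : H, u * v = v * u) (hexp : ∀ u : H, u ^ p = 1)
    (hcard : Nat.card H = p ^ 2) {x : H} (hx : x ≠ 1) {c : MulAut H} {k : ℕ} (hck : c ^ p ^ k = 1) (hcx : c x = x)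
    (y : H) : ∃ i : ℕ, c y = y * x ^ i := by
  by_cases hy : y ∈ zpowers x
  · obtain ⟨i, rfl⟩ := mem_zpowers_iff.mp hy
    exact ⟨0, by rw [map_zpow, hcx, pow_zero, mul_one]⟩
  obtain ⟨v, hv⟩ := (coord_bijective hc hexp hcard hx hy).2 (c y)
  have hpow : ∀ n : ℕ, ∃ i : ℕ, (c ^ n) y = x ^ i * y ^ ((v 1).val ^ n) := by
    intro n
    induction n with
    | zero => exact ⟨0, by simp⟩
    | succ n ih =>
      obtain ⟨i, hi⟩ := ih
      refine ⟨i + (v 0).val * (v 1).val ^ n, ?_⟩
      rw [pow_succ', MulAut.mul_apply, hi, map_mul, map_pow, map_pow, hcx, ← hv, (show Commute (x ^ (v 0).val) (y ^ (v 1).val) from hc _ _).mul_pow,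
        ← pow_mul, ← pow_mul, ← mul_assoc, ← pow_add, ← pow_succ']
  obtain ⟨i, hi⟩ := hpow (p ^ k)
  rw [hck, MulAut.one_apply] at hi
  have h := (coord_bijective hc hexp hcard hx hy).1 (a₁ := ![(i : ZMod p), ((v 1).val : ZMod p) ^ p ^ k]) (a₂ := ![0, 1]) (by
    have hred : ∀ (u : H) (m : ℕ), u ^ (m : ZMod p).val = u ^ m := fun u m => by
      rw [ZMod.val_natCast]; exact (pow_eq_pow_mod m (hexp u)).symm
    simp only [cons_val_zero, cons_val_one]
    rw [← Nat.cast_pow, hred, hred, ← hi, ZMod.val_zero, ZMod.val_one, pow_zero, one_mul, pow_one])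
  have h1 : (v 1) = 1 := by
    have := congrFun h 1
    simpa [ZMod.pow_card_pow] using this
  refine ⟨(v 0).val, ?_⟩
  simp only at hv
  rw [← hv, h1, ZMod.val_one, pow_one]
  exact hc _ _

theorem exists_sl2 (hc : ∀ u v : H, u * v = v * u) (hexp : ∀ u : H, u ^ p = 1) (hcard : Nat.card H = p ^ 2)
    (A : Subgroup (MulAut H)) {a b : MulAut H} (ha : a ∈ A) (hb : b ∈ A) {i j : ℕ} (hai : a ^ p ^ i = 1)
    (hbj : b ^ p ^ j = 1) (ha1 : a ≠ 1) (hba : b ∉ zpowers a) :
    ∃ K : Subgroup A, Nonempty (K ≃* Matrix.SpecialLinearGroup (Fin 2) (ZMod p)) := by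
  have hfix : ∀ (c : MulAut H) (k : ℕ), c ^ p ^ k = 1 → ∃ x : H, c x = x ∧ 1 ≠ x := by
    intro c k hck
    have hpg : IsPGroup p (zpowers c) := fun z => ⟨k, Subtype.ext (by
      obtain ⟨n, hn⟩ := mem_zpowers_iff.mp z.2
      show (z : MulAut H) ^ p ^ k = 1
      rw [← hn, ← zpow_natCast, ← _root_.zpow_mul, mul_comm, _root_.zpow_mul, zpow_natCast, hck, _root_.one_zpow])⟩
    obtain ⟨x, hx, hx1⟩ := hpg.exists_fixed_point_of_prime_dvd_card_of_fixed_point H
      (by rw [hcard]; exact dvd_pow_self p two_ne_zero) (a := (1 : H)) (fun g => map_one (g : MulAut H))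
    exact ⟨x, hx ⟨c, mem_zpowers c⟩, hx1⟩
  obtain ⟨x, hax, hx1⟩ := hfix a i hai
  obtain ⟨y, hby, hy1⟩ := hfix b j hbj
  have hy : y ∉ zpowers x := by
    intro hy
    have hox : orderOf x = p := orderOf_eq_prime (hexp x) hx1.symm
    have hxy : zpowers y = zpowers x := by
      refine eq_of_le_of_card_ge (zpowers_le.mpr hy) ?_
      rw [Nat.card_zpowers, Nat.card_zpowers, hox, orderOf_eq_prime (hexp y) hy1.symm]
    have hbx : b x = x := by
      obtain ⟨n, hn⟩ := mem_zpowers_iff.mp (hxy ▸ mem_zpowers x)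
      rw [← hn, map_zpow, hby]
    obtain ⟨z, hz⟩ : ∃ z, z ∉ zpowers x := by
      by_contra! hall
      have : Nat.card H ≤ p := by
        rw [← hox, ← Nat.card_zpowers, ← card_top]
        exact (Nat.card_congr (MulEquiv.subgroupCongr ((eq_top_iff' _).mpr hall)).toEquiv).symm.le
      rw [hcard] at this
      exact absurd this (not_le.mpr (by simpa using Nat.pow_lt_pow_right hp.out.one_lt one_lt_two))
    obtain ⟨k, hk⟩ := moves_by hc hexp hcard hx1.symm hai hax z
    obtain ⟨l, hl⟩ := moves_by hc hexp hcard hx1.symm hbj hbx z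
    have hext : ∀ c d : MulAut H, c x = d x → c z = d z → c = d := fun c d h1 h2 => MulEquiv.ext fun w => by
      obtain ⟨v, rfl⟩ := (coord_bijective hc hexp hcard hx1.symm hz).2 w
      simp only [map_mul, map_pow, h1, h2]
    have hk0 : (k : ZMod p) ≠ 0 := fun e => ha1 (hext a 1 hax (by
      rw [hk, pow_eq_pow_mod k (hexp x), ← ZMod.val_natCast, e, ZMod.val_zero, pow_zero, mul_one]; rfl))
    have hm : ∀ m : ℕ, (a ^ m) x = x ∧ (a ^ m) z = z * x ^ (k * m) := by
      intro m
      induction m with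
      | zero => simp
      | succ m ih => rw [pow_succ', MulAut.mul_apply, MulAut.mul_apply, ih.1, ih.2, map_mul, map_pow, hax, hk,
          mul_assoc, ← pow_add, Nat.mul_succ, add_comm k]; exact ⟨rfl, rfl⟩
    refine hba ?_
    rw [hext b (a ^ ((l : ZMod p) / (k : ZMod p)).val) (hbx.trans (hm _).1.symm) (by
      rw [hl, (hm _).2, pow_eq_pow_mod l (hexp x), pow_eq_pow_mod (k * _) (hexp x), ← ZMod.val_natCast, ← ZMod.val_natCast,
        Nat.cast_mul, ZMod.natCast_zmod_val, mul_div_cancel₀ _ hk0])]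
    exact npow_mem_zpowers a _
  obtain ⟨k, hk⟩ := moves_by hc hexp hcard hx1.symm hai hax y
  obtain ⟨l, hl⟩ := moves_by hc hexp hcard hy1.symm hbj hby x
  have hψ := coord_bijective hc hexp hcard hx1.symm hy
  let ψ : Multiplicative (Fin 2 → ZMod p) ≃* H := MulEquiv.mk' (Multiplicative.toAdd.trans (Equiv.ofBijective _ hψ))
    fun u v => by
      have hred : ∀ (w : H) (s t : ZMod p), w ^ (s + t).val = w ^ s.val * w ^ t.val := fun w s t => by
        rw [ZMod.val_add, ← pow_eq_pow_mod _ (hexp w), pow_add]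
      show x ^ (u.toAdd 0 + v.toAdd 0).val * y ^ (u.toAdd 1 + v.toAdd 1).val =
        x ^ (u.toAdd 0).val * y ^ (u.toAdd 1).val * (x ^ (v.toAdd 0).val * y ^ (v.toAdd 1).val)
      rw [hred, hred]
      exact (show Commute (x ^ (v.toAdd 0).val) (y ^ (u.toAdd 1).val) from hc _ _).mul_mul_mul_comm _ _
  let act : Matrix.SpecialLinearGroup (Fin 2) (ZMod p) →* MulAut (Multiplicative (Fin 2 → ZMod p)) :=
    { toFun := fun g =>
        { toFun := fun v => Multiplicative.ofAdd (g.1 *ᵥ v.toAdd)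
          invFun := fun v => Multiplicative.ofAdd ((g⁻¹).1 *ᵥ v.toAdd)
          left_inv := fun v => by
            show Multiplicative.ofAdd ((g⁻¹).1 *ᵥ (g.1 *ᵥ v.toAdd)) = v
            rw [mulVec_mulVec]
            show Multiplicative.ofAdd ((g⁻¹ * g).1 *ᵥ v.toAdd) = v
            rw [inv_mul_cancel]
            exact congrArg Multiplicative.ofAdd (one_mulVec _)
          right_inv := fun v => by
            show Multiplicative.ofAdd (g.1 *ᵥ ((g⁻¹).1 *ᵥ v.toAdd)) = v
            rw [mulVec_mulVec]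
            show Multiplicative.ofAdd ((g * g⁻¹).1 *ᵥ v.toAdd) = v
            rw [mul_inv_cancel]
            exact congrArg Multiplicative.ofAdd (one_mulVec _)
          map_mul' := fun u v => by
            show Multiplicative.ofAdd (g.1 *ᵥ (u.toAdd + v.toAdd)) = _
            rw [mulVec_add]; rfl }
      map_one' := MulEquiv.ext fun v => congrArg Multiplicative.ofAdd (one_mulVec (Multiplicative.toAdd v))
      map_mul' := fun g h => MulEquiv.ext fun v =>
        congrArg Multiplicative.ofAdd (mulVec_mulVec (Multiplicative.toAdd v) g.1 h.1).symm }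
  let Φ : Matrix.SpecialLinearGroup (Fin 2) (ZMod p) →* MulAut H := (MulAut.congr ψ).toMonoidHom.comp act
  have hΦ : ∀ g (v : Fin 2 → ZMod p), Φ g (ψ (Multiplicative.ofAdd v)) = ψ (Multiplicative.ofAdd (g.1 *ᵥ v)) := by
    intro g v
    show ψ (act g (ψ.symm (ψ (Multiplicative.ofAdd v)))) = _
    rw [ψ.symm_apply_apply]; rfl
  have hΦinj : Function.Injective Φ := fun g h e => by
    refine Subtype.ext (ext_iff_mulVec.mpr fun v => ?_)
    have := hΦ g v
    rw [e, hΦ h v] at this
    exact Multiplicative.ofAdd.injective (ψ.injective this).symm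
  have hψ10 : ψ (Multiplicative.ofAdd ![1, 0]) = x := by
    show x ^ ((![1, 0] : Fin 2 → ZMod p) 0).val * y ^ ((![1, 0] : Fin 2 → ZMod p) 1).val = x
    simp [ZMod.val_one]
  have hψ01 : ψ (Multiplicative.ofAdd ![0, 1]) = y := by
    show x ^ ((![0, 1] : Fin 2 → ZMod p) 0).val * y ^ ((![0, 1] : Fin 2 → ZMod p) 1).val = y
    simp [ZMod.val_one]
  have hext : ∀ c d : MulAut H, c x = d x → c y = d y → c = d := fun c d h1 h2 => MulEquiv.ext fun w => by
    obtain ⟨v, rfl⟩ := hψ.2 w
    simp only [map_mul, map_pow, h1, h2]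
  have hred : ∀ (u : H) (m : ℕ), u ^ (m : ZMod p).val = u ^ m := fun u m => by
    rw [ZMod.val_natCast]; exact (pow_eq_pow_mod m (hexp u)).symm
  have hsx : Φ (Chevalley.SL2.sx (k : ZMod p)) = a := by
    refine hext _ _ ?_ ?_
    · rw [← hψ10, hΦ, hψ10, hax]
      show x ^ (((Chevalley.SL2.sx (k : ZMod p)).1 *ᵥ ![1, 0]) 0).val * y ^ (((Chevalley.SL2.sx (k : ZMod p)).1 *ᵥ ![1, 0]) 1).val = x
      simp [Matrix.mulVec, dotProduct, Fin.sum_univ_two, ZMod.val_one]
    · rw [← hψ01, hΦ, hψ01, hk]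
      show x ^ (((Chevalley.SL2.sx (k : ZMod p)).1 *ᵥ ![0, 1]) 0).val * y ^ (((Chevalley.SL2.sx (k : ZMod p)).1 *ᵥ ![0, 1]) 1).val = y * x ^ k
      simp [Matrix.mulVec, dotProduct, Fin.sum_univ_two, ZMod.val_one, hred]
      rw [← pow_eq_pow_mod k (hexp x)]
      exact hc _ _
  have hsy : Φ (Chevalley.SL2.sy (l : ZMod p)) = b := by
    refine hext _ _ ?_ ?_
    · rw [← hψ10, hΦ, hψ10, hl]
      show x ^ (((Chevalley.SL2.sy (l : ZMod p)).1 *ᵥ ![1, 0]) 0).val * y ^ (((Chevalley.SL2.sy (l : ZMod p)).1 *ᵥ ![1, 0]) 1).val = x * y ^ l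
      simp [Matrix.mulVec, dotProduct, Fin.sum_univ_two, ZMod.val_one, hred]
      exact (pow_eq_pow_mod l (hexp y)).symm
    · rw [← hψ01, hΦ, hψ01, hby]
      show x ^ (((Chevalley.SL2.sy (l : ZMod p)).1 *ᵥ ![0, 1]) 0).val * y ^ (((Chevalley.SL2.sy (l : ZMod p)).1 *ᵥ ![0, 1]) 1).val = y
      simp [Matrix.mulVec, dotProduct, Fin.sum_univ_two, ZMod.val_one]
  have hb1 : b ≠ 1 := fun e => hba (e ▸ one_mem _)
  have hk0 : (k : ZMod p) ≠ 0 := fun e => ha1 (by
    rw [← hsx, e, ← map_one Φ]; congr 1; exact Subtype.ext (by simp [Matrix.one_fin_two]))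
  have hl0 : (l : ZMod p) ≠ 0 := fun e => hb1 (by
    rw [← hsy, e, ← map_one Φ]; congr 1; exact Subtype.ext (by simp [Matrix.one_fin_two]))
  have hall : ∀ g, g ∈ A.comap Φ := by
    refine Chevalley.SL2.mem_of_generators (fun t => ?_) (fun t => ?_)
    · have e : Chevalley.SL2.sx t = (Chevalley.SL2.sx (k : ZMod p)) ^ (t / (k : ZMod p)).val := by
        have : ∀ m : ℕ, (Chevalley.SL2.sx (k : ZMod p)) ^ m = Chevalley.SL2.sx ((k : ZMod p) * m) := by
          intro m
          induction m with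
          | zero => exact Subtype.ext (by simp [Matrix.one_fin_two])
          | succ m ih =>
            rw [pow_succ, ih]
            apply Subtype.ext
            show (Chevalley.SL2.sx _).1 * (Chevalley.SL2.sx _).1 = _
            simp [mul_add, add_comm]
        rw [this, ZMod.natCast_zmod_val, mul_div_cancel₀ _ hk0]
      rw [mem_comap, e, map_pow, hsx]
      exact pow_mem ha _
    · have e : Chevalley.SL2.sy t = (Chevalley.SL2.sy (l : ZMod p)) ^ (t / (l : ZMod p)).val := by
        have : ∀ m : ℕ, (Chevalley.SL2.sy (l : ZMod p)) ^ m = Chevalley.SL2.sy ((l : ZMod p) * m) := by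
          intro m
          induction m with
          | zero => exact Subtype.ext (by simp [Matrix.one_fin_two])
          | succ m ih =>
            rw [pow_succ, ih]
            apply Subtype.ext
            show (Chevalley.SL2.sy _).1 * (Chevalley.SL2.sy _).1 = _
            simp [mul_add]
        rw [this, ZMod.natCast_zmod_val, mul_div_cancel₀ _ hl0]
      rw [mem_comap, e, map_pow, hsy]
      exact pow_mem hb _
  exact ⟨Φ.range.subgroupOf A, ⟨(subgroupOfEquivOfLe (by rintro _ ⟨g, rfl⟩; exact hall g)).trans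
    (MonoidHom.ofInjective hΦinj).symm⟩⟩

end Auto


/-- Let F be a saturated fusion system over a finite p-group S and H an essential subgroup of order p². Then H is elementary abelian (isomorphic to C_p × C_p) and its F-automorphism group contains a subgroup isomorphic to SL(2,p). -/
theorem result {Ω : Type u} [Group Ω] {S : Subgroup Ω} [Finite S] (p : ℕ) [Fact p.Prime] (hS : IsPGroup p S)
    (F : Cfsg.FusionSystem S) (hF : F.IsSaturated p) (H : Subgroup Ω) (hH : F.IsEssential p H) (hcard : Nat.card H = p ^ 2) :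
    Cfsg.IsElementaryAbelian p H ∧
      ∃ K : Subgroup ↥(F.autGroup H), Nonempty (↥K ≃* Matrix.SpecialLinearGroup (Fin 2) (ZMod p)) := by
  classical
  have hHS : H ≤ S := hH.1.1
  haveI : Finite H := Fusion.Saturation.finite_of_le hHS
  have hc : ∀ u v : H, u * v = v * u := by
    have := IsPGroup.commutative_of_card_eq_prime_sq hcard
    exact this
  have hInn : Cfsg.Inn H = ⊥ := by
    rw [Subgroup.eq_bot_iff_forall]
    rintro α ⟨g, rfl⟩
    exact MulEquiv.ext fun w => by
      show g * w * g⁻¹ = w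
      rw [hc g w, mul_inv_cancel_right]
  have hcore : Cfsg.pCore p (F.autGroup H) = ⊥ := by
    have h := (Fusion.Alperin.essential_radical hH hS).2
    rwa [hInn, Subgroup.map_eq_bot_iff_of_injective _ (F.autGroup H).subtype_injective] at h
  obtain ⟨-, -, hnorm, Y, hY⟩ := hH
  have hdvd : p ∣ Nat.card (F.autGroup H) :=
    hY.1.trans (Subgroup.card_quotient_dvd_card _)
  obtain ⟨a, ha⟩ := exists_prime_orderOf_dvd_card' (G := F.autGroup H) p hdvd
  have ha1 : a ≠ 1 := fun e => by rw [e, orderOf_one] at ha; exact (Fact.out : p.Prime).one_lt.ne ha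
  obtain ⟨b, ⟨j, hbj⟩, hba⟩ : ∃ b : F.autGroup H, (∃ j : ℕ, b ^ p ^ j = 1) ∧ b ∉ Subgroup.zpowers a := by
    by_contra! hall
    have hn : (Subgroup.zpowers a).Normal := ⟨fun z hz g => by
      obtain ⟨m, rfl⟩ := Subgroup.mem_zpowers_iff.mp hz
      rw [← conj_zpow]
      exact zpow_mem (hall _ ⟨1, by rw [pow_one, conj_pow, ← ha, pow_orderOf_eq_one, mul_one, mul_inv_cancel]⟩) m⟩
    have hpg : IsPGroup p (Subgroup.zpowers a) := IsPGroup.of_card (n := 1) (by rw [Nat.card_zpowers, ha, pow_one])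
    have hle : Subgroup.zpowers a ≤ Cfsg.pCore p (F.autGroup H) := le_sSup ⟨hn, hpg⟩
    rw [hcore, le_bot_iff, Subgroup.zpowers_eq_bot] at hle
    exact ha1 hle
  have hexp : ∀ u : H, u ^ p = 1 := by
    by_contra! hne
    obtain ⟨u, hu⟩ := hne
    obtain ⟨m, hm, hmu⟩ := (Nat.dvd_prime_pow (Fact.out : p.Prime)).mp (hcard ▸ orderOf_dvd_natCard u)
    have hm2 : m = 2 := by
      interval_cases m
      · rw [pow_zero, orderOf_eq_one_iff] at hmu; exact absurd (by rw [hmu, one_pow]) hu
      · rw [pow_one] at hmu; exact absurd (by rw [← hmu, pow_orderOf_eq_one]) hu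
      · rfl
    subst hm2
    have hgen : ∀ w : H, w ∈ Subgroup.zpowers u := fun w => by
      have htop : Subgroup.zpowers u = ⊤ := (Subgroup.card_eq_iff_eq_top _).mp (by rw [Nat.card_zpowers, hmu, hcard])
      rw [htop]
      exact Subgroup.mem_top w
    have hcomm : ∀ c d : MulAut H, c * d = d * c := fun c d => MulEquiv.ext fun w => by
      obtain ⟨s, hs⟩ := Subgroup.mem_zpowers_iff.mp (hgen (c u))
      obtain ⟨t, ht⟩ := Subgroup.mem_zpowers_iff.mp (hgen (d u))
      obtain ⟨n, rfl⟩ := Subgroup.mem_zpowers_iff.mp (hgen w)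
      rw [MulAut.mul_apply, MulAut.mul_apply, map_zpow, map_zpow, map_zpow, map_zpow]
      congr 1
      rw [← ht, map_zpow, ← hs, map_zpow, ← ht, ← _root_.zpow_mul, ← _root_.zpow_mul, mul_comm]
    have hnb : (Subgroup.zpowers b).Normal := ⟨fun z hz g => by
      rwa [show g * z * g⁻¹ = z by rw [show g * z = z * g from Subtype.ext (hcomm _ _), mul_inv_cancel_right]]⟩
    have hpb : IsPGroup p (Subgroup.zpowers b) := by
      obtain ⟨i, -, hi⟩ := (Nat.dvd_prime_pow (Fact.out : p.Prime)).mp (orderOf_dvd_of_pow_eq_one hbj)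
      exact IsPGroup.of_card (n := i) (by rw [Nat.card_zpowers, hi])
    have hle : Subgroup.zpowers b ≤ Cfsg.pCore p (F.autGroup H) := le_sSup ⟨hnb, hpb⟩
    rw [hcore, le_bot_iff, Subgroup.zpowers_eq_bot] at hle
    exact hba (hle ▸ one_mem _)
  refine ⟨⟨⟨⟨hc⟩⟩, fun u hu => congrArg Subtype.val (hexp ⟨u, hu⟩)⟩, ?_⟩
  refine exists_sl2 hc hexp hcard (F.autGroup H) a.2 b.2 (i := 1) (j := j) ?_ ?_
    (fun e => ha1 (Subtype.ext e)) ?_
  · rw [pow_one, ← SubgroupClass.coe_pow, ← ha, pow_orderOf_eq_one]; rfl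
  · rw [← SubgroupClass.coe_pow, hbj]; rfl
  · intro h
    obtain ⟨n, hn⟩ := Subgroup.mem_zpowers_iff.mp h
    exact hba (Subgroup.mem_zpowers_iff.mpr ⟨n, Subtype.ext (by simpa using hn)⟩)

end Cfsg.Agent.S5185
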