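import Cfsg.Statements.S5188
import Cfsg.Agent.S5187
import Cfsg.Agent.Lib.Fusion.EssentialShape
import Cfsg.Agent.Lib.CharP.Basic
import Cfsg.Agent.Lib.Transfer.Special
import Cfsg.Agent.Lib.PGroups.UniqueSubgroup
import Cfsg.Agent.Lib.PLocal.CyclicExtension
import Cfsg.Agent.Lib.Coprime.PGroup
-- import your own Cfsg.Agent.* helpers here

set_option autoImplicit false
universe u
open Cfsg

set_option linter.all false

namespace Cfsg.Agent.S5188

open Fusion.EssentialShape Subgroup
open scoped commutatorElement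

section Grp

variable {H : Type*} [Group H] [Finite H] {p : ℕ} [hp : Fact p.Prime]

/-- Invariance under all automorphisms. -/
def Inv (C : Subgroup H) : Prop := ∀ a : MulAut H, ∀ x ∈ C, a x ∈ C

/-- There is no invariant series with factors of order `p`. -/
def NoSer (H : Type*) [Group H] (p : ℕ) : Prop :=
  ∀ C1 C2 C3 : Subgroup H, Inv C1 → Inv C2 → Inv C3 → C1 ≤ C2 → C2 ≤ C3 →
    Nat.card C1 = p → Nat.card C2 = p ^ 2 → Nat.card C3 = p ^ 3 → False

omit [Finite H] in
theorem inv_center : Inv (center H) := by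
  intro a x hx
  rw [mem_center_iff] at hx ⊢
  intro g
  obtain ⟨g, rfl⟩ := a.surjective g
  rw [← map_mul, hx, map_mul]

omit [Finite H] in
theorem inv_map {C : Subgroup H} (h : ∀ a : MulAut H, C.map a.toMonoidHom ≤ C) : Inv C :=
  fun a x hx => h a ⟨x, hx, rfl⟩

omit [Finite H] in
theorem inv_comm {A B : Subgroup H} (hA : Inv A) (hB : Inv B) : Inv ⁅A, B⁆ := inv_map fun a => by
  rw [map_commutator]
  exact commutator_mono (map_le_iff_le_comap.mpr fun x hx => hA a x hx) (map_le_iff_le_comap.mpr fun x hx => hB a x hx)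

omit [Finite H] in
theorem inv_commutator : Inv (commutator H) := by
  rw [_root_.commutator_def]
  exact inv_comm (fun _ _ _ => mem_top _) (fun _ _ _ => mem_top _)

omit [Finite H] in
theorem inv_centralizer {C : Subgroup H} (hC : Inv C) : Inv (centralizer (C : Set H)) := by
  intro a x hx
  rw [mem_centralizer_iff] at hx ⊢
  intro g hg
  obtain ⟨g, rfl⟩ := a.surjective g
  have h2 := hC a⁻¹ _ hg
  rw [MulAut.inv_apply_self] at h2
  rw [← map_mul, hx g h2, map_mul]

theorem card_sub (hc : Nat.card H = p ^ 4) (K : Subgroup H) : ∃ i ≤ 4, Nat.card K = p ^ i :=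
  (Nat.dvd_prime_pow hp.out).mp (hc ▸ card_subgroup_dvd_card K)

omit [Finite H] hp in
theorem index_of_card [Fact p.Prime] (hc : Nat.card H = p ^ 4) {K : Subgroup H} {i j : ℕ} (hij : i + j = 4)
    (hK : Nat.card K = p ^ i) : K.index = p ^ j := by
  have h := K.card_mul_index
  rw [hK, hc, ← hij, pow_add] at h
  exact mul_left_cancel₀ (pow_ne_zero i (Fact.out : p.Prime).ne_zero) h

omit [Finite H] hp in
theorem card_of_index [Fact p.Prime] (hc : Nat.card H = p ^ 4) {K : Subgroup H} {i j : ℕ} (hij : i + j = 4)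
    (hK : K.index = p ^ j) : Nat.card K = p ^ i := by
  have h := K.card_mul_index
  rw [hK, hc, ← hij, pow_add] at h
  exact mul_right_cancel₀ (pow_ne_zero j (Fact.out : p.Prime).ne_zero) h

omit [Finite H] hp in
theorem normal_of_commutator_le {K : Subgroup H} (h : commutator H ≤ K) : K.Normal :=
  ⟨fun k hk g => by
    have h1 : ⁅g, k⁆ ∈ K := h (commutator_mem_commutator (mem_top g) (mem_top k))
    rw [show g * k * g⁻¹ = ⁅g, k⁆ * k by rw [commutatorElement_def]; group]
    exact mul_mem h1 hk⟩

omit hp in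
theorem normal_of_le_center {K : Subgroup H} (h : K ≤ center H) : K.Normal :=
  ⟨fun k hk g => by rwa [mem_center_iff.mp (h hk) g, mul_inv_cancel_right]⟩

theorem sup_eq_top_of_index {A : Subgroup H} (hA : A.index = p) {t : H} (ht : t ∉ A) : A ⊔ zpowers t = ⊤ := by
  have h := relIndex_mul_index (le_sup_left : A ≤ A ⊔ zpowers t)
  rw [hA] at h
  rcases (Nat.dvd_prime hp.out).mp (Dvd.intro _ h) with e | e
  · exact absurd (relIndex_eq_one.mp e (mem_sup_right (mem_zpowers t))) ht
  · rw [e] at h
    exact index_eq_one.mp ((mul_eq_left₀ hp.out.ne_zero).mp h)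

/-- In class two, an abelian subgroup of index `p` gives the order of the derived subgroup. -/
theorem card_derived (hc : Nat.card H = p ^ 4) (hDZ : commutator H ≤ center H) {A : Subgroup H}
    (hA : A.index = p) (hab : ∀ a ∈ A, ∀ b ∈ A, a * b = b * a) (hZA : center H ≤ A) :
    Nat.card (commutator H) * Nat.card (center H) = p ^ 3 := by
  have hA3 : Nat.card A = p ^ 3 := card_of_index hc (j := 1) rfl (by rw [pow_one]; exact hA)
  obtain ⟨t, ht⟩ : ∃ t, t ∉ A := by
    by_contra! h
    rw [(eq_top_iff' A).mpr h, index_top] at hA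
    exact hp.out.ne_one hA.symm
  have hcz : ∀ u v : H, ⁅u, v⁆ ∈ center H := fun u v => hDZ (commutator_mem_commutator (mem_top u) (mem_top v))
  let f : A →* H := MonoidHom.mk' (fun a => ⁅t, (a : H)⁆) fun a b => by
    show ⁅t, (a : H) * b⁆ = ⁅t, (a : H)⁆ * ⁅t, (b : H)⁆
    have e : ⁅t, (a : H) * b⁆ = ⁅t, (a : H)⁆ * ((a : H) * ⁅t, (b : H)⁆ * (a : H)⁻¹) := by
      simp only [commutatorElement_def]; group
    rw [e, mem_center_iff.mp (hcz t b) (a : H), mul_inv_cancel_right]
  have hRZ : f.range ≤ center H := by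
    rintro _ ⟨a, rfl⟩
    exact hcz _ _
  have hRD : f.range ≤ commutator H := by
    rintro _ ⟨a, rfl⟩
    exact commutator_mem_commutator (mem_top _) (mem_top _)
  haveI : f.range.Normal := normal_of_le_center hRZ
  have hDR : commutator H ≤ f.range := by
    have hta : ∀ a ∈ A, QuotientGroup.mk' f.range t * QuotientGroup.mk' f.range a =
        QuotientGroup.mk' f.range a * QuotientGroup.mk' f.range t := fun a ha => by
      rw [← commutatorElement_eq_one_iff_mul_comm, ← map_commutatorElement]
      exact (QuotientGroup.eq_one_iff _).mpr ⟨⟨a, ha⟩, rfl⟩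
    set U := (center (H ⧸ f.range)).comap (QuotientGroup.mk' f.range) with hU
    have hgen : ∀ u : H, (∀ v ∈ A, QuotientGroup.mk' f.range u * QuotientGroup.mk' f.range v =
        QuotientGroup.mk' f.range v * QuotientGroup.mk' f.range u) →
        (QuotientGroup.mk' f.range u * QuotientGroup.mk' f.range t =
        QuotientGroup.mk' f.range t * QuotientGroup.mk' f.range u) → u ∈ U := by
      intro u h1 h2
      have htop : (centralizer ({QuotientGroup.mk' f.range u} : Set (H ⧸ f.range))).comap (QuotientGroup.mk' f.range) = ⊤ := by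
        rw [eq_top_iff, ← sup_eq_top_of_index hA ht]
        exact sup_le (fun v hv => mem_centralizer_singleton_iff.mpr (h1 v hv).symm)
          (zpowers_le.mpr (mem_centralizer_singleton_iff.mpr h2.symm))
      rw [hU, mem_comap, mem_center_iff]
      intro q
      obtain ⟨v, rfl⟩ := QuotientGroup.mk'_surjective f.range q
      have : v ∈ (centralizer ({QuotientGroup.mk' f.range u} : Set (H ⧸ f.range))).comap (QuotientGroup.mk' f.range) :=
        htop ▸ mem_top v
      exact mem_centralizer_singleton_iff.mp this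
    have hUtop : U = ⊤ := by
      rw [eq_top_iff, ← sup_eq_top_of_index hA ht]
      exact sup_le (fun a ha => hgen a (fun v hv => by rw [← map_mul, hab a ha v hv, map_mul]) (hta a ha).symm)
        (zpowers_le.mpr (hgen t hta rfl))
    refine (_root_.commutator_def H).le.trans (commutator_le.mpr fun u _ v _ => ?_)
    rw [← QuotientGroup.eq_one_iff (N := f.range)]
    show QuotientGroup.mk' f.range ⁅u, v⁆ = 1
    rw [map_commutatorElement, commutatorElement_eq_one_iff_mul_comm]
    have hv : v ∈ U := hUtop ▸ mem_top v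
    exact mem_center_iff.mp hv _
  have hker : f.ker = (center H).subgroupOf A := by
    ext ⟨a, ha⟩
    rw [MonoidHom.mem_ker, mem_subgroupOf]
    show ⁅t, a⁆ = 1 ↔ a ∈ center H
    rw [commutatorElement_eq_one_iff_mul_comm]
    refine ⟨fun h => ?_, fun h => mem_center_iff.mp h t⟩
    rw [mem_center_iff]
    have htop : centralizer ({a} : Set H) = ⊤ := by
      rw [eq_top_iff, ← sup_eq_top_of_index hA ht]
      exact sup_le (fun v hv => mem_centralizer_singleton_iff.mpr (hab v hv a ha))
        (zpowers_le.mpr (mem_centralizer_singleton_iff.mpr h))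
    exact fun g => mem_centralizer_singleton_iff.mp (htop ▸ mem_top g)
  have h := f.ker.card_mul_index
  rw [index_ker, le_antisymm hRD hDR, hker, Nat.card_congr (subgroupOfEquivOfLe hZA).toEquiv, hA3] at h
  rw [mul_comm]; exact h

/-- The shape of a non-abelian group of order `p⁴` without such a series. -/
theorem structure_thm (hpH : IsPGroup p H) (hc : Nat.card H = p ^ 4) (hnab : ¬ ∀ a b : H, a * b = b * a)
    (hser : NoSer H p) :
    Nat.card (center H) = p ^ 2 ∧ Nat.card (commutator H) = p ∧ commutator H ≤ center H ∧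
      ∀ x : H, x ^ p ∈ commutator H := by
  haveI := hpH.isNilpotent
  set Z := center H with hZdef
  set D := commutator H with hDdef
  have hp1 := hp.out.one_lt
  have h1p : (1 : ℕ) < p := hp1
  have hD1 : D ≠ ⊥ := fun h => hnab (by
    rw [hDdef, _root_.commutator_eq_bot_iff] at h
    exact fun a b => h.is_comm.comm a b)
  have hDfr : D ≤ frattini H := Coprime.commutator_le_frattini H
  have hDidx : ∀ t : H, D ⊔ zpowers t ≠ ⊤ := by
    intro t h
    have ht : zpowers t = ⊤ := frattini_nongenerating (by
      rw [eq_top_iff, ← h]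
      exact sup_le (hDfr.trans le_sup_right) le_sup_left)
    apply hnab
    intro a b
    obtain ⟨i, rfl⟩ := mem_zpowers_iff.mp (show a ∈ zpowers t by rw [ht]; exact mem_top a)
    obtain ⟨j, rfl⟩ := mem_zpowers_iff.mp (show b ∈ zpowers t by rw [ht]; exact mem_top b)
    rw [← zpow_add, add_comm, zpow_add]
  obtain ⟨d, hd4, hdc⟩ := card_sub hc D
  have hd0 : d ≠ 0 := fun h => hD1 (card_eq_one.mp (by rw [hdc, h, pow_zero]))
  have hd2 : d ≤ 2 := by
    by_contra hd
    rcases (show d = 3 ∨ d = 4 by omega) with rfl | rfl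
    · have hi := index_of_card hc (j := 1) rfl hdc
      rw [pow_one] at hi
      obtain ⟨t, ht⟩ : ∃ t, t ∉ D := by
        by_contra! h
        rw [(eq_top_iff' D).mpr h, index_top] at hi
        exact hp1.ne hi
      exact hDidx t (sup_eq_top_of_index hi ht)
    · exact hDidx 1 (by rw [(card_eq_iff_eq_top D).mp (by rw [hdc, hc]), top_sup_eq])
  have hZ1 : Z ≠ ⊥ := by
    intro h
    haveI : Nontrivial H := Finite.one_lt_card_iff_nontrivial.mp (by rw [hc]; exact Nat.one_lt_pow (by norm_num) hp1)
    haveI := hpH.center_nontrivial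
    exact (nontrivial_iff_ne_bot _).mp this h
  obtain ⟨e, he4, hec⟩ := card_sub hc Z
  have he0 : e ≠ 0 := fun h => hZ1 (card_eq_one.mp (by rw [hec, h, pow_zero]))
  have he2 : e ≤ 2 := by
    by_contra he
    apply hnab
    haveI : IsCyclic (H ⧸ Z) := by
      rcases (show e = 3 ∨ e = 4 by omega) with rfl | rfl
      · exact isCyclic_of_prime_card (p := p) (by rw [← index_eq_card, index_of_card hc (j := 1) rfl hec, pow_one])
      · haveI : Subsingleton (H ⧸ Z) := (Finite.card_le_one_iff_subsingleton).mp
          (by rw [← index_eq_card, index_of_card hc (j := 0) rfl hec, pow_zero])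
        infer_instance
    exact fun a b => (isMulCommutative_of_isCyclic_quotient_center_self H).is_comm.comm a b
  have hDZ : D ≤ Z := by
    by_contra hDZ
    have hd : d = 2 := by
      by_contra hne
      exact hDZ (PLocal.CyclicExtension.le_center_of_card_eq hpH (by rw [hdc, show d = 1 by omega, pow_one]))
    subst hd
    set E := ⁅D, (⊤ : Subgroup H)⁆ with hEdef
    have hE0 : E ≠ ⊥ := fun h => hDZ (by
      intro x hx
      rw [mem_center_iff]
      intro g
      have h1 : ⁅x, g⁆ ∈ E := commutator_mem_commutator hx (mem_top g)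
      rw [h, mem_bot, commutatorElement_eq_one_iff_mul_comm] at h1
      exact h1.symm)
    have hED : E ≤ D := commutator_le_left D ⊤
    haveI : E.Normal := commutator_normal D ⊤
    have hEcard : Nat.card E = p := by
      obtain ⟨i, -, hi⟩ := card_sub hc E
      have hile : i ≤ 2 := (Nat.pow_dvd_pow_iff_le_right hp1).mp (hi ▸ hdc ▸ card_dvd_of_le hED)
      rcases (show i = 0 ∨ i = 1 ∨ i = 2 by omega) with rfl | rfl | rfl
      · exact absurd (card_eq_one.mp (by rw [hi, pow_zero])) hE0
      · rw [hi, pow_one]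
      · exfalso
        have hEq : E = D := eq_of_le_of_card_ge hED (by rw [hi, hdc])
        have hall : ∀ n, D ≤ (⊤ : Subgroup H).lowerCentralSeries n := by
          intro n
          induction n with
          | zero => simp
          | succ n ih =>
            rw [← hEq, Subgroup.lowerCentralSeries_succ, hEdef]
            exact commutator_mono ih le_rfl
        obtain ⟨n, hn⟩ := Subgroup.nilpotent_iff_lowerCentralSeries.mp (inferInstance : Group.IsNilpotent H)
        exact hD1 (le_bot_iff.mp (hn ▸ hall n))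
    have hEZ : E ≤ Z := PLocal.CyclicExtension.le_center_of_card_eq hpH hEcard
    obtain ⟨d0, hd0D, hd0Z⟩ := SetLike.not_le_iff_exists.mp hDZ
    let f : H →* H := MonoidHom.mk' (fun g => ⁅d0, g⁆) fun a b => by
      show ⁅d0, a * b⁆ = ⁅d0, a⁆ * ⁅d0, b⁆
      have e : ⁅d0, a * b⁆ = ⁅d0, a⁆ * (a * ⁅d0, b⁆ * a⁻¹) := by simp only [commutatorElement_def]; group
      rw [e, mem_center_iff.mp (hEZ (commutator_mem_commutator hd0D (mem_top b))) a, mul_inv_cancel_right]
    have hDdec : D = E ⊔ zpowers d0 := by
      refine (eq_of_le_of_card_ge (sup_le hED (zpowers_le.mpr hd0D)) ?_).symm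
      obtain ⟨i, -, hi⟩ := card_sub hc (E ⊔ zpowers d0)
      rw [hdc, hi]
      refine Nat.pow_le_pow_right hp.out.pos ?_
      by_contra hi2
      have hle : Nat.card ↥(E ⊔ zpowers d0) ≤ Nat.card E := by
        rw [hi, hEcard]
        exact (Nat.pow_le_pow_right hp.out.pos (show i ≤ 1 by omega)).trans (pow_one p).le
      have := eq_of_le_of_card_ge le_sup_left hle
      exact hd0Z (hEZ (this ▸ mem_sup_right (mem_zpowers d0)))
    have hker : f.ker = centralizer (D : Set H) := by
      ext g
      rw [MonoidHom.mem_ker]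
      show ⁅d0, g⁆ = 1 ↔ _
      rw [commutatorElement_eq_one_iff_mul_comm, mem_centralizer_iff]
      refine ⟨fun h => ?_, fun h => h d0 hd0D⟩
      have : D ≤ centralizer ({g} : Set H) := by
        rw [hDdec]
        exact sup_le (hEZ.trans (center_le_centralizer _)) (zpowers_le.mpr (mem_centralizer_singleton_iff.mpr h))
      exact fun x hx => mem_centralizer_singleton_iff.mp (this hx)
    have hidx : f.ker.index = p := by
      have hd : f.ker.index ∣ p := by
        rw [index_ker, ← hEcard]
        exact card_dvd_of_le (fun _ ⟨g, hg⟩ => hg ▸ commutator_mem_commutator hd0D (mem_top g))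
      refine ((Nat.dvd_prime hp.out).mp hd).resolve_left fun h => hd0Z ?_
      rw [mem_center_iff]
      intro g
      have : g ∈ f.ker := (index_eq_one.mp h) ▸ mem_top g
      exact (commutatorElement_eq_one_iff_mul_comm.mp (MonoidHom.mem_ker.mp this)).symm
    refine hser E D f.ker (inv_comm inv_commutator (fun _ _ _ => mem_top _)) inv_commutator
      (hker ▸ inv_centralizer inv_commutator) hED ?_ hEcard hdc
      (card_of_index hc (j := 1) rfl (by rw [pow_one]; exact hidx))
    rw [hker, hDdec]
    intro x hx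
    rw [mem_centralizer_iff]
    intro y hy
    have hab : E ⊔ zpowers d0 ≤ centralizer ({d0} : Set H) :=
      sup_le (hEZ.trans (center_le_centralizer _)) (zpowers_le.mpr (mem_centralizer_singleton_iff.mpr rfl))
    have h2 : E ⊔ zpowers d0 ≤ centralizer ({x} : Set H) :=
      sup_le (hEZ.trans (center_le_centralizer _))
        (zpowers_le.mpr (mem_centralizer_singleton_iff.mpr (mem_centralizer_singleton_iff.mp (hab hx)).symm))
    exact mem_centralizer_singleton_iff.mp (h2 hy)
  have he : e = 2 := by
    by_contra hne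
    have he1 : e = 1 := by omega
    subst he1
    have hDeq : D = Z := eq_of_le_of_card_ge hDZ (by
      rw [hec, hdc]; exact Nat.pow_le_pow_right hp.out.pos (by omega))
    obtain ⟨x, hx⟩ : ∃ x, x ∉ Z := by
      by_contra! h
      exact hnab fun a b => mem_center_iff.mp (h b) a
    let f : H →* H := MonoidHom.mk' (fun g => ⁅x, g⁆) fun a b => by
      show ⁅x, a * b⁆ = ⁅x, a⁆ * ⁅x, b⁆
      have e : ⁅x, a * b⁆ = ⁅x, a⁆ * (a * ⁅x, b⁆ * a⁻¹) := by simp only [commutatorElement_def]; group
      rw [e, mem_center_iff.mp (hDZ (commutator_mem_commutator (mem_top x) (mem_top b))) a, mul_inv_cancel_right]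
    have hmem : ∀ g, g ∈ f.ker ↔ x * g = g * x := fun g => by
      rw [MonoidHom.mem_ker]
      exact commutatorElement_eq_one_iff_mul_comm
    have hidx : f.ker.index = p := by
      have hd : f.ker.index ∣ p := by
        rw [index_ker, show p = Nat.card Z by rw [hec, pow_one]]
        exact card_dvd_of_le (fun _ ⟨g, hg⟩ => hg ▸ hDZ (commutator_mem_commutator (mem_top x) (mem_top g)))
      refine ((Nat.dvd_prime hp.out).mp hd).resolve_left fun h => hx ?_
      rw [hZdef, mem_center_iff]
      exact fun g => ((hmem g).mp ((index_eq_one.mp h) ▸ mem_top g)).symm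
    have hA3 := card_of_index hc (j := 1) rfl (show f.ker.index = p ^ 1 by rw [pow_one]; exact hidx)
    have hZA : Z ≤ f.ker := fun z hz => (hmem z).mpr (mem_center_iff.mp hz x)
    have hab : ∀ a ∈ f.ker, ∀ b ∈ f.ker, a * b = b * a := by
      haveI : IsCyclic (f.ker ⧸ center f.ker) := by
        set W := (Z ⊔ zpowers x).subgroupOf f.ker
        have hle : Z ⊔ zpowers x ≤ f.ker := sup_le hZA (zpowers_le.mpr ((hmem x).mpr rfl))
        have hWc : W ≤ center f.ker := by
          intro w hw
          rw [mem_center_iff]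
          intro g
          have h2 : Z ⊔ zpowers x ≤ centralizer ({(g : H)} : Set H) :=
            sup_le (center_le_centralizer _) (zpowers_le.mpr (mem_centralizer_singleton_iff.mpr ((hmem g).mp g.2)))
          exact Subtype.ext (mem_centralizer_singleton_iff.mp (h2 hw)).symm
        have hWcard : p ^ 2 ≤ Nat.card W := by
          rw [Nat.card_congr (subgroupOfEquivOfLe hle).toEquiv]
          obtain ⟨i, -, hi⟩ := card_sub hc (Z ⊔ zpowers x)
          rw [hi]
          refine Nat.pow_le_pow_right hp.out.pos ?_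
          by_contra hi2
          have := eq_of_le_of_card_ge (le_sup_left : Z ≤ Z ⊔ zpowers x) (by
            rw [hi, hec]; exact Nat.pow_le_pow_right hp.out.pos (by omega))
          exact hx (this ▸ mem_sup_right (mem_zpowers x))
        have hle2 : (center f.ker).index ≤ p := by
          have h := (center f.ker).card_mul_index
          rw [hA3] at h
          have h2 := (card_le_of_le hWc).trans' hWcard
          refine Nat.le_of_mul_le_mul_left ?_ (pow_pos hp.out.pos 2)
          rw [← pow_succ, ← h]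
          exact Nat.mul_le_mul_right _ h2
        obtain ⟨k, hk⟩ := (hpH.to_subgroup f.ker).index (center f.ker)
        rcases Nat.lt_or_ge 1 k with h | h
        · exfalso
          have := Nat.pow_le_pow_right hp.out.pos h
          rw [← hk] at this
          have h3 : p ^ 1 < p ^ 2 := Nat.pow_lt_pow_right hp1 (by norm_num)
          rw [pow_one] at h3
          exact absurd (this.trans hle2) (not_le.mpr h3)
        · rcases Nat.le_one_iff_eq_zero_or_eq_one.mp h with rfl | rfl
          · haveI : Subsingleton (f.ker ⧸ center f.ker) := (Finite.card_le_one_iff_subsingleton).mp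
              (by rw [← index_eq_card, hk, pow_zero])
            infer_instance
          · exact isCyclic_of_prime_card (p := p) (by rw [← index_eq_card, hk, pow_one])
      exact fun a ha b hb => congrArg Subtype.val
        ((isMulCommutative_of_isCyclic_quotient_center_self f.ker).is_comm.comm ⟨a, ha⟩ ⟨b, hb⟩)
    have h := card_derived hc hDZ hidx hab hZA
    rw [← hDdef, hDeq, ← hZdef, hec, pow_one, ← sq] at h
    exact absurd (Nat.pow_right_injective hp.out.two_le h) (by norm_num)
  subst he
  obtain ⟨x, hx⟩ : ∃ x, x ∉ Z := by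
    by_contra! h
    exact hnab fun a b => mem_center_iff.mp (h b) a
  set A := Z ⊔ zpowers x with hA
  have hAab : ∀ a ∈ A, ∀ b ∈ A, a * b = b * a := by
    intro a ha b hb
    have h1 : A ≤ centralizer ({x} : Set H) :=
      sup_le (center_le_centralizer _) (zpowers_le.mpr (mem_centralizer_singleton_iff.mpr rfl))
    have h2 : A ≤ centralizer ({b} : Set H) :=
      sup_le (center_le_centralizer _) (zpowers_le.mpr (mem_centralizer_singleton_iff.mpr
        (mem_centralizer_singleton_iff.mp (h1 hb)).symm))
    exact mem_centralizer_singleton_iff.mp (h2 ha)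
  have hA3 : Nat.card A = p ^ 3 := by
    obtain ⟨i, hi4, hi⟩ := card_sub hc A
    rw [hi]
    congr 1
    by_contra hne
    rcases (show i ≤ 2 ∨ i = 4 by omega) with h | rfl
    · have := eq_of_le_of_card_ge (le_sup_left : Z ≤ A) (by
        rw [hi, hec]; exact Nat.pow_le_pow_right hp.out.pos h)
      exact hx (this ▸ mem_sup_right (mem_zpowers x))
    · have htop := (card_eq_iff_eq_top A).mp (by rw [hi, hc])
      exact hnab fun a b => hAab a (htop ▸ mem_top a) b (htop ▸ mem_top b)
  have hD : Nat.card D = p := by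
    have h := card_derived hc hDZ (A := A) (by rw [index_of_card hc (j := 1) rfl hA3, pow_one]) hAab le_sup_left
    rw [← hZdef, hec, ← hDdef, show (p : ℕ) ^ 3 = p * p ^ 2 by ring] at h
    exact mul_right_cancel₀ (pow_ne_zero 2 hp.out.ne_zero) h
  refine ⟨hec, hD, hDZ, ?_⟩
  haveI : D.Normal := commutator_normal ⊤ ⊤
  have hcomm : ∀ a b : H ⧸ D, Commute a b := by
    intro a b
    obtain ⟨u, rfl⟩ := QuotientGroup.mk'_surjective D a
    obtain ⟨v, rfl⟩ := QuotientGroup.mk'_surjective D b
    rw [← commutatorElement_eq_one_iff_commute, ← map_commutatorElement]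
    exact (QuotientGroup.eq_one_iff _).mpr (commutator_mem_commutator (mem_top u) (mem_top v))
  let g : H →* H ⧸ D := MonoidHom.mk' (fun u => QuotientGroup.mk' D u ^ p) fun u v => by
    rw [map_mul, (hcomm _ _).mul_pow]
  have hgk : ∀ u, u ∈ g.ker ↔ u ^ p ∈ D := fun u => by
    rw [MonoidHom.mem_ker]
    show QuotientGroup.mk' D u ^ p = 1 ↔ _
    rw [← map_pow]
    exact QuotientGroup.eq_one_iff _
  have hDZi : (D.subgroupOf Z).index = p := by
    have h := (D.subgroupOf Z).card_mul_index
    rw [Nat.card_congr (subgroupOfEquivOfLe hDZ).toEquiv, hD, hec, sq] at h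
    exact mul_left_cancel₀ hp.out.ne_zero h
  have hZk : Z ≤ g.ker := fun z hz => (hgk z).mpr (by
    haveI : (D.subgroupOf Z).Normal := inferInstance
    have h := Subgroup.pow_index_mem (D.subgroupOf Z) (⟨z, hz⟩ : Z)
    rw [hDZi, mem_subgroupOf] at h
    exact h)
  by_contra hne
  rw [not_forall] at hne
  obtain ⟨u, hu⟩ := hne
  have hxpZ : ∀ v : H, v ^ p ∈ Z := by
    intro v
    rw [hZdef, mem_center_iff]
    intro w
    have hcz : ⁅w, v⁆ ∈ Z := hDZ (commutator_mem_commutator (mem_top w) (mem_top v))
    have h1 : ∀ n : ℕ, ⁅w, v ^ n⁆ = ⁅w, v⁆ ^ n := by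
      intro n
      induction n with
      | zero => simp
      | succ n ih =>
        have e : ⁅w, v ^ (n + 1)⁆ = ⁅w, v ^ n⁆ * (v ^ n * ⁅w, v⁆ * (v ^ n)⁻¹) := by
          rw [pow_succ]; simp only [commutatorElement_def]; group
        rw [e, mem_center_iff.mp hcz, mul_inv_cancel_right, ih, pow_succ]
    rw [← commutatorElement_eq_one_iff_mul_comm, h1]
    have h2 := pow_card_eq_one' (x := (⟨⁅w, v⁆, commutator_mem_commutator (mem_top w) (mem_top v)⟩ : D))
    rw [hD] at h2
    exact congrArg Subtype.val h2
  have hidx : g.ker.index = p := by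
    have hd : g.ker.index ∣ p := by
      rw [index_ker]
      refine (card_dvd_of_le (show g.range ≤ Z.map (QuotientGroup.mk' D) from fun _ ⟨v, hv⟩ =>
        hv ▸ ⟨v ^ p, hxpZ v, map_pow _ _ _⟩)).trans ?_
      rw [← relIndex_bot_left, ← map_bot (QuotientGroup.mk' D), relIndex_map_map, bot_sup_eq, QuotientGroup.ker_mk',
        sup_eq_left.mpr hDZ]
      exact hDZi.dvd
    refine ((Nat.dvd_prime hp.out).mp hd).resolve_left fun h => hu ?_
    exact (hgk u).mp ((index_eq_one.mp h) ▸ mem_top u)
  exact hser D Z g.ker inv_commutator inv_center (fun a v hv => (hgk _).mpr (by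
    rw [← map_pow]; exact inv_commutator a _ ((hgk v).mp hv))) hDZ hZk hD hec
    (card_of_index hc (j := 1) rfl (by rw [pow_one]; exact hidx))

/-- The non-cyclic centre case: exponent `p` for odd `p`, all outer squares non-trivial for `p = 2`. -/
theorem power_shape (hc : Nat.card H = p ^ 4) (hnab : ¬ ∀ a b : H, a * b = b * a) (hser : NoSer H p)
    (hZ : Nat.card (center H) = p ^ 2) (hD : Nat.card (commutator H) = p) (hDZ : commutator H ≤ center H)
    (hpow : ∀ x : H, x ^ p ∈ commutator H) (hzp : ∀ z ∈ center H, z ^ p = 1) :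
    (p ≠ 2 → ∀ x : H, x ^ p = 1) ∧ (p = 2 → ∀ x : H, x ∉ center H → x ^ p ≠ 1) := by
  constructor
  · intro hp2
    let f : H →* H := MonoidHom.mk' (fun x => x ^ p) fun u v =>
      Transfer.Special.mul_pow_of_class_two hp2 hDZ u v (hDZ (hpow v))
    by_contra hne
    rw [not_forall] at hne
    obtain ⟨u, hu⟩ := hne
    have hidx : f.ker.index = p := by
      have hd : f.ker.index ∣ p := by
        rw [index_ker, ← hD]
        exact card_dvd_of_le (fun _ ⟨y, hy⟩ => hy ▸ hpow y)
      exact ((Nat.dvd_prime hp.out).mp hd).resolve_left fun h => hu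
        (MonoidHom.mem_ker.mp (show u ∈ f.ker from (index_eq_one.mp h) ▸ mem_top u))
    exact hser _ _ f.ker inv_commutator inv_center (fun a v hv => by
      rw [MonoidHom.mem_ker] at hv ⊢
      show (a v) ^ p = 1
      rw [← map_pow, show v ^ p = 1 from hv, map_one]) hDZ (fun z hz => MonoidHom.mem_ker.mpr (hzp z hz)) hD hZ
      (card_of_index hc (j := 1) rfl (by rw [pow_one]; exact hidx))
  · intro h2 s hsZ hs
    subst h2
    obtain ⟨a, ha⟩ : ∃ a : H, a ^ 2 ≠ 1 := by
      by_contra! hall
      apply hnab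
      intro a b
      have h := hall (a * b)
      have hA := hall a; have hB := hall b
      rw [sq] at h hA hB
      calc a * b = a * (a * b * (a * b)) * b := by rw [h, mul_one]
        _ = (a * a) * (b * a) * (b * b) := by group
        _ = b * a := by rw [hA, hB, one_mul, mul_one]
    have hone : ∀ y ∈ commutator H, y = 1 ∨ y = a ^ 2 := by
      intro y hy
      by_contra h
      push Not at h
      have h3 : 2 < Nat.card (commutator H) := by
        haveI := Fintype.ofFinite (commutator H)
        rw [Nat.card_eq_fintype_card, Fintype.two_lt_card_iff]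
        refine ⟨⟨1, one_mem _⟩, ⟨y, hy⟩, ⟨a ^ 2, hpow a⟩, ?_, ?_, ?_⟩ <;> intro e <;>
          have e' := congrArg Subtype.val e
        · exact h.1 e'.symm
        · exact ha e'.symm
        · exact h.2 e'
      omega
    set A := center H ⊔ zpowers a with hA
    have haZ : a ∉ center H := fun h => ha (hzp a h)
    haveI hAn : A.Normal := normal_of_commutator_le (hDZ.trans le_sup_left)
    have hAle : (center H).relIndex A ∣ 2 :=
      Solvable.Basics.relIndex_sup_zpowers_dvd (hDZ (hpow a))
    have hA3 : Nat.card A = 2 ^ 3 := by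
      have h := Solvable.Basics.card_mul_relIndex (le_sup_left : center H ≤ A)
      rw [hZ, ((Nat.dvd_prime Nat.prime_two).mp hAle).resolve_left
        (fun h => haZ (relIndex_eq_one.mp h (mem_sup_right (mem_zpowers a))))] at h
      rw [← h]; norm_num
    have hAidx : A.index = 2 := (index_of_card hc (i := 3) (j := 1) rfl hA3).trans (pow_one 2)
    have hAmem : ∀ w ∈ A, w ∈ center H ∨ a⁻¹ * w ∈ center H := by
      intro w hw
      rw [hA, sup_comm] at hw
      obtain ⟨u, hu, z, hz, rfl⟩ := mem_sup_of_normal_right.mp hw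
      obtain ⟨i, rfl⟩ := mem_zpowers_iff.mp hu
      have ha2 : a ^ (2 : ℤ) ∈ center H := by rw [zpow_ofNat]; exact hDZ (hpow a)
      rcases Int.even_or_odd' i with ⟨j, rfl | rfl⟩
      · left; exact mul_mem (by rw [zpow_mul]; exact zpow_mem ha2 j) hz
      · right
        rw [← mul_assoc, add_comm, zpow_add, zpow_one, inv_mul_cancel_left, zpow_mul]
        exact mul_mem (zpow_mem ha2 j) hz
    have hsq : ∀ u z : H, z ∈ center H → (u * z) ^ 2 = u ^ 2 := fun u z hz => by
      rw [(Commute.mul_pow (mem_center_iff.mp hz u : Commute u z) 2), hzp z hz, mul_one]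
    have hsA : s ∉ A := by
      intro h
      rcases hAmem s h with h' | h'
      · exact hsZ h'
      · apply ha
        rw [← hsq a _ h', mul_inv_cancel_left]
        exact hs
    have hsa : ⁅s, a⁆ ≠ 1 := by
      intro h
      apply hsZ
      rw [mem_center_iff]
      have htop : centralizer ({s} : Set H) = ⊤ := by
        rw [eq_top_iff, ← sup_eq_top_of_index hAidx hsA]
        exact sup_le (sup_le (center_le_centralizer _) (zpowers_le.mpr (mem_centralizer_singleton_iff.mpr
          (commutatorElement_eq_one_iff_mul_comm.mp h).symm))) (zpowers_le.mpr (mem_centralizer_singleton_iff.mpr rfl))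
      exact fun g => mem_centralizer_singleton_iff.mp (htop ▸ mem_top g)
    set C := closure {x : H | x ^ 2 ≠ 1} with hC
    have haC : a ∈ C := subset_closure ha
    have hZC : center H ≤ C := by
      intro z hz
      have h1 : a * z ∈ C := subset_closure (show (a * z) ^ 2 ≠ 1 by rw [hsq a z hz]; exact ha)
      simpa using mul_mem (inv_mem haC) h1
    have hCA : C ≤ A := by
      refine (closure_le _).mpr fun x hx => ?_
      by_contra hxA
      apply hx
      have hw : s * x ∈ A := (mul_mem_iff_of_index_two hAidx).mpr (iff_of_false hsA hxA)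
      have hxeq : x = s * (s * x) := by rw [← mul_assoc, ← sq, hs, one_mul]
      rcases hAmem _ hw with h | h
      · rw [hxeq, hsq s _ h, hs]
      · rw [hxeq, show s * (s * x) = s * a * (a⁻¹ * (s * x)) by group, hsq _ _ h]
        have hd : ⁅s, a⁆ = a ^ 2 := (hone _ (commutator_mem_commutator (mem_top s) (mem_top a))).resolve_left hsa
        have hsas : s * a * s = a ^ 3 := by
          rw [pow_succ, ← hd, commutatorElement_def, inv_eq_of_mul_eq_one_right (show s * s = 1 by rw [← sq]; exact hs)]
          group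
        have ha4 : (a ^ 2) ^ 2 = 1 := hzp _ (hDZ (hpow a))
        rw [sq, show s * a * (s * a) = s * a * s * a by group, hsas, ← pow_succ]
        rw [← pow_mul] at ha4
        exact ha4
    have hCeq : C = A := le_antisymm hCA (sup_le hZC (zpowers_le.mpr haC))
    refine hser _ _ C inv_commutator inv_center ?_ hDZ hZC hD hZ (by rw [hCeq]; exact hA3)
    refine inv_map fun f => ?_
    rw [hC, MonoidHom.map_closure]
    refine closure_mono ?_
    rintro _ ⟨y, hy, rfl⟩
    exact fun h => hy (f.injective (by rw [map_pow, map_one]; exact h))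

/-- A complement of order `p³` to a central subgroup of order `p`. -/
theorem split (hpH : IsPGroup p H) (hc : Nat.card H = p ^ 4) (hnab : ¬ ∀ a b : H, a * b = b * a)
    (hZ : Nat.card (center H) = p ^ 2) (hD : Nat.card (commutator H) = p) (hDZ : commutator H ≤ center H)
    (hpow : ∀ x : H, x ^ p ∈ commutator H) (hzp : ∀ z ∈ center H, z ^ p = 1) :
    ∃ M : Subgroup H, Nat.card M = p ^ 3 ∧ commutator H ≤ M ∧ center H ⊓ M = commutator H ∧
      center M = (commutator H).subgroupOf M ∧ (¬ ∀ a b : M, a * b = b * a) ∧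
      Nonempty (H ≃* M × Multiplicative (ZMod p)) := by
  haveI := hpH.isNilpotent
  haveI : (commutator H).Normal := commutator_normal ⊤ ⊤
  have hfr : frattini H ≤ commutator H := by
    intro x hx
    have h := CharP.frattini_le_ker (p := p) (QuotientGroup.mk' (commutator H)) (fun a b => by
      rw [← commutatorElement_eq_one_iff_commute, ← map_commutatorElement]
      exact (QuotientGroup.eq_one_iff _).mpr (commutator_mem_commutator (mem_top a) (mem_top b)))
      (fun a => by rw [← map_pow]; exact (QuotientGroup.eq_one_iff _).mpr (hpow a)) hx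
    rwa [QuotientGroup.ker_mk'] at h
  obtain ⟨c, hcZ, hcD⟩ : ∃ c ∈ center H, c ∉ commutator H := by
    by_contra! h
    have := card_le_of_le h
    rw [hZ, hD] at this
    exact absurd this (not_le.mpr (by simpa using Nat.pow_lt_pow_right hp.out.one_lt (show 1 < 2 by norm_num)))
  obtain ⟨M, hM, hcM⟩ : ∃ M : Subgroup H, IsCoatom M ∧ c ∉ M := by
    by_contra! h
    refine hcD (hfr ?_)
    have : ∀ M : Subgroup H, IsCoatom M → zpowers c ≤ M := fun M hM => zpowers_le.mpr (h M hM)
    exact (le_iInf₂ this : zpowers c ≤ ⨅ M ∈ {M : Subgroup H | IsCoatom M}, M) (mem_zpowers c)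
  haveI : M.Normal := NormalizerCondition.normal_of_coatom M Group.normalizerCondition_of_isNilpotent hM
  have hsup : M ⊔ zpowers c = ⊤ :=
    hM.2 _ (lt_of_le_of_ne le_sup_left fun h => hcM (h ▸ mem_sup_right (mem_zpowers c)))
  have hcp : c ^ p = 1 := hzp c hcZ
  have hMidx : M.index = p := by
    have h := Solvable.Basics.relIndex_sup_zpowers_dvd (H := M) (x := c) (p := p) (by rw [hcp]; exact one_mem _)
    rw [hsup, relIndex_top_right] at h
    exact ((Nat.dvd_prime hp.out).mp h).resolve_left fun e => hM.1 (index_eq_one.mp e)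
  have hM3 := card_of_index hc (j := 1) rfl (show M.index = p ^ 1 by rw [pow_one]; exact hMidx)
  have hDM : commutator H ≤ M := (Coprime.commutator_le_frattini H).trans
    (show frattini H ≤ M from frattini_le_coatom hM)
  have hZM : center H ⊓ M = commutator H := by
    refine (eq_of_le_of_card_ge (le_inf hDZ hDM) ?_).symm
    obtain ⟨i, -, hi⟩ := card_sub hc (center H ⊓ M)
    rw [hD, hi]
    have hlt : p ^ i < p ^ 2 := by
      rw [← hi, ← hZ]
      refine lt_of_le_of_ne (card_le_of_le inf_le_left) fun e => hcM ?_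
      exact ((eq_of_le_of_card_ge inf_le_left e.ge).ge hcZ).2
    have : i < 2 := (Nat.pow_lt_pow_iff_right hp.out.one_lt).mp hlt
    exact (Nat.pow_le_pow_right hp.out.pos (show i ≤ 1 by omega)).trans (pow_one p).le
  have hcen : ∀ m : M, m ∈ center M → (m : H) ∈ center H := by
    intro m hm
    have htop : centralizer ({(m : H)} : Set H) = ⊤ := by
      rw [eq_top_iff, ← hsup]
      exact sup_le (fun v hv => mem_centralizer_singleton_iff.mpr
          (congrArg Subtype.val (mem_center_iff.mp hm ⟨v, hv⟩)))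
        (zpowers_le.mpr (mem_centralizer_singleton_iff.mpr (mem_center_iff.mp hcZ (m : H)).symm))
    rw [mem_center_iff]
    exact fun g => mem_centralizer_singleton_iff.mp (htop ▸ mem_top g)
  refine ⟨M, hM3, hDM, hZM, ?_, ?_, ?_⟩
  · ext m
    rw [mem_subgroupOf]
    refine ⟨fun hm => hZM.le ⟨hcen m hm, m.2⟩, fun hm => mem_center_iff.mpr fun g => Subtype.ext ?_⟩
    exact mem_center_iff.mp (hDZ hm) (g : H)
  · intro h
    have : ∀ m : M, (m : H) ∈ center H := fun m => hcen m (mem_center_iff.mpr fun g => h g m)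
    have hle : center H ⊓ M = M := inf_eq_right.mpr fun m hm => this ⟨m, hm⟩
    rw [hle] at hZM
    rw [hZM, hD] at hM3
    exact absurd hM3 (ne_of_lt (by simpa using Nat.pow_lt_pow_right hp.out.one_lt (show 1 < 3 by norm_num)))
  · have hcC : Nat.card (zpowers c) = p := by
      rw [Nat.card_zpowers]
      exact orderOf_eq_prime hcp fun h => hcD (h ▸ one_mem _)
    let ψ : M × zpowers c →* H := MonoidHom.noncommCoprod M.subtype (zpowers c).subtype fun m z => by
      have hz : (z : H) ∈ center H := zpowers_le.mpr hcZ z.2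
      exact mem_center_iff.mp hz (m : H)
    have hsur : Function.Surjective ψ := by
      rw [← MonoidHom.range_eq_top, eq_top_iff, ← hsup]
      refine sup_le (fun m hm => ⟨(⟨m, hm⟩, 1), ?_⟩) (zpowers_le.mpr ⟨(1, ⟨c, mem_zpowers c⟩), ?_⟩) 
      · show m * 1 = m; rw [mul_one]
      · show 1 * c = c; rw [one_mul]
    have hbij : Function.Bijective ψ := (Nat.bijective_iff_surjective_and_card ψ).mpr ⟨hsur, by
      rw [Nat.card_prod, hM3, hcC, hc]; ring⟩
    exact ⟨(MulEquiv.ofBijective ψ hbij).symm.trans (MulEquiv.prodCongr (MulEquiv.refl M)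
      (mulEquivOfPrimeCardEq hcC (by simp)))⟩

theorem extra_equiv {A B : Type*} [Group A] [Group B] (h : Cfsg.IsExtraspecial p A) (e : A ≃* B) :
    Cfsg.IsExtraspecial p B := by
  have hec : (center A).map e.toMonoidHom = center B := by
    ext y
    rw [mem_map_equiv, mem_center_iff, mem_center_iff]
    constructor
    · intro hy u
      simpa using congrArg e (hy (e.symm u))
    · intro hy u
      simpa using congrArg e.symm (hy (e u))
  have hfr : (frattini A).map e.toMonoidHom = frattini B := e.mapSubgroup.map_radical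
  refine ⟨⟨h.1.1.of_equiv e, ?_, ?_⟩, ?_⟩
  · rw [← hfr, h.1.2.1, hec]
  · rw [← hec, ← h.1.2.2, _root_.commutator_def, _root_.commutator_def, map_commutator,
      map_top_of_surjective e.toMonoidHom e.surjective]
  · rw [← hec, card_map_of_injective e.injective, h.2]

theorem extra_of_center {M : Type*} [Group M] [Finite M] (hM : IsPGroup p M) (hz : Nat.card (center M) = p)
    (hnab : ¬ ∀ a b : M, a * b = b * a) (hexp : ∀ x : M, x ^ p = 1) (hcl : commutator M ≤ center M) :
    Cfsg.IsExtraspecial p M := by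
  haveI := hM.isNilpotent
  have hne : commutator M ≠ ⊥ := fun h => hnab (by
    rw [_root_.commutator_eq_bot_iff] at h
    exact fun a b => h.is_comm.comm a b)
  have hD : commutator M = center M := by
    refine eq_of_le_of_card_ge hcl ?_
    rw [hz]
    have h1 := card_dvd_of_le hcl
    rw [hz] at h1
    exact (((Nat.dvd_prime hp.out).mp h1).resolve_left fun e => hne (card_eq_one.mp e)).ge
  refine ⟨⟨hM, le_antisymm (fun x hx => ?_) (hD ▸ Coprime.commutator_le_frattini M), hD⟩, hz⟩
  have h := CharP.frattini_le_ker (p := p) (QuotientGroup.mk' (center M)) (fun a b => by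
    rw [← commutatorElement_eq_one_iff_commute, ← map_commutatorElement]
    exact (QuotientGroup.eq_one_iff _).mpr (hcl (commutator_mem_commutator (mem_top a) (mem_top b))))
    (fun a => by rw [← map_pow, hexp, map_one]) hx
  rwa [QuotientGroup.ker_mk'] at h

theorem quaternion_of {M : Type*} [Group M] [Finite M] (hc : Nat.card M = 2 ^ 3) (hnab : ¬ ∀ a b : M, a * b = b * a)
    (hu : ∀ x y : M, x ^ 2 = 1 → x ≠ 1 → y ^ 2 = 1 → y ≠ 1 → x = y) : Nonempty (M ≃* QuaternionGroup 2) := by
  haveI : Fact (Nat.Prime 2) := ⟨Nat.prime_two⟩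
  have huniq : ∀ K L : Subgroup M, Nat.card K = 2 → Nat.card L = 2 → K = L := by
    have key : ∀ K : Subgroup M, Nat.card K = 2 → ∃ k ∈ K, k ^ 2 = 1 ∧ k ≠ 1 ∧ K = zpowers k := by
      intro K hK
      obtain ⟨k, hk⟩ := exists_prime_orderOf_dvd_card' (G := K) 2 (by rw [hK])
      have hk' : orderOf (k : M) = 2 := by rw [Subgroup.orderOf_coe]; exact hk
      refine ⟨k, k.2, hk' ▸ pow_orderOf_eq_one _, fun e => ?_, ?_⟩
      · rw [e, orderOf_one] at hk'; omega
      · exact (eq_of_le_of_card_ge (zpowers_le.mpr k.2) (by rw [hK, Nat.card_zpowers, hk'])).symm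
    intro K L hK hL
    obtain ⟨k, -, hk1, hk2, rfl⟩ := key K hK
    obtain ⟨l, -, hl1, hl2, rfl⟩ := key L hL
    rw [hu k l hk1 hk2 hl1 hl2]
  rcases PGroups.UniqueSubgroup.isCyclic_or_quaternion (IsPGroup.of_card hc) huniq with hcy | ⟨-, n, ⟨e⟩⟩
  · exact absurd (fun a b => (IsCyclic.commutative : IsMulCommutative M).is_comm.comm a b) hnab
  · have h := Nat.card_congr e.toEquiv
    haveI : NeZero (2 ^ n) := ⟨pow_ne_zero _ two_ne_zero⟩
    rw [hc, Nat.card_eq_fintype_card, QuaternionGroup.card] at h
    have hn : n = 1 := by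
      have : 2 ^ n = 2 ^ 1 := by norm_num at h ⊢; omega
      exact Nat.pow_right_injective le_rfl this
    subst hn
    exact ⟨e⟩

end Grp

section Ab

variable {H : Type*} [CommGroup H] [Finite H] {p : ℕ} [hp : Fact p.Prime]

theorem abelian_mixed (hc : Nat.card H = p ^ 4) (hM : Nat.card (powImage H p 1) = p) :
    Nonempty (H ≃* Multiplicative (ZMod (p ^ 2) × ZMod p × ZMod p)) := by
  set φ : H →* H := powMonoidHom (p ^ 1) with hφ
  have hK : Nat.card φ.ker = p ^ 3 := by
    have h := φ.ker.card_mul_index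
    rw [index_ker, show Nat.card φ.range = p from hM, hc, pow_succ p 3] at h
    exact mul_right_cancel₀ hp.out.ne_zero h
  have hkmem : ∀ u, u ∈ φ.ker ↔ u ^ p = 1 := fun u => by simp [hφ, MonoidHom.mem_ker]
  obtain ⟨x, hx⟩ : ∃ x, x ∉ φ.ker := by
    by_contra! h
    rw [(eq_top_iff' _).mpr h, card_top, hc] at hK
    exact absurd (Nat.pow_right_injective hp.out.two_le hK) (by norm_num)
  have hx2 : x ^ p ^ 2 = 1 := by
    have hr : x ^ p ∈ powImage H p 1 := ⟨x, by simp⟩
    have h := pow_card_eq_one' (x := (⟨x ^ p, hr⟩ : powImage H p 1))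
    rw [hM] at h
    rw [sq, pow_mul]
    exact congrArg Subtype.val h
  have hox : Nat.card (zpowers x) = p ^ 2 := by
    rw [Nat.card_zpowers]
    exact orderOf_eq_prime_pow (n := 1) (by rw [pow_one]; exact fun h => hx ((hkmem x).mpr h)) hx2
  have hlt : ∀ {i j : ℕ}, i < j → ∀ {A B : Subgroup H}, Nat.card A = p ^ j → Nat.card B = p ^ i → ∃ a ∈ A, a ∉ B := by
    intro i j hij A B hA hB
    by_contra! h
    have := card_le_of_le h
    rw [hA, hB] at this
    exact absurd this (not_le.mpr (Nat.pow_lt_pow_right hp.out.one_lt hij))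
  have hstep : ∀ {i : ℕ} {A : Subgroup H}, Nat.card A = p ^ i → ∀ {y : H}, y ^ p = 1 → y ∉ A →
      Nat.card ↥(A ⊔ zpowers y) = p ^ (i + 1) := by
    intro i A hA y hy hyA
    have h := Solvable.Basics.card_mul_relIndex (le_sup_left : A ≤ A ⊔ zpowers y)
    rw [hA, ((Nat.dvd_prime hp.out).mp (Solvable.Basics.relIndex_sup_zpowers_dvd (H := A) (x := y) (p := p)
      (by rw [hy]; exact one_mem _))).resolve_left
      (fun h => hyA (relIndex_eq_one.mp h (mem_sup_right (mem_zpowers y))))] at h
    rw [← h, pow_succ]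
  obtain ⟨y, hyK, hy⟩ := hlt (show 2 < 3 by norm_num) hK hox
  have hA1 := hstep hox ((hkmem y).mp hyK) hy
  obtain ⟨z, hzK, hz⟩ : ∃ z ∈ φ.ker, z ∉ zpowers x ⊔ zpowers y := by
    by_contra! h
    exact hx ((eq_of_le_of_card_ge (K := zpowers x ⊔ zpowers y) h (by rw [hK, hA1])).ge (mem_sup_left (mem_zpowers x)))
  have hA2 := hstep hA1 ((hkmem z).mp hzK) hz
  haveI : NeZero (p ^ 2) := ⟨pow_ne_zero _ hp.out.ne_zero⟩
  haveI : NeZero p := ⟨hp.out.ne_zero⟩
  have hred : ∀ (n : ℕ) [NeZero n] (w : H), w ^ n = 1 → ∀ s t : ZMod n, w ^ (s + t).val = w ^ s.val * w ^ t.val :=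
    fun n _ w hw s t => by rw [ZMod.val_add, ← pow_eq_pow_mod _ hw, pow_add]
  let ψ : Multiplicative (ZMod (p ^ 2) × ZMod p × ZMod p) →* H :=
    MonoidHom.mk' (fun v => x ^ v.toAdd.1.val * y ^ v.toAdd.2.1.val * z ^ v.toAdd.2.2.val) fun u v => by
      simp only [toAdd_mul, Prod.fst_add, Prod.snd_add, hred _ x hx2, hred _ y ((hkmem y).mp hyK),
        hred _ z ((hkmem z).mp hzK)]
      rw [mul_mul_mul_comm (x ^ _) (x ^ _), mul_mul_mul_comm]
  haveI : Fact (1 < p ^ 2) := ⟨Nat.one_lt_pow two_ne_zero hp.out.one_lt⟩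
  haveI : Fact (1 < p) := ⟨hp.out.one_lt⟩
  have hsur : Function.Surjective ψ := by
    rw [← MonoidHom.range_eq_top]
    refine top_unique ?_
    rw [← (card_eq_iff_eq_top (zpowers x ⊔ zpowers y ⊔ zpowers z)).mp (by rw [hA2, hc])]
    refine sup_le (sup_le (zpowers_le.mpr ?_) (zpowers_le.mpr ?_)) (zpowers_le.mpr ?_)
    · exact ⟨Multiplicative.ofAdd (1, 0, 0), by simp [ψ, ZMod.val_one]⟩
    · exact ⟨Multiplicative.ofAdd (0, 1, 0), by simp [ψ, ZMod.val_one]⟩
    · exact ⟨Multiplicative.ofAdd (0, 0, 1), by simp [ψ, ZMod.val_one]⟩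
  have hbij : Function.Bijective ψ := (Nat.bijective_iff_surjective_and_card ψ).mpr ⟨hsur, by
    rw [hc, Nat.card_congr Multiplicative.toAdd, Nat.card_prod, Nat.card_prod, Nat.card_zmod, Nat.card_zmod]; ring⟩
  exact ⟨(MulEquiv.ofBijective ψ hbij).symm⟩

end Ab

/-- Let F be a saturated fusion system over a finite p-group S and H an essential subgroup of order p⁴. Then H is isomorphic to one of: C_p⁴ or C_{p²} × C_p × C_p (any p); C_{p²} × C_{p²} with p ∈ {2, 3}; p^{1+2}_+ × C_p with p odd (the direct product of an extraspecial group of order p³ and exponent p with a group of order p); Q₈ × C₂ (p = 2); or the non-abelian group of order p⁴ of exponent p² whose centre is cyclic of order p² (the central product of an extraspecial group of order p³ with a cyclic group of order p²; for p = 2 this is D₈ ∘ C₄). -/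
theorem result {Ω : Type u} [Group Ω] {S : Subgroup Ω} [Finite S] (p : ℕ) [Fact p.Prime] (hS : IsPGroup p S)
    (F : Cfsg.FusionSystem S) (hF : F.IsSaturated p) (H : Subgroup Ω) (hH : F.IsEssential p H) (hcard : Nat.card H = p ^ 4) :
    Cfsg.IsElementaryAbelian p H ∨
      Nonempty (↥H ≃* Multiplicative (ZMod (p ^ 2) × ZMod p × ZMod p)) ∨
      ((p = 2 ∨ p = 3) ∧ Nonempty (↥H ≃* Multiplicative (ZMod (p ^ 2) × ZMod (p ^ 2)))) ∨
      (Odd p ∧ ∃ (E : Type) (_ : Group E) (_ : Finite E), Cfsg.IsExtraspecial p E ∧ Nat.card E = p ^ 3 ∧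
        (∀ x : E, x ^ p = 1) ∧ Nonempty (↥H ≃* E × Multiplicative (ZMod p))) ∨
      (p = 2 ∧ Nonempty (↥H ≃* QuaternionGroup 2 × Multiplicative (ZMod 2))) ∨
      (¬ IsMulCommutative ↥H ∧ (∀ x ∈ H, x ^ (p ^ 2) = 1) ∧ IsCyclic ↥(Subgroup.center ↥H) ∧
        Nat.card (Subgroup.center ↥H) = p ^ 2) := by
  classical
  have hHS : H ≤ S := hH.1.1
  haveI : Finite H := Fusion.Saturation.finite_of_le hHS
  have hpH : IsPGroup p H := hS.to_le hHS
  have hp := (Fact.out : p.Prime)
  haveI : Nontrivial H := by
    rw [← Finite.one_lt_card_iff_nontrivial, hcard]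
    exact Nat.one_lt_pow (by norm_num) hp.one_lt
  have hser : NoSer ↥H p := by
    intro C1 C2 C3 i1 i2 i3 h12 h23 c1 c2 c3
    refine no_series hH hS (fun i => match i with | 0 => ⊥ | 1 => C1 | 2 => C2 | 3 => C3 | _ => ⊤) 4 rfl rfl ?_ ?_ ?_
    · intro i hi
      match i, hi with
      | 0, _ => exact bot_le
      | 1, _ => exact h12
      | 2, _ => exact h23
      | 3, _ => exact le_top
    · intro i hi a x hx
      match i, hi with
      | 0, _ =>
        have hx1 : x = 1 := hx
        show a x ∈ (⊥ : Subgroup H)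
        rw [hx1, map_one]; exact one_mem _
      | 1, _ => exact i1 a x hx
      | 2, _ => exact i2 a x hx
      | 3, _ => exact i3 a x hx
      | 4, _ => exact mem_top _
    · intro i hi
      match i, hi with
      | 0, _ =>
        show (⊥ : Subgroup H).relIndex C1 ≤ p
        rw [relIndex_bot_left, c1]
      | 1, _ =>
        show C1.relIndex C2 ≤ p
        have h := Solvable.Basics.card_mul_relIndex h12
        rw [c1, c2, sq] at h
        exact (mul_left_cancel₀ hp.ne_zero h).le
      | 2, _ =>
        show C2.relIndex C3 ≤ p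
        have h := Solvable.Basics.card_mul_relIndex h23
        rw [c2, c3, pow_succ p 2] at h
        exact (mul_left_cancel₀ (pow_ne_zero 2 hp.ne_zero) h).le
      | 3, _ =>
        show C3.relIndex ⊤ ≤ p
        rw [relIndex_top_right, index_of_card hcard (j := 1) rfl c3, pow_one]
  by_cases hab : ∀ a b : H, a * b = b * a
  · have habi : IsMulCommutative ↥H := ⟨⟨hab⟩⟩
    letI : CommGroup H := { (inferInstance : Group H) with mul_comm := hab }
    obtain ⟨m, hm4, hm⟩ := card_sub hcard (powImage H p 1)
    rcases Nat.lt_or_ge m 2 with hm2 | hm2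
    · rcases (show m = 0 ∨ m = 1 by omega) with rfl | rfl
      · left
        refine ⟨habi, fun x hx => ?_⟩
        have hbot := card_eq_one.mp (show Nat.card (powImage H p 1) = 1 by rw [hm, pow_zero])
        have h2 : (⟨x, hx⟩ : H) ^ p ∈ powImage H p 1 := ⟨⟨x, hx⟩, by simp⟩
        rw [hbot, Subgroup.mem_bot] at h2
        exact congrArg Subtype.val h2
      · right; left
        exact abelian_mixed hcard (by rw [hm, pow_one])
    · have hidx : (powImage H p 1).index ≤ p ^ 2 := by
        rw [index_of_card hcard (j := 4 - m) (by omega) hm]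
        exact Nat.pow_le_pow_right hp.pos (by omega)
      have hMfr : powImage H p 1 ≤ frattini H := by
        haveI := hpH.isNilpotent
        rintro _ ⟨w, rfl⟩
        simpa using Cfsg.Agent.Solvable.Basics.pow_mem_frattini hpH w
      have hrk : (frattini ↥H).index ≤ p ^ 2 :=
        (Nat.le_of_dvd (Nat.pos_of_ne_zero index_ne_zero_of_finite) (index_dvd_of_le hMfr)).trans hidx
      rcases S5187.result p hS F hF H hH habi hrk with ⟨-, h2⟩ | ⟨hp3, k, ⟨e⟩⟩
      · exact absurd (Nat.pow_right_injective hp.two_le (hcard.symm.trans h2)) (by norm_num)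
      · right; right; left
        have h := Nat.card_congr e.toEquiv
        rw [hcard, Nat.card_congr Multiplicative.toAdd, Nat.card_prod, Nat.card_zmod, ← pow_add] at h
        have := Nat.pow_right_injective hp.two_le h
        obtain rfl : k = 2 := by omega
        refine ⟨?_, ⟨e⟩⟩
        have := hp.two_le
        omega
  obtain ⟨hZ, hD, hDZ, hpow⟩ := structure_thm hpH hcard hab hser
  by_cases hcyc : IsCyclic ↥(center ↥H)
  · right; right; right; right; right
    refine ⟨fun h => hab fun a b => h.is_comm.comm a b, fun x hx => ?_, hcyc, hZ⟩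
    have h := pow_card_eq_one' (x := (⟨(⟨x, hx⟩ : H) ^ p, hpow _⟩ : commutator H))
    rw [hD] at h
    have h' : ((⟨x, hx⟩ : H) ^ p) ^ p = 1 := congrArg Subtype.val h
    rw [← pow_mul, ← sq] at h'
    exact congrArg Subtype.val h'
  have hzp : ∀ z ∈ center ↥H, z ^ p = 1 := by
    intro z hz
    obtain ⟨i, hi, hiz⟩ := (Nat.dvd_prime_pow hp).mp (hZ ▸ orderOf_dvd_natCard (⟨z, hz⟩ : center ↥H))
    rcases (show i ≤ 1 ∨ i = 2 by omega) with h | h
    · have h' : (⟨z, hz⟩ : center ↥H) ^ p = 1 := by
        rw [← orderOf_dvd_iff_pow_eq_one, hiz]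
        exact (pow_dvd_pow p h).trans (pow_one p).dvd
      exact congrArg Subtype.val h'
    · subst h
      exact absurd (isCyclic_of_orderOf_eq_card _ (by rw [hiz, hZ])) hcyc
  obtain ⟨M, hM3, hDM, hZM, hMc, hMnab, ⟨e⟩⟩ := split hpH hcard hab hZ hD hDZ hpow hzp
  obtain ⟨hodd', htwo⟩ := power_shape hcard hab hser hZ hD hDZ hpow hzp
  rcases hp.eq_two_or_odd' with h2 | hodd
  · subst h2
    right; right; right; right; left
    refine ⟨rfl, ?_⟩
    have hinv : ∀ x : M, x ^ 2 = 1 → (x : H) ∈ commutator ↥H := fun x hx =>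
      hZM.le ⟨by
        by_contra h
        exact htwo rfl _ h (congrArg Subtype.val hx), x.2⟩
    obtain ⟨eq8⟩ := quaternion_of hM3 hMnab (fun x y hx hx1 hy hy1 => by
      haveI := Fintype.ofFinite (commutator ↥H)
      by_contra hne
      have h3 : 2 < Nat.card (commutator ↥H) := by
        rw [Nat.card_eq_fintype_card, Fintype.two_lt_card_iff]
        refine ⟨⟨1, one_mem _⟩, ⟨_, hinv x hx⟩, ⟨_, hinv y hy⟩, ?_, ?_, ?_⟩ <;> intro h <;>
          have h' := congrArg Subtype.val h
        · exact hx1 (Subtype.ext h'.symm)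
        · exact hy1 (Subtype.ext h'.symm)
        · exact hne (Subtype.ext h')
      omega)
    exact ⟨e.trans (MulEquiv.prodCongr eq8 (MulEquiv.refl _))⟩
  right; right; right; left
  have hp2 : p ≠ 2 := fun h => absurd (h ▸ hodd) (by decide)
  have hexp := hodd' hp2
  have hMexp : ∀ x : M, x ^ p = 1 := fun x => Subtype.ext (by rw [SubmonoidClass.coe_pow]; exact hexp _)
  have hext : Cfsg.IsExtraspecial p M := extra_of_center (hpH.to_subgroup M)
    (by rw [hMc, Nat.card_congr (subgroupOfEquivOfLe hDM).toEquiv, hD]) hMnab hMexp (by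
      rw [hMc]
      refine (_root_.commutator_def _).le.trans (commutator_le.mpr fun a _ b _ => ?_)
      rw [mem_subgroupOf]
      exact commutator_mem_commutator (mem_top (a : H)) (mem_top (b : H)))
  let eS : Shrink.{0} M ≃* M := Shrink.mulEquiv
  refine ⟨hodd, Shrink.{0} M, inferInstance, inferInstance, extra_equiv hext eS.symm, ?_, ?_,
    ⟨e.trans (MulEquiv.prodCongr eS.symm (MulEquiv.refl _))⟩⟩
  · rw [Nat.card_congr eS.toEquiv, hM3]
  · intro x
    apply eS.injective
    rw [map_pow, hMexp, map_one]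

end Cfsg.Agent.S5188
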