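import Cfsg.Statements.S5189
import Cfsg.Agent.Lib.Fusion.RankThree.Normal.PairMain
import Cfsg.Agent.Lib.Fusion.RankThree.Normal.Transfer
import Cfsg.Agent.Lib.Fusion.RankThree.Normal.SylowSp
import Cfsg.Agent.S5186

set_option autoImplicit false
universe u
open Cfsg

namespace Cfsg.Agent.S5189

open Cfsg.Agent.Fusion Cfsg.Agent.Fusion.Basic Cfsg.Agent.Fusion.Saturation Cfsg.Agent.Fusion.Transport

/-- Let p be an odd prime, S a finite p-group of sectional p-rank exactly 3, and F a saturated fusion system over S whose largest subgroup normal in F is trivial. Suppose S has two distinct essential subgroups E₁, E₂ each of which is invariant under every F-automorphism of S. Then S is isomorphic to a Sylow p-subgroup of Sp(4,p), and one of E₁, E₂ is extraspecial of order p³ and exponent p while the other is elementary abelian of order p³. -/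
theorem result {Ω : Type u} [Group Ω] {S : Subgroup Ω} [Finite S] (p : ℕ) [Fact p.Prime] (hp : Odd p) (hS : IsPGroup p S)
    (hsr : Cfsg.SectionalPRankLE p 3 ↥S ∧ ¬ Cfsg.SectionalPRankLE p 2 ↥S)
    (F : Cfsg.FusionSystem S) (hF : F.IsSaturated p) (hO : F.core = ⊥)
    (E₁ E₂ : Subgroup Ω) (hne : E₁ ≠ E₂) (hE₁ : F.IsEssential p E₁) (hE₂ : F.IsEssential p E₂)
    (hc₁ : (∀ φ : MulAut ↥S, φ ∈ F.autGroup S → (E₁.subgroupOf S).map φ.toMonoidHom = E₁.subgroupOf S))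
    (hc₂ : (∀ φ : MulAut ↥S, φ ∈ F.autGroup S → (E₂.subgroupOf S).map φ.toMonoidHom = E₂.subgroupOf S)) :
    (∃ P : Sylow p ↥(Matrix.symplecticGroup (Fin 2) (ZMod p)),
        Nonempty (↥S ≃* ↥(P : Subgroup ↥(Matrix.symplecticGroup (Fin 2) (ZMod p))))) ∧
      ((Cfsg.IsExtraspecial p ↥E₁ ∧ Nat.card E₁ = p ^ 3 ∧ (∀ x ∈ E₁, x ^ p = 1) ∧
          Cfsg.IsElementaryAbelian p E₂ ∧ Nat.card E₂ = p ^ 3) ∨
        (Cfsg.IsExtraspecial p ↥E₂ ∧ Nat.card E₂ = p ^ 3 ∧ (∀ x ∈ E₂, x ^ p = 1) ∧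
          Cfsg.IsElementaryAbelian p E₁ ∧ Nat.card E₁ = p ^ 3)) := by
  have hp2 : p ≠ 2 := fun h2 => by subst h2; exact absurd hp (by decide)
  let G := push (LocalFlavell.MaxClass.Push.iso S) F
  have hH : RankThree.Normal.Hyp p G :=
    ⟨hS, hp2, push_saturated _ hS hF, hsr.1, hsr.2, fun Q hQ => PushEssential.eq_bot_of_core _ hO hQ⟩
  have hle : ∀ E : Subgroup Ω, F.IsEssential p E → E ≤ S := fun E hE => hE.1.1
  have hess : ∀ E : Subgroup Ω, F.IsEssential p E → G.IsEssential p (E.subgroupOf S) := fun E hE => by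
    rw [← LocalFlavell.MaxClass.Push.im_fwd (hle E hE)]
    exact PushEssential.essential _ hS hF hE
  have hinv : ∀ E : Subgroup Ω,
      (∀ φ : MulAut ↥S, φ ∈ F.autGroup S → (E.subgroupOf S).map φ.toMonoidHom = E.subgroupOf S) →
      ∀ θ : ↥S → ↥S, IsMap G (⊤ : Subgroup ↥S) θ → ∀ v ∈ E.subgroupOf S, θ v ∈ E.subgroupOf S := by
    intro E hc θ hθ v hv
    obtain ⟨-, -, hm⟩ := (isMap_push_iff _).1 hθ
    rw [LocalFlavell.MaxClass.Push.im_bwd, ← MonoidHom.range_eq_map, Subgroup.range_subtype] at hm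
    obtain ⟨φ, hφ, hφe⟩ := hm.exists_aut (eq_of_le_card hm.img_le_S hm.card_img.ge)
    have h1 : φ v ∈ E.subgroupOf S := (hc φ hφ).le ⟨v, hv, rfl⟩
    have h2 : φ v = θ v := by
      refine Subtype.ext ?_
      rw [← autFun_apply φ v, hφe v v.2, LocalFlavell.MaxClass.Push.iso_fwd v.2]
      rfl
    rwa [h2] at h1
  have hnorm : ∀ E : Subgroup Ω,
      (∀ φ : MulAut ↥S, φ ∈ F.autGroup S → (E.subgroupOf S).map φ.toMonoidHom = E.subgroupOf S) →
      (E.subgroupOf S).Normal := by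
    intro E hc
    refine ⟨fun v hv g => ?_⟩
    exact (hc (MulAut.conj g) (inn_le_autGroup le_rfl ⟨g, rfl⟩)).le ⟨v, hv, rfl⟩
  have hne' : E₁.subgroupOf S ≠ E₂.subgroupOf S := fun h => hne (by
    rw [← Subgroup.map_subgroupOf_eq_of_le (hle E₁ hE₁), h, Subgroup.map_subgroupOf_eq_of_le (hle E₂ hE₂)])
  have hT : RankThree.Normal.Two p G (E₁.subgroupOf S) (E₂.subgroupOf S) :=
    ⟨hess E₁ hE₁, hess E₂ hE₂, hne'.symm, hnorm E₁ hc₁, hnorm E₂ hc₂⟩
  obtain ⟨⟨-, ⟨z, e, w, c, hg, hc, htop⟩, -⟩, hd⟩ :=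
    RankThree.Normal.pair_main hH hT (hinv E₁ hc₁) (hinv E₂ hc₂)
  refine ⟨RankThree.Normal.sylow_sp hp2 hg hc htop, ?_⟩
  have key : ∀ A B : Subgroup Ω, F.IsEssential p A → F.IsEssential p B →
      RankThree.Normal.PairData p (A.subgroupOf S) (B.subgroupOf S) →
      Cfsg.IsExtraspecial p ↥B ∧ Nat.card B = p ^ 3 ∧ (∀ x ∈ B, x ^ p = 1) ∧
        Cfsg.IsElementaryAbelian p A ∧ Nat.card A = p ^ 3 := by
    rintro A B hA hB ⟨hBc, hBp, ⟨u, hu, v, hv, huv⟩, hAc, hAe⟩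
    have hcB : Nat.card B = p ^ 3 := by
      rw [← hBc, Nat.card_congr (Subgroup.subgroupOfEquivOfLe (hle B hB)).toEquiv]
    have hcA : Nat.card A = p ^ 3 := by
      rw [← hAc, Nat.card_congr (Subgroup.subgroupOfEquivOfLe (hle A hA)).toEquiv]
    rcases S5186.result p hS F hF B hB hcB with h | ⟨-, hx, hpw⟩ | ⟨h, -⟩
    · refine absurd ?_ huv
      have h1 := congrArg Subtype.val (h.1.is_comm.comm ⟨(u : Ω), hu⟩ ⟨(v : Ω), hv⟩)
      exact Subtype.ext h1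
    · refine ⟨hx, hcB, hpw, ⟨⟨⟨fun a b => Subtype.ext ?_⟩⟩, fun a ha => ?_⟩, hcA⟩
      · have h1 := congrArg Subtype.val (hAe.1 ⟨a, hle A hA a.2⟩ a.2 ⟨b, hle A hA b.2⟩ b.2).eq
        exact h1
      · exact congrArg Subtype.val (hAe.2 ⟨a, hle A hA ha⟩ ha)
    · exact absurd h hp2
  exact hd.elim (fun h => Or.inr (key E₁ E₂ hE₁ hE₂ h)) fun h => Or.inl (key E₂ E₁ hE₂ hE₁ h)

end Cfsg.Agent.S5189
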