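import Cfsg.Statements.S5192
import Cfsg.Agent.Lib.Fusion.OrbitData
import Cfsg.Agent.Lib.Fusion.Focal

set_option autoImplicit false
open Cfsg

namespace Cfsg.Agent.S5192

open Cfsg.FusionSystem Cfsg.Agent.Fusion.Basic Cfsg.Agent.Fusion.Saturation open Cfsg.FusionSystem Cfsg.Agent.Fusion.Basic Cfsg.Agent.Fusion.Saturation Cfsg.Agent.Fusion.Focal Cfsg.Agent.Fusion.OrbitData

theorem exists_char {G : Type*} [Group G] (T : Subgroup G) (hT : T.index = 2) :
    ∃ χ : G →* Multiplicative (ZMod 2), ∀ g : G, χ g = 1 ↔ g ∈ T := by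
  have hn : T.Normal := Subgroup.normal_of_index_eq_two hT
  have hc : Nat.card (G ⧸ T) = 2 := hT
  let e : G ⧸ T ≃* Multiplicative (ZMod 2) := mulEquivOfPrimeCardEq (p := 2) hc (by simp)
  refine ⟨e.toMonoidHom.comp (QuotientGroup.mk' T), fun g => ?_⟩
  rw [MonoidHom.comp_apply, MulEquiv.coe_toMonoidHom, EmbeddingLike.map_eq_one_iff,
    QuotientGroup.mk'_apply, QuotientGroup.eq_one_iff]

theorem eq_z {a : Multiplicative (ZMod 2)} (h : a ≠ 1) : a = Multiplicative.ofAdd 1 := by
  revert a; decide

theorem sq_one (a : Multiplicative (ZMod 2)) : a * a = 1 := by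
  revert a; decide

theorem eq_of_mul_eq_one {a b : Multiplicative (ZMod 2)} (h : a * b = 1) : a = b := by
  revert a b; decide

theorem z_ne_one : (Multiplicative.ofAdd 1 : Multiplicative (ZMod 2)) ≠ 1 := by decide

variable {Ω : Type*} [Group Ω] {S : Subgroup Ω}

open Classical in
theorem normalizerIn_zpowers {x : Ω} (hx : orderOf x = 2) {g : Ω} :
    g ∈ normalizerIn S (Subgroup.zpowers x) ↔ g ∈ S ∧ g * x * g⁻¹ = x := by
  constructor
  · rintro ⟨h1, h2⟩
    refine ⟨h1, ?_⟩
    have h3 : g * x * g⁻¹ ∈ Subgroup.zpowers x :=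
      (Subgroup.mem_normalizer_iff.1 h2 x).1 (Subgroup.mem_zpowers x)
    have hfin : IsOfFinOrder x := orderOf_pos_iff.1 (by omega)
    rw [← hfin.mem_powers_iff_mem_zpowers, hfin.mem_powers_iff_mem_range_orderOf, hx] at h3
    simp only [Finset.mem_image, Finset.mem_range] at h3
    obtain ⟨k, hk, he⟩ := h3
    interval_cases k
    · rw [pow_zero, eq_comm, conj_eq_one_iff] at he
      simp [he] at hx
    · rw [pow_one] at he; exact he.symm
  · rintro ⟨h1, h2⟩
    refine ⟨h1, Subgroup.mem_normalizer_iff.2 fun y => ⟨fun hy => ?_, fun hy => ?_⟩⟩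
    · obtain ⟨k, rfl⟩ := hy
      exact ⟨k, by simp only; rw [← conj_zpow, h2]⟩
    · obtain ⟨k, hk⟩ := hy
      simp only at hk
      refine ⟨k, ?_⟩
      simp only
      rw [← h2, conj_zpow] at hk
      exact mul_left_cancel (mul_right_cancel hk)

/-- A Thompson-type transfer for saturated fusion systems. Let F be a saturated fusion system on a finite 2-group S, T a subgroup of S of index 2, and i an involution of S such that every fully normalized F-conjugate of i lies in S but outside T. Then i does not lie in the hyperfocal subgroup of F (the Sylow group of the 2-residual subsystem). -/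
theorem result {Ω : Type*} [Group Ω] [Finite Ω] {S : Subgroup Ω}
    (hS : IsPGroup 2 ↥S) (F : Cfsg.FusionSystem S) (hF : F.IsSaturated 2)
    (T : Subgroup Ω) (hTS : T ≤ S) (hT : T.relIndex S = 2)
    (i : Ω) (hi : i ∈ S) (hi2 : orderOf i = 2)
    (h : ∀ j : Ω, F.IsConjElt i j → F.IsFullyNormalized (Subgroup.zpowers j) → j ∉ T) :
    i ∉ F.hyperfocalSubgroup 2 := by
    classical
    intro hih
    have : Fact (Nat.Prime 2) := ⟨Nat.prime_two⟩
    obtain ⟨χ, hχ⟩ := exists_char (T.subgroupOf S) hT
    obtain ⟨D⟩ := exists_data (p := 2) hS hF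
    obtain ⟨R, hR, hRn⟩ := exists_fullyNormalized (F := F) (Subgroup.zpowers_le.2 hi)
    obtain ⟨f0, hf0, rfl⟩ := isConj_iff_map.1 hR
    set j := f0 i with hj
    have himg : img f0 (Subgroup.zpowers i) = Subgroup.zpowers j := by
      apply le_antisymm
      · refine img_le fun x hx => ?_
        obtain ⟨k, rfl⟩ := hx
        have := map_zpow hf0.hom ⟨i, Subgroup.mem_zpowers i⟩ k
        simp only [IsMap.hom_apply, SubgroupClass.coe_zpow] at this
        exact ⟨k, this.symm⟩
      · exact Subgroup.zpowers_le.2 (mem_img_self _ (Subgroup.mem_zpowers i))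
    rw [himg] at hR hRn
    have hjS : j ∈ S := hf0.mem (Subgroup.mem_zpowers i)
    have hj2 : orderOf j = 2 := by
      rw [← Nat.card_zpowers, isConj_card hR, Nat.card_zpowers, hi2]
    have hjj : (⟨j, hjS⟩ : ↥S) * ⟨j, hjS⟩ = 1 := by
      apply Subtype.ext
      show j * j = 1
      rw [← pow_two, ← hj2, pow_orderOf_eq_one]
    set jS : ↥S := ⟨j, hjS⟩ with hjSdef
    have hjhyp : j ∈ F.hyperfocalSubgroup 2 := by
      have := (hyp_stronglyClosed hS hF).2 _ (Subgroup.zpowers_le.2 hih) _ hf0.hom_mem_self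
        ⟨i, Subgroup.mem_zpowers i⟩
      simpa using this
    have ht : D.transfer χ jS = 1 := by
      obtain ⟨u, hu, he⟩ := D.focal_le χ (hyp_le_focal hjhyp)
      rwa [show u = jS from Subtype.ext he] at hu
    set v : D.O → Multiplicative (ZMod 2) := fun o => χ (D.s jS o) with hv
    set z : Multiplicative (ZMod 2) := Multiplicative.ofAdd 1 with hz
    have hone : ∀ o : D.O, χ (D.s 1 o) = 1 := fun o => by
      have h1 := D.cocycle 1 1 o
      rw [one_smul, mul_one] at h1
      rw [left_eq_mul] at h1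
      rw [h1, map_one]
    have hpair : ∀ o, v (jS • o) = v o := fun o => eq_of_mul_eq_one (by
      rw [hv]; dsimp only
      rw [← map_mul, ← D.cocycle, hjj, hone])
    let C : Subgroup ↥S := Subgroup.centralizer {jS}
    let W := {o : D.O // jS • o = o ∧ v o ≠ 1}
    have hC : ∀ u ∈ C, ∀ o, jS • o = o → jS • (u • o) = u • o ∧ v (u • o) = v o := by
      intro u hu o ho
      have hc : jS * u = u * jS := (Subgroup.mem_centralizer_singleton_iff.1 hu).symm
      refine ⟨by rw [← mul_smul, hc, mul_smul, ho], ?_⟩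
      have h1 := congrArg (fun w => χ (D.s w o)) hc
      simp only [D.cocycle, ho, map_mul] at h1
      rw [mul_comm] at h1
      exact mul_left_cancel h1
    let act : MulAction ↥C W :=
      { smul := fun u w => ⟨(u : ↥S) • w.1, (hC u u.2 w.1 w.2.1).1,
          by rw [(hC u u.2 w.1 w.2.1).2]; exact w.2.2⟩
        one_smul := fun w => Subtype.ext (one_smul ↥S w.1)
        mul_smul := fun a b w => Subtype.ext (mul_smul (a : ↥S) (b : ↥S) w.1) }
    have hjC : jS ∈ C := Subgroup.mem_centralizer_singleton_iff.2 rfl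
    have hfix : ∀ o : D.O, (∀ u : ↥C, (u : ↥S) • o = o) → jS • o = o ∧ v o ≠ 1 := by
      intro o ho
      refine ⟨ho ⟨jS, hjC⟩, ?_⟩
      obtain ⟨Q, f, hf, hst⟩ := D.stab o
      have hCQ : ∀ u : ↥C, ((u : ↥S) : Ω) ∈ Q := fun u => (hst u).1.1 (ho u)
      have hjQ : j ∈ Q := hCQ ⟨jS, hjC⟩
      have hval : D.s jS o = ⟨f j, hf.mem hjQ⟩ := (hst jS).2 hjQ
      show χ (D.s jS o) ≠ 1
      rw [hval, ne_eq, hχ, Subgroup.mem_subgroupOf]
      have hg : IsMap F (Subgroup.zpowers i) (fun x => f (f0 x)) :=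
        hf.comp hf0 fun x hx => (Subgroup.zpowers_le.2 hjQ) (himg ▸ mem_img_self f0 hx)
      have hgi : IsMap F (Subgroup.zpowers j) f := hf.restrict (Subgroup.zpowers_le.2 hjQ)
      have himg2 : img f (Subgroup.zpowers j) = Subgroup.zpowers (f j) := by
        apply le_antisymm
        · refine img_le fun x hx => ?_
          obtain ⟨k, rfl⟩ := hx
          have := map_zpow hgi.hom ⟨j, Subgroup.mem_zpowers j⟩ k
          simp only [IsMap.hom_apply, SubgroupClass.coe_zpow] at this
          exact ⟨k, this.symm⟩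
        · exact Subgroup.zpowers_le.2 (mem_img_self _ (Subgroup.mem_zpowers j))
      have hcj : F.IsConj (Subgroup.zpowers j) (Subgroup.zpowers (f j)) := himg2 ▸ hgi.isConj
      have hfj2 : orderOf (f j) = 2 := by
        rw [← Nat.card_zpowers, isConj_card hcj, Nat.card_zpowers, hj2]
      refine h (f j) ⟨hg.hom, hg.hom_mem_self, rfl⟩ ⟨Subgroup.zpowers_le.2 (hf.mem hjQ), ?_⟩
      intro Q' hQ'
      refine (hRn.2 Q' (isConj_trans hcj hQ')).trans ?_
      have : Finite ↥(normalizerIn S (Subgroup.zpowers (f j))) := finite_of_le normalizerIn_le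
      have hmemC : ∀ g ∈ normalizerIn S (Subgroup.zpowers j), g ∈ Q ∧ g * j * g⁻¹ = j := by
        intro g hg
        obtain ⟨hgS, hgj⟩ := (normalizerIn_zpowers hj2).1 hg
        refine ⟨hCQ ⟨⟨g, hgS⟩, Subgroup.mem_centralizer_singleton_iff.2 ?_⟩, hgj⟩
        exact Subtype.ext (mul_inv_eq_iff_eq_mul.1 hgj)
      refine Nat.card_le_card_of_injective
        (fun g => (⟨f g.1, (normalizerIn_zpowers hfj2).2 ⟨hf.mem (hmemC _ g.2).1, by
          rw [← hf.map_conj (hmemC _ g.2).1 hjQ, (hmemC _ g.2).2]⟩⟩ :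
            ↥(normalizerIn S (Subgroup.zpowers (f j))))) ?_
      intro a b hab
      exact Subtype.ext (hf.inj (hmemC _ a.2).1 (hmemC _ b.2).1 (Subtype.ext_iff.1 hab))
    have hpS : IsPGroup 2 ↥C := hS.to_subgroup C
    have h1 : Fintype.card D.O % 2 = 1 := Nat.odd_iff.1 (Nat.coprime_two_right.1 D.coprime)
    have h2 := hpS.card_modEq_card_fixedPoints D.O
    have h3 := hpS.card_modEq_card_fixedPoints W
    have h4 : Nat.card (MulAction.fixedPoints ↥C W) = Nat.card (MulAction.fixedPoints ↥C D.O) :=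
      Nat.card_congr
        { toFun := fun w => ⟨w.1.1, fun u => congrArg Subtype.val (w.2 u)⟩
          invFun := fun o => ⟨⟨o.1, hfix o.1 o.2⟩, fun u => Subtype.ext (o.2 u)⟩
          left_inv := fun w => rfl
          right_inv := fun o => rfl }
    have h5 : Nat.card W % 2 = 1 := by
      rw [Nat.ModEq, Nat.card_eq_fintype_card (α := D.O)] at h2
      rw [Nat.ModEq, h4] at h3
      omega
    have hsplit : ∏ o, v o = z ^ Nat.card W := by
      rw [← Finset.prod_filter_mul_prod_filter_not Finset.univ (fun o => jS • o = o),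
        Finset.prod_involution (s := Finset.univ.filter fun o => ¬jS • o = o)
          (fun o _ => jS • o)
          (fun o _ => by rw [hpair]; exact sq_one _)
          (fun o ho _ => (Finset.mem_filter.1 ho).2)
          (fun o ho => by
            refine Finset.mem_filter.2 ⟨Finset.mem_univ _, fun he => (Finset.mem_filter.1 ho).2 ?_⟩
            exact (smul_left_cancel_iff jS).1 he)
          (fun o _ => by rw [← mul_smul, hjj, one_smul]),
        mul_one, ← Finset.prod_filter_ne_one, Finset.filter_filter,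
        Finset.prod_eq_pow_card (b := z) fun o ho => eq_z (Finset.mem_filter.1 ho).2.2,
        Nat.card_eq_fintype_card, Fintype.card_subtype]
    rw [D.transfer_apply] at ht
    change ∏ o, v o = 1 at ht
    rw [hsplit, ← Nat.div_add_mod (Nat.card W) 2, h5, pow_succ, pow_mul,
      (pow_two z).trans (sq_one z), one_pow, one_mul] at ht
    exact z_ne_one ht

end Cfsg.Agent.S5192
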