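import Cfsg.Statements.S5196
import Cfsg.Agent.Lib.CharP.Climbing

set_option autoImplicit false
universe u
open Cfsg

set_option linter.unusedSectionVars false

namespace Cfsg.Agent.S5196

open Cfsg.Agent.Fusion.Basic Cfsg.Agent.CharP.LocalControl Cfsg.Agent.CharP.Climbing
  Cfsg.Agent.Fusion.Normal Cfsg.Agent.Fusion.Saturation Cfsg.FusionSystem

theorem local_center {p : ℕ} [Fact p.Prime] (W : ∀ (Q : Type u) [Group Q], Subgroup Q)
    (hWZ : ∀ (Q : Type u) [Group Q] [Finite Q], IsPGroup p Q → Subgroup.center Q ≤ W Q)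
    (hC : ∀ (G : Type u) [Group G] [Finite G] (P : Sylow p G), pCore p G ⊓ Subgroup.center G =
      pCore p G ⊓ (Subgroup.center ↥(Subgroup.normalizer
        (Wof W (P : Subgroup G) : Set G))).map
        (Subgroup.normalizer (Wof W (P : Subgroup G) : Set G)).subtype) :
    Local p 0 W True := by
  intro G _ _ P hchar U₀ hU good _ hres hCp hNp hfix A g hA
  have hUZ : U₀ ≤ (P : Subgroup G) ⊓ Subgroup.centralizer (P : Set G) :=
    hU.trans (CharP.LocalControl.powerClosure_le 0 _)
  have hUW : U₀ ≤ Wof W (P : Subgroup G) := fun u hu =>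
    ⟨⟨u, (hUZ hu).1⟩, hWZ _ P.isPGroup' (Subgroup.mem_center_iff.2 fun y =>
      Subtype.ext ((hUZ hu).2 y y.2)), rfl⟩
  have hfixN : ∀ n ∈ Subgroup.normalizer (Wof W (P : Subgroup G) : Set G),
      ∀ u ∈ U₀, n * u * n⁻¹ = u := by
    intro n hn
    have hin : InP (P : Subgroup G) (Wof W (P : Subgroup G)) n :=
      ⟨Wof_le _, fun a ha => Wof_le _ ((Subgroup.mem_normalizer_iff.1 hn a).1 ha)⟩
    exact hfix trivial _ _ hin hUW (hNp _ _ hin le_rfl hn)
  have hcen : U₀ ≤ Subgroup.center G := by
    intro u hu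
    have huQ : u ∈ pCore p G :=
      hchar fun q hq => (hUZ hu).2 q (Cores.pCore_le_sylow P hq)
    have : u ∈ pCore p G ⊓ Subgroup.center G := by
      rw [hC G P]
      refine ⟨huQ, ⟨u, Subgroup.le_normalizer (hUW hu)⟩, Subgroup.mem_center_iff.2 fun n =>
        Subtype.ext (mul_inv_eq_iff_eq_mul.1 (hfixN n n.2 u hu)), rfl⟩
    exact this.2
  have hfixG : ∀ u ∈ U₀, g * u * g⁻¹ = u := fun u hu => by
    rw [Subgroup.mem_center_iff.1 (hcen hu) g, mul_inv_cancel_right]
  have hU0 : InP (P : Subgroup G) U₀ g := ⟨hUZ.trans inf_le_left, fun u hu => by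
    rw [cj_apply, hfixG u hu]; exact (hUZ hu).1⟩
  exact hres _ _ _ le_sup_left (hA.sup hU0) (hCp _ _ (hA.sup hU0) le_sup_right hfixG)

variable {p : ℕ} [Fact p.Prime] {W : ∀ (Q : Type u) [Group Q], Subgroup Q}
  {Ω : Type u} [Group Ω] {S : Subgroup Ω} [Finite S] {F : FusionSystem S}

theorem le_normalizerIn_Wof (hS : IsPGroup p S) (hW : IsoInv p W) :
    S ≤ normalizerIn S (Wof W S) :=
  fun _ hx => ⟨hx, normalizer_le_Wof hW hS (Subgroup.le_normalizer hx)⟩

theorem center_le_centre (hS : IsPGroup p S) (hW : IsoInv p W)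
    (N : FusionSystem (normalizerIn S (Wof W S))) (_hN : F.IsNormalizerSystem (Wof W S) N) :
    N.center ≤ S ⊓ Subgroup.centralizer (S : Set Ω) := by
  have : Finite (normalizerIn S (Wof W S)) := finite_of_le normalizerIn_le
  intro z hz
  have h := CharP.Climbing.center_le_centre N hz
  exact ⟨h.1.1, fun s hs => h.2 s (le_normalizerIn_Wof hS hW hs)⟩

theorem center_le (hS : IsPGroup p S) (hW : IsoInv p W) (_hF : F.IsSaturated p)
    (N : FusionSystem (normalizerIn S (Wof W S))) (hN : F.IsNormalizerSystem (Wof W S) N) :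
    F.center ≤ N.center := by
  have hc := isCentral_iff.1 (center_isCentral (F := F))
  refine Fusion.Normal.le_center (isCentral_iff.2
    ⟨hc.1.trans (le_normalizerIn_Wof hS hW), fun P f hf => ?_⟩)
  obtain ⟨hP, g, hg, he, himg⟩ := (isMap_normalizer_iff hN).1 hf
  obtain ⟨h, hh, hhe, hfix⟩ := hc.2 _ g hg
  refine ⟨h, (isMap_normalizer_iff hN).2
    ⟨sup_le hP (hc.1.trans (le_normalizerIn_Wof hS hW)), h, ?_, fun _ _ => rfl, ?_⟩,
    fun x hx => ?_, hfix⟩
  · rwa [sup_right_comm]
  · rw [img_congr fun x hx => hhe x (Subgroup.mem_sup_right hx), himg]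
  · rw [hhe x (Subgroup.mem_sup_left hx), he x hx]


/-- Let p be an odd prime and W a positive characteristic p-functor: W assigns to every finite p-group Q (in a fixed universe) a subgroup W(Q), nontrivial when Q is, carried to W(R) by every isomorphism Q ≅ R; assume also Z(Q) ≤ W(Q) for every finite p-group Q. Suppose W satisfies the local condition: for every finite group G with Sylow p-subgroup P, O_p(G) ∩ Z(G) = O_p(G) ∩ Z(N_G(W(P))). Then W controls weak closure of elements in every saturated fusion system F over a finite p-group S: the centre of the normalizer fusion system of W(S) in F equals the centre of F. (For p = 2 no functor satisfies the local condition, so p is taken odd.) -/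
theorem result {p : ℕ} [Fact p.Prime] (hp : p ≠ 2) (W : ∀ (Q : Type u) [Group Q], Subgroup Q) (hW1 : ∀ (Q : Type u) [Group Q] [Finite Q], IsPGroup p Q → Nontrivial Q → W Q ≠ ⊥) (hW2 : ∀ (Q R : Type u) [Group Q] [Group R] [Finite Q], IsPGroup p Q → ∀ φ : Q ≃* R, (W Q).map φ.toMonoidHom = W R) (hWZ : ∀ (Q : Type u) [Group Q] [Finite Q], IsPGroup p Q → Subgroup.center Q ≤ W Q) (hC : ∀ (G : Type u) [Group G] [Finite G] (P : Sylow p G), Cfsg.pCore p G ⊓ Subgroup.center G = Cfsg.pCore p G ⊓ (Subgroup.center ↥(Subgroup.normalizer (((W ↥(P : Subgroup G)).map (P : Subgroup G).subtype : Subgroup G) : Set G))).map (Subgroup.normalizer (((W ↥(P : Subgroup G)).map (P : Subgroup G).subtype : Subgroup G) : Set G)).subtype) {Ω : Type u} [Group Ω] {S : Subgroup Ω} [Finite S] (hS : IsPGroup p S) (F : Cfsg.FusionSystem S) (hF : F.IsSaturated p) (N : Cfsg.FusionSystem (Cfsg.FusionSystem.normalizerIn S ((W ↥S).map S.subtype))) (hN : F.IsNormalizerSystem ((W ↥S).map S.subtype) N) : N.center = F.center := by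
  have hfinN : Finite (Cfsg.FusionSystem.normalizerIn S ((W ↥S).map S.subtype)) :=
    Fusion.Saturation.finite_of_le inf_le_left
  refine le_antisymm ?_ (center_le hS hW2 hF N hN)
  refine Fusion.Normal.le_center (CharP.Climbing.isCentral_of_local (fix := True) (m := 0) hS hF
    hW2 hWZ ?_ (local_center W hWZ hC) (N := N) hN le_rfl)
  intro z hz
  exact Subgroup.subset_closure ⟨z, center_le_centre hS hW2 N hN hz, by simp⟩

end Cfsg.Agent.S5196
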