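import Cfsg.Statements.S5193
import Cfsg.Agent.Lib.CharP.LocalThompson
import Cfsg.Agent.S5196

set_option autoImplicit false
open Cfsg

namespace Cfsg.Agent.S5193

/-- Glauberman's Theorem for fusion systems. Let F be a saturated fusion system over a finite p-group S, let J(S) be the subgroup generated by the abelian subgroups of S of largest order, and let N be the normalizer fusion system of J(S) in F (a fusion system over N_S(J(S)) = S). Then every p-th power of an element of Z(S) that lies in the centre of N lies in the centre of F; and if p is odd, or if the symmetric group of degree 4 is not involved in any model of the normalizer system of a fully normalized F-centric subgroup (F is S₄-free), then the centre of N equals the centre of F. -/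
theorem result {Ω : Type*} [Group Ω] {S : Subgroup Ω} [Finite S] (p : ℕ) [Fact p.Prime] (hS : IsPGroup p S) (F : Cfsg.FusionSystem S) (hF : F.IsSaturated p) (N : Cfsg.FusionSystem (Cfsg.FusionSystem.normalizerIn S (Cfsg.thompsonSubgroupAOf S))) (hN : F.IsNormalizerSystem (Cfsg.thompsonSubgroupAOf S) N) : Subgroup.closure ((fun z : Ω => z ^ p) '' ((S ⊓ Subgroup.centralizer (S : Set Ω) : Subgroup Ω) : Set Ω)) ⊓ N.center ≤ F.center ∧ (p ≠ 2 ∨ F.IsSectionFree p (Equiv.Perm (Fin 4)) → N.center = F.center) := by
  have hfinN : Finite (Cfsg.FusionSystem.normalizerIn S (Cfsg.thompsonSubgroupAOf S)) :=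
    Fusion.Saturation.finite_of_le inf_le_left
  have hiso := CharP.LocalJ.isoInv_J.{_} (p := p)
  refine ⟨Fusion.Normal.le_center (CharP.Climbing.isCentral_of_local
    (W := CharP.LocalJ.J.{_}) (fix := False) (m := 1) hS hF hiso
    (fun Q _ _ _ => CharP.LocalJ.center_le_J) (inf_le_left.trans (CharP.Climbing.powerClosure_one_eq p _))
    CharP.LocalJ.local_J (N := N) hN inf_le_right), fun halt => ?_⟩
  refine le_antisymm ?_ (S5196.center_le (W := CharP.LocalJ.J.{_}) hS hiso hF N hN)
  refine Fusion.Normal.le_center (CharP.ClimbingFree.isCentral_of_local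
    (W := CharP.LocalJ.J.{_}) (fix := True) (m := 0) hS hF hiso
    (fun Q _ _ _ => CharP.LocalJ.center_le_J) ?_ (CharP.LocalModel.altModels_of_free hS hF halt)
    (fun G _ _ T hchar hG U₀ N₀ hU₀ =>
      CharP.LocalThompson.local_center T hchar hG U₀ N₀ hU₀)
    (N := N) hN le_rfl)
  intro z hz
  exact Subgroup.subset_closure ⟨z, S5196.center_le_centre (W := CharP.LocalJ.J.{_}) hS hiso N hN hz, by simp⟩

end Cfsg.Agent.S5193
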