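import Cfsg.Statements.S5198
import Cfsg.Agent.Lib.Fusion.Hyperfocal

set_option autoImplicit false
open Cfsg

namespace Cfsg.Agent.S5198

open Cfsg.FusionSystem Cfsg.Agent.Fusion.Basic Cfsg.Agent.Fusion.Saturation Cfsg.Agent.Fusion.Normal Cfsg.Agent.Fusion.Hyperfocal Cfsg.Agent.Fusion.Factor

/-- Let F be a saturated fusion system over a finite p-group S and T a subgroup of S strongly closed in F (so T is normal in S). Then every element x of the hyperfocal subgroup of F acts on T by conjugation as an element of O^p(Aut_F(T))·Inn(T): there is an automorphism of T in the subgroup generated by the elements of Aut_F(T) of order prime to p together with the inner automorphisms of T that agrees with conjugation by x. -/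
theorem result {Ω : Type*} [Group Ω] {S : Subgroup Ω} [Finite S] (p : ℕ) [Fact p.Prime] (hS : IsPGroup p S) (F : Cfsg.FusionSystem S) (hF : F.IsSaturated p) (T : Subgroup Ω) (hT : F.StronglyClosed T) : ∀ x ∈ F.hyperfocalSubgroup p, ∃ α ∈ ((Cfsg.pResidual p ↥(F.autGroup T)).map (F.autGroup T).subtype ⊔ Cfsg.Inn ↥T : Subgroup (MulAut ↥T)), ∀ t : ↥T, ((α t : ↥T) : Ω) = x * (t : Ω) * x⁻¹ := by
  set A : Subgroup (MulAut T) := (pResidual p ↥(F.autGroup T)).map (F.autGroup T).subtype ⊔ Inn ↥T with hA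
  have : Finite T := finite_of_le hT.1
  have hTn : S ≤ Subgroup.normalizer (T : Set Ω) := le_normalizer_of_stronglyClosed hT
  let N : Subgroup Ω :=
    { carrier := {x | ∃ α ∈ A, ∀ t : T, ((α t : T) : Ω) = x * (t : Ω) * x⁻¹}
      one_mem' := ⟨1, A.one_mem, fun t => by simp⟩
      mul_mem' := by
        rintro a b ⟨α, hα, ha⟩ ⟨β, hβ, hb⟩
        refine ⟨α * β, A.mul_mem hα hβ, fun t => ?_⟩
        rw [MulAut.mul_apply, ha, hb]
        simp [mul_assoc]
      inv_mem' := by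
        rintro a ⟨α, hα, ha⟩
        refine ⟨α⁻¹, A.inv_mem hα, fun t => ?_⟩
        have h1 := ha (α⁻¹ t)
        rw [MulAut.apply_inv_self] at h1
        rw [h1]
        group }
  intro x hx
  refine (hyp_le_of (N := N) (fun P hP α hα y hy => ?_)) hx
  obtain ⟨γ, hγ, hγe⟩ := exists_lift_aut hS hF hT hP hα
  have hR : P ⊔ T ≤ S := sup_le hP hT.1
  set u := autFun (γ : MulAut (P ⊔ T : Subgroup Ω)) y with hu
  have hTN : ∀ t ∈ T, t ∈ N := fun t ht =>
    ⟨MulAut.conj (⟨t, ht⟩ : T), Subgroup.mem_sup_right ⟨_, rfl⟩, fun _ => rfl⟩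
  have key : y⁻¹ * u ∈ N := by
    have hm := isMap_of_mem_autGroup hR γ.2
    have hyR : y ∈ P ⊔ T := Subgroup.mem_sup_left hy
    obtain ⟨δ, hδ, hδe⟩ := (hm.restrict (le_sup_right : T ≤ P ⊔ T)).exists_aut
      (stronglyClosed_img hT hm le_sup_right)
    obtain ⟨c, hc, hce⟩ := (isMap_cj (F := F) hT.1 (hP hy)).exists_aut
      (img_cj_eq_of_mem_normalizer (hTn (hP hy)))
    have hpow : ∀ m : ℕ, ∀ t ∈ T, autFun (δ ^ m) t =
        autFun ((γ : MulAut (P ⊔ T : Subgroup Ω)) ^ m) t := by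
      intro m
      induction m with
      | zero => intro t _; rw [pow_zero, pow_zero, autFun_one, autFun_one]
      | succ m ih =>
        intro t ht
        rw [pow_succ', pow_succ', autFun_mul, autFun_mul, hδe _ (autFun_mem _ ht), ih t ht]
    have hδo : (orderOf δ).Coprime p := by
      refine Nat.Coprime.coprime_dvd_left (orderOf_dvd_of_pow_eq_one (autFun_ext fun t ht => ?_)) hγ
      have h1 : (γ : MulAut (P ⊔ T : Subgroup Ω)) ^ orderOf γ = 1 :=
        congrArg Subtype.val (pow_orderOf_eq_one γ)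
      rw [hpow _ t ht, h1, autFun_one, autFun_one]
    have hpr : ∀ ε ∈ F.autGroup T, (orderOf ε).Coprime p → ε ∈ A := fun ε hε ho =>
      Subgroup.mem_sup_left ⟨⟨ε, hε⟩,
        Subgroup.subset_closure (show (orderOf (⟨ε, hε⟩ : F.autGroup T)).Coprime p by
          rwa [← Subgroup.orderOf_coe]), rfl⟩
    have h2 : c⁻¹ * δ * c ∈ A := by
      refine hpr _ ((F.autGroup T).mul_mem ((F.autGroup T).mul_mem ((F.autGroup T).inv_mem hc) hδ) hc) ?_
      rwa [SemiconjBy.orderOf_eq c (show SemiconjBy c (c⁻¹ * δ * c) δ by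
        simp [SemiconjBy, mul_assoc])]
    refine ⟨c⁻¹ * δ * c * δ⁻¹, A.mul_mem h2 (A.inv_mem (hpr δ hδ hδo)), fun t => ?_⟩
    rw [← autFun_apply, autFun_mul, autFun_mul, autFun_mul]
    set w := autFun δ⁻¹ (t : Ω) with hw
    have hwT : w ∈ T := autFun_mem _ t.2
    rw [hce w hwT]
    have hcw : cj y w ∈ T := by rw [← hce w hwT]; exact autFun_mem _ hwT
    rw [hδe _ hcw, cj_apply, hm.map_conj hyR (Subgroup.mem_sup_right hwT)]
    have h3 : autFun (γ : MulAut (P ⊔ T : Subgroup Ω)) w = t := by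
      rw [← hδe w hwT, hw, autFun_apply_inv]
    rw [h3, ← hu]
    have hz : u * (t : Ω) * u⁻¹ ∈ T := by
      rw [← h3, hu, ← hm.map_conj hyR (Subgroup.mem_sup_right hwT), ← hδe _ (cj_apply y w ▸ hcw)]
      exact autFun_mem _ (cj_apply y w ▸ hcw)
    have h4 := hce _ (autFun_mem c⁻¹ hz)
    rw [autFun_apply_inv, cj_apply] at h4
    calc autFun c⁻¹ (u * (t : Ω) * u⁻¹)
        = y⁻¹ * (y * autFun c⁻¹ (u * (t : Ω) * u⁻¹) * y⁻¹) * y := by group
      _ = y⁻¹ * (u * (t : Ω) * u⁻¹) * y := by rw [← h4]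
      _ = y⁻¹ * u * (t : Ω) * (y⁻¹ * u)⁻¹ := by group
  have h5 : y⁻¹ * autFun (α : MulAut P) y =
      y⁻¹ * u * ((autFun (α : MulAut P) y)⁻¹ * u)⁻¹ := by group
  rw [h5]
  exact N.mul_mem key (N.inv_mem (hTN _ (hγe y hy)))

end Cfsg.Agent.S5198
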