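import Cfsg.Statements.S5200
import Cfsg.Agent.Lib.Fusion.CentralizeNormalOdd

set_option linter.all false

set_option autoImplicit false
open Cfsg

namespace Cfsg.Agent.S5200

/-- Let F be a saturated fusion system over a finite p-group S and E a normal subsystem of F over T whose centralizer in S lies in T: every subgroup Y of C_S(T) such that E is contained in the centralizer fusion system of Y in F satisfies Y ≤ T. Then T·C_S(T)/T is abelian (the commutator subgroup of T·C_S(T) lies in T), and if p is odd then C_S(T) ≤ T. -/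
theorem result {Ω : Type*} [Group Ω] {S : Subgroup Ω} [Finite S] (p : ℕ) [Fact p.Prime] (hS : IsPGroup p S) (F : Cfsg.FusionSystem S) (hF : F.IsSaturated p) {T : Subgroup Ω} (E : Cfsg.FusionSystem T) (hE : E.IsNormalIn F p) (hCE : ∀ Y : Subgroup Ω, Y ≤ Cfsg.FusionSystem.centralizerIn S T → (∀ C : Cfsg.FusionSystem (Cfsg.FusionSystem.centralizerIn S Y), F.IsCentralizerSystem Y C → E.IsSubsystemOf C) → Y ≤ T) : ⁅T ⊔ Cfsg.FusionSystem.centralizerIn S T, T ⊔ Cfsg.FusionSystem.centralizerIn S T⁆ ≤ T ∧ (p ≠ 2 → Cfsg.FusionSystem.centralizerIn S T ≤ T) := by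
  open Cfsg.FusionSystem Cfsg.Agent.Fusion.Basic Cfsg.Agent.Fusion.Saturation
    Cfsg.Agent.Fusion.Normal Cfsg.Agent.Fusion.CentralizeNormal in
  exact (by
    have hinv : E.IsInvariantIn F := hE.1.2.2
    have hT : F.StronglyClosed T := hinv.2.1
    have hTS : T ≤ S := hT.1
    have hY : ∀ y ∈ centralizerIn S T,
        (∀ (P : Subgroup Ω) (f : Ω → Ω), IsMap E P f → Fixes F y P f) → y ∈ T := by
      intro y hy hfix
      refine hCE (Subgroup.zpowers y) (Subgroup.zpowers_le.2 hy) ?_ (Subgroup.mem_zpowers y)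
      intro D hD P φ hφ
      have hle := E.le_of_mem hφ
      have hc : ∀ t ∈ T, t ∈ centralizerIn S (Subgroup.zpowers y) := fun t ht => ⟨hTS ht, fun q hq => by
        obtain ⟨n, rfl⟩ := Subgroup.mem_zpowers_iff.1 hq
        exact (show Commute y t from (hy.2 t ht).symm).zpow_left n⟩
      obtain ⟨g, hg, hgP, hgy⟩ := hfix P _ (IsMap.of_hom hφ)
      rw [hD P]
      refine ⟨hinv.1 P hφ, fun x hx => hc x (hle.1 hx), fun x => hc _ (hle.2 x), hg.hom,
        hg.hom_mem_self, fun x => (hgP x x.2).trans (ext_apply φ x), fun x => ?_⟩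
      obtain ⟨n, hn⟩ := Subgroup.mem_zpowers_iff.1 x.2
      have hz := hg.restrict (le_sup_right : Subgroup.zpowers y ≤ P ⊔ Subgroup.zpowers y)
      have h1 : g (y ^ n) = g y ^ n := map_zpow hz.hom ⟨y, Subgroup.mem_zpowers y⟩ n
      show g (x : Ω) = x
      rw [← hn, h1, hgy]
    refine ⟨?_, fun hp v hv => ?_⟩
    · have hnorm : centralizerIn S T ≤ Subgroup.normalizer (T : Set Ω) := fun c hc =>
        Subgroup.centralizer_le_normalizer _ hc.2
      refine Subgroup.commutator_le.2 fun a ha b hb => ?_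
      have ha' : a ∈ ((T ⊔ centralizerIn S T : Subgroup Ω) : Set Ω) := ha
      have hb' : b ∈ ((T ⊔ centralizerIn S T : Subgroup Ω) : Set Ω) := hb
      rw [Subgroup.coe_mul_of_right_le_normalizer_left _ _ hnorm] at ha' hb'
      obtain ⟨t, ht, c, hc, rfl⟩ := ha'
      obtain ⟨u, hu, d, hd, rfl⟩ := hb'
      have hy : c * d * c⁻¹ * d⁻¹ ∈ centralizerIn S T :=
        mul_mem (mul_mem (mul_mem hc hd) (Subgroup.inv_mem _ hc)) (Subgroup.inv_mem _ hd)
      have h1 : c * d * c⁻¹ * d⁻¹ ∈ T := hY _ hy (fixes_of_normal hS hF hE hy fun R hR γ hγ =>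
        fixes_commutator (C := centralizerIn S T) (fun w (hw : w ∈ centralizerIn S T) => Subgroup.centralizer_le hR hw.2) hγ hc hd)
      have cu : Commute c u := (hc.2 u hu).symm
      have ct : Commute d t := (hd.2 t ht).symm
      have e : (t * c) * (u * d) * (t * c)⁻¹ * (u * d)⁻¹
          = t * u * (c * d * c⁻¹ * d⁻¹) * t⁻¹ * u⁻¹ := by
        rw [mul_inv_rev, mul_inv_rev]
        calc t * c * (u * d) * (c⁻¹ * t⁻¹) * (d⁻¹ * u⁻¹)
            = t * (c * u) * d * c⁻¹ * (t⁻¹ * d⁻¹) * u⁻¹ := by group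
          _ = t * (u * c) * d * c⁻¹ * (d⁻¹ * t⁻¹) * u⁻¹ := by
            rw [cu.eq, (ct.inv_inv).symm.eq]
          _ = _ := by group
      rw [commutatorElement_def, e]
      exact mul_mem (mul_mem (mul_mem (mul_mem ht hu) h1) (Subgroup.inv_mem _ ht))
        (Subgroup.inv_mem _ hu)
    · obtain ⟨v₂, hv₂, hfix⟩ :=
        Cfsg.Agent.Fusion.CentralizeNormalOdd.exists_fixed_coset hS hF hE hp hv
      have hv₂C : v₂ ∈ centralizerIn S T := by
        rw [show v₂ = v * (v⁻¹ * v₂) from (mul_inv_cancel_left _ _).symm]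
        exact mul_mem hv ⟨hTS hv₂.1, hv₂.2⟩
      have h2 := mul_mem (hY v₂ hv₂C hfix) (Subgroup.inv_mem _ hv₂.1)
      simpa using h2)

end Cfsg.Agent.S5200
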