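import Cfsg.Statements.S5201
import Cfsg.Agent.Lib.Fusion.HypCore

set_option autoImplicit false
open Cfsg

namespace Cfsg.Agent.S5201

/-- A reduction to normal subsystems. Let F be a saturated fusion system over a finite p-group S and E a normal subsystem of F over T whose centralizer in S lies in T (every subgroup Y of C_S(T) with E contained in the centralizer fusion system of Y in F satisfies Y ≤ T), and suppose Aut_F(T)/Aut_E(T) is p-solvable. Then F and E have the same residual limit: if F∞ is the residual limit of F (reached by alternately passing to the p-residual and the p'-residual subsystem until nothing changes) and E∞ that of E, then F∞ and E∞ have the same maps. -/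
theorem result {Ω : Type*} [Group Ω] {S : Subgroup Ω} [Finite S] (p : ℕ) [Fact p.Prime] (hS : IsPGroup p S) (F : Cfsg.FusionSystem S) (hF : F.IsSaturated p) {T : Subgroup Ω} (E : Cfsg.FusionSystem T) (hE : E.IsNormalIn F p) (hCE : ∀ Y : Subgroup Ω, Y ≤ Cfsg.FusionSystem.centralizerIn S T → (∀ C : Cfsg.FusionSystem (Cfsg.FusionSystem.centralizerIn S Y), F.IsCentralizerSystem Y C → E.IsSubsystemOf C) → Y ≤ T) [hn : ((E.autGroup T).subgroupOf (F.autGroup T)).Normal] (hsolv : Cfsg.IsPSolvable p (↥(F.autGroup T) ⧸ (E.autGroup T).subgroupOf (F.autGroup T))) {U V : Subgroup Ω} (Finf : Cfsg.FusionSystem U) (hFinf : Finf.IsResidualLimitOf F p) (Einf : Cfsg.FusionSystem V) (hEinf : Einf.IsResidualLimitOf E p) : ∀ P : Subgroup Ω, Finf.Hom P = Einf.Hom P := by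
  open Cfsg.FusionSystem Cfsg.Agent.Fusion Cfsg.Agent.Fusion.Basic Cfsg.Agent.Fusion.Saturation
    Cfsg.Agent.Fusion.ResidualLimit Cfsg.Agent.Fusion.ComponentExists in
  exact (by
    obtain ⟨F₀, h₀⟩ := NormalCore.exists_core _ hS hF hE hsolv (T ⊔ centralizerIn S T) rfl rfl
    have hWS : T ⊔ centralizerIn S T ≤ S :=
      Subsystems.subsystem_le h₀.normal.1.2.2.1
    have hfinW : Finite (T ⊔ centralizerIn S T : Subgroup Ω) := finite_of_le hWS
    obtain ⟨h1, h2, h3⟩ := limit_facts hFinf hS hF
    have hU := h₀.perfect _ _ h1 h2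
    have hsub₀ := subnormal_in_normal h1 inferInstance inferInstance hS hF h2.2 h₀.normal hU
    have hUT := (le_hyp h₀.normal.1.1 hsub₀ h2).trans
      (HypCore.hyp_le hS hF hE hCE h₀.normal.1.2.2.1 h₀.normal.1.1 h₀.aut)
    have hsub := subnormal_in_normal h1 inferInstance inferInstance hS hF h2.2 hE hUT
    have hfinT : Finite T := finite_of_le (Subsystems.subsystem_le hE.1.2.2.1)
    obtain ⟨e1, e2, e3⟩ := limit_facts hEinf
      (hS.to_le (Subsystems.subsystem_le hE.1.2.2.1)) hE.1.1
    intro P
    exact limit_eq (e3 _ _ hsub h2)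
      (h3 _ _ (subnormal_trans e1 (normal_subnormal hE)) e2) P)

end Cfsg.Agent.S5201
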