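import Cfsg.Statements.S5202
import Cfsg.Agent.Lib.Fusion.NormalCore

set_option autoImplicit false
open Cfsg

namespace Cfsg.Agent.S5202

/-- Let F be a saturated fusion system over a finite p-group S and E a normal subsystem of F over T such that Aut_F(T)/Aut_E(T) is p-solvable. Then there is a normal subsystem F₀ of F over T·C_S(T) containing E, with Aut_{F₀}(T) = Aut_E(T), containing every residual limit of F, and whose residual limits have the same maps as those of F. -/
theorem result {Ω : Type*} [Group Ω] {S : Subgroup Ω} [Finite S] (p : ℕ) [Fact p.Prime] (hS : IsPGroup p S) (F : Cfsg.FusionSystem S) (hF : F.IsSaturated p) {T : Subgroup Ω} (E : Cfsg.FusionSystem T) (hE : E.IsNormalIn F p) [hn : ((E.autGroup T).subgroupOf (F.autGroup T)).Normal] (hsolv : Cfsg.IsPSolvable p (↥(F.autGroup T) ⧸ (E.autGroup T).subgroupOf (F.autGroup T))) : ∃ F₀ : Cfsg.FusionSystem (T ⊔ Cfsg.FusionSystem.centralizerIn S T), F₀.IsNormalIn F p ∧ E.IsSubsystemOf F₀ ∧ F₀.autGroup T = E.autGroup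 T ∧ ∀ {U : Subgroup Ω} (Finf : Cfsg.FusionSystem U), Finf.IsResidualLimitOf F p → Finf.IsSubsystemOf F₀ ∧ ∀ {V : Subgroup Ω} (L : Cfsg.FusionSystem V), L.IsResidualLimitOf F₀ p → ∀ P : Subgroup Ω, L.Hom P = Finf.Hom P := by
  open Cfsg.FusionSystem Cfsg.Agent.Fusion Cfsg.Agent.Fusion.Basic Cfsg.Agent.Fusion.Saturation
    Cfsg.Agent.Fusion.ResidualLimit Cfsg.Agent.Fusion.ComponentExists in
  exact (by
    obtain ⟨F₀, h₀⟩ := NormalCore.exists_core _ hS hF hE hsolv (T ⊔ centralizerIn S T) rfl rfl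
    have hWS : T ⊔ centralizerIn S T ≤ S :=
      Subsystems.subsystem_le h₀.normal.1.2.2.1
    have hfinW : Finite (T ⊔ centralizerIn S T : Subgroup Ω) := finite_of_le hWS
    refine ⟨F₀, h₀.normal, h₀.sub, le_antisymm h₀.aut (Focal.autGroup_mono h₀.sub T),
      fun Finf hFinf => ?_⟩
    obtain ⟨h1, h2, h3⟩ := limit_facts hFinf hS hF
    have hU := h₀.perfect _ _ h1 h2
    have hsub := subnormal_in_normal h1 inferInstance inferInstance hS hF h2.2 h₀.normal hU
    refine ⟨Component.subsystem_of_subnormal hsub, fun L hL P => ?_⟩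
    obtain ⟨l1, l2, l3⟩ := limit_facts hL (hS.to_le hWS) h₀.normal.1.1
    exact limit_eq (h3 _ _ (subnormal_trans l1 (normal_subnormal h₀.normal)) l2)
      (l3 _ _ hsub h2) P)

end Cfsg.Agent.S5202
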