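import Cfsg.Statements.S5203
import Mathlib
import Cfsg.Agent.Lib.Fusion.Hyperfocal
import Cfsg.Agent.Lib.Fusion.Focal
import Cfsg.Agent.Lib.Fusion.PPowerIndex
import Cfsg.Agent.Lib.Fusion.PPowerNormal
import Cfsg.Agent.Lib.Fusion.Subsystems
-- import your own Cfsg.Agent.* helpers here

set_option autoImplicit false
set_option linter.all false
open Cfsg

namespace Cfsg.Agent.S5203

open Cfsg Cfsg.FusionSystem Cfsg.Agent.Fusion Cfsg.Agent.Fusion.Basic Cfsg.Agent.Fusion.Saturation

variable {Ω : Type*} [Group Ω] {p : ℕ} [Fact p.Prime]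

/-- A subsystem of `p`-power index has the same hyperfocal subgroup. -/
theorem hyp_eq {S T : Subgroup Ω} [Finite S] (hS : IsPGroup p S) {F : FusionSystem S}
    {E : FusionSystem T} (hE : E.HasPPowerIndexIn F p) (hT : T ≤ S) :
    E.hyperfocalSubgroup p = F.hyperfocalSubgroup p := by
  have : Finite T := finite_of_le hT
  refine le_antisymm (Focal.hyp_mono hT hE.1) (Hyperfocal.hyp_le_of fun P hP α hα x hx => ?_)
  set V := E.hyperfocalSubgroup p
  set a : MulAut P := (α : MulAut P) with ha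
  have hcop : (orderOf a).Coprime p := by rw [ha, Subgroup.orderOf_coe]; exact hα
  set w := x⁻¹ * autFun a x with hw
  have hwP : w ∈ P := P.mul_mem (P.inv_mem hx) (autFun_mem a hx)
  have hwT : w ∈ T := hE.2.1 (Focal.mem_hyp (F := F) hP
    ⟨α, Subgroup.subset_closure hα, rfl⟩ hx)
  have hR : P ⊓ T ≤ P := inf_le_left
  have : Finite (P ⊓ T : Subgroup Ω) := finite_of_le (inf_le_right : P ⊓ T ≤ T)
  have hinv : ∀ u ∈ P ⊓ T, autFun a u ∈ P ⊓ T := by
    rintro u ⟨huP, huT⟩
    refine ⟨autFun_mem a huP, ?_⟩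
    have h1 := hE.2.1 (Focal.mem_hyp (F := F) hP ⟨α, Subgroup.subset_closure hα, rfl⟩ huP)
    have h2 := T.mul_mem huT h1
    rwa [mul_inv_cancel_left] at h2
  have hm := (isMap_of_mem_autGroup hP α.2).restrict hR
  obtain ⟨γ, hγ, hγe⟩ := hm.exists_aut (eq_of_le_card (img_le hinv) hm.card_img.ge)
  have hpow : ∀ n : ℕ, ∀ u ∈ P ⊓ T, autFun (γ ^ n) u = autFun (a ^ n) u := by
    intro n
    induction n with
    | zero => intro u _; simp [autFun_one]
    | succ n ih =>
      intro u hu
      rw [pow_succ, autFun_mul, ih _ (autFun_mem γ hu), hγe u hu, pow_succ, autFun_mul]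
  have hγc : (orderOf γ).Coprime p := Nat.Coprime.coprime_dvd_left (orderOf_dvd_of_pow_eq_one
    (autFun_ext fun u hu => by rw [hpow _ u hu, pow_orderOf_eq_one, autFun_one, autFun_one])) hcop
  have hγE := PPowerNormal.pPrime_mem hE inf_le_right hγ hγc
  have hV : ∀ u ∈ P ⊓ T, u⁻¹ * autFun a u ∈ V := by
    intro u hu
    rw [← hγe u hu]
    exact Focal.mem_hyp (F := E) inf_le_right ⟨⟨γ, hγE⟩, Subgroup.subset_closure
      (show (orderOf (⟨γ, hγE⟩ : E.autGroup (P ⊓ T))).Coprime p by rwa [Subgroup.orderOf_mk]),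
      rfl⟩ hu
  have hwa : ∀ n : ℕ, autFun a (w ^ n) ∈ P ⊓ T := fun n =>
    hinv _ (Subgroup.pow_mem _ (show w ∈ P ⊓ T from ⟨hwP, hwT⟩) n)
  have hiter : ∀ n : ℕ, (x * w ^ n)⁻¹ * autFun (a ^ n) x ∈ V := by
    intro n
    induction n with
    | zero => simp [autFun_one, V.one_mem]
    | succ n ih =>
      set v := (x * w ^ n)⁻¹ * autFun (a ^ n) x with hv
      have hvPT : v ∈ P ⊓ T := ⟨P.mul_mem (P.inv_mem (P.mul_mem hx (P.pow_mem hwP n)))
        (autFun_mem (a ^ n) hx), Focal.hyp_le ih⟩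
      have hxn : autFun (a ^ n) x = x * w ^ n * v := by rw [hv, mul_inv_cancel_left]
      rw [pow_succ' a, autFun_mul, hxn, autFun_isHom a _ (P.mul_mem hx (P.pow_mem hwP n)) _ hvPT.1,
        autFun_isHom a _ hx _ (P.pow_mem hwP n),
        show autFun a x = x * w by rw [hw, mul_inv_cancel_left]]
      have h1 := hV (w ^ n) (Subgroup.pow_mem _ (show w ∈ P ⊓ T from ⟨hwP, hwT⟩) n)
      have h2 := V.mul_mem ih (hV v hvPT)
      have h3 : (x * w ^ (n + 1))⁻¹ * (x * w * autFun a (w ^ n) * autFun a v) =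
          ((w ^ n)⁻¹ * autFun a (w ^ n)) * (v * (v⁻¹ * autFun a v)) := by
        rw [pow_succ']; group
      rw [h3]
      exact V.mul_mem h1 h2
  have hfin := hiter (orderOf a)
  rw [pow_orderOf_eq_one, autFun_one, id, mul_inv_rev, inv_mul_cancel_right] at hfin
  obtain ⟨k, hk⟩ := hS ⟨w, hP hwP⟩
  have hk' : w ^ p ^ k = 1 := by simpa using congrArg Subtype.val hk
  obtain ⟨i, j, hij⟩ := (Nat.Coprime.pow_right k hcop).isCoprime
  have : w = (w ^ orderOf a) ^ i * (w ^ p ^ k) ^ j := by
    rw [← zpow_natCast w (orderOf a), ← zpow_natCast w (p ^ k), ← zpow_mul, ← zpow_mul, ← zpow_add,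
      mul_comm _ i, mul_comm _ j, hij, zpow_one]
  rw [this, hk', one_zpow, mul_one]
  exact V.zpow_mem ((inv_mem_iff).1 hfin) i

theorem stable_unique {p : ℕ} {S U : Subgroup Ω} {F : FusionSystem S}
    {Y : FusionSystem U} (h : Y.IsResidualLimitOf F p) :
    ∀ [Fact p.Prime] [Finite S], IsPGroup p S →
    F.hyperfocalSubgroup p = S → F.IsPPrimeResidual p F → ∀ P, Y.Hom P = F.Hom P := by
  induction h with
  | stable => intros; rfl
  | @step S E F p D D' hD hD' hE ih =>
    intro _ _ hS hhyp hres P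
    have hfin : Finite (F.hyperfocalSubgroup p) := finite_of_le Focal.hyp_le
    have key : ∀ {U : Subgroup Ω} (D D' : FusionSystem U), U = S → D.IsSaturated p →
        D.HasPPowerIndexIn F p → D.IsPPrimeResidual p D' →
        D'.hyperfocalSubgroup p = U ∧ D'.IsPPrimeResidual p D' ∧ ∀ P, D'.Hom P = F.Hom P := by
      intro U D₀ D₀' hU h1 h2 h3
      subst hU
      have hF : F.IsSaturated p := hres.1
      have hDF : D₀ = F := PPowerIndex.pPowerIndex_unique hS le_rfl hF
        ⟨fun _ => subset_rfl, Focal.hyp_le, fun P _ => Subgroup.map_subtype_le _⟩ h1 h2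
      subst hDF
      have : D₀' = D₀ := fs_ext_le (fun P => (h3.2.2 D₀ hres.1 hres.2.1) P)
        (fun P => (hres.2.2 D₀' h3.1 h3.2.1) P)
      subst this
      exact ⟨hhyp, hres, fun _ => rfl⟩
    obtain ⟨h1, h2, h3⟩ := key D D' hhyp hD.1 hD.2 hD'
    rw [ih (hS.to_le Focal.hyp_le) h1 h2 P, h3 P]

theorem limit_unique {p : ℕ} {S U V : Subgroup Ω} {F : FusionSystem S}
    {X : FusionSystem U} {Y : FusionSystem V} (hX : X.IsResidualLimitOf F p)
    (hY : Y.IsResidualLimitOf F p) :
    ∀ [Fact p.Prime] [Finite S], IsPGroup p S → ∀ P, X.Hom P = Y.Hom P := by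
  induction hX generalizing V Y with
  | stable F p h1 h2 =>
    intro _ _ hS P
    exact (stable_unique hY hS h1 h2 P).symm
  | @step S E F p D D' hD hD' hE ih =>
    intro _ _ hS P
    cases hY with
    | stable _ _ h1 h2 => exact stable_unique (IsResidualLimitOf.step F p D D' hD hD' hE) hS h1 h2 P
    | step _ _ D₁ D₁' hD₁ hD₁' hE₁ =>
      have hfin : Finite (F.hyperfocalSubgroup p) := finite_of_le Focal.hyp_le
      have h1 : D₁ = D := PPowerIndex.pPowerIndex_unique hS Focal.hyp_le hD.1 hD.2 hD₁.1 hD₁.2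
      subst h1
      have h2 : D₁' = D' := fs_ext_le (hD₁'.2.2 D' hD'.1 hD'.2.1) (hD'.2.2 D₁' hD₁'.1 hD₁'.2.1)
      subst h2
      exact ih hE₁ (hS.to_le Focal.hyp_le) P

theorem step' {S U V : Subgroup Ω} {F : FusionSystem S} {X : FusionSystem V}
    (hU : U = F.hyperfocalSubgroup p) (D D' : FusionSystem U) (h1 : D.IsSaturated p)
    (h2 : D.HasPPowerIndexIn F p) (h3 : D.IsPPrimeResidual p D')
    (h4 : X.IsResidualLimitOf D' p) : X.IsResidualLimitOf F p := by
  subst hU
  exact IsResidualLimitOf.step F p D D' ⟨h1, h2⟩ h3 h4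

/-- Let F be a saturated fusion system over a finite p-group S and E a normal subsystem of F over T that has p-power index in F. Then every residual limit of E has the same maps as every residual limit of F (the residual limit is reached by alternately passing to the p-residual and the p'-residual subsystem until nothing changes). -/
theorem result {Ω : Type*} [Group Ω] {S : Subgroup Ω} [Finite S] (p : ℕ) [Fact p.Prime] (hS : IsPGroup p S) (F : Cfsg.FusionSystem S) (hF : F.IsSaturated p) {T : Subgroup Ω} (E : Cfsg.FusionSystem T) (hE : E.IsNormalIn F p) (hidx : E.HasPPowerIndexIn F p) {U V : Subgroup Ω} (Finf : Cfsg.FusionSystem U) (hFinf : Finf.IsResidualLimitOf F p) (Einf : Cfsg.FusionSystem V) (hEinf : Einf.IsResidualLimitOf E p) : ∀ P : Subgroup Ω, Finf.Hom P = Einf.Hom P := by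
  have hT : T ≤ S := Subsystems.subsystem_le hidx.1
  have : Finite T := finite_of_le hT
  have hEsat : E.IsSaturated p := hE.1.1
  have hhyp := hyp_eq hS hidx hT
  suffices Einf.IsResidualLimitOf F p from limit_unique hFinf this hS
  cases hEinf with
  | stable _ _ h1 h2 =>
    exact step' (h1.symm.trans hhyp) E E hEsat hidx h2 (IsResidualLimitOf.stable E p h1 h2)
  | step _ _ D D' hD hD' hres =>
    refine step' hhyp D D' hD.1 ⟨fun P => (hD.2.1 P).trans (hidx.1 P), hhyp.symm.le, fun P hP => ?_⟩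
      hD' hres
    refine le_trans ?_ (hD.2.2.2 P hP)
    rw [pResidual, MonoidHom.map_closure, Subgroup.closure_le]
    rintro _ ⟨a, ha, rfl⟩
    have hcop : (orderOf (a : MulAut P)).Coprime p := by rw [Subgroup.orderOf_coe]; exact ha
    have haE := PPowerNormal.pPrime_mem hidx (hP.trans Focal.hyp_le) a.2 hcop
    exact ⟨⟨a, haE⟩, Subgroup.subset_closure
      (show (orderOf (⟨(a : MulAut P), haE⟩ : E.autGroup P)).Coprime p by
        rwa [Subgroup.orderOf_mk]), rfl⟩

end Cfsg.Agent.S5203
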