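import Cfsg.Statements.S5214
import Cfsg.Agent.Lib.Fusion.SmallElements
import Cfsg.Agent.Lib.Fusion.EssentialShape
import Cfsg.Agent.Lib.Involutions.Suzuki.Exponent

set_option autoImplicit false
open Cfsg

namespace Cfsg.Agent.S5214

/-- Let S be a Suzuki 2-group (a finite nonabelian 2-group with more than one involution admitting a cyclic group of automorphisms permuting its involutions regularly). Then S is normal in every saturated fusion system over S (such a group is resistant). -/
theorem result {Ω : Type*} [Group Ω] {S : Subgroup Ω} [Finite S] (hS : IsPGroup 2 S) (F : Cfsg.FusionSystem S) (hF : F.IsSaturated 2) (hsz : Cfsg.IsSuzukiTwoGroup ↥S) : F.IsNormal S := by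
  classical
  haveI : Fact (Nat.Prime 2) := ⟨Nat.prime_two⟩
  obtain ⟨K, hK⟩ := Involutions.Suzuki.regular_of_isSuzuki hsz
  obtain ⟨-, h2, hne, ⟨a, b, hab, ha1, ha, hb1, hb⟩, -⟩ := hsz
  have hK1 : ∃ k : K, k ≠ 1 := by
    obtain ⟨k, hk, -⟩ := hK.regular a b ha1 ha hb1 hb
    refine ⟨k, fun h => hab ?_⟩
    rw [← hk, h]
    rfl
  have hf : Involutions.Suzuki.Exponent.Fpf K := by
    intro k hk x hx
    by_contra hx1
    obtain ⟨n, hn⟩ := IsPGroup.iff_orderOf.1 h2 x
    obtain ⟨m, rfl⟩ : ∃ m, n = m + 1 := by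
      refine Nat.exists_eq_succ_of_ne_zero fun h => hx1 ?_
      rw [← orderOf_eq_one_iff, hn, h, pow_zero]
    have hw : x ^ 2 ^ m * x ^ 2 ^ m = 1 := by
      rw [← pow_add, ← two_mul, ← pow_succ', ← hn, pow_orderOf_eq_one]
    have hw1 : x ^ 2 ^ m ≠ 1 := pow_ne_one_of_lt_orderOf (by positivity)
      (hn ▸ Nat.pow_lt_pow_right one_lt_two (Nat.lt_succ_self m))
    obtain ⟨k', hk', huniq⟩ := hK.regular _ _ hw1 hw hw1 hw
    exact hk ((huniq k (by simp [map_pow, hx])).trans (huniq 1 (by simp)).symm)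
  refine Fusion.SmallElements.isNormal_self_of hS hF fun P hP => ?_
  have hPS : P ≤ S := hP.1.1
  haveI : Finite P := Fusion.Saturation.finite_of_le hPS
  refine ⟨Cfsg.pCore 2 (F.autGroup P), Subgroup.sSup_normal _ fun _ hN => hN.1,
    Sylow.sSup_of_normal _ (fun _ hN => hN.2) fun _ hN => hN.1, fun α hα => ?_⟩
  -- the involutions of `P` are central in `S` and contain all squares and commutators
  have hcen : ∀ x : P, x * x = 1 → ∀ g : ↥S,
      g * ⟨x, hPS x.2⟩ = ⟨x, hPS x.2⟩ * g := fun x hx g =>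
    hK.central _ (Subtype.ext (show (x : Ω) * x = 1 by rw [← Subgroup.coe_mul, hx]; rfl)) g
  let Z : Subgroup P :=
    { carrier := {x | x * x = 1}
      one_mem' := one_mul 1
      mul_mem' := fun {x y} hx hy => by
        have h : x * y = y * x := Subtype.ext (congrArg (Subtype.val : ↥S → Ω)
          (hcen y hy ⟨x, hPS x.2⟩))
        show x * y * (x * y) = 1
        rw [show x * y * (x * y) = x * (y * x) * y by group, ← h,
          show x * (x * y) * y = x * x * (y * y) by group, show x * x = 1 from hx,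
          show y * y = 1 from hy, one_mul]
      inv_mem' := fun {x} hx => by
        show x⁻¹ * x⁻¹ = 1
        rw [← mul_inv_rev, show x * x = 1 from hx, inv_one] }
  let C : ℕ → Subgroup P := fun i => if i = 0 then ⊥ else if i = 1 then Z else ⊤
  obtain ⟨g, hg', hgα'⟩ := (Fusion.Basic.mem_autInducedBy_iff' (P := P)).1
    (Subgroup.mem_subgroupOf.1 hα)
  have hg : g ∈ S := hg'.1
  have hgα : ∀ x : P, (((α : MulAut P) x : P) : Ω) = g * x * g⁻¹ := fun x => by
    rw [← Fusion.Basic.autFun_apply]; exact hgα' x x.2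
  refine Fusion.EssentialShape.mem_pCore_of_stabilizes (hS.to_le hPS) _ C 2 (by simp [C])
    (by simp [C]) (fun i hi => ?_) (fun i hi u _ x hx => ?_) (fun i hi x hx => ?_)
  · interval_cases i <;> simp [C]
  · interval_cases i
    · simp only [C, if_true, Subgroup.mem_bot] at hx ⊢
      rw [hx, map_one]
    · show u x * u x = 1
      rw [← map_mul, show x * x = 1 from hx, map_one]
    · simp [C]
  · have hval : ((x⁻¹ * (α : MulAut P) x : P) : Ω) = (x : Ω)⁻¹ * (g * x * g⁻¹) := by
      rw [Subgroup.coe_mul, Subgroup.coe_inv]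
      congr 1
      exact hgα x
    interval_cases i
    · show x⁻¹ * (α : MulAut P) x ∈ (⊥ : Subgroup P)
      rw [Subgroup.mem_bot]
      apply Subtype.ext
      have h := congrArg (Subtype.val : ↥S → Ω) (hcen x hx ⟨g, hg⟩)
      simp only [Subgroup.coe_mul] at h
      rw [hval, h]
      simp
    · show (x⁻¹ * (α : MulAut P) x) * (x⁻¹ * (α : MulAut P) x) = 1
      apply Subtype.ext
      rw [Subgroup.coe_mul, hval]
      have hsq : ∀ y ∈ Involutions.Suzuki.Exponent.squares ↥S, y * y = 1 := by
        intro y hy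
        refine (Subgroup.closure_le (Involutions.Suzuki.Exponent.invols hK)).2 ?_ hy
        rintro - ⟨w, rfl⟩
        exact Involutions.Suzuki.Exponent.sq_sq_eq_one hK h2 hf hK1 hne w
      have h := congrArg (Subtype.val : ↥S → Ω) (hsq _
        (Involutions.Suzuki.Exponent.comm_mem_squares (⟨x, hPS x.2⟩ : ↥S)⁻¹ ⟨g, hg⟩))
      simp only [Subgroup.coe_mul, Subgroup.coe_inv, inv_inv, Subgroup.coe_one] at h
      simpa [mul_assoc] using h

end Cfsg.Agent.S5214
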