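import Cfsg.Statements.S5215
import Cfsg.Agent.Lib.Fusion.RankTwoCentral.Simple
import Cfsg.Agent.Lib.Fusion.Abelian
import Cfsg.Agent.S5214
import Cfsg.Agent.S1141

set_option autoImplicit false
open Cfsg

namespace Cfsg.Agent.S5215

/-- Let S be a finite 2-group of 2-rank 2 (an elementary abelian subgroup of order 4, none of order 8) and F a simple saturated fusion system over S. Then S is dihedral, semidihedral or wreathed, and F is the fusion system of the projective special linear group PSL₂(q) for some odd prime power q ≡ ±1 (mod 8) or of PSL₃(q) for some odd prime power q: it is realized by an injective homomorphism of S into that group whose image is a Sylow 2-subgroup. -/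
theorem result {Ω : Type*} [Group Ω] {S : Subgroup Ω} [Finite S] (hS : IsPGroup 2 S) (F : Cfsg.FusionSystem S) (hF : F.IsSaturated 2) (hr : Cfsg.PRankAtLeast 2 2 ↥S ∧ ¬ Cfsg.PRankAtLeast 2 3 ↥S) (hsimple : F.IsSimple 2) : ((∃ m : ℕ, Nonempty (↥S ≃* DihedralGroup m)) ∨ Cfsg.IsQuasiDihedral ↥S ∨ Cfsg.IsWreathed ↥S) ∧ ∃ (K : Type) (_ : Field K) (_ : Fintype K) (q : ℕ), Fintype.card K = q ∧ Odd q ∧ (((q % 8 = 1 ∨ q % 8 = 7) ∧ ∃ ι : ↥S →* Matrix.ProjectiveSpecialLinearGroup (Fin 2) K, F.IsRealizedBy ι ∧ ∃ T : Sylow 2 (Matrix.ProjectiveSpecialLinearGroup (Fin 2) K), (T : Subgroup (Matrix.ProjectiveSpecialLinearGroup (Fin 2) K)) = ι.range) ∨ (∃ ι : ↥S →* Matrix.ProjectiveSpecialLinearGroup (Fin 3) K, F.IsRealizedBy ι ∧ ∃ T : Sylow 2 (Matrix.ProjectiveSpecialLinearGroup (Fin 3) K), (T : Subgroup (Matrix.ProjectiveSpecialLinearGroup (Fin 3) K)) = ι.range)) := by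
  open Cfsg.Agent.Fusion Cfsg.Agent.Fusion.RankTwoCentral Cfsg.Agent.Fusion.RankTwoSystems in
  haveI : Fact (Nat.Prime 2) := ⟨Nat.prime_two⟩
  have hne : ∀ Q : Subgroup Ω, F.IsNormal Q → Q = ⊥ := fun Q => no_normal hS hr.1 hsimple
  have hS1 : ¬ F.IsNormal S := fun h => hsimple.2.1 (hne S h)
  rcases shape.{_, 0} hS hF hr.1 hr.2 (center_eq_bot hS hr.1 hsimple) with
    ⟨m, hm, ⟨e⟩⟩ | hq | hw | ⟨n, -, ⟨e⟩⟩ | h
  · refine ⟨Or.inl ⟨m, ⟨e⟩⟩, ?_⟩
    have hm4 : 4 ≤ m := by
      by_contra hlt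
      obtain rfl : m = 3 := by omega
      obtain ⟨k, hk⟩ := IsPGroup.iff_card.1 hS
      rw [Nat.card_congr e.toEquiv, DihedralGroup.nat_card] at hk
      rcases k with _ | _ | _ | k <;> simp [pow_succ] at hk
      omega
    obtain ⟨D, -, -, ⟨e'⟩⟩ := exists_dihedral hm4 hS e
    obtain ⟨q, hqp, hq2, hq8, hT⟩ := exists_psl_two D.hn
    obtain ⟨T⟩ : Nonempty (Sylow 2 (Matrix.ProjectiveSpecialLinearGroup (Fin 2) (ZMod q))) :=
      inferInstance
    obtain ⟨eT⟩ := hT T
    have hperf : commutator (Matrix.ProjectiveSpecialLinearGroup (Fin 2) (ZMod q)) = ⊤ :=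
      quot_perfect (π := QuotientGroup.mk' _) (QuotientGroup.mk'_surjective _)
        (Cfsg.Agent.Classical.SL2Rep.commutator_two_eq_top (by rw [ZMod.card]; omega))
    obtain ⟨ι, hι⟩ := realizedBy_sysOf (eT.trans e'.symm)
    rw [← eq_sysOf hS hr.1 hsimple D (eT.trans e'.symm) hperf] at hι
    exact ⟨ZMod q, inferInstance, inferInstance, q, ZMod.card q, Nat.odd_iff.2 hq2,
      Or.inl ⟨Or.inr hq8, ι, hι⟩⟩
  · refine ⟨Or.inr (Or.inl hq), ?_⟩
    obtain ⟨D, -, -, hn⟩ := exists_quasiDihedral hq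
    obtain ⟨q, hqp, hq4, hq, -, hcard⟩ := exists_gl hn
    haveI : Fact q.Prime := ⟨hqp⟩
    have hF : Fintype.card (ZMod q) % 4 = 3 := by rw [ZMod.card]; exact hq4
    obtain ⟨P⟩ : Nonempty (Sylow 2 (GL (Fin 2) (ZMod q))) := inferInstance
    obtain ⟨T⟩ : Nonempty (Sylow 2 (Matrix.ProjectiveSpecialLinearGroup (Fin 3) (ZMod q))) :=
      inferInstance
    obtain ⟨e1⟩ := Cfsg.Agent.Fusion.SylowTwoRankTwo.sylow_PSL_equiv
      (F := ZMod q) (by rw [ZMod.card, Nat.odd_iff]; omega) T P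
    obtain ⟨e2⟩ := Cfsg.Agent.Fusion.TwoExceptional.quasiDihedral_equiv
      (Cfsg.Agent.Involutions.SylowGLTwo.isQuasiDihedral_GL hF P) ‹Cfsg.IsQuasiDihedral ↥S›
      ((hcard _ P).trans D.hcard.symm)
    have hperf : commutator (Matrix.ProjectiveSpecialLinearGroup (Fin 3) (ZMod q)) = ⊤ :=
      quot_perfect (π := QuotientGroup.mk' _) (QuotientGroup.mk'_surjective _)
        (Cfsg.Agent.Classical.Linear.commutator_SL_eq_top (n := Fin 3) (F := ZMod q) (by simp))
    obtain ⟨ι, hι⟩ := realizedBy_sysOf (e1.symm.trans e2)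
    rw [← eq_sysOf hS hr.1 hsimple D (e1.symm.trans e2) hperf] at hι
    exact ⟨ZMod q, inferInstance, inferInstance, q, ZMod.card q, Nat.odd_iff.2 (by omega),
      Or.inr ⟨ι, hι⟩⟩
  · refine ⟨Or.inr (Or.inr hw), ?_⟩
    obtain ⟨D⟩ := Cfsg.Agent.Involutions.Wreathed.exists_gens hw
    obtain ⟨q, hqp, hq3, hq4, hqv⟩ := exists_prime_one (m := D.n) D.hn
    haveI : Fact q.Prime := ⟨hqp⟩
    have hF4 : Fintype.card (ZMod q) % 4 = 1 := by rw [ZMod.card]; exact hq4
    have hodd : Odd (Fintype.card (ZMod q)) := by rw [ZMod.card, Nat.odd_iff]; omega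
    obtain ⟨T₂⟩ : Nonempty (Sylow 2 (GL (Fin 2) (ZMod q))) := inferInstance
    obtain ⟨T⟩ : Nonempty (Sylow 2 (Matrix.ProjectiveSpecialLinearGroup (Fin 3) (ZMod q))) :=
      inferInstance
    obtain ⟨DT⟩ := Cfsg.Agent.Involutions.Wreathed.exists_gens
      (Cfsg.Agent.Involutions.SylowGLTwo.isWreathed_GL hF4 T₂)
    have hn : DT.n = D.n := by
      have h1 : Nat.card (T₂ : Subgroup (GL (Fin 2) (ZMod q))) = 2 ^ (2 * D.n + 1) := by
        rw [T₂.card_eq_multiplicity, Cfsg.Agent.Classical.GL2.natCard_GL_two]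
        congr 1
        have hq1 : (q + 1).factorization 2 = 1 := by
          have a : 1 ≤ (q + 1).factorization 2 :=
            (Nat.Prime.pow_dvd_iff_le_factorization Nat.prime_two (by omega)).1 (by omega)
          by_contra hne
          have := (Nat.Prime.pow_dvd_iff_le_factorization Nat.prime_two
            (show q + 1 ≠ 0 by omega)).2 (by omega : 2 ≤ (q + 1).factorization 2)
          omega
        rw [ZMod.card, Nat.factorization_mul (by omega)
            (mul_ne_zero (pow_ne_zero _ (by omega)) (by omega)),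
          Nat.factorization_mul (pow_ne_zero _ (by omega)) (by omega), Nat.factorization_pow]
        simp only [Finsupp.add_apply, Finsupp.smul_apply, smul_eq_mul, hq1, hqv,
          Nat.factorization_eq_zero_of_not_dvd (show ¬ 2 ∣ q by omega)]
        omega
      have := Nat.pow_right_injective le_rfl (DT.hcard.symm.trans h1)
      omega
    obtain ⟨e₂, -, -, -⟩ := equiv_of_gens DT D hn
    obtain ⟨e⟩ := Cfsg.Agent.Fusion.SylowTwoRankTwo.sylow_PSL_equiv (F := ZMod q) hodd T T₂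
    have hperf : commutator (Matrix.ProjectiveSpecialLinearGroup (Fin 3) (ZMod q)) = ⊤ :=
      quot_perfect (π := QuotientGroup.mk' _) (QuotientGroup.mk'_surjective _)
        (Cfsg.Agent.Classical.Linear.commutator_SL_eq_top (n := Fin 3) (F := ZMod q) (by simp))
    obtain ⟨e', he'⟩ := eq_sysOf_wreathed hS hsimple D (e.symm.trans e₂) hperf
    obtain ⟨ι, hι⟩ := realizedBy_sysOf e'
    rw [← he'] at hι
    exact ⟨ZMod q, inferInstance, inferInstance, q, ZMod.card q, Nat.odd_iff.2 (by omega),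
      Or.inr ⟨ι, hι⟩⟩
  · refine absurd (Abelian.normal_of_stronglyClosed hS hF (fun x hx y hy => ?_)
      (Solvable.stronglyClosed_self F)) hS1
    exact congrArg Subtype.val (e.injective (by rw [map_mul, map_mul, mul_comm]) :
      (⟨x, hx⟩ : S) * ⟨y, hy⟩ = ⟨y, hy⟩ * ⟨x, hx⟩)
  · refine absurd (Cfsg.Agent.S5214.result hS F hF ?_) hS1
    haveI : Fintype (GaloisField 2 4) := Fintype.ofFinite _
    have hK : Fintype.card (GaloisField 2 4) = 16 := by
      rw [← Nat.card_eq_fintype_card, GaloisField.card 2 4 (by norm_num)]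
      norm_num
    obtain ⟨T⟩ := (inferInstance : Nonempty (Sylow 2 (Cfsg.PSU 3 (GaloisField 2 4) (2 ^ 2))))
    obtain ⟨e⟩ := h hK T
    exact Cfsg.Agent.Involutions.SylowPSUThree.isSuzukiTwoGroup_congr e.symm
      (Cfsg.Agent.S1141.result le_rfl (by rw [hK]; norm_num) T).2.2

end Cfsg.Agent.S5215
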