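import Cfsg.Statements.S5248
import Cfsg.Agent.Lib.Fusion.RankTwoSystems.SDModels
import Cfsg.Agent.Lib.Fusion.RankTwoSystems.WreathedModels

set_option autoImplicit false
open Cfsg

namespace Cfsg.Agent.S5248

open Cfsg.Agent.Fusion.RankTwoSystems

/-- Let S be a finite 2-group that is dihedral of order at least 8, generalized quaternion of order at least 8, semidihedral, or wreathed, and let F be a saturated fusion system over S. Then F has at most two F-conjugacy classes of F-essential subgroups (among any three essential subgroups two are joined by a map of F), and F is realizable: it is the fusion system of a finite group on a Sylow 2-subgroup. -/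
theorem result {Ω : Type*} [Group Ω] {S : Subgroup Ω} [Finite S] (hS : IsPGroup 2 S) (F : Cfsg.FusionSystem S) (hF : F.IsSaturated 2) (hshape : ((∃ m : ℕ, 4 ≤ m ∧ Nonempty (↥S ≃* DihedralGroup m)) ∨ (∃ m : ℕ, 2 ≤ m ∧ Nonempty (↥S ≃* QuaternionGroup m)) ∨ Cfsg.IsQuasiDihedral ↥S ∨ Cfsg.IsWreathed ↥S)) : (∀ E₁ E₂ E₃ : Subgroup Ω, F.IsEssential 2 E₁ → F.IsEssential 2 E₂ → F.IsEssential 2 E₃ → (∃ φ ∈ F.Hom E₁, φ.range = E₂) ∨ (∃ φ ∈ F.Hom E₁, φ.range = E₃) ∨ (∃ φ ∈ F.Hom E₂, φ.range = E₃)) ∧ F.IsRealizable 2 := by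
  rcases hshape with ⟨m, hm, ⟨e⟩⟩ | ⟨m, hm, ⟨e⟩⟩ | hQ | hW
  · obtain ⟨D, hu, -, ⟨e'⟩⟩ := exists_dihedral hm hS e
    exact ⟨D.rank_two hF, D.realizable hF (dihedral_both D e')
      (fun hg => (dihedral_one D hu e' hg).1) (fun hg => (dihedral_one D hu e' hg).2)⟩
  · obtain ⟨D, k, hn, hu, hh, ⟨e'⟩⟩ := exists_quaternion hm hS e
    have hk : D.Good → 2 ≤ k := fun hg => by
      by_contra hlt
      have hk1 : k = 1 := by have := D.hn; omega
      subst hk1
      have hV : ¬ D.V 0 := by
        rw [MC.V, MC.sqe, hn, hh]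
        norm_num
      have h2 := hg 0
      rw [D.d_of_not_V hV, hn] at h2
      norm_num at h2
    exact ⟨D.rank_two hF, D.realizable hF
      (fun hg => quaternion_both D e' (one_le_two.trans (hk hg)) hg)
      (fun hg => (quaternion_one D hn hu e' (hk hg) hg).1)
      (fun hg => (quaternion_one D hn hu e' (hk hg) hg).2)⟩
  · obtain ⟨D, hu, hh, hn⟩ := exists_quasiDihedral hQ
    exact ⟨D.rank_two hF, D.realizable hF (semidihedral_psl D hn hQ)
      (semidihedral_pgl D hu hh hn hQ) (semidihedral_gl D hu hh hn hQ)⟩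
  · exact wreathed_main hS hF hW

end Cfsg.Agent.S5248
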