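import Cfsg.Statements.S5220
import Cfsg.Agent.Lib.CharP.Climbing
import Cfsg.Agent.Lib.CharP.LocalJ

set_option autoImplicit false
open Cfsg

namespace Cfsg.Agent.S5220

/-- Let F be a saturated fusion system over a nontrivial finite p-group S, let J(S) be the subgroup generated by the abelian subgroups of S of largest order, and let V be the subgroup generated by the p-th powers of the elements of Z(S). Then F is generated by the centralizer fusion system of V and the normalizer fusion system of J(S): every fusion system over S containing the maps of both contains every map of F. -/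
theorem result {Ω : Type*} [Group Ω] {S : Subgroup Ω} [Finite S] (p : ℕ) [Fact p.Prime] (hS : IsPGroup p S) (F : Cfsg.FusionSystem S) (hF : F.IsSaturated p) (hS1 : S ≠ ⊥) (C : Cfsg.FusionSystem (Cfsg.FusionSystem.centralizerIn S (Cfsg.powerClosure p 1 (S ⊓ Subgroup.centralizer (S : Set Ω))))) (hC : F.IsCentralizerSystem (Cfsg.powerClosure p 1 (S ⊓ Subgroup.centralizer (S : Set Ω))) C) (N : Cfsg.FusionSystem (Cfsg.FusionSystem.normalizerIn S (Cfsg.thompsonSubgroupAOf S))) (hN : F.IsNormalizerSystem (Cfsg.thompsonSubgroupAOf S) N) (E : Cfsg.FusionSystem S) (hCE : C.IsSubsystemOf E) (hNE : N.IsSubsystemOf E) : F.IsSubsystemOf E := by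
  intro P φ hφ
  refine Fusion.Basic.IsMap.hom_mem ?_ fun x => (Fusion.Basic.ext_apply φ x).symm
  have hUZ := CharP.Climbing.powerClosure_le' p 1 (S ⊓ Subgroup.centralizer (S : Set Ω))
  exact CharP.Climbing.climb (fix := False) hS hF CharP.LocalJ.isoInv_J
    (fun Q _ _ _ => CharP.LocalJ.center_le_J) le_rfl CharP.LocalJ.local_J E
    (fun P f hf hUP hfix => CharP.Climbing.isMap_subsystem hCE
      (CharP.Climbing.isMap_centralizer hC hUZ hf hUP hfix))
    (fun P f hf hWP himg => CharP.Climbing.isMap_subsystem hNE
      (CharP.Climbing.isMap_normalizer_Wof (N := N) hS CharP.LocalJ.isoInv_J hN hf hWP himg))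
    (fun h => h.elim) P _ (Fusion.Basic.IsMap.of_hom hφ)

end Cfsg.Agent.S5220
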