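import Cfsg.Statements.S5221
import Cfsg.Agent.Lib.CharP.Sparse

set_option autoImplicit false
open Cfsg

namespace Cfsg.Agent.S5221

/-- Let F be a sparse fusion system over a finite p-group S: a saturated fusion system, not the inner fusion system of S, whose only saturated fusion systems over S contained in it are F itself and the inner one. If p is odd, or F is S₄-free (the symmetric group of degree 4 is not involved in any model of the normalizer system of a fully normalized F-centric subgroup), then F is constrained. -/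
theorem result {Ω : Type*} [Group Ω] {S : Subgroup Ω} [Finite S] (p : ℕ) [Fact p.Prime] (hS : IsPGroup p S) (F : Cfsg.FusionSystem S) (hF : F.IsSaturated p) (hsp : ¬ (∀ P : Subgroup Ω, F.Hom P = (Cfsg.innerFusionSystem S).Hom P) ∧ ∀ E : Cfsg.FusionSystem S, E.IsSaturated p → E.IsSubsystemOf F → (∀ P : Subgroup Ω, E.Hom P = F.Hom P) ∨ (∀ P : Subgroup Ω, E.Hom P = (Cfsg.innerFusionSystem S).Hom P)) (hp : p ≠ 2 ∨ F.IsSectionFree p (Equiv.Perm (Fin 4))) : F.IsConstrained p := by
  rcases CharP.Sparse.constrained_or_bigger hS hF hp with h | ⟨V, E, hlt, hle, hEs, hEV, hEne⟩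
  · exact h
  refine absurd ?_ hlt.not_ge
  rcases hsp.2 E hEs hle with h | h
  · refine Fusion.Normal.le_core ⟨hEV.1, fun P φ hφ => ?_⟩
    obtain ⟨ψ, hψ, h1⟩ := hEV.2 P φ (h P ▸ hφ)
    exact ⟨ψ, h _ ▸ hψ, h1⟩
  · exact absurd (CharP.Sparse.allP_of_hom_eq hS h) hEne

end Cfsg.Agent.S5221
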