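import Cfsg.Statements.S5222
import Cfsg.Agent.Lib.Fusion.Tate

set_option autoImplicit false
open Cfsg

namespace Cfsg.Agent.S5222

open Cfsg.FusionSystem Cfsg.Agent.Fusion.Basic Cfsg.Agent.Fusion.Saturation Cfsg.Agent.Fusion.Focal Cfsg.Agent.Fusion.Tate

/-- Let F be a saturated fusion system over a finite p-group S whose normalizer fusion system of S is the inner fusion system of S (Aut_F(S) is a p-group). Then for every subgroup Q of S with [S, S] ≤ Q ≤ Φ(S), the normalizer fusion system of Q in F is the inner fusion system of N_S(Q) = S. -/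
theorem result {Ω : Type*} [Group Ω] {S : Subgroup Ω} [Finite S] (p : ℕ) [Fact p.Prime] (hS : IsPGroup p S) (F : Cfsg.FusionSystem S) (hF : F.IsSaturated p) (hN : ∀ N : Cfsg.FusionSystem (Cfsg.FusionSystem.normalizerIn S S), F.IsNormalizerSystem S N → ∀ P : Subgroup Ω, N.Hom P = (Cfsg.innerFusionSystem (Cfsg.FusionSystem.normalizerIn S S)).Hom P) (Q : Subgroup Ω) (h1 : (commutator ↥S).map S.subtype ≤ Q) (h2 : Q ≤ (frattini ↥S).map S.subtype) : ∀ N : Cfsg.FusionSystem (Cfsg.FusionSystem.normalizerIn S Q), F.IsNormalizerSystem Q N → ∀ P : Subgroup Ω, N.Hom P = (Cfsg.innerFusionSystem (Cfsg.FusionSystem.normalizerIn S Q)).Hom P := by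
  intro N hNQ
  have h1' : ⁅S, S⁆ ≤ Q := by rwa [← Subgroup.map_subtype_commutator]
  have hQS : Q ≤ S := h2.trans (Subgroup.map_subtype_le _)
  have hQn : ∀ a ∈ S, ∀ x ∈ Q, a * x * a⁻¹ ∈ Q := fun a ha x hx => by
    have h3 := Q.mul_mem (h1' (Subgroup.commutator_mem_commutator ha (hQS hx))) hx
    simpa [commutatorElement_def] using h3
  have hfQ : Finite Q := finite_of_le hQS
  have hNS : Cfsg.FusionSystem.normalizerIn S Q = S :=
    le_antisymm normalizerIn_le (le_inf le_rfl fun a ha => mem_normalizer_of_forall (hQn a ha))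
  have hfn : F.IsFullyNormalized Q :=
    ⟨hQS, fun R _ => by rw [hNS]; exact card_le_card normalizerIn_le⟩
  refine eq_inner_of_stronglyClosed' hS hNS
    (Cfsg.Agent.Fusion.KNormalizer.normalizerSystem_saturated hS hF hfn hNQ)
    (le_trans (autGroup_mono (fun P φ hφ => by rw [hNQ P] at hφ; exact hφ.1) S) (autGroup_le_inn hN))
    (U := Q) ⟨hNS.ge.trans' hQS, fun R hR φ hφ x => ?_⟩ h1' h2
  rw [hNQ R] at hφ
  obtain ⟨-, -, -, ψ, -, he, himg⟩ := hφ
  rw [← he x]
  exact himg.le ⟨_, Subgroup.mem_subgroupOf.2 (hR x.2), rfl⟩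

end Cfsg.Agent.S5222
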