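import Cfsg.Statements.S5223
import Cfsg.Agent.Lib.Fusion.Normal

set_option autoImplicit false
open Cfsg

namespace Cfsg.Agent.S5223

open Cfsg.FusionSystem Cfsg.Agent.Fusion.Basic Cfsg.Agent.Fusion.Saturation Cfsg.Agent.Fusion.Normal Cfsg.Agent.Fusion.Alperin

/-- Let F be a saturated fusion system over a finite p-group S. Suppose there are subgroups Q₀ = S, Q₁, …, Qₙ = 1 (not required to be nested) such that for each i < n the focal subgroup of Qᵢ (generated by the elements x⁻¹φ(x), x ∈ Qᵢ, φ a map of F defined on the cyclic group generated by x) lies in Qᵢ₊₁. Then F is the inner fusion system of S. -/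
theorem result {Ω : Type*} [Group Ω] {S : Subgroup Ω} [Finite S] (p : ℕ) [Fact p.Prime] (hS : IsPGroup p S) (F : Cfsg.FusionSystem S) (hF : F.IsSaturated p) (n : ℕ) (Q : Fin (n + 1) → Subgroup Ω) (hQ0 : Q 0 = S) (hQn : Q (Fin.last n) = ⊥) (hstep : ∀ i : Fin n, Subgroup.closure {y : Ω | ∃ x ∈ Q i.castSucc, ∃ φ ∈ F.Hom (Subgroup.zpowers x), y = x⁻¹ * φ ⟨x, Subgroup.mem_zpowers x⟩} ≤ Q i.succ) : ∀ P : Subgroup Ω, F.Hom P = (Cfsg.innerFusionSystem S).Hom P := by
  have hall : ∀ P : Subgroup Ω, P ≤ S → IsPGroup p (F.autGroup P) := by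
    intro P hP
    have : Finite P := finite_of_le hP
    have htriv : ∀ α : F.autGroup P, (orderOf α).Coprime p → α = 1 := by
      intro α hα
      have hm := isMap_of_mem_autGroup hP α.2
      suffices ∀ i : Fin (n + 1), ∀ x ∈ P, x ∈ Q i → autFun (α : MulAut P) x = x by
        refine Subtype.ext (autFun_ext fun x hx => ?_)
        rw [this 0 x hx (hQ0 ▸ hP hx), Subgroup.coe_one, autFun_one]
        rfl
      refine Fin.reverseInduction ?_ ?_
      · intro x _ hx
        rw [hQn, Subgroup.mem_bot] at hx
        subst hx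
        exact hm.map_one
      · intro i ih x hxP hx
        have hle : Subgroup.zpowers x ≤ P := Subgroup.zpowers_le.2 hxP
        have hr := hm.restrict hle
        set c := x⁻¹ * autFun (α : MulAut P) x with hc
        have hcQ : c ∈ Q i.succ := hstep i (Subgroup.subset_closure
          ⟨x, hx, hr.hom, hr.hom_mem_self, rfl⟩)
        have hcP : c ∈ P := P.mul_mem (P.inv_mem hxP) (autFun_mem _ hxP)
        have hfix := ih c hcP hcQ
        have hpow : ∀ m : ℕ, autFun ((α : MulAut P) ^ m) x = x * c ^ m := by
          intro m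
          induction m with
          | zero => rw [pow_zero, autFun_one, pow_zero, mul_one]; rfl
          | succ m ihm =>
            rw [pow_succ', autFun_mul, ihm]
            rw [hm.map_mul hxP (P.pow_mem hcP m)]
            have hcm : ∀ k : ℕ, autFun (α : MulAut P) (c ^ k) = c ^ k := by
              intro k
              induction k with
              | zero => rw [pow_zero]; exact hm.map_one
              | succ k ihk => rw [pow_succ, hm.map_mul (P.pow_mem hcP k) hcP, ihk, hfix]
            rw [hcm, show autFun (α : MulAut P) x = x * c by rw [hc]; group, pow_succ', mul_assoc]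
        have h1 := hpow (orderOf α)
        rw [← Subgroup.coe_pow, pow_orderOf_eq_one, Subgroup.coe_one, autFun_one] at h1
        have h2 : (⟨c, hP hcP⟩ : S) ^ orderOf α = 1 :=
          Subtype.ext (mul_left_cancel (a := x) (by simpa using h1.symm))
        obtain ⟨e, he⟩ := hS ⟨c, hP hcP⟩
        have h3 : (⟨c, hP hcP⟩ : S) = 1 := by
          rw [← orderOf_eq_one_iff]
          exact Nat.eq_one_of_dvd_coprimes (hα.pow_right e) (orderOf_dvd_of_pow_eq_one h2)
            (orderOf_dvd_of_pow_eq_one he)
        have h4 : c = 1 := congrArg Subtype.val h3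
        rw [hc] at h4
        exact (inv_mul_eq_one.1 h4).symm
    intro α
    obtain ⟨e, m, hm, hem⟩ :=
      Nat.exists_eq_pow_mul_and_not_dvd (orderOf_pos α).ne' p (Fact.out : p.Prime).ne_one
    refine ⟨e, htriv _ (Nat.Coprime.coprime_dvd_left (orderOf_dvd_of_pow_eq_one (n := m) ?_)
      ((Fact.out : p.Prime).coprime_iff_not_dvd.2 hm).symm)⟩
    rw [← pow_mul, ← hem, pow_orderOf_eq_one]
  intro P
  rw [eq_inner_of_isPGroup hS hF (fun P hP => not_isPGroup_of_essential hP (hall P hP.1.1))
    (hall S le_rfl)]

end Cfsg.Agent.S5223
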