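import Cfsg.Statements.S5225
import Cfsg.Agent.Lib.Fusion.Yoshida

set_option autoImplicit false
open Cfsg

namespace Cfsg.Agent.S5225

open Cfsg.FusionSystem Cfsg.Agent.Fusion.Basic Cfsg.Agent.Fusion.Saturation

theorem wreath_equiv (G : Type) [Group G] : Nonempty (G ≀ᵣ G ≃* IteratedWreathProduct G 2) := by
  let r : IteratedWreathProduct G 1 ≃* G :=
    MulEquiv.ofBijective (RegularWreathProduct.rightHom (D := PUnit) (Q := G))
      ⟨fun a b h => RegularWreathProduct.ext (funext fun _ => rfl) h, fun g => ⟨⟨1, g⟩, rfl⟩⟩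
  exact ⟨(RegularWreathProduct.congr r (MulEquiv.refl G)).symm⟩

/-- Yoshida's Theorem for fusion systems. Let F be a saturated fusion system over a finite p-group S and N the normalizer fusion system of S in F. If the focal subgroups of F and N differ (N does not control transfer in F), then S has a quotient isomorphic to the wreath product C_p ≀ C_p (realised as a Sylow p-subgroup of the symmetric group of degree p²). -/
theorem result {Ω : Type*} [Group Ω] {S : Subgroup Ω} [Finite S] (p : ℕ) [Fact p.Prime] (hS : IsPGroup p S) (F : Cfsg.FusionSystem S) (hF : F.IsSaturated p) (N : Cfsg.FusionSystem (Cfsg.FusionSystem.normalizerIn S S)) (hN : F.IsNormalizerSystem S N) (hne : N.focalSubgroup ≠ F.focalSubgroup) : ∃ (W : Sylow p (Equiv.Perm (Fin (p ^ 2)))) (f : ↥S →* ↥(W : Subgroup (Equiv.Perm (Fin (p ^ 2))))), Function.Surjective f := by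
  have hNS : Cfsg.FusionSystem.normalizerIn S S = S :=
    le_antisymm normalizerIn_le (le_normalizerIn le_rfl)
  have hsub : ∀ P, N.Hom P ⊆ F.Hom P := fun P φ hφ => by rw [hN P] at hφ; exact hφ.1
  have h1 : ⁅S, S⁆ ≤ N.focalSubgroup := by
    have := Cfsg.Agent.Fusion.Focal.commutator_le_focal (F := N)
    exact (Subgroup.commutator_mono hNS.ge hNS.ge).trans this
  have h2 : N.focalSubgroup ≤ F.focalSubgroup := by
    refine Subgroup.closure_mono ?_
    rintro _ ⟨P, φ, x, hφ, rfl⟩
    exact ⟨P, φ, x, hsub P hφ, rfl⟩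
  have h3 : ∀ f : Ω → Ω, IsMap F S f → ∀ x ∈ S, x⁻¹ * f x ∈ N.focalSubgroup := by
    intro f hf x hx
    refine Subgroup.subset_closure ⟨S, hf.hom, ⟨x, hx⟩, ?_, rfl⟩
    rw [hN S]
    have hm : IsMap F (S ⊔ S) f := (sup_idem S).symm ▸ hf
    refine ⟨hf.hom_mem_self, hNS.ge, fun y => hNS.ge (hf.mem y.2), hm.hom, hm.hom_mem_self,
      fun y => rfl, ?_⟩
    rw [map_subgroupOf_eq_img (f := f) (fun _ => rfl) le_sup_right]
    exact eq_of_le_card hf.img_le_S (by rw [hf.card_img])
  obtain ⟨f, hf⟩ := Cfsg.Agent.Fusion.Yoshida.yoshida hS hF h1 h2 h3 hne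
  obtain ⟨W⟩ : Nonempty (Sylow p (Equiv.Perm (Fin (p ^ 2)))) := Sylow.nonempty
  let G := Cfsg.Agent.Fusion.WreathQuot.C p
  have hG : Nat.card G = p := by
    rw [Nat.card_congr (Multiplicative.toAdd (α := ZMod p)), Nat.card_zmod]
  let e : ↥(W : Subgroup (Equiv.Perm (Fin (p ^ 2)))) ≃* IteratedWreathProduct G 2 :=
    Sylow.mulEquivIteratedWreathProduct p 2 (Fin (p ^ 2)) (Nat.card_fin _) G hG W
  obtain ⟨e'⟩ := wreath_equiv G
  exact ⟨W, (e'.trans e.symm).toMonoidHom.comp f, (e'.trans e.symm).surjective.comp hf⟩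

end Cfsg.Agent.S5225
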