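import Cfsg.Statements.S5226
import Cfsg.Agent.Lib.Fusion.Normal

set_option autoImplicit false
open Cfsg

namespace Cfsg.Agent.S5226

open Cfsg.FusionSystem Cfsg.Agent.Fusion.Basic Cfsg.Agent.Fusion.Saturation Cfsg.Agent.Fusion.Alperin Cfsg.Agent.Fusion.Normal

/-- Let F be a saturated fusion system over a finite p-group S and Q a subgroup of S. Then Q is normal in F (F equals the normalizer system of Q) if and only if Q is strongly closed in F and admits a central series 1 = Q₀ ≤ Q₁ ≤ ⋯ ≤ Qₙ = Q ([Qᵢ₊₁, Q] ≤ Qᵢ) all of whose proper terms are weakly closed in F. -/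
theorem result {Ω : Type*} [Group Ω] {S : Subgroup Ω} [Finite S] (p : ℕ) [Fact p.Prime] (hS : IsPGroup p S) (F : Cfsg.FusionSystem S) (hF : F.IsSaturated p) (Q : Subgroup Ω) : F.IsNormal Q ↔ F.StronglyClosed Q ∧ ∃ (n : ℕ) (C : Fin (n + 1) → Subgroup Ω), C 0 = ⊥ ∧ C (Fin.last n) = Q ∧ Monotone C ∧ (∀ i : Fin n, ⁅C i.succ, Q⁆ ≤ C i.castSucc) ∧ ∀ i : Fin n, F.WeaklyClosed (C i.castSucc) := by
  constructor
  · intro hQ
    obtain ⟨n, C, h0, hn, hmono, hN, hle, hcomm⟩ := normal_series hS hQ
    refine ⟨normal_stronglyClosed hQ, n, fun i => C i, h0, hn, fun i j h => hmono h, fun i => ?_, fun i => ?_⟩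
    · refine Subgroup.commutator_le.2 fun y hy x hx => ?_
      have h1 := (C i).inv_mem (hcomm i x hx y hy)
      simpa [commutatorElement_def, mul_assoc] using h1
    · refine ⟨(hN i).1, fun φ hφ => ?_⟩
      rw [range_eq_img φ]
      exact normal_img_eq (hN i) (IsMap.of_hom hφ) le_rfl
  · rintro ⟨hQsc, n, C, h0, hn, hmono, hcomm, hwc⟩
    let D : ℕ → Subgroup Ω := fun i => C ⟨min i n, Nat.lt_succ_of_le (min_le_right i n)⟩
    have hD0 : D 0 = ⊥ := by
      rw [← h0]
      exact congrArg C (Fin.ext (Nat.zero_min n))
    have hDn : D n = Q := by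
      rw [← hn]
      exact congrArg C (Fin.ext (by simp))
    have hDmono : Monotone D := fun i j h => hmono (Fin.mk_le_mk.2 (min_le_min_right n h))
    have hDQ : ∀ i, D i ≤ Q := fun i => hn ▸ hmono (Fin.le_last _)
    have hDcomm : ∀ i < n, ∀ x ∈ Q, ∀ y ∈ D (i + 1), x * y * x⁻¹ * y⁻¹ ∈ D i := by
      intro i hi x hx y hy
      have e1 : D i = C (⟨i, hi⟩ : Fin n).castSucc :=
        congrArg C (Fin.ext (show min i n = i by omega))
      have e2 : D (i + 1) = C (⟨i, hi⟩ : Fin n).succ :=
        congrArg C (Fin.ext (show min (i + 1) n = i + 1 by omega))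
      rw [e2] at hy
      rw [e1]
      have := (C _).inv_mem (hcomm ⟨i, hi⟩ (Subgroup.commutator_mem_commutator hy hx))
      simpa [commutatorElement_def, mul_assoc] using this
    have hDwc : ∀ i < n, F.WeaklyClosed (D i) := by
      intro i hi
      have e1 : D i = C (⟨i, hi⟩ : Fin n).castSucc :=
        congrArg C (Fin.ext (show min i n = i by omega))
      exact e1 ▸ hwc ⟨i, hi⟩
    have hsc : ∀ i ≤ n, F.StronglyClosed (D i) := by
      intro i
      induction i using Nat.strong_induction_on with
      | _ i ih =>
      intro hi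
      rcases eq_or_lt_of_le hi with rfl | hin
      · exact hDn.symm ▸ hQsc
      obtain ⟨hBS, hB⟩ := hDwc i hin
      have himg : ∀ {P : Subgroup Ω} {f : Ω → Ω}, IsMap F P f → D i ≤ P → img f (D i) = D i := by
        intro P f hf hP
        have hm := hf.restrict hP
        exact (IsMap.range_eq fun x => hm.hom_apply x).symm.trans (hB _ hm.hom_mem_self)
      rcases i with _ | j
      · rw [hD0]
        exact normal_stronglyClosed isNormal_bot
      refine normal_stronglyClosed (normal_of_invariant hS hF fun P hP => ?_)
      have hPS : P ≤ S := by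
        rcases hP with rfl | hP
        exacts [le_rfl, hP.1.1]
      have hBP : D (j + 1) ≤ P := by
        rcases hP with rfl | hP
        · exact hBS
        have hBn : S ≤ Subgroup.normalizer (D (j + 1) : Set Ω) := by
          intro s hs
          have hfin : Finite (D (j + 1) : Subgroup Ω) := finite_of_le hBS
          refine mem_normalizer_of_forall fun x hx => ?_
          have := mem_img_self (cj s) hx
          rwa [himg (isMap_cj (F := F) le_rfl hs) hBS] at this
        refine le_centricRadical_of_series hS (j + 1)
          (fun k => if k ≤ j then D k else Q) (Q := Q)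
          (by simp [hD0]) (by simp) ?_ ?_ (hDQ _) hBn ?_ hP.1 (essential_radical hP hS)
        · intro k hk
          show (if k ≤ j then D k else Q) ≤ if k + 1 ≤ j then D (k + 1) else Q
          rw [if_pos (by omega)]
          split_ifs with h
          exacts [hDmono (Nat.le_succ k), hDQ k]
        · intro k hk
          show F.StronglyClosed (if k ≤ j then D k else Q)
          split_ifs with h
          exacts [ih k (by omega) (by omega), hQsc]
        · intro k hk x hx y hy
          show x * y * x⁻¹ * y⁻¹ ∈ if k ≤ j then D k else Q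
          change y ∈ if k + 1 ≤ j then D (k + 1) else Q at hy
          rw [if_pos (by omega)]
          split_ifs at hy with h
          · exact hDcomm k (by omega) x (hDQ _ hx) y hy
          · obtain rfl : k = j := by omega
            have h1 := hDcomm k (by omega) y hy x hx
            simpa [mul_assoc] using (D k).inv_mem h1
      exact ⟨hBP, fun α hα => himg (isMap_of_mem_autGroup hPS hα) hBP⟩
    exact normal_of_series hS hF n D hD0 hDn (fun i _ => hDmono (Nat.le_succ i)) hsc hDcomm

end Cfsg.Agent.S5226
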