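import Cfsg.Statements.S5233
import Cfsg.Agent.Lib.Fusion.GenExtraspecialClosed
-- import your own Cfsg.Agent.* helpers here

set_option autoImplicit false
open Cfsg
open scoped commutatorElement

namespace Cfsg.Agent.S5233

/-- Let F be a saturated fusion system over a finite p-group S and P a subgroup of S strongly closed in F that is generalized extraspecial (its Frattini subgroup equals its commutator subgroup and has order p) and not isomorphic to E × A with A elementary abelian and E dihedral of order 8 (p = 2) or extraspecial of order p³ and exponent p (p odd). Then P is normal in F. -/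
theorem result {Ω : Type*} [Group Ω] {S : Subgroup Ω} [Finite S] (p : ℕ) [Fact p.Prime] (hS : IsPGroup p S) (F : Cfsg.FusionSystem S) (hF : F.IsSaturated p) (P : Subgroup Ω) (hP : F.StronglyClosed P) (hge : frattini ↥P = commutator ↥P ∧ Nat.card ↥(commutator ↥P) = p) (h2 : p = 2 → ¬ ∃ (A : Type) (_ : CommGroup A), (∀ a : A, a ^ 2 = 1) ∧ Nonempty (↥P ≃* DihedralGroup 4 × A)) (hodd : p ≠ 2 → ¬ ∃ (E : Type) (_ : Group E) (A : Type) (_ : CommGroup A), Cfsg.IsExtraspecial p E ∧ Nat.card E = p ^ 3 ∧ Monoid.exponent E = p ∧ (∀ a : A, a ^ p = 1) ∧ Nonempty (↥P ≃* E × A)) : F.IsNormal P := by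
  classical
  obtain ⟨hfr, hcard⟩ := hge
  have : Finite P := Cfsg.Agent.Fusion.Saturation.finite_of_le hP.1
  set D := (commutator ↥P).map P.subtype with hDdef
  have hDP : D ≤ P := Subgroup.map_subtype_le _
  have hDc : ∀ a ∈ P, ∀ b ∈ P, a * b * a⁻¹ * b⁻¹ ∈ D := fun a ha b hb =>
    ⟨⁅(⟨a, ha⟩ : P), ⟨b, hb⟩⁆, by
      rw [SetLike.mem_coe, commutator_def]
      exact Subgroup.commutator_mem_commutator (Subgroup.mem_top _) (Subgroup.mem_top _), rfl⟩
  have hDpow : ∀ a ∈ P, a ^ p ∈ D := fun a ha =>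
    ⟨(⟨a, ha⟩ : P) ^ p, by
      rw [SetLike.mem_coe, ← hfr]
      exact Cfsg.Agent.Solvable.Basics.pow_mem_frattini (hS.to_le hP.1) _, rfl⟩
  have hDcard : Nat.card D = p := by
    rw [hDdef, Subgroup.card_map_of_injective P.subtype_injective]; exact hcard
  have hPn := Cfsg.Agent.Fusion.Normal.le_normalizer_of_stronglyClosed hP
  have hDn : S ≤ Subgroup.normalizer (D : Set Ω) := by
    have : Finite D := Cfsg.Agent.Fusion.Saturation.finite_of_le hDP
    intro s hs
    refine Cfsg.Agent.Fusion.Saturation.mem_normalizer_of_forall fun x hx => ?_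
    obtain ⟨⟨w, hw⟩, hwc, rfl⟩ := hx
    have hD' : D = ⁅P, P⁆ := by
      rw [hDdef, commutator_def, Subgroup.map_commutator, ← MonoidHom.range_eq_map,
        Subgroup.range_subtype]
    have hconj : ∀ q ∈ P, s * q * s⁻¹ ∈ P := fun q hq =>
      (Subgroup.mem_normalizer_iff.mp (hPn hs) q).mp hq
    have h1 : (⁅P, P⁆ : Subgroup Ω).map (MulAut.conj s).toMonoidHom ≤ ⁅P, P⁆ := by
      rw [Subgroup.map_commutator]
      have h2 : P.map (MulAut.conj s).toMonoidHom ≤ P := by
        rintro _ ⟨q, hq, rfl⟩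
        exact hconj q hq
      exact Subgroup.commutator_mono h2 h2
    rw [hD']
    refine h1 ⟨w, ?_, rfl⟩
    rw [SetLike.mem_coe, ← hD']
    exact ⟨⟨w, hw⟩, hwc, rfl⟩
  have hPna : ¬ ∀ a ∈ P, ∀ b ∈ P, a * b = b * a := by
    intro h
    have hbot : commutator ↥P = ⊥ := by
      rw [commutator_def, Subgroup.commutator_eq_bot_iff_le_centralizer]
      exact fun a _ b _ => Subtype.ext (h b b.2 a a.2)
    rw [hbot, Subgroup.card_bot] at hcard
    exact (Fact.out : p.Prime).one_lt.ne hcard
  have hDsc := Cfsg.Agent.Fusion.GenExtraspecialClosed.derived_stronglyClosed hS hF hP hDP hDc hDpow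
    hDcard hDn hPna h2 hodd
  let C : ℕ → Subgroup Ω := fun i => if i = 0 then ⊥ else if i = 1 then D else P
  refine Cfsg.Agent.Fusion.Normal.normal_of_series hS hF 2 C rfl rfl ?_ ?_ ?_
  · intro i hi
    interval_cases i
    · exact bot_le
    · exact hDP
  · intro i hi
    interval_cases i
    · exact Cfsg.Agent.Fusion.Normal.normal_stronglyClosed Cfsg.Agent.Fusion.Normal.isNormal_bot
    · exact hDsc
    · exact hP
  · intro i hi x hx y hy
    interval_cases i
    · have hy' : y ∈ D := hy
      have h1 : y ∈ Subgroup.centralizer (S : Set Ω) := by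
        have : (D.subgroupOf S).Normal := ⟨fun n hn g =>
          (Subgroup.mem_normalizer_iff.mp (hDn g.2) n).mp hn⟩
        have h := Cfsg.Agent.PLocal.CyclicExtension.le_center_of_card_eq hS (Z := D.subgroupOf S)
          (by rw [Nat.card_congr (Subgroup.subgroupOfEquivOfLe (hDP.trans hP.1)).toEquiv, hDcard])
        exact fun s hs => congrArg Subtype.val (Subgroup.mem_center_iff.mp
          (h (show (⟨y, hP.1 (hDP hy')⟩ : S) ∈ D.subgroupOf S from hy')) ⟨s, hs⟩)
      exact Subgroup.mem_bot.mpr (commutatorElement_eq_one_iff_mul_comm.mpr (h1 x (hP.1 hx)))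
    · exact hDc x hx y hy

end Cfsg.Agent.S5233
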