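import Cfsg.Statements.S5234
import Cfsg.Agent.Lib.Fusion.MetacyclicClosed
import Cfsg.Agent.S5236
-- import your own Cfsg.Agent.* helpers here

set_option autoImplicit false
open Cfsg

namespace Cfsg.Agent.S5234

/-- Let p be an odd prime, F a saturated fusion system over a finite p-group S and P a metacyclic subgroup of S strongly closed in F. Then P is normal in F. -/
theorem result {Ω : Type*} [Group Ω] {S : Subgroup Ω} [Finite S] (p : ℕ) [Fact p.Prime] (hS : IsPGroup p S) (F : Cfsg.FusionSystem S) (hF : F.IsSaturated p) (P : Subgroup Ω) (hP : F.StronglyClosed P) (hp : p ≠ 2) (hm : Cfsg.IsMetacyclic ↥P) : F.IsNormal P := by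
  classical
  have : Finite P := Cfsg.Agent.Fusion.Saturation.finite_of_le hP.1
  obtain ⟨W', hW', hab, hcard⟩ := Cfsg.Agent.Fusion.MetacyclicClosed.omega_structure hp (hS.to_le hP.1) hm
  set W := W'.map P.subtype with hWdef
  have hWP : W ≤ P := Subgroup.map_subtype_le W'
  have hWmem : ∀ x ∈ P, x ^ p = 1 → x ∈ W := fun x hx hxp =>
    ⟨⟨x, hx⟩, (hW' _).mpr (Subtype.ext (by simpa using hxp)), rfl⟩
  have hWexp : ∀ x ∈ W, x ^ p = 1 := by
    rintro _ ⟨x, hx, rfl⟩
    simpa using congrArg Subtype.val ((hW' x).mp hx)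
  have hWab : ∀ x ∈ W, ∀ y ∈ W, x * y = y * x := by
    rintro _ ⟨x, hx, rfl⟩ _ ⟨y, hy, rfl⟩
    simpa using congrArg Subtype.val (hab x hx y hy)
  have hWcard : Nat.card W ∣ p ^ 2 := by
    rw [hWdef, Subgroup.card_map_of_injective P.subtype_injective]; exact hcard
  have hWeq : Cfsg.omegaOne p P = W :=
    le_antisymm ((Subgroup.closure_le _).2 fun x hx => hWmem x hx.1 hx.2)
      fun x hx => Subgroup.subset_closure ⟨hWP hx, hWexp x hx⟩
  have hWsc : F.StronglyClosed W := by
    refine ⟨hWP.trans hP.1, fun R hR φ hφ x => hWmem _ (hP.2 R (hR.trans hWP) φ hφ x) ?_⟩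
    rw [← map_pow, show x ^ p = 1 from Subtype.ext (by simpa using hWexp x (hR x.2)), map_one]
  have hbot : F.StronglyClosed ⊥ :=
    Cfsg.Agent.Fusion.Normal.normal_stronglyClosed Cfsg.Agent.Fusion.Normal.isNormal_bot
  refine (Cfsg.Agent.S5236.result p hS F hF hp P hP).mpr ?_
  rw [hWeq]
  by_cases hne : ∃ g ∈ P, ∃ w ∈ W, g * w ≠ w * g
  · obtain ⟨hX, hXc⟩ := Cfsg.Agent.Fusion.MetacyclicClosed.line_stronglyClosed hS hF hp hP hWP
      hWmem hWexp hWab hWcard hne
    refine ⟨2, ![⊥, W ⊓ Subgroup.centralizer (P : Set Ω), W], rfl, rfl, ?_, ?_, ?_⟩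
    · refine Fin.monotone_iff_le_succ.mpr fun i => ?_
      fin_cases i
      · exact bot_le
      · exact inf_le_left
    · intro i
      fin_cases i
      exacts [hbot, hX, hWsc]
    · intro i
      fin_cases i
      · refine Subgroup.commutator_le.2 fun a ha b hb => ?_
        exact Subgroup.mem_bot.mpr (commutatorElement_eq_one_iff_mul_comm.mpr (ha.2 b hb).symm)
      · refine Subgroup.commutator_le.2 fun a ha b hb => ?_
        have h1 := (W ⊓ Subgroup.centralizer (P : Set Ω)).inv_mem (hXc b hb a ha)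
        simpa [commutatorElement_def, mul_assoc] using h1
  · push Not at hne
    refine ⟨1, ![⊥, W], rfl, rfl, ?_, ?_, ?_⟩
    · refine Fin.monotone_iff_le_succ.mpr fun i => ?_
      fin_cases i
      exact bot_le
    · intro i
      fin_cases i
      exacts [hbot, hWsc]
    · intro i
      fin_cases i
      refine Subgroup.commutator_le.2 fun a ha b hb => ?_
      exact Subgroup.mem_bot.mpr (commutatorElement_eq_one_iff_mul_comm.mpr (hne b hb a ha).symm)

end Cfsg.Agent.S5234
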