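import Cfsg.Statements.S5239
import Cfsg.Agent.S5238
import Cfsg.Agent.Lib.Fusion.SmallThree
import Cfsg.Agent.Lib.Fusion.EssentialShape
import Cfsg.Agent.GenA.SymplecticType
import Cfsg.Agent.Lib.Cores.Basic

set_option autoImplicit false
open Cfsg

namespace Cfsg.Agent.S5239

open Subgroup Cfsg.Agent.PGroups.MaximalClass Cfsg.Agent.CharP.SmallCentralizer
open scoped commutatorElement

section Fusion

variable {Ω : Type*} [Group Ω] {S : Subgroup Ω} [Finite S]

/-- A nonabelian pearl has exponent `p`. -/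
theorem exponent_pearl {p : ℕ} [Fact p.Prime] (hS : IsPGroup p S) {F : Cfsg.FusionSystem S}
    {E : Subgroup Ω} (hE : F.IsEssential p E) (h3 : Nat.card E = p ^ 3)
    (hna : ¬ IsMulCommutative ↥E) (hp : p ≠ 2) : ∀ a : E, a ^ p = 1 := by
  classical
  have hpp : p.Prime := Fact.out
  have hES : E ≤ S := hE.1.1
  haveI : Finite E := Fusion.Saturation.finite_of_le hES
  have hnaE : ¬ ∀ a b : E, a * b = b * a := fun h => hna ⟨⟨h⟩⟩
  have hEp : IsPGroup p E := hS.to_le hES
  have hZ : Nat.card (center E) = p := GStructB.MaxClass.card_center h3 hnaE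
  have hQ : Nat.card (E ⧸ center E) = p ^ 2 := by
    have h1 := (center E).card_eq_card_quotient_mul_card_subgroup
    rw [h3, hZ, pow_succ] at h1
    exact (Nat.eq_of_mul_eq_mul_right hpp.pos h1).symm
  have hpow : ∀ a : E, a ^ p ∈ center E := by
    intro a
    have := pow_eq_one_of_not_cyclic (p := p) hQ (fun hcyc => hnaE fun a b =>
      (MonoidHom.isMulCommutative_of_isCyclic_of_ker_le_center (QuotientGroup.mk' (center E))
        (by simp)).is_comm.comm a b) (QuotientGroup.mk' (center E) a)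
    rw [← map_pow] at this
    exact (QuotientGroup.eq_one_iff _).mp this
  have hW : Components.RegularPGroup.Weak p E := by
    refine Components.RegularPGroup.weak_of_class hEp (le_bot_iff.mp ?_)
    haveI := hEp.isNilpotent
    have h1 : (⊤ : Subgroup E).lowerCentralSeries 2 = ⊥ := lcs_eq_bot (p := p) (m := 3) (by omega) h3
    refine (Subgroup.lowerCentralSeries_antitone _ ?_).trans h1.le
    have := hpp.two_le; omega
  set T := Components.RegularPGroup.omegaSub hW 1
  have hT : ∀ {a : E}, a ∈ T ↔ a ^ p = 1 := by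
    intro a; show a ^ p ^ 1 = 1 ↔ _; rw [pow_one]
  by_contra hne
  push Not at hne
  obtain ⟨a₀, ha₀⟩ := hne
  have hTne : T ≠ ⊤ := fun e => ha₀ (hT.mp (e ▸ mem_top a₀))
  have hTc : Nat.card T ≤ p ^ 2 := by
    obtain ⟨i, hi⟩ := IsPGroup.iff_card.mp (hEp.to_subgroup T)
    have h1 : Nat.card T < Nat.card E := lt_of_not_ge fun hge =>
      hTne (eq_top_of_card_eq _ (le_antisymm (card_le_card_group _) hge))
    rw [h3, hi, Nat.pow_lt_pow_iff_right hpp.one_lt] at h1
    rw [hi]
    exact Nat.pow_le_pow_right hpp.pos (by omega)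
  have hZT : center E ≤ T := fun z hz => hT.mpr (by
    have := pow_card_eq_one' (G := center E) (x := ⟨z, hz⟩)
    rw [hZ] at this
    exact congrArg Subtype.val this)
  have hTidx : T.index ≤ p := by
    rw [index_eq_card, ← hZ]
    refine Nat.card_le_card_of_injective (fun w => (⟨w.out ^ p, hpow _⟩ : center E)) fun a b e => ?_
    rw [← QuotientGroup.out_eq' a, ← QuotientGroup.out_eq' b, QuotientGroup.eq, hT]
    have h1 : (a.out⁻¹) ^ p = (b.out⁻¹) ^ p := by
      rw [inv_pow, inv_pow]; exact congrArg (·⁻¹) (congrArg Subtype.val e)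
    have h2 := (Components.RegularPGroup.pow_eq_iff 1 E hW a.out⁻¹ b.out⁻¹).mp (by rwa [pow_one])
    rwa [pow_one, inv_inv] at h2
  let C : ℕ → Subgroup E := fun i => if i = 0 then ⊥ else if i = 1 then center E else if i = 2 then T else ⊤
  refine Fusion.EssentialShape.no_series hE hS C 3 (by simp [C]) (by simp [C]) ?_ ?_ ?_
  · intro i hi
    interval_cases i <;> simp [C, hZT]
  · intro i hi a y hy
    interval_cases i
    · simp only [C, if_pos rfl, mem_bot] at hy ⊢
      rw [hy, map_one]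
    · simp only [C, one_ne_zero, if_false, if_true] at hy ⊢
      rw [mem_center_iff] at hy ⊢
      intro b
      have := congrArg a (hy (a.symm b))
      simpa using this
    · simp only [C, show (2 : ℕ) ≠ 0 by omega, show (2 : ℕ) ≠ 1 by omega, if_false, if_true] at hy ⊢
      rw [hT] at hy ⊢
      rw [← map_pow, hy, map_one]
    · simp [C]
  · intro i hi
    interval_cases i
    · simp [C, relIndex_bot_left, hZ]
    · simp only [C, one_ne_zero, if_false, if_true, show (1 + 1 : ℕ) ≠ 0 by omega,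
        show (1 + 1 : ℕ) ≠ 1 by omega]
      refine Nat.le_of_mul_le_mul_left ?_ hpp.pos
      calc p * (center E).relIndex T = Nat.card (center E) * (center E).relIndex T := by rw [hZ]
        _ = Nat.card T := by
          rw [← Nat.card_congr (subgroupOfEquivOfLe hZT).toEquiv]; exact card_mul_index _
        _ ≤ p * p := by rw [← pow_two]; exact hTc
    · simpa [C] using hTidx

/-- Two automorphisms of a group generated by two elements agreeing on them are equal. -/
theorem aut_ext {X : Type*} [Group X] {a b : X} (hgen : closure ({a, b} : Set X) = ⊤)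
    {u v : X →* X} (ha : u a = v a) (hb : u b = v b) : ∀ x, u x = v x := by
  have : (⊤ : Subgroup X) ≤ u.eqLocus v := by
    rw [← hgen, closure_le, Set.insert_subset_iff, Set.singleton_subset_iff]
    exact ⟨ha, hb⟩
  exact fun x => this (mem_top x)

/-- With an elementary abelian pearl of order `9` a group of order `27` has exponent `3`. -/
theorem exponent_three [Fact (Nat.Prime 3)] (hS : IsPGroup 3 S) (hcard : Nat.card S = 27)
    {F : Cfsg.FusionSystem S} (hF : F.IsSaturated 3) {E : Subgroup Ω} (hE : F.IsEssential 3 E)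
    (h9 : Nat.card E = 9) (hexp : ∀ x ∈ E, x ^ 3 = 1) (hab : ∀ x ∈ E, ∀ y ∈ E, x * y = y * x) :
    ∀ y ∈ S, y ^ 3 = 1 := by
  classical
  intro y hy
  by_contra hne
  have hES : E ≤ S := hE.1.1
  haveI : Finite E := Fusion.Saturation.finite_of_le hES
  have hyE : y ∉ E := fun h => hne (hexp y h)
  -- `E` is normal of index three
  have hN : S ≤ Subgroup.normalizer (E : Set Ω) := by
    have hlt := Fusion.Saturation.lt_normalizerIn hS (Fusion.Alperin.essential_lt hS hF hE)
    have hle : FusionSystem.normalizerIn S E ≤ S := inf_le_left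
    haveI : Finite (FusionSystem.normalizerIn S E) := Fusion.Saturation.finite_of_le hle
    have h1 := Fusion.Saturation.card_lt_card hlt
    obtain ⟨r, hr⟩ := IsPGroup.iff_card.mp (hS.to_le hle)
    rw [h9, show (9 : ℕ) = 3 ^ 2 by norm_num, hr] at h1
    have hr3 := (Nat.pow_lt_pow_iff_right (by norm_num : 1 < 3)).mp h1
    have : FusionSystem.normalizerIn S E = S := Fusion.Saturation.eq_of_le_card hle (by
      rw [hr, hcard, show (27 : ℕ) = 3 ^ 3 by norm_num]
      exact Nat.pow_le_pow_right (by norm_num) hr3)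
    rw [← this]
    exact inf_le_right
  set E' := E.subgroupOf S
  haveI hE'n : E'.Normal := normal_subgroupOf_of_le_normalizer hN
  have hidx : E'.index = 3 := by
    have := E'.card_mul_index
    rw [Nat.card_congr (subgroupOfEquivOfLe hES).toEquiv, h9, hcard] at this
    omega
  have ha0 : y ^ 3 ∈ E := by
    have h := pow_index_mem E' (⟨y, hy⟩ : S)
    rw [hidx] at h
    exact mem_subgroupOf.mp h
  set a : E := ⟨y ^ 3, ha0⟩ with ha_def
  have ha1 : a ≠ 1 := fun h => hne (congrArg Subtype.val h)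
  have hcentric : ∀ g ∈ S, (∀ e ∈ E, e * g = g * e) → g ∈ E := fun g hg h =>
    hE.1.2 E (Fusion.Basic.isConj_refl hES) ⟨hg, fun e he => h e he⟩
  -- the group is generated by `E` and `y`
  have hgenS : E' ⊔ zpowers (⟨y, hy⟩ : S) = ⊤ := by
    have hd := index_dvd_of_le (le_sup_left : E' ≤ E' ⊔ zpowers (⟨y, hy⟩ : S))
    rw [hidx] at hd
    rcases (Nat.dvd_prime (by norm_num : Nat.Prime 3)).mp hd with e | e
    · exact index_eq_one.mp e
    · refine absurd (mem_subgroupOf.mp (?_ : (⟨y, hy⟩ : S) ∈ E')) hyE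
      rw [eq_of_le_of_card_ge (le_sup_left : E' ≤ E' ⊔ zpowers (⟨y, hy⟩ : S)) (by
        have h1 := (E' ⊔ zpowers (⟨y, hy⟩ : S)).card_mul_index
        have h2 := E'.card_mul_index
        rw [e] at h1
        rw [hidx] at h2
        omega)]
      exact mem_sup_right (mem_zpowers _)
  -- the centre
  have hna : ¬ ∀ s t : S, s * t = t * s := fun h => hyE (hcentric y hy fun e he =>
    congrArg Subtype.val (h ⟨e, hES he⟩ ⟨y, hy⟩))
  have hZ : Nat.card (center S) = 3 :=
    GStructB.MaxClass.card_center (p := 3) (by rw [hcard]; norm_num) hna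
  set A : S := ⟨y ^ 3, hES ha0⟩
  have hA : A ∈ center S := by
    refine mem_center_iff.mpr fun g => ?_
    have : (⊤ : Subgroup S) ≤ centralizer ({A} : Set S) := by
      rw [← hgenS]
      refine sup_le (fun e he => ?_) (zpowers_le.mpr ?_)
      · exact mem_centralizer_singleton_iff.mpr (Subtype.ext (hab _ (mem_subgroupOf.mp he) _ ha0))
      · exact mem_centralizer_singleton_iff.mpr (Subtype.ext ((Commute.refl y).pow_right 3).eq)
    exact mem_centralizer_singleton_iff.mp (this (mem_top g))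
  have hA1 : A ≠ 1 := fun h => hne (congrArg Subtype.val h)
  have hA3 : orderOf A = 3 := ((Nat.dvd_prime (by norm_num : Nat.Prime 3)).mp (orderOf_dvd_of_pow_eq_one
    (Subtype.ext (hexp _ ha0) : A ^ 3 = 1))).resolve_left fun h => hA1 (orderOf_eq_one_iff.mp h)
  have hZA : center S = zpowers A := (eq_of_le_of_card_ge (zpowers_le.mpr hA) (by
    rw [hZ, Nat.card_zpowers, hA3])).symm
  have hcomm : ∀ s t : S, ⁅s, t⁆ ∈ center S := by
    have hq : Nat.card (S ⧸ center S) = 3 ^ 2 := by
      have := (center S).card_eq_card_quotient_mul_card_subgroup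
      rw [hZ, hcard] at this
      omega
    intro s t
    rw [← QuotientGroup.eq_one_iff]
    show QuotientGroup.mk' (center S) ⁅s, t⁆ = 1
    rw [map_commutatorElement, commutatorElement_eq_one_iff_mul_comm]
    exact GStructB.MaxClass.comm_of_card (p := 3) le_rfl hq _ _
  -- conjugation by `y`
  let u : MulAut E := Fusion.Basic.conjAut S E ⟨y, hy, hN hy⟩
  have hu : ∀ e : E, ((u e : E) : Ω) = y * e * y⁻¹ := fun e => by
    rw [← Fusion.Basic.autFun_apply u e]
    exact Fusion.Basic.conjAut_apply ⟨y, hy, hN hy⟩ e.2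
  have huA : u ∈ F.autGroup E := Fusion.Basic.autInducedBy_le hES (by
    rw [← Fusion.Basic.conjAut_range]; exact ⟨_, rfl⟩)
  have hua : u a = a := Subtype.ext (by
    rw [hu a]
    exact mul_inv_eq_iff_eq_mul.mpr ((Commute.refl y).pow_right 3).eq)
  have hu1 : u ≠ 1 := fun h => hyE (hcentric y hy fun e he => by
    have h' := congrArg Subtype.val (congrArg (fun v : MulAut E => v ⟨e, he⟩) h)
    simp only [MulAut.one_apply] at h'
    rw [hu] at h'
    exact (mul_inv_eq_iff_eq_mul.mp h').symm)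
  have ha3 : a ^ 3 = 1 := Subtype.ext (hexp _ a.2)
  have huk : ∀ e : E, ∃ k : ℕ, k < 3 ∧ u e = e * a ^ k := by
    intro e
    obtain ⟨k, hk, hk'⟩ : ∃ k : ℕ, k < 3 ∧ ⁅(⟨y, hy⟩ : S), ⟨e, hES e.2⟩⁆ = A ^ k := by
      have h := hcomm (⟨y, hy⟩ : S) ⟨e, hES e.2⟩
      rw [hZA, mem_zpowers_iff_mem_range_orderOf, hA3, Finset.mem_image] at h
      obtain ⟨k, hk, hk'⟩ := h
      exact ⟨k, Finset.mem_range.mp hk, hk'.symm⟩
    refine ⟨k, hk, Subtype.ext ?_⟩
    have h1 : y * (e : Ω) * y⁻¹ * (e : Ω)⁻¹ = (y ^ 3) ^ k := congrArg Subtype.val hk'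
    rw [hu e]
    show y * (e : Ω) * y⁻¹ = (e : Ω) * (y ^ 3) ^ k
    rw [hab _ e.2 _ (pow_mem ha0 k), ← h1, inv_mul_cancel_right]
  have hu3 : u ^ 3 = 1 := MulEquiv.ext fun e => by
    obtain ⟨k, -, hk⟩ := huk e
    show u (u (u e)) = e
    rw [hk, map_mul, map_pow, hua, hk, map_mul, map_mul, map_pow, hua, hk, mul_assoc, mul_assoc,
      ← pow_add, ← pow_add, show k + (k + k) = 3 * k by ring, pow_mul, ha3, one_pow, mul_one]
  -- a conjugate of `u` not in `⟨u⟩`
  obtain ⟨β, hβA, hβ⟩ : ∃ β ∈ F.autGroup E, β * u * β⁻¹ ∉ zpowers u := by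
    by_contra hcon
    push Not at hcon
    set U := (zpowers u).subgroupOf (F.autGroup E)
    haveI : U.Normal := ⟨fun v hv b => by
      obtain ⟨i, hi⟩ := mem_zpowers_iff.mp (mem_subgroupOf.mp hv)
      rw [mem_subgroupOf, Subgroup.coe_mul, Subgroup.coe_mul, Subgroup.coe_inv, ← hi, ← conj_zpow]
      exact zpow_mem (hcon _ b.2) i⟩
    have hU : IsPGroup 3 U := by
      refine (IsPGroup.of_card (n := 1) ?_ : IsPGroup 3 (zpowers u)).of_equiv
        (subgroupOfEquivOfLe (zpowers_le.mpr huA)).symm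
      rw [Nat.card_zpowers, pow_one]
      exact orderOf_eq_prime hu3 hu1
    have h := Fusion.EssentialShape.mem_inn_of_mem_pCore hE hS (α := ⟨u, huA⟩)
      (Cfsg.Agent.Cores.le_pCore hU (mem_subgroupOf.mpr (mem_zpowers u)))
    obtain ⟨g, hg, hge⟩ := Fusion.Basic.mem_inn_iff.mp h
    refine hu1 (MulEquiv.ext fun e => Subtype.ext ?_)
    have := hge e e.2
    rw [Fusion.Basic.autFun_apply, Fusion.Basic.cj_apply] at this
    rw [this, MulAut.one_apply, hab g hg e e.2, mul_inv_cancel_right]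
  set w := β * u * β⁻¹ with hw
  set a' := β a with ha'
  have hwa' : w a' = a' := by
    rw [ha', hw, MulAut.mul_apply, MulAut.mul_apply, MulAut.inv_apply_self, hua]
  have hwk : ∀ e : E, ∃ k : ℕ, k < 3 ∧ w e = e * a' ^ k := by
    intro e
    obtain ⟨k, hk, hk'⟩ := huk (β⁻¹ e)
    refine ⟨k, hk, ?_⟩
    rw [hw, MulAut.mul_apply, MulAut.mul_apply, hk', map_mul, map_pow, MulAut.apply_inv_self]
  have hgen2 : ∀ b : E, b ∉ zpowers a → closure ({a, b} : Set E) = ⊤ := by
    intro b hb
    refine eq_top_of_card_eq _ (le_antisymm (card_le_card_group _) ?_)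
    have h1 : zpowers a ≤ closure ({a, b} : Set E) := zpowers_le.mpr (subset_closure (Set.mem_insert _ _))
    have h2 : Nat.card (zpowers a) < Nat.card (closure ({a, b} : Set E)) := lt_of_not_ge fun hge =>
      hb ((eq_of_le_of_card_ge h1 hge).symm ▸ subset_closure (Set.mem_insert_of_mem a rfl))
    rw [Nat.card_zpowers, orderOf_eq_prime ha3 ha1] at h2
    have h3 : Nat.card (closure ({a, b} : Set E)) ∣ 9 := h9 ▸ card_subgroup_dvd_card _
    rw [h9]
    have h4 := Nat.le_of_dvd (by norm_num) h3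
    interval_cases (Nat.card (closure ({a, b} : Set E))) <;> omega
  -- `a` and `a'` generate
  have hgen : a' ∉ zpowers a := by
    intro hmem
    obtain ⟨b, hb⟩ : ∃ b : E, b ∉ zpowers a := by
      by_contra hall
      push Not at hall
      have h : Nat.card (⊤ : Subgroup E) ≤ Nat.card (zpowers a) := card_le_of_le fun e _ => hall e
      rw [card_top, h9, Nat.card_zpowers, orderOf_eq_prime ha3 ha1] at h
      omega
    obtain ⟨c, hc⟩ : ∃ c : ℕ, a' = a ^ c := by
      rw [mem_zpowers_iff_mem_range_orderOf, Finset.mem_image] at hmem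
      obtain ⟨c, -, hc⟩ := hmem
      exact ⟨c, hc.symm⟩
    obtain ⟨i, hi, hib⟩ := huk b
    obtain ⟨k, hk, hkb⟩ := hwk b
    have hi0 : i ≠ 0 := fun h => hu1 (MulEquiv.ext (aut_ext (hgen2 b hb)
      (u := u.toMonoidHom) (v := MonoidHom.id E) hua (by
        show u b = b
        rw [hib, h, pow_zero, mul_one])))
    have hwa : w a = a := by
      obtain ⟨c', -, hc'⟩ := hwk a
      -- `a` is a power of the fixed element `a'`
      have hc0 : a' ≠ 1 := fun h => ha1 (β.injective (h.trans (map_one β).symm))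
      have : a ∈ zpowers a' := by
        have hle : zpowers a' ≤ zpowers a := zpowers_le.mpr (hc ▸ pow_mem (mem_zpowers a) c)
        have : zpowers a' = zpowers a := eq_of_le_of_card_ge hle (by
          rw [Nat.card_zpowers, Nat.card_zpowers, orderOf_eq_prime ha3 ha1,
            orderOf_eq_prime (by rw [ha', ← map_pow, ha3, map_one]) hc0])
        exact this ▸ mem_zpowers a
      obtain ⟨j, hj⟩ := mem_zpowers_iff.mp this
      rw [← hj, map_zpow, hwa']
    -- `w` is a power of `u`
    refine hβ ?_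
    have hpow : ∀ m : ℕ, (u ^ m) b = b * a ^ (i * m) ∧ (u ^ m) a = a := by
      intro m
      induction m with
      | zero => simp
      | succ m ih =>
        rw [pow_succ', MulAut.mul_apply, MulAut.mul_apply, ih.1, ih.2, map_mul, map_pow, hua, hib,
          mul_assoc, ← pow_add]
        exact ⟨by ring_nf, rfl⟩
    obtain ⟨m, hm⟩ : ∃ m : ℕ, (i * m) % 3 = (c * k) % 3 := ⟨i * (c * k), by
      interval_cases i
      · exact absurd rfl hi0
      · simp
      · omega⟩
    have : w = u ^ m := MulEquiv.ext (aut_ext (hgen2 b hb) (u := w.toMonoidHom) (v := (u ^ m).toMonoidHom)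
      (by show w a = (u ^ m) a; rw [hwa, (hpow m).2])
      (by
        show w b = (u ^ m) b
        rw [hkb, (hpow m).1, hc, ← pow_mul, ← Nat.mod_add_div (c * k) 3, ← Nat.mod_add_div (i * m) 3,
          pow_add, pow_add, pow_mul a 3, pow_mul a 3, ha3, one_pow, one_pow, mul_one, mul_one, hm]))
    rw [this]
    exact pow_mem (mem_zpowers u) m
  have hgaa' := hgen2 a' hgen
  -- normalized transvections
  obtain ⟨u', hu'A, hu'a, hu'a'⟩ : ∃ v ∈ F.autGroup E, v a = a ∧ v a' = a' * a := by
    obtain ⟨i, hi, hia⟩ := huk a'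
    interval_cases i
    · exact absurd (MulEquiv.ext (aut_ext hgaa' (u := u.toMonoidHom) (v := MonoidHom.id E) hua
        (by show u a' = a'; rw [hia, pow_zero, mul_one]))) hu1
    · exact ⟨u, huA, hua, by rw [hia, pow_one]⟩
    · refine ⟨u * u, mul_mem huA huA, by rw [MulAut.mul_apply, hua, hua], ?_⟩
      rw [MulAut.mul_apply, hia, map_mul, map_pow, hua, hia, mul_assoc, ← pow_add,
        show 2 + 2 = 3 + 1 by norm_num, pow_add, ha3, one_mul, pow_one]
  have ha'3 : a' ^ 3 = 1 := by rw [ha', ← map_pow, ha3, map_one]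
  obtain ⟨w', hw'A, hw'a', hw'a⟩ : ∃ v ∈ F.autGroup E, v a' = a' ∧ v a = a * a'⁻¹ := by
    have hwA : w ∈ F.autGroup E := mul_mem (mul_mem hβA huA) (inv_mem hβA)
    have hinv : a'⁻¹ = a' ^ 2 := inv_eq_of_mul_eq_one_right (by rw [← pow_succ', ha'3])
    obtain ⟨j, hj, hja⟩ := hwk a
    interval_cases j
    · refine absurd (?_ : w ∈ zpowers u) hβ
      rw [show w = 1 from MulEquiv.ext (aut_ext hgaa' (u := w.toMonoidHom) (v := MonoidHom.id E)
        (by show w a = a; rw [hja, pow_zero, mul_one]) hwa')]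
      exact one_mem _
    · refine ⟨w * w, mul_mem hwA hwA, by rw [MulAut.mul_apply, hwa', hwa'], ?_⟩
      rw [MulAut.mul_apply, hja, map_mul, map_pow, hwa', hja, mul_assoc, pow_one, ← pow_two, hinv]
    · exact ⟨w, hwA, hwa', by rw [hja, hinv]⟩
  have hEc : ∀ s t : E, s * t = t * s := fun s t => Subtype.ext (hab s s.2 t t.2)
  set σ := u' * (w' * u') with hσ
  have hσa : σ a = a'⁻¹ := by
    rw [hσ, MulAut.mul_apply, MulAut.mul_apply, hu'a, hw'a, map_mul, map_inv, hu'a, hu'a',
      _root_.mul_inv_rev, mul_inv_cancel_left]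
  have hσa' : σ a' = a := by
    rw [hσ, MulAut.mul_apply, MulAut.mul_apply, hu'a', map_mul w', hw'a', hw'a, hEc a a'⁻¹,
      mul_inv_cancel_left, hu'a]
  set ι := σ * σ with hι
  have hιA : ι ∈ F.autGroup E :=
    mul_mem (mul_mem hu'A (mul_mem hw'A hu'A)) (mul_mem hu'A (mul_mem hw'A hu'A))
  have hιinv : ∀ e : E, ι e = e⁻¹ := by
    have hinvhom : ∀ s t : E, (s * t)⁻¹ = s⁻¹ * t⁻¹ := fun s t => by
      rw [_root_.mul_inv_rev, hEc]
    exact aut_ext hgaa' (u := ι.toMonoidHom) (v := MonoidHom.mk' (·⁻¹) hinvhom)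
      (by show ι a = a⁻¹; rw [hι, MulAut.mul_apply, hσa, map_inv, hσa'])
      (by show ι a' = a'⁻¹; rw [hι, MulAut.mul_apply, hσa', hσa])
  -- extend to `S`
  have hf := Fusion.Basic.isMap_of_mem_autGroup hES hιA
  have hfe : ∀ e ∈ E, Fusion.Basic.autFun ι e = e⁻¹ := fun e he => by
    rw [Fusion.Basic.autFun_of_mem ι he, hιinv]
    rfl
  obtain ⟨g, hg, hge⟩ := Fusion.Saturation.exists_extension hS hF hf (by
    rw [Fusion.Basic.autFun_img]; exact Fusion.Saturation.fullyNormalized_fullyCentralized hS hF hE.2.1)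
  have hynS : y ∈ Fusion.Basic.nSub S E (Fusion.Basic.autFun ι) := by
    refine Fusion.Basic.mem_nSub.mpr ⟨hy, hN hy, y, hy, fun x hx => ?_⟩
    rw [hfe _ ((mem_normalizer_iff.mp (hN hy) x).1 hx), hfe x hx, conj_inv]
  have hEn : ∀ e ∈ E, e ∈ Fusion.Basic.nSub S E (Fusion.Basic.autFun ι) := fun e he =>
    Fusion.Basic.le_nSub hf he
  set d := y⁻¹ * g y with hd
  have hdE : d ∈ E := by
    refine hcentric d (mul_mem (inv_mem hy) (hg.mem hynS)) fun e he => ?_
    have hye : y * e⁻¹ * y⁻¹ ∈ E := (mem_normalizer_iff.mp (hN hy) _).1 (inv_mem he)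
    have h1 := hg.map_conj hynS (hEn e⁻¹ (inv_mem he))
    rw [hge _ hye, hge _ (inv_mem he), hfe _ hye, hfe _ (inv_mem he), inv_inv, conj_inv, inv_inv] at h1
    rw [hd]
    calc e * (y⁻¹ * g y) = y⁻¹ * (y * e * y⁻¹) * g y := by group
      _ = y⁻¹ * (g y * e * (g y)⁻¹) * g y := by rw [h1]
      _ = y⁻¹ * g y * e := by group
  have hgy : g (y ^ 3) = g y ^ 3 := by
    rw [pow_succ, pow_succ, pow_one, hg.map_mul (mul_mem hynS hynS) hynS, hg.map_mul hynS hynS]
    simp only [pow_succ, pow_zero, one_mul]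
  rw [hge _ ha0, hfe _ ha0, show g y = y * d by rw [hd, mul_inv_cancel_left]] at hgy
  have hcube : (y * d) ^ 3 = y ^ 3 := by
    have h := Fusion.SmallThree.mul_pow_three (⟨y, hy⟩ : S) ⟨d, hES hdE⟩
      (fun g => (mem_center_iff.mp (hcomm _ _) g).symm)
    have hc3 : ⁅(⟨d, hES hdE⟩ : S), (⟨y, hy⟩ : S)⁆ ^ 3 = 1 := by
      have := pow_card_eq_one' (G := center S) (x := ⟨_, hcomm ⟨d, hES hdE⟩ ⟨y, hy⟩⟩)
      rw [hZ] at this
      exact congrArg Subtype.val this
    rw [hc3, one_mul] at h
    have h' := congrArg Subtype.val h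
    simp only [Subgroup.coe_mul, SubgroupClass.coe_pow] at h'
    rw [hexp d hdE, mul_one] at h'
    exact h'
  rw [hcube] at hgy
  refine ha1 (Subtype.ext ?_)
  show y ^ 3 = 1
  have h6 := hexp _ ha0
  rw [pow_succ, pow_two] at h6
  have h2 : y ^ 3 * y ^ 3 = 1 := by nth_rewrite 1 [← hgy]; rw [inv_mul_cancel]
  rwa [h2, one_mul] at h6

end Fusion

/-- Let F be a saturated fusion system over a finite 3-group S having a pearl: an F-essential subgroup E that is elementary abelian of order 9 or nonabelian of order 27. Then either S is extraspecial of order 27 and exponent 3, or S has order at least 81 and every subgroup of S can be generated by at most two elements, or S is isomorphic to the wreath product C₃ ≀ C₃ (a Sylow 3-subgroup of the symmetric group of degree 9). -/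
theorem result {Ω : Type*} [Group Ω] {S : Subgroup Ω} [Finite S] (hS : IsPGroup 3 S) (F : Cfsg.FusionSystem S) (hF : F.IsSaturated 3) [Fact (Nat.Prime 3)] (E : Subgroup Ω) (hE : F.IsEssential 3 E) (hpearl : (Nat.card E = 9 ∧ ∀ x ∈ E, x ^ 3 = 1 ∧ IsMulCommutative ↥E) ∨ (Nat.card E = 27 ∧ ¬ IsMulCommutative ↥E)) : (Cfsg.IsExtraspecial 3 ↥S ∧ Nat.card S = 27 ∧ Monoid.exponent ↥S = 3) ∨ (81 ≤ Nat.card S ∧ ∀ H : Subgroup Ω, H ≤ S → ∃ T : Finset Ω, T.card ≤ 2 ∧ Subgroup.closure (T : Set Ω) = H) ∨ (∃ W : Sylow 3 (Equiv.Perm (Fin 9)), Nonempty (↥S ≃* ↥(W : Subgroup (Equiv.Perm (Fin 9))))) := by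
  classical
  have hES : E ≤ S := hE.1.1
  haveI : Finite E := Fusion.Saturation.finite_of_le hES
  obtain ⟨hmax, -⟩ := Agent.S5238.result 3 hS F hF (by norm_num) E hE hpearl
  obtain ⟨n, hn⟩ := IsPGroup.iff_card.mp hS
  have hlt := Fusion.Saturation.card_lt_card (Fusion.Alperin.essential_lt hS hF hE)
  set E' : Subgroup ↥S := E.subgroupOf S
  have hcard : Nat.card E' = Nat.card E := Nat.card_congr (subgroupOfEquivOfLe hES).toEquiv
  have hC : centralizer (E' : Set ↥S) ≤ E' := by
    intro g hg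
    refine mem_subgroupOf.mpr (hE.1.2 E (Fusion.Basic.isConj_refl hES) ?_)
    exact ⟨g.2, fun e he => congrArg Subtype.val (hg ⟨e, hES he⟩ (mem_subgroupOf.mpr he))⟩
  have hn3 : 3 ≤ n := by
    by_contra h
    have : Nat.card S ≤ 3 ^ 2 := hn ▸ Nat.pow_le_pow_right (by norm_num) (by omega)
    rcases hpearl with ⟨h9, -⟩ | ⟨h27, -⟩ <;> omega
  have hcl : Group.nilpotencyClass ↥S = n - 1 := by
    refine (class_eq_iff hn3 hn).mpr fun hbot => hmax n hn hn3 ?_
    have h := congrArg (Subgroup.map S.subtype) hbot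
    rwa [Subgroup.top_subtype_lowerCentralSeries, Subgroup.map_bot] at h
  rcases eq_or_lt_of_le hn3 with rfl | hn4
  · left
    rcases hpearl with ⟨h9, hexp⟩ | ⟨h27, -⟩
    · have hab : ∀ x ∈ E, ∀ y ∈ E, x * y = y * x := fun x hx y hy =>
        congrArg Subtype.val ((hexp x hx).2.is_comm.comm ⟨x, hx⟩ ⟨y, hy⟩)
      have hexpS := exponent_three hS (by rw [hn]; norm_num) hF hE h9 (fun x hx => (hexp x hx).1) hab
      have hna : ¬ ∀ s t : S, s * t = t * s := by
        intro h
        refine (Fusion.Alperin.essential_lt hS hF hE).not_ge fun s hs => ?_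
        exact mem_subgroupOf.mp (hC (fun e _ => h e ⟨s, hs⟩ : (⟨s, hs⟩ : S) ∈ centralizer (E' : Set ↥S)))
      have hZ : Nat.card (center S) = 3 := GStructB.MaxClass.card_center (p := 3) hn hna
      obtain ⟨z, hz⟩ : ∃ z : center S, z ≠ 1 := by
        haveI : Nontrivial (center S) := Finite.one_lt_card_iff_nontrivial.mp (by omega)
        exact exists_ne 1
      have hzc : center S = zpowers (z : S) := (eq_of_le_of_card_ge (zpowers_le.mpr z.2) (by
        rw [hZ, Nat.card_zpowers, orderOf_eq_prime (Subtype.ext (hexpS _ (z : S).2) : (z : S) ^ 3 = 1)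
          fun h => hz (Subtype.ext h)])).symm
      have hq : Nat.card (S ⧸ center S) = 3 ^ 2 := by
        have := (center S).card_eq_card_quotient_mul_card_subgroup
        rw [hZ, hn] at this
        omega
      refine ⟨GenA.SymplecticType.isExtraspecial hS
        (orderOf_eq_prime (Subtype.ext (hexpS _ (z : S).2) : (z : S) ^ 3 = 1) fun h => hz (Subtype.ext h))
        hzc (fun a b => ?_) (fun a => ?_) ?_, by rw [hn]; norm_num, ?_⟩
      · rw [← hzc, ← QuotientGroup.eq_one_iff]
        show QuotientGroup.mk' (center S) ⁅a, b⁆ = 1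
        rw [map_commutatorElement, commutatorElement_eq_one_iff_mul_comm]
        exact GStructB.MaxClass.comm_of_card (p := 3) le_rfl hq _ _
      · rw [show a ^ 3 = 1 from Subtype.ext (hexpS a a.2)]; exact one_mem _
      · push Not at hna
        obtain ⟨a, b, hab'⟩ := hna
        exact ⟨a, b, fun h => hab' (commutatorElement_eq_one_iff_mul_comm.mp h)⟩
      · have hdvd : Monoid.exponent ↥S ∣ 3 :=
          Monoid.exponent_dvd_of_forall_pow_eq_one fun a => Subtype.ext (hexpS a a.2)
        refine ((Nat.dvd_prime (by norm_num : Nat.Prime 3)).mp hdvd).resolve_left fun h => ?_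
        haveI : Subsingleton ↥S := Monoid.exp_eq_one_iff.mp h
        exact hna fun s t => Subsingleton.elim _ _
    · rw [hn] at hlt
      omega
  · obtain ⟨x, hx⟩ : ∃ x : ↥S, Small 3 x := by
      rcases hpearl with ⟨h9, hexp⟩ | ⟨h27, hna⟩
      · exact Agent.S5238.small_of_sq hS (hcard.trans (by rw [h9]; norm_num))
          (fun a ha => Subtype.ext (hexp a (mem_subgroupOf.mp ha)).1) hC
      · have h33 : Nat.card E = 3 ^ 3 := by rw [h27]; norm_num
        refine Agent.S5238.small_of_cube hS (hcard.trans h33) (fun h => hna ⟨⟨fun a b => ?_⟩⟩) ?_ hC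
        · exact Subtype.ext (congrArg (fun w : E' => ((w : ↥S) : Ω))
            (h ⟨⟨a, hES a.2⟩, mem_subgroupOf.mpr a.2⟩ ⟨⟨b, hES b.2⟩, mem_subgroupOf.mpr b.2⟩) :)
        · intro b hb
          exact Subtype.ext (congrArg Subtype.val
            (exponent_pearl hS hE h33 hna (by norm_num) ⟨b, mem_subgroupOf.mp hb⟩) :)
    right
    rcases Fusion.SmallThree.two_gen_or_wreath hx hn4 hn hcl with h | h
    · refine Or.inl ⟨?_, fun H hH => ?_⟩
      · rw [hn]
        exact (by norm_num : 81 = 3 ^ 4).le.trans (Nat.pow_le_pow_right (by norm_num) hn4)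
      · obtain ⟨T, hT, hTH⟩ := h (H.subgroupOf S)
        refine ⟨T.image S.subtype, Finset.card_image_le.trans hT, ?_⟩
        rw [Finset.coe_image, ← MonoidHom.map_closure, hTH, subgroupOf_map_subtype, inf_eq_left.mpr hH]
    · exact Or.inr h

end Cfsg.Agent.S5239
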