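import Cfsg.Statements.S5243
import Cfsg.Agent.Lib.Fusion.PPrimeIndex
-- import your own Cfsg.Agent.* helpers here

set_option autoImplicit false
open Cfsg

namespace Cfsg.Agent.S5243

/-- Let F be a saturated fusion system over a finite p-group S, E a normal subsystem of F over T ≤ S, and χ a surjective homomorphism from Aut_F(T) onto a nontrivial finite group Δ of order prime to p whose kernel contains Aut_E(T). Then there is a proper normal subsystem F₀ of F over S containing E such that Aut_{F₀}(S) consists of those α ∈ Aut_F(S) whose restriction to T is an element of Aut_F(T) in the kernel of χ; moreover every p'-residual subsystem O^{p'}(F) of F is contained in F₀. -/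
theorem result {Ω : Type*} [Group Ω] {S : Subgroup Ω} [Finite S] (p : ℕ) [Fact p.Prime] (hS : IsPGroup p S) (F : Cfsg.FusionSystem S) (hF : F.IsSaturated p) {T : Subgroup Ω} (hTS : T ≤ S) (E : Cfsg.FusionSystem T) (hE : E.IsNormalIn F p) {Δ : Type*} [Group Δ] [Finite Δ] [Nontrivial Δ] (hΔ : (Nat.card Δ).Coprime p) (χ : ↥(F.autGroup T) →* Δ) (hχ : Function.Surjective χ) (hker : (E.autGroup T).subgroupOf (F.autGroup T) ≤ χ.ker) : ∃ F₀ : Cfsg.FusionSystem S, F₀.IsNormalIn F p ∧ ¬ (∀ P : Subgroup Ω, F₀.Hom P = F.Hom P) ∧ E.IsSubsystemOf F₀ ∧ (∀ α : MulAut ↥S, α ∈ F₀.autGroup S ↔ α ∈ F.autGroup S ∧ ∃ β : ↥(F.autGroup T), χ β = 1 ∧ ∀ t : ↥T, (((β : MulAut ↥T) t : ↥T) : Ω) = ((α ⟨(t : Ω), hTS t.2⟩ : ↥S) : Ω)) ∧ ∀ R : Cfsg.FusionSystem S, F.IsPPrimeResidual p R → R.IsSubsystemOf F₀ := by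
  classical
  have hEi := hE.1.2.2
  have hEs := hE.1.1
  obtain ⟨r, hr⟩ := Agent.Fusion.PPrimeIndex.exists_res hEi
  obtain ⟨F₀, hF₀⟩ := Agent.Fusion.PPrimeIndex.exists_sys hS χ r (p := p)
  refine ⟨F₀, Agent.Fusion.PPrimeIndex.isNormalIn hS hF hEi hEs hΔ χ hker r hr hF₀,
    Agent.Fusion.PPrimeIndex.ne_top hS hF hEi hEs hΔ χ hker r hr hF₀ hχ,
    Agent.Fusion.PPrimeIndex.e_sub hS hF hEi hEs hΔ χ hker r hr hF₀, fun α => ?_,
    fun R hR => hR.2.2 F₀ (Agent.Fusion.PPrimeIndex.saturated hS hF hEi hEs hΔ χ hker r hr hF₀)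
      (Agent.Fusion.PPrimeIndex.primeIndex hS hF χ r hF₀)⟩
  rw [Agent.Fusion.PPrimeIndex.aut_iff hS hF hEi hEs hΔ χ hker r hr hF₀]
  constructor
  · rintro ⟨h, h1⟩
    refine ⟨h, r ⟨α, h⟩, h1, fun t => ?_⟩
    rw [← Agent.Fusion.Basic.autFun_apply, hr _ t t.2, Agent.Fusion.Basic.autFun_of_mem _ (hTS t.2)]
  · rintro ⟨h, β, hβ, hβe⟩
    refine ⟨h, ?_⟩
    rw [show r ⟨α, h⟩ = β from Subtype.ext (Agent.Fusion.Basic.autFun_ext fun x hx => ?_)]
    · exact hβ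
    · rw [hr _ x hx, Agent.Fusion.Basic.autFun_of_mem _ (hTS hx),
        Agent.Fusion.Basic.autFun_of_mem _ hx]
      exact (hβe ⟨x, hx⟩).symm

end Cfsg.Agent.S5243
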