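import Cfsg.Statements.S5257
import Cfsg.Agent.Lib.CharP.AbelianIndex

set_option autoImplicit false
open Cfsg
open scoped commutatorElement

namespace Cfsg.Agent.S5257

open Cfsg.Agent.CharP.AbelianIndex

theorem relIndex_sup' {Ω : Type*} [Group Ω] {S H K : Subgroup Ω} (hH : H ≤ S) (hK : K ≤ S)
    (hn : S ≤ Subgroup.normalizer (K : Set Ω)) : K.relIndex (H ⊔ K) = K.relIndex H := by
  haveI : (K.subgroupOf S).Normal := (Subgroup.normal_subgroupOf_iff_le_normalizer hK).mpr hn
  rw [← Subgroup.relIndex_subgroupOf (sup_le hH hK), ← Subgroup.relIndex_subgroupOf hH,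
    Subgroup.subgroupOf_sup hH hK, Subgroup.relIndex_sup_right]

/-- Let p be an odd prime, S a finite nonabelian p-group with a unique abelian subgroup A of index p, and F a saturated fusion system over S having an F-essential subgroup other than A. Then the second centre Z₂(S) lies in A; Z(S) ∩ [S, S] has order p; Z(S)[S, S] has index p in A; Z(S) has index p in Z₂(S); and S/Z(S) has maximal nilpotency class (if S/Z(S) has order pᵐ with m ≥ 3 then the term of index m − 2 of the lower central series of S, counting S as index 0, is not contained in Z(S)). -/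
theorem result {Ω : Type*} [Group Ω] {S : Subgroup Ω} [Finite S] (p : ℕ) [Fact p.Prime] (hS : IsPGroup p S) (F : Cfsg.FusionSystem S) (hF : F.IsSaturated p) (hp : p ≠ 2) (hna : ¬ IsMulCommutative ↥S) (A : Subgroup Ω) (hA : A ≤ S ∧ IsMulCommutative ↥A ∧ (A.subgroupOf S).index = p) (huniq : ∀ B : Subgroup Ω, B ≤ S → IsMulCommutative ↥B → (B.subgroupOf S).index = p → B = A) (P : Subgroup Ω) (hP : F.IsEssential p P) (hPA : P ≠ A) : ((Subgroup.upperCentralSeries ↥S 2).map S.subtype) ≤ A ∧ Nat.card ↥((S ⊓ Subgroup.centralizer (S : Set Ω)) ⊓ ((commutator ↥S).map S.subtype)) = p ∧ (((S ⊓ Subgroup.centralizer (S : Set Ω)) ⊔ ((commutator ↥S).map S.subtype)).subgroupOf A).index = p ∧ (((S ⊓ Subgroup.centralizer (S : Set Ω))).subgroupOf ((Subgroup.upperCentralSeries ↥S 2).map S.subtype)).index = p ∧ ∀ m : ℕ, ((S ⊓ Subgroup.centralizer (S : Set Ω)).subgroupOf S).index = p ^ m → 3 ≤ m → ¬ Subgroup.lowerCentralSeries S (m - 2) ≤ (S ⊓ Subgroup.centralizer (S : Set Ω)) := by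
  have hpp : p.Prime := Fact.out
  have h : Config p S A := ⟨hS, hA.1, fun a ha b hb => congrArg Subtype.val (hA.2.1.is_comm.comm (⟨a, ha⟩ : A) ⟨b, hb⟩),
    hA.2.2, huniq, fun hh => hna ⟨⟨fun a b => Subtype.ext (hh a a.2 b b.2)⟩⟩⟩
  haveI := h.finA
  haveI : Finite (derived S) := Fusion.Saturation.finite_of_le (Subgroup.map_subtype_le (commutator ↥S))
  have hsec := h.relIndex_sec hF hP hPA
  obtain ⟨x, hxP, hxA⟩ := exists_mem_outside h hP hPA
  have hxS : x ∈ S := hP.1.1 hxP
  -- the second centre
  set Z2 := (Subgroup.upperCentralSeries ↥S 2).map S.subtype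
  have hZc : ∀ w : ↥S, w ∈ Subgroup.center ↥S ↔ (w : Ω) ∈ zc S := fun w => by
    rw [Subgroup.mem_center_iff]
    exact ⟨fun hw => ⟨w.2, fun y hy => congrArg Subtype.val (hw ⟨y, hy⟩)⟩,
      fun hw y => Subtype.ext (hw.2 y y.2)⟩
  have hmem : ∀ w : ↥S, w ∈ Subgroup.upperCentralSeries ↥S 2 ↔ ∀ y ∈ S, del y (w : Ω) ∈ zc S := by
    intro w
    rw [Subgroup.mem_upperCentralSeries_succ_iff]
    simp only [Subgroup.upperCentralSeries_one, hZc]
    exact ⟨fun hw y hy => hw ⟨y, hy⟩, fun hw y => hw y y.2⟩
  have hZ2A : Z2 ≤ A := by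
    rintro _ ⟨z, hz, rfl⟩
    rw [SetLike.mem_coe, hmem] at hz
    by_contra hzA
    have hall : A ≤ sec S A := fun a ha => by
      refine (h.mem_sec z.2 hzA).mpr ⟨ha, ?_⟩
      have := (zc S).inv_mem (hz a (h.le ha))
      have e : del (z : Ω) a = (del a (z : Ω))⁻¹ := by simp only [del]; group
      rw [e]; exact this
    -- then a second abelian subgroup of index `p` would exist
    set B := zc S ⊔ Subgroup.zpowers x
    have hBS : B ≤ S := sup_le zc_le (Subgroup.zpowers_le.mpr hxS)
    have hBc : IsMulCommutative ↥B := by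
      have key : B ≤ Subgroup.centralizer (B : Set Ω) := by
        refine sup_le (fun w hw b hb => zc_comm hw (hBS hb)) (Subgroup.zpowers_le.mpr ?_)
        intro b hb
        have : B ≤ Subgroup.centralizer {x} := sup_le
          (fun w hw => Subgroup.mem_centralizer_singleton_iff.mpr (zc_comm hw hxS).symm)
          (Subgroup.zpowers_le.mpr (Subgroup.mem_centralizer_singleton_iff.mpr rfl))
        exact Subgroup.mem_centralizer_singleton_iff.mp (this hb)
      exact ⟨⟨fun a b => Subtype.ext (key b.2 a a.2)⟩⟩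
    have hBidx : (B.subgroupOf S).index = p := by
      have h1 : (zc S).relIndex B * B.relIndex S = p ^ 2 := by
        rw [Subgroup.relIndex_mul_relIndex _ _ _ le_sup_left hBS,
          ← Subgroup.relIndex_mul_relIndex _ _ _ h.zc_le h.le]
        rw [show (zc S).relIndex A = p from le_antisymm sec_le hall ▸ hsec, show A.relIndex S = p from h.index, pow_two]
      have h2 : (zc S).relIndex B ≠ 1 := fun e =>
        hxA (h.zc_le (Subgroup.relIndex_eq_one.mp e (Subgroup.mem_sup_right (Subgroup.mem_zpowers x))))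
      have h3 : B.relIndex S ≠ 1 := fun e => h.nab fun a ha b hb =>
        congrArg Subtype.val (hBc.is_comm.comm (⟨a, Subgroup.relIndex_eq_one.mp e ha⟩ : B) ⟨b, Subgroup.relIndex_eq_one.mp e hb⟩)
      exact ((Nat.Prime.mul_eq_prime_sq_iff hpp h2 h3).mp h1).2
    exact hxA (huniq B hBS hBc hBidx ▸ Subgroup.mem_sup_right (Subgroup.mem_zpowers x))
  have hZ2eq : Z2 = sec S A := by
    refine le_antisymm ?_ fun a ha => ⟨⟨a, ha.2.1⟩, (hmem _).mpr ha.2.2, rfl⟩
    rintro _ ⟨z, hz, rfl⟩
    exact ⟨hZ2A ⟨z, hz, rfl⟩, z.2, (hmem z).mp hz⟩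
  -- the derived subgroup
  have hder : derived S ≤ A := by
    rw [h.derived_eq hxS hxA]
    rintro _ ⟨a, rfl⟩
    exact h.del_mem hxS a.2
  have hmv : Nat.card (mv S) = p := h.card_mv.trans hsec
  refine ⟨hZ2A, hmv, ?_, ?_, ?_⟩
  · have hcd : Nat.card (derived S) = (zc S).relIndex A := by
      rw [h.derived_eq hxS hxA, ← Subgroup.index_ker]
      show _ = ((zc S).subgroupOf A).index
      congr 1
      ext a
      rw [MonoidHom.mem_ker, Subgroup.mem_subgroupOf]
      show del x a = 1 ↔ _
      constructor
      · intro e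
        refine h.centralizes hxS hxA a.2 ?_
        simp only [del] at e
        rw [mul_inv_eq_one, mul_inv_eq_iff_eq_mul] at e
        exact e.symm
      · intro hz
        simp only [del]
        rw [← zc_comm hz hxS, mul_inv_cancel_right, mul_inv_cancel]
    have hsup : zc S ⊔ derived S ≤ A := sup_le h.zc_le hder
    haveI hn : ((zc S).subgroupOf (zc S ⊔ derived S)).Normal := ⟨fun z hz g => by
      rw [Subgroup.mem_subgroupOf] at hz ⊢
      rw [Subgroup.coe_mul, Subgroup.coe_mul, Subgroup.coe_inv, zc_comm hz (h.le (hsup g.2)), mul_inv_cancel_right]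
      exact hz⟩
    have h1 : (zc S).relIndex (zc S ⊔ derived S) * p = Nat.card (derived S) := by
      have h2 : (zc S).relIndex (zc S ⊔ derived S) = (zc S).relIndex (derived S) := by
        rw [sup_comm]
        exact relIndex_sup' (hder.trans h.le) zc_le fun d hd => Subgroup.centralizer_le_normalizer _ fun z hz =>
          (zc_comm hz hd).symm
      rw [h2, ← hmv, show mv S = zc S ⊓ derived S from rfl]
      have := Subgroup.card_mul_index ((zc S).subgroupOf (derived S))
      rw [← Subgroup.inf_subgroupOf_right, Nat.card_congr (Subgroup.subgroupOfEquivOfLe inf_le_right).toEquiv,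
        Subgroup.inf_subgroupOf_right] at this
      rw [mul_comm]; exact this
    have h3 := Subgroup.relIndex_mul_relIndex (zc S) (zc S ⊔ derived S) A le_sup_left hsup
    rw [← hcd, ← h1] at h3
    exact Nat.eq_of_mul_eq_mul_left (Nat.pos_of_ne_zero fun e => by
      rw [e, Nat.zero_mul] at h1
      exact absurd h1.symm (Nat.card_pos (α := derived S)).ne') h3
  · rw [hZ2eq]; exact hsec
  · intro m hm h3 hle
    set Z := (zc S).subgroupOf S
    haveI : Z.Normal := ⟨fun z hz g => by
      rw [Subgroup.mem_subgroupOf] at hz ⊢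
      rw [Subgroup.coe_mul, Subgroup.coe_mul, Subgroup.coe_inv, zc_comm hz g.2, mul_inv_cancel_right]
      exact hz⟩
    set q := QuotientGroup.mk' Z
    set x' : ↥S := ⟨x, hxS⟩
    -- the centralizer of the image of `x`
    set C := Subgroup.centralizer ({q x'} : Set (↥S ⧸ Z))
    have hqx : q x' ≠ 1 := fun e => hxA (h.zc_le (Subgroup.mem_subgroupOf.mp ((QuotientGroup.eq_one_iff _).mp e)))
    have hC : C.comap q = (Subgroup.zpowers x ⊔ sec S A).subgroupOf S := by
      have hcomap : ∀ g : ↥S, g ∈ C.comap q ↔ del x (g : Ω) ∈ zc S := fun g => by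
        rw [Subgroup.mem_comap, Subgroup.mem_centralizer_singleton_iff, ← commutatorElement_eq_one_iff_mul_comm,
          ← map_commutatorElement]
        exact QuotientGroup.eq_one_iff _
      refine le_antisymm (fun g hg => ?_) fun g hg => ?_
      · obtain ⟨i, a, ha, e⟩ := h.decomp hxS hxA g.2
        rw [Subgroup.mem_subgroupOf, e]
        refine Subgroup.mul_mem _ (Subgroup.mem_sup_left (Subgroup.zpow_mem_zpowers x i)) (Subgroup.mem_sup_right ?_)
        refine (h.mem_sec hxS hxA).mpr ⟨ha, ?_⟩
        have h1 := (hcomap g).mp hg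
        rw [e] at h1
        have h2 : del x (x ^ i * a) = x ^ i * del x a * (x ^ i)⁻¹ := by simp only [del]; group
        rw [h2] at h1
        have h4 : del x a = (x ^ i)⁻¹ * (x ^ i * del x a * (x ^ i)⁻¹) * x ^ i := by group
        rw [h4, zc_comm h1 (S.inv_mem (S.zpow_mem hxS i)), inv_mul_cancel_right]
        exact h1
      · have hle' : (Subgroup.zpowers x ⊔ sec S A).subgroupOf S ≤ C.comap q := by
          intro w hw
          have hw' : (w : Ω) ∈ (C.comap q).map S.subtype := by
            refine (sup_le (Subgroup.zpowers_le.mpr (Subgroup.mem_map.mpr ⟨x', ?_, rfl⟩)) ?_ :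
              Subgroup.zpowers x ⊔ sec S A ≤ (C.comap q).map S.subtype) hw
            · exact Subgroup.mem_centralizer_singleton_iff.mpr rfl
            · intro a ha
              exact ⟨⟨a, ha.2.1⟩, (hcomap _).mpr (ha.2.2 x hxS), rfl⟩
          obtain ⟨w', hw', e⟩ := hw'
          exact (Subtype.ext e : w' = w) ▸ hw'
        exact hle' hg
    have hCcard : Nat.card C = p ^ 2 := by
      have h1 := Subgroup.card_mul_index (C.comap q)
      have hcardC : Nat.card (C.comap q) = Nat.card C * Nat.card Z := by
        rw [Subgroup.index_comap_of_surjective C (QuotientGroup.mk'_surjective Z), ← Subgroup.card_mul_index Z,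
          Subgroup.index_eq_card Z, ← Subgroup.card_mul_index C] at h1
        exact Nat.eq_of_mul_eq_mul_right (Nat.pos_of_ne_zero Subgroup.index_ne_zero_of_finite) (h1.trans (by ring))
      have hT : Subgroup.zpowers x ⊔ sec S A ≤ S :=
        sup_le (Subgroup.zpowers_le.mpr hxS) (sec_le.trans h.le)
      have hZT : zc S ≤ Subgroup.zpowers x ⊔ sec S A := h.zc_le_sec.trans le_sup_right
      have h2 : (zc S).relIndex (Subgroup.zpowers x ⊔ sec S A) = p ^ 2 := by
        rw [← Subgroup.relIndex_mul_relIndex _ _ _ h.zc_le_sec le_sup_right, hsec, pow_two]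
        congr 1
        rw [relIndex_sup' (S := S) (Subgroup.zpowers_le.mpr hxS) (sec_le.trans h.le) ?_]
        · have hle1 : (sec S A).relIndex (Subgroup.zpowers x) ≠ 1 := fun e =>
            hxA (sec_le (Subgroup.relIndex_eq_one.mp e (Subgroup.mem_zpowers x)))
          haveI : Finite (Subgroup.zpowers x) := Fusion.Saturation.finite_of_le (Subgroup.zpowers_le.mpr hxS)
          haveI : Fact p.Prime := ⟨hpp⟩
          haveI hn' : ((sec S A).subgroupOf (Subgroup.zpowers x)).Normal := inferInstance
          have hp' : ((sec S A).subgroupOf (Subgroup.zpowers x)).index ∣ p := by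
            have hgen : ∀ w : ↥(Subgroup.zpowers x), (w : Ω) ^ p ∈ sec S A := fun w => by
              obtain ⟨i, hi⟩ := Subgroup.mem_zpowers_iff.mp w.2
              rw [← hi, ← zpow_natCast (x ^ i) p, ← zpow_mul, mul_comm, zpow_mul, zpow_natCast]
              exact (sec S A).zpow_mem (h.zc_le_sec (h.pow_mem hxS hxA)) i
            rw [Subgroup.index_eq_card]
            haveI : IsCyclic (↥(Subgroup.zpowers x) ⧸ (sec S A).subgroupOf (Subgroup.zpowers x)) :=
              isCyclic_of_surjective _ (QuotientGroup.mk'_surjective _)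
            obtain ⟨g, hg⟩ := IsCyclic.exists_generator
              (α := ↥(Subgroup.zpowers x) ⧸ (sec S A).subgroupOf (Subgroup.zpowers x))
            rw [← orderOf_eq_card_of_forall_mem_zpowers hg]
            refine orderOf_dvd_of_pow_eq_one ?_
            obtain ⟨g, rfl⟩ := QuotientGroup.mk'_surjective _ g
            rw [← map_pow]
            exact (QuotientGroup.eq_one_iff _).mpr (Subgroup.mem_subgroupOf.mpr (hgen g))
          exact ((Nat.dvd_prime hpp).mp hp').resolve_left hle1
        · haveI : Finite (sec S A) := Fusion.Saturation.finite_of_le (sec_le (S := S) (A := A))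
          intro g hg
          refine Fusion.Saturation.mem_normalizer_of_forall (P := sec S A) fun a ha => ?_
          have e : g * a * g⁻¹ = a * (del g a⁻¹) := by simp only [del]; group
          rw [e]
          exact (sec S A).mul_mem ha (h.zc_le_sec (((sec S A).inv_mem ha).2.2 g hg))
      rw [hC, Nat.card_congr (Subgroup.subgroupOfEquivOfLe hT).toEquiv,
        Nat.card_congr (Subgroup.subgroupOfEquivOfLe zc_le).toEquiv] at hcardC
      have h4 := Subgroup.card_mul_index ((zc S).subgroupOf (Subgroup.zpowers x ⊔ sec S A))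
      rw [Nat.card_congr (Subgroup.subgroupOfEquivOfLe hZT).toEquiv] at h4
      haveI : Finite (zc S) := Fusion.Saturation.finite_of_le (zc_le (S := S))
      refine Nat.eq_of_mul_eq_mul_right (Nat.card_pos (α := zc S)) ?_
      rw [← hcardC, ← h4, mul_comm]
      exact congrArg (· * _) h2
    have hCc : Subgroup.centralizer (C : Set (↥S ⧸ Z)) = C := by
      refine le_antisymm (fun g hg => Subgroup.mem_centralizer_singleton_iff.mpr ?_) fun g hg w hw =>
        congrArg Subtype.val (GStructB.MaxClass.comm_of_card (p := p) le_rfl hCcard ⟨w, hw⟩ ⟨g, hg⟩)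
      exact (hg (q x') (Subgroup.mem_centralizer_singleton_iff.mpr rfl)).symm
    have hQ : Nat.card (↥S ⧸ Z) = p ^ m := by rw [← Subgroup.index_eq_card]; exact hm
    have hcl := (GStructB.MaxClass.class_aux m).1 (↥S ⧸ Z) hQ C hCcard hCc
    haveI := (hS.to_quotient Z).isNilpotent
    have hbot : (⊤ : Subgroup (↥S ⧸ Z)).lowerCentralSeries (m - 2) = ⊥ := by
      rw [← Subgroup.map_top_of_surjective q (QuotientGroup.mk'_surjective Z), ← Subgroup.map_lowerCentralSeries,
        Subgroup.map_eq_bot_iff, QuotientGroup.ker_mk']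
      intro w hw
      refine Subgroup.mem_subgroupOf.mpr (hle ?_)
      rw [← Subgroup.top_subtype_lowerCentralSeries]
      exact ⟨w, hw, rfl⟩
    have := Subgroup.lowerCentralSeries_eq_bot_iff_nilpotencyClass_le.mp hbot
    rw [hcl] at this
    omega

end Cfsg.Agent.S5257
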