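import Cfsg.Statements.S5244
import Cfsg.Agent.Lib.CharP.AbelianIndexAct
import Cfsg.Agent.S5257

set_option autoImplicit false
open Cfsg
open scoped commutatorElement

namespace Cfsg.Agent.S5244

open Cfsg.FusionSystem Cfsg.Agent.CharP.AbelianIndex
open Cfsg.Agent.Fusion.Basic Cfsg.Agent.Fusion.Saturation

/-- Let p be an odd prime, S a finite nonabelian p-group with a unique abelian subgroup A of index p, and F a saturated fusion system over S with no nontrivial normal subgroup (O_p(F) = 1) in which A is not F-essential. Then some subgroup Z(S)⟨x⟩ with x ∈ S outside A is F-essential, the centre Z(S) is contained in the commutator subgroup of S, and S has maximal nilpotency class (if S has order pⁿ with n ≥ 3, the term of index n − 2 of its lower central series, counting S itself as the term of index 0, is nontrivial). -/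
theorem result {Ω : Type*} [Group Ω] {S : Subgroup Ω} [Finite S] (p : ℕ) [Fact p.Prime] (hS : IsPGroup p S) (F : Cfsg.FusionSystem S) (hF : F.IsSaturated p) (hp : p ≠ 2) (hna : ¬ IsMulCommutative ↥S) (A : Subgroup Ω) (hA : A ≤ S ∧ IsMulCommutative ↥A ∧ (A.subgroupOf S).index = p) (huniq : ∀ B : Subgroup Ω, B ≤ S → IsMulCommutative ↥B → (B.subgroupOf S).index = p → B = A) (hcore : F.core = ⊥) (hAe : ¬ F.IsEssential p A) : (∃ x ∈ S, x ∉ A ∧ F.IsEssential p ((S ⊓ Subgroup.centralizer (S : Set Ω)) ⊔ Subgroup.zpowers x)) ∧ (S ⊓ Subgroup.centralizer (S : Set Ω)) ≤ (commutator ↥S).map S.subtype ∧ ∀ n : ℕ, Nat.card S = p ^ n → 3 ≤ n → Subgroup.lowerCentralSeries S (n - 2) ≠ ⊥ := by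
  have hpp : p.Prime := Fact.out
  have h : Config p S A := ⟨hS, hA.1, fun a ha b hb => congrArg Subtype.val (hA.2.1.is_comm.comm (⟨a, ha⟩ : A) ⟨b, hb⟩),
    hA.2.2, huniq, fun hh => hna ⟨⟨fun a b => Subtype.ext (hh a a.2 b b.2)⟩⟩⟩
  have hne : ∀ {P : Subgroup Ω}, F.IsEssential p P → P ≠ A := fun hP e => hAe (e ▸ hP)
  haveI : Finite (zc S) := finite_of_le (zc_le (S := S))
  have hSne : S ≠ ⊥ := fun e => h.nab fun a ha b hb => by
    rw [e, Subgroup.mem_bot] at ha hb; rw [ha, hb]
  have hnormal : ∀ W : Subgroup Ω, F.IsNormal W → W = ⊥ := fun W hW => le_bot_iff.mp (hcore ▸ Fusion.Normal.le_core hW)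
  have hZne : zc S ≠ ⊥ := by
    intro e
    haveI : Nontrivial ↥S := (Subgroup.nontrivial_iff_ne_bot S).mpr hSne
    haveI := hS.center_nontrivial
    obtain ⟨⟨z, hz⟩, hz1⟩ := exists_ne (1 : Subgroup.center ↥S)
    refine hz1 (Subtype.ext (Subtype.ext ?_))
    have : (z : Ω) ∈ zc S := ⟨z.2, fun y hy => congrArg Subtype.val (Subgroup.mem_center_iff.mp hz ⟨y, hy⟩)⟩
    rw [e, Subgroup.mem_bot] at this
    exact this
  -- non-abelian essential subgroups act on the centre like `S`
  have hnabP : ∀ {P : Subgroup Ω}, F.IsEssential p P → P ⊓ A ≠ zc S → Nab P := by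
    intro P hP hne'
    obtain ⟨x, hx, hxA⟩ := exists_mem_outside h hP (hne hP)
    obtain ⟨a, ha, haZ⟩ : ∃ a ∈ P ⊓ A, a ∉ zc S := by
      by_contra hh
      push Not at hh
      exact hne' (le_antisymm hh (le_inf (zc_le_essential h hP) h.zc_le))
    exact ⟨x, hx, a, ha.1, fun e => haZ (h.centralizes (hP.1.1 hx) hxA ha.2 e)⟩
  have hinvS : ∀ α ∈ F.autGroup S, img (autFun α) (zc S) = zc S := fun α hα =>
    eq_of_le_card (img_le fun z hz => zc_autFun hα hz)
      ((isMap_of_mem_autGroup le_rfl hα).restrict zc_le).card_img.ge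
  -- an abelian essential subgroup
  obtain ⟨P, hP, hab⟩ : ∃ P, F.IsEssential p P ∧ P ⊓ A = zc S := by
    by_contra hh
    push Not at hh
    refine hZne (hnormal _ (Fusion.Normal.normal_of_invariant hS hF fun P hP => ?_))
    rcases hP with rfl | hP
    · exact ⟨zc_le, hinvS⟩
    · have hZP := zc_le_essential h hP
      refine ⟨hZP, fun α hα => ?_⟩
      obtain ⟨γ, hγ, hγe⟩ := exists_on_center h hF (isMap_of_mem_autGroup hP.1.1 hα) hZP (hnabP hP (hh P hP))
      rw [img_congr hγe]
      exact hinvS γ hγ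
  have hPA := hne hP
  obtain ⟨x, hxP, hxA⟩ := exists_mem_outside h hP hPA
  have hxZ : x ∉ zc S := fun e => hxA (h.zc_le e)
  have hPeq : zc S ⊔ Subgroup.zpowers x = P := sup_eq_of_notMem h hF hP hab hxP hxZ
  -- the centre is the moved part
  have hZmv : zc S ≤ derived S := by
    obtain ⟨β₀, hβ₀, hmove₀⟩ := exists_moving h hF hP hab hxP hxA
    obtain ⟨α₀, hα₀, hfix₀⟩ := exists_inverter h hF hp hP hab hxP hxA hβ₀ hmove₀
    let W : Subgroup Ω :=
      { carrier := {z | z ∈ zc S ∧ autFun α₀ z = z}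
        one_mem' := ⟨(zc S).one_mem, (isMap_of_mem_autGroup le_rfl hα₀.mem).map_one⟩
        mul_mem' := fun {a b} ha hb => ⟨(zc S).mul_mem ha.1 hb.1, by
          rw [(isMap_of_mem_autGroup le_rfl hα₀.mem).map_mul ha.1.1 hb.1.1, ha.2, hb.2]⟩
        inv_mem' := fun {a} ha => ⟨(zc S).inv_mem ha.1, by
          rw [(isMap_of_mem_autGroup le_rfl hα₀.mem).map_inv ha.1.1, ha.2]⟩ }
    haveI : Finite W := finite_of_le (fun z (hz : z ∈ W) => hz.1 : W ≤ zc S)
    have hWinvS : ∀ γ ∈ F.autGroup S, ∀ z ∈ W, autFun γ z ∈ W := by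
      intro γ hγ z hz
      refine ⟨zc_autFun hγ hz.1, ?_⟩
      rw [← (hα₀.conj h hF hγ).agree h hF hα₀ (zc_autFun hγ hz.1), autFun_mul, autFun_mul, autFun_inv_apply, hz.2]
    have hW : F.IsNormal W := by
      refine Fusion.Normal.normal_of_invariant hS hF fun Q hQ => ?_
      have hQS : Q ≤ S := by rcases hQ with rfl | hQ; exacts [le_rfl, hQ.1.1]
      have hWQ : W ≤ Q := by
        rcases hQ with rfl | hQ
        · exact fun z hz => hz.1.1
        · exact fun z hz => zc_le_essential h hQ hz.1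
      refine ⟨hWQ, fun α hα => ?_⟩
      have hm := (isMap_of_mem_autGroup hQS hα).restrict hWQ
      refine eq_of_le_card (img_le fun z hz => ?_) hm.card_img.ge
      rcases hQ with rfl | hQ
      · exact hWinvS α hα z hz
      by_cases hQab : Q ⊓ A = zc S
      · -- abelian shape
        obtain ⟨y, hy, hyA⟩ := exists_mem_outside h hQ (hne hQ)
        have hW_eq : ∀ β ∈ F.autGroup Q, (∃ u ∈ zc S, autFun β u ∉ zc S) → ∀ u ∈ zc S,
            (u ∈ W ↔ u ∈ img (autFun β) (zc S)) := by
          intro β hβ hmove u hu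
          obtain ⟨γ, hγ, hfix⟩ := exists_inverter h hF hp hQ hQab hy hyA hβ hmove
          rw [← hfix u hu, hγ.agree h hF hα₀ hu]
          exact ⟨fun e => e.2, fun e => ⟨hu, e⟩⟩
        by_cases hmove : ∃ u ∈ zc S, autFun α u ∉ zc S
        · have h1 := (hW_eq α⁻¹ (inv_mem hα) (moving_inv h hF hQ hQab hα hmove) z hz.1).mp hz
          obtain ⟨u, hu, e⟩ := ((isMap_of_mem_autGroup hQS (inv_mem hα)).restrict (zc_le_essential h hQ)).mem_img.mp h1
          have h2 : autFun α z = u := by rw [← e, autFun_apply_inv]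
          rw [h2]
          exact (hW_eq α hα hmove u hu).mpr (h2 ▸ mem_img_self _ hz.1)
        · push Not at hmove
          obtain ⟨β, hβ, hβmove⟩ := exists_moving h hF hQ hQab hy hyA
          obtain ⟨u, hu, hu'⟩ := ((isMap_of_mem_autGroup hQS hβ).restrict (zc_le_essential h hQ)).mem_img.mp
            ((hW_eq β hβ hβmove z hz.1).mp hz)
          have hαβ : ∃ v ∈ zc S, autFun (α * β) v ∉ zc S := by
            obtain ⟨v, hv, hv'⟩ := hβmove
            refine ⟨v, hv, fun e => hv' ?_⟩
            rw [autFun_mul] at e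
            haveI : Finite (zc S) := finite_of_le (zc_le (S := S))
            have hmz := (isMap_of_mem_autGroup hQS hα).restrict (zc_le_essential h hQ)
            have heq : img (autFun α) (zc S) = zc S := eq_of_le_card (img_le hmove) hmz.card_img.ge
            obtain ⟨w, hw, he⟩ := hmz.mem_img.mp (heq.ge e)
            have : autFun β v = w := by
              rw [← autFun_inv_apply α (autFun β v), ← he, autFun_inv_apply]
            rw [this]; exact hw
          refine (hW_eq (α * β) (mul_mem hα hβ) hαβ _ (hmove z hz.1)).mpr ?_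
          rw [← hu', ← autFun_mul]
          exact mem_img_self _ hu
      · obtain ⟨γ, hγ, hγe⟩ := exists_on_center h hF (isMap_of_mem_autGroup hQS hα) (zc_le_essential h hQ)
          (hnabP hQ hQab)
        rw [hγe z hz.1]
        exact hWinvS γ hγ z hz
    have hWbot := hnormal W hW
    intro z hz
    have hfix : autFun α₀ z * z ∈ zc S := (zc S).mul_mem (zc_autFun hα₀.mem hz) hz
    have h1 : autFun α₀ z * z = 1 := by
      have hmem : autFun α₀ z * z ∈ W := ⟨hfix, by
        rw [(isMap_of_mem_autGroup le_rfl hα₀.mem).map_mul (zc_autFun hα₀.mem hz).1 hz.1, hα₀.comp_fix h hF hα₀ hz]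
        exact (zc_comm (zc_autFun hα₀.mem hz) hz.1)⟩
      rwa [hWbot, Subgroup.mem_bot] at hmem
    have h2 := hα₀.move z hz
    rw [eq_inv_of_mul_eq_one_left h1, ← pow_two] at h2
    -- `z ^ 2` is moved, hence `z` is
    have hz2 : (z ^ 2) ∈ mv S := by
      have := (mv S).inv_mem h2
      rwa [inv_pow, inv_inv] at this
    obtain ⟨k, hk⟩ : ∃ k, p = 2 * k + 1 := (hpp.odd_of_ne_two hp)
    haveI : Finite P := finite_of_le hP.1.1
    obtain ⟨m, hm⟩ := IsPGroup.iff_card.mp (hS.to_le (zc_le (S := S)))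
    obtain ⟨j, hj⟩ : ∃ j, p ^ m = 2 * j + 1 := (Odd.pow ⟨k, hk⟩)
    have hzp : z ^ (2 * j + 1) = 1 := by
      have h3 := congrArg (zc S).subtype (pow_card_eq_one' (G := zc S) (x := ⟨z, hz⟩))
      rw [map_pow, map_one, hm, hj] at h3
      exact h3
    have h4 : z = (z ^ 2)⁻¹ ^ j := by
      rw [inv_pow, ← pow_mul, eq_inv_iff_mul_eq_one, ← pow_succ']
      exact hzp
    rw [h4]
    exact ((mv S).pow_mem ((mv S).inv_mem hz2) j).2
  refine ⟨⟨x, hP.1.1 hxP, hxA, hPeq.symm ▸ hP⟩, hZmv, fun n hn h3 hbot => ?_⟩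
  -- maximal class
  have h5257 := (S5257.result p hS F hF hp hna A hA huniq P hP hPA).2.2.2.2
  have hZc : Nat.card (zc S) = p := by
    rw [← card_mv_abelian h hF hP hab hxP hxA]
    rw [show mv S = zc S from inf_eq_left.mpr hZmv]
  have hidx : ((zc S).subgroupOf S).index = p ^ (n - 1) := by
    have := Subgroup.card_mul_index ((zc S).subgroupOf S)
    rw [Nat.card_congr (Subgroup.subgroupOfEquivOfLe zc_le).toEquiv, hZc, hn] at this
    refine Nat.eq_of_mul_eq_mul_left hpp.pos (this.trans ?_)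
    rw [← pow_succ', Nat.sub_add_cancel (by omega : 1 ≤ n)]
  rcases Nat.lt_or_ge n 4 with h4 | h4
  · obtain rfl : n = 3 := by omega
    refine h.nab fun a ha b hb => ?_
    have hmem : a * b * a⁻¹ * b⁻¹ ∈ Subgroup.lowerCentralSeries S (3 - 2) := by
      rw [show 3 - 2 = 0 + 1 from rfl, Subgroup.lowerCentralSeries_succ, Subgroup.lowerCentralSeries_zero]
      exact Subgroup.commutator_mem_commutator ha hb
    rw [hbot, Subgroup.mem_bot, mul_inv_eq_one, mul_inv_eq_iff_eq_mul] at hmem
    exact hmem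
  · refine h5257 (n - 1) hidx (by omega) fun c hc => ⟨((Subgroup.lowerCentralSeries_antitone S (Nat.zero_le _)).trans (Subgroup.lowerCentralSeries_zero S).le) hc,
      fun y hy => ?_⟩
    have hmem : ⁅c, y⁆ ∈ Subgroup.lowerCentralSeries S (n - 1 - 2 + 1) := by
      rw [Subgroup.lowerCentralSeries_succ]
      exact Subgroup.commutator_mem_commutator hc hy
    rw [show n - 1 - 2 + 1 = n - 2 by omega, hbot, Subgroup.mem_bot, commutatorElement_eq_one_iff_mul_comm] at hmem
    exact hmem.symm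

end Cfsg.Agent.S5244
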