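import Cfsg.Statements.S5245
import Mathlib
import Cfsg.Agent.Lib.Fusion.Transport
import Cfsg.Agent.Lib.Fusion.Group
import Cfsg.Agent.Lib.Fusion.Alperin
import Cfsg.Agent.Lib.Fusion.Normal
-- import your own Cfsg.Agent.* helpers here

set_option autoImplicit false
set_option linter.all false
open Cfsg

namespace Cfsg.Agent.S5245

open Cfsg Cfsg.FusionSystem Cfsg.Agent.Fusion Cfsg.Agent.Fusion.Basic Cfsg.Agent.Fusion.Saturation
  Cfsg.Agent.Fusion.SylIn Cfsg.Agent.Fusion.Alperin

variable {Ω : Type*} [Group Ω] {S : Subgroup Ω} {p : ℕ} [Fact p.Prime] {F : FusionSystem S}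

theorem isPGroup_of_coprime_trivial {G : Type*} [Group G] [Finite G]
    (h : ∀ g : G, (orderOf g).Coprime p → g = 1) : IsPGroup p G := by
  intro g
  refine ⟨(orderOf g).factorization p, h _ ?_⟩
  have hdvd : orderOf (g ^ ordProj[p] (orderOf g)) = ordCompl[p] (orderOf g) := by
    rw [orderOf_pow, Nat.gcd_eq_right (Nat.ordProj_dvd _ _)]
  rw [hdvd]
  exact (Nat.coprime_ordCompl Fact.out (orderOf_pos g).ne').symm

/-- The saturated subsystem generated by an automorphism of order prime to `p`. -/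
theorem exists_sub [Finite S] (hS : IsPGroup p S) {R : Subgroup Ω} (hR : R ≤ S) {α : MulAut R}
    (hα : α ∈ F.autGroup R) (hcop : (orderOf α).Coprime p) :
    ∃ E : FusionSystem R, E.IsSaturated p ∧ E.IsSubsystemOf F ∧ IsMap E R (autFun α) ∧
      ∀ (P : Subgroup Ω) (f : Ω → Ω), IsMap E P f →
        ∃ g ∈ R, ∃ n : ℤ, ∀ x ∈ P, f x = g * autFun (α ^ n) x * g⁻¹ := by
  classical
  have : Finite R := finite_of_le hR
  let φ : ↥(Subgroup.zpowers α) →* MulAut R := (Subgroup.zpowers α).subtype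
  have hfin : Finite (R ⋊[φ] ↥(Subgroup.zpowers α)) :=
    Finite.of_equiv _ SemidirectProduct.equivProd.symm
  let ι : R →* R ⋊[φ] ↥(Subgroup.zpowers α) := SemidirectProduct.inl
  let T := ι.range
  have hT : SylIn p T ⊤ := by
    refine ⟨le_top, (hS.to_le hR).of_surjective ι.rangeRestrict ι.rangeRestrict_surjective, ?_⟩
    rw [Subgroup.relIndex_top_right]
    have : T.index = orderOf α := by
      show (SemidirectProduct.inl : R →* R ⋊[φ] ↥(Subgroup.zpowers α)).range.index = _
      rw [SemidirectProduct.range_inl_eq_ker_rightHom, Subgroup.index_ker,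
        MonoidHom.range_eq_top.2 SemidirectProduct.rightHom_surjective, Subgroup.card_top,
        Nat.card_zpowers]
    rw [this]
    exact fun h => (Fact.out : p.Prime).not_dvd_one (hcop ▸ Nat.dvd_gcd h dvd_rfl)
  let e : Transport.Iso T R :=
    { fwd := fun w => (w.left : Ω)
      bwd := fun x => if h : x ∈ R then ι ⟨x, h⟩ else 1
      to_mem := fun w _ => w.left.2
      inv_mem := fun y hy => by rw [dif_pos hy]; exact ⟨_, rfl⟩
      to_mul := fun a ha b hb => by
        obtain ⟨u, rfl⟩ := ha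
        obtain ⟨v, rfl⟩ := hb
        rw [← map_mul]
        simp [ι]
      inv_to := fun w hw => by
        obtain ⟨u, rfl⟩ := hw
        simp [ι]
      to_inv := fun y hy => by rw [dif_pos hy]; simp [ι] }
  have hb : ∀ x (hx : x ∈ R), e.bwd x = ι ⟨x, hx⟩ := fun x hx => dif_pos hx
  let G₀ := fusionSystemOfSubgroup ⊤ T hT.1
  have hE : ∀ (P : Subgroup Ω) (f : Ω → Ω), IsMap (Transport.push e G₀) P f →
      P ≤ R ∧ ∃ g ∈ R, ∃ n : ℤ, ∀ x ∈ P, f x = g * autFun (α ^ n) x * g⁻¹ := by
    intro P f hf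
    obtain ⟨hP, hfR, hm⟩ := (Transport.isMap_push_iff e).1 hf
    obtain ⟨-, -, g, -, hg⟩ := Group.isMap_sub_iff.1 hm
    obtain ⟨n, hn⟩ := g.right.2
    refine ⟨hP, g.left, g.left.2, n, fun x hx => ?_⟩
    have h1 := hg _ (Transport.mem_im_self e.bwd hx)
    rw [e.to_inv x (hP hx)] at h1
    have h2 := congrArg e.fwd h1
    rw [e.to_inv _ (hfR x hx), hb x (hP hx)] at h2
    rw [h2]
    have hg' : g = ι g.left * SemidirectProduct.inr g.right :=
      (SemidirectProduct.inl_left_mul_inr_right g).symm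
    have h3 : g * ι ⟨x, hP hx⟩ * g⁻¹ =
        ι (g.left * φ g.right ⟨x, hP hx⟩ * g.left⁻¹) := by
      conv_lhs => rw [hg']
      simp only [ι, map_mul, map_inv, SemidirectProduct.inl_aut, mul_inv_rev, mul_assoc]
    show ((g * ι ⟨x, hP hx⟩ * g⁻¹).left : Ω) = _
    rw [h3, autFun_of_mem _ (hP hx), show α ^ n = φ g.right from hn]
    simp [ι]
  refine ⟨Transport.push e G₀, Transport.push_saturated e hT.2.1 (Group.sub_saturated hT),
    fun P => subset_of_isMap fun f hf => ?_, ?_, fun P f hf => (hE P f hf).2⟩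
  · obtain ⟨hP, g, hg, n, he⟩ := hE P f hf
    exact (((isMap_cj hR (hR hg)).comp ((isMap_of_mem_autGroup hR (Subgroup.zpow_mem _ hα n)).restrict hP)
      fun x hx => autFun_mem _ (hP hx)).congr fun x hx => (he x hx).symm)
  · refine (Transport.isMap_push_iff e).2 ⟨le_rfl, fun x hx => autFun_mem α hx,
      Group.isMap_sub_iff.2 ⟨e.symm.img_le le_rfl, fun w hw => ?_,
        SemidirectProduct.inr ⟨α, Subgroup.mem_zpowers α⟩, trivial, fun w hw => ?_⟩⟩
    · exact e.inv_mem _ (autFun_mem α (e.to_mem w (e.symm.img_le le_rfl hw)))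
    · obtain ⟨u, rfl⟩ := e.symm.img_le le_rfl hw
      show e.bwd (autFun α (e.fwd (ι u))) = _
      have hu : e.fwd (ι u) = (u : Ω) := by simp [e, ι]
      rw [hu, autFun_apply, hb _ (SetLike.coe_mem _), cj_apply]
      refine Eq.trans ?_ ((SemidirectProduct.inl_aut (φ := φ) ⟨α, Subgroup.mem_zpowers α⟩ u).trans ?_)
      · rfl
      · rw [map_inv]

theorem not_inner [Finite S] (hS : IsPGroup p S) {R : Subgroup Ω} (hR : R ≤ S) {α : MulAut R}
    (hcop : (orderOf α).Coprime p) (hm : IsMap (innerFusionSystem R) R (autFun α)) : α = 1 := by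
  obtain ⟨φ, ⟨-, g, hg, hφ⟩, he⟩ := hm
  have hα : α = MulAut.conj (⟨g, hg⟩ : R) := MulEquiv.ext fun x => Subtype.ext (by
    rw [← autFun_apply, ← he x, hφ x]; rfl)
  obtain ⟨k, hk⟩ := (hS.to_le hR) ⟨g, hg⟩
  have h1 : α ^ p ^ k = 1 := by rw [hα, ← map_pow, hk, map_one]
  exact orderOf_eq_one_iff.1 (Nat.eq_one_of_dvd_coprimes (Nat.Coprime.pow_right k hcop) dvd_rfl
    (orderOf_dvd_of_pow_eq_one h1))

/-- Let F be an extremely sparse fusion system over a finite p-group S (saturated, not the inner system, and every saturated fusion system over any subgroup T of S contained in F is F itself or the inner system of T). Then S is normal in F, the focal and hyperfocal subgroups of F are both S, and Aut_F(S) is generated by the inner automorphisms of S together with a single automorphism of prime order q ≠ p (F is the fusion system of the semidirect product of S by a cyclic group of prime order). -/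
theorem result {Ω : Type*} [Group Ω] {S : Subgroup Ω} [Finite S] (p : ℕ) [Fact p.Prime] (hS : IsPGroup p S) (F : Cfsg.FusionSystem S) (hF : F.IsSaturated p) (hxs : ¬ (∀ P : Subgroup Ω, F.Hom P = (Cfsg.innerFusionSystem S).Hom P) ∧ ∀ (T : Subgroup Ω) (E : Cfsg.FusionSystem T), E.IsSaturated p → E.IsSubsystemOf F → (T = S ∧ ∀ P : Subgroup Ω, E.Hom P = F.Hom P) ∨ (∀ P : Subgroup Ω, E.Hom P = (Cfsg.innerFusionSystem T).Hom P)) : F.IsNormal S ∧ F.focalSubgroup = S ∧ F.hyperfocalSubgroup p = S ∧ ∃ (q : ℕ) (β : MulAut ↥S), q.Prime ∧ q ≠ p ∧ β ∈ F.autGroup S ∧ orderOf β = q ∧ (F.autGroup S : Subgroup (MulAut ↥S)) = Cfsg.Inn ↥S ⊔ Subgroup.zpowers β := by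
  obtain ⟨hni, hsp⟩ := hxs
  have hlow : ∀ R : Subgroup Ω, R < S → ∀ α ∈ F.autGroup R, (orderOf α).Coprime p → α = 1 := by
    intro R hR α hα hcop
    obtain ⟨E, hE, hEF, hm, -⟩ := exists_sub hS hR.le hα hcop
    rcases hsp R E hE hEF with ⟨h, -⟩ | h
    · exact absurd h hR.ne
    · refine not_inner hS hR.le hcop ?_
      obtain ⟨φ, hφ, he⟩ := hm
      exact ⟨φ, h R ▸ hφ, he⟩
  have hess : ∀ P, ¬ F.IsEssential p P := by
    intro P hP
    have hlt := essential_lt hS hF hP
    have : Finite P := finite_of_le hlt.le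
    exact not_isPGroup_of_essential hP (isPGroup_of_coprime_trivial fun g hg =>
      Subtype.ext (hlow P hlt g g.2 (by rwa [Subgroup.orderOf_coe])))
  refine ⟨Normal.normal_of_invariant hS hF fun P hP => ?_, ?_⟩
  · rcases hP with rfl | hP
    · exact ⟨le_rfl, fun α _ => autFun_img α⟩
    · exact absurd hP (hess P)
  have hnp : ¬ IsPGroup p (F.autGroup S) := fun h => hni fun P => by
    rw [eq_inner_of_isPGroup hS hF hess h]
  obtain ⟨a, ha, ha1⟩ : ∃ a : F.autGroup S, (orderOf a).Coprime p ∧ a ≠ 1 := by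
    by_contra hh
    push Not at hh
    exact hnp (isPGroup_of_coprime_trivial hh)
  obtain ⟨q, hq, hqd⟩ := Nat.exists_prime_and_dvd fun h => ha1 (orderOf_eq_one_iff.1 h)
  have hqp : q ≠ p := fun h => by
    subst h; exact hq.not_dvd_one (ha ▸ Nat.dvd_gcd hqd dvd_rfl)
  set b := a ^ (orderOf a / q) with hb
  set β : MulAut S := (b : MulAut S)
  have hβo : orderOf β = q := by
    rw [show β = ((b : F.autGroup S) : MulAut S) from rfl, Subgroup.orderOf_coe, hb,
      orderOf_pow_orderOf_div (orderOf_pos a).ne' hqd]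
  have hβ : β ∈ F.autGroup S := b.2
  have hcop : (orderOf β).Coprime p := hβo ▸ (Nat.coprime_primes hq Fact.out).2 hqp
  have hβ1 : β ≠ 1 := fun h => hq.ne_one (by rw [← hβo, h, orderOf_one])
  obtain ⟨E, hE, hEF, hm, hEd⟩ := exists_sub hS le_rfl hβ hcop
  have hEF' : ∀ P, E.Hom P = F.Hom P := by
    rcases hsp S E hE hEF with ⟨-, h⟩ | h
    · exact h
    · exfalso
      refine hβ1 (not_inner hS le_rfl hcop ?_)
      obtain ⟨φ, hφ, he⟩ := hm
      exact ⟨φ, h S ▸ hφ, he⟩
  -- the subgroup generated by β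
  set T := Subgroup.closure {y : Ω | ∃ x ∈ S, y = x⁻¹ * autFun β x} with hTdef
  have hTS : T ≤ S := by
    refine (Subgroup.closure_le _).2 ?_
    rintro _ ⟨x, hx, rfl⟩
    exact S.mul_mem (S.inv_mem hx) (autFun_mem β hx)
  have hTeq : T = S := by
    by_contra hne
    have hlt : T < S := lt_of_le_of_ne hTS hne
    have : Finite T := finite_of_le hTS
    have hinvT : ∀ x ∈ T, autFun β x ∈ T := by
      let K : Subgroup Ω :=
        { carrier := {x | x ∈ S ∧ autFun β x ∈ T}
          one_mem' := ⟨S.one_mem, by rw [(autFun_isHom β).map_one]; exact T.one_mem⟩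
          mul_mem' := fun {u v} hu hv => ⟨S.mul_mem hu.1 hv.1, by
            rw [autFun_isHom β u hu.1 v hv.1]; exact T.mul_mem hu.2 hv.2⟩
          inv_mem' := fun {u} hu => ⟨S.inv_mem hu.1, by
            rw [(autFun_isHom β).map_inv hu.1]; exact T.inv_mem hu.2⟩ }
      have : T ≤ K := by
        refine (Subgroup.closure_le _).2 ?_
        rintro _ ⟨x, hx, rfl⟩
        refine ⟨S.mul_mem (S.inv_mem hx) (autFun_mem β hx), ?_⟩
        rw [autFun_isHom β _ (S.inv_mem hx) _ (autFun_mem β hx), (autFun_isHom β).map_inv hx]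
        exact Subgroup.subset_closure ⟨autFun β x, autFun_mem β hx, rfl⟩
      exact fun x hx => (this hx).2
    have hmT := (isMap_of_mem_autGroup le_rfl hβ).restrict hTS
    obtain ⟨γ, hγ, hγe⟩ := hmT.exists_aut (eq_of_le_card (img_le hinvT) hmT.card_img.ge)
    have hpow : ∀ n : ℕ, ∀ x ∈ T, autFun (γ ^ n) x = autFun (β ^ n) x := by
      intro n
      induction n with
      | zero => intro x hx; simp [autFun_one]
      | succ n ih =>
        intro x hx
        rw [pow_succ, autFun_mul, ih _ (autFun_mem γ hx), hγe x hx, pow_succ, autFun_mul]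
    have hγ1 : γ = 1 := hlow T hlt γ hγ (Nat.Coprime.coprime_dvd_left (orderOf_dvd_of_pow_eq_one
      (autFun_ext fun x hx => by rw [hpow _ x hx, pow_orderOf_eq_one, autFun_one, autFun_one])) hcop)
    apply hβ1
    refine autFun_ext fun x hx => ?_
    rw [autFun_one]
    set w := x⁻¹ * autFun β x with hw
    have hwT : w ∈ T := Subgroup.subset_closure ⟨x, hx, rfl⟩
    have hfix : autFun β w = w := by rw [← hγe w hwT, hγ1, autFun_one]; rfl
    have hiter : ∀ n : ℕ, autFun (β ^ n) x = x * w ^ n := by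
      intro n
      induction n with
      | zero => simp [autFun_one]
      | succ n ih =>
        have hpw : ∀ m : ℕ, autFun β (w ^ m) = w ^ m := by
          intro m
          induction m with
          | zero => simp [(autFun_isHom β).map_one]
          | succ m im =>
            rw [pow_succ, autFun_isHom β _ (S.pow_mem (hTS hwT) m) _ (hTS hwT), im, hfix]
        rw [pow_succ', autFun_mul, ih, autFun_isHom β x hx _ (S.pow_mem (hTS hwT) n), hpw,
          show autFun β x = x * w by rw [hw, mul_inv_cancel_left], pow_succ', mul_assoc]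
    have h1 := hiter (orderOf β)
    rw [pow_orderOf_eq_one, autFun_one, id, left_eq_mul] at h1
    obtain ⟨k, hk⟩ := hS ⟨w, hTS hwT⟩
    have h2 : w ^ p ^ k = 1 := by simpa using congrArg Subtype.val hk
    have : w = 1 := orderOf_eq_one_iff.1 (Nat.eq_one_of_dvd_coprimes
      (Nat.Coprime.pow_right k hcop) (orderOf_dvd_of_pow_eq_one h1) (orderOf_dvd_of_pow_eq_one h2))
    rw [hw, inv_mul_eq_one] at this
    exact this.symm
  have hres : (⟨β, hβ⟩ : F.autGroup S) ∈ pResidual p (F.autGroup S) :=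
    Subgroup.subset_closure (show (orderOf _).Coprime p by rwa [Subgroup.orderOf_mk])
  have hfocS : F.focalSubgroup ≤ S := by
    refine (Subgroup.closure_le _).2 ?_
    rintro _ ⟨P, φ, x, hφ, rfl⟩
    exact S.mul_mem (S.inv_mem ((F.le_of_mem hφ).1 x.2)) ((F.le_of_mem hφ).2 x)
  have hhypS : F.hyperfocalSubgroup p ≤ S := by
    refine (Subgroup.closure_le _).2 ?_
    rintro _ ⟨P, α, x, hP, -, rfl⟩
    exact S.mul_mem (S.inv_mem (hP x.2)) (hP (SetLike.coe_mem _))
  refine ⟨le_antisymm hfocS ?_, le_antisymm hhypS ?_, q, β, hq, hqp, hβ, hβo, ?_⟩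
  · conv_lhs => rw [← hTeq]
    refine (Subgroup.closure_le _).2 ?_
    rintro _ ⟨x, hx, rfl⟩
    exact Subgroup.subset_closure ⟨S, (isMap_of_mem_autGroup le_rfl hβ).hom, ⟨x, hx⟩,
      (isMap_of_mem_autGroup le_rfl hβ).hom_mem_self, rfl⟩
  · conv_lhs => rw [← hTeq]
    refine (Subgroup.closure_le _).2 ?_
    rintro _ ⟨x, hx, rfl⟩
    exact Subgroup.subset_closure ⟨S, ⟨β, hβ⟩, ⟨x, hx⟩, le_rfl, hres, by
      rw [autFun_of_mem β hx]⟩
  · refine le_antisymm (fun γ hγ => ?_) (sup_le (inn_le_autGroup le_rfl) (Subgroup.zpowers_le.2 hβ))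
    have hmE : IsMap E S (autFun γ) := by
      obtain ⟨φ, hφ, he⟩ := isMap_of_mem_autGroup le_rfl hγ
      exact ⟨φ, (hEF' S).symm ▸ hφ, he⟩
    obtain ⟨g, hg, n, he⟩ := hEd S _ hmE
    have : γ = MulAut.conj (⟨g, hg⟩ : S) * β ^ n := autFun_ext fun x hx => by
      rw [he x hx, autFun_mul, autFun_of_mem (MulAut.conj _) (autFun_mem _ hx)]
      rfl
    rw [this]
    exact Subgroup.mul_mem _ (Subgroup.mem_sup_left ⟨_, rfl⟩)
      (Subgroup.mem_sup_right ⟨n, rfl⟩)

end Cfsg.Agent.S5245
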