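import Cfsg.Statements.S5251
import Cfsg.Agent.Lib.Fusion.PPrimeIndex
-- import your own Cfsg.Agent.* helpers here

set_option autoImplicit false
open Cfsg Cfsg.FusionSystem Cfsg.Agent.Fusion.Basic Cfsg.Agent.Fusion.Saturation

namespace Cfsg.Agent.S5251

/-- Let F be a saturated fusion system over a finite p-group S, E a normal subsystem of F over T, and P an F-centric subgroup of S such that P ∩ T is not E-centric. Then some F-conjugate P* of P satisfies Out_S(P*) ∩ O_p(Out_F(P*)) ≠ 1: there is an element of N_S(P*) outside P* whose conjugation action on P* lies in O_p(Aut_F(P*)). In particular P is not both centric and radical in F. -/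
theorem result {Ω : Type*} [Group Ω] {S : Subgroup Ω} [Finite S] (p : ℕ) [Fact p.Prime] (hS : IsPGroup p S) (F : Cfsg.FusionSystem S) (hF : F.IsSaturated p) {T : Subgroup Ω} (E : Cfsg.FusionSystem T) (hE : E.IsNormalIn F p) (P : Subgroup Ω) (hP : F.IsCentric P) (hPT : ¬ E.IsCentric (P ⊓ T)) : (∃ φ ∈ F.Hom P, ∃ x ∈ S ⊓ Subgroup.normalizer (φ.range : Set Ω), x ∉ φ.range ∧ ∃ α ∈ ((Cfsg.pCore p ↥(F.autGroup φ.range)).map (F.autGroup φ.range).subtype : Subgroup (MulAut ↥φ.range)), ∀ y : ↥φ.range, ((α y : ↥φ.range) : Ω) = x * (y : Ω) * x⁻¹) ∧ ¬ F.IsRadical p P := by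
  have hEi := hE.1.2.2
  have : Finite P := finite_of_le hP.1
  obtain ⟨R, hPR, hR⟩ := exists_fullyNormalized (F := F) hP.1
  have hRc : F.IsCentric R := centric_conj hP hPR
  obtain ⟨θ, hθ, hθimg⟩ := isConj_iff_map.1 hPR
  have hnc : ¬ E.IsCentric (R ⊓ T) := by
    intro h
    obtain ⟨i, hi, hiimg, hiθ, hθi⟩ := hθ.exists_inv
    rw [hθimg] at hi hiimg hθi
    refine hPT ?_
    have h1 := Agent.Fusion.PPrimeNormal.centric_map hEi h (hi.restrict inf_le_left)
    suffices img i (R ⊓ T) = P ⊓ T from this ▸ h1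
    refine le_antisymm (img_le fun x hx => ⟨hiimg.le (mem_img_self i hx.1),
      Agent.Fusion.Normal.stronglyClosed_mem hEi.2.1 hi hx.1 hx.2⟩) fun y hy => ?_
    rw [← hiθ y hy.1]
    exact mem_img_self i ⟨hθimg.le (mem_img_self θ hy.1),
      Agent.Fusion.Normal.stronglyClosed_mem hEi.2.1 hθ hy.1 hy.2⟩
  obtain ⟨g, hgS, hgR, hgN, -, γ, hγ, hγe⟩ :=
    Agent.Fusion.PPrimeIndex.exists_common hS hF hEi hE.1.1 hRc hR hnc
  constructor
  · have hr : hθ.hom.range = R := by rw [IsMap.range_eq (f := θ) fun _ => rfl, hθimg]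
    refine ⟨hθ.hom, hθ.hom_mem_self, ?_⟩
    rw [hr]
    exact ⟨g, ⟨hgS, hgN⟩, hgR, γ, ⟨γ, hγ, rfl⟩, fun y => by
      rw [← autFun_apply]; exact hγe y y.2⟩
  · intro hrad
    subst hθimg
    obtain ⟨e, he⟩ := hθ.exists_autEquiv
    have hK : e.symm γ ∈ pCore p (F.autGroup P) := by
      have h1 : ((pCore p (F.autGroup (img θ P))).map e.symm.toMonoidHom).Normal := by
        have : (pCore p (F.autGroup (img θ P))).Normal :=
          Subgroup.sSup_normal _ fun _ hN => hN.1
        exact this.map _ e.symm.surjective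
      exact le_sSup (show _ ∈ {N : Subgroup (F.autGroup P) | N.Normal ∧ IsPGroup p N} from
        ⟨h1, (Agent.Fusion.Normal.pCore_isPGroup p _).map e.symm.toMonoidHom⟩) ⟨γ, hγ, rfl⟩
    have h2 : (e.symm γ : MulAut P) ∈ Inn P := hrad.2 ▸ ⟨_, hK, rfl⟩
    obtain ⟨t, ht, hte⟩ := mem_inn_iff.1 h2
    refine hgR ?_
    have hc : (θ t)⁻¹ * g ∈ centralizerIn S (img θ P) := by
      refine Agent.Fusion.CentricExt.inv_mul_mem hRc hgS (hθ.mem ht) fun y hy => ?_
      obtain ⟨x, hx, rfl⟩ := hθ.mem_img.1 hy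
      have h3 := he (e.symm γ) x hx
      rw [e.apply_symm_apply, hγe _ (mem_img_self θ hx), hte x hx, cj_apply,
        hθ.map_conj ht hx] at h3
      exact h3
    have h4 := (img θ P).mul_mem (mem_img_self θ ht) (centric_centralizerIn_le hRc hc)
    rwa [mul_inv_cancel_left] at h4

end Cfsg.Agent.S5251
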