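import Cfsg.Statements.S5253
import Cfsg.Agent.Lib.CharP.Climbing

set_option autoImplicit false
universe u
open Cfsg
open scoped commutatorElement

namespace Cfsg.Agent.S5253

/-- Let p be a prime and W a positive characteristic p-functor with Z(Q) ≤ W(Q): W assigns to every finite p-group Q (in a fixed universe) a subgroup W(Q), nontrivial when Q is, carried to W(R) by every isomorphism Q ≅ R, and containing the centre of Q. Suppose that for every finite group G with Sylow p-subgroup P in which W(P) is not normal there is g ∈ P outside O_p(G) with [Z(O_p(G)), g, g] = 1. Then for every saturated fusion system F over a finite p-group S and every normalizer fusion system N of W(S) in F, every p-th power of an element of Z(S) that lies in the centre of N lies in the centre of F. -/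
theorem result {p : ℕ} [Fact p.Prime] (W : ∀ (Q : Type u) [Group Q], Subgroup Q) (hW1 : ∀ (Q : Type u) [Group Q] [Finite Q], IsPGroup p Q → Nontrivial Q → W Q ≠ ⊥) (hW2 : ∀ (Q R : Type u) [Group Q] [Group R] [Finite Q], IsPGroup p Q → ∀ φ : Q ≃* R, (W Q).map φ.toMonoidHom = W R) (hWZ : ∀ (Q : Type u) [Group Q] [Finite Q], IsPGroup p Q → Subgroup.center Q ≤ W Q) (hq : ∀ (G : Type u) [Group G] [Finite G] (P : Sylow p G), ¬ (((W ↥(P : Subgroup G)).map (P : Subgroup G).subtype : Subgroup G)).Normal → ∃ g : G, g ∈ (P : Subgroup G) ∧ g ∉ Cfsg.pCore p G ∧ ⁅⁅Subgroup.center ↥(Cfsg.pCore p G) |>.map (Cfsg.pCore p G).subtype, Subgroup.zpowers g⁆, Subgroup.zpowers g⁆ = ⊥) {Ω : Type u} [Group Ω] {S : Subgroup Ω} [Finite S] (hS : IsPGroup p S) (F : Cfsg.FusionSystem S) (hF : F.IsSaturated p) (N : Cfsg.FusionSystem (Cfsg.FusionSystem.normalizerIn S ((W ↥S).map S.subtype))) (hN : F.IsNormalizerSystem ((W ↥S).map S.subtype) N) : Subgroup.closure ((fun z => z ^ p) '' ((S ⊓ Subgroup.centralizer (S : Set Ω) : Subgroup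 Ω) : Set Ω)) ⊓ N.center ≤ F.center := by
  have hfinN : Finite (Cfsg.FusionSystem.normalizerIn S ((W ↥S).map S.subtype)) :=
    Fusion.Saturation.finite_of_le inf_le_left
  refine Fusion.Normal.le_center (CharP.Climbing.isCentral_of_local (fix := False) (m := 1) hS hF
    hW2 hWZ (inf_le_left.trans (CharP.Climbing.powerClosure_one_eq p _))
    (CharP.LocalControl.local_of_quad hW2 fun G _ _ P V hVn hVc hVQ hcent _ hquad => ?_)
    (N := N) hN inf_le_right)
  by_contra hn
  obtain ⟨g, hgP, hgQ, hg⟩ := hq G P hn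
  refine hgQ (hquad g hgP fun v hv => ?_)
  have hvZ : v ∈ (Subgroup.center ↥(Cfsg.pCore p G)).map (Cfsg.pCore p G).subtype :=
    ⟨⟨v, hVQ hv⟩, Subgroup.mem_center_iff.2 fun q => Subtype.ext (hcent v hv q q.2), rfl⟩
  have h1 := Subgroup.commutator_mem_commutator hvZ (Subgroup.mem_zpowers g)
  have h2 := Subgroup.commutator_mem_commutator h1 (Subgroup.mem_zpowers g)
  rw [hg, Subgroup.mem_bot, commutatorElement_eq_one_iff_mul_comm] at h2
  have h3 : g * v * g⁻¹ * v⁻¹ = ⁅v, g⁆⁻¹ := by rw [commutatorElement_def]; group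
  rw [h3]
  exact ((show Commute g ⁅v, g⁆ from h2.symm).inv_right).eq

end Cfsg.Agent.S5253
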