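import Cfsg.Statements.S5254
import Mathlib
import Cfsg.Agent.Lib.Components.ExtraspecialIndexP
-- import your own Cfsg.Agent.* helpers here

set_option autoImplicit false
set_option linter.all false
open Cfsg

namespace Cfsg.Agent.S5254

open Cfsg Cfsg.FusionSystem Cfsg.Agent.Fusion.Basic Cfsg.Agent.Fusion.Saturation
  Cfsg.Agent.Fusion.Alperin Cfsg.Agent.Fusion.Embedded Cfsg.Agent.Components.ExtraspecialIndexP
/-- A `p`-subgroup whose conjugates are all normalized by one of its nontrivial elements leaves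
no room for a strongly `p`-embedded subgroup. -/
theorem no_embedded {X : Type*} [Group X] [Finite X] {p : ℕ} [Fact p.Prime] {Y : Subgroup X}
    (hY : IsStronglyPEmbedded p Y) {K : Subgroup X} (hKp : IsPGroup p K) (hK : K ≠ ⊥)
    (h : ∀ g : X, g ∈ Subgroup.normalizer (K : Set X) ∨
      ∃ a ∈ K, a ≠ 1 ∧ a ∈ Subgroup.normalizer ((K.map (MulAut.conj g).toMonoidHom : Subgroup X) : Set X)) :
    False := by
  obtain ⟨-, htop, P, hP⟩ := stronglyPEmbedded_iff.1 hY
  obtain ⟨P₀, hP₀⟩ := hKp.exists_le_sylow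
  obtain ⟨d, hd⟩ := MulAction.exists_smul_eq X P₀ P
  have hK' : ∀ x ∈ K, d * x * d⁻¹ ∈ (P : Subgroup X) := fun x hx => by
    rw [← hd, Sylow.coe_subgroup_smul]
    exact Subgroup.smul_mem_pointwise_smul x (MulAut.conj d) _ (hP₀ hx)
  obtain ⟨x₀, hx₀, hx₀1⟩ := (Subgroup.bot_or_exists_ne_one K).resolve_left hK
  have main : ∀ g : X, d * g * d⁻¹ ∈ Y := by
    intro g
    rcases h g with hg | ⟨a, ha, ha1, haN⟩
    · exact Cfsg.Agent.Fusion.Embedded.mem_of_conj hP (hK' _ ((Subgroup.mem_normalizer_iff.1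
        hg x₀).1 hx₀ |> fun _ => hx₀)) (by simpa using hx₀1) (by
        have := hK' _ ((Subgroup.mem_normalizer_iff.1 hg x₀).1 hx₀)
        simpa [mul_assoc] using this)
    have hJ := IsPGroup.to_sup_of_normal_right'
      (hKp.to_le ((Subgroup.zpowers_le).2 ha)) (hKp.map (MulAut.conj g).toMonoidHom)
      (Subgroup.zpowers_le.2 haN)
    obtain ⟨P₁, hP₁⟩ := hJ.exists_le_sylow
    have hmem : d * a * d⁻¹ ∈ (P : Subgroup X) ⊓ ((d • P₁ : Sylow p X) : Subgroup X) := by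
      refine ⟨hK' a ha, ?_⟩
      rw [SetLike.mem_coe, Sylow.coe_subgroup_smul]
      exact Subgroup.smul_mem_pointwise_smul a (MulAut.conj d) _
        (hP₁ (Subgroup.mem_sup_left (Subgroup.mem_zpowers a)))
    obtain ⟨y, hy, hyP⟩ := exists_conj_of_inf_ne_bot hP (d • P₁) fun h0 => ha1 (by
      rw [h0, Subgroup.mem_bot] at hmem; simpa using hmem)
    have hx : y * d * (g * x₀ * g⁻¹) * (y * d)⁻¹ ∈ (P : Subgroup X) := by
      rw [← hyP, ← mul_smul, Sylow.coe_subgroup_smul]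
      exact Subgroup.smul_mem_pointwise_smul _ (MulAut.conj (y * d)) _
        (hP₁ (Subgroup.mem_sup_right ⟨x₀, hx₀, rfl⟩))
    have := Cfsg.Agent.Fusion.Embedded.mem_of_conj hP (a := y * d * g * d⁻¹) (hK' x₀ hx₀)
      (by simpa using hx₀1) (by simpa [mul_assoc, mul_inv_rev] using hx)
    have h2 := Y.mul_mem (Y.inv_mem hy) this
    simpa [mul_assoc] using h2
  exact htop (top_le_iff.1 fun u _ => by simpa [mul_assoc] using main (d⁻¹ * u * d))


/-- Conjugations stabilizing an invariant series of an essential subgroup lie inside it. -/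
theorem mem_of_chain {Ω : Type*} [Group Ω] {S P : Subgroup Ω} [Finite S] {p : ℕ} [Fact p.Prime]
    {F : FusionSystem S} (hS : IsPGroup p S) (hP : F.IsEssential p P) {s : Ω}
    (hs : s ∈ normalizerIn S P) {Z : Subgroup Ω} (h1 : ∀ w ∈ Z, w ∈ P → s * w = w * s)
    (h2 : ∀ w ∈ P, w⁻¹ * (s * w * s⁻¹) ∈ Z)
    (hinv : ∀ g ∈ F.autGroup P, ∀ w ∈ Z, w ∈ P → autFun g w ∈ Z) : s ∈ P := by
  have hPS := hP.1.1
  have : Finite P := finite_of_le hPS
  let a : F.autGroup P := ⟨conjAut S P ⟨s, hs⟩, autInducedBy_le hPS (conjAut_range S P ▸ ⟨_, rfl⟩)⟩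
  have ha : ∀ w ∈ P, autFun (a : MulAut P) w = s * w * s⁻¹ := fun w hw => conjAut_apply ⟨s, hs⟩ hw
  let C : ℕ → Subgroup P := fun i => if i = 0 then ⊥ else if i = 1 then Z.subgroupOf P else ⊤
  have key : a ∈ pCore p (F.autGroup P) := by
    refine Cfsg.Agent.Fusion.EssentialShape.mem_pCore_of_stabilizes (hS.to_le hPS) _ C 2 rfl rfl
      (fun i hi => ?_) (fun i _ g hg x hx => ?_) fun i hi x hx => ?_
    · interval_cases i <;> simp [C]
    · rcases i with - | - | i
      · simp only [C, if_true, Subgroup.mem_bot] at hx ⊢; simp [hx]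
      · simp only [C, Nat.one_ne_zero, if_false, zero_add, if_true, Subgroup.mem_subgroupOf] at hx ⊢
        rw [← autFun_apply]
        exact hinv g hg x hx x.2
      · simp [C]
    · interval_cases i
      · simp only [C, zero_add, Nat.one_ne_zero, if_false, if_true, Subgroup.mem_subgroupOf] at hx
        simp only [C, if_true, Subgroup.mem_bot, inv_mul_eq_one]
        apply Subtype.ext
        rw [← autFun_apply, ha x x.2, h1 x hx x.2, mul_inv_cancel_right]
      · simp only [C, Nat.one_ne_zero, if_false, if_true, Subgroup.mem_subgroupOf, Subgroup.coe_mul,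
          Subgroup.coe_inv]
        rw [← autFun_apply, ha x x.2]
        exact h2 x x.2
  obtain ⟨t, ht, he⟩ := mem_inn_iff.1 (Cfsg.Agent.Fusion.EssentialShape.mem_inn_of_mem_pCore hP hS key)
  have : t⁻¹ * s ∈ P := by
    refine centric_centralizerIn_le hP.1 ⟨S.mul_mem (S.inv_mem (hPS ht)) hs.1, fun x hx => ?_⟩
    have h3 : s * x * s⁻¹ = t * x * t⁻¹ := by rw [← ha x hx, he x hx, cj_apply]
    calc x * (t⁻¹ * s) = t⁻¹ * (t * x * t⁻¹) * s := by group
      _ = t⁻¹ * (s * x * s⁻¹) * s := by rw [h3]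
      _ = t⁻¹ * s * x := by group
  simpa using P.mul_mem ht this

theorem index_eq_prime {G : Type*} [Group G] {p : ℕ} [Fact p.Prime] {H N : Subgroup G}
    (hn : N ≤ Subgroup.normalizer (H : Set G)) {n₀ : G} (h0 : n₀ ∈ N) (h0H : n₀ ∉ H)
    (hp : n₀ ^ p ∈ H) (hgen : ∀ n ∈ N, ∃ i : ℤ, (n₀ ^ i)⁻¹ * n ∈ H) :
    (H.subgroupOf N).index = p := by
  have hN : (H.subgroupOf N).Normal := ⟨fun x hx g =>
    (Subgroup.mem_normalizer_iff.1 (hn g.2) _).1 hx⟩
  set g : N ⧸ H.subgroupOf N := QuotientGroup.mk (⟨n₀, h0⟩ : N) with hg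
  have hord : orderOf g = p := by
    refine orderOf_eq_prime ?_ ?_
    · rw [hg, ← QuotientGroup.mk_pow, QuotientGroup.eq_one_iff]; exact hp
    · rw [hg, ne_eq, QuotientGroup.eq_one_iff]; exact h0H
  rw [Subgroup.index_eq_card, ← hord, ← Nat.card_zpowers]
  refine (Nat.card_congr ((Equiv.setCongr ?_).trans (Equiv.Set.univ _))).symm
  refine Set.eq_univ_of_forall fun q => ?_
  obtain ⟨n, rfl⟩ := QuotientGroup.mk_surjective q
  obtain ⟨i, hi⟩ := hgen n n.2
  refine ⟨i, ?_⟩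
  show g ^ i = _
  rw [hg, ← QuotientGroup.mk_zpow, QuotientGroup.eq]
  exact hi

/-- Let p be an odd prime, S a finite nonabelian p-group with a unique abelian subgroup A of index p, and F a saturated fusion system over S. Then every F-essential subgroup P is A, or Z(S)⟨x⟩ for some x ∈ S outside A, or (when the second centre Z₂(S) lies in A) Z₂(S)⟨x⟩ for some x ∈ S outside A; and P has index p in its normalizer in S. -/
theorem result {Ω : Type*} [Group Ω] {S : Subgroup Ω} [Finite S] (p : ℕ) [Fact p.Prime] (hS : IsPGroup p S) (F : Cfsg.FusionSystem S) (hF : F.IsSaturated p) (hp : p ≠ 2) (hna : ¬ IsMulCommutative ↥S) (A : Subgroup Ω) (hA : A ≤ S ∧ IsMulCommutative ↥A ∧ (A.subgroupOf S).index = p) (huniq : ∀ B : Subgroup Ω, B ≤ S → IsMulCommutative ↥B → (B.subgroupOf S).index = p → B = A) (P : Subgroup Ω) (hP : F.IsEssential p P) : (P = A ∨ (∃ x ∈ S, x ∉ A ∧ P = (S ⊓ Subgroup.centralizer (S : Set Ω)) ⊔ Subgroup.zpowers x) ∨ (((upperCentralSeries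 ↥S 2).map S.subtype) ≤ A ∧ ∃ x ∈ S, x ∉ A ∧ P = ((upperCentralSeries ↥S 2).map S.subtype) ⊔ Subgroup.zpowers x)) ∧ (P.subgroupOf (S ⊓ Subgroup.normalizer (P : Set Ω))).index = p := by
  obtain ⟨hAS, hAc, hAi⟩ := hA
  have hpp := (Fact.out : p.Prime)
  have hAab : ∀ a ∈ A, ∀ b ∈ A, a * b = b * a := fun a ha b hb =>
    congrArg Subtype.val (hAc.is_comm.comm ⟨a, ha⟩ ⟨b, hb⟩)
  have hPS := hP.1.1
  have : Finite A := finite_of_le hAS
  have : Finite P := finite_of_le hPS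
  have hAn : (A.subgroupOf S).Normal := by
    obtain ⟨n, hn⟩ := IsPGroup.iff_card.1 hS
    have hn0 : n ≠ 0 := by
      rintro rfl
      have := (A.subgroupOf S).index_dvd_card
      rw [hn, hAi, pow_zero, Nat.dvd_one] at this
      exact hpp.ne_one this
    refine Subgroup.normal_of_index_eq_minFac_card ?_
    rw [hAi, hn, Nat.Prime.pow_minFac hpp hn0]
  have hAnorm : ∀ s ∈ S, ∀ a ∈ A, s * a * s⁻¹ ∈ A := fun s hs a ha =>
    hAn.conj_mem ⟨a, hAS ha⟩ ha ⟨s, hs⟩
  by_cases hPA : P ≤ A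
  · have hPeq : P = A := le_antisymm hPA fun a ha =>
      centric_centralizerIn_le hP.1 ⟨hAS ha, fun w hw => hAab w (hPA hw) a ha⟩
    refine ⟨Or.inl hPeq, ?_⟩
    have : S ⊓ Subgroup.normalizer (P : Set Ω) = S := by
      refine inf_eq_left.2 fun s hs => ?_
      subst hPeq
      exact mem_normalizer_of_forall fun a ha => hAnorm s hs a ha
    rw [this, hPeq]; exact hAi
  obtain ⟨x, hxP, hxA⟩ := SetLike.not_le_iff_exists.1 hPA
  have hxS := hPS hxP
  set Zc := S ⊓ Subgroup.centralizer (S : Set Ω) with hZc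
  have hgen : ∀ s ∈ S, ∃ a ∈ A, ∃ i : ℤ, s = a * x ^ i := by
    intro s hs
    have hx1 : (QuotientGroup.mk ⟨x, hxS⟩ : S ⧸ A.subgroupOf S) ≠ 1 := by
      rw [ne_eq, QuotientGroup.eq_one_iff]; exact hxA
    obtain ⟨i, hi⟩ := mem_zpowers_of_prime_card (p := p)
      (by rw [← Subgroup.index_eq_card]; exact hAi) hx1 (g' := QuotientGroup.mk ⟨s, hs⟩)
    refine ⟨s * (x ^ i)⁻¹, ?_, i, by group⟩
    have hi' : (QuotientGroup.mk ((⟨x, hxS⟩ : S) ^ i) : S ⧸ A.subgroupOf S) = QuotientGroup.mk ⟨s, hs⟩ := by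
      rw [QuotientGroup.mk_zpow]; exact hi
    rw [QuotientGroup.eq] at hi'
    have h5 : (x ^ i)⁻¹ * s ∈ A := hi'
    have := hAnorm (x ^ i) (S.zpow_mem hxS i) _ h5
    simpa [mul_assoc] using this
  have hcen : ∀ a ∈ A, a * x = x * a → a ∈ Zc := by
    intro a ha hax
    refine ⟨hAS ha, fun s hs => ?_⟩
    obtain ⟨c, hc, i, rfl⟩ := hgen s hs
    exact ((show Commute c a from hAab c hc a ha).mul_left
      ((show Commute a x from hax).zpow_right i).symm).eq
  have hZcomm : ∀ {w}, w ∈ Zc → ∀ s ∈ S, s * w = w * s := fun hw s hs => hw.2 s hs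
  have hZA : Zc ≤ A := by
    intro w hw
    by_contra hwA
    apply hna
    have hw1 : (QuotientGroup.mk ⟨w, hw.1⟩ : S ⧸ A.subgroupOf S) ≠ 1 := by
      rw [ne_eq, QuotientGroup.eq_one_iff]; exact hwA
    have hdec : ∀ s : S, ∃ i : ℤ, (w ^ i)⁻¹ * (s : Ω) ∈ A := by
      intro s
      obtain ⟨i, hi⟩ := mem_zpowers_of_prime_card (p := p)
        (by rw [← Subgroup.index_eq_card]; exact hAi) hw1 (g' := QuotientGroup.mk s)
      refine ⟨i, ?_⟩
      have hi' : (QuotientGroup.mk ((⟨w, hw.1⟩ : S) ^ i) : S ⧸ A.subgroupOf S) = QuotientGroup.mk s := by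
        rw [QuotientGroup.mk_zpow]; exact hi
      rw [QuotientGroup.eq] at hi'
      exact hi'
    refine ⟨⟨fun s t => Subtype.ext ?_⟩⟩
    obtain ⟨i, hi⟩ := hdec s
    obtain ⟨j, hj⟩ := hdec t
    have hwS : ∀ u ∈ S, ∀ k : ℤ, Commute u (w ^ k) := fun u hu k =>
      (show Commute u w from hw.2 u hu).zpow_right k
    have h1 : Commute (w ^ i * ((w ^ i)⁻¹ * (s : Ω))) (w ^ j * ((w ^ j)⁻¹ * (t : Ω))) :=
      ((hwS _ (S.zpow_mem hw.1 i) j).mul_right ((hwS _ (hAS hj) i).symm)).mul_left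
        ((hwS _ (hAS hi) j).mul_right (hAab _ hi _ hj))
    simpa using h1.eq
  have hxp : x ^ p ∈ Zc := by
    have h1 : x ^ p ∈ A := by
      have := Subgroup.pow_index_mem (A.subgroupOf S) (⟨x, hxS⟩ : S)
      rw [hAi] at this
      exact this
    exact hcen _ h1 ((Commute.refl x).pow_left p).eq
  have hZP : Zc ≤ P := fun w hw => centric_centralizerIn_le hP.1 ⟨hw.1, fun u hu => hw.2 u (hPS hu)⟩
  -- the commutator map
  have hdA : ∀ a ∈ A, dl a x ∈ A := fun a ha => by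
    have := A.mul_mem ha (hAnorm x hxS _ (A.inv_mem ha))
    simpa [dl, mul_assoc] using this
  let ψ : A →* Ω := MonoidHom.mk' (fun a : A => dl a x) fun a b => by
    show dl ((a : Ω) * b) x = dl (a : Ω) x * dl (b : Ω) x
    have h1 : (a : Ω) * b * x * ((a : Ω) * b)⁻¹ = dl (a : Ω) x * dl (b : Ω) x * x := by
      rw [show (a : Ω) * b * x * ((a : Ω) * b)⁻¹ = a * (b * x * (b : Ω)⁻¹) * (a : Ω)⁻¹ by group,
        conj_eq (b : Ω) x, show (a : Ω) * (dl (b : Ω) x * x) * (a : Ω)⁻¹ =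
          ((a : Ω) * dl (b : Ω) x * (a : Ω)⁻¹) * ((a : Ω) * x * (a : Ω)⁻¹) by group,
        hAab a a.2 _ (hdA b b.2), mul_inv_cancel_right, conj_eq (a : Ω) x, ← mul_assoc,
        hAab _ (hdA b b.2) _ (hdA a a.2)]
    show (a : Ω) * b * x * ((a : Ω) * b)⁻¹ * x⁻¹ = _
    rw [h1, mul_inv_cancel_right]
  have hψpow : ∀ a (ha : a ∈ A) (i : ℤ), dl (a ^ i) x = dl a x ^ i := fun a ha i => by
    have := map_zpow ψ ⟨a, ha⟩ i
    simpa [ψ] using this
  have hψmul : ∀ a ∈ A, ∀ b ∈ A, dl (a * b) x = dl a x * dl b x := fun a ha b hb =>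
    map_mul ψ ⟨a, ha⟩ ⟨b, hb⟩
  have hdlx : ∀ a ∈ A, dl a x ∈ Zc → ∀ k : ℤ, dl a (x ^ k) = dl a x ^ k := by
    intro a ha hd k
    have h1 : a * x ^ k * a⁻¹ = (dl a x * x) ^ k := by
      rw [← conj_eq a x, ← MulAut.conj_apply, map_zpow, MulAut.conj_apply]
    show a * x ^ k * a⁻¹ * (x ^ k)⁻¹ = _
    rw [h1, (show Commute (dl a x) x from (hd.2 x hxS).symm).mul_zpow, mul_inv_cancel_right]
  set B := P ⊓ A with hB
  have hdecP : ∀ w ∈ P, ∃ b ∈ B, ∃ i : ℤ, w = b * x ^ i := by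
    intro w hw
    obtain ⟨a, ha, i, rfl⟩ := hgen w (hPS hw)
    refine ⟨a, ⟨?_, ha⟩, i, rfl⟩
    simpa using P.mul_mem hw (P.inv_mem (P.zpow_mem hxP i))
  have hNA : ∀ a ∈ A, a ∈ Subgroup.normalizer (P : Set Ω) ↔ dl a x ∈ B := by
    intro a ha
    constructor
    · intro hn
      exact ⟨P.mul_mem ((Subgroup.mem_normalizer_iff.1 hn x).1 hxP) (P.inv_mem hxP), hdA a ha⟩
    · intro hd
      refine mem_normalizer_of_forall fun w hw => ?_
      obtain ⟨b, hb, i, rfl⟩ := hdecP w hw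
      rw [show a * (b * x ^ i) * a⁻¹ = (a * b * a⁻¹) * MulAut.conj a (x ^ i) by
        rw [MulAut.conj_apply]; group, map_zpow, MulAut.conj_apply, hAab a ha b hb.2,
        mul_inv_cancel_right, conj_eq]
      exact P.mul_mem hb.1 (P.zpow_mem (P.mul_mem hd.1 hxP) i)
  obtain ⟨n₀, hn₀A, hn₀N, hn₀P⟩ : ∃ n₀, n₀ ∈ A ∧ n₀ ∈ Subgroup.normalizer (P : Set Ω) ∧ n₀ ∉ P := by
    obtain ⟨s, hs, hsP⟩ := exists_mem_normalizer_not_mem hS (essential_lt hS hF hP)
    obtain ⟨a, ha, i, rfl⟩ := hgen s hs.1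
    refine ⟨a, ha, ?_, fun h => hsP (P.mul_mem h (P.zpow_mem hxP i))⟩
    have := Subgroup.mul_mem _ hs.2 (Subgroup.inv_mem _ (Subgroup.zpow_mem _
      (Subgroup.le_normalizer hxP) i))
    simpa using this
  have hn₀S : n₀ ∈ normalizerIn S P := ⟨hAS hn₀A, hn₀N⟩
  have hindex : n₀ ^ p ∈ P → (∀ a ∈ A, a ∈ Subgroup.normalizer (P : Set Ω) →
      ∃ i : ℤ, (n₀ ^ i)⁻¹ * a ∈ P) →
      (P.subgroupOf (S ⊓ Subgroup.normalizer (P : Set Ω))).index = p := by
    intro h1 h2
    refine index_eq_prime inf_le_right hn₀S hn₀P h1 fun n hn => ?_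
    obtain ⟨a, ha, i, rfl⟩ := hgen n hn.1
    have haN : a ∈ Subgroup.normalizer (P : Set Ω) := by
      have := Subgroup.mul_mem _ hn.2 (Subgroup.inv_mem _ (Subgroup.zpow_mem _
        (Subgroup.le_normalizer hxP) i))
      simpa using this
    obtain ⟨j, hj⟩ := h2 a ha haN
    exact ⟨j, by rw [← mul_assoc]; exact P.mul_mem hj (P.zpow_mem hxP i)⟩
  have hd₀ : dl n₀ x ∈ B := (hNA n₀ hn₀A).1 hn₀N
  by_cases hBZ : B ≤ Zc
  · -- P is abelian
    have hPeq : P = Zc ⊔ Subgroup.zpowers x := by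
      refine le_antisymm (fun w hw => ?_) (sup_le hZP (Subgroup.zpowers_le.2 hxP))
      obtain ⟨b, hb, i, rfl⟩ := hdecP w hw
      exact Subgroup.mul_mem _ (Subgroup.mem_sup_left (hBZ hb)) (Subgroup.mem_sup_right ⟨i, rfl⟩)
    refine ⟨Or.inr (Or.inl ⟨x, hxS, hxA, hPeq⟩), ?_⟩
    have hexp : ∀ a ∈ A, dl a x ∈ Zc → dl a x ^ p = 1 := by
      intro a ha hd
      rw [← zpow_natCast, ← hdlx a ha hd, zpow_natCast, dl_eq_one]
      exact hxp.2 a (hAS ha)
    refine hindex ?_ fun a ha haN => ?_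
    · refine hZP (hcen _ (A.pow_mem hn₀A p) (dl_eq_one.1 ?_))
      rw [← zpow_natCast, hψpow n₀ hn₀A, zpow_natCast, hexp n₀ hn₀A (hBZ hd₀)]
    by_cases hcyc : dl a x ∈ Subgroup.zpowers (dl n₀ x)
    · obtain ⟨i, hi⟩ := hcyc
      refine ⟨i, hZP (hcen _ (A.mul_mem (A.inv_mem (A.zpow_mem hn₀A i)) ha) (dl_eq_one.1 ?_))⟩
      rw [← zpow_neg, hψmul _ (A.zpow_mem hn₀A _) a ha, hψpow n₀ hn₀A, zpow_neg,
        show dl n₀ x ^ i = dl a x from hi, inv_mul_cancel]
    exfalso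
    have hPab : ∀ u ∈ P, ∀ w ∈ P, u * w = w * u := by
      intro u hu w hw
      obtain ⟨b, hb, i, rfl⟩ := hdecP u hu
      obtain ⟨c, hc, j, rfl⟩ := hdecP w hw
      have h1 : Commute b (c * x ^ j) := ((hBZ hb).2 _ (hPS hw)).symm
      have h2 : Commute (x ^ i) (c * x ^ j) :=
        Commute.mul_right ((hBZ hc).2 _ (S.zpow_mem hxS i)) ((Commute.refl x).zpow_zpow i j)
      exact (h1.mul_left h2).eq
    have hBeq : ∀ w, w ∈ P → w ∈ A → w ∈ Zc := fun w h1 h2 => hBZ ⟨h1, h2⟩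
    let K : Subgroup (F.autGroup P) :=
      { carrier := {g | (∀ w ∈ Zc, autFun (g : MulAut P) w = w) ∧
          ∀ w ∈ P, autFun (g : MulAut P) w * w⁻¹ ∈ Zc}
        one_mem' := ⟨fun w _ => by simp [autFun_one], fun w _ => by simp [autFun_one, Zc.one_mem]⟩
        mul_mem' := by
          intro g g' hg hg'
          refine ⟨fun w hw => by rw [Subgroup.coe_mul, autFun_mul, hg'.1 w hw, hg.1 w hw],
            fun w hw => ?_⟩
          rw [Subgroup.coe_mul, autFun_mul]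
          have := Subgroup.mul_mem _ (hg.2 _ (autFun_mem (g' : MulAut P) hw)) (hg'.2 w hw)
          simpa [mul_assoc] using this
        inv_mem' := by
          intro g hg
          refine ⟨fun w hw => ?_, fun w hw => ?_⟩
          · conv_lhs => rw [Subgroup.coe_inv, ← hg.1 w hw]
            exact autFun_inv_apply _ _
          · have := Subgroup.inv_mem _ (hg.2 _ (autFun_mem (g : MulAut P)⁻¹ hw))
            rw [autFun_apply_inv, mul_inv_rev, inv_inv] at this
            simpa using this }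
    have hKp : IsPGroup p K := by
      intro g
      obtain ⟨hg1, hg2⟩ := g.2
      set γ : MulAut P := ((g : F.autGroup P) : MulAut P)
      have key : ∀ w ∈ P, ∀ n : ℕ, autFun (γ ^ n) w = (autFun γ w * w⁻¹) ^ n * w := by
        intro w hw n
        induction n with
        | zero => simp [autFun_one]
        | succ n ih =>
          rw [pow_succ', autFun_mul, ih,
            autFun_isHom γ _ (P.pow_mem (hZP (hg2 w hw)) n) _ hw,
            hg1 _ (Subgroup.pow_mem _ (hg2 w hw) n)]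
          rw [pow_succ]; simp [mul_assoc]
      obtain ⟨k, hk⟩ := IsPGroup.iff_card.1 (hS.to_le hPS)
      refine ⟨k, Subtype.ext (Subtype.ext ?_)⟩
      simp only [SubmonoidClass.coe_pow, OneMemClass.coe_one]
      refine autFun_ext fun w hw => ?_
      have hd : autFun γ w * w⁻¹ ∈ P := hZP (hg2 w hw)
      have h1 : (autFun γ w * w⁻¹) ^ p ^ k = 1 := by
        have := congrArg Subtype.val (pow_card_eq_one' (x := (⟨_, hd⟩ : P)))
        rw [hk] at this
        simpa using this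
      rw [key w hw, h1, autFun_one, one_mul]
      rfl
    have hinvg : ∀ {g : MulAut P}, (∀ w ∈ Zc, autFun g w ∈ Zc) → ∀ w ∈ Zc, autFun g⁻¹ w ∈ Zc := by
      intro g hg
      have : Finite Zc := finite_of_le (inf_le_left : Zc ≤ S)
      let f : Zc → Zc := fun w => ⟨autFun g w, hg w w.2⟩
      have hf : Function.Surjective f := Finite.surjective_of_injective fun u v huv => Subtype.ext (by
        have := congrArg (fun w : Zc => autFun g⁻¹ (w : Ω)) huv
        simpa [f, autFun_inv_apply] using this)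
      intro w hw
      obtain ⟨u, hu⟩ := hf ⟨w, hw⟩
      have : autFun g (u : Ω) = w := congrArg Subtype.val hu
      rw [← this, autFun_inv_apply]
      exact u.2
    have hnorm : ∀ g : F.autGroup P, (∀ w ∈ Zc, autFun (g : MulAut P) w ∈ Zc) →
        g ∈ Subgroup.normalizer (K : Set (F.autGroup P)) := by
      have key : ∀ g : F.autGroup P, (∀ w ∈ Zc, autFun (g : MulAut P) w ∈ Zc) →
          ∀ k ∈ K, g * k * g⁻¹ ∈ K := by
        intro g hg k hk
        refine ⟨fun w hw => ?_, fun w hw => ?_⟩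
        · simp only [Subgroup.coe_mul, Subgroup.coe_inv, autFun_mul,
            hk.1 _ (hinvg hg w hw), autFun_apply_inv]
        · simp only [Subgroup.coe_mul, Subgroup.coe_inv, autFun_mul]
          have hu := autFun_mem (g : MulAut P)⁻¹ hw
          set u := autFun (g : MulAut P)⁻¹ w with hu'
          rw [show autFun (k : MulAut P) u = (autFun (k : MulAut P) u * u⁻¹) * u by simp,
            autFun_isHom _ _ (hZP (hk.2 u hu)) _ hu,
            show autFun (g : MulAut P) u = w from autFun_apply_inv _ w, mul_inv_cancel_right]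
          exact hg _ (hk.2 u hu)
      intro g hg
      rw [Subgroup.mem_normalizer_iff]
      refine fun k => ⟨key g hg k, fun hk => ?_⟩
      have := key g⁻¹ (hinvg hg) _ hk
      simpa [mul_assoc] using this
    let τ : ∀ u ∈ normalizerIn S P, F.autGroup P := fun u hu =>
      ⟨conjAut S P ⟨u, hu⟩, autInducedBy_le hPS (conjAut_range S P ▸ ⟨_, rfl⟩)⟩
    have hτ : ∀ u (hu : u ∈ normalizerIn S P), ∀ w ∈ P, autFun (τ u hu : MulAut P) w = dl u w * w :=
      fun u hu w hw => (conjAut_apply ⟨u, hu⟩ hw).trans (conj_eq u w)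
    have hdlP : ∀ u ∈ A, dl u x ∈ Zc → ∀ w ∈ P, ∃ k : ℤ, dl u w = dl u x ^ k := by
      intro u hu hd w hw
      obtain ⟨b, hb, i, rfl⟩ := hdecP w hw
      refine ⟨i, ?_⟩
      rw [← hdlx u hu hd i]
      have hbz := hBZ hb
      show u * (b * x ^ i) * u⁻¹ * (b * x ^ i)⁻¹ = u * x ^ i * u⁻¹ * (x ^ i)⁻¹
      rw [← mul_assoc u, hbz.2 u (hAS hu), mul_inv_rev]
      calc b * u * x ^ i * u⁻¹ * ((x ^ i)⁻¹ * b⁻¹)
          = b * (u * x ^ i * u⁻¹ * (x ^ i)⁻¹) * b⁻¹ := by group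
        _ = u * x ^ i * u⁻¹ * (x ^ i)⁻¹ := by
          rw [← hbz.2 _ (S.mul_mem (S.mul_mem (S.mul_mem (hAS hu) (S.zpow_mem hxS i))
            (S.inv_mem (hAS hu))) (S.inv_mem (S.zpow_mem hxS i))), mul_inv_cancel_right]
    have hτK : ∀ u (hu : u ∈ A) (hd : dl u x ∈ Zc) (huN : u ∈ normalizerIn S P), τ u huN ∈ K := by
      intro u hu hd huN
      refine ⟨fun w hw => by rw [hτ u huN w (hZP hw), dl_eq_one.2 (hw.2 u (hAS hu)), one_mul],
        fun w hw => ?_⟩
      rw [hτ u huN w hw, mul_inv_cancel_right]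
      obtain ⟨k, hk⟩ := hdlP u hu hd w hw
      rw [hk]; exact Zc.zpow_mem hd k
    obtain ⟨-, -, hnN, Y, hY⟩ := id hP
    set π := QuotientGroup.mk' ((Inn P).subgroupOf (F.autGroup P))
    have hπ : ∀ g : F.autGroup P, π g = 1 → g = 1 := by
      intro g hg
      rw [QuotientGroup.mk'_apply, QuotientGroup.eq_one_iff, Subgroup.mem_subgroupOf, mem_inn_iff] at hg
      obtain ⟨v, hv, he⟩ := hg
      refine Subtype.ext (autFun_ext fun w hw => ?_)
      rw [he w hw, cj_apply, hPab v hv w hw, mul_inv_cancel_right, OneMemClass.coe_one, autFun_one]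
      rfl
    have hτ1 : ∀ u (huN : u ∈ normalizerIn S P), dl u x ≠ 1 → π (τ u huN) ≠ 1 := by
      intro u huN hu h
      have := hτ u huN x hxP
      rw [hπ _ h, OneMemClass.coe_one, autFun_one] at this
      exact hu (mul_eq_right.1 this.symm)
    have haS : a ∈ normalizerIn S P := ⟨hAS ha, haN⟩
    have hda : dl a x ∈ Zc := hBZ ((hNA a ha).1 haN)
    have hne : dl n₀ x ≠ 1 := fun h => hn₀P (hZP (hcen _ hn₀A (dl_eq_one.1 h)))
    refine no_embedded hY (K := K.map π) (hKp.map π)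
      (fun h0 => hτ1 n₀ hn₀S hne ((Subgroup.eq_bot_iff_forall _).1 h0 _
        ⟨_, hτK n₀ hn₀A (hBZ hd₀) hn₀S, rfl⟩)) fun G => ?_
    obtain ⟨g, rfl⟩ := QuotientGroup.mk'_surjective _ G
    have hnπ : ∀ u, u ∈ Subgroup.normalizer (K : Set (F.autGroup P)) →
        π u ∈ Subgroup.normalizer ((K.map π : Subgroup _) : Set _) := fun u hu =>
      Subgroup.le_normalizer_map π ⟨u, hu, rfl⟩
    by_cases hg : ∀ w ∈ Zc, autFun (g : MulAut P) w ∈ Zc
    · exact Or.inl (hnπ g (hnorm g hg))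
    -- the image of the centre
    let W : Subgroup Ω := img (autFun (g : MulAut P)) Zc
    have hWm := (isMap_of_mem_autGroup hPS g.2).restrict hZP
    have hWP : W ≤ P := img_le fun w hw => autFun_mem _ (hZP hw)
    have hWdec : ∀ w ∈ P, ∃ i : ℤ, w * (autFun (g : MulAut P) x ^ i)⁻¹ ∈ W := by
      intro w hw
      obtain ⟨b, hb, i, hbi⟩ := hdecP _ (autFun_mem (g : MulAut P)⁻¹ hw)
      refine ⟨i, ?_⟩
      have h1 := congrArg (autFun (g : MulAut P)) hbi
      rw [autFun_apply_inv, autFun_isHom _ _ hb.1 _ (P.zpow_mem hxP i),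
        map_zpow' (autFun_isHom _) hxP] at h1
      rw [h1, mul_inv_cancel_right]
      exact mem_img_self _ (hBZ hb)
    obtain ⟨u, huA, hud, hu1, huW⟩ : ∃ u ∈ A, dl u x ∈ Zc ∧ dl u x ≠ 1 ∧ dl u x ∈ W := by
      obtain ⟨i, hi⟩ := hWdec _ (hZP (hBZ hd₀))
      obtain ⟨j, hj⟩ := hWdec _ (hZP hda)
      by_cases hip : (p : ℤ) ∣ i
      · refine ⟨n₀, hn₀A, hBZ hd₀, hne, ?_⟩
        obtain ⟨k, rfl⟩ := hip
        have : autFun (g : MulAut P) x ^ ((p : ℤ) * k) ∈ W := by
          rw [zpow_mul, zpow_natCast]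
          refine W.zpow_mem ?_ k
          have : autFun (g : MulAut P) x ^ p = autFun (g : MulAut P) (x ^ p) := by
            rw [← zpow_natCast, ← map_zpow' (autFun_isHom _) hxP, zpow_natCast]
          rw [this]
          exact mem_img_self _ hxp
        simpa using W.mul_mem hi this
      · obtain ⟨r, s', hrs⟩ := ((Nat.prime_iff_prime_int.1 hpp).coprime_iff_not_dvd).2 hip
        have hu' : n₀ ^ (-(j * s')) * a ∈ A := A.mul_mem (A.zpow_mem hn₀A _) ha
        have hval : dl (n₀ ^ (-(j * s')) * a) x = dl n₀ x ^ (-(j * s')) * dl a x := by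
          rw [hψmul _ (A.zpow_mem hn₀A _) a ha, hψpow n₀ hn₀A]
        refine ⟨_, hu', ?_, ?_, ?_⟩
        · rw [hval]; exact Zc.mul_mem (Zc.zpow_mem (hBZ hd₀) _) hda
        · rw [hval]
          intro h
          exact hcyc ⟨j * s', (inv_mul_eq_one.1 (by rwa [zpow_neg] at h))⟩
        · rw [hval]
          set v := autFun (g : MulAut P) x
          set d₁ := dl n₀ x
          have hvP : v ∈ P := autFun_mem _ hxP
          have hc : Commute d₁ v := hPab _ (hZP (hBZ hd₀)) _ hvP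
          have hcW : ∀ w ∈ W, Commute v w := fun w hw => hPab _ hvP _ (hWP hw)
          have hc2 : Commute (d₁ * (v ^ i)⁻¹) (v ^ i) :=
            ((hcW _ hi).zpow_left i).symm
          have hd1 : d₁ ^ (-(j * s')) = (d₁ * (v ^ i)⁻¹) ^ (-(j * s')) * v ^ (i * -(j * s')) := by
            rw [zpow_mul v i, ← hc2.mul_zpow, inv_mul_cancel_right]
          have hvp : v ^ (p : ℤ) ∈ W := by
            have : v ^ p = autFun (g : MulAut P) (x ^ p) := by
              rw [← zpow_natCast, ← map_zpow' (autFun_isHom _) hxP, zpow_natCast]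
            rw [zpow_natCast, this]
            exact mem_img_self _ hxp
          rw [hd1, show dl a x = v ^ j * (dl a x * (v ^ j)⁻¹) from by
            rw [← mul_assoc, ((hPab _ (hZP hda) _ (P.zpow_mem hvP j)) : dl a x * v ^ j = _).symm,
              mul_inv_cancel_right], mul_assoc, ← mul_assoc (v ^ (i * -(j * s'))), ← zpow_add,
            show i * -(j * s') + j = (p : ℤ) * (j * r) by linear_combination (-j) * hrs, zpow_mul]
          exact W.mul_mem (W.zpow_mem hi _) (W.mul_mem (W.zpow_mem hvp _) hj)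
    have huN : u ∈ normalizerIn S P :=
      ⟨hAS huA, (hNA u huA).2 ⟨hZP hud, hdA u huA⟩⟩
    refine Or.inr ⟨π (τ u huN), ⟨_, hτK u huA hud huN, rfl⟩, hτ1 u huN hu1, ?_⟩
    have hn : g⁻¹ * τ u huN * g ∈ Subgroup.normalizer (K : Set (F.autGroup P)) := hnorm _ fun w hw => by
      simp only [Subgroup.coe_mul, Subgroup.coe_inv, autFun_mul]
      have hgw := autFun_mem (g : MulAut P) (hZP hw)
      rw [hτ u huN _ hgw]
      obtain ⟨k, hk⟩ := hdlP u huA hud _ hgw
      have hmem : dl u (autFun (g : MulAut P) w) * autFun (g : MulAut P) w ∈ W := by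
        rw [hk]; exact W.mul_mem (W.zpow_mem huW k) (mem_img_self _ hw)
      obtain ⟨w', hw', hwe⟩ := hWm.mem_img.1 hmem
      rw [← hwe, autFun_inv_apply]
      exact hw'
    have h2 := Subgroup.le_normalizer_map (MulAut.conj (π g)).toMonoidHom ⟨_, hnπ _ hn, rfl⟩
    simpa [π, mul_assoc] using h2
  · -- P is nonabelian
    obtain ⟨g, hg, hgB⟩ : ∃ g ∈ F.autGroup P, ∃ w ∈ B, autFun g w ∉ B := by
      by_contra hcon
      push Not at hcon
      refine hn₀P (mem_of_chain (Z := B) hS hP hn₀S (fun w hw _ => hAab n₀ hn₀A w hw.2)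
        (fun w hw => ?_) fun g hg w hw _ => hcon g hg w hw)
      refine ⟨P.mul_mem (P.inv_mem hw) ((Subgroup.mem_normalizer_iff.1 hn₀N w).1 hw), ?_⟩
      have h1 := A.mul_mem (hAnorm _ (S.inv_mem (hPS hw)) n₀ hn₀A) (A.inv_mem hn₀A)
      simpa [mul_assoc] using h1
    obtain ⟨w₀, hw₀, hw₀B⟩ := hgB
    let W : Subgroup Ω := img (autFun g) B
    have hWm := (isMap_of_mem_autGroup hPS hg).restrict (inf_le_left : B ≤ P)
    have hWP : W ≤ P := img_le fun w hw => autFun_mem g hw.1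
    have hWab : ∀ u ∈ W, ∀ v ∈ W, u * v = v * u := by
      intro u hu v hv
      obtain ⟨u', hu', rfl⟩ := hWm.mem_img.1 hu
      obtain ⟨v', hv', rfl⟩ := hWm.mem_img.1 hv
      rw [← autFun_isHom g u' hu'.1 v' hv'.1, hAab u' hu'.2 v' hv'.2, autFun_isHom g v' hv'.1 u' hu'.1]
    have hy : autFun g w₀ ∈ W := mem_img_self _ hw₀
    set y := autFun g w₀
    have hyA : y ∉ A := fun h => hw₀B ⟨autFun_mem g hw₀.1, h⟩
    have hBW : ∀ b ∈ B, b ∈ W → b ∈ Zc := by
      intro b hb hbW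
      obtain ⟨a', ha', i, hyi⟩ := hgen y (hPS (hWP hy))
      have h1 : Commute b (x ^ i) := by
        have h2 : Commute b (a' * x ^ i) := by rw [← hyi]; exact hWab b hbW y hy
        have h3 := (show Commute b a' from hAab b hb.2 a' ha').inv_right.mul_right h2
        rwa [inv_mul_cancel_left] at h3
      have hip : ¬ (p : ℤ) ∣ i := by
        rintro ⟨k, rfl⟩
        apply hyA
        rw [hyi, zpow_mul, zpow_natCast]
        exact A.mul_mem ha' (A.zpow_mem (hZA hxp) k)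
      obtain ⟨r, s', hrs⟩ := ((Nat.prime_iff_prime_int.1 hpp).coprime_iff_not_dvd).2 hip
      refine hcen b hb.2 ?_
      have h4 : Commute b (x ^ ((p : ℤ) * r + i * s')) := by
        rw [zpow_add, zpow_mul, zpow_mul, zpow_natCast]
        exact Commute.mul_right ((show Commute b (x ^ p) from hxp.2 b (hPS hb.1)).zpow_right r)
          (h1.zpow_right s')
      rw [show (p : ℤ) * r + i * s' = 1 by linarith, zpow_one] at h4
      exact h4.eq
    set v := autFun g x
    have hWdec : ∀ w ∈ P, ∃ i : ℤ, w * (v ^ i)⁻¹ ∈ W := by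
      intro w hw
      obtain ⟨b, hb, i, hbi⟩ := hdecP _ (autFun_mem g⁻¹ hw)
      refine ⟨i, ?_⟩
      have h1 := congrArg (autFun g) hbi
      rw [autFun_apply_inv, autFun_isHom _ _ hb.1 _ (P.zpow_mem hxP i),
        map_zpow' (autFun_isHom _) hxP] at h1
      rw [h1, mul_inv_cancel_right]
      exact mem_img_self _ hb
    have hvP : v ∈ P := autFun_mem g hxP
    have hvp : v ^ (p : ℤ) ∈ W := by
      have : v ^ p = autFun g (x ^ p) := by
        rw [← zpow_natCast, ← map_zpow' (autFun_isHom _) hxP, zpow_natCast]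
      rw [zpow_natCast, this]
      exact mem_img_self _ ⟨hZP hxp, hZA hxp⟩
    -- W is normal in P
    have hBn : ∀ u ∈ P, ∀ b ∈ B, u * b * u⁻¹ ∈ B := fun u hu b hb =>
      ⟨P.mul_mem (P.mul_mem hu hb.1) (P.inv_mem hu), hAnorm u (hPS hu) b hb.2⟩
    have hWn : ∀ u ∈ P, ∀ w ∈ W, u * w * u⁻¹ ∈ W := by
      intro u hu w hw
      obtain ⟨b, hb, rfl⟩ := hWm.mem_img.1 hw
      have hu' := autFun_mem g⁻¹ hu
      have := mem_img_self (autFun g) (hBn _ hu' b hb)
      rwa [(autFun_isHom g).map_conj hu' hb.1, autFun_apply_inv] at this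
    have hWPn : (W.subgroupOf P).Normal := ⟨fun w hw u => hWn u u.2 w hw⟩
    set q : P ⧸ W.subgroupOf P := QuotientGroup.mk (⟨v, hvP⟩ : P) with hq
    have hqgen : ∀ (u : Ω) (hu : u ∈ P), ∃ i : ℤ, QuotientGroup.mk (⟨u, hu⟩ : P) = q ^ i := by
      intro u hu
      obtain ⟨i, hi⟩ := hWdec u hu
      refine ⟨i, ?_⟩
      rw [hq, ← QuotientGroup.mk_zpow, eq_comm, QuotientGroup.eq]
      have := hWn (v ^ i)⁻¹ (P.inv_mem (P.zpow_mem hvP i)) _ hi
      rw [Subgroup.mem_subgroupOf]; simpa [mul_assoc] using this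
    have hcommW : ∀ u ∈ P, ∀ w ∈ P, dl u w ∈ W := by
      intro u hu w hw
      obtain ⟨i, hi⟩ := hqgen u hu
      obtain ⟨j, hj⟩ := hqgen w hw
      have : (QuotientGroup.mk ((⟨u, hu⟩ : P) * ⟨w, hw⟩ * ⟨u, hu⟩⁻¹ * ⟨w, hw⟩⁻¹) :
          P ⧸ W.subgroupOf P) = 1 := by
        rw [QuotientGroup.mk_mul, QuotientGroup.mk_mul, QuotientGroup.mk_mul, QuotientGroup.mk_inv,
          QuotientGroup.mk_inv, hi, hj]
        group
      rw [QuotientGroup.eq_one_iff] at this
      exact this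
    -- commutators are central
    have hBx : ∀ b ∈ B, dl b x ∈ Zc := fun b hb =>
      hBW _ ((hNA b hb.2).1 (Subgroup.le_normalizer hb.1)) (hcommW b hb.1 x hxP)
    have hBp : ∀ b ∈ B, b ^ p ∈ Zc := by
      intro b hb
      refine hcen _ (A.pow_mem hb.2 p) (dl_eq_one.1 ?_)
      rw [← zpow_natCast, hψpow b hb.2, ← hdlx b hb.2 (hBx b hb), zpow_natCast, dl_eq_one]
      exact hxp.2 b (hPS hb.1)
    have hBgen : ∀ b₁ ∈ B, b₁ ∉ Zc → ∀ b ∈ B, ∃ i : ℤ, (b₁ ^ i)⁻¹ * b ∈ Zc := by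
      intro b₁ hb₁ hb₁Z b hb
      obtain ⟨i, hi⟩ := hqgen b₁ hb₁.1
      obtain ⟨j, hj⟩ := hqgen b hb.1
      have hqp : q ^ (p : ℤ) = 1 := by
        rw [hq, ← QuotientGroup.mk_zpow, QuotientGroup.eq_one_iff]; exact hvp
      have hip : ¬ (p : ℤ) ∣ i := by
        rintro ⟨k, rfl⟩
        apply hb₁Z
        refine hBW b₁ hb₁ ?_
        rw [zpow_mul, hqp, one_zpow, QuotientGroup.eq_one_iff] at hi
        exact hi
      obtain ⟨r, s', hrs⟩ := ((Nat.prime_iff_prime_int.1 hpp).coprime_iff_not_dvd).2 hip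
      refine ⟨j * s', hBW _ ⟨P.mul_mem (P.inv_mem (P.zpow_mem hb₁.1 _)) hb.1,
        A.mul_mem (A.inv_mem (A.zpow_mem hb₁.2 _)) hb.2⟩ ?_⟩
      have : (QuotientGroup.mk ((((⟨b₁, hb₁.1⟩ : P)) ^ (j * s'))⁻¹ * ⟨b, hb.1⟩) :
          P ⧸ W.subgroupOf P) = 1 := by
        rw [QuotientGroup.mk_mul, QuotientGroup.mk_inv, QuotientGroup.mk_zpow, hi, hj, ← zpow_mul,
          ← zpow_neg, ← zpow_add,
          show -(i * (j * s')) + j = (p : ℤ) * (j * r) by linear_combination (-j) * hrs,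
          zpow_mul, hqp, one_zpow]
      rw [QuotientGroup.eq_one_iff] at this
      exact this
    -- Z(P) is the centre
    have hZinv : ∀ h ∈ F.autGroup P, ∀ w ∈ Zc, autFun h w ∈ Zc := by
      intro h hh w hw
      have hc : ∀ u ∈ P, u * autFun h w = autFun h w * u := by
        intro u hu
        have h1 := congrArg (autFun h) (hw.2 _ (hPS (autFun_mem h⁻¹ hu)))
        rwa [autFun_isHom h _ (autFun_mem h⁻¹ hu) _ (hZP hw),
          autFun_isHom h _ (hZP hw) _ (autFun_mem h⁻¹ hu), autFun_apply_inv] at h1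
      set w' := autFun h w
      have hw'P : w' ∈ P := autFun_mem h (hZP hw)
      obtain ⟨b, hb, i, hbi⟩ := hdecP w' hw'P
      by_cases hip : (p : ℤ) ∣ i
      · have hw'A : w' ∈ A := by
          obtain ⟨k, rfl⟩ := hip
          rw [hbi, zpow_mul, zpow_natCast]
          exact A.mul_mem hb.2 (A.zpow_mem (hZA hxp) k)
        exact hcen w' hw'A (hc x hxP).symm
      · exfalso
        apply hBZ
        intro c hc'
        obtain ⟨r, s', hrs⟩ := ((Nat.prime_iff_prime_int.1 hpp).coprime_iff_not_dvd).2 hip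
        have h1 : Commute c (x ^ i) := by
          have h2 : Commute c (b * x ^ i) := by rw [← hbi]; exact hc c hc'.1
          have h3 := (show Commute c b from hAab c hc'.2 b hb.2).inv_right.mul_right h2
          rwa [inv_mul_cancel_left] at h3
        refine hcen c hc'.2 ?_
        have h4 : Commute c (x ^ ((p : ℤ) * r + i * s')) := by
          rw [zpow_add, zpow_mul, zpow_mul, zpow_natCast]
          exact Commute.mul_right ((show Commute c (x ^ p) from hxp.2 c (hPS hc'.1)).zpow_right r)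
            (h1.zpow_right s')
        rw [show (p : ℤ) * r + i * s' = 1 by linarith, zpow_one] at h4
        exact h4.eq
    have hdlS : ∀ a ∈ A, dl a x ∈ Zc → ∀ s ∈ S, dl a s ∈ Zc := by
      intro a ha hd s hs
      obtain ⟨c, hc, i, rfl⟩ := hgen s hs
      have hdk := Zc.zpow_mem hd i
      rw [← hdlx a ha hd] at hdk
      have h1 : dl a (c * x ^ i) = c * dl a (x ^ i) * c⁻¹ := by
        show a * (c * x ^ i) * a⁻¹ * (c * x ^ i)⁻¹ = c * (a * x ^ i * a⁻¹ * (x ^ i)⁻¹) * c⁻¹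
        rw [← mul_assoc a, hAab a ha c hc]; group
      rw [h1, hdk.2 c (hAS hc), mul_inv_cancel_right]
      exact hdk
    have hkey : ∀ a ∈ A, dl a x ∈ Zc → a ∈ P := by
      intro a ha hd
      refine mem_of_chain (Z := Zc) hS hP ⟨hAS ha, (hNA a ha).2 ⟨hZP hd, hdA a ha⟩⟩
        (fun w hw _ => hw.2 a (hAS ha)) (fun w hw => ?_) fun h hh w hw _ => hZinv h hh w hw
      have h1 := hdlS a ha hd w (hPS hw)
      rw [conj_eq, ← h1.2 w (hPS hw), inv_mul_cancel_left]
      exact h1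
    set Z2 := (Subgroup.upperCentralSeries ↥S 2).map S.subtype with hZ2
    have hcenter : ∀ u : S, u ∈ Subgroup.center S ↔ (u : Ω) ∈ Zc := fun u => by
      rw [Subgroup.mem_center_iff]
      exact ⟨fun h => ⟨u.2, fun s hs => congrArg Subtype.val (h ⟨s, hs⟩)⟩,
        fun h s => Subtype.ext (h.2 s s.2)⟩
    have hmemZ2 : ∀ u ∈ S, u ∈ Z2 ↔ ∀ s ∈ S, dl u s ∈ Zc := by
      intro u hu
      have : u ∈ Z2 ↔ (⟨u, hu⟩ : S) ∈ Subgroup.upperCentralSeries ↥S 2 :=
        ⟨fun ⟨u', hu', he⟩ => by rwa [show (⟨u, hu⟩ : S) = u' from Subtype.ext he.symm],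
          fun h => ⟨_, h, rfl⟩⟩
      rw [this, Subgroup.mem_upperCentralSeries_succ_iff, Subgroup.upperCentralSeries_one]
      constructor
      · exact fun h s hs => (hcenter _).1 (h ⟨s, hs⟩)
      · exact fun h s => (hcenter _).2 (h s s.2)
    have hZ2A : Z2 ≤ A := by
      rintro _ ⟨u, hu, rfl⟩
      by_contra huA
      have huZ := (hmemZ2 u u.2).1 ⟨u, hu, rfl⟩
      obtain ⟨a', ha', i, hai⟩ := hgen u u.2
      have hip : ¬ (p : ℤ) ∣ i := by
        rintro ⟨k, rfl⟩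
        apply huA
        show (u : Ω) ∈ A
        rw [hai, zpow_mul, zpow_natCast]
        exact A.mul_mem ha' (A.zpow_mem (hZA hxp) k)
      obtain ⟨r, s', hrs⟩ := ((Nat.prime_iff_prime_int.1 hpp).coprime_iff_not_dvd).2 hip
      apply (essential_lt hS hF hP).not_ge
      intro s hs
      obtain ⟨c, hc, j, rfl⟩ := hgen s hs
      refine P.mul_mem (hkey c hc ?_) (P.zpow_mem hxP j)
      -- commutators with A are central
      have hZn : (Zc.subgroupOf S).Normal := ⟨fun w hw g => by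
        show (g : Ω) * w * (g : Ω)⁻¹ ∈ Zc
        have hw' : (w : Ω) ∈ Zc := hw
        rw [hw'.2 g g.2, mul_inv_cancel_right]; exact hw'⟩
      let m := QuotientGroup.mk' (Zc.subgroupOf S)
      have hcomm : ∀ a (ha : a ∈ S) b (hb : b ∈ S), dl a b ∈ Zc → Commute (m ⟨a, ha⟩) (m ⟨b, hb⟩) := by
        intro a ha b hb h
        have : m (⟨a, ha⟩ * ⟨b, hb⟩ * ⟨a, ha⟩⁻¹ * ⟨b, hb⟩⁻¹) = 1 :=
          (QuotientGroup.eq_one_iff _).2 h
        simp only [map_mul, map_inv] at this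
        rw [mul_inv_eq_one, mul_inv_eq_iff_eq_mul] at this
        exact this
      have h1 : Commute (m ⟨c, hAS hc⟩) (m u) := (hcomm u u.2 c (hAS hc) (huZ c (hAS hc))).symm
      have h2 : Commute (m ⟨c, hAS hc⟩) (m ⟨a', hAS ha'⟩) := hcomm _ _ _ _
        (by rw [dl_eq_one.2 (hAab c hc a' ha')]; exact Zc.one_mem)
      have hu' : m u = m ⟨a', hAS ha'⟩ * m ⟨x, hxS⟩ ^ i := by
        rw [← map_zpow, ← map_mul]
        exact congrArg m (Subtype.ext hai)
      have h3 : Commute (m ⟨c, hAS hc⟩) (m ⟨x, hxS⟩ ^ i) := by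
        have := h2.inv_right.mul_right h1
        rwa [hu', inv_mul_cancel_left] at this
      have hmp : m ⟨x, hxS⟩ ^ (p : ℤ) = 1 := by
        rw [← map_zpow]
        exact (QuotientGroup.eq_one_iff _).2 (by
          show ((⟨x, hxS⟩ : S) ^ (p : ℤ) : S).1 ∈ Zc
          simpa using hxp)
      have h4 := h3.zpow_right s'
      rw [← zpow_mul, show i * s' = 1 + (p : ℤ) * (-r) by linarith, zpow_add, zpow_mul _ (p : ℤ), hmp,
        one_zpow, mul_one, zpow_one] at h4
      have h5 : m (⟨c, hAS hc⟩ * ⟨x, hxS⟩ * ⟨c, hAS hc⟩⁻¹ * ⟨x, hxS⟩⁻¹) = 1 := by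
        simp only [map_mul, map_inv]
        rw [h4.eq, mul_inv_cancel_right, mul_inv_cancel]
      have h6 := (QuotientGroup.eq_one_iff _).1 h5
      exact h6
    have hZ2B : Z2 = B := by
      refine le_antisymm (fun u hu => ?_) fun u hu => ?_
      · have huA := hZ2A hu
        exact ⟨hkey u huA ((hmemZ2 u (hAS huA)).1 hu x hxS), huA⟩
      · exact (hmemZ2 u (hPS hu.1)).2 fun s hs => hdlS u hu.2 (hBx u hu) s hs
    have hPeq : P = Z2 ⊔ Subgroup.zpowers x := by
      rw [hZ2B]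
      refine le_antisymm (fun w hw => ?_) (sup_le inf_le_left (Subgroup.zpowers_le.2 hxP))
      obtain ⟨b, hb, i, rfl⟩ := hdecP w hw
      exact Subgroup.mul_mem _ (Subgroup.mem_sup_left hb) (Subgroup.mem_sup_right ⟨i, rfl⟩)
    refine ⟨Or.inr (Or.inr ⟨hZ2A, x, hxS, hxA, hPeq⟩), ?_⟩
    have hd₀Z : dl n₀ x ∉ Zc := fun h => hn₀P (hkey n₀ hn₀A h)
    refine hindex (hkey _ (A.pow_mem hn₀A p) ?_) fun a ha haN => ?_
    · rw [← zpow_natCast, hψpow n₀ hn₀A, zpow_natCast]
      exact hBp _ hd₀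
    · obtain ⟨i, hi⟩ := hBgen _ hd₀ hd₀Z _ ((hNA a ha).1 haN)
      refine ⟨i, hkey _ (A.mul_mem (A.inv_mem (A.zpow_mem hn₀A i)) ha) ?_⟩
      rwa [← zpow_neg, hψmul _ (A.zpow_mem hn₀A _) a ha, hψpow n₀ hn₀A, zpow_neg]

end Cfsg.Agent.S5254
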