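import Cfsg.Statements.S5260
import Cfsg.Agent.Lib.SpFourCore.Main

set_option autoImplicit false
open Cfsg

namespace Cfsg.Agent.S5260

/-- Let p be a prime, K a finite field of characteristic p, and S a finite p-group isomorphic to a Sylow p-subgroup of the symplectic group Sp₄(K). Then every exotic fusion system F over S (saturated but not the fusion system of a finite group on a Sylow p-subgroup) has no nontrivial normal subgroup: O_p(F) = 1. -/
theorem result {Ω : Type*} [Group Ω] {S : Subgroup Ω} [Finite S] (p : ℕ) [Fact p.Prime] (hS : IsPGroup p S) (F : Cfsg.FusionSystem S) (hF : F.IsSaturated p) {K : Type*} [Field K] [Fintype K] [CharP K p] (T : Sylow p ↥(Matrix.symplecticGroup (Fin 2) K)) (e : ↥S ≃* ↥(T : Subgroup ↥(Matrix.symplecticGroup (Fin 2) K))) (hex : F.IsExotic p) : F.core = ⊥ := by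
  classical
  by_contra hcore
  -- a copy of the field in the bottom universe
  let e0 : {i : Fin (Fintype.card K) // True} ≃ K :=
    (Equiv.subtypeUnivEquiv fun _ => trivial).trans (Fintype.equivFin K).symm
  let _ : Field {i : Fin (Fintype.card K) // True} := e0.field
  have hchar : CharP {i : Fin (Fintype.card K) // True} p :=
    charP_of_injective_ringHom (f := (e0.ringEquiv.symm : K ≃+* {i : Fin (Fintype.card K) // True}).toRingHom)
      e0.ringEquiv.symm.injective p
  obtain ⟨ψ⟩ := Cfsg.Agent.SpFourCore.nonempty_sylow_equiv T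
  let ε : ↥S ≃* Cfsg.Agent.SpFourCore.Syl {i : Fin (Fintype.card K) // True} :=
    (e.trans ψ).trans (Cfsg.Agent.SpFourCore.Syl.congr e0.ringEquiv.symm)
  exact hex.2 (Cfsg.Agent.SpFourCore.realizable_of_push ε
    (Cfsg.Agent.SpFourCore.realizable_of_normal (Cfsg.Agent.Fusion.Transport.push_saturated _ hS hF)
      (Cfsg.Agent.SpFourCore.isNormal_push ε Cfsg.Agent.Fusion.Normal.core_isNormal)
      (Cfsg.Agent.SpFourCore.push_ne_bot ε Cfsg.Agent.Fusion.Normal.core_isNormal.1 hcore)))

end Cfsg.Agent.S5260
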