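import Cfsg.Statements.S5264
import Cfsg.Agent.GStructB.P5.Small
import Cfsg.Agent.GStructB.P5.FocalFixed
import Cfsg.Agent.Lib.Fusion.Normal

set_option autoImplicit false
open Cfsg

namespace Cfsg.Agent.S5264

/-- Let p be an odd prime other than 7, S a finite p-group of order p^5, and F a saturated fusion system over S with no nontrivial normal subgroup and with hyperfocal subgroup equal to S (so F is its own p-residual subsystem). Then S has an abelian subgroup of index p. -/
theorem result {Ω : Type*} [Group Ω] {S : Subgroup Ω} [Finite S] (p : ℕ) [Fact p.Prime] (hS : IsPGroup p ↥S) (F : Cfsg.FusionSystem S) (hF : F.IsSaturated p) (hp : p ≠ 2) (hp7 : p ≠ 7) (hcard : Nat.card S = p ^ 5) (hcore : F.core = ⊥) (hhyp : F.hyperfocalSubgroup p = S) : ∃ A : Subgroup Ω, A ≤ S ∧ IsMulCommutative ↥A ∧ (A.subgroupOf S).index = p := by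
  by_contra hcon
  have hna : ∀ B : Subgroup Ω, B ≤ S → IsMulCommutative B → Nat.card B ≠ p ^ 4 := by
    intro B hB hcomm hc
    refine hcon ⟨B, hB, hcomm, ?_⟩
    have h := Subgroup.index_mul_card (B.subgroupOf S)
    rw [Nat.card_congr (Subgroup.subgroupOfEquivOfLe hB).toEquiv, hc, hcard, pow_succ' p 4] at h
    exact Nat.eq_of_mul_eq_mul_right (pow_pos (Fact.out : p.Prime).pos 4) h
  have hout : ∀ E : Subgroup Ω, F.IsEssential p E → Cfsg.Agent.GStructB.P5.Outcome F p E := by
    intro E hE
    have hES : E ≤ S := hE.1.1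
    have : Finite E := Cfsg.Agent.Fusion.Saturation.finite_of_le hES
    have hlt := Cfsg.Agent.Fusion.Alperin.essential_lt hS hF hE
    obtain ⟨k, hk⟩ := IsPGroup.iff_card.1 (hS.to_le hES)
    have hk5 : k < 5 := by
      refine (Nat.pow_lt_pow_iff_right (Fact.out : p.Prime).one_lt).1 ?_
      rw [← hk, ← hcard]
      exact Cfsg.Agent.Fusion.Saturation.card_lt_card hlt
    have hCE := Cfsg.Agent.Fusion.Saturation.centric_centralizerIn_le hE.1
    interval_cases k
    · exfalso
      rw [pow_zero] at hk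
      obtain rfl := Subgroup.card_eq_one.1 hk
      refine hlt.not_ge fun s hs => hCE ⟨hs, fun v hv => ?_⟩
      rw [Subgroup.mem_bot.1 hv, one_mul, mul_one]
    · exfalso
      rw [pow_one] at hk
      have hne : Nontrivial S := Finite.one_lt_card_iff_nontrivial.1
        (hcard ▸ Nat.one_lt_pow (by norm_num) (Fact.out : p.Prime).one_lt)
      obtain ⟨⟨z, hz⟩, hz1⟩ := Subgroup.ne_bot_iff_exists_ne_one.1
        ((Subgroup.nontrivial_iff_ne_bot _).1 hS.center_nontrivial)
      have hzc : ∀ s ∈ S, s * (z : Ω) = z * s := fun s hs =>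
        congrArg Subtype.val (Subgroup.mem_center_iff.1 hz ⟨s, hs⟩)
      have hzE : (z : Ω) ∈ E := hCE ⟨z.2, fun v hv => hzc v (hES hv)⟩
      refine hlt.not_ge fun s hs => hCE ⟨hs, fun v hv => ?_⟩
      obtain ⟨i, hi⟩ := Cfsg.Agent.GStructB.P5.exists_pow_of_card (G := S) (L := E.subgroupOf S)
        ((Nat.card_congr (Subgroup.subgroupOfEquivOfLe hES).toEquiv).trans hk) (l := z) hzE
        (fun h => hz1 (Subtype.ext h)) (x := ⟨v, hES hv⟩) hv
      have hv' : v = (z : Ω) ^ i := (congrArg Subtype.val hi).symm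
      rw [hv']
      exact ((show Commute (z : Ω) s from (hzc s hs).symm).pow_left i).eq
    · exact Cfsg.Agent.GStructB.P5.outcome_square hS hF hp hp7 hcard hna hE hk
    · exact Cfsg.Agent.GStructB.P5.outcome_cubic hS hF hp hcard hna hE hk
    · exact Cfsg.Agent.GStructB.P5.outcome_four hS hF hp hcard hna hE hk
  by_cases hex : ∃ E : Subgroup Ω, F.IsEssential p E
  · obtain ⟨E, hE⟩ := hex
    exact Cfsg.Agent.GStructB.P5.false_of_outcome hS hF hhyp (hout E hE).1 hout
  · have hn : F.IsNormal S := Cfsg.Agent.Fusion.Normal.normal_of_invariant hS hF fun P hP => by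
      rcases hP with rfl | hP
      · exact ⟨le_rfl, fun α _ => Cfsg.Agent.Fusion.Basic.autFun_img α⟩
      · exact absurd ⟨P, hP⟩ hex
    have h : S ≤ F.core := Cfsg.Agent.Fusion.Normal.le_core hn
    rw [hcore, le_bot_iff] at h
    rw [h, Subgroup.card_bot] at hcard
    exact (Nat.one_lt_pow (by norm_num) (Fact.out : p.Prime).one_lt).ne hcard

end Cfsg.Agent.S5264
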