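import Cfsg.Statements.S5270
import Cfsg.Agent.Lib.PGroups.MaximalClass
import Cfsg.Agent.Lib.Fusion.Alperin
import Cfsg.Agent.Lib.Fusion.Saturation

set_option autoImplicit false
set_option linter.style.haveILetI false
open Cfsg
open scoped commutatorElement

namespace Cfsg.Agent.S5270

open Cfsg.FusionSystem
open Cfsg.Agent.Fusion.Basic Cfsg.Agent.Fusion.Saturation Cfsg.Agent.PGroups

section PGroup

variable {X : Type*} [Group X] [Finite X] {p : ℕ} [hp : Fact p.Prime]

/-- In maximal class the centralizer of the second centre has index at most `p` and contains its centralizer. -/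
theorem index_le {n : ℕ} (hn : 4 ≤ n) (hX : Nat.card X = p ^ n) (hcl : Group.nilpotencyClass X = n - 1) :
    (Subgroup.centralizer ((Subgroup.upperCentralSeries X 2 : Subgroup X) : Set X)).index ≤ p := by
  have hP : IsPGroup p X := IsPGroup.of_card hX
  haveI := hP.isNilpotent
  set Z := Subgroup.center X
  obtain ⟨-, hZ⟩ := MaximalClass.center_eq (by omega) hX hcl
  have hQ : Nat.card (X ⧸ Z) = p ^ (n - 1) := by
    have h1 := Subgroup.card_eq_card_quotient_mul_card_subgroup Z
    rw [hX, hZ, show n = n - 1 + 1 by omega, pow_succ] at h1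
    exact (Nat.eq_of_mul_eq_mul_right hp.out.pos h1).symm
  have hclQ : Group.nilpotencyClass (X ⧸ Z) = n - 1 - 1 := by
    rw [Group.nilpotencyClass_quotient_center, hcl]
  obtain ⟨-, hZQ⟩ := MaximalClass.center_eq (by omega) hQ hclQ
  have hmem : ∀ g : X, g ∈ Subgroup.upperCentralSeries X 2 ↔ QuotientGroup.mk' Z g ∈ Subgroup.center (X ⧸ Z) := by
    intro g
    rw [Subgroup.mem_upperCentralSeries_succ_iff, Subgroup.upperCentralSeries_one, Subgroup.mem_center_iff]
    constructor
    · intro hg y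
      obtain ⟨y, rfl⟩ := QuotientGroup.mk'_surjective Z y
      rw [eq_comm, ← commutatorElement_eq_one_iff_mul_comm, ← map_commutatorElement]
      exact (QuotientGroup.eq_one_iff _).mpr (hg y)
    · intro hg y
      refine (QuotientGroup.eq_one_iff _).mp ?_
      show QuotientGroup.mk' Z ⁅g, y⁆ = 1
      rw [map_commutatorElement, commutatorElement_eq_one_iff_mul_comm]
      exact (hg _).symm
  obtain ⟨⟨w, hw⟩, hw1⟩ : ∃ w : Subgroup.center (X ⧸ Z), w ≠ 1 := by
    haveI : Nontrivial (Subgroup.center (X ⧸ Z)) := Finite.one_lt_card_iff_nontrivial.mp (hZQ ▸ hp.out.one_lt)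
    exact exists_ne 1
  obtain ⟨a, rfl⟩ := QuotientGroup.mk'_surjective Z w
  have ha := (hmem a).mpr hw
  have hdec : ∀ g ∈ Subgroup.upperCentralSeries X 2, ∃ (i : ℤ), ∃ z ∈ Z, g = a ^ i * z := by
    intro g hg
    haveI : Fact p.Prime := hp
    have h1 : (⟨_, (hmem g).mp hg⟩ : Subgroup.center (X ⧸ Z)) ∈ Subgroup.zpowers (⟨_, hw⟩ : Subgroup.center (X ⧸ Z)) :=
      mem_zpowers_of_prime_card hZQ hw1
    obtain ⟨i, hi⟩ := h1
    have h2 : QuotientGroup.mk' Z (a ^ i) = QuotientGroup.mk' Z g := by rw [map_zpow]; exact congrArg Subtype.val hi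
    exact ⟨i, _, QuotientGroup.eq.mp h2, (mul_inv_cancel_left _ _).symm⟩
  have hle : Subgroup.centralizer ({a} : Set X) ≤ Subgroup.centralizer ((Subgroup.upperCentralSeries X 2 : Subgroup X) : Set X) := by
    intro c hc g hg
    obtain ⟨i, z, hz, rfl⟩ := hdec g hg
    exact ((Commute.zpow_left (Subgroup.mem_centralizer_singleton_iff.mp hc).symm i).mul_left
      ((Subgroup.mem_center_iff.mp hz c).symm : Commute z c)).eq
  refine le_trans (Nat.le_of_dvd (Nat.pos_of_ne_zero Subgroup.index_ne_zero_of_finite) (Subgroup.index_dvd_of_le hle)) ?_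
  rw [← hZ, Subgroup.index_eq_card]
  refine Nat.card_le_card_of_injective (fun q => (⟨⁅q.out, a⁆, ?_⟩ : Z)) fun u v huv => ?_
  · have h1 := ha
    rw [Subgroup.mem_upperCentralSeries_succ_iff, Subgroup.upperCentralSeries_one] at h1
    have := Z.inv_mem (h1 q.out)
    rwa [commutatorElement_inv] at this
  · have e : ⁅u.out, a⁆ = ⁅v.out, a⁆ := congrArg Subtype.val huv
    rw [← QuotientGroup.out_eq' u, ← QuotientGroup.out_eq' v, QuotientGroup.eq, Subgroup.mem_centralizer_singleton_iff]
    rw [commutatorElement_def, commutatorElement_def, mul_left_inj] at e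
    calc u.out⁻¹ * v.out * a = u.out⁻¹ * (v.out * a * v.out⁻¹) * v.out := by group
      _ = u.out⁻¹ * (u.out * a * u.out⁻¹) * v.out := by rw [e]
      _ = a * (u.out⁻¹ * v.out) := by group

end PGroup

/-- Let p ≥ 5 be a prime, S a finite p-group of maximal class of order p^n with n ≥ 4, and F a saturated fusion system over S. If some map of F defined on the second centre Z₂(S) with image Z₂(S) does not carry Z(S) into itself, then the centralizer C_S(Z₂(S)) is an F-essential subgroup. -/
theorem result {Ω : Type*} [Group Ω] {S : Subgroup Ω} [Finite S] (p : ℕ) [Fact p.Prime] (hS : IsPGroup p ↥S) (n : ℕ) (hn : Nat.card S = p ^ n) (h4 : 4 ≤ n) (hmax : Subgroup.lowerCentralSeries S (n - 2) ≠ ⊥) (F : Cfsg.FusionSystem S) (hF : F.IsSaturated p) (hp : 5 ≤ p) (φ : ↥((Subgroup.upperCentralSeries ↥S 2).map S.subtype) →* Ω) (hφ : φ ∈ F.Hom ((Subgroup.upperCentralSeries ↥S 2).map S.subtype)) (hφZ : φ.range = ((Subgroup.upperCentralSeries ↥S 2).map S.subtype)) (hmove : ∃ (z : Ω) (hz : z ∈ ((Subgroup.upperCentralSeries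 ↥S 2).map S.subtype)), z ∈ ((Subgroup.center ↥S).map S.subtype) ∧ φ ⟨z, hz⟩ ∉ ((Subgroup.center ↥S).map S.subtype)) : F.IsEssential p (S ⊓ Subgroup.centralizer (((Subgroup.upperCentralSeries ↥S 2).map S.subtype) : Set Ω)) := by
  have hpp : p.Prime := Fact.out
  haveI := hS.isNilpotent
  let Z2' := Subgroup.upperCentralSeries ↥S 2
  let Z2 := Z2'.map S.subtype
  have hcl : Group.nilpotencyClass ↥S = n - 1 := by
    rw [MaximalClass.class_eq_iff (p := p) (by omega) hn]
    intro e
    refine hmax ?_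
    rw [← Subgroup.top_subtype_lowerCentralSeries]
    exact (Subgroup.map_eq_bot_iff_of_injective _ S.subtype_injective).mpr e
  set C := S ⊓ Subgroup.centralizer (Z2 : Set Ω)
  have hCS : C ≤ S := inf_le_left
  have hC' : C.subgroupOf S = Subgroup.centralizer (Z2' : Set ↥S) := by
    ext c
    rw [Subgroup.mem_subgroupOf]
    constructor
    · intro hc y hy
      exact Subtype.ext (hc.2 y ⟨y, hy, rfl⟩)
    · intro hc
      refine ⟨c.2, ?_⟩
      rintro _ ⟨y, hy, rfl⟩
      exact congrArg Subtype.val (hc y hy)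
  have hidx : C.relIndex S ≤ p := by
    show (C.subgroupOf S).index ≤ p
    rw [hC']; exact index_le h4 hn hcl
  have hSC : S ≤ Subgroup.normalizer (C : Set Ω) := by
    rw [← Subgroup.normal_subgroupOf_iff_le_normalizer hCS, hC']
    infer_instance
  -- nothing strictly between `C` and `S`
  have hup : ∀ Q : Subgroup Ω, C < Q → Q ≤ S → Q = S := by
    intro Q hQ hQS
    refine le_antisymm hQS (Subgroup.relIndex_eq_one.mp ?_)
    haveI : Finite Q := finite_of_le hQS
    have h1 := Subgroup.relIndex_mul_relIndex C Q S hQ.le hQS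
    have h2 : C.relIndex Q ≠ 1 := fun e => hQ.ne (le_antisymm hQ.le (Subgroup.relIndex_eq_one.mp e))
    obtain ⟨k, hk⟩ := (hS.to_le hQS : IsPGroup p Q).index (C.subgroupOf Q)
    have h3 : p ≤ C.relIndex Q := by
      rw [Subgroup.relIndex, hk]
      exact Nat.le_self_pow (fun e => h2 (by rw [Subgroup.relIndex, hk, e, pow_zero])) p
    have h4 : Q.relIndex S ≠ 0 := Subgroup.index_ne_zero_of_finite (H := Q.subgroupOf S)
    nlinarith [hpp.two_le, Nat.pos_of_ne_zero h4, hidx]
  have hZ2C : Z2 ≤ C := by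
    rintro _ ⟨a, ha, rfl⟩
    refine ⟨a.2, ?_⟩
    rintro _ ⟨b, hb, rfl⟩
    -- the second centre is abelian
    rw [SetLike.mem_coe] at ha hb
    have hZ : ∀ g : ↥S, ⁅a, g⁆ ∈ Subgroup.center ↥S := fun g => by
      have := (Subgroup.mem_upperCentralSeries_succ_iff.mp ha) g
      rwa [Subgroup.upperCentralSeries_one] at this
    have hcomm : b * a = a * b := by
      set Zc := Subgroup.center ↥S
      obtain ⟨-, hZc⟩ := MaximalClass.center_eq (p := p) (n := n) (by omega) hn hcl
      have hQ : Nat.card (↥S ⧸ Zc) = p ^ (n - 1) := by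
        have h1 := Subgroup.card_eq_card_quotient_mul_card_subgroup Zc
        rw [hn, hZc, show n = n - 1 + 1 by omega, pow_succ] at h1
        exact (Nat.eq_of_mul_eq_mul_right hpp.pos h1).symm
      obtain ⟨-, hZQ⟩ := MaximalClass.center_eq (p := p) (n := n - 1) (by omega) hQ
        (by rw [Group.nilpotencyClass_quotient_center, hcl])
      have hmem : ∀ g ∈ Z2', QuotientGroup.mk' Zc g ∈ Subgroup.center (↥S ⧸ Zc) := by
        intro g hg
        rw [Subgroup.mem_center_iff]
        intro y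
        obtain ⟨y, rfl⟩ := QuotientGroup.mk'_surjective Zc y
        rw [eq_comm, ← commutatorElement_eq_one_iff_mul_comm, ← map_commutatorElement]
        refine (QuotientGroup.eq_one_iff _).mpr ?_
        have := (Subgroup.mem_upperCentralSeries_succ_iff.mp hg) y
        rwa [Subgroup.upperCentralSeries_one] at this
      haveI : Fact p.Prime := ⟨hpp⟩
      haveI : IsCyclic (Subgroup.center (↥S ⧸ Zc)) := isCyclic_of_prime_card (p := p) hZQ
      let f : Z2' →* Subgroup.center (↥S ⧸ Zc) :=
        ((QuotientGroup.mk' Zc).comp Z2'.subtype).codRestrict _ fun g => hmem g g.2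
      have hk : f.ker ≤ Subgroup.center Z2' := fun g hg => Subgroup.mem_center_iff.mpr fun y => Subtype.ext
        (Subgroup.mem_center_iff.mp ((QuotientGroup.eq_one_iff (g : ↥S)).mp (congrArg Subtype.val hg)) y)
      exact congrArg Subtype.val ((MonoidHom.isMulCommutative_of_isCyclic_of_ker_le_center f hk).is_comm.comm
        (⟨b, hb⟩ : Z2') ⟨a, ha⟩)
    exact congrArg Subtype.val hcomm
  haveI : Finite (normalizerIn S C) := finite_of_le normalizerIn_le
  haveI : Finite (normalizerIn S Z2) := finite_of_le normalizerIn_le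
  have hfnC : F.IsFullyNormalized C := ⟨hCS, fun Q _ => card_le_card (normalizerIn_le.trans fun y hy => ⟨hy, hSC hy⟩)⟩
  have hfnZ : F.IsFullyNormalized Z2 := by
    refine ⟨Subgroup.map_subtype_le _, fun Q _ => card_le_card (normalizerIn_le.trans fun y hy => ⟨hy, ?_⟩)⟩
    refine ((Subgroup.normal_subgroupOf_iff_le_normalizer (Subgroup.map_subtype_le _)).mp ?_) hy
    rw [Subgroup.subgroupOf, Subgroup.comap_map_eq_self_of_injective S.subtype_injective]
    infer_instance
  -- an automorphism of `C` moving the centre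
  have hm : IsMap F Z2 (ext φ) := IsMap.of_hom hφ
  have himg : img (ext φ) Z2 = Z2 := by rw [← range_eq_img φ, hφZ]
  obtain ⟨θ, hθ, hθe⟩ := exists_extension hS hF hm (himg.symm ▸ fullyNormalized_fullyCentralized hS hF hfnZ)
  have hθC := hθ.restrict (centralizerIn_le_nSub : C ≤ nSub S Z2 (ext φ))
  haveI : Finite C := finite_of_le hCS
  have himgC : img θ C = C := by
    refine eq_of_le_card (img_le fun c hc => ⟨hθC.mem hc, fun w hw => ?_⟩) hθC.card_img.ge
    rw [SetLike.mem_coe, ← himg, hm.mem_img] at hw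
    obtain ⟨v, hv, rfl⟩ := hw
    rw [← hθe v hv, ← hθC.map_mul (hZ2C hv) hc, ← hθC.map_mul hc (hZ2C hv), hc.2 v hv]
  obtain ⟨α, hα, hαe⟩ := hθC.exists_aut himgC
  obtain ⟨z, hz, hzc, hzm⟩ := hmove
  have hmoved : autFun α z ∉ (Subgroup.center ↥S).map S.subtype := by
    rw [hαe z (hZ2C hz), hθe z hz, ext_of_mem φ hz]; exact hzm
  have hCne : C ≠ S := by
    intro e
    apply hmoved
    obtain ⟨w, hw, rfl⟩ := hzc
    refine ⟨⟨autFun α w, hCS (autFun_mem α (e.ge w.2))⟩, Subgroup.mem_center_iff.mpr fun y => Subtype.ext ?_, rfl⟩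
    have hmap := isMap_of_mem_autGroup hCS hα
    have hy : (y : Ω) ∈ C := e.ge y.2
    have hy' := autFun_mem α⁻¹ hy
    show (y : Ω) * autFun α w = autFun α w * y
    rw [← autFun_apply_inv α (y : Ω)]
    refine ((hmap.map_mul hy' (e.ge w.2)).symm.trans ?_).trans (hmap.map_mul (e.ge w.2) hy')
    exact congrArg (autFun α) (congrArg Subtype.val (Subgroup.mem_center_iff.mp hw ⟨_, hCS hy'⟩))
  refine (Fusion.Alperin.essential_iff hS hF (lt_of_le_of_ne hCS hCne) hfnC).mpr fun e => ?_
  -- extendable automorphisms preserve the centre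
  let K : Subgroup (MulAut C) :=
    { carrier := {β | ∀ w ∈ (Subgroup.center ↥S).map S.subtype, w ∈ C → autFun β w ∈ (Subgroup.center ↥S).map S.subtype ∧
        autFun β⁻¹ w ∈ (Subgroup.center ↥S).map S.subtype}
      one_mem' := fun w hw _ => by simp [autFun_one, hw]
      mul_mem' := fun {β γ} hb hc w hw hwC => by
        rw [mul_inv_rev, autFun_mul, autFun_mul]
        exact ⟨(hb _ (hc w hw hwC).1 (autFun_mem γ hwC)).1, (hc _ (hb w hw hwC).2 (autFun_mem β⁻¹ hwC)).2⟩
      inv_mem' := fun {β} hb w hw hwC => by rw [inv_inv]; exact ⟨(hb w hw hwC).2, (hb w hw hwC).1⟩ }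
  have hK : Fusion.Alperin.extGroup F C ≤ K := by
    rw [Fusion.Alperin.extGroup, Subgroup.closure_le]
    rintro β ⟨Q, f, hQ, hf, he⟩
    have hQS := hup Q hQ hf.le
    subst hQS
    have hfc : ∀ w ∈ (Subgroup.center ↥Q).map Q.subtype, f w ∈ (Subgroup.center ↥Q).map Q.subtype := by
      rintro _ ⟨w, hw, rfl⟩
      refine ⟨⟨f w, hf.mem w.2⟩, Subgroup.mem_center_iff.mpr fun y => Subtype.ext ?_, rfl⟩
      haveI : Finite (img f Q) := finite_of_le hf.img_le_S
      have hy : (y : Ω) ∈ img f Q := by rw [eq_of_le_card hf.img_le_S hf.card_img.ge]; exact y.2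
      obtain ⟨v, hv, hve⟩ := hf.mem_img.mp hy
      show (y : Ω) * f w = f w * y
      rw [← hve, ← hf.map_mul hv w.2, ← hf.map_mul w.2 hv]
      exact congrArg f (congrArg Subtype.val (Subgroup.mem_center_iff.mp hw ⟨v, hv⟩))
    intro w hw hwC
    refine ⟨by rw [← he w hwC]; exact hfc w hw, ?_⟩
    -- `f` restricts to a permutation of the centre
    set Zc := (Subgroup.center ↥Q).map Q.subtype
    haveI : Finite Zc := finite_of_le (Subgroup.map_subtype_le _)
    have hres := hf.restrict (Subgroup.map_subtype_le (Subgroup.center ↥Q))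
    obtain ⟨v, hv, hve⟩ := hres.mem_img.mp ((eq_of_le_card (img_le hfc) hres.card_img.ge).ge hw)
    have hvC : v ∈ C := by
      obtain ⟨u, hu, rfl⟩ := hv
      exact ⟨u.2, fun y hy => congrArg Subtype.val (Subgroup.mem_center_iff.mp hu ⟨y, (Subgroup.map_subtype_le _) hy⟩)⟩
    have : autFun β⁻¹ w = v := by rw [← hve, he v hvC, autFun_inv_apply]
    rw [this]; exact hv
  exact hmoved ((hK (e.ge hα)) z hzc (hZ2C hz)).1

end Cfsg.Agent.S5270
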