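import Cfsg.Statements.S5271
import Mathlib
import Cfsg.Agent.S5156
import Cfsg.Agent.Lib.Fusion.Tate
import Cfsg.Agent.Lib.Fusion.FactorExists
import Cfsg.Agent.Lib.Fusion.SolvableExt
import Cfsg.Agent.Lib.Fusion.NormalizerModel
import Cfsg.Agent.Lib.PGroups.Normal
import Cfsg.Agent.Lib.Coprime.PGroup
import Cfsg.Agent.Solvable.Basics
-- import your own Cfsg.Agent.* helpers here

set_option autoImplicit false
set_option linter.all false
open Cfsg

namespace Cfsg.Agent.S5271

open Cfsg Cfsg.FusionSystem Cfsg.Agent.Fusion Cfsg.Agent.Fusion.Basic Cfsg.Agent.Fusion.Saturation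
  Cfsg.Agent.Fusion.Normal

open Cfsg.Agent.Fusion.Factor (along)

section Helpers

universe v

variable {Ω : Type v} [Group Ω] {S A B : Subgroup Ω} {p : ℕ} [Fact p.Prime] {F : FusionSystem S}

/-- Every map is a conjugation by an element of `S`. -/
def Inner (F : FusionSystem S) : Prop :=
  ∀ (P : Subgroup Ω) (f : Ω → Ω), IsMap F P f → ∃ s ∈ S, ∀ x ∈ P, f x = s * x * s⁻¹

/-- The closure condition at order `d`. -/
def Weak (F : FusionSystem S) (d : ℕ) : Prop :=
  ∀ Q : Subgroup Ω, Q ≤ S → Nat.card Q = d → ∃ P : Subgroup Ω,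
    F.StronglyClosed P ∧ F.StronglyClosed (Q ⊔ P) ∧ F.StronglyClosed (Q ⊓ P)

/-- The normalizer condition at order `d`. -/
def Loc (F : FusionSystem S) (d : ℕ) : Prop :=
  ∀ H : Subgroup Ω, F.IsFullyNormalized H → Nat.card H = d → ∀ (P : Subgroup Ω) (f g : Ω → Ω),
    P ≤ normalizerIn S H → (∀ x ∈ P, f x ∈ normalizerIn S H) → IsMap F (P ⊔ H) g →
    (∀ x ∈ P, g x = f x) → img g H = H →
    ∃ n ∈ normalizerIn S H, ∀ x ∈ P, f x = n * x * n⁻¹

theorem conjugates (hn : ∀ a ∈ S, ∀ x ∈ A, a * x * a⁻¹ ∈ A) :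
    S ≤ Subgroup.normalizer (A : Set Ω) := fun a ha =>
  Subgroup.mem_normalizer_iff.2 fun x => ⟨hn a ha x, fun h => by
    have := hn _ (S.inv_mem ha) _ h
    simpa [mul_assoc] using this⟩

theorem conj_of_sc [Finite S] (h : F.StronglyClosed A) : ∀ a ∈ S, ∀ x ∈ A, a * x * a⁻¹ ∈ A :=
  fun a ha x hx => (Subgroup.mem_normalizer_iff.1 (le_normalizer_of_stronglyClosed h ha) x).1 hx

theorem sc_inf {U V : Subgroup Ω} (hU : F.StronglyClosed U) (hV : F.StronglyClosed V) :
    F.StronglyClosed (U ⊓ V) :=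
  ⟨inf_le_left.trans hU.1, fun R hR φ hφ x =>
    ⟨hU.2 R (hR.trans inf_le_left) φ hφ x, hV.2 R (hR.trans inf_le_right) φ hφ x⟩⟩

/-- Normal subgroups of every intermediate order. -/
theorem between [Finite S] (hS : IsPGroup p S) (hAB : A ≤ B) (hB : B ≤ S)
    (hAn : ∀ a ∈ S, ∀ x ∈ A, a * x * a⁻¹ ∈ A) (hBn : ∀ a ∈ S, ∀ x ∈ B, a * x * a⁻¹ ∈ B)
    {k : ℕ} (h1 : Nat.card A ≤ p ^ k) (h2 : p ^ k ≤ Nat.card B) :
    ∃ H : Subgroup Ω, A ≤ H ∧ H ≤ B ∧ (∀ a ∈ S, ∀ x ∈ H, a * x * a⁻¹ ∈ H) ∧ Nat.card H = p ^ k := by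
  have hA : A ≤ S := hAB.trans hB
  set A' := A.subgroupOf S with hA'
  set B' := B.subgroupOf S with hB'
  have : A'.Normal := ⟨fun x hx g => hAn g g.2 x hx⟩
  have : B'.Normal := ⟨fun x hx g => hBn g g.2 x hx⟩
  have hcA : Nat.card A' = Nat.card A := Nat.card_congr (Subgroup.subgroupOfEquivOfLe hA).toEquiv
  have hcB : Nat.card B' = Nat.card B := Nat.card_congr (Subgroup.subgroupOfEquivOfLe hB).toEquiv
  obtain ⟨i, hi⟩ := (IsPGroup.iff_card.1 (hS.to_subgroup A'))
  have hik : i ≤ k := (Nat.pow_le_pow_iff_right (Fact.out : p.Prime).one_lt).1 (by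
    rw [← hi, hcA]; exact h1)
  set π := QuotientGroup.mk' A'
  have hker : ∀ T : Subgroup S, A' ≤ T → Nat.card T = p ^ i * Nat.card (T.map π) := fun T hT => by
    have h := Subgroup.relIndex_ker π (K := T)
    rw [QuotientGroup.ker_mk'] at h
    have h' := Subgroup.relIndex_mul_relIndex ⊥ A' T bot_le hT
    rw [Subgroup.relIndex_bot_left, Subgroup.relIndex_bot_left, h, hi] at h'
    exact h'.symm
  have : (B'.map π).Normal := Subgroup.Normal.map inferInstance π (QuotientGroup.mk'_surjective A')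
  have hle : p ^ (k - i) ≤ Nat.card (B'.map π) := by
    refine Nat.le_of_mul_le_mul_left ?_ (pow_pos (Fact.out : p.Prime).pos i)
    rw [← hker B' (fun x hx => hAB hx), ← pow_add, Nat.add_sub_cancel' hik, hcB]
    exact h2
  obtain ⟨M, hMn, hMB, hMc⟩ :=
    Cfsg.Agent.PGroups.Normal.exists_normal_le_card (hS.to_quotient A') (B'.map π) (k - i) hle
  have hAM : A' ≤ M.comap π :=
    (QuotientGroup.ker_mk' A').ge.trans (MonoidHom.ker_le_comap _ _)
  refine ⟨(M.comap π).map S.subtype, fun x hx => ⟨⟨x, hA hx⟩, hAM hx, rfl⟩, ?_, ?_, ?_⟩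
  · rintro _ ⟨y, hy, rfl⟩
    obtain ⟨b, hb, hbe⟩ := hMB hy
    have h3 : b⁻¹ * y ∈ A' := QuotientGroup.eq.1 hbe
    have h4 : y = b * (b⁻¹ * y) := by group
    rw [h4]
    exact B.mul_mem hb (hAB h3)
  · rintro a ha _ ⟨y, hy, rfl⟩
    exact ⟨⟨a, ha⟩ * y * ⟨a, ha⟩⁻¹, (hMn.comap π).conj_mem y hy _, rfl⟩
  · rw [Subgroup.card_map_of_injective S.subtype_injective, hker _ hAM,
      Subgroup.map_comap_eq_self_of_surjective (QuotientGroup.mk'_surjective A'), hMc, ← pow_add,
      Nat.add_sub_cancel' hik]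

/-- Adjoining an element of relative order `p`. -/
theorem card_adjoin [Finite S] (hS : IsPGroup p S) {H : Subgroup Ω} (hH : H ≤ S) {x : Ω}
    (hx : x ∈ S) (hxn : ∀ h ∈ H, x * h * x⁻¹ ∈ H) (hxH : x ∉ H) (hxp : x ^ p ∈ H) :
    Nat.card (H ⊔ Subgroup.zpowers x : Subgroup Ω) = p * Nat.card H ∧
      ∀ y ∈ H ⊔ Subgroup.zpowers x, ∃ n : ℤ, ∃ h ∈ H, x ^ n * h = y := by
  set Q := H ⊔ Subgroup.zpowers x with hQ
  have hQS : Q ≤ S := sup_le hH (Subgroup.zpowers_le.2 hx)
  have : Finite H := finite_of_le hH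
  have : Finite Q := finite_of_le hQS
  have hxN : Subgroup.zpowers x ≤ Subgroup.normalizer (H : Set Ω) :=
    Subgroup.zpowers_le.2 (mem_normalizer_of_forall hxn)
  have hdec : ∀ y ∈ Q, ∃ n : ℤ, ∃ h ∈ H, x ^ n * h = y := fun y hy => by
    obtain ⟨a, ha, h, hh, he⟩ := Factor.coe_sup_of_normal hxN le_rfl
      (show y ∈ Subgroup.zpowers x ⊔ H by rwa [sup_comm])
    obtain ⟨n, rfl⟩ := Subgroup.mem_zpowers_iff.1 ha
    exact ⟨n, h, hh, he⟩
  refine ⟨?_, hdec⟩
  have : (H.subgroupOf Q).Normal := (Subgroup.normal_subgroupOf_iff_le_normalizer le_sup_left).2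
    (sup_le Subgroup.le_normalizer hxN)
  set x' : Q := ⟨x, Subgroup.mem_sup_right (Subgroup.mem_zpowers x)⟩
  have hord : orderOf (x' : Q ⧸ H.subgroupOf Q) = p := by
    refine orderOf_eq_prime ?_ ?_
    · rw [← QuotientGroup.mk_pow, QuotientGroup.eq_one_iff]
      exact hxp
    · rw [Ne, QuotientGroup.eq_one_iff]
      exact hxH
  have htop : Subgroup.zpowers (x' : Q ⧸ H.subgroupOf Q) = ⊤ := by
    refine top_le_iff.1 fun z _ => ?_
    induction z using QuotientGroup.induction_on with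
    | _ y =>
      obtain ⟨n, h, hh, he⟩ := hdec y y.2
      refine Subgroup.mem_zpowers_iff.2 ⟨n, ?_⟩
      rw [← QuotientGroup.mk_zpow, QuotientGroup.eq]
      show ((x' ^ n : Q) : Ω)⁻¹ * y ∈ H
      rw [Subgroup.coe_zpow, ← he]
      simpa [x'] using hh
  have hc : Nat.card (Q ⧸ H.subgroupOf Q) = p := by
    rw [← hord, ← Nat.card_zpowers, htop, Subgroup.card_top]
  have h1 := Subgroup.card_eq_card_quotient_mul_card_subgroup (H.subgroupOf Q)
  rw [hc, Nat.card_congr (Subgroup.subgroupOfEquivOfLe (le_sup_left : H ≤ Q)).toEquiv] at h1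
  exact h1

/-- Proper normal subgroup of `M` above the Frattini subgroup and the centre. -/
theorem frattini_center_ne [Finite S] (hS : IsPGroup p S) {M : Subgroup Ω} (hM : M ≤ S)
    (hna : ¬ ∀ a ∈ M, ∀ b ∈ M, a * b = b * a) :
    (frattini M ⊔ Subgroup.center M).map M.subtype ≠ M := fun h => by
  have : Finite M := finite_of_le hM
  refine hna fun a ha b hb => ?_
  have h1 : frattini M ⊔ Subgroup.center M = ⊤ := by
    refine Subgroup.map_injective M.subtype_injective (h.trans ?_)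
    rw [← MonoidHom.range_eq_map, Subgroup.range_subtype]
  have h2 : Subgroup.center M = ⊤ := frattini_nongenerating (by rwa [sup_comm] at h1)
  have h3 : (⟨a, ha⟩ : M) ∈ Subgroup.center M := h2 ▸ Subgroup.mem_top _
  exact (congrArg Subtype.val (Subgroup.mem_center_iff.1 h3 ⟨b, hb⟩)).symm

/-- The only elements of `H⟨x⟩` inside `M` are those of `H`. -/
theorem meet {M H : Subgroup Ω} {x : Ω} (hHM : H ≤ M) (hxM : x ∉ M) (hxp : x ^ p ∈ M)
    (hdec : ∀ y ∈ H ⊔ Subgroup.zpowers x, ∃ n : ℤ, ∃ h ∈ H, x ^ n * h = y) (hxH : x ^ p ∈ H) :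
    (H ⊔ Subgroup.zpowers x) ⊓ M ≤ H := by
  rintro y ⟨hy, hyM⟩
  obtain ⟨n, h, hh, rfl⟩ := hdec y hy
  have hn : x ^ n ∈ M := by simpa using M.mul_mem hyM (M.inv_mem (hHM hh))
  have hd : (p : ℤ) ∣ n := by
    by_contra hd
    have hc : IsCoprime (p : ℤ) n := (Nat.prime_iff_prime_int.1 Fact.out).coprime_iff_not_dvd.2 hd
    obtain ⟨a, b, hab⟩ := hc
    refine hxM ?_
    have h1 : x = (x ^ p) ^ a * (x ^ n) ^ b := by
      rw [← zpow_natCast x p, ← zpow_mul, ← zpow_mul, ← zpow_add, mul_comm (p : ℤ) a,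
        mul_comm n b, hab, zpow_one]
    rw [h1]
    exact M.mul_mem (M.zpow_mem hxp a) (M.zpow_mem hn b)
  obtain ⟨c, rfl⟩ := hd
  rw [zpow_mul, zpow_natCast]
  exact H.mul_mem (H.zpow_mem hxH c) hh

/-- A join of characteristic subgroups. -/
theorem sup_char {G : Type*} [Group G] {U V : Subgroup G} [hU : U.Characteristic]
    [hV : V.Characteristic] : (U ⊔ V).Characteristic := by
  rw [Subgroup.characteristic_iff_map_eq]
  intro φ
  rw [Subgroup.map_sup, (Subgroup.characteristic_iff_map_eq.1 hU φ),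
    (Subgroup.characteristic_iff_map_eq.1 hV φ)]

variable [Finite S]

/-- A normal subgroup `H` of index `p` in a minimal strongly closed `M` and a second subgroup above it. -/
theorem split_of_ne {M H Q : Subgroup Ω} {d : ℕ} (hw : Weak F d) (hM : F.StronglyClosed M)
    (hmin : ∀ U, F.StronglyClosed U → U ≤ M → U = ⊥ ∨ U = M) (hMc : Nat.card M = d)
    (hQ : Q ≤ S) (hQc : Nat.card Q = d) (hHQ : H ≤ Q) (hHM : H ≤ M) (hH : H ≠ ⊥) (hHne : H ≠ M)
    (hQM : Q ⊓ M ≤ H) :
    ∃ P : Subgroup Ω, P ⊓ M = ⊥ ∧ Q ⊓ P = ⊥ ∧ (∀ π ∈ P, ∀ m ∈ M, π * m = m * π) ∧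
      ∀ q ∈ Q, ∃ m ∈ M, ∃ π ∈ P, q = m * π := by
  obtain ⟨P, hP, hQP, hA⟩ := hw Q hQ hQc
  have : Finite M := finite_of_le hM.1
  have : Finite Q := finite_of_le hQ
  have hAM : Q ⊓ P ⊓ M = ⊥ := (hmin _ (sc_inf hA hM) inf_le_right).resolve_right fun h =>
    hHne (le_antisymm hHM ((h.ge.trans (inf_le_inf_right _ inf_le_left)).trans hQM))
  have hPM : P ⊓ M = ⊥ := (hmin _ (sc_inf hP hM) inf_le_right).resolve_right fun h =>
    hH (le_bot_iff.1 (hAM ▸ le_inf (le_inf hHQ (hHM.trans (h.ge.trans inf_le_left))) hHM))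
  have hMQP : M ≤ Q ⊔ P := by
    refine inf_eq_right.1 ((hmin _ (sc_inf hQP hM) inf_le_right).resolve_left fun h => hH ?_)
    exact le_bot_iff.1 (h ▸ le_inf (hHQ.trans le_sup_left) hHM)
  have hPn := le_normalizer_of_stronglyClosed hP
  have hex : ∀ m : M, ∃ q : Q, (q : Ω)⁻¹ * m ∈ P := fun m => by
    obtain ⟨q, hq, π, hπ, he⟩ := Factor.coe_sup_of_normal hPn hQ (hMQP m.2)
    exact ⟨⟨q, hq⟩, by rw [← he]; simpa using hπ⟩
  choose g hg using hex
  have hinj : Function.Injective g := fun m m' h => by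
    have h1 := P.mul_mem (P.inv_mem (hg m)) (h ▸ hg m')
    have h2 : (m : Ω)⁻¹ * m' ∈ P := by simpa [mul_assoc] using h1
    have h3 : (m : Ω)⁻¹ * m' ∈ (⊥ : Subgroup Ω) :=
      hPM ▸ ⟨h2, M.mul_mem (M.inv_mem m.2) m'.2⟩
    exact Subtype.ext (inv_mul_eq_one.1 (Subgroup.mem_bot.1 h3))
  have hbij := (Nat.bijective_iff_injective_and_card g).2 ⟨hinj, hMc.trans hQc.symm⟩
  have hQPb : Q ⊓ P = ⊥ := by
    have hone : ∀ a ∈ Q ⊓ P, a = g 1 := fun a ha => by
      obtain ⟨m, hm⟩ := hbij.2 ⟨a, ha.1⟩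
      have h1 := hg m
      rw [hm] at h1
      have h2 : (m : Ω) ∈ P := by simpa using P.mul_mem ha.2 h1
      have h3 : (m : Ω) ∈ (⊥ : Subgroup Ω) := hPM ▸ ⟨h2, m.2⟩
      rw [show m = 1 from Subtype.ext (Subgroup.mem_bot.1 h3)] at hm
      exact (congrArg Subtype.val hm).symm
    exact le_bot_iff.1 fun a ha => Subgroup.mem_bot.2 ((hone a ha).trans (hone 1 (one_mem _)).symm)
  refine ⟨P, hPM, hQPb, fun π hπ m hm => ?_, fun q hq => ?_⟩
  · have h3 : π * m * π⁻¹ * m⁻¹ ∈ (⊥ : Subgroup Ω) := hPM ▸ ⟨by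
      have := P.mul_mem hπ (conj_of_sc hP _ (hM.1 hm) _ (P.inv_mem hπ))
      simpa [mul_assoc] using this,
      M.mul_mem (conj_of_sc hM _ (hP.1 hπ) _ hm) (M.inv_mem hm)⟩
    exact mul_inv_eq_iff_eq_mul.1 (mul_inv_eq_one.1 (Subgroup.mem_bot.1 h3))
  · obtain ⟨m, hm⟩ := hbij.2 ⟨q, hq⟩
    have h1 := hg m
    rw [hm] at h1
    exact ⟨m, m.2, _, P.inv_mem h1, by group⟩

/-- A minimal strongly closed subgroup of the critical order is abelian. -/
theorem abelian_of_card (hS : IsPGroup p S) {M : Subgroup Ω} {k : ℕ} (hw : Weak F (p ^ k))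
    (hM : F.StronglyClosed M) (hmin : ∀ U, F.StronglyClosed U → U ≤ M → U = ⊥ ∨ U = M)
    (hMc : Nat.card M = p ^ k) (hlt : p ^ k < Nat.card S) :
    ∀ a ∈ M, ∀ b ∈ M, a * b = b * a := by
  by_contra hna
  have hfinM : Finite M := finite_of_le hM.1
  have hp := (Fact.out : p.Prime)
  obtain ⟨j, rfl⟩ : ∃ j, k = j + 2 := by
    rcases k with _ | _ | j
    · exact absurd (fun a ha b hb => by
        rw [pow_zero] at hMc
        have := Subgroup.eq_bot_of_card_eq M hMc
        subst this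
        rw [Subgroup.mem_bot.1 ha, Subgroup.mem_bot.1 hb]) hna
    · have : IsCyclic M := isCyclic_of_prime_card (p := p) (by simpa using hMc)
      exact absurd (fun a ha b hb =>
        congrArg Subtype.val (IsCyclic.commGroup.mul_comm (⟨a, ha⟩ : M) ⟨b, hb⟩)) hna
    · exact ⟨j, rfl⟩
  have hMn := conj_of_sc hM
  -- an element outside `M` with `p`-th power in `M`
  obtain ⟨M₁, hMM, hMS, -, hM'c⟩ := between hS (le_refl M |>.trans hM.1) le_rfl hMn
    (fun a ha x hx => S.mul_mem (S.mul_mem ha hx) (S.inv_mem ha)) (k := j + 3)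
    (by rw [hMc]; exact Nat.pow_le_pow_right hp.pos (by omega)) (by
      obtain ⟨n, hn⟩ := IsPGroup.iff_card.1 hS
      rw [hn] at hlt ⊢
      exact Nat.pow_le_pow_right hp.pos (by
        have := (Nat.pow_lt_pow_iff_right hp.one_lt).1 hlt; omega))
  have hfin1 : Finite M₁ := finite_of_le hMS
  have hMp : IsPGroup p M := hS.to_le hM.1
  have : Group.IsNilpotent M := hMp.isNilpotent
  obtain ⟨x, hx, hxM⟩ : ∃ x ∈ M₁, x ∉ M := by
    by_contra hc
    push Not at hc
    have h1 := card_le_card (show M₁ ≤ M from hc)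
    rw [hM'c, hMc] at h1
    exact absurd ((Nat.pow_le_pow_iff_right hp.one_lt).1 h1) (by omega)
  have hMn1 : (M.subgroupOf M₁).Normal := ⟨fun y hy g => hMn g (hMS g.2) y hy⟩
  have hxp : x ^ p ∈ M := by
    have hidx : (M.subgroupOf M₁).index = p := by
      have h1 := Subgroup.card_mul_index (M.subgroupOf M₁)
      rw [Nat.card_congr (Subgroup.subgroupOfEquivOfLe hMM).toEquiv, hMc, hM'c, pow_succ p (j + 2)]
        at h1
      exact mul_left_cancel₀ (pow_ne_zero _ hp.ne_zero) h1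
    have h2 := Subgroup.pow_index_mem (M.subgroupOf M₁) ⟨x, hx⟩
    rw [hidx] at h2
    exact h2
  have hxS : x ∈ S := hMS hx
  set Φ := (frattini M).map M.subtype with hΦ
  set y : M := ⟨x ^ p, hxp⟩
  set K := Φ ⊔ Subgroup.zpowers (x ^ p) with hK
  have hKM : K ≤ M := sup_le (Subgroup.map_subtype_le _) (Subgroup.zpowers_le.2 hxp)
  have hKne : K ≠ M := fun h => by
    have h1 : frattini M ⊔ Subgroup.zpowers y = ⊤ := by
      refine Subgroup.map_injective M.subtype_injective ?_
      rw [Subgroup.map_sup, MonoidHom.map_zpowers, ← MonoidHom.range_eq_map, Subgroup.range_subtype]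
      exact h
    have h2 : Subgroup.zpowers y = ⊤ := frattini_nongenerating (by rwa [sup_comm] at h1)
    refine hna fun a ha b hb => ?_
    have : IsCyclic M := ⟨⟨y, fun z => Subgroup.mem_zpowers_iff.1 (h2 ▸ Subgroup.mem_top z)⟩⟩
    exact congrArg Subtype.val (IsCyclic.commGroup.mul_comm (⟨a, ha⟩ : M) ⟨b, hb⟩)
  have hKn : ∀ a ∈ M₁, ∀ z ∈ K, a * z * a⁻¹ ∈ K := by
    intro a ha
    have hle : M₁ ≤ Subgroup.normalizer (K : Set Ω) := by
      have hgen : M ⊔ Subgroup.zpowers x = M₁ := by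
        have hc := (card_adjoin hS hM.1 hxS (fun h hh => hMn x hxS h hh) hxM hxp).1
        have : Finite (M₁ : Subgroup Ω) := hfin1
        refine eq_of_le_card (sup_le hMM (Subgroup.zpowers_le.2 hx)) ?_
        rw [hc, hM'c, hMc, pow_succ' p (j + 2)]
      rw [← hgen]
      have : Finite K := finite_of_le (hKM.trans hM.1)
      have hΦchar : ∀ g ∈ S, ∀ z ∈ Φ, g * z * g⁻¹ ∈ Φ := fun g hg z hz => by
        have h1 := img_cj_eq_of_mem_normalizer (g := g) (P := M)
          (le_normalizer_of_stronglyClosed hM hg)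
        have hm : IsMap F M (cj g) := isMap_cj hM.1 hg
        have h2 := char_img_eq (F := F) (U := Φ) (Q := M) (Subgroup.map_subtype_le _) (by
          rw [hΦ, Subgroup.subgroupOf, Subgroup.comap_map_eq_self_of_injective M.subtype_injective]
          infer_instance) hm h1
        exact h2.le (mem_img_self (cj g) hz)
      refine sup_le (fun m hm => mem_normalizer_of_forall fun z hz => ?_)
        (Subgroup.zpowers_le.2 (mem_normalizer_of_forall fun z hz => ?_))
      · have h1 : (⟨m, hm⟩ : M) * ⟨z, hKM hz⟩ * (⟨m, hm⟩ : M)⁻¹ * (⟨z, hKM hz⟩ : M)⁻¹ ∈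
            frattini M :=
          Cfsg.Agent.Coprime.commutator_le_frattini M
            (Subgroup.commutator_mem_commutator (Subgroup.mem_top _) (Subgroup.mem_top _))
        have h2 := K.mul_mem (Subgroup.mem_sup_left (T := Subgroup.zpowers (x ^ p))
          (show m * z * m⁻¹ * z⁻¹ ∈ Φ from ⟨_, h1, rfl⟩)) hz
        simpa [mul_assoc] using h2
      · have hKle : K ≤ K.comap (MulAut.conj x).toMonoidHom := by
          refine sup_le (fun w hw => ?_) (Subgroup.zpowers_le.2 ?_)
          · exact Subgroup.mem_sup_left (hΦchar x hxS w hw)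
          · show x * x ^ p * x⁻¹ ∈ K
            rw [show x * x ^ p * x⁻¹ = x ^ p by group]
            exact Subgroup.mem_sup_right (Subgroup.mem_zpowers _)
        exact hKle hz
    exact fun z hz => (Subgroup.mem_normalizer_iff.1 (hle ha) z).1 hz
  have hcardlt : ∀ X : Subgroup Ω, X ≤ M → X ≠ M → Nat.card X ≤ p ^ (j + 1) := fun X hX hne => by
    have : Finite X := finite_of_le hX
    obtain ⟨i, hi⟩ := IsPGroup.iff_card.1 (hMp.to_le hX)
    have h1 : Nat.card X < Nat.card M := card_lt_card (lt_of_le_of_ne hX hne)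
    rw [hi, hMc] at h1
    rw [hi]
    exact Nat.pow_le_pow_right hp.pos (by
      have := (Nat.pow_lt_pow_iff_right hp.one_lt).1 h1; omega)
  have hHprop : ∀ H : Subgroup Ω, Nat.card H = p ^ (j + 1) → H ≠ ⊥ ∧ H ≠ M := fun H hH => by
    constructor
    · rintro rfl
      rw [Subgroup.card_bot] at hH
      exact absurd hH (Nat.one_lt_pow (Nat.succ_ne_zero j) hp.one_lt).ne
    · rintro rfl
      rw [hMc] at hH
      exact absurd (Nat.pow_right_injective hp.two_le hH) (by omega)
  -- first round: an element of order `p` outside `M` centralizing `M`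
  obtain ⟨H, hKH, hHM, hHn, hHc⟩ := between (hS.to_le hMS) hKM hMM hKn
    (fun a ha z hz => hMn a (hMS ha) z hz) (k := j + 1) (hcardlt K hKM hKne)
    (by rw [hMc]; exact Nat.pow_le_pow_right hp.pos (by omega))
  have hxH : x ^ p ∈ H := hKH (Subgroup.mem_sup_right (Subgroup.mem_zpowers _))
  obtain ⟨hQc, hQdec⟩ := card_adjoin hS (hHM.trans hM.1) hxS (fun h hh => hHn x hx h hh)
    (fun h => hxM (hHM h)) hxH
  have hQM : (H ⊔ Subgroup.zpowers x) ⊓ M ≤ H := meet hHM hxM hxp hQdec hxH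
  obtain ⟨P, hPM, -, hcen, hdec⟩ := split_of_ne hw hM hmin hMc
    (sup_le (hHM.trans hM.1) (Subgroup.zpowers_le.2 hxS)) (by rw [hQc, hHc, pow_succ' p (j + 1)])
    le_sup_left hHM (hHprop H hHc).1 (hHprop H hHc).2 hQM
  obtain ⟨m, hm, π, hπ, hxe⟩ := hdec x (Subgroup.mem_sup_right (Subgroup.mem_zpowers x))
  have hπM : π ∉ M := fun h => hxM (hxe ▸ M.mul_mem hm h)
  have hπS : π ∈ S := by
    have h1 : π = m⁻¹ * x := by rw [hxe]; group
    rw [h1]; exact S.mul_mem (S.inv_mem (hM.1 hm)) hxS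
  have hπp : π ^ p = 1 := by
    have h1 : x ^ p = m ^ p * π ^ p := by
      rw [hxe]; exact (show Commute m π from (hcen π hπ m hm).symm).mul_pow p
    have h2 : π ^ p ∈ (⊥ : Subgroup Ω) := by
      refine hPM ▸ ⟨P.pow_mem hπ p, ?_⟩
      have h3 := M.mul_mem (M.inv_mem (M.pow_mem hm p)) hxp
      rw [h1] at h3
      simpa using h3
    exact Subgroup.mem_bot.1 h2
  -- second round
  set Z := (frattini M ⊔ Subgroup.center M).map M.subtype with hZ
  have hZM : Z ≤ M := Subgroup.map_subtype_le _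
  have hZn : ∀ g ∈ S, ∀ z ∈ Z, g * z * g⁻¹ ∈ Z := fun g hg z hz => by
    have h2 := char_img_eq (F := F) (U := Z) (Q := M) hZM (by
      rw [hZ, Subgroup.subgroupOf, Subgroup.comap_map_eq_self_of_injective M.subtype_injective]
      exact sup_char) (isMap_cj hM.1 hg)
      (img_cj_eq_of_mem_normalizer (le_normalizer_of_stronglyClosed hM hg))
    exact h2.le (mem_img_self (cj g) hz)
  obtain ⟨H₂, hZH, hH₂M, hH₂n, hH₂c⟩ := between hS hZM hM.1 hZn hMn (k := j + 1)
    (hcardlt Z hZM (frattini_center_ne hS hM.1 hna))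
    (by rw [hMc]; exact Nat.pow_le_pow_right hp.pos (by omega))
  have hπH : π ^ p ∈ H₂ := hπp ▸ H₂.one_mem
  obtain ⟨hQc₂, hQdec₂⟩ := card_adjoin hS (hH₂M.trans hM.1) hπS (fun h hh => hH₂n π hπS h hh)
    (fun h => hπM (hH₂M h)) hπH
  have hQM₂ : (H₂ ⊔ Subgroup.zpowers π) ⊓ M ≤ H₂ :=
    meet hH₂M hπM (hπp ▸ M.one_mem) hQdec₂ hπH
  obtain ⟨P₂, -, hQP₂, hcen₂, hdec₂⟩ := split_of_ne hw hM hmin hMc
    (sup_le (hH₂M.trans hM.1) (Subgroup.zpowers_le.2 hπS))
    (by rw [hQc₂, hH₂c, pow_succ' p (j + 1)]) le_sup_left hH₂M (hHprop H₂ hH₂c).1 (hHprop H₂ hH₂c).2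
    hQM₂
  obtain ⟨m₂, hm₂, π₂, hπ₂, he₂⟩ := hdec₂ π (Subgroup.mem_sup_right (Subgroup.mem_zpowers π))
  have hm₂Z : m₂ ∈ H₂ := by
    refine hZH ⟨⟨m₂, hm₂⟩, Subgroup.mem_sup_right (Subgroup.mem_center_iff.2 fun z => ?_), rfl⟩
    refine Subtype.ext ?_
    show (z : Ω) * m₂ = m₂ * z
    have h1 := hcen π hπ z z.2
    rw [he₂, mul_assoc, hcen₂ π₂ hπ₂ z z.2, ← mul_assoc, ← mul_assoc] at h1
    exact (mul_right_cancel h1).symm
  have h2 : π₂ ∈ (⊥ : Subgroup Ω) := hQP₂ ▸ ⟨by
    have h3 := (H₂ ⊔ Subgroup.zpowers π).mul_mem (Subgroup.inv_mem _ (Subgroup.mem_sup_left hm₂Z))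
      (Subgroup.mem_sup_right (Subgroup.mem_zpowers π))
    nth_rewrite 2 [he₂] at h3
    simpa using h3, hπ₂⟩
  rw [Subgroup.mem_bot.1 h2, mul_one] at he₂
  exact hπM (he₂ ▸ hm₂)

/-- The maps of the ambient system are conjugations if they extend to a system normal there. -/
theorem inner_of_normal (hl : Loc F (Nat.card A)) (hA : F.IsNormal A) : Inner F := by
  intro P f hf
  have hN : normalizerIn S A = S := le_antisymm normalizerIn_le
    (le_inf le_rfl (le_normalizer_of_stronglyClosed (normal_stronglyClosed hA)))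
  have hfn : F.IsFullyNormalized A := ⟨hA.1, fun Q _ => by
    rw [hN]; exact card_le_card normalizerIn_le⟩
  obtain ⟨k, hk, hke, hkA⟩ := (isNormal_iff.1 hA).2 P f hf
  obtain ⟨n, hn, he⟩ := hl A hfn rfl P f k (hN.ge.trans' hf.le) (fun x hx => hN.ge (hf.mem hx))
    hk hke hkA
  exact ⟨n, hN.le hn, he⟩

/-- A central small hyperfocal subgroup forces all maps to be conjugations. -/
theorem inner_of_central (hS : IsPGroup p S) (hF : F.IsSaturated p) {k : ℕ}
    (hl : Loc F (p ^ k)) (hlt : p ^ k ≤ Nat.card S)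
    (hT : Nat.card (F.hyperfocalSubgroup p) ≤ p ^ k)
    (hz : ∀ x ∈ S, ∀ y ∈ F.hyperfocalSubgroup p, x * y = y * x) : Inner F := by
  set T := F.hyperfocalSubgroup p with hTdef
  have hTS : T ≤ S := Focal.hyp_le
  have hTn : ∀ a ∈ S, ∀ x ∈ T, a * x * a⁻¹ ∈ T := fun a ha x hx => Focal.conj_mem_hyp ha hx
  have hSn : ∀ a ∈ S, ∀ x ∈ S, a * x * a⁻¹ ∈ S := fun a ha x hx =>
    S.mul_mem (S.mul_mem ha hx) (S.inv_mem ha)
  obtain ⟨H, hTH, hHS, hHn, hHc⟩ := between hS hTS le_rfl hTn hSn hT hlt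
  obtain ⟨m, U, U0, Um, Umono, UT, US, Un, Ucomm⟩ := Cfsg.Agent.S5156.exists_chain hS hTS hTn
  have hnorm : F.IsNormal S := by
    refine normal_of_series hS hF (m + 1) (fun i => if i = 0 then ⊥ else U (i - 1)) (if_pos rfl)
      (by rw [if_neg (Nat.succ_ne_zero m), Nat.add_sub_cancel, Um]) ?_ ?_ ?_
    · intro i hi
      show (if i = 0 then ⊥ else U (i - 1)) ≤ if i + 1 = 0 then ⊥ else U (i + 1 - 1)
      rw [if_neg (Nat.succ_ne_zero i)]
      split_ifs
      · exact bot_le
      · exact Umono (by omega)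
    · intro i _
      show F.StronglyClosed (if i = 0 then ⊥ else U (i - 1))
      split_ifs
      · exact normal_stronglyClosed isNormal_bot
      · exact Cfsg.Agent.S5156.closed_of_ge_hyp hS hF (UT _) (US _) (Un _)
    · intro i hi x hx y hy
      show x * y * x⁻¹ * y⁻¹ ∈ if i = 0 then ⊥ else U (i - 1)
      change y ∈ if i + 1 = 0 then ⊥ else U (i + 1 - 1) at hy
      rw [if_neg (Nat.succ_ne_zero i), Nat.add_sub_cancel] at hy
      split_ifs with h
      · subst h
        rw [U0] at hy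
        rw [Subgroup.mem_bot, hz x hx y hy, mul_inv_cancel_right, mul_inv_cancel]
      · obtain ⟨j, rfl⟩ := Nat.exists_eq_succ_of_ne_zero h
        exact Ucomm j x hx y hy
  have hsc := Cfsg.Agent.S5156.closed_of_ge_hyp hS hF hTH hHS hHn
  have hN : normalizerIn S H = S := le_antisymm normalizerIn_le
    (le_inf le_rfl (le_normalizer_of_stronglyClosed hsc))
  have hfn : F.IsFullyNormalized H := ⟨hHS, fun Q _ => by
    rw [hN]; exact card_le_card normalizerIn_le⟩
  intro P f hf
  obtain ⟨g, hg, hge, -⟩ := (isNormal_iff.1 hnorm).2 P f hf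
  obtain ⟨n, hn, he⟩ := hl H hfn hHc P f g (hN.ge.trans' hf.le) (fun x hx => hN.ge (hf.mem hx))
    (hg.restrict (sup_le_sup_left hHS P)) hge
    (stronglyClosed_img hsc hg (hHS.trans le_sup_right))
  exact ⟨n, hN.le hn, he⟩

/-- Inner systems have trivial hyperfocal subgroup. -/
theorem hyp_bot (hS : IsPGroup p S) (h : Inner F) : F.hyperfocalSubgroup p = ⊥ := by
  refine le_bot_iff.1 (Hyperfocal.hyp_le_of fun P hP α hα x hx => ?_)
  obtain ⟨s, hs, he⟩ := h P _ (isMap_of_mem_autGroup hP α.2)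
  have hpow : ∀ n : ℕ, ∀ y ∈ P, autFun ((α : MulAut P) ^ n) y = s ^ n * y * (s ^ n)⁻¹ := by
    intro n
    induction n with
    | zero => intro y _; simp [autFun_one]
    | succ n ih =>
      intro y hy
      rw [pow_succ, autFun_mul, ih _ (autFun_mem _ hy), he y hy, pow_succ]
      group
  obtain ⟨j, hj⟩ := hS ⟨s, hs⟩
  have hj' : s ^ p ^ j = 1 := by simpa using congrArg Subtype.val hj
  have h1 : (α : MulAut P) ^ p ^ j = 1 := autFun_ext fun y hy => by
    rw [hpow _ y hy, hj', autFun_one]; simp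
  have h2 : α = 1 := by
    refine orderOf_eq_one_iff.1 (Nat.eq_one_of_dvd_coprimes (hα.pow_right j) dvd_rfl ?_)
    exact orderOf_dvd_of_pow_eq_one (Subtype.ext (by simpa using h1))
  rw [h2, Subgroup.coe_one, autFun_one]
  simp

/-- The order of a preimage. -/
theorem card_preimage {Ω' : Type v} [Group Ω'] {S' : Subgroup Ω'} {θ : S →* Ω'}
    {E : FusionSystem S'} {M : Subgroup Ω} (hq : Factor.IsQuot F M θ E) {X : Subgroup Ω'}
    (hX : X ≤ S') : Nat.card (preimageAlong θ X) = Nat.card M * Nat.card X := by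
  have hker : θ.ker = M.subgroupOf S := Subgroup.ext fun s => hq.ker_iff s
  have hle : θ.ker ≤ X.comap θ := MonoidHom.ker_le_comap _ _
  have h := Subgroup.relIndex_ker θ (K := X.comap θ)
  have h' := Subgroup.relIndex_mul_relIndex ⊥ θ.ker (X.comap θ) bot_le hle
  rw [Subgroup.relIndex_bot_left, Subgroup.relIndex_bot_left, h,
    Subgroup.map_comap_eq_self (hX.trans hq.range_eq.ge), hker,
    Nat.card_congr (Subgroup.subgroupOfEquivOfLe hq.closed.1).toEquiv] at h'
  rw [preimageAlong, Subgroup.card_map_of_injective S.subtype_injective, h']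

/-- The conditions pass to a factor system. -/
theorem quotient_step (hS : IsPGroup p S) (hF : F.IsSaturated p) {Ω' : Type v} [Group Ω']
    {S' : Subgroup Ω'} {θ : S →* Ω'} {E : FusionSystem S'} {M : Subgroup Ω}
    (hq : Factor.IsQuot F M θ E) {k i : ℕ} (hM : Nat.card M = p ^ i) (hik : i ≤ k)
    (hw : Weak F (p ^ k)) (hl : Loc F (p ^ k)) : Weak E (p ^ (k - i)) ∧ Loc E (p ^ (k - i)) := by
  have hfin := hq.finite
  have hpre : ∀ X : Subgroup Ω', X ≤ S' → Nat.card X = p ^ (k - i) →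
      Nat.card (preimageAlong θ X) = p ^ k := fun X hX hc => by
    rw [card_preimage hq hX, hM, hc, ← pow_add, Nat.add_sub_cancel' hik]
  have hMn := le_normalizer_of_stronglyClosed hq.closed
  constructor
  · intro Q' hQ' hc
    set Q := preimageAlong θ Q'
    have hQS : Q ≤ S := Factor.preimageAlong_le _
    have hMQ : M ≤ Q := hq.le_preimage Q'
    obtain ⟨P, hP, hQP, hA⟩ := hw Q hQS (hpre Q' hQ' hc)
    have hPM := Factor.stronglyClosed_sup hS hF hP hq.closed
    refine ⟨imageAlong θ (P ⊔ M), Solvable.image_stronglyClosed hq le_sup_right hPM, ?_, ?_⟩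
    · have h1 := Solvable.image_stronglyClosed hq le_sup_right
        (Factor.stronglyClosed_sup hS hF hQP hq.closed)
      rwa [sup_assoc, SolvableExt.imageAlong_sup θ hQS hPM.1,
        Factor.imageAlong_preimageAlong hq.range_eq hQ'] at h1
    · have h1 := Solvable.image_stronglyClosed hq (le_sup_right : M ≤ (Q ⊓ P) ⊔ M)
        (Factor.stronglyClosed_sup hS hF hA hq.closed)
      convert h1 using 1
      ext y
      rw [Subgroup.mem_inf, Factor.mem_imageAlong, Factor.mem_imageAlong]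
      constructor
      · rintro ⟨hyQ, x, hx, hxS, rfl⟩
        refine ⟨x, ?_, hxS, rfl⟩
        have hxQ : x ∈ Q := Factor.mem_preimageAlong.2 ⟨hxS, hyQ⟩
        obtain ⟨a, ha, t, ht, rfl⟩ := Factor.coe_sup_of_normal hMn hP.1 hx
        exact Subgroup.mul_mem_sup ⟨by simpa using Q.mul_mem hxQ (Q.inv_mem (hMQ ht)), ha⟩ ht
      · rintro ⟨x, hx, hxS, rfl⟩
        exact ⟨(Factor.mem_preimageAlong.1 ((sup_le inf_le_left hMQ) hx)).2,
          x, (sup_le_sup_right inf_le_right M) hx, hxS, rfl⟩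
  · intro H' hH' hc P' f' g' hP' hf' hg' hge hgH
    set H := preimageAlong θ H'
    have hHS : H ≤ S := Factor.preimageAlong_le _
    have hfinH : Finite H := finite_of_le hHS
    have hnorm : ∀ x ∈ S, along θ x ∈ normalizerIn S' H' → x ∈ normalizerIn S H := fun x hx h =>
      ⟨hx, mem_normalizer_of_forall fun z hz => by
        obtain ⟨hzS, hz'⟩ := Factor.mem_preimageAlong.1 hz
        refine Factor.mem_preimageAlong.2 ⟨S.mul_mem (S.mul_mem hx hzS) (S.inv_mem hx), ?_⟩
        rw [Factor.along_mul θ (S.mul_mem hx hzS) (S.inv_mem hx), Factor.along_mul θ hx hzS,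
          Factor.along_inv θ hx]
        exact (Subgroup.mem_normalizer_iff.1 h.2 _).1 hz'⟩
    have hfnH : F.IsFullyNormalized H := by
      refine ⟨hHS, fun R hR => ?_⟩
      obtain ⟨f, hf, rfl⟩ := isConj_iff_map.1 hR
      have hMR : M ≤ img f H :=
        (stronglyClosed_img hq.closed hf (hq.le_preimage H')).ge.trans (img_mono f (hq.le_preimage H'))
      obtain ⟨f₁, hf₁, hrel⟩ := hq.descend H' f hH'.1 hf
      have hfinN : Finite (normalizerIn S' (img f₁ H')) := finite_of_le normalizerIn_le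
      have h1 : normalizerIn S (img f H) ≤ preimageAlong θ (normalizerIn S' (img f₁ H')) := by
        intro x hx
        refine Factor.mem_preimageAlong.2 ⟨hx.1, Factor.along_mem hq.range_eq hx.1, ?_⟩
        have hfinI : Finite (img f₁ H') := finite_of_le hf₁.img_le_S
        refine mem_normalizer_of_forall fun y hy => ?_
        obtain ⟨z, hz, rfl⟩ := hf₁.mem_img.1 hy
        obtain ⟨u, hu, rfl⟩ := Factor.exists_along_eq hq.range_eq (hH'.1 hz)
        have huH : u ∈ H := Factor.mem_preimageAlong.2 ⟨hu, hz⟩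
        obtain ⟨w, hw', hwe⟩ := hf.mem_img.1
          ((Subgroup.mem_normalizer_iff.1 hx.2 _).1 (mem_img_self f huH))
        rw [hrel u huH, ← Factor.along_inv θ hx.1, ← Factor.along_mul θ hx.1 (hf.mem huH),
          ← Factor.along_mul θ (S.mul_mem hx.1 (hf.mem huH)) (S.inv_mem hx.1), ← hwe,
          ← hrel w hw']
        exact mem_img_self f₁ (Factor.mem_preimageAlong.1 hw').2
      have h2 : preimageAlong θ (normalizerIn S' H') ≤ normalizerIn S H := fun x hx =>
        hnorm x (Factor.mem_preimageAlong.1 hx).1 (Factor.mem_preimageAlong.1 hx).2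
      have hfin1 : Finite (preimageAlong θ (normalizerIn S' (img f₁ H'))) :=
        finite_of_le (Factor.preimageAlong_le _)
      have hfin2 : Finite (normalizerIn S H) := finite_of_le normalizerIn_le
      refine (card_le_card h1).trans (le_trans ?_ (card_le_card h2))
      rw [card_preimage hq normalizerIn_le, card_preimage hq normalizerIn_le]
      exact Nat.mul_le_mul le_rfl (hH'.2 _ hf₁.isConj)
    obtain ⟨f, hf, hrel⟩ := hq.lift _ _ hg'
    have hPS' : P' ≤ S' := hP'.trans normalizerIn_le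
    set P := preimageAlong θ P'
    have hsub : P ⊔ H ≤ preimageAlong θ (P' ⊔ H') :=
      sup_le (Subgroup.map_mono (Subgroup.comap_mono le_sup_left))
        (Subgroup.map_mono (Subgroup.comap_mono le_sup_right))
    have hf₂ := hf.restrict hsub
    have hfH : img f H = H := by
      refine eq_of_le_card (img_le fun x hx => ?_) (hf₂.restrict le_sup_right).card_img.ge
      refine Factor.mem_preimageAlong.2 ⟨hf₂.mem (Subgroup.mem_sup_right hx), ?_⟩
      rw [← hrel x (hsub (Subgroup.mem_sup_right hx))]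
      exact hgH.le (mem_img_self g' (Factor.mem_preimageAlong.1 hx).2)
    have hval : ∀ x ∈ P, f x ∈ normalizerIn S H := fun x hx => by
      refine hnorm _ (hf₂.mem (Subgroup.mem_sup_left hx)) ?_
      rw [← hrel x (hsub (Subgroup.mem_sup_left hx)), hge _ (Factor.mem_preimageAlong.1 hx).2]
      exact hf' _ (Factor.mem_preimageAlong.1 hx).2
    obtain ⟨n, hn, he⟩ := hl H hfnH (hpre H' hH'.1 hc) P f f
      (fun x hx => hnorm x (Factor.mem_preimageAlong.1 hx).1 (hP' (Factor.mem_preimageAlong.1 hx).2))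
      hval hf₂ (fun _ _ => rfl) hfH
    refine ⟨along θ n, ⟨Factor.along_mem hq.range_eq hn.1, ?_⟩, fun y hy => ?_⟩
    · have hfinH' : Finite H' := finite_of_le hH'.1
      refine mem_normalizer_of_forall fun z hz => ?_
      obtain ⟨u, hu, rfl⟩ := Factor.exists_along_eq hq.range_eq (hH'.1 hz)
      rw [← Factor.along_inv θ hn.1, ← Factor.along_mul θ hn.1 hu,
        ← Factor.along_mul θ (S.mul_mem hn.1 hu) (S.inv_mem hn.1)]
      exact (Factor.mem_preimageAlong.1 ((Subgroup.mem_normalizer_iff.1 hn.2 u).1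
        (Factor.mem_preimageAlong.2 ⟨hu, hz⟩))).2
    · obtain ⟨x, hx, rfl⟩ := Factor.exists_along_eq hq.range_eq (hPS' hy)
      have hxP : x ∈ P := Factor.mem_preimageAlong.2 ⟨hx, hy⟩
      rw [← hge _ hy, hrel x (hsub (Subgroup.mem_sup_left hxP)), he x hxP, ← Factor.along_inv θ hn.1,
        ← Factor.along_mul θ hn.1 hx, ← Factor.along_mul θ (S.mul_mem hn.1 hx) (S.inv_mem hn.1)]

/-- A nontrivial strongly closed subgroup contains a minimal one. -/
theorem exists_minimal_sc {U : Subgroup Ω} (hU : F.StronglyClosed U) (hU1 : U ≠ ⊥) :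
    ∃ M, F.StronglyClosed M ∧ M ≤ U ∧ M ≠ ⊥ ∧
      ∀ V, F.StronglyClosed V → V ≤ M → V = ⊥ ∨ V = M := by
  obtain ⟨M, hMU, ⟨hM, hM1⟩, hmin⟩ := Set.Finite.exists_le_minimal
    (s := {V : Subgroup Ω | F.StronglyClosed V ∧ V ≠ ⊥})
    ((finite_subgroups_le S).subset fun V hV => hV.1.1) (a := U) ⟨hU, hU1⟩
  exact ⟨M, hM, hMU, hM1, fun V hV hVM => or_iff_not_imp_left.2 fun h => le_antisymm hVM (hmin ⟨hV, h⟩ hVM)⟩

end Helpers

section Main

universe v

theorem inner_of_conditions {p : ℕ} [Fact p.Prime] : ∀ (n : ℕ) {Ω : Type v} [Group Ω]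
    {S : Subgroup Ω} [Finite S], IsPGroup p S → ∀ F : FusionSystem S, F.IsSaturated p →
      Nat.card S ≤ n → ∀ k : ℕ, 1 ≤ k → p ^ k < Nat.card S → Weak F (p ^ k) → Loc F (p ^ k) →
      Inner F := by
  intro n
  induction n with
  | zero =>
    intro Ω _ S _ _ F _ hn
    have : 0 < Nat.card S := Nat.card_pos
    omega
  | succ n ih =>
    intro Ω _ S _ hS F hF hn k hk hlt hw hl
    by_contra hni
    have hp := (Fact.out : p.Prime)
    set T := F.hyperfocalSubgroup p with hTdef
    have hT : F.StronglyClosed T := Focal.hyp_stronglyClosed hS hF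
    have hT0 : T ≠ ⊥ := fun h => hni (inner_of_central hS hF hl hlt.le
      (by rw [← hTdef, h, Subgroup.card_bot]; exact Nat.one_le_pow _ _ hp.pos)
      (by rw [← hTdef, h]; intro x _ y hy; rw [Subgroup.mem_bot.1 hy, mul_one, one_mul]))
    have hSn : ∀ a ∈ S, ∀ x ∈ S, a * x * a⁻¹ ∈ S := fun a ha x hx =>
      S.mul_mem (S.mul_mem ha hx) (S.inv_mem ha)
    have key : ∀ M, F.StronglyClosed M → M ≠ ⊥ →
        (∀ U, F.StronglyClosed U → U ≤ M → U = ⊥ ∨ U = M) → T ≤ M ∧ Nat.card M < p ^ k := by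
      intro M hM hM1 hmin
      have hfinM : Finite M := finite_of_le hM.1
      have hle : Nat.card M ≤ p ^ k := by
        by_contra hgt
        push Not at hgt
        obtain ⟨H, -, hHM, -, hHc⟩ := between hS bot_le hM.1
          (fun a _ x hx => by rw [Subgroup.mem_bot] at hx; subst hx; simp)
          (conj_of_sc hM) (k := k) (by rw [Subgroup.card_bot]; exact Nat.one_le_pow _ _ hp.pos) hgt.le
        have hHne : H ≠ M := fun h => by rw [h] at hHc; omega
        have hH1 : H ≠ ⊥ := fun h => by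
          rw [h, Subgroup.card_bot] at hHc
          exact absurd hHc (Nat.one_lt_pow (by omega) hp.one_lt).ne
        obtain ⟨P, hP, hHP, hA⟩ := hw H (hHM.trans hM.1) hHc
        have hA0 : H ⊓ P = ⊥ := (hmin _ hA (inf_le_left.trans hHM)).resolve_right fun h =>
          hHne (le_antisymm hHM (h.ge.trans inf_le_left))
        have hPM : P ⊓ M = ⊥ := (hmin _ (sc_inf hP hM) inf_le_right).resolve_right fun h =>
          hH1 (le_bot_iff.1 (hA0 ▸ le_inf le_rfl (hHM.trans (h.ge.trans inf_le_left))))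
        have hD : (H ⊔ P) ⊓ M = H := by
          refine le_antisymm (fun x hx => ?_) (le_inf le_sup_left hHM)
          obtain ⟨a, ha, π, hπ, rfl⟩ := Factor.coe_sup_of_normal
            (le_normalizer_of_stronglyClosed hP) (hHM.trans hM.1) hx.1
          have h1 : π ∈ (⊥ : Subgroup Ω) :=
            hPM ▸ ⟨hπ, by simpa using M.mul_mem (M.inv_mem (hHM ha)) hx.2⟩
          rw [Subgroup.mem_bot.1 h1, mul_one]
          exact ha
        rcases hmin _ (sc_inf hHP hM) inf_le_right with h | h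
        · exact hH1 (hD.symm.trans h)
        · exact hHne (hD.symm.trans h)
      rcases hle.lt_or_eq with hMlt | hMeq
      · refine ⟨?_, hMlt⟩
        obtain ⟨i, hi⟩ := IsPGroup.iff_card.1 (hS.to_le hM.1)
        have hik : i < k := (Nat.pow_lt_pow_iff_right hp.one_lt).1 (hi ▸ hMlt)
        have hn' : (M.subgroupOf S).Normal :=
          (Subgroup.normal_subgroupOf_iff_le_normalizer hM.1).2 (le_normalizer_of_stronglyClosed hM)
        obtain ⟨E, hE⟩ := FactorExists.exists_factorSystem (F := F) (θ := QuotientGroup.mk' (M.subgroupOf S))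
          hM (fun s => by rw [QuotientGroup.mk'_apply, QuotientGroup.eq_one_iff, Subgroup.mem_subgroupOf])
          (MonoidHom.range_eq_top.2 (QuotientGroup.mk'_surjective _))
        have hq := Factor.isQuot_of_factorSystem hM hE
        have hfinE := hq.finite
        obtain ⟨hw', hl'⟩ := quotient_step hS hF hq hi hik.le hw hl
        have hM2 : 2 ≤ Nat.card M := (Subgroup.one_lt_card_iff_ne_bot M).2 hM1
        have hcS : Nat.card S =
            Nat.card M * Nat.card (⊤ : Subgroup (S ⧸ M.subgroupOf S)) := by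
          have h := Subgroup.card_eq_card_quotient_mul_card_subgroup (M.subgroupOf S)
          rw [Nat.card_congr (Subgroup.subgroupOfEquivOfLe hM.1).toEquiv, mul_comm] at h
          rwa [Subgroup.card_top]
        have hltE : p ^ (k - i) < Nat.card (⊤ : Subgroup (S ⧸ M.subgroupOf S)) := by
          refine Nat.lt_of_mul_lt_mul_left (a := Nat.card M) ?_
          rw [← hcS, hi, ← pow_add, Nat.add_sub_cancel' hik.le]
          exact hlt
        have hnE : Nat.card (⊤ : Subgroup (S ⧸ M.subgroupOf S)) ≤ n := by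
          have h1 : 2 * Nat.card (⊤ : Subgroup (S ⧸ M.subgroupOf S)) ≤ Nat.card S :=
            hcS ▸ Nat.mul_le_mul hM2 le_rfl
          omega
        have hin := ih (hq.isPGroup hS) E (hq.saturated hS hF) hnE (k - i) (by omega) hltE hw' hl'
        have h2 := hyp_bot (hq.isPGroup hS) hin
        rw [Hyperfocal.hyp_quot hS hF hq] at h2
        intro x hx
        have h3 : along (QuotientGroup.mk' (M.subgroupOf S)) x ∈
            imageAlong (QuotientGroup.mk' (M.subgroupOf S)) T :=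
          Factor.mem_imageAlong.2 ⟨x, hx, hT.1 hx, rfl⟩
        rw [h2, Subgroup.mem_bot, Factor.along_of_mem _ (hT.1 hx)] at h3
        exact (hq.ker_iff _).1 h3
      · exfalso
        have hab := abelian_of_card hS hw hM hmin hMeq hlt
        refine hni (inner_of_normal (A := M) (hMeq.symm ▸ hl) (Solvable.normal_of_abelian hS hF hM ?_))
        intro x hx y hy
        rw [hab x hx y hy]
        group
    obtain ⟨M, hM, hMT, hM1, hmin⟩ := exists_minimal_sc hT hT0
    obtain ⟨hTM, hMlt⟩ := key M hM hM1 hmin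
    obtain rfl : M = T := le_antisymm hMT hTM
    have hall : ∀ U, F.StronglyClosed U → U ≠ ⊥ → T ≤ U := fun U hU hU1 => by
      obtain ⟨M', hM', hM'U, hM'1, hmin'⟩ := exists_minimal_sc hU hU1
      exact (key M' hM' hM'1 hmin').1.trans hM'U
    have hfinT : Finite T := finite_of_le hT.1
    have hnf : ¬ T ≤ (frattini S).map S.subtype := fun hTΦ => by
      have hΦ : ⁅S, S⁆ ≤ (frattini S).map S.subtype := by
        rw [← Subgroup.map_subtype_commutator]
        have : Group.IsNilpotent S := hS.isNilpotent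
        exact Subgroup.map_mono (Cfsg.Agent.Coprime.commutator_le_frattini S)
      have hfoc : F.focalSubgroup ≤ (frattini S).map S.subtype ⊔ ⁅S, S⁆ := by
        rw [Focal.focal_eq hS hF]
        exact sup_le (hTΦ.trans le_sup_left) le_sup_right
      have heq := TateFocal.eq_focal_of_frattini hS hF le_rfl Focal.commutator_le_focal hfoc
      have hFi := Tate.eq_inner_of_focal hS hF heq.le
      refine hni fun P f hf => ?_
      obtain ⟨-, g, hg, he⟩ := Subsystems.isMap_inner_iff.1 (hFi ▸ hf)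
      exact ⟨g, hg, he⟩
    obtain ⟨W, hWS, hTW, hWn, hWc⟩ : ∃ W : Subgroup Ω, W ≤ S ∧ ¬ T ≤ W ∧
        (∀ a ∈ S, ∀ x ∈ W, a * x * a⁻¹ ∈ W) ∧ p * Nat.card W = Nat.card S := by
      by_contra hc
      refine hnf fun x hx => ⟨⟨x, hT.1 hx⟩, ?_, rfl⟩
      show (⟨x, hT.1 hx⟩ : S) ∈ frattini S
      rw [frattini, Order.radical, Subgroup.mem_iInf]
      intro U
      rw [Subgroup.mem_iInf]
      intro hU
      by_contra hxU
      have : Group.IsNilpotent S := hS.isNilpotent
      have hUn := Subgroup.NormalizerCondition.normal_of_coatom U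
        Group.normalizerCondition_of_isNilpotent hU
      refine hc ⟨U.map S.subtype, Subgroup.map_subtype_le _, fun h => hxU ?_, ?_, ?_⟩
      · obtain ⟨u, hu, hue⟩ := h hx
        exact (Subtype.ext hue : u = ⟨x, hT.1 hx⟩) ▸ hu
      · rintro a ha _ ⟨u, hu, rfl⟩
        exact ⟨⟨a, ha⟩ * u * ⟨a, ha⟩⁻¹, hUn.conj_mem u hu _, rfl⟩
      · have hi : U.index = p := by
          have h1 := Cfsg.Agent.Solvable.Basics.index_prime_of_normal_coatom hU
          obtain ⟨j, hj⟩ := hS.index U
          exact (Nat.prime_dvd_prime_iff_eq h1 hp).1 (h1.dvd_of_dvd_pow hj.dvd)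
        rw [Subgroup.card_map_of_injective S.subtype_injective, ← hi, mul_comm,
          Subgroup.card_mul_index]
    have hfinW : Finite W := finite_of_le hWS
    by_cases hTW0 : T ⊓ W = ⊥
    · refine hni (inner_of_central hS hF hl hlt.le (by rw [← hTdef]; omega) fun x hx y hy => ?_)
      have hcomm : ∀ w ∈ W, ∀ t ∈ T, w * t = t * w := fun w hw' t ht => by
        have h3 : w * t * w⁻¹ * t⁻¹ ∈ (⊥ : Subgroup Ω) := hTW0 ▸
          ⟨T.mul_mem (conj_of_sc hT w (hWS hw') t ht) (T.inv_mem ht), by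
            have h4 := W.mul_mem hw' (hWn t (hT.1 ht) _ (W.inv_mem hw'))
            simpa [mul_assoc] using h4⟩
        exact mul_inv_eq_iff_eq_mul.1 (mul_inv_eq_one.1 (Subgroup.mem_bot.1 h3))
      have hWn' : S ≤ Subgroup.normalizer (W : Set Ω) := conjugates hWn
      have hxTW : x ∈ T ⊔ W := by
        have hfinTW : Finite (T ⊔ W : Subgroup Ω) := finite_of_le (sup_le hT.1 hWS)
        refine (eq_of_le_card (sup_le hT.1 hWS) ?_).ge hx
        have hlt' : W < T ⊔ W := lt_of_le_of_ne le_sup_right fun h => hTW (h ▸ le_sup_left)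
        obtain ⟨a, ha⟩ := IsPGroup.iff_card.1 (hS.to_le hWS)
        obtain ⟨b, hb⟩ := IsPGroup.iff_card.1 (hS.to_le (sup_le hT.1 hWS))
        have h1 := card_lt_card hlt'
        rw [ha, hb] at h1
        rw [← hWc, ha, hb, ← pow_succ']
        exact Nat.pow_le_pow_right hp.pos ((Nat.pow_lt_pow_iff_right hp.one_lt).1 h1)
      obtain ⟨t, ht, w, hw', rfl⟩ := Factor.coe_sup_of_normal hWn' hT.1 hxTW
      -- `T` is abelian, being generated by the image of a cyclic quotient
      have hTc : IsCyclic T := by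
        have hTp : Nat.card T = p := by
          have h1 : Nat.card T * Nat.card W ≤ Nat.card S := by
            rw [← Nat.card_prod]
            refine Nat.card_le_card_of_injective
              (fun z : T × W => (⟨z.1 * z.2, S.mul_mem (hT.1 z.1.2) (hWS z.2.2)⟩ : S)) ?_
            rintro ⟨a, b⟩ ⟨c, d⟩ h
            have h2 : (a : Ω) * b = c * d := congrArg Subtype.val h
            have h3 : (c : Ω)⁻¹ * a ∈ (⊥ : Subgroup Ω) := hTW0 ▸
              ⟨T.mul_mem (T.inv_mem c.2) a.2, by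
                rw [show (c : Ω)⁻¹ * a = d * (b : Ω)⁻¹ by
                  rw [eq_mul_inv_iff_mul_eq, mul_assoc, h2, inv_mul_cancel_left]]
                exact W.mul_mem d.2 (W.inv_mem b.2)⟩
            have h4 : (c : Ω) = a := inv_mul_eq_one.1 (Subgroup.mem_bot.1 h3)
            refine Prod.ext (Subtype.ext h4.symm) (Subtype.ext ?_)
            rw [h4] at h2
            exact mul_left_cancel h2
          have h5 : 0 < Nat.card W := Nat.card_pos
          have h6 : Nat.card T ≤ p := Nat.le_of_mul_le_mul_right (hWc ▸ h1) h5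
          obtain ⟨j, hj⟩ := IsPGroup.iff_card.1 (hS.to_le hT.1)
          have hj0 : j ≠ 0 := fun h => hM1 (Subgroup.eq_bot_of_card_eq _ (by rw [hj, h, pow_zero]))
          have hj1 : j ≤ 1 := (Nat.pow_le_pow_iff_right hp.one_lt).1 (by rw [pow_one, ← hj]; exact h6)
          rw [hj, show j = 1 by omega, pow_one]
        exact isCyclic_of_prime_card hTp
      rw [mul_assoc, hcomm w hw' y hy, ← mul_assoc, ← mul_assoc]
      congr 1
      exact congrArg Subtype.val (IsCyclic.commGroup.mul_comm (⟨t, ht⟩ : T) ⟨y, hy⟩)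
    · have hcTW : Nat.card (T ⊓ W : Subgroup Ω) ≤ p ^ k :=
        (card_le_card inf_le_left).trans hMlt.le
      have hcW : p ^ k ≤ Nat.card W := by
        obtain ⟨a, ha⟩ := IsPGroup.iff_card.1 (hS.to_le hWS)
        rw [← hWc, ha, ← pow_succ'] at hlt
        rw [ha]
        exact Nat.pow_le_pow_right hp.pos (by
          have := (Nat.pow_lt_pow_iff_right hp.one_lt).1 hlt; omega)
      obtain ⟨Q, hTQ, hQW, -, hQc⟩ := between hS inf_le_right hWS
        (fun a ha x hx => ⟨conj_of_sc hT a ha x hx.1, hWn a ha x hx.2⟩) hWn hcTW hcW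
      obtain ⟨P, hP, -, hA⟩ := hw Q (hQW.trans hWS) hQc
      by_cases hA0 : Q ⊓ P = ⊥
      · by_cases hP0 : P = ⊥
        · have hQsc : F.StronglyClosed Q := by
            obtain ⟨P', hP', hQP', hA'⟩ := hw Q (hQW.trans hWS) hQc
            subst hP0
            by_cases hQP : Q ⊓ P' = ⊥
            · rcases eq_or_ne P' ⊥ with rfl | hne
              · rwa [sup_bot_eq] at hQP'
              · exact absurd (le_bot_iff.1 (hQP ▸ le_inf hTQ (inf_le_left.trans (hall P' hP' hne)))) hTW0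
            · exact absurd ((hall _ hA' hQP).trans (inf_le_left.trans hQW)) hTW
          exact hTW ((hall Q hQsc fun h => by
            rw [h, Subgroup.card_bot] at hQc
            exact absurd hQc (Nat.one_lt_pow (by omega) hp.one_lt).ne).trans hQW)
        · exact hTW0 (le_bot_iff.1 (hA0 ▸ le_inf hTQ (inf_le_left.trans (hall P hP hP0))))
      · exact hTW ((hall _ hA hA0).trans (inf_le_left.trans hQW))

end Main

/-- A nilpotency criterion for fusion systems. Let F be a saturated fusion system over a finite p-group S of order at least p². Call a subgroup Q of S weakly embedded in F when there is a subgroup P of S strongly closed in F such that both the product QP and the intersection Q ∩ P are strongly closed in F. Then F is the inner fusion system of S if and only if there is a subgroup D of S with 1 < D < S such that every subgroup of S of the same order as D is weakly embedded in F and, for every fully normalized subgroup H of S of that order, the normalizer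 fusion system of H in F is the inner fusion system of N_S(H). -/
theorem result {Ω : Type*} [Group Ω] {S : Subgroup Ω} [Finite S] (p : ℕ) [Fact p.Prime] (hS : IsPGroup p ↥S) (F : Cfsg.FusionSystem S) (hF : F.IsSaturated p) (hcard : p ^ 2 ≤ Nat.card S) : (∀ P : Subgroup Ω, F.Hom P = (Cfsg.innerFusionSystem S).Hom P) ↔ ∃ D : Subgroup Ω, ⊥ < D ∧ D < S ∧ (∀ Q : Subgroup Ω, Q ≤ S → Nat.card ↥Q = Nat.card ↥D → ∃ P : Subgroup Ω, F.StronglyClosed P ∧ F.StronglyClosed (Q ⊔ P) ∧ F.StronglyClosed (Q ⊓ P)) ∧ (∀ H : Subgroup Ω, F.IsFullyNormalized H → Nat.card ↥H = Nat.card ↥D → ∀ N : Cfsg.FusionSystem (Cfsg.FusionSystem.normalizerIn S H), F.IsNormalizerSystem H N → ∀ P : Subgroup Ω, N.Hom P = (Cfsg.innerFusionSystem (Cfsg.FusionSystem.normalizerIn S H)).Hom P) := by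
  have hp := (Fact.out : p.Prime)
  constructor
  · intro hin
    have hSn : ∀ a ∈ S, ∀ x ∈ S, a * x * a⁻¹ ∈ S := fun a ha x hx =>
      S.mul_mem (S.mul_mem ha hx) (S.inv_mem ha)
    obtain ⟨n, hn⟩ := IsPGroup.iff_card.1 hS
    have h2 : 2 ≤ n := (Nat.pow_le_pow_iff_right hp.one_lt).1 (hn ▸ hcard)
    obtain ⟨D, -, hDS, -, hDc⟩ := between hS bot_le le_rfl
      (fun a _ x hx => by rw [Subgroup.mem_bot] at hx; subst hx; simp) hSn (k := n - 1)
      (by rw [Subgroup.card_bot]; exact Nat.one_le_pow _ _ hp.pos)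
      (by rw [hn]; exact Nat.pow_le_pow_right hp.pos (by omega))
    refine ⟨D, bot_lt_iff_ne_bot.2 fun h => ?_, lt_of_le_of_ne hDS fun h => ?_, fun Q hQ hQc => ?_,
      fun H hH hHc N hN P => ?_⟩
    · rw [h, Subgroup.card_bot] at hDc
      exact absurd hDc (Nat.one_lt_pow (by omega) hp.one_lt).ne
    · rw [h, hn] at hDc
      exact absurd (Nat.pow_right_injective hp.two_le hDc) (by omega)
    · have hQn : ∀ a ∈ S, ∀ x ∈ Q, a * x * a⁻¹ ∈ Q := by
        intro a ha x hx
        have hfinQ : Finite Q := finite_of_le hQ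
        have hidx : (Q.subgroupOf S).index = p := by
          have h1 := Subgroup.card_mul_index (Q.subgroupOf S)
          rw [Nat.card_congr (Subgroup.subgroupOfEquivOfLe hQ).toEquiv, hQc, hDc, hn] at h1
          refine mul_left_cancel₀ (pow_ne_zero (n - 1) hp.ne_zero) (h1.trans ?_)
          rw [← pow_succ]; congr 1; omega
        have hmin : (Q.subgroupOf S).Normal := Subgroup.normal_of_index_eq_minFac_card (by
          rw [hidx, hn, Nat.Prime.pow_minFac hp (by omega)])
        exact hmin.conj_mem ⟨x, hQ hx⟩ hx ⟨a, ha⟩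
      have hsc : F.StronglyClosed Q := ⟨hQ, fun R hR φ hφ x => by
        rw [hin R] at hφ
        obtain ⟨-, g, hg, he⟩ := hφ
        rw [he]
        exact hQn g hg _ (hR x.2)⟩
      exact ⟨Q, hsc, by rwa [sup_idem], by rwa [inf_idem]⟩
    · have hfinN : Finite (normalizerIn S H) := finite_of_le normalizerIn_le
      refine Set.Subset.antisymm (subset_of_isMap fun f hf => ?_)
        (subset_of_isMap fun f hf => ?_)
      · obtain ⟨hP, -, g, hg, hge, hgH⟩ := (NormalizerModel.isMap_iff hN).1 hf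
        obtain ⟨φ, hφ, hφe⟩ := hg
        rw [hin (P ⊔ H)] at hφ
        obtain ⟨-, c, hc, he⟩ := hφ
        have hval : ∀ x ∈ P ⊔ H, g x = c * x * c⁻¹ := fun x hx =>
          (hφe ⟨x, hx⟩).symm.trans (he ⟨x, hx⟩)
        have hfinH : Finite H := finite_of_le hH.1
        refine Subsystems.isMap_inner_iff.2 ⟨hP, c, ⟨hc, mem_normalizer_of_forall fun x hx => ?_⟩,
          fun x hx => by rw [← hge x hx, hval x (Subgroup.mem_sup_left hx), cj_apply]⟩
        rw [← hval x (Subgroup.mem_sup_right hx)]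
        exact hgH.le (mem_img_self g hx)
      · obtain ⟨hP, c, hc, he⟩ := Subsystems.isMap_inner_iff.1 hf
        refine (NormalizerModel.isMap_iff hN).2 ⟨hP, fun x hx => ?_, cj c,
          isMap_cj (sup_le (hP.trans normalizerIn_le) hH.1) hc.1, fun x hx => (he x hx).symm,
          img_cj_eq_of_mem_normalizer hc.2⟩
        rw [he x hx, cj_apply]
        exact (normalizerIn S H).mul_mem ((normalizerIn S H).mul_mem hc (hP hx))
          ((normalizerIn S H).inv_mem hc)
  · rintro ⟨D, hD0, hDS, hw, hN⟩ P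
    have hfinD : Finite D := finite_of_le hDS.le
    obtain ⟨k, hk⟩ := IsPGroup.iff_card.1 (hS.to_le hDS.le)
    have hk1 : 1 ≤ k := by
      rcases Nat.eq_zero_or_pos k with h | h
      · exact absurd (Subgroup.eq_bot_of_card_eq D (by rw [hk, h, pow_zero])) hD0.ne'
      · exact h
    have hl : Loc F (p ^ k) := by
      intro H hH hHc R f g hR hf hg hge hgH
      obtain ⟨N, hNs⟩ := KNormalizer.exists_normalizerSystem (F := F) hH.1
      have hm : IsMap N R f := (NormalizerModel.isMap_iff hNs).2 ⟨hR, hf, g, hg, hge, hgH⟩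
      obtain ⟨φ, hφ, hφe⟩ := hm
      rw [hN H hH (hHc.trans hk.symm) N hNs R] at hφ
      obtain ⟨-, c, hc, he⟩ := hφ
      exact ⟨c, hc, fun x hx => (hφe ⟨x, hx⟩).symm.trans (he ⟨x, hx⟩)⟩
    have hinner := inner_of_conditions (Nat.card S) hS F hF le_rfl k hk1 (hk ▸ card_lt_card hDS)
      (fun Q hQ hQc => hw Q hQ (hQc.trans hk.symm)) hl
    refine Set.Subset.antisymm (subset_of_isMap fun f hf => ?_)
      (subset_of_isMap fun f hf => isMap_mono (Subsystems.inner_le F) hf)
    obtain ⟨c, hc, he⟩ := hinner P f hf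
    exact Subsystems.isMap_inner_iff.2 ⟨hf.le, c, hc, he⟩

end Cfsg.Agent.S5271
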