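import Cfsg.Statements.S5276
import Cfsg.Agent.Lib.Fusion.Tate

set_option autoImplicit false
open Cfsg

namespace Cfsg.Agent.S5276

open Cfsg.FusionSystem Cfsg.Agent.Fusion.Basic Cfsg.Agent.Fusion.Saturation Cfsg.Agent.Fusion.Focal Cfsg.Agent.Fusion.Tate

/-- Let p be a prime and F a saturated fusion system over a finite p-group S. Then F is the inner fusion system of S if and only if the normalizer fusion system of S itself in F is the inner fusion system (equivalently, Aut_F(S) is induced by S) and the Frattini subgroup Φ(S) is strongly closed in F. -/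
theorem result {Ω : Type*} [Group Ω] {S : Subgroup Ω} [Finite S] (p : ℕ) [Fact p.Prime] (hS : IsPGroup p ↥S) (F : Cfsg.FusionSystem S) (hF : F.IsSaturated p) : (∀ P : Subgroup Ω, F.Hom P = (Cfsg.innerFusionSystem S).Hom P) ↔ (∀ N : Cfsg.FusionSystem (Cfsg.FusionSystem.normalizerIn S S), F.IsNormalizerSystem S N → ∀ P : Subgroup Ω, N.Hom P = (Cfsg.innerFusionSystem (Cfsg.FusionSystem.normalizerIn S S)).Hom P) ∧ F.StronglyClosed ((frattini ↥S).map S.subtype) := by
  have hNS : Cfsg.FusionSystem.normalizerIn S S = S :=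
    le_antisymm normalizerIn_le (le_normalizerIn le_rfl)
  have hFr : ⁅S, S⁆ ≤ (frattini ↥S).map S.subtype := by
    have : Group.IsNilpotent ↥S := hS.isNilpotent
    rw [← Subgroup.map_subtype_commutator]
    exact Subgroup.map_mono (Cfsg.Agent.Coprime.commutator_le_frattini _)
  constructor
  · intro h
    refine ⟨fun N hN P => Set.Subset.antisymm (fun φ hφ => ?_) ?_,
      Subgroup.map_subtype_le _, fun R hR φ hφ x => ?_⟩
    · rw [inner_hom_congr hNS, ← h P]
      rw [hN P] at hφ
      exact hφ.1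
    · exact Cfsg.Agent.Fusion.Subsystems.inner_le N P
    · rw [h R] at hφ
      obtain ⟨-, g, hg, he⟩ := hφ
      obtain ⟨y, hy, hyx⟩ := hR x.2
      rw [he x]
      refine ⟨(⟨g, hg⟩ : ↥S) * y * (⟨g, hg⟩ : ↥S)⁻¹,
        Subgroup.Normal.conj_mem inferInstance _ hy _, ?_⟩
      rw [← hyx]
      rfl
  · rintro ⟨h, hsc⟩ P
    rw [eq_inner_of_stronglyClosed hS hF (autGroup_le_inn h) hsc hFr le_rfl]

end Cfsg.Agent.S5276
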