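import Cfsg.Statements.S5277
import Cfsg.Agent.Lib.FpfFusion.Automizer
import Cfsg.Agent.Lib.FpfFusion.Main

set_option autoImplicit false
open Cfsg

namespace Cfsg.Agent.S5277

/-- Let p be an odd prime, F a saturated fusion system over a finite p-group S, and α an automorphism of S that fixes no non-identity element of S and preserves F (every map of F, transported along α, is again a map of F). Suppose the order of α is a prime r that does not divide the order of Aut_F(R) for any F-centric F-radical subgroup R of S. Then S is normal in F (F is the normalizer fusion system of S). -/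
theorem result {Ω : Type*} [Group Ω] {S : Subgroup Ω} [Finite S] (p : ℕ) [Fact p.Prime] (hS : IsPGroup p ↥S) (F : Cfsg.FusionSystem S) (hF : F.IsSaturated p) (hp : p ≠ 2) (α : ↥S ≃* ↥S) (hfix : ∀ x : ↥S, α x = x → x = 1) (hmor : F.IsMorphism F (S.subtype.comp α.toMonoidHom)) (r : ℕ) (hr : r.Prime) (hord : orderOf α = r) (hcr : ∀ R : Subgroup Ω, F.IsCentric R → F.IsRadical p R → ¬ r ∣ Nat.card ↥(F.autGroup R)) : F.IsNormal S := by
  open Cfsg.Agent.Fusion.Basic in
  refine FpfFusion.Hyp.normal_top (r := r) hp hr _ Ω S F α rfl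
    ⟨hS, hF, hord ▸ pow_orderOf_eq_one α, hfix, fun P f hf => ?_,
      fun P hP => FpfFusion.not_dvd_autGroup hS hF hr hcr P hP⟩
  have hPS := hf.le
  have halong : ∀ x ∈ S, Fusion.Factor.along (S.subtype.comp α.toMonoidHom) x =
      Fusion.Basic.autFun α x := fun x hx => by
    rw [Fusion.Factor.along_of_mem _ hx, Fusion.Basic.autFun_of_mem α hx]
    rfl
  obtain ⟨φ', hφ', hind⟩ := hmor.2 P hf.hom hf.hom_mem_self
  obtain ⟨-, hmem, -, he⟩ := (Fusion.Factor.inducedAlong_iff (f := f) (f' := Fusion.Basic.ext φ')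
    (fun _ => rfl) fun y => (Fusion.Basic.ext_apply φ' y).symm).1 hind
  have himg : Cfsg.FusionSystem.imageAlong (S.subtype.comp α.toMonoidHom) P =
      Fusion.Basic.img (Fusion.Basic.autFun α) P := by
    refine le_antisymm (fun y hy => ?_) (Fusion.Basic.img_le fun x hx =>
      Fusion.Factor.mem_imageAlong.2 ⟨x, hx, hPS hx, halong x (hPS hx)⟩)
    obtain ⟨x, hx, hxS, rfl⟩ := Fusion.Factor.mem_imageAlong.1 hy
    rw [halong x hxS]
    exact Fusion.Basic.mem_img_self _ hx
  refine ⟨Fusion.Basic.ext φ', himg ▸ Fusion.Basic.IsMap.of_hom hφ', fun x hx => ?_⟩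
  rw [← halong x (hPS hx), he x hx, halong _ (hmem x hx)]

end Cfsg.Agent.S5277
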