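import Cfsg.Statements.S5281
import Mathlib
import Cfsg.Agent.Lib.Fusion.Stable
import Cfsg.Agent.Lib.Fusion.NormalizerModel
import Cfsg.Agent.Lib.Fusion.PPrimeResidual
import Cfsg.Agent.Lib.Fusion.PSolvableModel
-- import your own Cfsg.Agent.* helpers here

set_option autoImplicit false
set_option linter.all false
open Cfsg

namespace Cfsg.Agent.S5281

open Cfsg Cfsg.FusionSystem Cfsg.Agent.Fusion Cfsg.Agent.Fusion.Basic Cfsg.Agent.Fusion.Saturation
  Cfsg.Agent.Fusion.Normal Cfsg.Agent.Fusion.Stable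

section Helpers

variable {Ω : Type*} [Group Ω] {S Q : Subgroup Ω} {p : ℕ} [Fact p.Prime] {F : FusionSystem S}

/-- The `p`-core of a subgroup of `Aut(Q)`, seen as automorphisms. -/
def coreOf (p : ℕ) (A : Subgroup (MulAut Q)) : Subgroup (MulAut Q) := (pCore p A).map A.subtype

/-- Quadratic elements pull back along a map. -/
theorem pull [Finite S] {f : Ω → Ω} (hf : IsMap F Q f) (A : Subgroup (MulAut Q))
    (B : Subgroup (MulAut (img f Q : Subgroup Ω)))
    (hAB : ∀ α ∈ A, ∃ β ∈ B, ∀ x ∈ Q, autFun β (f x) = f (autFun α x))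
    (hB : ∀ β ∈ B, Quad β → β ∈ coreOf p B) {χ : MulAut Q} (hχ : χ ∈ A) (hq : Quad χ) :
    χ ∈ coreOf p A := by
  have : Finite Q := finite_of_le hf.le
  choose g hgB hg using hAB
  have hext : ∀ {β β' : MulAut (img f Q : Subgroup Ω)},
      (∀ x ∈ Q, autFun β (f x) = autFun β' (f x)) → β = β' := fun {β β'} h =>
    autFun_ext fun y hy => by
      obtain ⟨x, hx, rfl⟩ := hf.mem_img.1 hy
      exact h x hx
  let θ : A →* B := MonoidHom.mk' (fun a => ⟨g a a.2, hgB a a.2⟩) fun a b =>
    Subtype.ext (hext fun x hx => by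
      show autFun (g _ (a * b).2) (f x) = autFun (g a a.2 * g b b.2) (f x)
      rw [autFun_mul, hg _ _ x hx, hg _ b.2 x hx, hg _ a.2 _ (autFun_mem _ hx), Subgroup.coe_mul,
        autFun_mul])
  have hθ : Function.Injective θ := fun a b h => Subtype.ext (autFun_ext fun x hx => by
    have h1 : g a a.2 = g b b.2 := congrArg Subtype.val h
    have h2 := hg a a.2 x hx
    rw [h1, hg b b.2 x hx] at h2
    exact (hf.inj (autFun_mem _ hx) (autFun_mem _ hx) h2).symm)
  have hqθ : Quad (g χ hχ) := by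
    rw [quad_iff] at hq ⊢
    intro y
    obtain ⟨x, hx, he⟩ := hf.mem_img.1 y.2
    have hw : x⁻¹ * autFun χ x ∈ Q := Q.mul_mem (Q.inv_mem hx) (autFun_mem _ hx)
    have h1 : (((y⁻¹ * g χ hχ y : (img f Q : Subgroup Ω))) : Ω) = f (x⁻¹ * autFun χ x) := by
      rw [Subgroup.coe_mul, Subgroup.coe_inv, ← autFun_apply, ← he, hg χ hχ x hx,
        hf.map_mul (Q.inv_mem hx) (autFun_mem _ hx), hf.map_inv hx]
    refine Subtype.ext ?_
    rw [← autFun_apply, h1, hg χ hχ _ hw]
    have h2 := congrArg Subtype.val (hq ⟨x, hx⟩)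
    rw [← autFun_apply, Subgroup.coe_mul, Subgroup.coe_inv, ← autFun_apply] at h2
    exact congrArg f h2
  obtain ⟨b, hb, hbe⟩ := hB _ (hgB χ hχ) hqθ
  have he : θ ⟨χ, hχ⟩ = b := Subtype.ext hbe.symm
  refine ⟨⟨χ, hχ⟩, PLocal.Cores.le_pCore (PLocal.Cores.isPGroup_pCore.comap_of_injective θ hθ)
    (show θ ⟨χ, hχ⟩ ∈ pCore p B by rw [he]; exact hb), rfl⟩

/-- Stability of a system at every subgroup. -/
def Stab (p : ℕ) {T : Subgroup Ω} (N : FusionSystem T) : Prop :=
  ∀ Q : Subgroup Ω, Q ≤ T → ∀ χ ∈ N.autGroup Q, Quad χ → χ ∈ coreOf p (N.autGroup Q)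

/-- Quadratic automorphisms extending to a subgroup conjugate to one with stable normalizer. -/
theorem transfer [Finite S] {X R : Subgroup Ω} (hXS : X ≤ S) {g : Ω → Ω}
    (hg : IsMap F (normalizerIn S X) g) (hgi : img g X = R)
    {N : FusionSystem (normalizerIn S R)} (hN : F.IsNormalizerSystem R N) (hst : Stab p N)
    (hQ : Q ≤ normalizerIn S X) (A : Subgroup (MulAut Q))
    (hA : ∀ α ∈ A, ∃ k, IsMap F (Q ⊔ X) k ∧ (∀ x ∈ Q, k x = autFun α x) ∧ img k X = X)
    {χ : MulAut Q} (hχ : χ ∈ A) (hq : Quad χ) : χ ∈ coreOf p A := by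
  have hXN : X ≤ normalizerIn S X := le_normalizerIn hXS
  have hgN : ∀ x ∈ normalizerIn S X, g x ∈ normalizerIn S R := fun x hx => ⟨hg.mem hx,
    hgi ▸ hg.mem_normalizer_img hXN hx hx.2⟩
  have hQX : Q ⊔ X ≤ normalizerIn S X := sup_le hQ hXN
  have hQR : img g Q ≤ normalizerIn S R := img_le fun x hx => hgN x (hQ hx)
  refine pull (hg.restrict hQ) A (N.autGroup (img g Q)) (fun α hα => ?_) (hst _ hQR) hχ hq
  obtain ⟨k, hk, hke, hkX⟩ := hA α hα
  have hkQ : img k Q = Q := by rw [img_congr hke, autFun_img]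
  have hkQX : img k (Q ⊔ X) = Q ⊔ X := by rw [hk.img_sup, hkQ, hkX]
  have hg' := hg.restrict hQX
  obtain ⟨gi, hgi', hgiimg, hgig, hggi⟩ := hg'.exists_inv
  have hin : ∀ x ∈ Q ⊔ X, k x ∈ Q ⊔ X := fun x hx => hkQX.le (mem_img_self k hx)
  have h1 := hg'.comp (hk.comp hgi' fun y hy => hgiimg.le (mem_img_self gi hy))
    fun y hy => hin _ (hgiimg.le (mem_img_self gi hy))
  rw [hg'.img_sup, hgi] at h1
  have hval : ∀ x ∈ Q, g (k (gi (g x))) = g (autFun α x) := fun x hx => by
    rw [hgig x (Subgroup.mem_sup_left hx), hke x hx]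
  have himg : img (fun y => g (k (gi y))) (img g Q) = img g Q := by
    rw [(hg.restrict hQ).img_img, img_congr hval, ← (isHomImg hQ α hg)]
  have hm : IsMap N (img g Q) (fun y => g (k (gi y))) := by
    refine (NormalizerModel.isMap_iff hN).2 ⟨hQR, fun y hy =>
      hQR (himg.le (mem_img_self _ hy)), _, h1, fun _ _ => rfl, ?_⟩
    subst hgi
    rw [(hg.restrict hXN).img_img, img_congr (g := fun x => g (k x)) fun x hx => by
      rw [hgig x (Subgroup.mem_sup_right hx)], ← (hk.restrict le_sup_right).img_img, hkX]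
  obtain ⟨β, hβ, hβe⟩ := hm.exists_aut himg
  exact ⟨β, hβ, fun x hx => (hβe _ (mem_img_self g hx)).trans (hval x hx)⟩
where
  isHomImg {T : Subgroup Ω} {g : Ω → Ω} (hQ : Q ≤ T) (α : MulAut Q) (hg : IsMap F T g) :
      img g Q = img (fun x => g (autFun α x)) Q := by
    refine le_antisymm (img_le fun x hx => ?_) (img_le fun x hx => mem_img_self g (autFun_mem _ hx))
    have h := mem_img_self (fun x => g (autFun α x)) (autFun_mem α⁻¹ hx)
    simpa only [autFun_apply_inv] using h

/-- A centric subgroup equal to the core of its normalizer system is radical. -/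
theorem radical_of_core [Finite S] (hS : IsPGroup p S) (hF : F.IsSaturated p) {X : Subgroup Ω}
    (hX : F.IsFullyNormalized X) (hXc : F.IsCentric X) {N : FusionSystem (normalizerIn S X)}
    (hN : F.IsNormalizerSystem X N) (hcore : N.core = X) : F.IsRadical p X := by
  have : Finite (normalizerIn S X) := finite_of_le normalizerIn_le
  have hNp : IsPGroup p (normalizerIn S X) := hS.to_le normalizerIn_le
  obtain ⟨G, _, ι, hm⟩ := Model.exists_model hNp (NormalizerModel.constrained hS hF hX hXc hN)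
  have hfin : Finite G := hm.1
  have hO := ModelUnique.model_pCore hNp hm
  have m := ModelUnique.model_mSetting hNp hm
  rw [hcore] at hO m
  refine ⟨hXc.1, ?_⟩
  rw [← NormalizerModel.autGroup_eq hN hXc.1]
  have hsurj := ModelUnique.actHom_surjective m
  have hmap : (pCore p G).map (ModelUnique.actHom m) = pCore p (N.autGroup X) := by
    refine le_antisymm ?_ fun a ha => ?_
    · have hn : ((pCore p G).map (ModelUnique.actHom m)).Normal :=
        (inferInstance : (pCore p G).Normal).map _ hsurj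
      exact PLocal.Cores.le_pCore (PLocal.Cores.isPGroup_pCore.map _)
    · obtain ⟨x, rfl⟩ := hsurj a
      refine ⟨x, PLocal.Cores.le_pCore ?_ (show x ∈ (pCore p (N.autGroup X)).comap _ from ha), rfl⟩
      refine PLocal.Cores.isPGroup_pCore.comap_of_ker_isPGroup _ ?_
      rintro ⟨y, hy⟩
      obtain ⟨z, rfl⟩ := ModelUnique.mem_ker_actHom m hy
      obtain ⟨k, hk⟩ := hNp (z : normalizerIn S X)
      exact ⟨k, Subtype.ext (by simp [← map_pow, hk])⟩
  rw [← hmap, hO]
  ext α
  rw [mem_inn_iff]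
  constructor
  · rintro ⟨_, ⟨_, ⟨x, hx, rfl⟩, rfl⟩, rfl⟩
    refine ⟨x, hx, fun u hu => ?_⟩
    rw [ModelUnique.actHom_iota]
    exact Model.cS_apply m.setting x hu
  · rintro ⟨x, hx, he⟩
    refine ⟨ModelUnique.actHom m (ι ⟨x, le_normalizerIn hXc.1 hx⟩),
      ⟨_, ⟨⟨x, le_normalizerIn hXc.1 hx⟩, hx, rfl⟩, rfl⟩, autFun_ext fun u hu => ?_⟩
    rw [he u hu, ModelUnique.actHom_iota]
    exact Model.cS_apply m.setting _ hu

/-- Stability at every fully normalized centric subgroup. -/
theorem stab_centric [Finite S] (hS : IsPGroup p S) (hF : F.IsSaturated p)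
    (h : ∀ R : Subgroup Ω, F.IsFullyNormalized R → F.IsCentric R → F.IsRadical p R →
      ∀ N : FusionSystem (normalizerIn S R), F.IsNormalizerSystem R N →
        ∀ Q : Subgroup Ω, N.IsFullyNormalized Q → ∀ χ : MulAut Q, χ ∈ N.autGroup Q → Quad χ →
          χ ∈ autCore p N Q) :
    ∀ (n : ℕ) (X : Subgroup Ω), Nat.card S - Nat.card X ≤ n → F.IsFullyNormalized X →
      F.IsCentric X → ∀ N : FusionSystem (normalizerIn S X), F.IsNormalizerSystem X N → Stab p N := by
  intro n
  induction n using Nat.strong_induction_on with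
  | _ n ih =>
  intro X hn hX hXc N hN
  have : Finite (normalizerIn S X) := finite_of_le normalizerIn_le
  by_cases hcore : N.core = X
  · intro Q hQ χ hχ hq
    exact stable_everywhere (h X hX hXc (radical_of_core hS hF hX hXc hN hcore) N hN) hQ hχ hq
  intro Q hQ χ hχ hq
  set R₀ := N.core with hR₀
  have hR₀n : N.IsNormal R₀ := core_isNormal
  have hXR : X < R₀ := lt_of_le_of_ne (le_core (NormalizerModel.isNormal hN hXc.1)) (Ne.symm hcore)
  have hR₀S : R₀ ≤ S := hR₀n.1.trans normalizerIn_le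
  obtain ⟨R, hR, hRn⟩ := exists_fullyNormalized (F := F) hR₀S
  obtain ⟨g, hg, hgi⟩ := exists_map_to_fullyNormalized hS hF hRn hR
  have hRc : F.IsCentric R := centric_conj (CentricExt.centric_mono hXc hXR.le hR₀S) hR
  obtain ⟨N', hN'⟩ := KNormalizer.exists_normalizerSystem (F := F) hRc.1
  have : Finite R₀ := finite_of_le hR₀S
  have : Finite X := finite_of_le hXc.1
  have hlt : Nat.card X < Nat.card R := by
    rw [isConj_card hR]; exact card_lt_card hXR
  have hle : Nat.card R ≤ Nat.card S := card_le_card hRc.1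
  refine transfer hR₀S hg hgi hN' (ih (Nat.card S - Nat.card R) (by omega) R le_rfl hRn hRc N' hN')
    (hQ.trans (le_inf normalizerIn_le
      (le_normalizer_of_stronglyClosed (normal_stronglyClosed hR₀n)))) _ (fun α hα => ?_) hχ hq
  obtain ⟨k, hk, hke, hkR⟩ := (isNormal_iff.1 hR₀n).2 Q _ (isMap_of_mem_autGroup hQ hα)
  exact ⟨k, NormalizerModel.isMap_le hN hk, hke, hkR⟩

end Helpers

/-- Let p be an odd prime and F a saturated fusion system over a finite p-group S. Call a fusion system E (over any subgroup) p-stable when, for every fully E-normalized subgroup Q and every χ in Aut_E(Q) with χ(a⁻¹)·a·χ(a⁻¹)·χ(χ(a)) = 1 for all a in Q (χ acts quadratically), χ lies in O_p(Aut_E(Q)). Then F is p-stable if and only if the normalizer fusion system of R in F is p-stable for every fully F-normalized, F-centric, F-radical subgroup R of S. -/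
theorem result {Ω : Type*} [Group Ω] {S : Subgroup Ω} [Finite S] (p : ℕ) [Fact p.Prime] (hS : IsPGroup p ↥S) (F : Cfsg.FusionSystem S) (hF : F.IsSaturated p) (hp : p ≠ 2) : (∀ Q : Subgroup Ω, F.IsFullyNormalized Q → ∀ χ : MulAut ↥Q, χ ∈ F.autGroup Q → (∀ a : ↥Q, (χ a⁻¹) * a * (χ a⁻¹) * (χ (χ a)) = 1) → χ ∈ ((Cfsg.pCore p ↥(F.autGroup Q)).map (F.autGroup Q).subtype : Subgroup (MulAut ↥Q))) ↔ ∀ R : Subgroup Ω, F.IsFullyNormalized R → F.IsCentric R → F.IsRadical p R → ∀ N : Cfsg.FusionSystem (Cfsg.FusionSystem.normalizerIn S R), F.IsNormalizerSystem R N → (∀ Q : Subgroup Ω, N.IsFullyNormalized Q → ∀ χ : MulAut ↥Q, χ ∈ N.autGroup Q → (∀ a : ↥Q, (χ a⁻¹) * a * (χ a⁻¹) * (χ (χ a)) = 1) → χ ∈ ((Cfsg.pCore p ↥(N.autGroup Q)).map (N.autGroup Q).subtype : Subgroup (MulAut ↥Q))) := by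
  constructor
  · intro h R hR _ _ N hN Q hQ χ hχ hq
    have hQS : Q ≤ S := hQ.1.trans normalizerIn_le
    have hle : N.autGroup Q ≤ F.autGroup Q := fun α hα =>
      (mem_autGroup_iff hQS).2 (NormalizerModel.isMap_le hN (isMap_of_mem_autGroup hQ.1 hα))
    obtain ⟨a, ha, he⟩ := stable_everywhere h hQS (hle hχ) hq
    have hai : a = Subgroup.inclusion hle ⟨χ, hχ⟩ := Subtype.ext he
    refine ⟨⟨χ, hχ⟩, PLocal.Cores.le_pCore (PLocal.Cores.isPGroup_pCore.comap_of_injective
      (Subgroup.inclusion hle) (Subgroup.inclusion_injective hle))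
      (show Subgroup.inclusion hle ⟨χ, hχ⟩ ∈ pCore p (F.autGroup Q) from hai ▸ ha), rfl⟩
  · intro h Q hQ χ hχ hq
    have hfc := fullyNormalized_fullyCentralized hS hF hQ
    set X := Q ⊔ centralizerIn S Q with hX
    have hXc : F.IsCentric X := PPrimeResidual.cen_centric hS hF hfc
    obtain ⟨R, hR, hRn⟩ := exists_fullyNormalized (F := F) hXc.1
    obtain ⟨g, hg, hgi⟩ := exists_map_to_fullyNormalized hS hF hRn hR
    have hRc : F.IsCentric R := centric_conj hXc hR
    obtain ⟨N, hN⟩ := KNormalizer.exists_normalizerSystem (F := F) hRc.1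
    refine transfer hXc.1 hg hgi hN (stab_centric hS hF h (Nat.card S - Nat.card R) R le_rfl hRn hRc
      N hN) (le_sup_left.trans (le_normalizerIn hXc.1)) (F.autGroup Q) (fun α hα => ?_) hχ hq
    have hm := isMap_of_mem_autGroup hQ.1 hα
    obtain ⟨k, hk, hke⟩ := exists_extension hS hF hm (by rw [autFun_img]; exact hfc)
    have hkX := hk.restrict (sup_le (le_nSub hm) centralizerIn_le_nSub)
    refine ⟨k, hkX.restrict (sup_le le_sup_left le_rfl), hke, ?_⟩
    have : Finite X := finite_of_le hXc.1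
    refine eq_of_le_card (img_le fun x hx => ?_) hkX.card_img.ge
    have h1 : img k X ≤ X := by
      rw [hkX.img_sup, img_congr hke, autFun_img]
      refine sup_le_sup_left ?_ _
      have h2 := hkX.img_centralizerIn_le (P := Q) le_sup_left le_sup_right
      rwa [img_congr hke, autFun_img] at h2
    exact h1 (mem_img_self k hx)

end Cfsg.Agent.S5281
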