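import Cfsg.Statements.S5287
import Cfsg.Agent.Lib.Fusion.SupersolubleAbelian
import Cfsg.Agent.Lib.Fusion.TwoExceptional
import Cfsg.Agent.Lib.Fusion.MetacyclicTop
import Cfsg.Agent.S5212
import Cfsg.Agent.S5234

set_option autoImplicit false
open Cfsg

namespace Cfsg.Agent.S5287

open Cfsg.Agent.Fusion Cfsg.Agent.Fusion.SupersolubleChain

theorem zpow_pow_eq_one {M : Type*} [Group M] {p : ℕ} (y : M) (k : ℤ) (hy : orderOf y = p) :
    (y ^ k) ^ p = 1 := by
  rw [← zpow_natCast, ← zpow_mul, mul_comm, zpow_mul, zpow_natCast, ← hy, pow_orderOf_eq_one,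
    one_zpow]

/-- A metacyclic abelian group with a factor `C × C` is `C × C`. -/
theorem trivial_factor {G : Type*} [CommGroup G] [Finite G] {p : ℕ} [Fact p.Prime]
    (hG : IsPGroup p G) (hm : Cfsg.IsMetacyclic G) {n : ℕ} (hn : 0 < n) {H : Type*} [CommGroup H]
    (e : G ≃* (Multiplicative (ZMod (p ^ n)) × Multiplicative (ZMod (p ^ n))) × H) :
    Subsingleton H := by
  have hp := (Fact.out : p.Prime)
  obtain ⟨N, hN, hNc, hQc⟩ := hm
  by_contra hH
  rw [not_subsingleton_iff_nontrivial] at hH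
  have hsurj : Function.Surjective ((MonoidHom.snd _ H).comp e.toMonoidHom) := fun h =>
    ⟨e.symm (1, h), by simp⟩
  have : Finite H := Finite.of_surjective _ hsurj
  have hHp : IsPGroup p H := hG.of_surjective _ hsurj
  obtain ⟨j, hj, hc⟩ := hHp.nontrivial_iff_card.1 hH
  obtain ⟨h, hh⟩ := exists_prime_orderOf_dvd_card' p (G := H) (hc ▸ dvd_pow_self p hj.ne')
  set A := Multiplicative (ZMod (p ^ n))
  have : NeZero (p ^ n) := ⟨pow_ne_zero _ hp.ne_zero⟩
  have hA : Nat.card A = p ^ n := Nat.card_zmod (p ^ n)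
  obtain ⟨g, hg⟩ := exists_prime_orderOf_dvd_card' p (G := A) (hA ▸ dvd_pow_self p hn.ne')
  let P : Subgroup ((A × A) × H) :=
    ((Subgroup.zpowers g).prod (Subgroup.zpowers g)).prod (Subgroup.zpowers h)
  have hcard : Nat.card (P.map e.symm.toMonoidHom) = p * p * p := by
    rw [Subgroup.card_map_of_injective e.symm.injective,
      Nat.card_congr (Subgroup.prodEquiv _ _).toEquiv, Nat.card_prod,
      Nat.card_congr (Subgroup.prodEquiv _ _).toEquiv, Nat.card_prod, Nat.card_zpowers,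
      Nat.card_zpowers, hg, hh]
  have hexp : ∀ x ∈ P.map e.symm.toMonoidHom, x ^ p = 1 := by
    rintro _ ⟨⟨⟨u, v⟩, w⟩, hx, rfl⟩
    obtain ⟨⟨hu, hv⟩, hw⟩ := hx
    obtain ⟨i, rfl⟩ := Subgroup.mem_zpowers_iff.1 hu
    obtain ⟨i', rfl⟩ := Subgroup.mem_zpowers_iff.1 hv
    obtain ⟨i'', rfl⟩ := Subgroup.mem_zpowers_iff.1 hw
    rw [← map_pow, Prod.pow_mk, Prod.pow_mk, zpow_pow_eq_one g i hg, zpow_pow_eq_one g i' hg,
      zpow_pow_eq_one h i'' hh]
    exact map_one _
  have h1 := Nat.le_of_dvd (Nat.mul_pos hp.pos hp.pos) (MetacyclicTwo.card_dvd_sq hNc hQc _ hexp)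
  rw [hcard] at h1
  have := hp.two_le
  have := Nat.mul_pos hp.pos hp.pos
  nlinarith

/-- The inner system of a metacyclic group has a chain. -/
theorem chain_inner {Ω : Type*} [Group Ω] {S : Subgroup Ω} (F : FusionSystem S)
    (hF : ∀ P : Subgroup Ω, F.Hom P = (Cfsg.innerFusionSystem S).Hom P)
    (hm : Cfsg.IsMetacyclic S) : HasChain F := by
  obtain ⟨N, hN, hNc, hQc⟩ := hm
  obtain ⟨a, ha⟩ := (Subgroup.isCyclic_iff_exists_zpowers_eq_top _).1 hNc
  obtain ⟨bq, hbq⟩ := IsCyclic.exists_generator (α := S ⧸ N)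
  obtain ⟨b, rfl⟩ := QuotientGroup.mk'_surjective N bq
  have hsc : ∀ K : Subgroup S, K.Normal → F.StronglyClosed (K.map S.subtype) := by
    intro K hK
    refine ⟨Subgroup.map_subtype_le K, fun R hR φ hφ x => ?_⟩
    rw [hF] at hφ
    obtain ⟨-, g, hg, hgx⟩ := hφ
    obtain ⟨z, hz, hzx⟩ := hR x.2
    refine ⟨⟨g, hg⟩ * z * (⟨g, hg⟩ : S)⁻¹, hK.conj_mem z hz _, ?_⟩
    rw [hgx, ← hzx]
    rfl
  refine ⟨2, ![⊥, N.map S.subtype, S], rfl, rfl, fun i => ?_, fun i => ?_⟩
  · fin_cases i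
    · exact Subgroup.map_bot S.subtype ▸ hsc ⊥ Subgroup.normal_bot
    · exact hsc N hN
    · have := hsc ⊤ inferInstance
      rwa [← MonoidHom.range_eq_map, Subgroup.range_subtype] at this
  · fin_cases i
    · refine ⟨bot_le, a, a.2, ?_⟩
      show N.map S.subtype = ⊥ ⊔ _
      rw [bot_sup_eq, ← ha, MonoidHom.map_zpowers]
      rfl
    · refine ⟨Subgroup.map_subtype_le N, b, b.2, ?_⟩
      show S = N.map S.subtype ⊔ _
      refine le_antisymm (fun x hx => ?_) (sup_le (Subgroup.map_subtype_le N)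
        (Subgroup.zpowers_le.2 b.2))
      obtain ⟨k, hk⟩ := Subgroup.mem_zpowers_iff.1 (hbq (QuotientGroup.mk' N ⟨x, hx⟩))
      have h1 : (⟨x, hx⟩ : S) * (b ^ k)⁻¹ ∈ N := (QuotientGroup.eq_one_iff _).1 (by
        show QuotientGroup.mk' N (⟨x, hx⟩ * (b ^ k)⁻¹) = 1
        rw [map_mul, map_inv, map_zpow, hk, mul_inv_cancel])
      have h2 : x = S.subtype (⟨x, hx⟩ * (b ^ k)⁻¹) * (b : Ω) ^ k := by
        show x = x * (((b ^ k : S) : Ω))⁻¹ * (b : Ω) ^ k
        rw [Subgroup.coe_zpow, inv_mul_cancel_right]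
      rw [h2]
      exact mul_mem (Subgroup.mem_sup_left (Subgroup.mem_map_of_mem _ h1))
        (Subgroup.mem_sup_right (Subgroup.zpow_mem _ (Subgroup.mem_zpowers _) k))

/-- Let S be a finite metacyclic p-group (an extension of a cyclic group by a cyclic group). Every saturated fusion system over S is supersoluble (S has a chain of F-strongly closed subgroups from 1 to S with cyclic steps) if and only if S is not homocyclic of rank two (isomorphic to Z/p^n × Z/p^n with n ≥ 1) and, when p = 2, S is not dihedral of order at least 4, not quasi-dihedral (semidihedral) and not generalized quaternion of order at least 8. -/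
theorem result {Ω : Type*} [Group Ω] {S : Subgroup Ω} [Finite S] (p : ℕ) [Fact p.Prime] (hS : IsPGroup p ↥S) (hm : Cfsg.IsMetacyclic ↥S) : (∀ F : Cfsg.FusionSystem S, F.IsSaturated p → (∃ (m : ℕ) (c : Fin (m + 1) → Subgroup Ω), c 0 = ⊥ ∧ c (Fin.last m) = S ∧ (∀ i : Fin (m + 1), F.StronglyClosed (c i)) ∧ ∀ i : Fin m, c i.castSucc ≤ c i.succ ∧ ∃ x ∈ S, c i.succ = c i.castSucc ⊔ Subgroup.zpowers x)) ↔ ¬ ((∃ n : ℕ, 0 < n ∧ Nonempty (↥S ≃* Multiplicative (ZMod (p ^ n)) × Multiplicative (ZMod (p ^ n)))) ∨ (p = 2 ∧ ((∃ n : ℕ, 2 ≤ n ∧ Nonempty (↥S ≃* DihedralGroup n)) ∨ Cfsg.IsQuasiDihedral ↥S ∨ (∃ n : ℕ, 2 ≤ n ∧ Nonempty (↥S ≃* QuaternionGroup n))))) := by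
  constructor
  · intro h hex
    rcases hex with ⟨n, hn, ⟨e⟩⟩ | ⟨rfl, hex⟩
    · obtain ⟨F, hF, hbad⟩ := SupersolubleAbelian.not_chain_of_factor (K := Unit) hS hn
        (e.trans MulEquiv.prodUnique.symm)
      exact hbad (h F hF)
    · rcases hex with ⟨n, hn, ⟨e⟩⟩ | hq | ⟨n, hn, ⟨e⟩⟩
      · obtain ⟨F, hF, hbad⟩ := TwoExceptional.dihedral_bad hS hn e
        exact hbad (h F hF)
      · obtain ⟨F, hF, hbad⟩ := TwoExceptional.quasiDihedral_bad hS hq
        exact hbad (h F hF)
      · obtain ⟨F, hF, hbad⟩ := TwoExceptional.quaternion_bad hS hn e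
        exact hbad (h F hF)
  · intro hnex F hF
    by_cases hab : ∀ a b : S, a * b = b * a
    · refine SupersolubleAbelian.chain_of_distinct hS hab ?_ F hF
      rintro ⟨n, H, inst, hn, ⟨e⟩⟩
      let instS : CommGroup S := { (inferInstance : Group S) with mul_comm := hab }
      have := trivial_factor (G := S) hS hm hn e
      have : Unique H := uniqueOfSubsingleton 1
      exact hnex (Or.inl ⟨n, hn, ⟨e.trans MulEquiv.prodUnique⟩⟩)
    by_cases hp : p = 2
    · subst hp
      have hh : ¬ ∃ n k : ℕ, Nonempty (S ≃* Multiplicative (Fin k → ZMod (2 ^ n))) := by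
        rintro ⟨n, k, ⟨e⟩⟩
        exact hab fun a b => e.injective (by rw [map_mul, map_mul, mul_comm])
      have hd : ¬ ∃ m : ℕ, Nonempty (S ≃* DihedralGroup m) := by
        rintro ⟨m, ⟨e⟩⟩
        rcases Nat.lt_or_ge m 2 with h1 | h1
        · interval_cases m
          · have := e.toEquiv.finite_iff.1 inferInstance
            have := Finite.of_injective (fun i : ZMod 0 => DihedralGroup.r i) fun i j h =>
              DihedralGroup.r.inj h
            exact Int.infinite.not_finite this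
          · have : IsCyclic S := isCyclic_of_prime_card (p := 2)
              (by rw [Nat.card_congr e.toEquiv, DihedralGroup.nat_card])
            exact hab this.isMulCommutative.is_comm.comm
        · exact hnex (Or.inr ⟨rfl, Or.inl ⟨m, h1, ⟨e⟩⟩⟩)
      have hq : ¬ ∃ m : ℕ, Nonempty (S ≃* QuaternionGroup m) := by
        rintro ⟨m, ⟨e⟩⟩
        rcases Nat.lt_or_ge m 2 with h1 | h1
        · interval_cases m
          · have := e.toEquiv.finite_iff.1 inferInstance
            have := Finite.of_injective (fun i : ZMod (2 * 0) => QuaternionGroup.a i) fun i j h =>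
              QuaternionGroup.a.inj h
            exact Int.infinite.not_finite this
          · refine hab (IsPGroup.isMulCommutative_of_card_eq_prime_sq (p := 2) (G := S) ?_).is_comm.comm
            rw [Nat.card_congr e.toEquiv, Nat.card_eq_fintype_card, QuaternionGroup.card]
            rfl
        · exact hnex (Or.inr ⟨rfl, Or.inr (Or.inr ⟨m, h1, ⟨e⟩⟩)⟩)
      have hsd : ¬ Cfsg.IsQuasiDihedral S := fun h => hnex (Or.inr ⟨rfl, Or.inr (Or.inl h)⟩)
      exact chain_inner F (Cfsg.Agent.S5212.result hS F hF hm hh hd hq hsd) hm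
    · exact chain_of_normal hS hF (Cfsg.Agent.S5234.result p hS F hF S
        (Solvable.stronglyClosed_self F) hp hm) fun H hH =>
        MetacyclicTop.auts_metacyclic hp hS hm hab H hH

end Cfsg.Agent.S5287
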