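import Cfsg.Statements.S5289
import Cfsg.Agent.Lib.Fusion.RankTwoResistant.Families
import Cfsg.Agent.S3888
import Cfsg.Agent.Lib.Fusion.Solvable
import Cfsg.Agent.S5234
-- import your own Cfsg.Agent.* helpers here

set_option autoImplicit false
open Cfsg

namespace Cfsg.Agent.S5289

open Cfsg.Agent.Fusion.RankTwoResistant

/-- In `⟨x, y⟩ ∘ ⟨z⟩` with `[y, x] ∈ ⟨z⟩`: commutators are powers of `z`, and the order is at most `|z| p²`. -/
theorem central_product {G : Type*} [Group G] [Finite G] {p : ℕ} [Fact p.Prime] {x y z : G}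
    (hgen : Subgroup.closure ({x, y, z} : Set G) = ⊤) (hx : x ^ p = 1) (hy : y ^ p = 1)
    (hxz : x * z = z * x) (hyz : y * z = z * y) {c : ℕ} (hyx : x⁻¹ * y * x = y * z ^ c) :
    (∀ g, z * g = g * z) ∧ (∀ a b : G, a⁻¹ * b * a * b⁻¹ ∈ Subgroup.zpowers z) ∧
      Nat.card G ≤ orderOf z * p ^ 2 := by
  have hzc : ∀ g, z * g = g * z := fun g => by
    refine commute_of_mem_closure ?_ (hgen.symm ▸ Subgroup.mem_top g)
    rintro a (rfl | rfl | rfl)
    exacts [hxz.symm, hyz.symm, Commute.refl _]
  set N := Subgroup.zpowers z with hN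
  haveI : N.Normal := ⟨fun q hq g => by
    obtain ⟨l, rfl⟩ := Subgroup.mem_zpowers_iff.1 hq
    rw [((show Commute z g from hzc g).zpow_left l).symm.eq, mul_inv_cancel_right]
    exact Subgroup.zpow_mem_zpowers z l⟩
  set π := QuotientGroup.mk' N with hπ
  have hπz : π z = 1 := (QuotientGroup.eq_one_iff z).2 (Subgroup.mem_zpowers z)
  have hclo : Subgroup.closure ({π x, π y, π z} : Set (G ⧸ N)) = ⊤ := by
    have := congrArg (Subgroup.map π) hgen
    rw [MonoidHom.map_closure, Subgroup.map_top_of_surjective π (QuotientGroup.mk'_surjective N),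
      Set.image_insert_eq, Set.image_insert_eq, Set.image_singleton] at this
    exact this
  have hxy : Commute (π x) (π y) := by
    have h1 := congrArg π hyx
    rw [map_mul, map_mul, map_mul, map_inv, map_pow, hπz, one_pow, mul_one, mul_assoc,
      inv_mul_eq_iff_eq_mul] at h1
    exact h1.symm
  have hgq : ∀ q, q ∈ Subgroup.closure ({π x, π y, π z} : Set (G ⧸ N)) := fun q =>
    hclo.symm ▸ Subgroup.mem_top q
  have hcomm : ∀ a b : G ⧸ N, Commute a b := fun a b => by
    refine commute_of_mem_closure ?_ (hgq b)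
    intro q hq
    refine (commute_of_mem_closure ?_ (hgq a)).symm
    rcases hq with rfl | rfl | rfl <;> rintro r (rfl | rfl | rfl) <;>
      first
      | exact Commute.refl _
      | exact hxy
      | exact hxy.symm
      | (rw [hπz]; exact Commute.one_right _)
      | (rw [hπz]; exact Commute.one_left _)
  refine ⟨hzc, fun a b => (QuotientGroup.eq_one_iff _).1 ?_, ?_⟩
  · show π (a⁻¹ * b * a * b⁻¹) = 1
    rw [map_mul, map_mul, map_mul, mul_assoc (π a⁻¹), (hcomm (π b) (π a)).eq, map_inv, map_inv,
      inv_mul_cancel_left, mul_inv_cancel]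
  · have hform : ∀ q : G ⧸ N, ∃ i j : ℤ, q = π x ^ i * π y ^ j := fun q => by
      induction hgq q using Subgroup.closure_induction with
      | mem r hr =>
        rcases hr with rfl | rfl | rfl
        exacts [⟨1, 0, by simp⟩, ⟨0, 1, by simp⟩, ⟨0, 0, by simp [hπz]⟩]
      | one => exact ⟨0, 0, by simp⟩
      | mul a b _ _ ha hb =>
        obtain ⟨i, j, rfl⟩ := ha
        obtain ⟨i', j', rfl⟩ := hb
        exact ⟨i + i', j + j', by rw [(hcomm _ _).mul_mul_mul_comm, zpow_add, zpow_add]⟩
      | inv a _ ha =>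
        obtain ⟨i, j, rfl⟩ := ha
        exact ⟨-i, -j, by rw [mul_inv_rev, (hcomm _ _).eq, zpow_neg, zpow_neg]⟩
    rw [Subgroup.card_eq_card_quotient_mul_card_subgroup N, Nat.card_zpowers, mul_comm]
    refine Nat.mul_le_mul_left _ ?_
    have h2 : ∀ {a : G}, a ^ p = 1 → Nat.card (Subgroup.zpowers (π a)) ≤ p := fun {a} ha => by
      rw [Nat.card_zpowers]
      exact Nat.le_of_dvd (Fact.out : p.Prime).pos
        (orderOf_dvd_of_pow_eq_one (by rw [← map_pow, ha, map_one]))
    rw [sq]
    refine le_trans ?_ (Nat.mul_le_mul (h2 hx) (h2 hy))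
    rw [← Nat.card_prod]
    refine Nat.card_le_card_of_surjective (fun a : Subgroup.zpowers (π x) × Subgroup.zpowers (π y) =>
      (a.1 : G ⧸ N) * a.2) fun q => ?_
    obtain ⟨i, j, rfl⟩ := hform q
    exact ⟨(⟨_, Subgroup.zpow_mem_zpowers _ i⟩, ⟨_, Subgroup.zpow_mem_zpowers _ j⟩), rfl⟩

/-- Let p ≥ 5 be a prime and S a finite p-group of p-rank two (it has an elementary abelian subgroup of order p² and none of order p³) which is not the extraspecial group of order p³ and exponent p. Then S is resistant: for every saturated fusion system F over S, S is normal in F, that is, every map of F extends to an F-automorphism of S. -/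
theorem result {Ω : Type*} [Group Ω] {S : Subgroup Ω} [Finite S] (p : ℕ) [Fact p.Prime] (hS : IsPGroup p S)
    (F : Cfsg.FusionSystem S) (hF : F.IsSaturated p)
    (hp : 5 ≤ p)
    (hrank2 : ∃ E : Subgroup Ω, E ≤ S ∧ Cfsg.IsElementaryAbelian p E ∧ Nat.card E = p ^ 2)
    (hrank3 : ∀ E : Subgroup Ω, E ≤ S → Cfsg.IsElementaryAbelian p E → Nat.card E ≤ p ^ 2)
    (hnotE : ¬ (Nat.card S = p ^ 3 ∧ Monoid.exponent ↥S = p)) : F.IsNormal S := by
  have hpr : p.Prime := Fact.out
  obtain ⟨n, hn⟩ := IsPGroup.iff_card.1 hS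
  have hrk : Cfsg.PRankLE p 2 S := by
    intro A hA hA1
    rw [← Subgroup.card_map_of_injective S.subtype_injective]
    refine hrank3 _ (Subgroup.map_subtype_le A) ⟨inferInstance, ?_⟩
    rintro _ ⟨a, ha, rfl⟩
    exact (map_pow S.subtype a p).symm.trans (by rw [hA1 a ha, map_one])
  rcases Cfsg.Agent.S3888.result (by omega) n hn hrk with
    hm | ⟨h3, x, y, z, hgen, hx, hy, hz, hxz, hyz, hyx⟩ |
    ⟨h4, s, x, y, z, hs, hgen, hx, hy, hz, hyz, hyx, hzx⟩ | ⟨h3, -⟩
  · exact Cfsg.Agent.S5234.result p hS F hF S (Cfsg.Agent.Fusion.Solvable.stronglyClosed_self F) (by omega) hm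
  · obtain ⟨hzc, hcm, hle⟩ := central_product hgen hx hy hxz hyz hyx
    rcases h3.lt_or_eq with h4 | h4
    · refine Cfsg.Agent.Fusion.Normal.normal_of_invariant hS hF fun P hP => ?_
      rcases hP with rfl | hP
      · exact ⟨le_rfl, fun α _ => Cfsg.Agent.Fusion.Basic.autFun_img α⟩
      · have h5 : p ^ (n - 2) ≤ orderOf z := by
          refine Nat.le_of_mul_le_mul_right ?_ (pow_pos hpr.pos 2)
          rwa [← pow_add, show n - 2 + 2 = n by omega, ← hn]
        obtain ⟨e, he, hoe⟩ := (Nat.dvd_prime_pow hpr).1 (orderOf_dvd_of_pow_eq_one hz)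
        rw [hoe, Nat.pow_le_pow_iff_right hpr.one_lt] at h5
        refine absurd hP (not_essential_C hS hF z.2 (fun a ha => ?_) ?_ ?_)
        · exact congrArg Subtype.val (hzc ⟨a, ha⟩)
        · rw [Subgroup.orderOf_coe, hoe]
          exact pow_dvd_pow p (by omega)
        · rwa [Subgroup.orderOf_coe]
    · -- extraspecial of exponent `p`
      subst h4
      have hzp : z ^ p = 1 := by simpa using hz
      have hall : ∀ g : S, g ^ p = 1 := fun g => by
        induction hgen.symm ▸ Subgroup.mem_top g using Subgroup.closure_induction with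
        | mem a ha => rcases ha with rfl | rfl | rfl <;> assumption
        | one => exact one_pow p
        | mul a b _ _ ha hb =>
          obtain ⟨l, hl⟩ := Subgroup.mem_zpowers_iff.1 (hcm a b)
          rw [Cfsg.Agent.GenA.RankTwo.mul_pow_of_central (e := z ^ l) (p := p) (by omega)
            ((show Commute z a from hzc a).zpow_left l) ((show Commute z b from hzc b).zpow_left l)
            (by rw [hl]; group) (by rw [← zpow_natCast, ← zpow_mul, mul_comm, zpow_mul, zpow_natCast,
              hzp, one_zpow]), ha, hb, one_mul]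
        | inv a _ ha => rw [inv_pow, ha, inv_one]
      exfalso
      refine hnotE ⟨hn, ?_⟩
      rcases (Nat.dvd_prime hpr).1 (Monoid.exponent_dvd_of_forall_pow_eq_one hall) with h | h
      · haveI : Subsingleton S := Monoid.exp_eq_one_iff.1 h
        rw [Nat.card_eq_one_iff_unique.2 ⟨inferInstance, inferInstance⟩] at hn
        exact absurd hn (Nat.one_lt_pow three_ne_zero hpr.one_lt).ne
      · exact h
  · obtain ⟨m, rfl⟩ : ∃ m, n = m + 2 := ⟨n - 2, by omega⟩
    simp only [Nat.add_sub_cancel, show m + 2 - 3 = m - 1 by omega] at hz hyx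
    let D : Data S p m :=
      { x := x, y := y, z := z, s := s, hm := by omega
        hgen := by
          have h := congrArg (Subgroup.map S.subtype) hgen
          rw [MonoidHom.map_closure, ← MonoidHom.range_eq_map, Subgroup.range_subtype,
            Set.image_insert_eq, Set.image_insert_eq, Set.image_singleton] at h
          exact h.symm
        hx := (map_pow S.subtype x p).symm.trans (by rw [hx, map_one])
        hy := (map_pow S.subtype y p).symm.trans (by rw [hy, map_one])
        hz := (map_pow S.subtype z _).symm.trans (by rw [hz, map_one])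
        hyz := congrArg Subtype.val hyz
        hyx := congrArg Subtype.val hyx
        hzx := congrArg Subtype.val hzx
        hs := fun h => by
          rcases hs with rfl | hs
          · exact hpr.one_lt.ne' (Nat.dvd_one.1 h)
          · exact hs (by rw [(CharP.cast_eq_zero_iff (ZMod p) p s).2 h]; exact IsSquare.zero)
        hcard := hn }
    refine Cfsg.Agent.Fusion.Normal.normal_of_invariant hS hF fun P hP => ?_
    rcases hP with rfl | hP
    · exact ⟨le_rfl, fun α _ => Cfsg.Agent.Fusion.Basic.autFun_img α⟩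
    · exact absurd hP (D.not_essential hS hF hp)
  · omega

end Cfsg.Agent.S5289
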