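import Cfsg.Statements.S5293
import Cfsg.Agent.Lib.Fusion.CentralizeNormal
import Cfsg.Agent.Lib.Fusion.Hyperfocal
set_option linter.all false
-- import your own Cfsg.Agent.* helpers here

set_option autoImplicit false
open Cfsg

namespace Cfsg.Agent.S5293

open Cfsg.Agent.Fusion.Basic Cfsg.Agent.Fusion.Saturation Cfsg.Agent.Fusion.Normal Cfsg.FusionSystem
  Cfsg.Agent.Fusion.CentralizeNormal

/-- Let F be a saturated fusion system over a finite p-group S, E a normal subsystem of F over T ≤ S, and C the join of the subgroups X ≤ C_S(T) such that E is contained in the centralizer system C_F(X). Then for the centralizer fusion system C_F(T) over C_S(T), the focal subgroup of C_F(T) is contained in C. -/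
theorem result {Ω : Type*} [Group Ω] {S : Subgroup Ω} [Finite S] (p : ℕ) [Fact p.Prime] (hS : IsPGroup p S)
    (F : Cfsg.FusionSystem S) (hF : F.IsSaturated p)
    {T : Subgroup Ω} (E : Cfsg.FusionSystem T) (hE : E.IsNormalIn F p)
    (C : Subgroup Ω)
    (hC : C = sSup {X : Subgroup Ω | X ≤ Cfsg.FusionSystem.centralizerIn S T ∧ ∀ P : Subgroup Ω, E.Hom P ⊆ F.centralizerHom X P})
    (D : Cfsg.FusionSystem (Cfsg.FusionSystem.centralizerIn S T)) (hD : F.IsCentralizerSystem T D) :
    D.focalSubgroup ≤ C := by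
  have hinv : E.IsInvariantIn F := hE.1.2.2
  have hT : F.StronglyClosed T := hinv.2.1
  have hSN : S ≤ Subgroup.normalizer (T : Set Ω) := le_normalizer_of_stronglyClosed hT
  have hfn : F.IsFullyNormalized T := ⟨hT.1, fun R _ => by
    have : Finite (normalizerIn S T) := finite_of_le normalizerIn_le
    exact card_le_card (fun x hx => ⟨hx.1, hSN hx.1⟩)⟩
  have hfc : Finite (centralizerIn S T) := finite_of_le centralizerIn_le
  have hDsat := Fusion.KNormalizer.centralizerSystem_saturated hS hF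
    (fullyNormalized_fullyCentralized hS hF hfn) hD
  have hmemC : ∀ y ∈ centralizerIn S T,
      (∀ R, R ≤ T → ∀ γ : MulAut R, Extends F (centralizerIn S T) R γ →
        Fixes F y R (autFun γ)) → y ∈ C := by
    intro y hy hfix
    have hall := fixes_of_normal hS hF hE hy hfix
    rw [hC]
    refine (le_sSup ?_ : Subgroup.zpowers y ≤ _) (Subgroup.mem_zpowers y)
    refine ⟨Subgroup.zpowers_le.2 hy, fun P φ hφ => ?_⟩
    have hPT : P ≤ T := (E.le_of_mem hφ).1
    have hc : ∀ a ∈ T, a ∈ Subgroup.centralizer (Subgroup.zpowers y : Set Ω) := fun a ha b hb => by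
      obtain ⟨n, rfl⟩ := Subgroup.mem_zpowers_iff.1 hb
      exact (Commute.zpow_right (show Commute a y from hy.2 a ha) n).symm
    obtain ⟨g, hg, hgP, hgy⟩ := hall P _ (IsMap.of_hom hφ)
    refine ⟨hinv.1 P hφ, fun x hx => ⟨hT.1 (hPT hx), hc x (hPT hx)⟩,
      fun x => ⟨hT.1 ((E.le_of_mem hφ).2 x), hc _ ((E.le_of_mem hφ).2 x)⟩,
      hg.hom, hg.hom_mem_self, fun x => ?_, fun x => ?_⟩
    · rw [IsMap.hom_apply, Subgroup.coe_inclusion, hgP x x.2, ext_apply]
    · obtain ⟨n, hn⟩ := Subgroup.mem_zpowers_iff.1 x.2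
      rw [IsMap.hom_apply, Subgroup.coe_inclusion, ← hn]
      have h2 := hg.restrict (le_sup_right : Subgroup.zpowers y ≤ P ⊔ Subgroup.zpowers y)
      have h3 : g (y ^ n) = g y ^ n := map_zpow h2.hom ⟨y, Subgroup.mem_zpowers y⟩ n
      rw [h3, hgy]
  have hcR : ∀ {R : Subgroup Ω}, R ≤ T →
      centralizerIn S T ≤ Subgroup.centralizer (R : Set Ω) :=
    fun hR => inf_le_right.trans (Subgroup.centralizer_le hR)
  rw [Fusion.Focal.focal_eq (hS.to_le centralizerIn_le) hDsat, sup_le_iff]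
  refine ⟨Fusion.Hyperfocal.hyp_le_of fun P hP α hα x hx => ?_, Subgroup.commutator_le.2
    fun a ha b hb => ?_⟩
  · have hφ : IsMap D P (autFun (α : MulAut P)) := isMap_of_mem_autGroup hP α.2
    have h1 := hφ.hom_mem_self
    rw [hD P] at h1
    obtain ⟨-, -, -, ψ, hψ, hψP, hψT⟩ := h1
    have hu := IsMap.of_hom hψ
    refine hmemC _ (mul_mem (Subgroup.inv_mem _ (hP hx)) (hP (autFun_mem _ hx))) fun R hR γ hγ => ?_
    have hle : R ⊔ P ≤ P ⊔ T := sup_le (hR.trans le_sup_right) le_sup_left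
    refine fixes_twist hS (hcR hR) hγ hP (φ := (α : MulAut P))
      (by rw [Subgroup.orderOf_coe]; exact hα) (hu.restrict hle) (fun z hz => ?_) (fun z hz => ?_) hx
    · rw [ext_of_mem ψ (Subgroup.mem_sup_left hz)]
      exact (hψP ⟨z, hz⟩).trans (IsMap.hom_apply hφ ⟨z, hz⟩)
    · rw [ext_of_mem ψ (Subgroup.mem_sup_right (hR hz))]
      exact hψT ⟨z, hR hz⟩
  · rw [commutatorElement_def]
    exact hmemC _ (mul_mem (mul_mem (mul_mem ha hb) (Subgroup.inv_mem _ ha)) (Subgroup.inv_mem _ hb))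
      fun R hR γ hγ => fixes_commutator (hcR hR) hγ ha hb

end Cfsg.Agent.S5293
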