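import Cfsg.Statements.S5294
import Cfsg.Agent.Lib.Fusion.Normal
import Cfsg.Prelude.Def_FusionComponents

set_option linter.all false

set_option autoImplicit false
universe u
open Cfsg

namespace Cfsg.Agent.S5294

open Fusion.Basic Fusion.Saturation Fusion.Normal Cfsg.FusionSystem

/-- Let F be a saturated fusion system over a finite p-group S whose centre Z(S) lies in the largest subgroup O_p(F) normal in F. Then the centre Z(F) of F is a direct factor of Z(S): there is a subgroup K of Z(S) with Z(F) ∩ K = 1 and Z(F)K = Z(S). -/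
theorem result {Ω : Type u} [Group Ω] {S : Subgroup Ω} [Finite S] (p : ℕ) [Fact p.Prime] (hS : IsPGroup p S)
    (F : Cfsg.FusionSystem S) (hF : F.IsSaturated p) (hZ : (S ⊓ Subgroup.centralizer (S : Set Ω)) ≤ F.core) :
    ∃ K : Subgroup Ω, K ≤ (S ⊓ Subgroup.centralizer (S : Set Ω)) ∧ F.center ⊓ K = ⊥ ∧ F.center ⊔ K = (S ⊓ Subgroup.centralizer (S : Set Ω)) := by
  classical
  set Z := S ⊓ Subgroup.centralizer (S : Set Ω) with hZdef
  set C := F.core with hC
  have hCn : F.IsNormal C := core_isNormal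
  have hCS : C ≤ S := hCn.1
  have hSC : S ≤ Subgroup.normalizer (C : Set Ω) := le_normalizer_of_stronglyClosed (normal_stronglyClosed hCn)
  haveI : Finite C := finite_of_le hCS
  haveI : Finite Z := finite_of_le (inf_le_left : Z ≤ S)
  have hfn : F.IsFullyNormalized C := ⟨hCS, fun R _ => by
    haveI : Finite (normalizerIn S C) := finite_of_le normalizerIn_le
    refine card_le_card (fun x hx => ?_)
    exact ⟨hx.1, hSC hx.1⟩⟩
  set A := F.autGroup C with hA
  set R := (autInducedBy S C).subgroupOf A with hRdef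
  have hidx : ¬ p ∣ R.index :=
    ((fullyAutomized_iff hS).1 (fullyNormalized_fullyAutomized hS hF hfn)).2
  -- the module
  let M := Subgroup.center C
  letI : CommGroup M := { (inferInstance : Group M) with
    mul_comm := fun a b => Subtype.ext (Subgroup.mem_center_iff.mp b.2 a.1) }
  have hZM : ∀ (z : Z), ∀ c : C, c * ⟨z, hZ z.2⟩ = ⟨z, hZ z.2⟩ * c := fun z c =>
    Subtype.ext (z.2.2 c (hCS c.2))
  let emb : Z →* M :=
    { toFun := fun z => ⟨⟨z, hZ z.2⟩, Subgroup.mem_center_iff.mpr (hZM z)⟩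
      map_one' := rfl
      map_mul' := fun a b => rfl }
  have hMmem : ∀ (α : MulAut C) (m : M), α (m : C) ∈ Subgroup.center C := fun α m => by
    rw [Subgroup.mem_center_iff]
    intro c
    obtain ⟨d, rfl⟩ := α.surjective c
    rw [← map_mul, ← map_mul, Subgroup.mem_center_iff.mp m.2 d]
  let act : A → M →* M := fun a =>
    { toFun := fun m => ⟨(a : MulAut C) (m : C), hMmem _ m⟩
      map_one' := Subtype.ext (map_one (a : MulAut C))
      map_mul' := fun u v => Subtype.ext (map_mul (a : MulAut C) _ _) }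
  have hR : ∀ r ∈ R, ∀ z : Z, act r (emb z) = emb z := by
    intro r hr z
    obtain ⟨g, hg, hge⟩ := mem_autInducedBy_iff'.1 (Subgroup.mem_subgroupOf.1 hr)
    apply Subtype.ext
    apply Subtype.ext
    show (((r : MulAut C) ⟨z, hZ z.2⟩ : C) : Ω) = z
    rw [← autFun_of_mem (r : MulAut C) (hZ z.2), hge _ (hZ z.2), cj_apply, z.2.2 g hg.1, mul_inv_cancel_right]
  haveI : Fintype (A ⧸ R) := Fintype.ofFinite _
  let T : Z →* M :=
    { toFun := fun z => ∏ q : A ⧸ R, act q.out (emb z)
      map_one' := by simp only [map_one, Finset.prod_const_one]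
      map_mul' := fun a b => by simp only [map_mul, Finset.prod_mul_distrib] }
  have hTfix : ∀ (a : A) (z : Z), act a (T z) = T z := by
    intro a z
    show act a (∏ q : A ⧸ R, act q.out (emb z)) = ∏ q : A ⧸ R, act q.out (emb z)
    rw [map_prod]
    refine Fintype.prod_equiv (MulAction.toPerm a) _ _ fun q => ?_
    show act a (act q.out (emb z)) = act (a • q).out (emb z)
    have hmem : (a * q.out)⁻¹ * (a • q).out ∈ R := QuotientGroup.eq.mp (by
      rw [QuotientGroup.out_eq']
      conv_rhs => rw [← QuotientGroup.out_eq' q]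
      rfl)
    have e : (a • q).out = a * q.out * ((a * q.out)⁻¹ * (a • q).out) := (mul_inv_cancel_left _ _).symm
    rw [e]
    have hcomp : ∀ (u v : A) (m : M), act (u * v) m = act u (act v m) := fun u v m => rfl
    rw [hcomp, hR _ hmem, hcomp]
  -- fixed elements are central in the system
  have hcent : ∀ x : Ω, ∀ hx : x ∈ C, (∀ a : A, (a : MulAut C) ⟨x, hx⟩ = ⟨x, hx⟩) → x ∈ F.center := by
    intro x hx hfix
    refine le_center (isCentral_iff.2 ⟨Subgroup.zpowers_le.2 (hCS hx), fun P f hf => ?_⟩) (Subgroup.mem_zpowers x)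
    obtain ⟨g, hg, he, hgC⟩ := (isNormal_iff.1 hCn).2 P f hf
    obtain ⟨α, hα, hαe⟩ := (hg.restrict le_sup_right).exists_aut hgC
    refine ⟨g, hg.restrict (sup_le_sup_left (Subgroup.zpowers_le.2 hx) P), he, ?_⟩
    intro y hy
    obtain ⟨n, rfl⟩ := Subgroup.mem_zpowers_iff.1 hy
    rw [← hαe _ (C.zpow_mem hx n), autFun_of_mem α (C.zpow_mem hx n),
      show (⟨x ^ n, C.zpow_mem hx n⟩ : C) = ⟨x, hx⟩ ^ n from rfl, map_zpow, hfix ⟨α, hα⟩]
    rfl
  have hcZ : F.center ≤ Z := le_inf center_isCentral.1 F.center_le_centralizer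
  have hfixc : ∀ z : Z, (z : Ω) ∈ F.center → ∀ a : A, act a (emb z) = emb z := by
    intro z hz a
    obtain ⟨g, -, he, hgz⟩ := (isCentral_iff.1 center_isCentral).2 C _ (isMap_of_mem_autGroup hCS a.2)
    apply Subtype.ext
    apply Subtype.ext
    show (((a : MulAut C) ⟨z, hZ z.2⟩ : C) : Ω) = z
    rw [← autFun_of_mem (a : MulAut C) (hZ z.2), ← he _ (hZ z.2), hgz _ hz]
  have hTfc : ∀ z : Z, (z : Ω) ∈ F.center → T z = emb z ^ Fintype.card (A ⧸ R) := fun z hz => by
    show ∏ q : A ⧸ R, act q.out (emb z) = _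
    rw [Finset.prod_congr rfl fun q _ => hfixc z hz q.out, Finset.prod_const, Finset.card_univ]
  have hcop : p.Coprime (Fintype.card (A ⧸ R)) := by
    rw [Fintype.card_eq_nat_card, ← Subgroup.index_eq_card]
    exact (Fact.out : p.Prime).coprime_iff_not_dvd.2 hidx
  refine ⟨T.ker.map Z.subtype, Subgroup.map_subtype_le _, ?_, ?_⟩
  · rw [Subgroup.eq_bot_iff_forall]
    rintro x ⟨hx, z, hz, rfl⟩
    have h1 : emb z ^ Fintype.card (A ⧸ R) = 1 := (hTfc z hx).symm.trans hz
    have hM : IsPGroup p M := (hS.to_le hCS).to_subgroup _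
    have h2 : emb z = 1 := (hM.powEquiv hcop).injective (by
      rw [IsPGroup.powEquiv_apply, IsPGroup.powEquiv_apply, h1, one_pow])
    exact congrArg (fun m : M => ((m : C) : Ω)) h2
  · refine le_antisymm (sup_le hcZ (Subgroup.map_subtype_le _)) fun x hx => ?_
    have hM : IsPGroup p M := (hS.to_le hCS).to_subgroup _
    obtain ⟨y, hy⟩ := (hM.powEquiv hcop).surjective (T ⟨x, hx⟩)
    rw [IsPGroup.powEquiv_apply] at hy
    have hyfix : ∀ a : A, act a y = y := fun a => (hM.powEquiv hcop).injective (by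
      rw [IsPGroup.powEquiv_apply, IsPGroup.powEquiv_apply, ← map_pow, hy, hTfix])
    have hyc : ((y : C) : Ω) ∈ F.center :=
      hcent _ (y : C).2 fun a => congrArg Subtype.val (hyfix a)
    set w : Z := ⟨((y : C) : Ω), hcZ hyc⟩ with hw
    have hTw : T w = T ⟨x, hx⟩ := by
      rw [hTfc w hyc, ← hy]; rfl
    have hker : w⁻¹ * ⟨x, hx⟩ ∈ T.ker := by
      rw [MonoidHom.mem_ker, map_mul, map_inv, hTw, inv_mul_cancel]
    have := Subgroup.mul_mem_sup hyc (Subgroup.mem_map_of_mem Z.subtype hker)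
    simpa [hw] using this

end Cfsg.Agent.S5294
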