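import Cfsg.Statements.S5295
import Cfsg.Agent.S5193
import Cfsg.Agent.S5294
import Cfsg.Agent.Lib.Fusion.KNormalizer
import Cfsg.Agent.Lib.Fusion.NormalizerModel
set_option linter.all false
-- import your own Cfsg.Agent.* helpers here

set_option autoImplicit false
universe u
open Cfsg

namespace Cfsg.Agent.S5295

open Cfsg.Agent.Fusion.Basic Cfsg.Agent.Fusion.Saturation Cfsg.Agent.Fusion.Normal Cfsg.FusionSystem

/-- Let F be a saturated fusion system over a finite p-group S with p odd. Then the centre Z(F) of F is a direct factor of Z(S): there is a subgroup K of Z(S) with Z(F) ∩ K = 1 and Z(F)K = Z(S). (At the prime 2 this can fail.) -/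
theorem result {Ω : Type u} [Group Ω] {S : Subgroup Ω} [Finite S] (p : ℕ) [Fact p.Prime] (hp : p ≠ 2) (hS : IsPGroup p S)
    (F : Cfsg.FusionSystem S) (hF : F.IsSaturated p) :
    ∃ K : Subgroup Ω, K ≤ (S ⊓ Subgroup.centralizer (S : Set Ω)) ∧ F.center ⊓ K = ⊥ ∧ F.center ⊔ K = (S ⊓ Subgroup.centralizer (S : Set Ω)) := by
  have hiso := CharP.LocalJ.isoInv_J.{u} (p := p)
  have hSN : S ≤ normalizerIn S (thompsonSubgroupAOf S) :=
    S5196.le_normalizerIn_Wof (W := CharP.LocalJ.J.{u}) hS hiso
  have hT : normalizerIn S (thompsonSubgroupAOf S) = S := le_antisymm inf_le_left hSN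
  have hJS : thompsonSubgroupAOf S ≤ S := CharP.LocalControl.Wof_le (W := CharP.LocalJ.J.{u}) S
  obtain ⟨N, hN⟩ := Fusion.KNormalizer.exists_normalizerSystem (F := F) hJS
  have hfn : F.IsFullyNormalized (thompsonSubgroupAOf S) := ⟨hJS, fun R _ => by
    have : Finite (normalizerIn S (thompsonSubgroupAOf S)) := finite_of_le inf_le_left
    exact card_le_card (fun x hx => hSN hx.1)⟩
  have hNsat := Fusion.KNormalizer.normalizerSystem_saturated hS hF hfn hN
  have hfin : Finite (normalizerIn S (thompsonSubgroupAOf S)) := finite_of_le inf_le_left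
  have hc : N.center = F.center := (S5193.result p hS F hF N hN).2 (Or.inl hp)
  have hJn : N.IsNormal (thompsonSubgroupAOf S) := Fusion.NormalizerModel.isNormal hN hJS
  have hz : normalizerIn S (thompsonSubgroupAOf S) ⊓
      Subgroup.centralizer (normalizerIn S (thompsonSubgroupAOf S) : Set Ω) ≤ N.core := by
    refine le_trans ?_ (le_core hJn)
    rw [hT]
    intro z hz
    exact ⟨⟨z, hz.1⟩, CharP.LocalJ.center_le_J (Subgroup.mem_center_iff.2 fun y =>
      Subtype.ext (hz.2 y y.2)), rfl⟩
  obtain ⟨K, hK, hi, hs⟩ := S5294.result (S := normalizerIn S (thompsonSubgroupAOf S)) p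
    (hS.to_le (hT.le)) N hNsat hz
  rw [hc] at hi hs
  rw [hT] at hK hs
  exact ⟨K, hK, hi, hs⟩

end Cfsg.Agent.S5295
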