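import Cfsg.Statements.S5297
import Cfsg.Agent.Lib.Fusion.SmallElements

set_option autoImplicit false
universe u
open Cfsg

namespace Cfsg.Agent.S5297

open Cfsg.FusionSystem Cfsg.Agent.Fusion.Basic Cfsg.Agent.Fusion.Saturation Cfsg.Agent.Fusion.Normal Cfsg.Agent.Fusion.Alperin Cfsg.Agent.Fusion.Focal Cfsg.Agent.Fusion.SmallElements

/-- Let F be a saturated fusion system over a finite p-group S. If every map of F between cyclic subgroups of the hyperfocal subgroup of F of order p or 4 is a map of the normalizer system of S (it extends to a map of F defined on all of S), then S is normal in F. -/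
theorem result {Ω : Type u} [Group Ω] {S : Subgroup Ω} [Finite S] (p : ℕ) [Fact p.Prime] (hS : IsPGroup p S)
    (F : Cfsg.FusionSystem S) (hF : F.IsSaturated p)
    (h : ∀ A B : Subgroup Ω, A ≤ (F.hyperfocalSubgroup p) → B ≤ (F.hyperfocalSubgroup p) → IsCyclic ↥A → (Nat.card ↥A = p ∨ Nat.card ↥A = 4) → IsCyclic ↥B → (Nat.card ↥B = p ∨ Nat.card ↥B = 4) →
      F.homSet A B ⊆ F.normalizerHom S A) :
    F.IsNormal S := by
  refine isNormal_self_of hS hF fun P hP => ?_
  have hPS : P ≤ S := hP.1.1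
  obtain ⟨N, hN, hNp, hNmem⟩ := exists_stab_normal hS hPS (hyp_stronglyClosed hS hF)
    (fun α hα x hx => mem_hyp hPS ⟨α, Subgroup.subset_closure hα, rfl⟩ hx) (fun α i x hx hxU hs hxZ => by
      by_cases hne : x = 1
      · subst hne
        rw [(isMap_of_mem_autGroup hPS α.2).map_one]
        exact hxZ
      obtain ⟨A, B, φ, hxA, hAP, hAU, hBU, hAc, hA, hBc, hB, hφ, hφe⟩ :=
        exists_hom_cyclic hS hF hPS α hx hxU hs hne
      obtain ⟨-, -, -, ψ, hψ, he, himg⟩ := h A B hAU hBU hAc hA hBc hB hφ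
      have himg' : img (ext ψ) S = S := by
        rwa [map_subgroupOf_eq_img (f := ext ψ) (fun y => (ext_apply ψ y).symm) le_sup_right] at himg
      obtain ⟨β, -, hβe⟩ := ((IsMap.of_hom hψ).restrict le_sup_right).exists_aut himg'
      rw [← hφe ⟨x, hxA⟩, ← he ⟨x, hxA⟩, ← ext_apply ψ,
        show ((Subgroup.inclusion le_sup_left ⟨x, hxA⟩ : (A ⊔ S : Subgroup Ω)) : Ω) = x from rfl,
        ← hβe x (hPS hx)]
      exact autFun_zSeries β hxZ)
  refine ⟨N, hN, hNp, fun a ha => hNmem a fun i x hx _ _ hxZ => ?_⟩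
  obtain ⟨g, hg, hge⟩ := mem_autInducedBy_iff'.1 (Subgroup.mem_subgroupOf.1 ha)
  rw [hge x hx, cj_apply]
  exact zSeries_comm hg.1 hxZ

end Cfsg.Agent.S5297
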