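import Cfsg.Statements.S5298
import Cfsg.Agent.Lib.Fusion.SmallElements

set_option autoImplicit false
universe u
open Cfsg

namespace Cfsg.Agent.S5298

open Cfsg.FusionSystem Cfsg.Agent.Fusion.Basic Cfsg.Agent.Fusion.Saturation Cfsg.Agent.Fusion.Normal Cfsg.Agent.Fusion.Alperin Cfsg.Agent.Fusion.Focal Cfsg.Agent.Fusion.SmallElements

/-- Let F be a saturated fusion system over a finite p-group S. If every map of F between cyclic subgroups of the hyperfocal subgroup of F of order p or 4 is conjugation by an element of S, then F is the inner fusion system of S. -/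
theorem result {Ω : Type u} [Group Ω] {S : Subgroup Ω} [Finite S] (p : ℕ) [Fact p.Prime] (hS : IsPGroup p S)
    (F : Cfsg.FusionSystem S) (hF : F.IsSaturated p)
    (h : ∀ A B : Subgroup Ω, A ≤ (F.hyperfocalSubgroup p) → B ≤ (F.hyperfocalSubgroup p) → IsCyclic ↥A → (Nat.card ↥A = p ∨ Nat.card ↥A = 4) → IsCyclic ↥B → (Nat.card ↥B = p ∨ Nat.card ↥B = 4) →
      F.homSet A B ⊆ (Cfsg.innerFusionSystem S).Hom A) :
    ∀ P : Subgroup Ω, F.Hom P = (Cfsg.innerFusionSystem S).Hom P := by
  have hall : ∀ P : Subgroup Ω, P ≤ S → IsPGroup p (F.autGroup P) := by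
    intro P hPS
    have hconj : ∀ α : F.autGroup P, ∀ x ∈ P, x ∈ F.hyperfocalSubgroup p → IsSmall p x →
        ∃ g ∈ S, autFun (α : MulAut P) x = g * x * g⁻¹ := by
      intro α x hx hxU hs
      by_cases hne : x = 1
      · subst hne
        exact ⟨1, S.one_mem, by rw [(isMap_of_mem_autGroup hPS α.2).map_one]; simp⟩
      obtain ⟨A, B, φ, hxA, hAP, hAU, hBU, hAc, hA, hBc, hB, hφ, hφe⟩ :=
        exists_hom_cyclic hS hF hPS α hx hxU hs hne
      obtain ⟨-, g, hg, hge⟩ := h A B hAU hBU hAc hA hBc hB hφ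
      exact ⟨g, hg, by rw [← hφe ⟨x, hxA⟩, hge]⟩
    obtain ⟨N, -, hNp, hNmem⟩ := exists_stab_normal hS hPS (hyp_stronglyClosed hS hF)
      (fun α hα x hx => mem_hyp hPS ⟨α, Subgroup.subset_closure hα, rfl⟩ hx)
      (fun α i x hx hxU hs hxZ => by
        obtain ⟨g, hg, he⟩ := hconj α x hx hxU hs
        have := autFun_zSeries (MulAut.conj (⟨g, hg⟩ : S)) hxZ
        rw [autFun_of_mem _ (hPS hx)] at this
        rw [he]
        exact this)
    intro a
    have ha : a ∈ N := hNmem a fun i x hx hxU hs hxZ => by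
      obtain ⟨g, hg, he⟩ := hconj a x hx hxU hs
      rw [he]
      exact zSeries_comm hg hxZ
    obtain ⟨k, hk⟩ := hNp ⟨a, ha⟩
    exact ⟨k, congrArg Subtype.val hk⟩
  intro P
  rw [eq_inner_of_isPGroup hS hF (fun P hP => not_isPGroup_of_essential hP (hall P hP.1.1))
    (hall S le_rfl)]

end Cfsg.Agent.S5298
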