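import Cfsg.Statements.S5299
import Cfsg.Agent.Lib.Fusion.Basic

set_option autoImplicit false
universe u
open Cfsg

namespace Cfsg.Agent.S5299

open Cfsg.FusionSystem Cfsg.Agent.Fusion.Basic

theorem involves_of_surj {G H : Type*} [Group G] [Group H] {K : Subgroup G} (f : ↥K →* H)
    (hf : Function.Surjective f) : Cfsg.Involves H G := by
  have e : (f.ker.map K.subtype).subgroupOf K = f.ker :=
    Subgroup.comap_map_eq_self_of_injective K.subtype_injective _
  have hn : ((f.ker.map K.subtype).subgroupOf K).Normal := by rw [e]; infer_instance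
  exact ⟨K, f.ker.map K.subtype, hn,
    ⟨((QuotientGroup.quotientMulEquivOfEq e).trans
      (QuotientGroup.quotientKerEquivOfSurjective f hf))⟩⟩

/-- Let F be a saturated fusion system over a finite p-group S, H a finite group and Q a p-subgroup of H. If Q is not involved in S (no section of S is isomorphic to Q), then F is H-free: H is involved in no model of the normalizer system of a fully normalized centric subgroup. -/
theorem result {Ω : Type u} [Group Ω] {S : Subgroup Ω} [Finite S] (p : ℕ) [Fact p.Prime] (hS : IsPGroup p S)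
    (F : Cfsg.FusionSystem S) (hF : F.IsSaturated p) (H : Type*) [Group H] [Finite H] (Q : Subgroup H) (hQ : IsPGroup p Q)
    (hfree : ¬ Cfsg.Involves (↥Q) (↥S)) : F.IsSectionFree p H := by
    intro Q0 _ _ N _ L _ ι hM hinv
    obtain ⟨hfin, ⟨hinj, _⟩, ⟨T0, hT0⟩, _⟩ := hM
    obtain ⟨K, R, hR, ⟨e⟩⟩ := hinv
    let f : ↥K →* H := e.toMonoidHom.comp (QuotientGroup.mk' _)
    have hf : Function.Surjective f := e.surjective.comp (QuotientGroup.mk'_surjective _)
    let g : ↥(Q.comap f) →* ↥Q := f.subgroupComap Q
    have hg : Function.Surjective g := MonoidHom.subgroupComap_surjective_of_surjective f Q hf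
    obtain ⟨T⟩ : Nonempty (Sylow p ↥(Q.comap f)) := inferInstance
    have hTQ : ∀ q : ↥Q, ∃ t ∈ T, g t = q := by
      intro q
      have h1 : (T.mapSurjective hg : Subgroup ↥Q) = ⊤ := by
        obtain h := (T.mapSurjective hg).3 (Q := ⊤) (hQ.to_subgroup ⊤) le_top
        exact h.symm
      have h2 : q ∈ (T.mapSurjective hg : Subgroup ↥Q) := h1 ▸ Subgroup.mem_top q
      exact Subgroup.mem_map.1 h2
    let i : ↥(T : Subgroup ↥(Q.comap f)) →* L :=
      (K.subtype.comp (Q.comap f).subtype).comp (T : Subgroup ↥(Q.comap f)).subtype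
    have hi : Function.Injective i :=
      (K.subtype_injective.comp (Q.comap f).subtype_injective).comp
        (T : Subgroup ↥(Q.comap f)).subtype_injective
    have hip : IsPGroup p ↥i.range := (T.2.of_surjective _ i.rangeRestrict_surjective)
    obtain ⟨T1, hT1⟩ := hip.exists_le_sylow
    obtain ⟨l, hl⟩ := MulAction.exists_smul_eq L T1 T0
    have hmem : ∀ t, l * i t * l⁻¹ ∈ ι.range := by
      intro t
      rw [← hT0, ← hl, Sylow.coe_subgroup_smul]
      exact ⟨i t, hT1 ⟨t, rfl⟩, rfl⟩
    let ψ : ↥(T : Subgroup ↥(Q.comap f)) →* ↥S :=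
      (Subgroup.inclusion (normalizerIn_le (S := S) (P := Q0))).comp
        ((MonoidHom.ofInjective hinj).symm.toMonoidHom.comp
          (((MulAut.conj l).toMonoidHom.comp i).codRestrict ι.range hmem))
    have hψ : Function.Injective ψ := by
      refine (Subgroup.inclusion_injective (normalizerIn_le (S := S) (P := Q0))).comp
        ((MonoidHom.ofInjective hinj).symm.injective.comp fun a b hab => hi ?_)
      exact (MulAut.conj l).injective (Subtype.ext_iff.1 hab)
    refine hfree (involves_of_surj (K := ψ.range)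
      ((g.comp (T : Subgroup ↥(Q.comap f)).subtype).comp (MonoidHom.ofInjective hψ).symm.toMonoidHom)
      fun q => ?_)
    obtain ⟨t, ht, rfl⟩ := hTQ q
    refine ⟨MonoidHom.ofInjective hψ ⟨t, ht⟩, ?_⟩
    simp

end Cfsg.Agent.S5299
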