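import Cfsg.Statements.S5300
import Cfsg.Agent.Lib.Fusion.SmallElements

set_option autoImplicit false
universe u
open Cfsg

namespace Cfsg.Agent.S5300

open Cfsg.FusionSystem Cfsg.Agent.Fusion.Basic Cfsg.Agent.Fusion.Saturation Cfsg.Agent.Fusion.Normal Cfsg.Agent.Fusion.Alperin Cfsg.Agent.Fusion.Focal Cfsg.Agent.Fusion.SmallElements

/-- Let F be a saturated fusion system over a finite p-group S. If every cyclic subgroup of the focal subgroup of F of order p (of order 2 or 4 when p = 2) is normal in S, then S is normal in F. -/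
theorem result {Ω : Type u} [Group Ω] {S : Subgroup Ω} [Finite S] (p : ℕ) [Fact p.Prime] (hS : IsPGroup p S)
    (F : Cfsg.FusionSystem S) (hF : F.IsSaturated p)
    (hnorm : ∀ x ∈ F.focalSubgroup, (x ^ p = 1 ∨ (p = 2 ∧ x ^ 4 = 1)) → ∀ s ∈ S, s * x * s⁻¹ ∈ Subgroup.zpowers x) :
    F.IsNormal S := by
  have hfocS : F.focalSubgroup ≤ S := by
    rw [focalSubgroup, Subgroup.closure_le]
    rintro _ ⟨P, φ, x, hφ, rfl⟩
    exact S.mul_mem (S.inv_mem ((F.le_of_mem hφ).1 x.2)) ((F.le_of_mem hφ).2 x)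
  refine isNormal_self_of hS hF fun P hP => ?_
  have hPS : P ≤ S := hP.1.1
  have hfin : Finite P := finite_of_le hPS
  have hfocmem : ∀ a : F.autGroup P, ∀ x ∈ P, x⁻¹ * autFun (a : MulAut P) x ∈ F.focalSubgroup :=
    fun a x hx => Subgroup.subset_closure ⟨P, (isMap_of_mem_autGroup hPS a.2).hom, ⟨x, hx⟩,
      IsMap.hom_mem_self _, rfl⟩
  have hfocinv : ∀ a : F.autGroup P, ∀ x ∈ P, x ∈ F.focalSubgroup →
      autFun (a : MulAut P) x ∈ F.focalSubgroup := fun a x hx hxf => by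
    simpa using F.focalSubgroup.mul_mem hxf (hfocmem a x hx)
  have hpowmap : ∀ a : F.autGroup P, ∀ x ∈ P, ∀ k : ℤ,
      autFun (a : MulAut P) (x ^ k) = autFun (a : MulAut P) x ^ k := fun a x hx k => by
    rw [autFun_of_mem _ (P.zpow_mem hx k), autFun_of_mem _ hx,
      show (⟨x ^ k, P.zpow_mem hx k⟩ : P) = (⟨x, hx⟩ : P) ^ k from rfl, map_zpow, Subgroup.coe_zpow]
  have hsm : ∀ a : F.autGroup P, ∀ x ∈ P, ∀ n : ℕ, x ^ n = 1 →
      autFun (a : MulAut P) x ^ n = 1 := fun a x hx n hn => by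
    rw [← zpow_natCast, ← hpowmap a x hx, zpow_natCast, hn]
    exact (isMap_of_mem_autGroup hPS a.2).map_one
  let D : Subgroup (F.autGroup P) :=
    { carrier := {a | ∀ x ∈ P, x ∈ F.focalSubgroup → IsSmall p x →
        autFun (a : MulAut P) x ∈ Subgroup.zpowers x ∧ (x ^ p = 1 → autFun (a : MulAut P) x = x)}
      one_mem' := fun x _ _ _ => by
        rw [Subgroup.coe_one, autFun_one]
        exact ⟨Subgroup.mem_zpowers x, fun _ => rfl⟩
      mul_mem' := fun {a b} ha hb x hx hxf hs => by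
        obtain ⟨h1, h1'⟩ := hb x hx hxf hs
        have h2 := ha _ (autFun_mem _ hx) (hfocinv b x hx hxf)
          (isSmall_iff.2 (hsm b x hx _ (isSmall_iff.1 hs)))
        rw [Subgroup.coe_mul, autFun_mul]
        exact ⟨Subgroup.zpowers_le.2 h1 h2.1, fun hp => by rw [h2.2 (hsm b x hx _ hp), h1' hp]⟩
      inv_mem' := fun {a} ha x hx hxf hs => by
        obtain ⟨h1, h1'⟩ := ha x hx hxf hs
        rw [Subgroup.coe_inv]
        refine ⟨?_, fun hp => ?_⟩
        · have hm := (isMap_of_mem_autGroup hPS a.2).restrict (Subgroup.zpowers_le.2 hx)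
          have : Finite (Subgroup.zpowers x) := finite_of_le (Subgroup.zpowers_le.2 hx)
          have himg : img (autFun (a : MulAut P)) (Subgroup.zpowers x) = Subgroup.zpowers x := by
            refine eq_of_le_card (img_le fun y hy => ?_) hm.card_img.ge
            obtain ⟨k, rfl⟩ := Subgroup.mem_zpowers_iff.1 hy
            rw [hpowmap a x hx]
            exact Subgroup.zpow_mem _ h1 k
          obtain ⟨y, hy, hye⟩ := hm.mem_img.1 (himg.ge (Subgroup.mem_zpowers x))
          rw [← hye, autFun_inv_apply, hye]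
          exact hy
        · conv_lhs => rw [← h1' hp]
          exact autFun_inv_apply _ _ }
  refine ⟨D, ⟨fun a ha g x hx hxf hs => ?_⟩, ?_, fun a ha x hx hxf hs => ?_⟩
  · set y := autFun (g : MulAut P)⁻¹ x with hy
    have hyP : y ∈ P := autFun_mem _ hx
    obtain ⟨h1, h1'⟩ := ha y hyP (hfocinv g⁻¹ x hx hxf)
      (isSmall_iff.2 (hsm g⁻¹ x hx _ (isSmall_iff.1 hs)))
    have hgy : autFun (g : MulAut P) y = x := autFun_apply_inv _ _
    obtain ⟨k, hk⟩ := Subgroup.mem_zpowers_iff.1 h1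
    rw [Subgroup.coe_mul, Subgroup.coe_mul, Subgroup.coe_inv, autFun_mul, autFun_mul, ← hy, ← hk,
      hpowmap g y hyP, hgy]
    refine ⟨Subgroup.zpow_mem _ (Subgroup.mem_zpowers x) k, fun hp => ?_⟩
    rw [← hgy, ← hpowmap g y hyP, hk, h1' (hsm g⁻¹ x hx _ hp)]
  · -- the elements of order prime to `p` in `D` are trivial
    refine Cfsg.Agent.CharP.isPGroup_of_forall_coprime fun a ha hcop => ?_
    have hKS : F.focalSubgroup ⊓ P ≤ S := inf_le_right.trans hPS
    have hfinK : Finite (F.focalSubgroup ⊓ P : Subgroup Ω) := finite_of_le hKS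
    obtain ⟨E, hEK, -, hEs, hdet⟩ := exists_detect_sub (hS.to_le hKS)
    refine Subtype.ext (hdet P inf_le_right (hS.to_le hPS) a (by rwa [Subgroup.orderOf_coe])
      (fun x hx => ⟨hfocinv a x hx.2 hx.1, autFun_mem _ hx.2⟩)
      (fun x hx => ⟨hfocmem a x hx, P.mul_mem (P.inv_mem hx) (autFun_mem _ hx)⟩) fun x hx => ?_)
    have hxP : x ∈ P := (hEK hx).2
    obtain ⟨h1, h1'⟩ := ha x hxP (hEK hx).1 (hEs x hx)
    by_cases hp : x ^ p = 1
    · exact h1' hp
    rcases hEs x hx with h | ⟨rfl, h4⟩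
    · exact absurd h hp
    obtain ⟨k, hk⟩ := Subgroup.mem_zpowers_iff.1 h1
    rcases Int.even_or_odd k with ⟨j, hj⟩ | ⟨j, hj⟩
    · refine absurd ?_ hp
      have h2 : autFun (a : MulAut P) x ^ 2 = 1 := by
        rw [← hk, ← zpow_natCast, ← zpow_mul, hj, show (j + j) * ((2 : ℕ) : ℤ) = (4 : ℕ) * j by
          push_cast; ring, zpow_mul, zpow_natCast, h4, one_zpow]
      have h3 := hsm a⁻¹ _ (autFun_mem _ hxP) _ h2
      rwa [Subgroup.coe_inv, autFun_inv_apply] at h3
    · have h2 : autFun ((a : MulAut P) ^ 2) x = x := by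
        rw [pow_two, autFun_mul, ← hk, hpowmap a x hxP, ← hk, ← zpow_mul, hj,
          show (2 * j + 1) * (2 * j + 1) = ((4 : ℕ) : ℤ) * (j * j + j) + 1 by push_cast; ring,
          zpow_add, zpow_mul, zpow_natCast, h4, one_zpow, one_mul, zpow_one]
      have hpow : ∀ m : ℕ, autFun (((a : MulAut P) ^ 2) ^ m) x = x := by
        intro m
        induction m with
        | zero => rw [pow_zero, autFun_one]; rfl
        | succ m ih => rw [pow_succ', autFun_mul, ih, h2]
      obtain ⟨m, hm⟩ := hcop.symm.odd_of_left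
      have hn : ((a : MulAut P)) ^ (2 * m + 1) = 1 := by
        rw [← hm, ← Subgroup.coe_pow, pow_orderOf_eq_one, Subgroup.coe_one]
      have h5 : autFun ((a : MulAut P) ^ (2 * m + 1)) x = x := by rw [hn, autFun_one]; rfl
      rwa [pow_succ', autFun_mul, pow_mul, hpow] at h5
  · obtain ⟨g, hg, hge⟩ := mem_autInducedBy_iff'.1 (Subgroup.mem_subgroupOf.1 ha)
    have hc : autFun (a : MulAut P) x = g * x * g⁻¹ := hge x hx
    rw [hc]
    have hz := hnorm x hxf hs g hg.1
    refine ⟨hz, fun hp => ?_⟩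
    obtain ⟨k, hk⟩ := Subgroup.mem_zpowers_iff.1 hz
    have hit : ∀ n : ℕ, g ^ n * x * (g ^ n)⁻¹ = x ^ (k ^ n) := by
      intro n
      induction n with
      | zero => simp
      | succ n ih =>
        calc g ^ (n + 1) * x * (g ^ (n + 1))⁻¹ = g * (g ^ n * x * (g ^ n)⁻¹) * g⁻¹ := by
              rw [pow_succ']; group
          _ = (g * x * g⁻¹) ^ (k ^ n) := by rw [ih, conj_zpow]
          _ = x ^ (k ^ (n + 1)) := by rw [← hk, ← zpow_mul, pow_succ']
    obtain ⟨e, he⟩ := hS ⟨g, hg.1⟩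
    have he' : g ^ p ^ e = 1 := congrArg Subtype.val he
    have h1 := hit (p ^ e)
    rw [he'] at h1
    simp only [one_mul, inv_one, mul_one] at h1
    rcases eq_or_ne x 1 with rfl | hne
    · simp
    have ho : orderOf x = p := orderOf_eq_prime hp hne
    have h2 : ((1 : ℤ) : ZMod p) = ((k ^ p ^ e : ℤ) : ZMod p) := by
      rw [ZMod.intCast_eq_intCast_iff']
      have h4 := orderOf_dvd_sub_iff_zpow_eq_zpow.2 (show x ^ (1 : ℤ) = x ^ (k ^ p ^ e) by simpa using h1)
      rw [ho] at h4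
      exact (Int.modEq_iff_dvd.2 (dvd_sub_comm.1 h4))
    rw [Int.cast_pow, Int.cast_one, ZMod.pow_card_pow, ← Int.cast_one,
      ZMod.intCast_eq_intCast_iff'] at h2
    rw [← hk]
    conv_rhs => rw [← zpow_one x]
    rw [← zpow_mod_orderOf, ho, ← h2, ← ho, zpow_mod_orderOf]

end Cfsg.Agent.S5300
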