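import Cfsg.Statements.S5301
import Cfsg.Agent.Lib.Fusion.Normal

set_option autoImplicit false
universe u
open Cfsg

namespace Cfsg.Agent.S5301

open Cfsg.FusionSystem Cfsg.Agent.Fusion.Basic Cfsg.Agent.Fusion.Saturation Cfsg.Agent.Fusion.Alperin Cfsg.Agent.Fusion.Normal

/-- Let F be a saturated fusion system over a finite p-group S. If for every subgroup P of S that is fully normalized, centric and radical in F the automorphism group that F induces on P has a normal Sylow p-subgroup, then S is normal in F. -/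
theorem result {Ω : Type u} [Group Ω] {S : Subgroup Ω} [Finite S] (p : ℕ) [Fact p.Prime] (hS : IsPGroup p S)
    (F : Cfsg.FusionSystem S) (hF : F.IsSaturated p)
    (hcl : ∀ P : Subgroup Ω, F.IsFullyNormalized P → F.IsCentric P → F.IsRadical p P →
      ∃ R : Sylow p ↥(F.autGroup P), (R : Subgroup ↥(F.autGroup P)).Normal) :
    F.IsNormal S := by
  refine normal_of_invariant hS hF fun P hP => ?_
  rcases hP with rfl | hP
  · exact ⟨le_rfl, fun α _ => autFun_img α⟩
  exfalso
  have hlt := essential_lt hS hF hP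
  have hr := essential_radical hP hS
  have hfinP : Finite P := finite_of_le hP.1.1
  obtain ⟨R, hR⟩ := hcl P hP.2.1 hP.1 hr
  obtain ⟨R', hR'⟩ := (fullyNormalized_fullyAutomized hS hF hP.2.1).2
  have hle : (R : Subgroup (F.autGroup P)) ≤ Cfsg.pCore p (F.autGroup P) :=
    le_sSup (show (R : Subgroup (F.autGroup P)) ∈
      {N : Subgroup (F.autGroup P) | N.Normal ∧ IsPGroup p N} from ⟨hR, R.2⟩)
  obtain ⟨g, hg, hgP⟩ := exists_mem_normalizer_not_mem hS hlt
  have hRR : (R' : Subgroup (F.autGroup P)) = R := by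
    obtain ⟨c, hc⟩ := MulAction.exists_smul_eq (F.autGroup P) R R'
    rw [← hc, Sylow.smul_eq_of_normal (h := hR)]
  refine hgP (le_of_le_pCore hP.1 hr hg (hle ?_))
  rw [← hRR]
  rw [hR']
  refine Subgroup.mem_subgroupOf.2 (mem_autInducedBy_iff'.2 ⟨g, hg, fun x hx => ?_⟩)
  exact conjAut_apply _ hx

end Cfsg.Agent.S5301
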