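import Cfsg.Statements.S5306
import Cfsg.Agent.Lib.Transfer.Fusion
import Cfsg.Agent.Lib.PLocal.ThompsonSubgroup

set_option autoImplicit false
open Cfsg

namespace Cfsg.Agent.S5306

open Cfsg.Agent.PLocal.ThompsonSubgroup

theorem isWeaklyClosed_thompson {X : Type*} [Group X] [Finite X] {p : ℕ} (P : Subgroup X) :
    IsWeaklyClosed (thompsonSubgroupOf p P) P := by
  refine ⟨thompsonSubgroupOf_le P, fun g hg => ?_⟩
  set c := (MulAut.conj g).toMonoidHom
  have hc : Function.Injective c := (MulAut.conj g).injective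
  refine Subgroup.eq_of_le_of_card_ge ?_ (Subgroup.card_map_of_injective hc).ge
  conv_lhs => rw [thompsonSubgroupOf, Subgroup.map_map, thompsonSubgroup,
    (Subgroup.gc_map_comap _).l_sSup]
  refine iSup₂_le fun A hA => ?_
  have hA' : A.map (c.comp P.subtype) ≤ P := by
    refine le_trans ?_ hg
    rw [thompsonSubgroupOf, Subgroup.map_map]
    exact Subgroup.map_mono (le_thompsonSubgroup hA)
  have hmem : (A.map (c.comp P.subtype)).subgroupOf P ∈ maxElementaryAbelianSubgroups p ↥P := by
    refine ⟨IsElementaryAbelian.comap (IsElementaryAbelian.map hA.1 _) P.subtype_injective,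
      fun B hB => ?_⟩
    rw [Nat.card_congr (Subgroup.subgroupOfEquivOfLe hA').toEquiv,
      Subgroup.card_map_of_injective (f := c.comp P.subtype) (hc.comp P.subtype_injective)]
    exact hA.2 B hB
  intro x hx
  exact ⟨⟨x, hA' hx⟩, le_thompsonSubgroup hmem hx, rfl⟩

/-- Let P be a Sylow p-subgroup of the finite group X and J = J(P) its Thompson subgroup (generated by the elementary abelian subgroups of P of largest order). If x and y lie in the centre of J and y = g x g⁻¹ for some g in X, then y = n x n⁻¹ for some n in the normalizer N_X(J). -/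
theorem result {X : Type*} [Group X] [Finite X] (p : ℕ) [Fact p.Prime] (P : Sylow p X) (J : Subgroup X) (hJ : J = Cfsg.thompsonSubgroupOf p (P : Subgroup X))
    (x y : X) (hx : x ∈ J ∧ ∀ j ∈ J, Commute j x) (hy : y ∈ J ∧ ∀ j ∈ J, Commute j y) (g : X) (hg : g * x * g⁻¹ = y) :
    ∃ n ∈ Subgroup.normalizer (J : Set X), n * x * n⁻¹ = y := by
    subst hJ
    obtain ⟨n, hn, he⟩ := Cfsg.Agent.Transfer.Fusion.IsWeaklyClosed.exists_normalizer_conj
      (isWeaklyClosed_thompson (P : Subgroup X)) (x := x) (g := g)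
      (Subgroup.mem_centralizer_iff.2 fun j hj => hx.2 j hj)
      (by rw [hg]; exact Subgroup.mem_centralizer_iff.2 fun j hj => hy.2 j hj)
    exact ⟨n, hn, he.trans hg⟩

end Cfsg.Agent.S5306
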