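import Cfsg.Statements.S5311
import Mathlib
import Cfsg.Agent.Lib.Components.FusionComponent
-- import your own Cfsg.Agent.* helpers here

set_option autoImplicit false
set_option linter.all false
open Cfsg Cfsg.FusionSystem Cfsg.Agent.Fusion Cfsg.Agent.Fusion.Basic Cfsg.Agent.Fusion.Saturation Cfsg.Agent.Fusion.Factor Cfsg.Agent.Fusion.Subsystems Cfsg.Agent.Fusion.Transport Cfsg.Agent.Components.FusionComponent
open Cfsg

namespace Cfsg.Agent.S5311

/-- The layer of a saturated fusion system F over a finite p-group S is characteristic in F: for every automorphism α of S that is an automorphism of F (α and its inverse are morphisms from F to F) and every layer E of F over T, α carries T onto T and, for every map φ of E with source P, the map induced by α on α(P) (that is, α ∘ φ ∘ α⁻¹) is a map of E. -/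
theorem result {Ω : Type*} [Group Ω] {S : Subgroup Ω} [Finite S] (p : ℕ) [Fact p.Prime] (hS : IsPGroup p S) (F : Cfsg.FusionSystem S) (hF : F.IsSaturated p)
    (α : ↥S ≃* ↥S) (hα : F.IsMorphism F (S.subtype.comp α.toMonoidHom))
    (hα' : F.IsMorphism F (S.subtype.comp α.symm.toMonoidHom))
    {T : Subgroup Ω} (E : Cfsg.FusionSystem T) (hE : E.IsLayerOf F p) :
    Cfsg.FusionSystem.imageAlong (S.subtype.comp α.toMonoidHom) T = T ∧
      ∀ (P : Subgroup Ω) (φ : ↥P →* Ω), φ ∈ E.Hom P →
        ∀ φ' : ↥(Cfsg.FusionSystem.imageAlong (S.subtype.comp α.toMonoidHom) P) →* Ω,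
          Cfsg.FusionSystem.InducedAlong (S.subtype.comp α.toMonoidHom) φ φ' →
            φ' ∈ E.Hom (Cfsg.FusionSystem.imageAlong (S.subtype.comp α.toMonoidHom) P) := by
  have hmor : ∀ β : MulAut S, F.IsMorphism F (S.subtype.comp β.toMonoidHom) →
      push (autIso β) F ≤ F := by
    intro β hβ
    refine le_of_isMap fun P f hf => ?_
    obtain ⟨hP, hS', hm⟩ := (isMap_push_iff _).1 hf
    obtain ⟨φ', hφ', hind⟩ := hβ.2 _ hm.hom hm.hom_mem_self
    obtain ⟨hPS, -, -, h⟩ := (inducedAlong_iff (f := fun x => (autIso β).bwd (f ((autIso β).fwd x))) (f' := ext φ')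
      (fun _ => rfl) fun y => (ext_apply φ' y).symm).1 hind
    have hal : ∀ x ∈ S, along (S.subtype.comp β.toMonoidHom) x = autFun β x := fun x hx => by
      rw [along_of_mem _ hx, autFun_of_mem β hx]; rfl
    have hd : imageAlong (S.subtype.comp β.toMonoidHom) (im (autIso β).bwd P) = P := by
      ext y
      rw [mem_imageAlong]
      constructor
      · rintro ⟨x, hx, hxS, rfl⟩
        obtain ⟨z, hz, rfl⟩ := ((autIso β).symm.mem_img hP).1 hx
        rw [hal _ hxS]
        show autFun β (autFun β⁻¹ z) ∈ P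
        rwa [autFun_apply_inv]
      · intro hy
        refine ⟨(autIso β).bwd y, mem_im_self _ hy, autFun_mem β⁻¹ (hP hy), ?_⟩
        rw [hal _ ((autIso β).inv_mem y (hP hy))]
        exact autFun_apply_inv β y
    refine (isMap_of_eq hd (IsMap.of_hom hφ')).congr fun y hy => ?_
    have hx : (autIso β).bwd y ∈ im (autIso β).bwd P := mem_im_self _ hy
    have h1 := h _ hx
    have hin : (autIso β).fwd ((autIso β).bwd y) = y := autFun_apply_inv β y
    have hb : (autIso β).bwd (f ((autIso β).fwd ((autIso β).bwd y))) ∈ S :=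
      (autIso β).inv_mem _ (by rw [hin]; exact hS' y hy)
    rw [hal _ ((autIso β).inv_mem y (hP hy)), hal _ hb] at h1
    change ext φ' (autFun β (autFun β⁻¹ y)) =
      autFun β (autFun β⁻¹ (f (autFun β (autFun β⁻¹ y)))) at h1
    simp only [autFun_apply_inv] at h1
    exact h1
  have hsymm : ∀ β : MulAut S, push (autIso β) F ≤ F → push (autIso β).symm F ≤ F →
      push (autIso β) F = F := by
    intro β h1 h2
    refine fs_ext_le h1 ?_
    have h3 := push_mono (autIso β) h2
    have h4 : push (autIso β) (push (autIso β).symm F) = F := push_push (autIso β).symm F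
    rwa [h4] at h3
  have h1 := hmor α hα
  have h2 : push (autIso (α : MulAut S)).symm F ≤ F := by
    rw [push_congr (e₁ := (autIso (α : MulAut S)).symm) (e₂ := autIso ((α : MulAut S)⁻¹))
      fun _ _ => rfl]
    exact hmor _ hα'
  have hFeq := hsymm α h1 h2
  have hFeq' : push (autIso (α : MulAut S)).symm F = F := by
    conv_lhs => rw [← hFeq, push_push]
  obtain ⟨hEn, hEc, hEmin⟩ := hE
  have hT : T ≤ S := subsystem_le hEn.1.2.2.1
  have : Finite T := finite_of_le hT
  have key : ∀ e : Iso S S, push e F = F → push e.symm F = F →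
      E.IsSubsystemOf (push (e.restrict hT) E) := by
    intro e he he'
    refine hEmin _ _ (he ▸ push_normal hS e (e.restrict hT) (fun _ _ => rfl) hEn) fun U C hC => ?_
    have hU : U ≤ S := subsystem_le (subnormal_le hC.1)
    have : Finite U := finite_of_le hU
    have hC'' : (push (e.symm.restrict hU) C).IsComponentIn F p :=
      ⟨he' ▸ push_subnormal hC.1 hS e.symm (e.symm.restrict hU) (fun _ _ => rfl),
        push_quasisimple (hS.to_le hU) _ hC.2⟩
    have h := push_subsystem (e.restrict hT) (e.symm.restrict hU).symm (fun _ _ => rfl)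
      (hEc _ _ hC'')
    rwa [push_push] at h
  set e := autIso (α : MulAut S)
  have hle : T ≤ im e.fwd T := subsystem_le (key e hFeq hFeq')
  have hle' : T ≤ im e.bwd T := subsystem_le (key e.symm hFeq' hFeq)
  have hTeq : im e.fwd T = T := le_antisymm (by
    have := im_mono e.fwd hle'
    rwa [e.img_symm hT] at this) hle
  have hsub : (push (e.restrict hT) E).IsSubsystemOf E := by
    have hk := key e.symm hFeq' hFeq
    have h := push_subsystem (e := (e.symm.restrict hT).symm) (e' := e.restrict hT)
      (fun _ _ => rfl) hk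
    rwa [push_push] at h
  have hal : ∀ x ∈ S, along (S.subtype.comp α.toMonoidHom) x = e.fwd x := fun x hx => by
    rw [along_of_mem _ hx]
    exact (autFun_of_mem (α : MulAut S) hx).symm
  have him : ∀ P : Subgroup Ω, P ≤ S → imageAlong (S.subtype.comp α.toMonoidHom) P = im e.fwd P := by
    intro P hP
    ext y
    rw [mem_imageAlong, e.mem_img hP]
    exact ⟨fun ⟨x, hx, hxS, h⟩ => ⟨x, hx, (hal x hxS) ▸ h⟩,
      fun ⟨x, hx, h⟩ => ⟨x, hx, hP hx, (hal x (hP hx)).trans h⟩⟩
  refine ⟨(him T hT).trans hTeq, fun P φ hφ φ' hind => ?_⟩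
  have hPT : P ≤ T := (E.le_of_mem hφ).1
  obtain ⟨-, hfS, hmem, hrel⟩ := (inducedAlong_iff (f := ext φ) (f' := ext φ')
    (fun x => (ext_apply φ x).symm) fun y => (ext_apply φ' y).symm).1 hind
  have hm : IsMap E (im e.fwd P) _ :=
    isMap_of_subset hsub (isMap_push (e.restrict hT) (IsMap.of_hom hφ))
  refine (isMap_of_eq (him P (hPT.trans hT)).symm hm).hom_mem fun y => ?_
  obtain ⟨x, hx, hxS, hxy⟩ := mem_imageAlong.1 y.2
  rw [← ext_apply φ' y, ← hxy, hrel x hx, hal _ (hfS x hx), hal x hxS]
  show _ = e.fwd (ext φ (e.bwd (e.fwd x)))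
  rw [e.inv_to x hxS]

end Cfsg.Agent.S5311
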