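import Cfsg.Statements.S5316
import Cfsg.Agent.LocalFlavell.MaxClass.Outside
import Cfsg.Agent.LocalFlavell.MaxClass.Push
import Cfsg.Agent.LocalFlavell.MaxClass.Shapes

set_option autoImplicit false
open Cfsg

namespace Cfsg.Agent.S5316

/-- Let p ≥ 5 be a prime, S a finite p-group of maximal class of order p^n with n ≥ 5 (nilpotency class n − 1), F a saturated fusion system over S, and E an F-essential subgroup that is not a pearl (not elementary abelian of order p² and not extraspecial of order p³ and exponent p). Then E has order at least p⁴. -/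
theorem result {Ω : Type*} [Group Ω] {S : Subgroup Ω} [Finite S] (p : ℕ) [Fact p.Prime] (hp : 5 ≤ p) (hS : IsPGroup p ↥S) (n : ℕ) (hn : Nat.card S = p ^ n) (h5 : 5 ≤ n)
    (hmax : Subgroup.lowerCentralSeries S (n - 2) ≠ ⊥) (F : Cfsg.FusionSystem S) (hF : F.IsSaturated p)
    (E : Subgroup Ω) (hE : F.IsEssential p E)
    (hnp : ¬ ((Nat.card ↥E = p ^ 2 ∧ Cfsg.IsElementaryAbelian p E) ∨ (Nat.card ↥E = p ^ 3 ∧ Cfsg.IsExtraspecial p ↥E ∧ Monoid.exponent ↥E = p))) :
    p ^ 4 ≤ Nat.card ↥E := by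
  by_contra hlt
  push Not at hlt
  have hp2 : p ≠ 2 := by omega
  obtain ⟨hc, hab, hexp⟩ := LocalFlavell.MaxClass.Shapes.shape hS hp2 hE hlt hnp
  have hcl : Group.nilpotencyClass ↥S = n - 1 := by
    rw [PGroups.MaximalClass.class_eq_iff (p := p) (by omega) hn]
    intro e
    refine hmax ?_
    rw [← Subgroup.top_subtype_lowerCentralSeries]
    exact (Subgroup.map_eq_bot_iff_of_injective _ S.subtype_injective).mpr e
  obtain ⟨-, hsat, hess⟩ := LocalFlavell.MaxClass.Push.essential hS hF hE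
  refine LocalFlavell.MaxClass.Setting.false (E := E.subgroupOf S) (n := n) ⟨hS, hsat, hess, ?_, ?_, ?_⟩
    ⟨by omega, hn, hcl⟩ h5 hp
  · rw [Nat.card_congr (Subgroup.subgroupOfEquivOfLe hE.1.1).toEquiv, hc]
  · exact fun a ha b hb => Subtype.ext (hab a ha b hb)
  · exact fun a ha => Subtype.ext (by simpa using hexp a ha)

end Cfsg.Agent.S5316
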