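import Cfsg.Statements.S5320
import Cfsg.Agent.Lib.Fusion.SimpleSpFour.Main
import Cfsg.Agent.Lib.Classical.Symplectic

set_option autoImplicit false
open Cfsg

namespace Cfsg.Agent.S5320

/-- For a finite field F of odd order, the 2-fusion system of the projective symplectic group PSp(4,F) on a Sylow 2-subgroup is simple. -/
theorem result {F : Type*} [Field F] [Fintype F] (hodd : Fintype.card F % 2 = 1) (S : Sylow 2 (Cfsg.PSp 2 F)) :
    (Cfsg.groupFusionSystem (S : Subgroup (Cfsg.PSp 2 F))).IsSimple 2 := by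
  refine Agent.Fusion.SimpleSpFour.isSimple_of_kerPM (Nat.odd_iff.2 hodd)
    (φ := QuotientGroup.mk' _) (fun A => ?_) (QuotientGroup.mk'_surjective _) S
  rw [QuotientGroup.mk'_apply, QuotientGroup.eq_one_iff, Agent.Classical.Symplectic.mem_center_iff]
  constructor
  · rintro ⟨a, ha⟩
    have hA : (A : Matrix (Fin 2 ⊕ Fin 2) (Fin 2 ⊕ Fin 2) F) = a • 1 :=
      Matrix.ext_iff_mulVec.2 fun v => by rw [ha, Matrix.smul_mulVec, Matrix.one_mulVec]
    have h := SymplecticGroup.mem_iff.1 A.2
    rw [hA, Matrix.transpose_smul, Matrix.transpose_one] at h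
    simp only [smul_mul_assoc, mul_smul_comm, one_mul, mul_one, smul_smul] at h
    have h' := congrFun (congrFun h (Sum.inr 0)) (Sum.inl 0)
    simp [Matrix.J] at h'
    rcases mul_self_eq_one_iff.1 h' with rfl | rfl
    · exact Or.inl (by rw [hA, one_smul])
    · exact Or.inr (by rw [hA, neg_smul, one_smul])
  · rintro (h | h)
    · exact ⟨1, fun v => by rw [h, Matrix.one_mulVec, one_smul]⟩
    · exact ⟨-1, fun v => by rw [h, Matrix.neg_mulVec, Matrix.one_mulVec, neg_smul, one_smul]⟩

end Cfsg.Agent.S5320
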