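import Cfsg.Statements.S5321
import Cfsg.Agent.Lib.IcoLeech.Cent
import Cfsg.Agent.Lib.LargeExtra.FusionSimple

set_option autoImplicit false
open Cfsg

namespace Cfsg.Agent.S5321

open Cfsg.Agent.IcoLeech

theorem index_CJ_odd : ¬ 2 ∣ (Subgroup.centralizer ({zJ} : Set Cfsg.Spor.J2)).index := by
  haveI := finite_J2
  have h : Nat.card CJ = 1920 := by
    rw [Subgroup.card_eq_card_quotient_mul_card_subgroup QJ, card_QJ, Nat.card_congr quotEquiv.toEquiv,
      show Nat.card (alternatingGroup (Fin 5)) = 60 by rw [Nat.card_eq_fintype_card]; decide +kernel]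
  have h1 := Subgroup.card_mul_index CJ
  rw [h, card_J2] at h1
  show ¬ 2 ∣ CJ.index
  omega

/-- For a finite group G isomorphic to the Hall–Janko group J₂ (as constructed in the problem's definitions), the 2-fusion system of G on a Sylow 2-subgroup is simple: saturated, over a nontrivial 2-group, with no normal subsystem other than the trivial one and itself. -/
theorem result {G : Type*} [Group G] [Finite G] (hG : Cfsg.Spor.IsoJ2 G) (S : Sylow 2 G) : (Cfsg.groupFusionSystem (S : Subgroup G)).IsSimple 2 := by
  obtain ⟨ψ⟩ := hG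
  haveI := finite_J2
  exact Cfsg.Agent.LargeExtra.FusionSimple.isSimple dataJ index_CJ_odd quotEquiv ψ S

end Cfsg.Agent.S5321
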