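import Cfsg.Statements.S5328
import Cfsg.Agent.Lib.Fusion.BisetTransfer

set_option autoImplicit false
universe u
open Cfsg

namespace Cfsg.Agent.S5328

open Cfsg.FusionSystem Cfsg.Agent.Fusion.Basic Cfsg.Agent.Fusion.Saturation Cfsg.Agent.Fusion.Marks Cfsg.Agent.Fusion.Biset Cfsg.Agent.Fusion.BisetTransfer MulAction

variable {Ω : Type u} [Group Ω] {S : Subgroup Ω} [Finite S] {F : FusionSystem S}

/-- A point whose stabilizer is the diagonal. -/
def HasDiag (S : Subgroup Ω) (X : Type u) [MulAction (↥S × ↥S) X] : Prop :=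
  ∃ x : X, ∀ w : ↥S × ↥S, w • x = x ↔ w.1 = w.2

theorem exists_step {n : ℕ} {X : Type u} [MulAction (↥S × ↥S) X] [Finite X] (hX : HasTwists F X)
    (hd : HasDiag S X) {T : Subgroup Ω → ℕ} (hT : IsInv F T) (hst : StableAbove F n X T) :
    ∃ (Y : Type u) (_ : MulAction (↥S × ↥S) Y) (_ : Finite Y) (T' : Subgroup Ω → ℕ),
      HasTwists F Y ∧ HasDiag S Y ∧ IsInv F T' ∧
      ∀ Q f (hf : IsMap F Q f), n ≤ Nat.card Q → mark (graph hf) Y = T' Q := by
  classical
  set L := Nat.card (↥S × ↥S) with hL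
  let T' : Subgroup Ω → ℕ := fun Q => if Nat.card Q = n then L * Nat.card X else L * T Q
  have hT' : IsInv F T' := fun Q f hf => by simp only [T', hf.card_img, hT Q f hf]
  let Tw := {K : Subgroup (↥S × ↥S) // IsTwist F K ∧ Nat.card K = n}
  let r : Setoid Tw := ⟨fun K K' => ∃ c, K.1.map (MulAut.conj c).toMonoidHom = K'.1,
    fun K => ⟨1, by ext z; simp⟩,
    fun {K K'} ⟨c, hc⟩ => ⟨c⁻¹, by
      rw [← hc, Subgroup.map_map]
      convert Subgroup.map_id K.1 using 2
      ext z <;> simp [mul_assoc]⟩,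
    fun {K K' K''} ⟨c, hc⟩ ⟨d, hd⟩ => ⟨d * c, by
      rw [← hd, ← hc, Subgroup.map_map]
      congr 1
      ext z <;> simp [mul_assoc]⟩⟩
  have : Finite Tw := Subtype.finite
  have : Fintype (Quotient r) := Fintype.ofFinite _
  have hdata : ∀ c : Quotient r, ∃ k : ℕ,
      L * mark c.out.1 X + k * mark c.out.1 ((↥S × ↥S) ⧸ c.out.1) = L * Nat.card X := by
    intro c
    obtain ⟨d, hd⟩ : mark c.out.1 ((↥S × ↥S) ⧸ c.out.1) ∣ L := by
      rw [mark_quotient_self]
      exact dvd_trans (Subgroup.index_dvd_card _) (Subgroup.card_subgroup_dvd_card _)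
    obtain ⟨e, he⟩ : ∃ e, Nat.card X = mark c.out.1 X + e := Nat.exists_eq_add_of_le
      (Nat.card_le_card_of_injective (fun x => x.1) fun a b h => Subtype.ext h)
    exact ⟨d * e, by rw [he, hd]; ring⟩
  choose k hk using hdata
  let ι := Σ c : Quotient r, Fin (k c)
  let U := Σ _ : Fin L, X
  let V := Σ i : ι, (↥S × ↥S) ⧸ i.1.out.1
  have hinl : ∀ (l : Fin L) (x : X),
      stabilizer (↥S × ↥S) (Sum.inl ⟨l, x⟩ : U ⊕ V) = stabilizer (↥S × ↥S) x := fun l x =>
    Subgroup.ext fun g => by simp [U, mem_stabilizer_iff]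
  refine ⟨U ⊕ V, inferInstance, inferInstance, T', ?_, ?_, hT', ?_⟩
  · rintro (⟨l, x⟩ | ⟨i, y⟩)
    · rw [hinl]
      exact hX x
    · have : stabilizer (↥S × ↥S) (Sum.inr ⟨i, y⟩ : U ⊕ V) = stabilizer (↥S × ↥S) y :=
        Subgroup.ext fun g => by simp [V, mem_stabilizer_iff]
      rw [this]
      obtain ⟨g, rfl⟩ := QuotientGroup.mk_surjective y
      refine isTwist_of_le (isTwist_conj i.1.out.2.1 g) fun z hz => ⟨g⁻¹ * z * g, ?_, by simp [mul_assoc]⟩
      exact (le_stabilizer_quotient_iff g).1 le_rfl z hz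
  · obtain ⟨x, hx⟩ := hd
    refine ⟨Sum.inl ⟨⟨0, Nat.card_pos⟩, x⟩, fun w => ?_⟩
    rw [← mem_stabilizer_iff, hinl, mem_stabilizer_iff, hx]
  · intro Q f hf hnQ
    have hcl : ∀ i : ι, Nat.card i.1.out.1 = n := fun i => i.1.out.2.2
    rw [mark_sum, mark_sigma, mark_sigma, Finset.sum_const, Finset.card_univ, Fintype.card_fin,
      smul_eq_mul]
    rcases lt_or_eq_of_le hnQ with hlt | heq
    · rw [show T' Q = L * T Q from if_neg hlt.ne', hst Q f hf hlt, add_eq_left]
      refine Finset.sum_eq_zero fun i _ => ?_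
      by_contra hne
      have := (card_le_of_mark_quotient hne).1
      rw [card_graph, hcl] at this
      exact absurd this (not_le.2 hlt)
    · let K : Tw := ⟨graph hf, ⟨Q, f, hf, rfl⟩, (card_graph hf).trans heq.symm⟩
      set c0 := Quotient.mk r K with hc0
      obtain ⟨d, hd⟩ : r.r c0.out K := Quotient.exact (Quotient.out_eq c0)
      have hsame : ∀ (Z : Type u) [MulAction (↥S × ↥S) Z],
          mark (graph hf) Z = mark c0.out.1 Z := fun Z _ => by
        rw [show graph hf = K.1 from rfl, ← hd, mark_map_conj]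
      rw [show T' Q = L * Nat.card X from if_pos heq.symm, ← hk c0, hsame X]
      congr 1
      rw [Fintype.sum_sigma, Finset.sum_eq_single c0]
      · show ∑ _x : Fin (k c0), mark (graph hf) ((↥S × ↥S) ⧸ c0.out.1) = _
        rw [hsame, Finset.sum_const, Finset.card_univ, Fintype.card_fin, smul_eq_mul]
      · intro c _ hc
        refine Finset.sum_eq_zero fun j _ => ?_
        by_contra hne
        obtain ⟨e, he⟩ := mark_orbit_eq_zero_or hne (by rw [c.out.2.2, card_graph]; omega)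
        exact hc (by rw [← Quotient.out_eq c]; exact Quotient.sound ⟨e, he⟩)
      · intro h; exact absurd (Finset.mem_univ c0) h

theorem exists_stable_biset :
    ∃ (X : Type u) (_ : MulAction (↥S × ↥S) X) (_ : Finite X) (T : Subgroup Ω → ℕ),
      HasTwists F X ∧ HasDiag S X ∧ IsInv F T ∧
      ∀ Q f (hf : IsMap F Q f), mark (graph hf) X = T Q := by
  suffices ∀ k : ℕ, ∃ (X : Type u) (_ : MulAction (↥S × ↥S) X) (_ : Finite X) (T : Subgroup Ω → ℕ),
      HasTwists F X ∧ HasDiag S X ∧ IsInv F T ∧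
      StableAbove F (Nat.card S - k) X T by
    obtain ⟨X, i, j, T, h1, h2, h3, h4⟩ := this (Nat.card S)
    exact ⟨X, i, j, T, h1, h2, h3, fun Q f hf => h4 Q f hf (by
      have := finite_of_le hf.le
      rw [Nat.sub_self]; exact Nat.card_pos)⟩
  intro k
  induction k with
  | zero =>
    set Δ := graph (isMap_id (F := F) (le_refl S)) with hΔ
    refine ⟨(↥S × ↥S) ⧸ Δ, inferInstance, inferInstance, fun _ => 0, fun x => ?_, ?_,
      fun _ _ _ => rfl, fun Q f hf hQ => absurd (card_le_card hf.le) (not_le.2 hQ)⟩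
    · obtain ⟨g, rfl⟩ := QuotientGroup.mk_surjective x
      refine isTwist_of_le (isTwist_conj ⟨_, _, isMap_id (F := F) (le_refl S), rfl⟩ g)
        fun z hz => ⟨g⁻¹ * z * g, ?_, by simp [mul_assoc]⟩
      exact (le_stabilizer_quotient_iff g).1 le_rfl z hz
    · refine ⟨((1 : ↥S × ↥S) : (↥S × ↥S) ⧸ Δ), fun w => ?_⟩
      rw [MulAction.Quotient.smul_coe, smul_eq_mul, mul_one, eq_comm, QuotientGroup.eq, inv_one,
        one_mul, hΔ, mem_graph]
      exact ⟨fun h => Subtype.ext h.2.symm, fun h => ⟨w.1.2, congrArg Subtype.val h.symm⟩⟩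
  | succ k ih =>
    obtain ⟨X, i, j, T, h1, h2, h3, h4⟩ := ih
    obtain ⟨Y, i', j', T', g1, g2, g3, g4⟩ := exists_step h1 h2 h3 h4
    exact ⟨Y, i', j', T', g1, g2, g3, fun Q f hf hQ => g4 Q f hf (by omega)⟩

/-- Every fusion system over a finite p-group S, saturated or not, is realized inside some finite group: there is a finite group G and an injective homomorphism ι of S into G such that the maps of the system are exactly the homomorphisms between subgroups of S that become conjugations by elements of G (the image of S need not be a Sylow p-subgroup of G). -/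
theorem result {Ω : Type u} [Group Ω] {S : Subgroup Ω} [Finite S] (p : ℕ) [Fact p.Prime] (hS : IsPGroup p S) (F : Cfsg.FusionSystem S) : ∃ (G : Type u) (_ : Group G) (_ : Finite G) (ι : ↥S →* G), F.IsRealizedBy ι := by
    classical
    obtain ⟨X, iX, fX, T, hX, ⟨x₀, hx₀⟩, hT, hmark⟩ := exists_stable_biset (F := F)
    let G : Subgroup (Equiv.Perm X) :=
      { carrier := {g | ∀ (s : ↥S) (x : X), g (((1, s) : ↥S × ↥S) • x) = ((1, s) : ↥S × ↥S) • g x}
        one_mem' := fun _ _ => rfl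
        mul_mem' := fun {a b} ha hb s x => by rw [Equiv.Perm.mul_apply, Equiv.Perm.mul_apply, hb, ha]
        inv_mem' := fun {a} ha s x => a.injective (by
          rw [ha, ← Equiv.Perm.mul_apply, ← Equiv.Perm.mul_apply, mul_inv_cancel]; rfl) }
    have hcomm : ∀ (u s : ↥S) (x : X), ((u, 1) : ↥S × ↥S) • ((1, s) : ↥S × ↥S) • x =
        ((1, s) : ↥S × ↥S) • ((u, 1) : ↥S × ↥S) • x := fun u s x => by
      rw [← mul_smul, ← mul_smul]; simp
    let ι : ↥S →* G := MonoidHom.mk' (fun u => ⟨MulAction.toPerm ((u, 1) : ↥S × ↥S), fun s x =>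
      hcomm u s x⟩) fun u v => Subtype.ext (Equiv.ext fun x => by
        show ((u * v, 1) : ↥S × ↥S) • x = ((u, 1) : ↥S × ↥S) • ((v, 1) : ↥S × ↥S) • x
        rw [← mul_smul]; simp)
    refine ⟨G, inferInstance, inferInstance, ι, fun u v huv => ?_, fun P hP φ hφ => ⟨fun h => ?_, ?_⟩⟩
    · have h1 : ((u, 1) : ↥S × ↥S) • x₀ = ((v, 1) : ↥S × ↥S) • x₀ :=
        congrArg (fun g : G => (g : Equiv.Perm X) x₀) huv
      have h2 : ((v⁻¹ * u, 1) : ↥S × ↥S) • x₀ = x₀ := by
        rw [show ((v⁻¹ * u, 1) : ↥S × ↥S) = ((v, 1) : ↥S × ↥S)⁻¹ * (u, 1) by simp, mul_smul, h1,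
          inv_smul_smul]
      exact (inv_mul_eq_one.1 ((hx₀ _).1 h2)).symm
    · have hf := IsMap.of_hom h
      obtain ⟨E, hE⟩ := exists_stable_equiv hX hT hmark hf
      have h1 : ∀ (b : ↥S) (z : X), E (((1, b) : ↥S × ↥S) • z) = ((1, b) : ↥S × ↥S) • E z := by
        intro b z
        have h := hE 1 b z
        have e1 : (⟨ext φ (1 : ↥P), hf.mem (1 : ↥P).2⟩ : ↥S) = 1 := Subtype.ext hf.map_one
        have e2 : (⟨((1 : ↥P) : Ω), hf.le (1 : ↥P).2⟩ : ↥S) = 1 := Subtype.ext rfl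
        rwa [e1, e2] at h
      refine ⟨⟨E, h1⟩, fun x => Subtype.ext (Equiv.ext fun z => ?_)⟩
      show ((⟨φ x, hφ x⟩, 1) : ↥S × ↥S) • z =
        E (((⟨x, hP x.2⟩, 1) : ↥S × ↥S) • E.symm z)
      rw [hE x, Equiv.apply_symm_apply,
        show (⟨ext φ x, hf.mem x.2⟩ : ↥S) = ⟨φ x, hφ x⟩ from Subtype.ext (ext_apply φ x)]
    · rintro ⟨g, hg⟩
      obtain ⟨Q, h, hh, he⟩ := hX ((g : Equiv.Perm X) x₀)
      have key : ∀ x : P, ∃ _ : φ x ∈ Q, h (φ x) = x := by
        intro x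
        have h1 := congrArg (fun k : G => (k : Equiv.Perm X)
          ((g : Equiv.Perm X) (((1, ⟨x, hP x.2⟩) : ↥S × ↥S) • x₀))) (hg x)
        change ((⟨φ x, hφ x⟩, 1) : ↥S × ↥S) • (g : Equiv.Perm X) (((1, ⟨x, hP x.2⟩) : ↥S × ↥S) • x₀) =
          (g : Equiv.Perm X) (((⟨x, hP x.2⟩, 1) : ↥S × ↥S) • (g : Equiv.Perm X).symm
            ((g : Equiv.Perm X) (((1, ⟨x, hP x.2⟩) : ↥S × ↥S) • x₀))) at h1
        rw [Equiv.symm_apply_apply, ← mul_smul, Prod.mk_mul_mk, one_mul, mul_one,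
          (hx₀ (⟨x, hP x.2⟩, ⟨x, hP x.2⟩)).2 rfl, g.2, ← mul_smul, Prod.mk_mul_mk, one_mul, mul_one] at h1
        obtain ⟨h2, h3⟩ := he.le h1
        exact ⟨h2, h3.symm⟩
      have hR : φ.range ≤ Q := by
        rintro _ ⟨x, rfl⟩
        exact (key x).1
      obtain ⟨k, hk, -, hke, -⟩ := (hh.restrict hR).exists_inv
      have hle : ∀ x : P, (x : Ω) ∈ img h φ.range := fun x => by
        rw [← (key x).2]
        exact mem_img_self h ⟨x, rfl⟩
      refine (hk.restrict (Q := P) fun x hx => hle ⟨x, hx⟩).hom_mem fun x => ?_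
      conv_rhs => rw [← (key x).2]
      rw [hke _ ⟨x, rfl⟩]

end Cfsg.Agent.S5328
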