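import Cfsg.Statements.S5329
import Cfsg.Agent.Lib.Fusion.BisetTransfer
import Cfsg.Agent.Lib.Fusion.Normal
import Cfsg.Agent.Lib.Fusion.Focal

set_option autoImplicit false
open Cfsg

namespace Cfsg.Agent.S5329

open Cfsg.FusionSystem Cfsg.Agent.Fusion.Basic Cfsg.Agent.Fusion.Saturation Cfsg.Agent.Fusion.Normal Cfsg.Agent.Fusion.Focal Cfsg.Agent.Fusion.BisetTransfer

/-- For a saturated fusion system F over a finite p-group S, the focal subgroup and the derived subgroup of S meet the centre Z(F) of the system in the same subgroup: foc(F) ∩ Z(F) = S′ ∩ Z(F). -/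
theorem result {Ω : Type*} [Group Ω] {S : Subgroup Ω} [Finite S] (p : ℕ) [Fact p.Prime] (hS : IsPGroup p S) (F : Cfsg.FusionSystem S) (hF : F.IsSaturated p) : F.focalSubgroup ⊓ F.center = ⁅(S : Subgroup Ω), (S : Subgroup Ω)⁆ ⊓ F.center := by
  refine le_antisymm (le_inf (fun z hz => ?_) inf_le_right) (inf_le_inf_right _ ?_)
  · have hzc : F.IsCentral F.center := center_isCentral
    have hzS : z ∈ S := hzc.1 hz.2
    obtain ⟨t, m, hm, hfoc, hev⟩ := exists_transfer_focal hS hF (Abelianization.of (G := ↥S))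
    have hfix : ∀ (Q : Subgroup Ω) (f : Ω → Ω), IsMap F Q f → ∀ y ∈ F.center, y ∈ Q → f y = y := by
      intro Q f hf y hy hyQ
      obtain ⟨g, -, hge, hgz⟩ := (isCentral_iff.1 hzc).2 Q f hf
      rw [← hge y hyQ, hgz y hy]
    have h1 := hev ⟨z, hzS⟩ fun Q f hf k hk => by
      rw [← map_zpow]
      exact congrArg _ (Subtype.ext ((hfix Q f hf _ (F.center.zpow_mem hz.2 k) hk).trans
        (Subgroup.coe_zpow _ (⟨z, hzS⟩ : ↥S) k).symm))
    obtain ⟨y, hy, hyz⟩ := hfoc hz.1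
    have hy' : y = ⟨z, hzS⟩ := Subtype.ext hyz
    subst hy'
    rw [SetLike.mem_coe, MonoidHom.mem_ker] at hy
    rw [hy, ← map_pow] at h1
    have h2 : (⟨z, hzS⟩ : ↥S) ^ m ∈ commutator ↥S := by
      rw [← QuotientGroup.eq_one_iff]
      exact h1.symm
    have h3 : (⟨z, hzS⟩ : ↥S) ∈ commutator ↥S := by
      obtain ⟨k, hk⟩ := hS ⟨z, hzS⟩
      have hc : m.Coprime (orderOf (⟨z, hzS⟩ : ↥S)) :=
        Nat.Coprime.coprime_dvd_right (orderOf_dvd_of_pow_eq_one hk) (hm.pow_right k)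
      obtain ⟨e, he⟩ := exists_pow_eq_self_of_coprime hc
      rw [← he]
      exact Subgroup.pow_mem _ h2 e
    have h4 : (commutator ↥S).map S.subtype = ⁅S, S⁆ := by
      rw [commutator_def, Subgroup.map_commutator, ← MonoidHom.range_eq_map, Subgroup.range_subtype]
    exact h4 ▸ ⟨⟨z, hzS⟩, h3, rfl⟩
  · exact commutator_le_focal

end Cfsg.Agent.S5329
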