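import Cfsg.Statements.S5331
import Cfsg.Agent.Lib.Fusion.Abelian

set_option autoImplicit false
open Cfsg

namespace Cfsg.Agent.S5331

open Cfsg.FusionSystem Cfsg.Agent.Fusion.Basic Cfsg.Agent.Fusion.Saturation Cfsg.Agent.Fusion.Abelian

theorem zmod_cases {k : ℕ} (hk : 1 ≤ k) {y : ZMod (2 ^ k)} (hy : (2 : ℕ) • y = 0) :
    y = 0 ∨ y = ((2 ^ (k - 1) : ℕ) : ZMod (2 ^ k)) := by
  obtain ⟨j, rfl⟩ : ∃ j, k = j + 1 := ⟨k - 1, by omega⟩
  obtain ⟨v, hv, rfl⟩ : ∃ v, v < 2 ^ (j + 1) ∧ ((v : ℕ) : ZMod (2 ^ (j + 1))) = y :=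
    ⟨y.val, y.val_lt, ZMod.natCast_zmod_val y⟩
  rw [nsmul_eq_mul, ← Nat.cast_mul, ZMod.natCast_eq_zero_iff, pow_succ'] at hy
  obtain ⟨c, rfl⟩ := Nat.dvd_of_mul_dvd_mul_left two_pos hy
  rw [pow_succ, Nat.mul_lt_mul_left (Nat.two_pow_pos j)] at hv
  interval_cases c
  · exact Or.inl (by simp)
  · exact Or.inr (by simp)

theorem trivial_of_odd {n : ℕ} {a : Fin n → ℕ} (ha : StrictMono a) (ha1 : ∀ i, 1 ≤ a i)
    (φ : ((i : Fin n) → ZMod (2 ^ a i)) ≃+ ((i : Fin n) → ZMod (2 ^ a i))) {m : ℕ} (hm : Odd m)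
    (hφ : ∀ x, φ^[m] x = x) (x : (i : Fin n) → ZMod (2 ^ a i)) : φ x = x := by
  have step : ∀ x d, φ x = x + d → φ d = d → (2 : ℕ) • d = 0 → d = 0 := by
    intro x d h1 h2 h3
    have h4 : ∀ k : ℕ, φ^[k] x = x + k • d := fun k => by
      induction k with
      | zero => simp
      | succ k ih =>
        rw [Function.iterate_succ_apply', ih, map_add, map_nsmul, h1, h2, succ_nsmul, add_assoc,
          add_comm d]
    have h5 := h4 m
    rw [hφ, left_eq_add] at h5
    obtain ⟨q, rfl⟩ := hm
    rwa [add_nsmul, mul_comm 2 q, mul_nsmul', h3, nsmul_zero, zero_add, one_nsmul] at h5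
  have hsocle : ∀ j : ℕ, ∀ x : (i : Fin n) → ZMod (2 ^ a i),
      (2 : ℕ) • x = 0 → (∀ l, a l ≤ j → x l = 0) → φ x = x := by
    intro j
    obtain ⟨M, hM⟩ : ∃ M, ∀ l, a l ≤ M := ⟨∑ l, a l, fun l =>
      Finset.single_le_sum (fun _ _ => Nat.zero_le _) (Finset.mem_univ l)⟩
    induction hk : M - j generalizing j with
    | zero =>
      intro x _ hx
      have : x = 0 := funext fun l => hx l ((hM l).trans (by omega))
      rw [this, map_zero]
    | succ k ih =>
      intro x h2 hx
      have ihj := ih (j + 1) (by omega)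
      have h2' : (2 : ℕ) • φ x = 0 := by rw [← map_nsmul, h2, map_zero]
      have hcase : ∀ y : (i : Fin n) → ZMod (2 ^ a i), (2 : ℕ) • y = 0 → ∀ l,
          y l = 0 ∨ y l = ((2 ^ (a l - 1) : ℕ) : ZMod (2 ^ a l)) := fun y hy l =>
        zmod_cases (ha1 l) (congrFun hy l)
      classical
      have hx' : ∀ l, a l ≤ j → φ x l = 0 := by
        intro l hl
        let u : (i : Fin n) → ZMod (2 ^ a i) := fun i =>
          if x i = 0 then 0 else ((2 ^ (a i - 1 - j) : ℕ) : ZMod (2 ^ a i))
        have hu : x = (2 ^ j) • u := funext fun i => by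
          by_cases h : x i = 0
          · simp [u, h]
          · have hji : j < a i := Nat.lt_of_not_le fun hh => h (hx i hh)
            simp only [Pi.smul_apply, u, if_neg h, nsmul_eq_mul, ← Nat.cast_mul, ← pow_add]
            rw [(hcase x h2 i).resolve_left h, show j + (a i - 1 - j) = a i - 1 by omega]
        rw [hu, map_nsmul, Pi.smul_apply, nsmul_eq_mul,
          (ZMod.natCast_eq_zero_iff _ _).2 (pow_dvd_pow 2 hl), zero_mul]
      by_cases hl : ∀ l, a l ≤ j + 1 → x l = 0
      · exact ihj x h2 hl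
      by_cases hl' : ∀ l, a l ≤ j + 1 → φ x l = 0
      · exact φ.injective (ihj _ h2' hl')
      simp only [not_forall, exists_prop] at hl hl'
      obtain ⟨l, hla, hl0⟩ := hl
      obtain ⟨l', hla', hl0'⟩ := hl'
      have e1 : a l = j + 1 := le_antisymm hla (Nat.lt_of_not_le fun h => hl0 (hx l h))
      have e2 : a l' = j + 1 := le_antisymm hla' (Nat.lt_of_not_le fun h => hl0' (hx' l' h))
      obtain rfl : l' = l := ha.injective (e2.trans e1.symm)
      have hd2 : (2 : ℕ) • (φ x - x) = 0 := by rw [nsmul_sub, h2, h2', sub_zero]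
      have hd : ∀ i, a i ≤ j + 1 → (φ x - x) i = 0 := by
        intro i hi
        rcases Nat.lt_or_eq_of_le hi with hlt | heq
        · simp [hx i (by omega), hx' i (by omega)]
        · obtain rfl : i = l' := ha.injective (heq.trans e1.symm)
          simp [(hcase x h2 i).resolve_left hl0, (hcase _ h2' i).resolve_left hl0']
      exact sub_eq_zero.1 (step x _ (by abel) (ihj _ hd2 hd) hd2)
  have hall : ∀ k : ℕ, ∀ x : (i : Fin n) → ZMod (2 ^ a i), (2 ^ k) • x = 0 → φ x = x := by
    intro k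
    induction k with
    | zero => intro x hx; rw [pow_zero, one_nsmul] at hx; rw [hx, map_zero]
    | succ k ih =>
      intro x hx
      have h1 : φ ((2 : ℕ) • x) = (2 : ℕ) • x := ih _ (by rw [← mul_nsmul', ← pow_succ]; exact hx)
      have h2 : (2 : ℕ) • (φ x - x) = 0 := by rw [nsmul_sub, ← map_nsmul, h1, sub_self]
      exact sub_eq_zero.1 (step x _ (by abel)
        (hsocle 0 _ h2 fun l hl => absurd (ha1 l) (by omega)) h2)
  refine hall (∑ l, a l) x (funext fun l => ?_)
  rw [Pi.smul_apply, nsmul_eq_mul, Pi.zero_apply, (ZMod.natCast_eq_zero_iff _ _).2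
    (pow_dvd_pow 2 (Finset.single_le_sum (fun _ _ => Nat.zero_le _) (Finset.mem_univ l))), zero_mul]

/-- Let S be a finite abelian 2-group that is a direct product of cyclic groups of pairwise distinct orders 2^{a_1} < 2^{a_2} < ⋯ < 2^{a_n} (all a_i ≥ 1). Then every saturated fusion system over S is the inner one: its maps are exactly the conjugations by elements of S. -/
theorem result {Ω : Type*} [Group Ω] {S : Subgroup Ω} [Finite S] (n : ℕ) (a : Fin n → ℕ) (ha : StrictMono a) (ha1 : ∀ i, 1 ≤ a i) (e : ↥S ≃* Multiplicative ((i : Fin n) → ZMod (2 ^ a i))) (F : Cfsg.FusionSystem S) (hF : F.IsSaturated 2) (P : Subgroup Ω) : F.Hom P = (Cfsg.innerFusionSystem S).Hom P := by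
    have : Fact (Nat.Prime 2) := ⟨Nat.prime_two⟩
    have hS : IsPGroup 2 ↥S := by
      refine IsPGroup.of_card (n := ∑ i, a i) ?_
      rw [Nat.card_congr e.toEquiv, Nat.card_congr Multiplicative.toAdd, Nat.card_pi]
      simp [Finset.prod_pow_eq_pow_sum]
    have hcomm : ∀ x y : ↥S, x * y = y * x := fun x y => e.injective (by rw [map_mul, map_mul, mul_comm])
    have hab : ∀ x ∈ S, ∀ y ∈ S, x * y = y * x := fun x hx y hy =>
      congrArg Subtype.val (hcomm ⟨x, hx⟩ ⟨y, hy⟩)
    have htriv : ∀ α ∈ F.autGroup S, α = 1 := by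
      intro α hα
      have hodd : Odd (orderOf α) := by
        rw [← Nat.not_even_iff_odd, even_iff_two_dvd]
        intro h
        refine not_dvd_card_autGroup hS hF hab (h.trans ?_)
        rw [show orderOf α = orderOf (⟨α, hα⟩ : F.autGroup S) from
          Subgroup.orderOf_coe (⟨α, hα⟩ : F.autGroup S)]
        exact orderOf_dvd_natCard _
      let φ := AddEquiv.toMultiplicative.symm (e.symm.trans (α.trans e))
      have hφ : ∀ z : ↥S, φ (Multiplicative.toAdd (e z)) = Multiplicative.toAdd (e (α z)) := by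
        intro z
        show Multiplicative.toAdd (e (α (e.symm (Multiplicative.ofAdd (Multiplicative.toAdd (e z)))))) = _
        simp
      have hφk : ∀ k : ℕ, ∀ z : ↥S,
          φ^[k] (Multiplicative.toAdd (e z)) = Multiplicative.toAdd (e ((α ^ k) z)) := by
        intro k
        induction k with
        | zero => intro z; rfl
        | succ k ih => intro z; rw [Function.iterate_succ_apply', ih, hφ, pow_succ', MulAut.mul_apply]
      have h := trivial_of_odd ha ha1 φ hodd fun x => by
        obtain ⟨z, rfl⟩ : ∃ z, Multiplicative.toAdd (e z) = x := ⟨e.symm (Multiplicative.ofAdd x), by simp⟩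
        rw [hφk, pow_orderOf_eq_one, MulAut.one_apply]
      refine MulEquiv.ext fun z => e.injective (Multiplicative.toAdd.injective ?_)
      rw [← hφ, h, MulAut.one_apply]
    ext φ
    constructor
    · intro hφ
      have hm := IsMap.of_hom hφ
      obtain ⟨α, hα, hαe⟩ := exists_aut hS hF hab hm
      refine ⟨hm.le, 1, S.one_mem, fun x => ?_⟩
      rw [← ext_apply φ x, ← hαe x x.2, htriv α hα, autFun_one]
      simp
    · rintro ⟨hP, g, hg, he⟩
      have hi : φ = conjHom P g := MonoidHom.ext he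
      rw [hi]
      exact F.conj_mem hP hg

end Cfsg.Agent.S5331
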