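import Cfsg.Statements.S5333
import Cfsg.Agent.Lib.Fusion.KNormalizer

set_option autoImplicit false
open Cfsg

namespace Cfsg.Agent.S5333

open Cfsg.FusionSystem Cfsg.Agent.Fusion.Basic Cfsg.Agent.Fusion.Saturation Cfsg.Agent.Fusion.KNormalizer

/-- Let F′ ≤ F be saturated fusion systems over the same finite p-group S. Suppose that for every subgroup Z ≤ S of order p that is fully centralized in F′, the maps of F and of F′ with source Z coincide and the centralizer systems C_F(Z) and C_{F′}(Z) coincide. Then F = F′. -/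
theorem result {Ω : Type*} [Group Ω] {S : Subgroup Ω} [Finite S] (p : ℕ) [Fact p.Prime] (hS : IsPGroup p S) (F : Cfsg.FusionSystem S) (hF : F.IsSaturated p) (F' : Cfsg.FusionSystem S) (hF' : F'.IsSaturated p) (hle : F' ≤ F) (hZ : ∀ Z : Subgroup Ω, Z ≤ S → Nat.card Z = p → F'.IsFullyCentralized Z → F.Hom Z = F'.Hom Z ∧ ∀ (C C' : Cfsg.FusionSystem (Cfsg.FusionSystem.centralizerIn S Z)), F.IsCentralizerSystem Z C → F'.IsCentralizerSystem Z C' → ∀ P : Subgroup Ω, C.Hom P = C'.Hom P) (P : Subgroup Ω) : F.Hom P = F'.Hom P := by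
    refine Set.Subset.antisymm (fun φ hφ => ?_) (hle P)
    have hf := IsMap.of_hom hφ
    have hP : P ≤ S := hf.le
    refine (?_ : IsMap F' P (ext φ)).hom_mem fun x => (ext_apply φ x).symm
    rcases eq_or_ne P ⊥ with rfl | hne
    · exact (isMap_id bot_le).congr fun x hx => by
        rw [Subgroup.mem_bot.1 hx, hf.map_one]; rfl
    have hfinP : Finite P := finite_of_le hP
    have hPp : IsPGroup p P := hS.to_le hP
    have : Nontrivial P := (Subgroup.nontrivial_iff_ne_bot P).2 hne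
    have := hPp.center_nontrivial
    obtain ⟨z, hzc, hzo⟩ : ∃ z : P, z ∈ Subgroup.center P ∧ orderOf z = p := by
      obtain ⟨n, hn, hcard⟩ := (hPp.to_subgroup (Subgroup.center P)).nontrivial_iff_card.1 inferInstance
      obtain ⟨w, hw⟩ := exists_prime_orderOf_dvd_card' (G := Subgroup.center P) p
        (hcard ▸ dvd_pow_self p (by omega))
      exact ⟨w, w.2, by rw [Subgroup.orderOf_coe, hw]⟩
    set Z := Subgroup.zpowers (z : Ω) with hZdef
    have hZP : Z ≤ P := Subgroup.zpowers_le.2 z.2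
    have hPC : ∀ {g : Ω → Ω}, IsMap F P g → ∀ x ∈ P, g x ∈ centralizerIn S (img g Z) := by
      intro g hg x hx
      refine ⟨hg.mem hx, hg.mem_centralizer_img hZP hx ?_⟩
      rw [Subgroup.mem_centralizer_iff]
      intro y hy
      obtain ⟨k, rfl⟩ := hy
      exact (Commute.zpow_left (show Commute (z : Ω) x from
        (congrArg Subtype.val (Subgroup.mem_center_iff.1 hzc ⟨x, hx⟩)).symm) k).eq
    obtain ⟨Z0, hZZ0, hZ0⟩ := exists_fullyCentralized (F := F') (hZP.trans hP)
    obtain ⟨f₁, hf₁, rfl⟩ := isConj_iff_map.1 hZZ0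
    have hcard : Nat.card (img f₁ Z : Subgroup Ω) = p := by
      rw [hf₁.card_img, Nat.card_zpowers, Subgroup.orderOf_coe, hzo]
    obtain ⟨hHom, hC⟩ := hZ _ hf₁.img_le_S hcard hZ0
    -- move `P` so that `Z` becomes fully centralized
    obtain ⟨ψ, hψ, hψe⟩ := exists_extension hS hF' hf₁ hZ0
    have hψP : IsMap F' P ψ := hψ.restrict fun x hx => centralizerIn_le_nSub (by
      have := hPC (isMap_id hP) x hx
      rwa [img_id] at this)
    have hψZ : img ψ Z = img f₁ Z := img_congr hψe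
    obtain ⟨k, hk, hkimg, hkψ, hψk⟩ := hψP.exists_inv
    have hkF : IsMap F (img ψ P) k := isMap_mono hle hk
    have hχ : IsMap F (img ψ P) (fun y => ext φ (k y)) :=
      hf.comp hkF fun y hy => by rw [← hkimg]; exact mem_img_self k hy
    have hZ0le : img f₁ Z ≤ img ψ P := hψZ ▸ img_mono ψ hZP
    -- its restriction to `Z` lies in the small system
    have hχ0 : IsMap F' (img f₁ Z) (fun y => ext φ (k y)) := by
      obtain ⟨χ₀, hχ₀, he⟩ := hχ.restrict hZ0le
      exact ⟨χ₀, hHom ▸ hχ₀, he⟩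
    obtain ⟨l, hl, hlimg, hlχ, -⟩ := hχ0.exists_inv
    have himgW : img (fun y => ext φ (k y)) (img f₁ Z) = img (ext φ) Z := by
      refine le_antisymm (img_le fun y hy => ?_) (img_le fun x hx => ?_)
      · rw [← hψZ] at hy
        obtain ⟨x, hx, rfl⟩ := (hψP.restrict hZP).mem_img.1 hy
        rw [hkψ x (hZP hx)]
        exact mem_img_self _ hx
      · have h1 := mem_img_self (fun y => ext φ (k y)) (show ψ x ∈ img f₁ Z from hψZ ▸ mem_img_self ψ hx)
        rwa [hkψ x (hZP hx)] at h1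
    rw [himgW] at hl hlimg
    obtain ⟨τ, hτ, hτe⟩ := exists_extension hS hF' hl (hlimg.symm ▸ hZ0)
    have hτP : IsMap F' (img (ext φ) P) τ := hτ.restrict (img_le fun x hx =>
      centralizerIn_le_nSub (hPC hf x hx))
    -- the composite fixes the central subgroup
    have hmem : ∀ y ∈ img ψ P, ext φ (k y) ∈ img (ext φ) P := fun y hy =>
      mem_img_self _ (by rw [← hkimg]; exact mem_img_self k hy)
    have hθ : IsMap F (img ψ P) (fun y => τ (ext φ (k y))) := (isMap_mono hle hτP).comp hχ hmem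
    have hfix : ∀ y ∈ img f₁ Z, τ (ext φ (k y)) = y := by
      intro y hy
      have h1 : ext φ (k y) ∈ img (ext φ) Z := himgW ▸ mem_img_self (fun y => ext φ (k y)) hy
      rw [hτe _ h1]
      exact hlχ y hy
    have hPC' : ∀ y ∈ img ψ P, y ∈ centralizerIn S (img f₁ Z) := fun y hy => by
      obtain ⟨x, hx, rfl⟩ := hψP.mem_img.1 hy
      rw [← hψZ]
      exact hPC (isMap_mono hle hψP) x hx
    have hθC : ∀ y ∈ img ψ P, τ (ext φ (k y)) ∈ centralizerIn S (img f₁ Z) := by
      intro y hy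
      refine ⟨hθ.mem hy, ?_⟩
      intro w hw
      have h := congrArg (fun y => τ (ext φ (k y))) ((hPC' y hy).2 w hw)
      simp only [hθ.map_mul (hZ0le hw) hy, hθ.map_mul hy (hZ0le hw), hfix w hw] at h
      exact h
    obtain ⟨C, hC1⟩ := exists_centralizerSystem (F := F) hf₁.img_le_S
    obtain ⟨C', hC2⟩ := exists_centralizerSystem (F := F') hf₁.img_le_S
    have hsup : img ψ P ⊔ img f₁ Z = img ψ P := sup_eq_left.2 hZ0le
    have hθ' : IsMap F (img ψ P ⊔ img f₁ Z) (fun y => τ (ext φ (k y))) := hsup.symm ▸ hθ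
    have hmemF : hθ.hom ∈ F.centralizerHom (img f₁ Z) (img ψ P) :=
      ⟨hθ.hom_mem_self, hPC', fun y => hθC y y.2, hθ'.hom, hθ'.hom_mem_self, fun y => rfl,
        fun y => hfix y y.2⟩
    rw [← hC1, hC C C' hC1 hC2, hC2] at hmemF
    obtain ⟨hθF', -⟩ := hmemF
    have hθ'' : IsMap F' (img ψ P) (fun y => τ (ext φ (k y))) := ⟨hθ.hom, hθF', fun _ => rfl⟩
    obtain ⟨t, ht, htimg, htτ, -⟩ := hτP.exists_inv
    have h1 : IsMap F' P (fun x => τ (ext φ (k (ψ x)))) :=
      hθ''.comp hψP fun x hx => mem_img_self ψ hx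
    have h2 : ∀ x ∈ P, τ (ext φ (k (ψ x))) ∈ img τ (img (ext φ) P) := fun x hx =>
      mem_img_self τ (hmem _ (mem_img_self ψ hx))
    refine (ht.comp h1 h2).congr fun x hx => ?_
    show t (τ (ext φ (k (ψ x)))) = ext φ x
    rw [hkψ x hx, htτ _ (mem_img_self _ hx)]

end Cfsg.Agent.S5333
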