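import Cfsg.Statements.S5334
import Cfsg.Agent.Lib.Fusion.SubSame

set_option autoImplicit false
open Cfsg

namespace Cfsg.Agent.S5334

open Cfsg.FusionSystem Cfsg.Agent.Fusion.Basic Cfsg.Agent.Fusion.Saturation Cfsg.Agent.Fusion.SubSame

/-- Let F′ ≤ F be saturated fusion systems over the same finite p-group S, let Q and R be F-centric subgroups, φ a map of F with source Q and values in R, and ψ a map of F with source R. If two of φ, ψ and the composite ψ ∘ φ are maps of F′ then so is the third. -/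
theorem result {Ω : Type*} [Group Ω] {S : Subgroup Ω} [Finite S] (p : ℕ) [Fact p.Prime] (hS : IsPGroup p S) (F : Cfsg.FusionSystem S) (hF : F.IsSaturated p) (F' : Cfsg.FusionSystem S) (hF' : F'.IsSaturated p) (hle : F' ≤ F) (Q R : Subgroup Ω) (hQ : F.IsCentric Q) (hR : F.IsCentric R) (φ : ↥Q →* Ω) (hφ : φ ∈ F.Hom Q) (hφR : ∀ x : Q, φ x ∈ R) (ψ : ↥R →* Ω) (hψ : ψ ∈ F.Hom R) : (φ ∈ F'.Hom Q → ψ ∈ F'.Hom R → ψ.comp (φ.codRestrict R hφR) ∈ F'.Hom Q) ∧ (ψ ∈ F'.Hom R → ψ.comp (φ.codRestrict R hφR) ∈ F'.Hom Q → φ ∈ F'.Hom Q) ∧ (φ ∈ F'.Hom Q → ψ.comp (φ.codRestrict R hφR) ∈ F'.Hom Q → ψ ∈ F'.Hom R) := by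
  have hm := IsMap.of_hom hφ
  have hle' : ∀ x ∈ Q, ext φ x ∈ R := fun x hx => by rw [ext_of_mem φ hx]; exact hφR _
  refine ⟨fun h1 h2 => F'.comp_mem h1 h2 hφR, fun h1 h2 => ?_, fun h1 h2 => ?_⟩
  · obtain ⟨g, hg, hgimg, hgψ, -⟩ := (IsMap.of_hom h1).exists_inv
    have hc := IsMap.of_hom h2
    refine (hg.comp hc fun x hx => ?_).hom_mem fun x => ?_
    · rw [ext_of_mem _ hx]
      show ψ ⟨φ ⟨x, hx⟩, hφR _⟩ ∈ _
      rw [← ext_apply ψ]
      exact mem_img_self _ (hφR _)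
    · rw [ext_apply]
      show φ x = g (ψ ⟨φ x, hφR x⟩)
      rw [← ext_apply ψ]
      exact (hgψ _ (hφR x)).symm
  · obtain ⟨g, hg, hgimg, hgφ, hφg⟩ := (IsMap.of_hom h1).exists_inv
    have hc := IsMap.of_hom h2
    have hx : IsMap F' (img (ext φ) Q) (ext ψ) := by
      refine (hc.comp hg fun y hy => hgimg.le (mem_img_self g hy)).congr fun y hy => ?_
      have hgy : g y ∈ Q := hgimg.le (mem_img_self g hy)
      rw [ext_of_mem _ hgy]
      show ψ ⟨φ ⟨g y, hgy⟩, hφR _⟩ = ext ψ y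
      rw [← ext_apply ψ]
      show ext ψ (φ ⟨g y, hgy⟩) = ext ψ y
      rw [← ext_apply φ ⟨g y, hgy⟩]
      exact congrArg (ext ψ) (hφg y hy)
    exact (centric_extend hS hF hF' hle (centric_conj hQ hm.isConj) (img_le hle') (IsMap.of_hom hψ)
      hx).hom_mem fun x => (ext_apply ψ x).symm

end Cfsg.Agent.S5334
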