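import Cfsg.Statements.S5336
import Cfsg.Agent.S5118
import Cfsg.Agent.Lib.PLocal.Cores
import Cfsg.Agent.Lib.Fusion.SylIn

set_option autoImplicit false
open Cfsg

namespace Cfsg.Agent.S5336

open Cfsg.FusionSystem Cfsg.Agent.Fusion Cfsg.Agent.Fusion.SylIn Cfsg.Agent.PLocal.Cores

/-- Let G be a finite group with Sylow p-subgroup S whose fusion system F_S(G) is simple. If G has no nontrivial normal subgroup of order prime to p and no proper subgroup H containing S induces the same fusion system on S as G does, then G is a simple group. -/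
theorem result {G : Type*} [Group G] [Finite G] (p : ℕ) [Fact p.Prime] (S : Sylow p G) (hsimple : (Cfsg.groupFusionSystem (S : Subgroup G)).IsSimple p) (hcore : Cfsg.pPrimeCore p G = ⊥) (hmin : ∀ (H : Subgroup G) (hSH : (S : Subgroup G) ≤ H), H ≠ ⊤ → ∃ P : Subgroup G, (Cfsg.fusionSystemOfSubgroup H (S : Subgroup G) hSH).Hom P ≠ (Cfsg.groupFusionSystem (S : Subgroup G)).Hom P) : IsSimpleGroup G := by
    obtain ⟨hsat, hS1, hmin'⟩ := hsimple
    have : Nontrivial G := by
      by_contra h
      rw [not_nontrivial_iff_subsingleton] at h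
      exact hS1 (Subsingleton.elim _ _)
    refine ⟨fun N hN => ?_⟩
    set T := (S : Subgroup G) ⊓ N with hT
    have hnormal := Cfsg.Agent.S5118.result p S N
    rcases hmin' T _ hnormal with h | ⟨h, hHom⟩
    · left
      have hsyl : SylIn p T N := (of_sylow S).inf_normal le_top (by rw [Subgroup.normalizer_eq_top])
      have hco : (Nat.card N).Coprime p := by
        have h1 := hsyl.2.2
        rw [h, Subgroup.relIndex_bot_left] at h1
        exact ((Fact.out : p.Prime).coprime_iff_not_dvd.2 h1).symm
      exact le_bot_iff.1 (hcore ▸ le_pPrimeCore hco)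
    · right
      by_contra hne
      have hSN : (S : Subgroup G) ≤ N := h ▸ inf_le_right
      obtain ⟨P, hP⟩ := hmin N hSN hne
      refine hP (Eq.trans ?_ (hHom P))
      have key : ∀ (A B : Subgroup G) (hA : A ≤ N) (hB : B ≤ N), A = B →
          (fusionSystemOfSubgroup N A hA).Hom P = (fusionSystemOfSubgroup N B hB).Hom P := by
        rintro A B hA hB rfl
        rfl
      exact key _ _ _ _ h.symm

end Cfsg.Agent.S5336
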