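import Cfsg.Statements.S5338
import Cfsg.Agent.Lib.Fusion.SubSame
import Cfsg.Agent.Lib.Fusion.Factor

set_option autoImplicit false
open Cfsg

namespace Cfsg.Agent.S5338

open Cfsg.FusionSystem Cfsg.Agent.Fusion.Basic Cfsg.Agent.Fusion.Saturation Cfsg.Agent.Fusion.SubSame

/-- Let F be a saturated fusion system over a finite p-group S and F′ ≤ F a saturated subsystem over all of S that is invariant under F in the conjugation sense: for every map φ of F with source Q and every map ψ of F′ between subgroups R ≤ Q (with values in Q), the transported map φψφ⁻¹ defined on φ(R) is again a map of F′. If moreover Aut_{F′}(S) = Aut_F(S), then F′ = F. -/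
theorem result {Ω : Type*} [Group Ω] {S : Subgroup Ω} [Finite S] (p : ℕ) [Fact p.Prime] (hS : IsPGroup p S) (F : Cfsg.FusionSystem S) (hF : F.IsSaturated p) (F' : Cfsg.FusionSystem S) (hF' : F'.IsSaturated p) (hle : F' ≤ F) (hinv : ∀ (Q : Subgroup Ω) (φ : ↥Q →* Ω), φ ∈ F.Hom Q → ∀ (R : Subgroup Ω) (hRQ : R ≤ Q) (ψ : ↥R →* Ω), ψ ∈ F'.Hom R → ∀ (hψQ : ∀ x : R, ψ x ∈ Q), ∃ χ ∈ F'.Hom ((R.subgroupOf Q).map φ), ∀ (x : R) (hx : φ ⟨(x : Ω), hRQ x.2⟩ ∈ (R.subgroupOf Q).map φ), χ ⟨φ ⟨(x : Ω), hRQ x.2⟩, hx⟩ = φ ⟨ψ x, hψQ x⟩) (htop : F'.autGroup S = F.autGroup S) (P : Subgroup Ω) : F'.Hom P = F.Hom P := by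
  refine Set.Subset.antisymm (hle P) (le_of_normal_autGroup hS hF ?_ htop.ge P)
  intro R hR a ha b hb
  have hma := isMap_of_mem_autGroup hR ha
  have hmb := isMap_of_mem_autGroup hR hb
  obtain ⟨χ, hχ, he⟩ := hinv R hma.hom hma.hom_mem_self R le_rfl hmb.hom hmb.hom_mem_self
    fun x => autFun_mem b x.2
  have hdom : (R.subgroupOf R).map hma.hom = R := by
    rw [map_subgroupOf_eq_img (f := autFun a) (fun x => rfl) le_rfl, autFun_img]
  refine (mem_autGroup_iff hR).2 ((Cfsg.Agent.Fusion.Factor.isMap_of_eq hdom (IsMap.of_hom hχ)).congr fun y hy => ?_)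
  have hy' := autFun_mem a⁻¹ hy
  have hmem : hma.hom ⟨autFun a⁻¹ y, hy'⟩ ∈ (R.subgroupOf R).map hma.hom := ⟨_, hy', rfl⟩
  have h1 := he ⟨autFun a⁻¹ y, hy'⟩ hmem
  have h2 : hma.hom ⟨autFun a⁻¹ y, hy'⟩ = y := autFun_apply_inv a y
  have h3 : ext χ (hma.hom ⟨autFun a⁻¹ y, hy'⟩) = _ := (ext_of_mem χ hmem).trans h1
  rw [h2] at h3
  rw [h3, autFun_mul, autFun_mul]
  rfl

end Cfsg.Agent.S5338
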