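import Cfsg.Statements.S5340
import Cfsg.Agent.Lib.Fusion.Subsystems

set_option autoImplicit false
open Cfsg

namespace Cfsg.Agent.S5340

open Cfsg.FusionSystem Cfsg.Agent.Fusion.Basic Cfsg.Agent.Fusion.Saturation Cfsg.Agent.Fusion.Subsystems

/-- Let F be a saturated fusion system over a nontrivial finite p-group S such that S is generated by its elements of order p, any two subgroups of S of order p are F-conjugate, and Aut_F(S) consists of inner automorphisms only. Then F is simple. -/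
theorem result {Ω : Type*} [Group Ω] {S : Subgroup Ω} [Finite S] (p : ℕ) [Fact p.Prime] (hS : IsPGroup p S) (F : Cfsg.FusionSystem S) (hF : F.IsSaturated p) (hS1 : S ≠ ⊥) (hgen : Subgroup.closure {x : Ω | x ∈ S ∧ orderOf x = p} = S) (htr : ∀ A B : Subgroup Ω, A ≤ S → B ≤ S → Nat.card A = p → Nat.card B = p → F.IsConj A B) (htop : F.autGroup S = Cfsg.Inn ↥S) : F.IsSimple p := by
  refine simple_of_no_stronglyClosed hF hS1 htop fun T hT => or_iff_not_imp_left.2 fun hT1 => ?_
  refine le_antisymm hT.1 ?_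
  have hfin : Finite T := finite_of_le hT.1
  have : Nontrivial T := T.nontrivial_iff_ne_bot.2 hT1
  obtain ⟨n, hn0, hn⟩ := (hS.to_le hT.1).nontrivial_iff_card.1 inferInstance
  obtain ⟨x, hx⟩ := exists_prime_orderOf_dvd_card' (G := T) p (hn ▸ dvd_pow_self p hn0.ne')
  rw [← Subgroup.orderOf_coe] at hx
  conv_lhs => rw [← hgen]
  rw [Subgroup.closure_le]
  rintro y ⟨hyS, hy⟩
  have hxT : Subgroup.zpowers (x : Ω) ≤ T := Subgroup.zpowers_le.2 x.2
  obtain ⟨φ, hφ, hr⟩ := htr _ _ (hxT.trans hT.1) (Subgroup.zpowers_le.2 hyS)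
    ((Nat.card_zpowers _).trans hx) ((Nat.card_zpowers _).trans hy)
  obtain ⟨a, rfl⟩ := hr.ge (Subgroup.mem_zpowers y)
  exact hT.2 _ hxT φ hφ a

end Cfsg.Agent.S5340
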