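import Cfsg.Statements.S5341
import Cfsg.Agent.Lib.Fusion.Saturation

set_option autoImplicit false
open Cfsg

namespace Cfsg.Agent.S5341

open Cfsg.FusionSystem Cfsg.Agent.Fusion.Basic Cfsg.Agent.Fusion.Saturation

/-- Let F be a saturated fusion system over a finite p-group S, T a subgroup strongly closed in F, and F′ any fusion system over T all of whose maps are maps of F. For a subgroup Q ≤ T: if Q is fully centralized in F then it is fully centralized in F′, and if Q is fully normalized in F then it is fully normalized in F′. -/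
theorem result {Ω : Type*} [Group Ω] {S : Subgroup Ω} [Finite S] (p : ℕ) [Fact p.Prime] (hS : IsPGroup p S) (F : Cfsg.FusionSystem S) (hF : F.IsSaturated p) (T : Subgroup Ω) (hT : F.StronglyClosed T) (F' : Cfsg.FusionSystem T) (hsub : F'.IsSubsystemOf F) (Q : Subgroup Ω) (hQT : Q ≤ T) : (F.IsFullyCentralized Q → F'.IsFullyCentralized Q) ∧ (F.IsFullyNormalized Q → F'.IsFullyNormalized Q) := by
  have key : ∀ R, F'.IsConj Q R → F.IsConj Q R := fun R hR => by
    obtain ⟨f, hf, hfR⟩ := isConj_iff_map.1 hR
    exact isConj_iff_map.2 ⟨f, isMap_of_subset hsub hf, hfR⟩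
  have hfin : Finite T := finite_of_le hT.1
  have hclosed : ∀ (A : Subgroup Ω) (f : Ω → Ω), IsMap F A f → A ≤ T → ∀ x ∈ A, f x ∈ T :=
    fun A f hf hAT x hx => by
      simpa using hT.2 A hAT hf.hom hf.hom_mem_self ⟨x, hx⟩
  constructor
  · intro h
    refine ⟨hQT, fun R hR => ?_⟩
    have hRT : R ≤ T := (isConj_le hR).2
    obtain ⟨f, hf, hfQ⟩ := isConj_iff_map.1 (isConj_symm (key R hR))
    subst hfQ
    obtain ⟨g, hg, hge⟩ := exists_extension hS hF hf h
    have hle : centralizerIn T R ≤ centralizerIn S R := inf_le_inf_right _ hT.1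
    have hres := hg.restrict (hle.trans centralizerIn_le_nSub)
    have hfin' : Finite (centralizerIn T (img f R)) := finite_of_le centralizerIn_le
    rw [← hres.card_img]
    refine card_le_card (img_le fun x hx => ⟨?_, ?_⟩)
    · exact hclosed _ g hres centralizerIn_le x hx
    · rw [← img_congr hge]
      exact hg.mem_centralizer_img (le_nSub hf) (centralizerIn_le_nSub (hle hx)) hx.2
  · intro h
    refine ⟨hQT, fun R hR => ?_⟩
    obtain ⟨g, hg, hgQ⟩ := exists_map_to_fullyNormalized hS hF h (isConj_symm (key R hR))
    have hle : normalizerIn T R ≤ normalizerIn S R := inf_le_inf_right _ hT.1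
    have hres := hg.restrict hle
    have hfin' : Finite (normalizerIn T Q) := finite_of_le normalizerIn_le
    rw [← hres.card_img]
    refine card_le_card (img_le fun x hx => ⟨?_, ?_⟩)
    · exact hclosed _ g hres normalizerIn_le x hx
    · rw [← hgQ]
      exact hg.mem_normalizer_img (le_normalizerIn ((isConj_le hR).2.trans hT.1)) (hle hx) hx.2

end Cfsg.Agent.S5341
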