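import Cfsg.Statements.S5343
import Cfsg.Agent.S5336
import Cfsg.Agent.Lib.Fusion.Transport
import Cfsg.Agent.Lib.Fusion.GroupQuot
import Cfsg.Agent.Lib.PLocal.Cores

set_option autoImplicit false
universe u
open Cfsg

namespace Cfsg.Agent.S5343

open Cfsg.FusionSystem Cfsg.Agent.Fusion Cfsg.Agent.Fusion.Basic Cfsg.Agent.Fusion.Group Cfsg.Agent.Fusion.Transport Cfsg.Agent.Fusion.GroupQuot Cfsg.Agent.PLocal.Cores

/-- Let F be a simple saturated fusion system over a finite p-group S that is realized by some finite group on a Sylow p-subgroup. Then F is realized by a finite simple group on a Sylow p-subgroup. -/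
theorem result {Ω : Type u} [Group Ω] {S : Subgroup Ω} [Finite S] (p : ℕ) [Fact p.Prime] (hS : IsPGroup p S) (F : Cfsg.FusionSystem S) (hsimple : F.IsSimple p) (hreal : F.IsRealizable p) : ∃ (G : Type u) (_ : Group G) (_ : Finite G) (_ : IsSimpleGroup G) (ι : ↥S →* G), F.IsRealizedBy ι ∧ ∃ T : Sylow p G, (T : Subgroup G) = ι.range := by
    classical
    obtain ⟨hsat, hS1, -⟩ := id hsimple
    have hex : ∃ n : ℕ, ∃ (G : Type u) (_ : Group G) (_ : Finite G) (ι : ↥S →* G),
        F.IsRealizedBy ι ∧ (∃ T : Sylow p G, (T : Subgroup G) = ι.range) ∧ Nat.card G = n := by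
      obtain ⟨G, i, j, ι, h1, h2⟩ := hreal
      exact ⟨_, G, i, j, ι, h1, h2, rfl⟩
    obtain ⟨G, iG, fG, ι, ⟨hinj, hR⟩, ⟨T0, hT0⟩, hcard⟩ := Nat.find_spec hex
    have hmin : ∀ (G' : Type u) [Group G'] [Finite G'] (ι' : ↥S →* G'), F.IsRealizedBy ι' →
        ∀ T : Sylow p G', (T : Subgroup G') = ι'.range → Nat.card G ≤ Nat.card G' := fun G' _ _ ι' h T hT =>
      hcard ▸ Nat.find_min' hex ⟨G', inferInstance, inferInstance, ι', h, ⟨T, hT⟩, rfl⟩
    let e := Iso.ofInjective ι hinj
    have hto : ∀ (x : Ω) (hx : x ∈ S), e.fwd x = ι ⟨x, hx⟩ := fun x hx => Factor.along_of_mem ι hx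
    have hbw : ∀ s : ↥S, e.bwd (ι s) = s := fun s => by
      conv_rhs => rw [← e.inv_to s s.2, hto s s.2]
    have hFG : push e F = groupFusionSystem ι.range := by
      refine fs_ext_le (le_of_isMap fun P' f' hf' => ?_) (le_of_isMap fun P' f' hf' => ?_)
      · obtain ⟨hP, hS', hm⟩ := (isMap_push_iff e).1 hf'
        obtain ⟨g, hg⟩ := (hR _ hm.le hm.hom fun x => hm.mem x.2).1 hm.hom_mem_self
        refine isMap_group_iff.2 ⟨hP, hS', g, fun y hy => ?_⟩
        have hy' : e.bwd y ∈ im e.bwd P' := mem_im_self _ hy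
        have h1 : e.fwd (e.bwd (f' (e.fwd (e.bwd y)))) = g * e.fwd (e.bwd y) * g⁻¹ := by
          refine (hto _ (hm.mem hy')).trans ((hg ⟨e.bwd y, hy'⟩).trans ?_)
          rw [hto _ (hm.le hy')]
        rw [cj_apply]
        rwa [e.to_inv y (hP hy), e.to_inv _ (hS' y hy)] at h1
      · obtain ⟨hP, hS', g, hg⟩ := isMap_group_iff.1 hf'
        refine (isMap_push_iff e).2 ⟨hP, hS', ?_⟩
        let f := fun x => e.bwd (f' (e.fwd x))
        have hle : im e.bwd P' ≤ S := e.symm.img_le hP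
        have hval : ∀ x ∈ im e.bwd P', e.fwd x ∈ P' ∧ f' (e.fwd x) = g * e.fwd x * g⁻¹ := fun x hx => by
          obtain ⟨y, hy, rfl⟩ := (e.symm.mem_img hP).1 hx
          rw [e.symm_fwd, e.to_inv y (hP hy)]
          exact ⟨hy, hg y hy⟩
        let φ : ↥(im e.bwd P') →* Ω := MonoidHom.mk' (fun x => f x) fun a b => by
          show e.bwd (f' (e.fwd ((a : Ω) * b))) = _
          rw [e.to_mul _ (hle a.2) _ (hle b.2), hg _ (P'.mul_mem (hval _ a.2).1 (hval _ b.2).1),
            ← e.inv_mul _ (hS' _ (hval _ a.2).1) _ (hS' _ (hval _ b.2).1), (hval _ a.2).2, (hval _ b.2).2]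
          refine congrArg e.bwd ?_
          rw [cj_apply]
          group
        have hφS : ∀ x, φ x ∈ S := fun x => e.inv_mem _ (hS' _ (hval _ x.2).1)
        refine ⟨φ, (hR _ hle φ hφS).2 ⟨g, fun x => ?_⟩, fun x => rfl⟩
        rw [← hto, ← hto]
        show e.fwd (e.bwd (f' (e.fwd x))) = _
        rw [e.to_inv _ (hS' _ (hval _ x.2).1), (hval _ x.2).2]
    have hsimpG : (groupFusionSystem (T0 : Subgroup G)).IsSimple p := by
      rw [hT0, ← hFG]
      exact push_isSimple e hS hsimple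
    have hcore : pPrimeCore p G = ⊥ := by
      set N := pPrimeCore p G with hN
      have hdisj : ∀ x ∈ ι.range, x ∈ N → x = 1 := fun x hx hxN => by
        refine orderOf_eq_one_iff.1 (Nat.eq_one_of_dvd_coprimes (coprime_card_pPrimeCore (p := p) (G := G))
          (Subgroup.orderOf_dvd_natCard _ hxN) ?_)
        rw [← hT0] at hx
        obtain ⟨k, hk⟩ := T0.2 ⟨x, hx⟩
        obtain ⟨m, hm, hme⟩ := (Nat.dvd_prime_pow Fact.out).1
          (orderOf_dvd_of_pow_eq_one (congrArg Subtype.val hk : x ^ p ^ k = 1))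
        rw [hme]
        rcases m with _ | m
        · simp
        exfalso
        have h1 : p ∣ Nat.card N := dvd_trans (hme ▸ dvd_pow_self p (by omega)) (Subgroup.orderOf_dvd_natCard _ hxN)
        exact (Fact.out : p.Prime).coprime_iff_not_dvd.1 (coprime_card_pPrimeCore (p := p) (G := G)).symm h1
      have heq : ∀ a b : ↥S, (QuotientGroup.mk (ι a) : G ⧸ N) = QuotientGroup.mk (ι b) → a = b :=
        fun a b hab => by
          refine (inv_mul_eq_one.1 (hinj ?_))
          rw [map_one]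
          refine hdisj _ ⟨_, rfl⟩ ?_
          rw [map_mul, map_inv]
          exact QuotientGroup.eq.1 hab
      let ι' : ↥S →* G ⧸ N := (QuotientGroup.mk' N).comp ι
      have hreal' : F.IsRealizedBy ι' := by
        refine ⟨fun a b hab => heq a b hab, fun P hP φ hφ => ⟨fun h => ?_, fun ⟨γ, hγ⟩ => ?_⟩⟩
        · obtain ⟨g, hg⟩ := (hR P hP φ hφ).1 h
          refine ⟨(g : G ⧸ N), fun x => ?_⟩
          show (QuotientGroup.mk (ι _) : G ⧸ N) = _
          rw [hg x]
          rfl
        · have hle : im e.fwd P ≤ (T0 : Subgroup G) := hT0.ge.trans' (e.img_le hP)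
          obtain ⟨g, hgγ, hgS⟩ := exists_lift_conj T0 N hle γ (fun z hz => by
            obtain ⟨x, hx, rfl⟩ := (e.mem_img hP).1 hz
            refine ⟨ι ⟨φ ⟨x, hx⟩, hφ _⟩, by rw [hT0]; exact ⟨_, rfl⟩, ?_⟩
            rw [hto x (hP hx)]
            exact hγ ⟨x, hx⟩)
          refine (hR P hP φ hφ).2 ⟨g, fun x => ?_⟩
          obtain ⟨s, hs⟩ : g * ι ⟨x, hP x.2⟩ * g⁻¹ ∈ ι.range := by
            rw [← hT0, ← hto x (hP x.2)]
            exact hgS _ (mem_im_self _ x.2)
          rw [← hs]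
          refine congrArg ι (heq _ _ ?_)
          rw [hs, QuotientGroup.mk_mul, QuotientGroup.mk_mul, QuotientGroup.mk_inv, hgγ]
          exact hγ x
      have hsurj : Function.Surjective (QuotientGroup.mk' N) := QuotientGroup.mk'_surjective N
      have hrange : ((T0.mapSurjective hsurj : Sylow p (G ⧸ N)) : Subgroup (G ⧸ N)) = ι'.range := by
        rw [show ι'.range = ι.range.map (QuotientGroup.mk' N) from MonoidHom.range_comp _ _, ← hT0]
        rfl
      have hle := hmin (G ⧸ N) ι' hreal' (T0.mapSurjective hsurj) hrange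
      have h := N.card_eq_card_quotient_mul_card_subgroup
      refine Subgroup.eq_bot_of_card_eq N ?_
      by_contra hne
      have h2 : 2 ≤ Nat.card N := by have := Nat.card_pos (α := N); omega
      have h3 : 0 < Nat.card (G ⧸ N) := Nat.card_pos
      nlinarith
    refine ⟨G, iG, fG, Cfsg.Agent.S5336.result p T0 hsimpG hcore (fun H hH hne => ?_), ι, ⟨hinj, hR⟩,
      T0, hT0⟩
    by_contra hall
    simp only [not_exists, not_not] at hall
    have hι : ∀ s : ↥S, ι s ∈ H := fun s => hH (by rw [hT0]; exact ⟨s, rfl⟩)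
    let ι' : ↥S →* ↥H := ι.codRestrict H hι
    have hreal' : F.IsRealizedBy ι' := by
      refine ⟨fun a b hab => hinj (congrArg Subtype.val hab), fun P hP φ hφ => ⟨fun h => ?_, fun ⟨γ, hγ⟩ => ?_⟩⟩
      · obtain ⟨g, hg⟩ := (hR P hP φ hφ).1 h
        have hle : im e.fwd P ≤ (T0 : Subgroup G) := hT0.ge.trans' (e.img_le hP)
        have hmem : conjHom (im e.fwd P) g ∈ (groupFusionSystem (T0 : Subgroup G)).Hom (im e.fwd P) := by
          refine ⟨hle, fun z => ?_, g, fun _ => rfl⟩
          obtain ⟨x, hx, hxe⟩ := (e.mem_img hP).1 z.2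
          show g * (z : G) * g⁻¹ ∈ (T0 : Subgroup G)
          rw [← hxe, hto x (hP hx), ← hg ⟨x, hx⟩, hT0]
          exact ⟨_, rfl⟩
        rw [← hall] at hmem
        obtain ⟨-, -, k, hk, hke⟩ := hmem
        refine ⟨⟨k, hk⟩, fun x => Subtype.ext ?_⟩
        have h1 := hke ⟨e.fwd x, mem_im_self _ x.2⟩
        change g * e.fwd x * g⁻¹ = k * e.fwd x * k⁻¹ at h1
        rw [hto x (hP x.2), ← hg x] at h1
        exact h1
      · exact (hR P hP φ hφ).2 ⟨γ, fun x => congrArg Subtype.val (hγ x)⟩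
    have hrange : ((T0.subtype hH : Sylow p ↥H) : Subgroup ↥H) = ι'.range := by
      ext z
      rw [Sylow.coe_subtype, Subgroup.mem_subgroupOf, hT0]
      exact ⟨fun ⟨s, hs⟩ => ⟨s, Subtype.ext hs⟩, fun ⟨s, hs⟩ => ⟨s, congrArg Subtype.val hs⟩⟩
    have hle := hmin ↥H ι' hreal' (T0.subtype hH) hrange
    exact hne (Subgroup.eq_top_of_card_eq H (le_antisymm (Subgroup.card_le_card_group H) hle))

end Cfsg.Agent.S5343
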