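import Cfsg.Statements.S5345
import Cfsg.Agent.Lib.ThreeTransp.Basic

set_option autoImplicit false
open Cfsg

namespace Cfsg.Agent.S5345

/-- Let D be a conjugation-invariant generating set of 3-transpositions of a finite group G and T a Sylow 2-subgroup of G. Then the members of D lying in T generate an abelian subgroup, and their number is the width of D (the largest number of pairwise commuting members of D). -/
theorem result {G : Type*} [Group G] [Finite G] {D : Set G} (hD : Cfsg.IsThreeTranspositionGroup D) (T : Sylow 2 G) : IsMulCommutative (Subgroup.closure {d : G | d ∈ D ∧ d ∈ T}) ∧ {d : G | d ∈ D ∧ d ∈ T}.ncard = Cfsg.commutingWidth D := by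
  classical
  have hS := hD.1
  have hc : ∀ a ∈ {d : G | d ∈ D ∧ d ∈ T}, ∀ b ∈ {d : G | d ∈ D ∧ d ∈ T}, Commute a b :=
    fun a ha b hb => ThreeTransp.Basic.commute_of_pGroup hS Nat.prime_two (by norm_num) T.2
      ha.1 hb.1 (mul_mem ha.2 hb.2)
  refine ⟨Subgroup.isMulCommutative_closure fun a ha b hb => hc a ha b hb, ?_⟩
  unfold Cfsg.commutingWidth
  refine le_antisymm (le_csSup ⟨D.ncard, ?_⟩ ⟨_, fun x hx => hx.1, Set.toFinite _, hc, rfl⟩)
    (csSup_le ⟨0, ∅, by simp, by simp, by simp, by simp⟩ ?_)
  · rintro n ⟨E, hED, -, -, rfl⟩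
    exact Set.ncard_le_ncard hED (Set.toFinite _)
  · rintro n ⟨E, hED, -, hE, rfl⟩
    haveI : IsMulCommutative ↥(Subgroup.closure E) :=
      Subgroup.isMulCommutative_closure fun a ha b hb => hE a ha b hb
    have hP : IsPGroup 2 ↥(Subgroup.closure E) := by
      intro x
      refine ⟨1, ?_⟩
      obtain ⟨x, hx⟩ := x
      apply Subtype.ext
      show x ^ 2 ^ 1 = 1
      induction hx using Subgroup.closure_induction with
      | mem y hy => simpa [pow_two] using ThreeTransp.Basic.sq hS (hED hy)
      | one => simp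
      | mul y z hy hz h1 h2 =>
        have hyz : Commute y z := congrArg Subtype.val
          (mul_comm' (⟨y, hy⟩ : ↥(Subgroup.closure E)) ⟨z, hz⟩)
        rw [hyz.mul_pow, h1, h2, one_mul]
      | inv y _ h => rw [inv_pow, h, inv_one]
    obtain ⟨P, hEP⟩ := hP.exists_le_sylow
    obtain ⟨g, hg⟩ := MulAction.exists_smul_eq G P T
    have himg : (fun x => g * x * g⁻¹) '' E ⊆ {d : G | d ∈ D ∧ d ∈ T} := by
      rintro _ ⟨x, hx, rfl⟩
      refine ⟨hD.2.1 g x (hED hx), ?_⟩
      have hxP : x ∈ (P : Subgroup G) := hEP (Subgroup.subset_closure hx)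
      show g * x * g⁻¹ ∈ (T : Subgroup G)
      rw [← hg, Sylow.coe_subgroup_smul, Subgroup.mem_pointwise_smul_iff_inv_smul_mem]
      simpa [MulAut.smul_def, mul_assoc] using hxP
    have hinj : Function.Injective (fun x => g * x * g⁻¹) := fun x y h => by simpa using h
    rw [← Set.ncard_image_of_injective E hinj]
    exact Set.ncard_le_ncard himg (Set.toFinite _)

end Cfsg.Agent.S5345
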