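import Cfsg.Statements.S5347
import Cfsg.Agent.Lib.ThreeTransp.Basic

set_option autoImplicit false
open Cfsg

namespace Cfsg.Agent.S5347

/-- Let D be a conjugation-invariant generating set of 3-transpositions of a finite group G, p a prime bigger than 3, and P a p-subgroup of G. If a member d of D normalizes P then d centralizes P. -/
theorem result {G : Type*} [Group G] [Finite G] {D : Set G} (hD : Cfsg.IsThreeTranspositionGroup D) {p : ℕ} (hp : p.Prime) (hp3 : 3 < p) (P : Subgroup G) (hP : IsPGroup p P) {d : G} (hd : d ∈ D) (hnorm : d ∈ Subgroup.normalizer (P : Set G)) : ∀ x ∈ P, Commute d x := by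
  intro x hx
  have hS := hD.1
  have he : x * d * x⁻¹ ∈ D := hD.2.1 x d hd
  have hdd := ThreeTransp.Basic.inv_eq hS hd
  have hde : d * (x * d * x⁻¹) ∈ P := by
    have h1 : d * x * d⁻¹ ∈ P := (Subgroup.mem_normalizer_iff.1 hnorm x).1 hx
    have h2 := P.mul_mem h1 (P.inv_mem hx)
    rw [hdd] at h2
    simpa only [mul_assoc] using h2
  have hc := ThreeTransp.Basic.commute_of_pGroup hS hp (by omega) hP hd he hde
  have h2 : (d * (x * d * x⁻¹)) ^ 2 = 1 :=
    (ThreeTransp.Basic.sq_prod_eq_one_iff (ThreeTransp.Basic.sq hS hd)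
      (ThreeTransp.Basic.sq hS he)).2 hc
  haveI : Fact p.Prime := ⟨hp⟩
  obtain ⟨k, hk⟩ := (IsPGroup.iff_orderOf.1 hP) ⟨_, hde⟩
  rw [Subgroup.orderOf_mk] at hk
  have h2' := orderOf_dvd_of_pow_eq_one h2
  rw [hk] at h2'
  have h1 : d * (x * d * x⁻¹) = 1 := by
    rcases Nat.eq_zero_or_pos k with h0 | h0
    · rw [h0, pow_zero] at hk; exact orderOf_eq_one_iff.1 hk
    · have := (Nat.prime_dvd_prime_iff_eq hp Nat.prime_two).1 ((dvd_pow_self p h0.ne').trans h2')
      omega
  have h3 : x * d * x⁻¹ = d := by rw [← inv_eq_of_mul_eq_one_right h1, hdd]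
  exact (mul_inv_eq_iff_eq_mul.1 h3).symm

end Cfsg.Agent.S5347
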