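import Cfsg.Statements.S5355
import Cfsg.Agent.Lib.ThreeTransp.Classes

set_option autoImplicit false
open Cfsg

namespace Cfsg.Agent.S5355

/-- Let D be a conjugacy class of 3-transpositions generating the finite group G, with at least two members, and d a member of D. Suppose that every member of D commuting with d commutes with exactly the same members of D as d does, and that exactly one member of D other than d commutes with d. Then G is isomorphic to the symmetric group of degree 4. -/
theorem result {G : Type*} [Group G] [Finite G] {D : Set G} (hD : Cfsg.IsThreeTranspositionClass D) (hD2 : ∃ a ∈ D, ∃ b ∈ D, a ≠ b) {d : G} (hd : d ∈ D) (hV : {y : G | y ∈ D ∧ Commute d y} = {v : G | v ∈ D ∧ ∀ e ∈ D, Commute v e ↔ Commute d e}) (hm : {y : G | y ∈ D ∧ Commute d y}.ncard = 2) : Nonempty (G ≃* Equiv.Perm (Fin 4)) := by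
  obtain ⟨hG, htrans⟩ := ThreeTransp.Classes.of_class hD
  have sq' : ∀ {a : G}, a ∈ D → ∀ t : G, a * (a * t) = t := fun ha =>
    ThreeTransp.WidthOne.mul_mul_cancel_left (ThreeTransp.Classes.sq hG ha)
  -- the same conditions at every member
  have hV' : ∀ a ∈ D, ∀ y ∈ D, Commute a y → ThreeTransp.Classes.SameComm D a y := by
    intro a ha y hy hc
    obtain ⟨g, rfl⟩ := htrans d hd a ha
    have h1 : ThreeTransp.Classes.SameComm D d (g⁻¹ * y * g) := by
      have h : g⁻¹ * y * g ∈ {y : G | y ∈ D ∧ Commute d y} := by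
        refine ⟨ThreeTransp.Classes.inv_conj_mem hG g hy, ?_⟩
        have := (ThreeTransp.Basic.commute_conj (g := g⁻¹)).2 hc
        rwa [show g⁻¹ * (g * d * g⁻¹) * g⁻¹⁻¹ = d by group, inv_inv] at this
      rw [hV] at h
      exact h
    have h2 := ThreeTransp.Classes.sameComm_conj hG h1 g
    rwa [show g * (g⁻¹ * y * g) * g⁻¹ = y by group] at h2
  obtain ⟨v, hvd, hset⟩ : ∃ v, v ≠ d ∧ {y : G | y ∈ D ∧ Commute d y} = {d, v} := by
    obtain ⟨x, y, hxy, hs⟩ := Set.ncard_eq_two.1 hm
    have hdm : d ∈ {y : G | y ∈ D ∧ Commute d y} := ⟨hd, Commute.refl d⟩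
    rw [hs] at hdm
    rcases hdm with rfl | rfl
    · exact ⟨y, hxy.symm, hs⟩
    · exact ⟨x, hxy, by rw [hs, Set.pair_comm]⟩
  obtain ⟨hv, hcv⟩ : v ∈ {y : G | y ∈ D ∧ Commute d y} := by rw [hset]; simp
  have hSv := hV' d hd v hv hcv
  obtain ⟨e, he, hde⟩ := ThreeTransp.Classes.exists_noncomm hG htrans hD2 hd
  have hve : ¬ Commute v e := fun h => hde ((hSv.2 e he).1 h)
  set t := v * d with ht
  have htd : t = d * v := hcv.eq.symm
  have ht2 : t * t = 1 := ThreeTransp.Classes.sameComm_mul_sq hG hd hSv
  have hti : t⁻¹ = t := inv_eq_of_mul_eq_one_left ht2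
  -- a product of a class moves every member outside it
  have hswap : ∀ a ∈ D, ∀ b, ThreeTransp.Classes.SameComm D a b → b ≠ a → ∀ x ∈ D, ¬ Commute a x →
      b * a * x * (b * a) ∈ D ∧ b * a * x * (b * a) ≠ x ∧ Commute x (b * a * x * (b * a)) := by
    intro a ha b hS hba x hx hn
    have hc := ThreeTransp.Classes.sameComm_commute hG ha hS
    have h1 := ThreeTransp.Classes.sameComm_fix hG ha hS hx
    have hi : (b * a)⁻¹ = b * a :=
      inv_eq_of_mul_eq_one_left (ThreeTransp.Classes.sameComm_mul_sq hG ha hS)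
    rw [hi] at h1
    refine ⟨h1.1, fun heq => ?_, ThreeTransp.Classes.sameComm_commute hG hx h1⟩
    have h2 : a * x * a⁻¹ = b * x * b⁻¹ := by
      rw [ThreeTransp.Classes.inv hG ha, ThreeTransp.Classes.inv hG hS.1]
      calc a * x * a = b * (b * a * x * (b * a)) * b := by
            simp [mul_assoc, sq' hS.1]
            rw [← mul_assoc b a b, ← hc.eq, mul_assoc, ThreeTransp.Classes.sq hG hS.1, mul_one]
        _ = b * x * b := by rw [heq]
    exact hba (ThreeTransp.Classes.eq_of_conj_eq hG ha hS.1 hx hn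
      (fun h => hn ((hS.2 x hx).1 h)) h2).symm
  have hpair : ∀ x ∈ D, ∀ y ∈ D, y ≠ x → Commute x y → ∀ z ∈ D, Commute x z → z = x ∨ z = y := by
    intro x hx y hy hyx hc z hz hzc
    obtain ⟨g, hg⟩ := htrans d hd x hx
    have key : ∀ w ∈ D, Commute x w → w = x ∨ w = g * v * g⁻¹ := by
      intro w hw hwc
      have hm' : g⁻¹ * w * g ∈ {y : G | y ∈ D ∧ Commute d y} := by
        refine ⟨ThreeTransp.Classes.inv_conj_mem hG g hw, ?_⟩
        rw [← hg] at hwc
        have := (ThreeTransp.Basic.commute_conj (g := g⁻¹)).2 hwc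
        rwa [show g⁻¹ * (g * d * g⁻¹) * g⁻¹⁻¹ = d by group, inv_inv] at this
      rw [hset] at hm'
      rcases hm' with h | h
      · left; rw [← hg, ← h]; group
      · right; rw [Set.mem_singleton_iff] at h; rw [← h]; group
    rcases key z hz hzc with h | h
    · exact Or.inl h
    · exact Or.inr (h.trans ((key y hy hc).resolve_left hyx).symm)
  set f := d * e * d with hf
  obtain ⟨hfd, hfe, -, -, -, -⟩ := ThreeTransp.Classes.triangle hG hd he hde
  have hfD : f ∈ D := ThreeTransp.Classes.conj_mem hG hd he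
  have hfv : ¬ Commute v f := fun h => hfd ((hSv.2 f hfD).1 h)
  set e' := t * e * t with he'
  obtain ⟨he'D, he'ne, hee'⟩ := hswap d hd v hSv hvd e he hde
  set f' := v * e * v with hf'
  have hf'D : f' ∈ D := ThreeTransp.Classes.conj_mem hG hv he
  set s := e' * e with hs
  have hSe := hV' e he e' he'D hee'
  have hs2 : s * s = 1 := ThreeTransp.Classes.sameComm_mul_sq hG he hSe
  have hdd := ThreeTransp.Classes.sq hG hd
  have hee := ThreeTransp.Classes.sq hG he
  have hvv := ThreeTransp.Classes.sq hG hv
  have hdt : d * t = v := by rw [htd, ← mul_assoc, hdd, one_mul]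
  have htd' : t * d = v := by rw [ht, mul_assoc, hdd, mul_one]
  have htf : t * f * t = f' := by
    calc t * f * t = (t * d) * e * (d * t) := by rw [hf]; simp [mul_assoc]
      _ = f' := by rw [htd', hdt]
  obtain ⟨-, hff, hffc⟩ := hswap d hd v hSv hvd f hfD hfd
  rw [← ht, htf] at hff hffc
  have hSf := hV' f hfD f' hf'D hffc
  -- the products of the three classes form a four-group
  have hprod : f * f' = t * s := by
    have b1 := ThreeTransp.Basic.braid hG.1 hv he hve
    have b2 := ThreeTransp.Basic.braid hG.1 hd he hde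
    have hr : f * f' = e * (v * d) * e := by
      calc f * f' = (d * e * d) * (v * e * v) := rfl
        _ = (e * d * e) * (e * v * e) := by rw [b1, b2]
        _ = e * d * (e * e) * v * e := by simp [mul_assoc]
        _ = e * (d * v) * e := by rw [hee, mul_one]; simp [mul_assoc]
        _ = _ := by rw [hcv.eq]
    rw [hr]
    calc e * (v * d) * e = (v * e * v) * (d * e * d) := by
          rw [b1, b2]; simp [mul_assoc, sq' he]
      _ = v * (d * d) * e * v * (d * e * d) := by rw [hdd, mul_one]
      _ = (v * d) * d * e * (v * d) * e * d := by simp [mul_assoc]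
      _ = (d * v) * d * e * (d * v) * e * d := by rw [hcv.eq]
      _ = d * v * (d * e * d) * v * e * d := by simp [mul_assoc]
      _ = d * v * (e * d * e) * v * e * d := by rw [b2]
      _ = d * v * e * d * (e * v * e) * d := by simp [mul_assoc]
      _ = d * v * e * d * (v * e * v) * d := by rw [b1]
      _ = d * v * e * d * v * e * (v * d) := by simp [mul_assoc]
      _ = d * v * e * d * v * e * (d * v) := by rw [hcv.eq]
      _ = t * (e * e') := by rw [he', htd]; simp [mul_assoc]
      _ = t * s := by rw [hee'.eq]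
  have hcts : Commute t s := by
    have h1 : (f * f') * (f * f') = 1 := by
      rw [mul_assoc, ← mul_assoc f', ← hffc.eq, mul_assoc f, ThreeTransp.Classes.sq hG hf'D, mul_one,
        ThreeTransp.Classes.sq hG hfD]
    rw [hprod] at h1
    have h2 := eq_inv_of_mul_eq_one_left h1
    rwa [mul_inv_rev, hti, inv_eq_of_mul_eq_one_left hs2] at h2
  -- there are just three classes
  have hD6 : ∀ x ∈ D, x = d ∨ x = v ∨ x = e ∨ x = e' ∨ x = f ∨ x = f' := by
    intro x hx
    by_cases h1 : Commute d x
    · have : x ∈ {y : G | y ∈ D ∧ Commute d y} := ⟨hx, h1⟩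
      rw [hset] at this
      rcases this with h | h
      exacts [Or.inl h, Or.inr (Or.inl h)]
    by_cases h2 : Commute e x
    · rcases hpair e he e' he'D he'ne hee' x hx h2 with h | h
      exacts [Or.inr (Or.inr (Or.inl h)), Or.inr (Or.inr (Or.inr (Or.inl h)))]
    by_cases h3 : Commute f x
    · rcases hpair f hfD f' hf'D hff hffc x hx h3 with h | h
      exacts [Or.inr (Or.inr (Or.inr (Or.inr (Or.inl h)))),
        Or.inr (Or.inr (Or.inr (Or.inr (Or.inr h))))]
    exfalso
    obtain ⟨t1, t1ne, t1c⟩ := hswap d hd v hSv hvd x hx h1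
    rw [← ht] at t1 t1ne t1c
    obtain ⟨s1, s1ne, s1c⟩ := hswap e he e' hSe he'ne x hx h2
    rw [← hs] at s1 s1ne s1c
    have heq : s * x * s = t * x * t :=
      (hpair x hx _ t1 t1ne t1c _ s1 s1c).resolve_left s1ne
    refine (hswap f hfD f' hSf hff x hx h3).2.1 ?_
    rw [← hffc.eq, hprod]
    calc t * s * x * (t * s) = t * (s * x * s) * t := by
          conv_lhs => arg 2; rw [hcts.eq]
          simp [mul_assoc]
      _ = (t * t) * x * (t * t) := by rw [heq]; simp [mul_assoc]
      _ = x := by rw [ht2, one_mul, mul_one]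
  have hst : s * t = t * s := hcts.eq.symm
  have hdtd : d * t * d = t := by rw [hdt, ht]
  have hdsd : d * s * d = t * s := by
    calc d * s * d = (d * t) * e * (t * e * d) := by rw [hs, he']; simp [mul_assoc]
      _ = v * e * v * (d * e * d) := by rw [hdt, ht]; simp [mul_assoc]
      _ = f * f' := by rw [hffc.eq]
      _ = t * s := hprod
  have hete : e * t * e = t * s := by
    calc e * t * e = (e * v * e) * (e * d * e) := by rw [ht]; simp [mul_assoc, sq' he]
      _ = f' * f := by
        rw [← ThreeTransp.Basic.braid hG.1 hv he hve, ← ThreeTransp.Basic.braid hG.1 hd he hde]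
      _ = t * s := by rw [← hffc.eq, hprod]
  have hese : e * s * e = s := by
    rw [hs, ← mul_assoc, hee'.eq, mul_assoc, mul_assoc, hee, mul_one]
  have t' : ∀ z : G, t * (t * z) = z := ThreeTransp.WidthOne.mul_mul_cancel_left ht2
  have s' : ∀ z : G, s * (s * z) = z := ThreeTransp.WidthOne.mul_mul_cancel_left hs2
  have st' : ∀ z : G, s * (t * z) = t * (s * z) := fun z => by rw [← mul_assoc, hst, mul_assoc]
  let T : Subgroup G :=
    { carrier := {1, t, s, t * s}
      one_mem' := by simp
      mul_mem' := fun {x y} hx hy => by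
        rcases hx with rfl | rfl | rfl | rfl <;> rcases hy with rfl | rfl | rfl | rfl <;>
          simp [mul_assoc, ht2, hs2, t', s', st', hst]
      inv_mem' := fun {x} hx => by
        rcases hx with rfl | rfl | rfl | rfl <;>
          simp [hti, inv_eq_of_mul_eq_one_left hs2, hst] }
  have hTm : ∀ {x : G}, x ∈ T ↔ x = 1 ∨ x = t ∨ x = s ∨ x = t * s := Iff.rfl
  have n1 : t ≠ 1 := fun h => hvd (by rw [← htd', h, one_mul])
  have n2 : s ≠ 1 := fun h => he'ne
    ((eq_inv_of_mul_eq_one_left h).trans (ThreeTransp.Classes.inv hG he))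
  have n3 : t ≠ s := fun h => n1 (by
    have h1 := hdsd; rw [← h, hdtd, ht2] at h1; exact h1)
  have n4 : t * s ≠ 1 := fun h => n3 (by
    rw [eq_inv_of_mul_eq_one_left h, inv_eq_of_mul_eq_one_left hs2])
  have n5 : t * s ≠ t := fun h => n2 (mul_eq_left.1 h)
  have n6 : t * s ≠ s := fun h => n1 (mul_eq_right.1 h)
  have hTcard : Nat.card T = 4 := by
    show Set.ncard ({1, t, s, t * s} : Set G) = 4
    rw [Set.ncard_insert_of_notMem (by simp [n1.symm, n2.symm, n4.symm]),
      Set.ncard_insert_of_notMem (by simp [n3, n5.symm]),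
      Set.ncard_pair n6.symm]
  set H := Subgroup.closure ({d, e} : Set G) with hH
  have hHsub : (H : Set G) ⊆ {1, d, e, f, d * e, e * d} := by
    have b2 := ThreeTransp.Basic.braid hG.1 hd he hde
    refine ThreeTransp.Basic.closure_subset_of_left_stable ?_ (by simp) ?_
    · rintro x (rfl | rfl) <;> assumption
    · rintro x (rfl | rfl) y (rfl | rfl | rfl | rfl | rfl | rfl) <;>
        simp [hf, mul_assoc, hdd, hee, sq' hd, sq' he] <;>
        simp [← mul_assoc, b2, hdd, hee]
      all_goals simp [mul_assoc, sq' hd, sq' he, hee, hdd]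
  haveI hTn : T.Normal := by
    refine Subgroup.normalizer_eq_top_iff.1 (eq_top_iff.2 ?_)
    have hgen : Subgroup.closure ({d, e} : Set G) ≤ Subgroup.normalizer (T : Set G) := by
      rw [Subgroup.closure_le]
      intro x hx
      refine Subgroup.mem_normalizer_iff_map_conj_eq.2 (Subgroup.eq_of_le_of_card_ge ?_
        (Subgroup.card_map_of_injective (MulAut.conj x).injective).ge)
      have h2 : ∀ a b : G, x * (a * b) * x⁻¹ = (x * a * x⁻¹) * (x * b * x⁻¹) := fun a b => by group
      have hgt : x * t * x⁻¹ ∈ T ∧ x * s * x⁻¹ ∈ T := by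
        rcases hx with rfl | rfl
        · rw [ThreeTransp.Classes.inv hG hd, hdtd, hdsd]; simp [hTm]
        · rw [ThreeTransp.Classes.inv hG he, hete, hese]; simp [hTm]
      rintro _ ⟨y, hy, rfl⟩
      show x * y * x⁻¹ ∈ T
      rcases hTm.1 hy with rfl | rfl | rfl | rfl
      · simp
      · exact hgt.1
      · exact hgt.2
      · rw [h2]; exact T.mul_mem hgt.1 hgt.2
    rw [← hG.2.2, Subgroup.closure_le]
    have tT : t ∈ Subgroup.normalizer (T : Set G) := Subgroup.le_normalizer (hTm.2 (by simp))
    have sT : s ∈ Subgroup.normalizer (T : Set G) := Subgroup.le_normalizer (hTm.2 (by simp))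
    have dN : d ∈ Subgroup.normalizer (T : Set G) := hgen (Subgroup.subset_closure (by simp))
    have eN : e ∈ Subgroup.normalizer (T : Set G) := hgen (Subgroup.subset_closure (by simp))
    have vN : v ∈ Subgroup.normalizer (T : Set G) := htd' ▸ Subgroup.mul_mem _ tT dN
    intro x hx
    rcases hD6 x hx with rfl | rfl | rfl | rfl | rfl | rfl
    · exact dN
    · exact vN
    · exact eN
    · exact Subgroup.mul_mem _ (Subgroup.mul_mem _ tT eN) tT
    · exact Subgroup.mul_mem _ (Subgroup.mul_mem _ dN eN) dN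
    · exact Subgroup.mul_mem _ (Subgroup.mul_mem _ vN eN) vN
  have hnot : ∀ x ∈ H, x ∈ T → x = 1 := by
    have hc : ∀ z ∈ T, ∀ w ∈ T, z * w = w * z := by
      intro z hz w hw
      rcases hTm.1 hz with rfl | rfl | rfl | rfl <;> rcases hTm.1 hw with rfl | rfl | rfl | rfl <;>
        simp [mul_assoc, ht2, hs2, t', s', st', hst]
    have dT : d ∉ T := fun h => n1 (by
      have h1 := hdsd
      rw [hc d h s (hTm.2 (by simp)), mul_assoc, hdd, mul_one] at h1
      exact mul_eq_right.1 h1.symm)
    have eT : e ∉ T := fun h => n2 (by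
      have h1 := hete
      rw [hc e h t (hTm.2 (by simp)), mul_assoc, hee, mul_one] at h1
      exact mul_eq_left.1 h1.symm)
    have d3 : ∀ z : G, z ∈ T → z * z = 1 := by
      intro z hz
      rcases hTm.1 hz with rfl | rfl | rfl | rfl <;> simp [mul_assoc, ht2, hs2, t', s', st']
    intro x hx hxT
    rcases hHsub hx with rfl | rfl | rfl | rfl | rfl | rfl
    · rfl
    · exact absurd hxT dT
    · exact absurd hxT eT
    · refine absurd ?_ eT
      have := hTn.conj_mem _ hxT d
      rwa [ThreeTransp.Classes.inv hG hd, hf,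
        show d * (d * e * d) * d = (d * d) * e * (d * d) by simp [mul_assoc], hdd, one_mul, mul_one] at this
    all_goals
      exfalso
      have h1 := d3 _ hxT
      rw [← pow_two, ThreeTransp.Basic.sq_prod_eq_one_iff (by assumption) (by assumption)] at h1
      first
        | exact hde h1
        | exact hde h1.symm
  have hHcard : Nat.card H = 6 := by
    have h1 : orderOf (d * e) = 3 := ThreeTransp.Basic.orderOf_eq_three hG.1 hd he hde
    have h2 : 3 ∣ Nat.card H := by
      rw [← h1]
      exact Subgroup.orderOf_dvd_natCard _ (H.mul_mem (Subgroup.subset_closure (by simp))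
        (Subgroup.subset_closure (by simp)))
    have h3 : 2 ∣ Nat.card H := by
      rw [← hG.1.1 d hd]; exact Subgroup.orderOf_dvd_natCard _ (Subgroup.subset_closure (by simp))
    have h4 : Nat.card H ≤ 6 := by
      rw [← SetLike.coe_sort_coe, Nat.card_coe_set_eq]
      refine (Set.ncard_le_ncard hHsub (Set.toFinite _)).trans ?_
      refine (Set.ncard_insert_le _ _).trans (Nat.succ_le_succ ?_)
      refine (Set.ncard_insert_le _ _).trans (Nat.succ_le_succ ?_)
      refine (Set.ncard_insert_le _ _).trans (Nat.succ_le_succ ?_)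
      refine (Set.ncard_insert_le _ _).trans (Nat.succ_le_succ ?_)
      refine (Set.ncard_insert_le _ _).trans (Nat.succ_le_succ ?_)
      simp
    have h5 := Nat.le_of_dvd Nat.card_pos (Nat.Coprime.mul_dvd_of_dvd_of_dvd (by norm_num) h3 h2)
    omega
  have hsup : H ⊔ T = ⊤ := by
    have dH : d ∈ H ⊔ T := Subgroup.mem_sup_left (Subgroup.subset_closure (by simp))
    have eH : e ∈ H ⊔ T := Subgroup.mem_sup_left (Subgroup.subset_closure (by simp))
    have tH : t ∈ H ⊔ T := Subgroup.mem_sup_right (hTm.2 (by simp))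
    have vH : v ∈ H ⊔ T := htd' ▸ Subgroup.mul_mem _ tH dH
    rw [eq_top_iff, ← hG.2.2, Subgroup.closure_le]
    intro x hx
    rcases hD6 x hx with rfl | rfl | rfl | rfl | rfl | rfl
    · exact dH
    · exact vH
    · exact eH
    · exact Subgroup.mul_mem _ (Subgroup.mul_mem _ tH eH) tH
    · exact Subgroup.mul_mem _ (Subgroup.mul_mem _ dH eH) dH
    · exact Subgroup.mul_mem _ (Subgroup.mul_mem _ vH eH) vH
  have hGcard : Nat.card G = 24 := by
    have h := Cores.card_sup_mul_card_inf H T
    rw [hsup, Subgroup.card_top, hHcard, hTcard,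
      show H ⊓ T = ⊥ from (Subgroup.eq_bot_iff_forall _).2 fun x hx => hnot x hx.1 hx.2,
      Subgroup.card_bot, mul_one] at h
    exact h
  have hidx : H.index = 4 := by
    have h := H.card_mul_index
    rw [hGcard, hHcard] at h
    omega
  have hker : (MulAction.toPermHom G (G ⧸ H)).ker = ⊥ := by
    rw [← Subgroup.normalCore_eq_ker, Subgroup.eq_bot_iff_forall]
    intro x hx
    have hxH := Subgroup.normalCore_le H hx
    have hN : ∀ g : G, g * x * g⁻¹ ∈ H := fun g =>
      Subgroup.normalCore_le H (Subgroup.Normal.conj_mem inferInstance x hx g)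
    have key : ∀ z : G, z ∈ T → z * x * z⁻¹ = x := by
      intro z hz
      refine mul_inv_eq_one.1 (hnot _ (H.mul_mem (hN z) (H.inv_mem hxH)) ?_)
      rw [show z * x * z⁻¹ * x⁻¹ = z * (x * z⁻¹ * x⁻¹) by group]
      exact T.mul_mem hz (hTn.conj_mem _ (T.inv_mem hz) x)
    have kt : x * t = t * x := (mul_inv_eq_iff_eq_mul.1 (key t (hTm.2 (by simp)))).symm
    have ks : x * s = s * x := (mul_inv_eq_iff_eq_mul.1 (key s (hTm.2 (by simp)))).symm
    rcases hHsub hxH with rfl | rfl | rfl | rfl | rfl | rfl
    · rfl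
    · exfalso; refine n1 (mul_eq_right.1 (hdsd.symm.trans ?_))
      rw [ks, mul_assoc, hdd, mul_one]
    · exfalso; refine n2 (mul_eq_left.1 (hete.symm.trans ?_))
      rw [kt, mul_assoc, hee, mul_one]
    · exfalso
      refine n3 ?_
      have h1 : d * e * d * t = t * (d * e * d) := kt
      calc t = d * e * d * t * (d * e * d)⁻¹ := by rw [h1, mul_inv_cancel_right]
        _ = d * (e * (d * t * d) * e) * d := by
          simp [ThreeTransp.Classes.inv hG hd, ThreeTransp.Classes.inv hG he, mul_assoc]
        _ = d * (t * s) * d := by rw [hdtd, hete]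
        _ = (d * t * d) * (d * s * d) := by simp [mul_assoc, sq' hd]
        _ = s := by rw [hdtd, hdsd, t']
    · exfalso
      refine n3 (mul_right_cancel (b := d * e) ?_)
      calc t * (d * e) = d * e * t := kt.symm
        _ = d * (e * t * e) * e := by simp [mul_assoc, hee]
        _ = (d * t * d) * (d * s * d) * (d * e) := by rw [hete]; simp [mul_assoc, sq' hd]
        _ = s * (d * e) := by rw [hdtd, hdsd, t']
    · exfalso
      refine n3 (mul_right_cancel (b := e * d) ?_).symm
      calc s * (e * d) = e * d * s := ks.symm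
        _ = e * (d * s * d) * d := by simp [mul_assoc, hdd]
        _ = (e * t * e) * (e * s * e) * (e * d) := by rw [hdsd]; simp [mul_assoc, sq' he]
        _ = t * (e * d) := by rw [hete, hese, mul_assoc t, hs2, mul_one]
  have hinj : Function.Injective (MulAction.toPermHom G (G ⧸ H)) :=
    (MonoidHom.ker_eq_bot_iff _).1 hker
  have hbij : Function.Bijective (MulAction.toPermHom G (G ⧸ H)) := by
    rw [Nat.bijective_iff_injective_and_card]
    refine ⟨hinj, ?_⟩
    rw [hGcard, Nat.card_perm, ← Subgroup.index, hidx]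
    rfl
  haveI : Fintype (G ⧸ H) := Fintype.ofFinite _
  have hc4 : Fintype.card (G ⧸ H) = 4 := by rw [← Nat.card_eq_fintype_card]; exact hidx
  exact ⟨(MulEquiv.ofBijective _ hbij).trans (Fintype.equivFinOfCardEq hc4).permCongrHom⟩

end Cfsg.Agent.S5355
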