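import Cfsg.Statements.S5356
import Cfsg.Agent.Lib.ThreeTransp.SylowSection

set_option autoImplicit false
open Cfsg

namespace Cfsg.Agent.S5356

/-- Let D be a conjugacy class of 3-transpositions generating the finite group G, with at least two members, and d a member of D such that every member of D commuting with d commutes with exactly the same members of D as d. Then there is a Sylow 3-subgroup P of G normalized by d such that G is generated by d, P and the largest normal 2-subgroup of G. -/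
theorem result {G : Type*} [Group G] [Finite G] {D : Set G} (hD : Cfsg.IsThreeTranspositionClass D) (hD2 : ∃ a ∈ D, ∃ b ∈ D, a ≠ b) {d : G} (hd : d ∈ D) (hV : {y : G | y ∈ D ∧ Commute d y} = {v : G | v ∈ D ∧ ∀ e ∈ D, Commute v e ↔ Commute d e}) : ∃ P : Sylow 3 G, d ∈ Subgroup.normalizer (P : Set G) ∧ Subgroup.zpowers d ⊔ (P : Subgroup G) ⊔ Cfsg.pCore 2 G = ⊤ := by
  obtain ⟨hG, htrans⟩ := ThreeTransp.Classes.of_class hD
  haveI : Fact (Nat.Prime 3) := ⟨Nat.prime_three⟩
  haveI : Fact (Nat.Prime 2) := ⟨Nat.prime_two⟩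
  have heq : ∀ a ∈ D, ∀ b ∈ D, Commute a b → ThreeTransp.Classes.SameComm D a b := by
    intro a ha b hb hc
    obtain ⟨g, rfl⟩ := htrans d hd a ha
    have hb' := ThreeTransp.Classes.inv_conj_mem hG g hb
    have h1 : ThreeTransp.Classes.SameComm D d (g⁻¹ * b * g) := by
      have h : g⁻¹ * b * g ∈ {y : G | y ∈ D ∧ Commute d y} := by
        refine ⟨hb', ?_⟩
        have := (ThreeTransp.Basic.commute_conj (g := g⁻¹)).2 hc
        rwa [show g⁻¹ * (g * d * g⁻¹) * g⁻¹⁻¹ = d by group, inv_inv] at this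
      rw [hV] at h
      exact h
    have h2 := ThreeTransp.Classes.sameComm_conj hG h1 g
    rwa [show g * (g⁻¹ * b * g) * g⁻¹ = b by group] at h2
  obtain ⟨U, hUD, hdU, hUc, hUm, hU1⟩ :=
    ThreeTransp.SylowSection.exists_section hG htrans hD2 heq hd
  set H := Subgroup.closure U with hH
  let UH : Set H := {x | (x : G) ∈ U}
  have hUHc : ∀ g : H, ∀ x ∈ UH, g * x * g⁻¹ ∈ UH := by
    rintro ⟨g, hg⟩ x hx
    show g * (x : G) * g⁻¹ ∈ U
    induction hg using Subgroup.closure_induction'' generalizing x with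
    | one => simp only [one_mul, inv_one, mul_one]; exact hx
    | mem y hy => rw [ThreeTransp.Classes.inv hG (hUD hy)]; exact hUc y hy x hx
    | inv_mem y hy => rw [inv_inv, ThreeTransp.Classes.inv hG (hUD hy)]; exact hUc y hy x hx
    | mul y z hy hz ihy ihz =>
      have h1 := ihz x hx
      have h3 := ihy ⟨_, Subgroup.subset_closure h1⟩ h1
      rwa [show y * z * (x : G) * (y * z)⁻¹ = y * (z * (x : G) * z⁻¹) * y⁻¹ by group]
  have hUHset : Cfsg.IsThreeTranspositionSet UH := by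
    refine ⟨fun x hx => ?_, fun x hx y hy => ?_⟩
    · rw [← Subgroup.orderOf_coe]; exact hG.1.1 _ (hUD hx)
    · exact (hG.1.2 _ (hUD hx) _ (hUD hy)).imp (fun h => Subtype.ext (by simpa using h))
        fun h => Subtype.ext (by simpa using h)
  have hprod : ∀ x ∈ UH, ∀ y ∈ UH, x * y ∈ Cfsg.pCore 3 H := fun x hx y hy =>
    ThreeTransp.WidthOne.mul_mem_pCore hUHset hUHc
      (fun a ha b hb hc => Subtype.ext (hU1 _ ha _ hb (congrArg Subtype.val hc.eq))) hx hy
  set P := (Cfsg.pCore 3 H).map H.subtype with hP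
  haveI hPn : (Cfsg.pCore 3 H).Normal := Cores.pCore_normal 3
  haveI : (Cfsg.pCore 2 G).Normal := Cores.pCore_normal 2
  have hdH : d ∈ H := Subgroup.subset_closure hdU
  have hH_le : H ≤ Subgroup.zpowers d ⊔ P := by
    rw [hH, Subgroup.closure_le]
    intro u hu
    rw [← one_mul u, ← ThreeTransp.Classes.sq hG hd, mul_assoc]
    exact Subgroup.mul_mem_sup (Subgroup.mem_zpowers d)
      ⟨⟨d, hdH⟩ * ⟨u, Subgroup.subset_closure hu⟩, hprod _ hdU _ hu, rfl⟩
  have htop : Subgroup.zpowers d ⊔ P ⊔ Cfsg.pCore 2 G = ⊤ := by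
    rw [eq_top_iff, ← hG.2.2, Subgroup.closure_le]
    intro x hx
    obtain ⟨u, hu, hxu⟩ := hUm x hx
    have h1 : u * x ∈ Cfsg.pCore 2 G := ThreeTransp.Classes.mul_mem_pCore_two hG hx hxu
    rw [← one_mul x, ← ThreeTransp.Classes.sq hG (hUD hu), mul_assoc]
    exact Subgroup.mul_mem_sup (hH_le (Subgroup.subset_closure hu)) h1
  -- orders
  let dd : H := ⟨d, hdH⟩
  have hcardH : Nat.card H ∣ 2 * Nat.card (Cfsg.pCore 3 H) := by
    have hsup : Subgroup.zpowers dd ⊔ Cfsg.pCore 3 H = ⊤ := by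
      rw [eq_top_iff]
      rintro ⟨x, hx⟩ -
      have h := hH_le hx
      have hle : Subgroup.zpowers d ⊔ P ≤ (Subgroup.zpowers dd ⊔ Cfsg.pCore 3 H).map H.subtype := by
        rw [Subgroup.map_sup, MonoidHom.map_zpowers]
        exact le_rfl
      obtain ⟨y, hy, hyx⟩ := hle h
      rwa [← Subtype.ext (show (y : G) = ((⟨x, hx⟩ : H) : G) from hyx)]
    have h := Cores.card_sup_dvd_mul (Subgroup.zpowers dd) (Cfsg.pCore 3 H)
    rw [hsup, Subgroup.card_top, Nat.card_zpowers, ← Subgroup.orderOf_coe] at h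
    exact (show orderOf (dd : G) = 2 from hG.1.1 d hd) ▸ h
  have hPp : IsPGroup 3 P := (Cores.pCore_isPGroup 3).map _
  have hidx : ¬ 3 ∣ P.index := by
    intro h3
    obtain ⟨a, ha⟩ := IsPGroup.iff_card.1 (Cores.pCore_isPGroup (G := G) 2)
    have hcP : Nat.card P = Nat.card (Cfsg.pCore 3 H) :=
      Subgroup.card_map_of_injective H.subtype_injective
    have hle : Subgroup.zpowers d ⊔ P ≤ H := sup_le ((Subgroup.zpowers_le).2 hdH) (Subgroup.map_subtype_le _)
    have hdvd : Nat.card G ∣ 2 * Nat.card P * 2 ^ a := by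
      have h := Cores.card_sup_dvd_mul (Subgroup.zpowers d ⊔ P) (Cfsg.pCore 2 G)
      rw [htop, Subgroup.card_top, le_antisymm hle hH_le, ha] at h
      exact h.trans (Nat.mul_dvd_mul_right (hcP ▸ hcardH) _)
    rw [← P.card_mul_index, show 2 * Nat.card P * 2 ^ a = Nat.card P * 2 ^ (a + 1) by ring] at hdvd
    have h1 := Nat.eq_zero_or_pos (Nat.card P)
    have h2 := h3.trans (Nat.dvd_of_mul_dvd_mul_left Nat.card_pos hdvd)
    exact absurd (Nat.prime_three.dvd_of_dvd_pow h2) (by norm_num)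
  refine ⟨hPp.toSylow hidx, ?_, htop⟩
  show d ∈ Subgroup.normalizer (P : Set G)
  refine Subgroup.mem_normalizer_iff_map_conj_eq.2 (Subgroup.eq_of_le_of_card_ge ?_
    (Subgroup.card_map_of_injective (MulAut.conj d).injective).ge)
  rintro _ ⟨_, ⟨q, hq, rfl⟩, rfl⟩
  exact ⟨dd * q * dd⁻¹, hPn.conj_mem q hq dd, rfl⟩

end Cfsg.Agent.S5356
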