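import Cfsg.Statements.S5358


set_option autoImplicit false
open scoped MatrixGroups
open Cfsg

namespace Cfsg.Agent.S5358

/-- Let Q be a non-degenerate quadratic form on the n-dimensional coordinate space over the field with three elements and u, v vectors of the same non-zero norm Q(u) = Q(v) spanning different lines (v ≠ u and v ≠ −u). Then the reflection matrices of u and v commute if and only if u and v are orthogonal for the polar form of Q. -/
theorem result (n : ℕ) (Q : QuadraticForm (ZMod 3) (Fin n → ZMod 3)) (hQ : (QuadraticMap.polarBilin Q).Nondegenerate) (u v : Fin n → ZMod 3) (hu : Q u ≠ 0) (huv : Q u = Q v) (h1 : v ≠ u) (h2 : v ≠ -u) : Commute (Cfsg.reflectionMatrix (⇑Q) u) (Cfsg.reflectionMatrix (⇑Q) v) ↔ QuadraticMap.polar (⇑Q) u v = 0 := by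
  set a := (Q u)⁻¹ with ha
  have hv : Q v ≠ 0 := huv ▸ hu
  have ha0 : a ≠ 0 := inv_ne_zero hu
  have hdot : ∀ p x : Fin n → ZMod 3, Cfsg.polarVec (⇑Q) p ⬝ᵥ x = QuadraticMap.polar (⇑Q) p x := by
    intro p x
    have hx : x = ∑ j, x j • (Pi.single j (1 : ZMod 3) : Fin n → ZMod 3) := by
      funext i
      simp [Finset.sum_apply, Pi.single_apply]
    conv_rhs => rw [hx]
    rw [← QuadraticMap.polarBilin_apply_apply, map_sum]
    simp only [map_smul, smul_eq_mul, QuadraticMap.polarBilin_apply_apply, dotProduct, Cfsg.polarVec]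
    exact Finset.sum_congr rfl fun i _ => mul_comm _ _
  set s := QuadraticMap.polar (⇑Q) u v with hs
  have hexp : ∀ p q : Fin n → ZMod 3, Q p = Q u → Q q = Q u →
      Cfsg.reflectionMatrix (⇑Q) p * Cfsg.reflectionMatrix (⇑Q) q =
        1 - a • Matrix.vecMulVec p (Cfsg.polarVec (⇑Q) p)
          - a • Matrix.vecMulVec q (Cfsg.polarVec (⇑Q) q)
          + (a * a * QuadraticMap.polar (⇑Q) p q) • Matrix.vecMulVec p (Cfsg.polarVec (⇑Q) q) := by
    intro p q hp hq
    simp only [Cfsg.reflectionMatrix, hp, hq, ← ha, sub_mul, mul_sub, one_mul, mul_one, smul_mul_assoc,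
      mul_smul_comm, Matrix.vecMulVec_mul_vecMulVec, hdot, smul_smul, Matrix.vecMulVec_smul]
    module
  unfold Commute SemiconjBy
  rw [hexp u v rfl huv.symm, hexp v u huv.symm rfl, QuadraticMap.polar_comm (⇑Q) v u, ← hs]
  constructor
  · intro h
    by_contra hs0
    have e : (a * a * s) • Matrix.vecMulVec u (Cfsg.polarVec (⇑Q) v) =
        (a * a * s) • Matrix.vecMulVec v (Cfsg.polarVec (⇑Q) u) := by
      have h' := sub_eq_zero.2 h
      apply sub_eq_zero.1
      rw [← h']
      abel
    have e2 := smul_right_injective _ (mul_ne_zero (mul_ne_zero ha0 ha0) hs0) e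
    have e3 := congrArg (fun M : Matrix (Fin n) (Fin n) (ZMod 3) => Matrix.mulVec M v) e2
    simp only [Matrix.vecMulVec_mulVec, hdot, op_smul_eq_smul, QuadraticMap.polar_self] at e3
    rw [← hs] at e3
    have h2v := h2
    have h2 : (2 • Q v : ZMod 3) ≠ 0 := by
      intro h0
      apply hv
      revert h0
      generalize Q v = r
      revert r
      decide
    have hu' : u = ((2 • Q v)⁻¹ * s) • v := by
      rw [← smul_smul, ← e3, smul_smul, inv_mul_cancel₀ h2, one_smul]
    set t := (2 • Q v)⁻¹ * s
    have hQ' : Q u = t * t * Q v := by rw [hu', QuadraticMap.map_smul, smul_eq_mul]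
    rw [huv] at hQ'
    have ht : t = 1 ∨ t = -1 := by
      have : t * t = 1 := (mul_eq_right₀ hv).1 hQ'.symm
      exact mul_self_eq_one_iff.1 this
    rcases ht with ht | ht <;> rw [ht] at hu'
    · exact h1 (by rw [hu', one_smul])
    · exact h2v (by rw [hu']; simp)
  · intro h
    rw [h]
    simp only [mul_zero, zero_smul, add_zero]
    abel

end Cfsg.Agent.S5358
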