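import Cfsg.Statements.S5363
import Cfsg.Agent.Lib.Involutions.Basic
import Cfsg.Agent.Lib.ThreeTransp.Basic
import Cfsg.Agent.Lib.ThreeTransp.Dihedral

set_option autoImplicit false
open Cfsg

namespace Cfsg.Agent.S5363

open Cfsg.Agent.Involutions.Basic
open Cfsg.Agent.ThreeTransp

/-- Let D be a conjugation-invariant set of involutions of a finite group G. Then every product of two members of D has odd order or order 2 if and only if, for every a in D and every b in D different from a and commuting with a, the members of D commuting with a b are exactly those commuting with both a and b. -/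
theorem result {G : Type*} [Group G] [Finite G] {D : Set G} (hinv : ∀ d ∈ D, orderOf d = 2) (hconj : ∀ g : G, ∀ d ∈ D, g * d * g⁻¹ ∈ D) : (∀ a ∈ D, ∀ b ∈ D, Odd (orderOf (a * b)) ∨ orderOf (a * b) = 2) ↔ ∀ a ∈ D, ∀ b ∈ D, b ≠ a → Commute a b → {y : G | y ∈ D ∧ Commute (a * b) y} = {y : G | y ∈ D ∧ Commute a y} ∩ {y : G | y ∈ D ∧ Commute b y} := by
  constructor
  · intro h a ha b hb hba hab
    have hA := hinv a ha
    have hB := hinv b hb
    have hz2 : (a * b) * (a * b) = 1 := by
      rw [← pow_two]; exact (Basic.sq_prod_eq_one_iff (inv_sq_one hA) (inv_sq_one hB)).2 hab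
    have hz1 : a * b ≠ 1 := fun e => hba <| by
      rw [eq_inv_of_mul_eq_one_right e, inv_eq hA]
    have hazc : Commute a (a * b) := (Commute.refl a).mul_right hab
    have haz : a * (a * b) = b := by rw [← mul_assoc, inv_sq_one hA, one_mul]
    ext y
    simp only [Set.mem_inter_iff, Set.mem_setOf_eq]
    refine ⟨?_, fun h' => ⟨h'.1.1, h'.1.2.mul_left h'.2.2⟩⟩
    rintro ⟨hy, hc⟩
    have hY := hinv y hy
    suffices Commute a y by
      refine ⟨⟨hy, this⟩, hy, ?_⟩
      have h2 := this.mul_left hc
      rwa [haz] at h2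
    by_contra hay
    have hnodd : Odd (orderOf (a * y)) := by
      rcases h a ha y hy with h' | h'
      · exact h'
      · refine absurd ((Basic.sq_prod_eq_one_iff (inv_sq_one hA) (inv_sq_one hY)).1 ?_) hay
        rw [← h']; exact pow_orderOf_eq_one _
    obtain ⟨δ, hδ, hδy⟩ := exists_conj_of_odd hA hY hnodd
    have hayz : Commute (a * y) (a * b) := hazc.mul_left hc.symm
    have hδz : Commute δ (a * b) := by
      obtain ⟨k, rfl⟩ := hδ
      exact hayz.zpow_left k
    have hyz : y * (a * b) ∈ D := by
      have e : y * (a * b) = δ * b * δ⁻¹ := by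
        calc y * (a * b) = δ * a * (δ⁻¹ * (a * b)) := by rw [← hδy, mul_assoc]
          _ = δ * a * ((a * b) * δ⁻¹) := by rw [hδz.inv_left.eq]
          _ = δ * (a * (a * b)) * δ⁻¹ := by simp only [mul_assoc]
          _ = _ := by rw [haz]
      rw [e]; exact hconj δ b hb
    have hpow := fun k : ℕ => show (a * (y * (a * b))) ^ k = (a * y) ^ k * (a * b) ^ k by
      rw [← mul_assoc a y, hayz.mul_pow]
    rcases h a ha _ hyz with ho | ho
    · obtain ⟨k, hk⟩ := ho
      have e1 := pow_orderOf_eq_one (a * (y * (a * b)))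
      rw [hk, hpow, pow_succ (a * b), pow_mul, pow_two, hz2, one_pow, one_mul] at e1
      have e2 : ((a * y) ^ (2 * k + 1)) ^ orderOf (a * y) = 1 := by
        rw [← pow_mul, mul_comm, pow_mul, pow_orderOf_eq_one, one_pow]
      rw [eq_inv_of_mul_eq_one_left e1, inv_pow, inv_eq_one] at e2
      obtain ⟨l, hl⟩ := hnodd
      rw [hl, pow_succ, pow_mul, pow_two, hz2, one_pow, one_mul] at e2
      exact hz1 e2
    · have e1 := pow_orderOf_eq_one (a * (y * (a * b)))
      rw [ho, hpow, pow_two (a * b), hz2, mul_one] at e1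
      exact hay ((Basic.sq_prod_eq_one_iff (inv_sq_one hA) (inv_sq_one hY)).1 e1)
  · intro h a ha b hb
    have hA := hinv a ha
    have hB := hinv b hb
    by_contra hcon
    push Not at hcon
    have heven : Even (orderOf (a * b)) := Nat.not_odd_iff_even.1 hcon.1
    obtain ⟨hzo, hza, hzb⟩ := middle_involution hA hB heven
    set z := (a * b) ^ (orderOf (a * b) / 2) with hz
    have haz : a * z ∈ D := Dihedral.mem_of_mul_pow hconj hA hB ha hb _
    have hne : a * z ≠ a := by simpa using ne_one hzo
    have hco : Commute a (a * z) := (Commute.refl a).mul_right hza.symm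
    have hset := h a ha (a * z) haz hne hco
    rw [show a * (a * z) = z by rw [← mul_assoc, inv_sq_one hA, one_mul]] at hset
    have hab : Commute a b := ((Set.ext_iff.1 hset b).1 ⟨hb, hzb⟩).1.2
    have h2 := orderOf_dvd_of_pow_eq_one
      ((Basic.sq_prod_eq_one_iff (inv_sq_one hA) (inv_sq_one hB)).2 hab)
    rcases (Nat.dvd_prime Nat.prime_two).1 h2 with h1 | h1
    · rw [h1] at heven; exact absurd heven (by decide)
    · exact hcon.2 h1

end Cfsg.Agent.S5363
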