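import Cfsg.Statements.S5364
import Cfsg.Agent.Lib.ThreeTransp.Basic

set_option autoImplicit false
open Cfsg

namespace Cfsg.Agent.S5364

open Cfsg.Agent.ThreeTransp

/-- Let D be a conjugation-invariant set of involutions of a finite group G and t an involution in the centre of G such that d t does not lie in D for any d in D. If the images of the members of D in G modulo the subgroup generated by t satisfy the 3-transposition order conditions (each has order 2 and any two have product of order at most 3), then so do the members of D. -/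
theorem result {G : Type*} [Group G] [Finite G] {D : Set G} (hinv : ∀ d ∈ D, orderOf d = 2) (hconj : ∀ g : G, ∀ d ∈ D, g * d * g⁻¹ ∈ D) (t : G) (ht : orderOf t = 2) (htZ : t ∈ Subgroup.center G) (hDt : ∀ d ∈ D, d * t ∉ D) [(Subgroup.zpowers t).Normal] (himg : Cfsg.IsThreeTranspositionSet ((QuotientGroup.mk : G → G ⧸ Subgroup.zpowers t) '' D)) : Cfsg.IsThreeTranspositionSet D := by
  refine ⟨hinv, fun d hd e he => ?_⟩
  have hd2 := Basic.mul_self_of_orderOf_two (hinv d hd)
  have he2 := Basic.mul_self_of_orderOf_two (hinv e he)
  have ht2 : t * t = 1 := Basic.mul_self_of_orderOf_two ht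
  have key : ∀ x ∈ Subgroup.zpowers t, x = 1 ∨ x = t := by
    rintro x ⟨k, rfl⟩
    dsimp only
    rcases Int.even_or_odd' k with ⟨i, rfl | rfl⟩
    · left; rw [zpow_mul, zpow_two, ht2, one_zpow]
    · right; rw [zpow_add, zpow_mul, zpow_two, ht2, one_zpow, one_mul, zpow_one]
  have hcomm : d * t = t * d := ((Subgroup.mem_center_iff.1 htZ) d)
  rcases himg.2 _ ⟨d, hd, rfl⟩ _ ⟨e, he, rfl⟩ with h | h <;>
    rw [← QuotientGroup.mk_mul, ← QuotientGroup.mk_pow, QuotientGroup.eq_one_iff] at h
  · left
    refine (key _ h).resolve_right fun h1 => hDt d hd ?_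
    have := hconj e d hd
    rw [Basic.inv_eq_of_orderOf_two (hinv e he)] at this
    rw [show d * t = e * d * e by
      rw [← h1, pow_two]; simp [← mul_assoc, hd2]]
    exact this
  · right
    refine (key _ h).resolve_right fun h1 => hDt d hd ?_
    have := hconj (d * e * d) e he
    rw [show d * t = d * e * d * e * (d * e * d)⁻¹ by
      rw [hcomm, ← h1, mul_inv_rev, mul_inv_rev, Basic.inv_eq_of_orderOf_two (hinv e he),
        Basic.inv_eq_of_orderOf_two (hinv d hd)]
      simp [pow_succ, mul_assoc]]
    exact this

end Cfsg.Agent.S5364
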