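import Cfsg.Statements.S5365
import Cfsg.Agent.Lib.ThreeTransp.LocalSThree

set_option autoImplicit false
open Cfsg

namespace Cfsg.Agent.S5365

set_option synthInstance.maxSize 4000 in
set_option synthInstance.maxHeartbeats 400000 in
theorem perm_three : ∀ x y z : Equiv.Perm (Fin 3), x * x = 1 → x ≠ 1 → y * y = 1 → y ≠ 1 → z * z = 1 →
    z ≠ 1 → x ≠ y → x * y ≠ y * x ∧ (z = x ∨ z = y ∨ z = x * y * x) := by decide +kernel

theorem center_three : ∀ z : Equiv.Perm (Fin 3), (∀ w : Equiv.Perm (Fin 3), w * z = z * w) → z = 1 := by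
  decide +kernel

/-- Let D be a non-empty conjugation-invariant set of involutions of a finite group G satisfying the 3-transposition order conditions, and suppose that for every d in D the members of D other than d commuting with d generate a subgroup isomorphic to the symmetric group of degree 3, and the largest normal 3-subgroup of the centralizer of d has order 3. Then the subgroup generated by D is isomorphic to the symmetric group of degree 5 or to the direct product of two symmetric groups of degree 3. -/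
theorem result {G : Type*} [Group G] [Finite G] {D : Set G} (hD : Cfsg.IsThreeTranspositionSet D) (hconj : ∀ g : G, ∀ d ∈ D, g * d * g⁻¹ ∈ D) (hne : D.Nonempty) (hloc : ∀ d ∈ D, Nonempty (↥(Subgroup.closure {y : G | y ∈ D ∧ y ≠ d ∧ Commute d y}) ≃* Equiv.Perm (Fin 3)) ∧ Nat.card (Cfsg.pCore 3 ↥(Subgroup.centralizer ({d} : Set G))) = 3) : Nonempty (↥(Subgroup.closure D) ≃* Equiv.Perm (Fin 5)) ∨ Nonempty (↥(Subgroup.closure D) ≃* Equiv.Perm (Fin 3) × Equiv.Perm (Fin 3)) := by
  classical
  set H := Subgroup.closure D with hH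
  set D' : Set H := {g : H | (g : G) ∈ D} with hD'
  have hG : Cfsg.IsThreeTranspositionGroup D' := by
    refine ⟨⟨fun d hd => by rw [← Subgroup.orderOf_coe]; exact hD.1 _ hd, fun d hd e he => ?_⟩,
      fun g d hd => hconj g d hd, Subgroup.closure_closure_coe_preimage⟩
    rcases hD.2 _ hd _ he with h | h
    · exact Or.inl (Subtype.ext h)
    · exact Or.inr (Subtype.ext h)
  have hHn : H.Normal := by
    refine ⟨fun x hx g => ?_⟩
    suffices H ≤ H.comap (MulAut.conj g).toMonoidHom from this hx
    exact (Subgroup.closure_le _).2 fun y hy => Subgroup.subset_closure (hconj g y hy)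
  have himg : ∀ d : H, Subtype.val '' (ThreeTransp.LocalSThree.Nb D' d) =
      {y : G | y ∈ D ∧ y ≠ (d : G) ∧ Commute (d : G) y} := by
    intro d
    ext y
    constructor
    · rintro ⟨x, ⟨h1, h2, h3⟩, rfl⟩
      exact ⟨h1, fun h => h2 (Subtype.ext h), congrArg Subtype.val h3.eq⟩
    · rintro ⟨h1, h2, h3⟩
      exact ⟨⟨y, Subgroup.subset_closure h1⟩, ⟨h1, fun h => h2 (congrArg Subtype.val h),
        Subtype.ext h3.eq⟩, rfl⟩
  have hA : ∀ d : H, (d : G) ∈ D →
      Nonempty (↥(Subgroup.closure (ThreeTransp.LocalSThree.Nb D' d)) ≃* Equiv.Perm (Fin 3)) := by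
    intro d hd
    obtain ⟨e⟩ := (hloc d hd).1
    refine ⟨((Subgroup.equivMapOfInjective _ H.subtype (Subgroup.subtype_injective _)).trans
      (MulEquiv.subgroupCongr ?_)).trans e⟩
    rw [MonoidHom.map_closure]
    congr 1
    exact himg d
  have hT : ThreeTransp.LocalSThree.Tri D' := by
    intro d hd
    obtain ⟨e⟩ := hA d hd
    set S := ThreeTransp.LocalSThree.Nb D' d with hS
    set A := Subgroup.closure S
    have hinvol : ∀ x, ∀ hx : x ∈ S, e ⟨x, Subgroup.subset_closure hx⟩ * e ⟨x, Subgroup.subset_closure hx⟩ = 1 ∧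
        e ⟨x, Subgroup.subset_closure hx⟩ ≠ 1 := fun x hx => by
      refine ⟨?_, fun h => ThreeTransp.Basic.ne_one hG.1 hx.1 (congrArg Subtype.val
        (e.map_eq_one_iff.1 h))⟩
      rw [← map_mul, e.map_eq_one_iff]
      exact Subtype.ext (ThreeTransp.Classes.sq hG hx.1)
    obtain ⟨a, ha, b, hb, hab⟩ : ∃ a ∈ S, ∃ b ∈ S, a ≠ b := by
      by_contra hcon
      push Not at hcon
      have h6 : Nat.card A = 6 := by
        rw [Nat.card_congr e.toEquiv, Nat.card_eq_fintype_card]; decide
      rcases S.eq_empty_or_nonempty with h | ⟨a, ha⟩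
      · have : A = ⊥ := by show Subgroup.closure S = ⊥; rw [h, Subgroup.closure_empty]
        rw [this, Subgroup.card_bot] at h6; omega
      · have hle : A ≤ Subgroup.zpowers a :=
          (Subgroup.closure_le _).2 fun x hx => by rw [hcon x hx a ha]; exact Subgroup.mem_zpowers a
        have := Subgroup.card_le_of_le hle
        rw [Nat.card_zpowers, hG.1.1 a ha.1] at this
        omega
    have hne : e ⟨a, Subgroup.subset_closure ha⟩ ≠ e ⟨b, Subgroup.subset_closure hb⟩ := fun h =>
      hab (congrArg Subtype.val (e.injective h))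
    obtain ⟨hnc, -⟩ := perm_three _ _ _ (hinvol a ha).1 (hinvol a ha).2 (hinvol b hb).1 (hinvol b hb).2
      (hinvol a ha).1 (hinvol a ha).2 hne
    have hnab : ¬ Commute a b := fun h => hnc (by
      rw [← map_mul, ← map_mul]; exact congrArg e (Subtype.ext h.eq))
    refine ⟨a, b, hnab, Set.Subset.antisymm (fun z hz => ?_) ?_⟩
    · obtain ⟨-, h⟩ := perm_three _ _ _ (hinvol a ha).1 (hinvol a ha).2 (hinvol b hb).1 (hinvol b hb).2
        (hinvol z hz).1 (hinvol z hz).2 hne
      rw [← map_mul, ← map_mul, e.injective.eq_iff, e.injective.eq_iff, e.injective.eq_iff] at h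
      rcases h with h | h | h
      · exact Or.inl (congrArg Subtype.val h)
      · exact Or.inr (Or.inl (congrArg Subtype.val h))
      · exact Or.inr (Or.inr (congrArg Subtype.val h))
    · rintro z (rfl | rfl | rfl)
      · exact ha
      · exact hb
      · refine ⟨ThreeTransp.Classes.conj_mem hG ha.1 hb.1, fun h => ?_,
          (ha.2.2.mul_right hb.2.2).mul_right ha.2.2⟩
        have t1 := (ThreeTransp.Classes.triangle hG ha.1 hb.1 hnab).1
        exact t1 (h ▸ ha.2.2.symm)
  have hN : ∀ d ∈ D', Nat.card ↥(Cfsg.pCore 3 ↥H ⊓ Subgroup.centralizer ({d} : Set ↥H)) ≤ 3 := by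
    intro d hd
    haveI : Fact (Nat.Prime 3) := ⟨Nat.prime_three⟩
    set N := (Cfsg.pCore 3 ↥H).map H.subtype with hNdef
    haveI : (Cfsg.pCore 3 ↥H).Characteristic := Cores.pCore_characteristic 3
    haveI : N.Normal := ConjAct.normal_of_characteristic_of_normal
    set C := Subgroup.centralizer ({(d : G)} : Set G) with hC
    have hNp : IsPGroup 3 N := (Cores.pCore_isPGroup 3).map _
    have hle : N.subgroupOf C ≤ Cfsg.pCore 3 ↥C := Cores.le_pCore hNp.comap_subtype
    refine le_trans ?_ ((Subgroup.card_le_of_le hle).trans_eq (hloc _ hd).2)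
    refine Nat.card_le_card_of_injective (fun x => ⟨⟨((x : H) : G), ?_⟩, ?_⟩) ?_
    · exact Subgroup.mem_centralizer_singleton_iff.2
        (congrArg Subtype.val (Subgroup.mem_centralizer_singleton_iff.1 (Subgroup.mem_inf.1 x.2).2))
    · exact ⟨_, (Subgroup.mem_inf.1 x.2).1, rfl⟩
    · intro x y h
      exact Subtype.ext (Subtype.ext (congrArg (fun z : ↥(N.subgroupOf C) => ((z : C) : G)) h))
  obtain ⟨d0, hd0⟩ := hne
  by_cases hcase : ∀ d ∈ D', ∀ a ∈ ThreeTransp.LocalSThree.Nb D' d, ∀ b ∈ ThreeTransp.LocalSThree.Nb D' d,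
      a ≠ b → ThreeTransp.LocalSThree.Nb D' a ≠ ThreeTransp.LocalSThree.Nb D' b
  · exact Or.inl (ThreeTransp.LocalSThree.petersen hG hT hcase
      (d₀ := ⟨d0, Subgroup.subset_closure hd0⟩) hd0)
  · push Not at hcase
    obtain ⟨d, hd, a, ha, b, hb, hab, hsame⟩ := hcase
    obtain ⟨hDeq, hdis, hcomm⟩ := ThreeTransp.LocalSThree.bipartite hG hT hN hd ha hb hab hsame
    obtain ⟨eA⟩ := hA d hd
    obtain ⟨eB⟩ := hA a ha.1
    set A := Subgroup.closure (ThreeTransp.LocalSThree.Nb D' d)
    set B := Subgroup.closure (ThreeTransp.LocalSThree.Nb D' a)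
    have hAB : ∀ (x : A) (y : B), Commute (A.subtype x) (B.subtype y) := by
      intro x y
      have h1 : A ≤ Subgroup.centralizer (B : Set ↥H) := by
        rw [Subgroup.centralizer_closure]
        exact (Subgroup.closure_le _).2 fun u hu => Subgroup.mem_centralizer_iff.2 fun v hv =>
          (hcomm u hu v hv).eq.symm
      exact (Subgroup.mem_centralizer_iff.1 (h1 x.2) _ y.2).symm
    let m := MonoidHom.noncommCoprod A.subtype B.subtype hAB
    have hinj : Function.Injective m := by
      rw [injective_iff_map_eq_one]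
      rintro ⟨x, y⟩ h
      have h' : (x : ↥H) * y = 1 := h
      have hxB : (x : ↥H) ∈ B := (eq_inv_of_mul_eq_one_left h') ▸ B.inv_mem y.2
      have hxz : eA x = 1 := center_three _ fun w => by
        obtain ⟨u, rfl⟩ := eA.surjective w
        rw [← map_mul, ← map_mul]
        exact congrArg eA (Subtype.ext (hAB u ⟨x, hxB⟩).eq)
      have hx1 : x = 1 := eA.map_eq_one_iff.1 hxz
      subst hx1
      have : (y : ↥H) = 1 := by simpa using h'
      exact Prod.ext rfl (Subtype.ext this)
    have hsurj : Function.Surjective m := by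
      rw [← MonoidHom.range_eq_top, eq_top_iff, ← hG.2.2, Subgroup.closure_le, hDeq]
      rintro x (hx | hx)
      · exact ⟨(⟨x, Subgroup.subset_closure hx⟩, 1), by simp [m]⟩
      · exact ⟨(1, ⟨x, Subgroup.subset_closure hx⟩), by simp [m]⟩
    exact Or.inr ⟨(MulEquiv.ofBijective m ⟨hinj, hsurj⟩).symm.trans (eA.prodCongr eB)⟩

end Cfsg.Agent.S5365
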