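import Cfsg.Statements.S5366
import Cfsg.Agent.Lib.ThreeTransp.Basic

set_option autoImplicit false
open Cfsg

namespace Cfsg.Agent.S5366

theorem eq_triple {P : Type*} {m : Set P} {X Y Z : P} (h3 : m.ncard = 3) (hX : X ∈ m) (hY : Y ∈ m)
    (hZ : Z ∈ m) (h1 : X ≠ Y) (h2 : X ≠ Z) (h4 : Y ≠ Z) : m = {X, Y, Z} := by
  refine (Set.eq_of_subset_of_ncard_le ?_ ?_ (Set.finite_of_ncard_ne_zero (by omega))).symm
  · rintro w (rfl | rfl | rfl) <;> assumption
  · rw [h3, Set.ncard_eq_three.2 ⟨X, Y, Z, h1, h2, h4, rfl⟩]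

/-- What is needed of the two model planes. -/
def Model {P : Type*} (M : Set (Set P)) : Prop :=
  ∃ τ : P → P → P, (∀ X, ∀ m ∈ M, ∃ m' ∈ M, ∀ Y ∈ m, τ X Y ∈ m') ∧
    (∀ X Y Z : P, X ≠ Y → X ≠ Z → Y ≠ Z → (∃ m ∈ M, X ∈ m ∧ Y ∈ m ∧ Z ∈ m) → τ X Y = Z) ∧
    (∀ X Y : P, (X = Y ∨ ¬ ∃ m ∈ M, X ∈ m ∧ Y ∈ m) → τ X Y = Y)

theorem affine_model : Model Cfsg.affinePlaneThree := by
  refine ⟨fun X Y => -X - Y, ?_, ?_, ?_⟩
  · rintro X _ ⟨v, w, hw, rfl⟩
    refine ⟨_, ⟨-X - v, -w, neg_ne_zero.2 hw, rfl⟩, ?_⟩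
    rintro _ ⟨c, rfl⟩
    exact ⟨c, by rw [smul_neg]; abel⟩
  · rintro X Y Z h1 h2 h4 ⟨_, ⟨v, w, -, rfl⟩, ⟨a, rfl⟩, ⟨b, rfl⟩, ⟨c, rfl⟩⟩
    have hab : a ≠ b := fun h => h1 (by rw [h])
    have hac : a ≠ c := fun h => h2 (by rw [h])
    have hbc : b ≠ c := fun h => h4 (by rw [h])
    funext t
    simp only [Pi.sub_apply, Pi.neg_apply, Pi.add_apply, Pi.smul_apply, smul_eq_mul]
    revert hab hac hbc
    clear h1 h2 h4
    generalize v t = p
    generalize w t = q
    revert a b c p q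
    decide
  · intro X Y h
    have hXY : X = Y := by
      refine h.resolve_right fun hn => ?_
      by_cases hXY : X = Y
      · exact hn ⟨_, ⟨X, fun _ => 1, fun h0 => one_ne_zero (congrFun h0 0), rfl⟩, ⟨0, by simp⟩,
          ⟨0, by simp [hXY]⟩⟩
      · exact hn ⟨_, ⟨X, Y - X, sub_ne_zero.2 (Ne.symm hXY), rfl⟩, ⟨0, by simp⟩, ⟨1, by simp⟩⟩
    subst hXY
    funext t
    simp only [Pi.sub_apply, Pi.neg_apply]
    generalize X t = p
    revert p
    decide

theorem dual_model : Model Cfsg.dualAffinePlaneTwo := by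
  have hcard : ∀ (f : Equiv.Perm (Fin 4)) (Y : Cfsg.DualAffinePoint),
      (Y.val.map f.toEmbedding).card = 2 := fun f Y => by rw [Finset.card_map]; exact Y.2
  have htwo : ∀ X : Cfsg.DualAffinePoint, ∃ p : Fin 4 × Fin 4, X.val = {p.1, p.2} ∧ p.1 ≠ p.2 := by
    decide
  choose pr hpr using htwo
  refine ⟨fun X Y => ⟨Y.val.map (Equiv.swap (pr X).1 (pr X).2).toEmbedding, hcard _ Y⟩, ?_, ?_, ?_⟩
  · rintro X _ ⟨i, rfl⟩
    refine ⟨_, ⟨Equiv.swap (pr X).1 (pr X).2 i, rfl⟩, fun Y hY => ?_⟩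
    show Equiv.swap (pr X).1 (pr X).2 i ∉ Y.val.map _
    rw [Finset.mem_map_equiv, Equiv.symm_swap, Equiv.swap_apply_self]
    exact hY
  · rintro X Y Z h1 h2 h4 ⟨_, ⟨i, rfl⟩, hX, hY, hZ⟩
    have key : ∀ (a b i : Fin 4) (X Y : Cfsg.DualAffinePoint), X.val = {a, b} → X ≠ Y →
        i ∉ X.val ∧ i ∉ Y.val → ∀ Z : Cfsg.DualAffinePoint, i ∉ Z.val → Z ≠ X ∧ Z ≠ Y →
          Y.val.map (Equiv.swap a b).toEmbedding = Z.val := by
      decide
    exact Subtype.ext (key _ _ i X Y (hpr X).1 h1 ⟨hX, hY⟩ Z hZ ⟨h2.symm, h4.symm⟩)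
  · intro X Y h
    have key : ∀ (a b : Fin 4) (X Y : Cfsg.DualAffinePoint), X.val = {a, b} →
        (X = Y ∨ X.val ∪ Y.val = Finset.univ) → Y.val.map (Equiv.swap a b).toEmbedding = Y.val := by
      decide
    refine Subtype.ext (key _ _ X Y (hpr X).1 (h.imp id fun hn => ?_))
    by_contra hu
    obtain ⟨i, hi⟩ : ∃ i, i ∉ X.val ∪ Y.val := by
      simpa [Finset.eq_univ_iff_forall] using hu
    rw [Finset.mem_union, not_or] at hi
    exact hn ⟨_, ⟨i, rfl⟩, hi.1, hi.2⟩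

/-- Let L be a nondegenerate Fischer space on the point type X (every point on a line). Then for every point x the map t(x) — sending a point collinear with x to the third point of their common line and fixing every other point — is a permutation of X of order 2 and an automorphism of the line system; and the set of all t(x) satisfies the 3-transposition order conditions in the permutation group of X (any two have product of order at most 3). -/
theorem result {X : Type*} (L : Set (Set X)) (hL : Cfsg.IsFischerSpace L) (hnd : Cfsg.LineSystem.IsNondegenerate L) : (∀ x : X, ∃ σ : Equiv.Perm X, ⇑σ = Cfsg.LineSystem.lineMap L x ∧ orderOf σ = 2 ∧ Cfsg.LineSystem.IsIso L L σ) ∧ Cfsg.IsThreeTranspositionSet {σ : Equiv.Perm X | ∃ x : X, ⇑σ = Cfsg.LineSystem.lineMap L x} := by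
  classical
  obtain ⟨hpl, h3, hplane⟩ := hL
  set t := Cfsg.LineSystem.lineMap L with ht
  -- the values of the maps
  have hline : ∀ l ∈ L, ∀ x ∈ l, ∀ y ∈ l, x ≠ y → ∀ z ∈ l, z ≠ x → z ≠ y → t x y = z := by
    intro l hl x hx y hy hxy z hz hzx hzy
    have e := eq_triple (h3 l hl) hx hy hz hxy hzx.symm hzy.symm
    have hex : ∃ z : X, z ≠ x ∧ z ≠ y ∧ x ≠ y ∧ ({x, y, z} : Set X) ∈ L := ⟨z, hzx, hzy, hxy, e ▸ hl⟩
    show Cfsg.LineSystem.lineMap L x y = z
    simp only [Cfsg.LineSystem.lineMap, dif_pos hex]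
    obtain ⟨c1, c2, -, c4⟩ := hex.choose_spec
    have hc : hex.choose ∈ l := by
      rw [hpl l hl _ c4 x y hxy hx hy (Or.inl rfl) (Or.inr (Or.inl rfl))]
      exact Or.inr (Or.inr rfl)
    rw [e] at hc
    rcases hc with h | h | h
    exacts [absurd h c1, absurd h c2, h]
  have hfixed : ∀ x y : X, (¬ Cfsg.LineSystem.Collinear L x y) → t x y = y := by
    intro x y h
    show Cfsg.LineSystem.lineMap L x y = y
    simp only [Cfsg.LineSystem.lineMap]
    rw [dif_neg]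
    rintro ⟨z, -, -, hxy, hl⟩
    exact h ⟨hxy, _, hl, Or.inl rfl, Or.inr (Or.inl rfl)⟩
  have hself : ∀ x : X, t x x = x := fun x => hfixed x x fun h => h.1 rfl
  have hmove : ∀ x y : X, Cfsg.LineSystem.Collinear L x y →
      ∃ l ∈ L, x ∈ l ∧ y ∈ l ∧ t x y ∈ l ∧ t x y ≠ x ∧ t x y ≠ y := by
    rintro x y ⟨hxy, l, hl, hx, hy⟩
    obtain ⟨p, q, r, hpq, hpr, hqr, e⟩ := Set.ncard_eq_three.1 (h3 l hl)
    obtain ⟨z, hz, hzx, hzy⟩ : ∃ z ∈ l, z ≠ x ∧ z ≠ y := by
      subst e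
      rcases hx with rfl | rfl | rfl <;> rcases hy with rfl | rfl | rfl <;>
        first
          | exact absurd rfl hxy
          | exact ⟨_, Or.inl rfl, by tauto, by tauto⟩
          | exact ⟨_, Or.inr (Or.inl rfl), by tauto, by tauto⟩
          | exact ⟨_, Or.inr (Or.inr rfl), by tauto, by tauto⟩
    exact ⟨l, hl, hx, hy, by rw [hline l hl x hx y hy hxy z hz hzx hzy]; exact ⟨hz, hzx, hzy⟩⟩
  have hinv : ∀ x y : X, t x (t x y) = y := by
    intro x y
    by_cases h : Cfsg.LineSystem.Collinear L x y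
    · obtain ⟨l, hl, hx, hy, hz, hzx, hzy⟩ := hmove x y h
      exact hline l hl x hx _ hz hzx.symm y hy h.1.symm hzy.symm
    · rw [hfixed x y h, hfixed x y h]
  -- images of lines
  have himage : ∀ x : X, ∀ m ∈ L, (t x) '' m ∈ L := by
    intro x m hm
    have hinj : Function.Injective (t x) := Function.LeftInverse.injective (hinv x)
    have hc : ((t x) '' m).ncard = 3 := by rw [Set.ncard_image_of_injective _ hinj, h3 m hm]
    suffices h : ∃ m' ∈ L, ∀ y ∈ m, t x y ∈ m' by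
      obtain ⟨m', hm', hsub⟩ := h
      rw [Set.eq_of_subset_of_ncard_le (s := (t x) '' m) (t := m') (by rintro _ ⟨y, hy, rfl⟩; exact hsub y hy)
        (by rw [hc, h3 m' hm']) (Set.finite_of_ncard_ne_zero (by rw [h3 m' hm']; norm_num))]
      exact hm'
    by_cases hxm : x ∈ m
    · refine ⟨m, hm, fun y hy => ?_⟩
      by_cases hyx : x = y
      · rw [← hyx, hself]; exact hxm
      obtain ⟨l, hl, hx, hy', hz, -, -⟩ := hmove x y ⟨hyx, m, hm, hxm, hy⟩
      rwa [hpl l hl m hm x y hyx hx hy' hxm hy] at hz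
    by_cases hall : ∀ y ∈ m, ¬ Cfsg.LineSystem.Collinear L x y
    · exact ⟨m, hm, fun y hy => by rw [hfixed x y (hall y hy)]; exact hy⟩
    push_neg at hall
    obtain ⟨p, hp, hxp, l, hl, hxl, hpl'⟩ := hall
    have hlm : l ≠ m := fun h => hxm (h ▸ hxl)
    set S := Cfsg.LineSystem.span L (l ∪ m) with hS
    have hsub : Cfsg.LineSystem.IsSubspace L S := by
      intro k hk a ha b hb hab hak hbk w hw T hT
      exact hT.2 k hk a (ha T hT) b (hb T hT) hab hak hbk hw
    have hxS : x ∈ S := fun T hT => hT.1 (Or.inl hxl)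
    have hmS : ∀ y ∈ m, y ∈ S := fun y hy T hT => hT.1 (Or.inr hy)
    have key : ∀ {P : Type} (M : Set (Set P)), Model M →
        Cfsg.LineSystem.Isomorphic (Cfsg.LineSystem.restrict L S) M → ∃ m' ∈ L, ∀ y ∈ m, t x y ∈ m' := by
      rintro P M ⟨τ, hτline, hτmove, hτfix⟩ ⟨e, he⟩
      have hres : ∀ k ∈ L, k ⊆ S → e '' {z : S | (z : X) ∈ k} ∈ M := fun k hk hkS =>
        (he _).1 ⟨k, hk, hkS, rfl⟩
      have hback : ∀ k ∈ M, ∃ k' ∈ L, k' ⊆ S ∧ ∀ z : S, e z ∈ k ↔ (z : X) ∈ k' := by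
        intro k hk
        have h1 : e '' (e ⁻¹' k) ∈ M := by rwa [e.image_preimage]
        obtain ⟨k', hk', hk'S, hpre⟩ := (he _).2 h1
        exact ⟨k', hk', hk'S, fun z => Set.ext_iff.1 hpre z⟩
      -- the map corresponds to `τ`
      have hcorr : ∀ y : S, ∃ z : S, (z : X) = t x y ∧ e z = τ (e ⟨x, hxS⟩) (e y) := by
        intro y
        by_cases h : Cfsg.LineSystem.Collinear L x y
        · obtain ⟨k, hk, hxk, hyk, hzk, hzx, hzy⟩ := hmove x y h
          have hkS : k ⊆ S := hsub k hk x hxS y y.2 h.1 hxk hyk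
          refine ⟨⟨t x y, hkS hzk⟩, rfl, (hτmove _ _ _ ?_ ?_ ?_ ⟨_, hres k hk hkS,
            ⟨⟨x, hxS⟩, hxk, rfl⟩, ⟨y, hyk, rfl⟩, ⟨⟨t x y, hkS hzk⟩, hzk, rfl⟩⟩).symm⟩
          · exact fun hh => h.1 (congrArg Subtype.val (e.injective hh))
          · exact fun hh => hzx (congrArg Subtype.val (e.injective hh)).symm
          · exact fun hh => hzy (congrArg Subtype.val (e.injective hh)).symm
        · refine ⟨y, (hfixed x y h).symm, (hτfix _ _ ?_).symm⟩
          by_cases hxy : x = y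
          · exact Or.inl (congrArg e (Subtype.ext hxy))
          · refine Or.inr ?_
            rintro ⟨k, hk, hxk, hyk⟩
            obtain ⟨k', hk', -, hiff⟩ := hback k hk
            exact h ⟨hxy, k', hk', (hiff _).1 hxk, (hiff _).1 hyk⟩
      obtain ⟨k, hk, hsubk⟩ := hτline (e ⟨x, hxS⟩) _ (hres m hm (fun y hy => hmS y hy))
      obtain ⟨k', hk', -, hiff⟩ := hback k hk
      refine ⟨k', hk', fun y hy => ?_⟩
      obtain ⟨z, hz, hez⟩ := hcorr ⟨y, hmS y hy⟩
      rw [← hz, ← hiff, hez]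
      exact hsubk _ ⟨⟨y, hmS y hy⟩, hy, rfl⟩
    rcases hplane l hl m hm hlm ⟨p, hpl', hp⟩ with h | h
    · exact key _ dual_model h
    · exact key _ affine_model h
  let σ : X → Equiv.Perm X := fun x => ⟨t x, t x, hinv x, hinv x⟩
  have hσapp : ∀ x y, σ x y = t x y := fun _ _ => rfl
  have hsq : ∀ x, σ x * σ x = 1 := fun x => Equiv.ext (hinv x)
  have hord : ∀ x, orderOf (σ x) = 2 := by
    intro x
    refine orderOf_eq_prime (by rw [pow_two, hsq]) fun h => ?_
    obtain ⟨l, hl, hx⟩ := hnd x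
    obtain ⟨y, hy, hyx⟩ := Set.exists_ne_of_one_lt_ncard (by rw [h3 l hl]; norm_num) x
    obtain ⟨k, -, -, -, -, -, hne⟩ := hmove x y ⟨hyx.symm, l, hl, hx, hy⟩
    exact hne (by rw [← hσapp, h]; rfl)
  have hiso : ∀ x, Cfsg.LineSystem.IsIso L L (σ x) := by
    intro x l
    refine ⟨himage x l, fun h => ?_⟩
    have := himage x _ h
    rwa [show (t x) '' (σ x '' l) = l by
      rw [Set.image_image]; simp [hσapp, hinv]] at this
  -- conjugates
  have hequi : ∀ a x : X, σ a * σ x * σ a = σ (t a x) := by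
    intro a x
    have hcol : ∀ u v, Cfsg.LineSystem.Collinear L u v →
        Cfsg.LineSystem.Collinear L (t a u) (t a v) := by
      rintro u v ⟨huv, l, hl, hu, hv⟩
      exact ⟨fun h => huv (Function.LeftInverse.injective (hinv a) h), _, himage a l hl,
        ⟨u, hu, rfl⟩, ⟨v, hv, rfl⟩⟩
    refine Equiv.ext fun w => ?_
    show t a (t x (t a w)) = t (t a x) w
    by_cases h : Cfsg.LineSystem.Collinear L x (t a w)
    · obtain ⟨l, hl, hx, hy, hz, hzx, hzy⟩ := hmove x _ h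
      have hw : w ∈ (t a) '' l := ⟨_, hy, hinv a w⟩
      refine (hline _ (himage a l hl) _ ⟨x, hx, rfl⟩ w hw ?_ _ ⟨_, hz, rfl⟩ ?_ ?_).symm
      · exact fun hh => h.1 (by rw [← hh, hinv])
      · exact fun hh => hzx (Function.LeftInverse.injective (hinv a) hh)
      · exact fun hh => hzy (by nth_rewrite 2 [← hh]; rw [hinv])
    · rw [hfixed x _ h, hinv, hfixed]
      intro hh
      have h' := hcol _ _ hh
      rw [hinv] at h'
      exact h h'
  refine ⟨fun x => ⟨σ x, rfl, hord x, hiso x⟩, ?_, ?_⟩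
  · rintro τ ⟨x, hx⟩
    rw [show τ = σ x from Equiv.ext fun y => congrFun hx y]
    exact hord x
  · rintro τ ⟨x, hx⟩ τ' ⟨y, hy⟩
    rw [show τ = σ x from Equiv.ext fun w => congrFun hx w,
      show τ' = σ y from Equiv.ext fun w => congrFun hy w]
    have hconj := hequi x y
    by_cases h : Cfsg.LineSystem.Collinear L x y
    · right
      obtain ⟨l, hl, hx', hy', hz, hzx, hzy⟩ := hmove x y h
      have hyx : t y x = t x y := hline l hl y hy' x hx' h.1.symm _ hz hzy hzx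
      have hb : σ x * σ y * σ x = σ y * σ x * σ y := by rw [hconj, hequi y x, hyx]
      have hs : ∀ p (q : Equiv.Perm X), σ p * (σ p * q) = q := fun p q => by
        rw [← mul_assoc, hsq, one_mul]
      calc (σ x * σ y) ^ 3 = (σ x * σ y * σ x) * (σ y * σ x * σ y) := by simp [pow_succ, mul_assoc]
        _ = (σ x * σ y * σ x) * (σ x * σ y * σ x) := by rw [hb]
        _ = 1 := by simp [mul_assoc, hs, hsq]
    · left
      rw [hfixed x y h] at hconj
      calc (σ x * σ y) ^ 2 = (σ x * σ y * σ x) * σ y := by simp [pow_succ, mul_assoc]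
        _ = 1 := by rw [hconj, hsq]

end Cfsg.Agent.S5366
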