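import Cfsg.Statements.S5376
import Cfsg.Agent.Lib.ThreeTransp.M22.Perfect
import Cfsg.Agent.S5361
-- import your own Cfsg.Agent.* helpers here

set_option autoImplicit false
open Cfsg

namespace Cfsg.Agent.S5376

/-- Let G be a finite group with trivial centre generated by a conjugation-invariant set D of 3-transpositions on which it acts primitively, of type M(22), and suppose some finite primitive 3-transposition group of type M(23) exists. Then G is simple, and for every d in D the subgroup generated by the members of D other than d commuting with d contains d and is quasisimple with centre generated by d. -/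
theorem result {G : Type*} [Group G] [Finite G] {D : Set G} (hD : Cfsg.IsThreeTranspositionGroup D) (hprim : Cfsg.IsPrimitiveUnderConj D) (ht : Cfsg.IsOfTypeM22 G D) (hex : ∃ (X : Type) (_ : Group X) (_ : Finite X) (E : Set X), Cfsg.IsThreeTranspositionClass E ∧ Cfsg.IsPrimitiveUnderConj E ∧ Cfsg.IsOfTypeM23 X E) : IsSimpleGroup G ∧ ∀ d ∈ D, d ∈ Subgroup.closure {y : G | y ∈ D ∧ y ≠ d ∧ Commute d y} ∧ Cfsg.IsQuasisimple ↥(Subgroup.closure {y : G | y ∈ D ∧ y ≠ d ∧ Commute d y}) ∧ Subgroup.center ↥(Subgroup.closure {y : G | y ∈ D ∧ y ≠ d ∧ Commute d y}) = (Subgroup.zpowers d).subgroupOf (Subgroup.closure {y : G | y ∈ D ∧ y ≠ d ∧ Commute d y}) := by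
  have hperf := ThreeTransp.M22.perfect_group hD hprim ht
  obtain ⟨a, ha, -⟩ := id hprim.2.1
  have hcls : Cfsg.IsThreeTranspositionClass D := by
    refine ⟨hD.1, ⟨a, ha, Set.ext fun y => ?_⟩, hD.2.2⟩
    constructor
    · intro hy
      obtain ⟨g, hg⟩ := hprim.1 a ha y hy
      exact isConj_iff.2 ⟨g, hg⟩
    · intro hy
      obtain ⟨g, rfl⟩ := isConj_iff.1 (show IsConj a y from hy)
      exact hD.2.1 g a ha
  refine ⟨?_, fun d hd => ⟨ThreeTransp.M22.mem_Hd_self hD hprim ht hd, ⟨?_, ?_⟩,
    ThreeTransp.M22.center_eq hD hprim ht hd⟩⟩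
  · haveI := (S5361.result hcls ht.1 (ThreeTransp.M22.exists_commuting hD hprim ht)).1.2 hprim
    exact (MulEquiv.subgroupCongr hperf |>.trans Subgroup.topEquiv).symm.isSimpleGroup
  · exact ⟨ThreeTransp.M22.perfect_Hd hD hprim ht hd⟩
  · obtain ⟨-, -, hat⟩ := ThreeTransp.Factor.M22_core hD ht
    obtain ⟨-, -, F, i1, i2, hF, ⟨φ⟩⟩ := hat d hd
    exact (ThreeTransp.Factor.simple_of_iso hF φ).1

end Cfsg.Agent.S5376
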