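import Cfsg.Statements.S5382
import Cfsg.Agent.Lib.JankoTwo.Setup
import Cfsg.Agent.Lib.JankoTwo.Normalizer

set_option autoImplicit false
open Cfsg

namespace Cfsg.Agent.S5382

/-- Let G be a finite group of Hall–Janko type: it has more than one class of involutions and an involution z whose centralizer C has generalized Fitting subgroup Q extraspecial of order 32 with C/Q isomorphic to the commutator subgroup of the isometry group of the elliptic quadratic form in dimension 4 over the field with two elements (the alternating group of degree 5), with z not weakly closed in Q. Then for every involution t not conjugate to z, the centralizer of t is isomorphic to the direct product of an elementary abelian group of order 4 and the alternating group of degree 5, and the normalizer of the largest normal 2-subgroup of that centralizer is isomorphic to the direct product of the alternating groups of degrees 4 and 5. -/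
theorem result {G : Type*} [Group G] [Finite G] (z : G) (hz : orderOf z = 2) (Q : Subgroup (Subgroup.centralizer ({z} : Set G))) [Q.Normal] (hF : Cfsg.generalizedFittingSubgroup (Subgroup.centralizer ({z} : Set G)) = Q) (hQ : Cfsg.IsExtraspecial 2 Q) (hcard : Nat.card Q = 2 ^ 5) (e : (Subgroup.centralizer ({z} : Set G)) ⧸ Q ≃* Cfsg.Omega (ZMod 2) (Cfsg.quadFormMinus 1 (ZMod 2) 1 1)) (hnwc : ∃ g : G, (∃ hq : g * z * g⁻¹ ∈ Subgroup.centralizer ({z} : Set G), (⟨g * z * g⁻¹, hq⟩ : Subgroup.centralizer ({z} : Set G)) ∈ Q) ∧ g * z * g⁻¹ ≠ z) (hcl : ∃ x y : G, orderOf x = 2 ∧ orderOf y = 2 ∧ ¬ IsConj x y) (t : G) (ht : orderOf t = 2) (htz : ¬ IsConj t z) : Nonempty (↥(Subgroup.centralizer ({t} : Set G)) ≃* (Multiplicative (ZMod 2) × Multiplicative (ZMod 2)) × alternatingGroup (Fin 5)) ∧ Nonempty (↥(Subgroup.normalizer (((Cfsg.pCore 2 ↥(Subgroup.centralizer ({t} : Set G))).map (Subgroup.subtype (Subgroup.centralizer ({t} : Set G))) : Subgroup G) : Set G)) ≃* alternatingGroup (Fin 4) × alternatingGroup (Fin 5)) := by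
  obtain ⟨K, H⟩ := JankoTwo.exists_hyp z hz Q hF hQ hcard e hnwc hcl
  obtain ⟨t0, V, B, U, S, -⟩ := JankoTwo.exists_second H
  obtain ⟨⟨h1⟩, h2, ⟨h3⟩⟩ := JankoTwo.second_structure H S
  have ht2 : t * t = 1 := by rw [← pow_two, ← ht, pow_orderOf_eq_one]
  have ht1 : t ≠ 1 := fun e => by rw [e, orderOf_one] at ht; omega
  obtain ⟨g, hg⟩ := isConj_iff.1 (H.two_classes S.tt S.t1 ht2 ht1 S.nconj (fun h => htz h.symm))
  let σ := MulAut.conj g
  have hC : (Subgroup.centralizer ({t0} : Set G)).map σ.toMonoidHom = Subgroup.centralizer ({t} : Set G) := by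
    ext x
    rw [← hg, Subgroup.mem_centralizer_singleton_iff]
    constructor
    · rintro ⟨a, ha, rfl⟩
      show σ a * σ t0 = σ t0 * σ a
      rw [← map_mul, ← map_mul, Subgroup.mem_centralizer_singleton_iff.1 ha]
    · intro hx
      refine ⟨σ.symm x, Subgroup.mem_centralizer_singleton_iff.2 (σ.injective ?_), σ.apply_symm_apply x⟩
      rw [map_mul, map_mul, σ.apply_symm_apply]
      exact hx
  let φ : ↥(Subgroup.centralizer ({t0} : Set G)) ≃* ↥(Subgroup.centralizer ({t} : Set G)) :=
    (Subgroup.equivMapOfInjective _ σ.toMonoidHom σ.injective).trans (MulEquiv.subgroupCongr hC)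
  have hcomp : (Subgroup.centralizer ({t} : Set G)).subtype.comp φ.toMonoidHom =
      σ.toMonoidHom.comp (Subgroup.centralizer ({t0} : Set G)).subtype := by ext x; rfl
  have hcore : (Cfsg.pCore 2 ↥(Subgroup.centralizer ({t} : Set G))).map (Subgroup.centralizer ({t} : Set G)).subtype =
      V.map σ.toMonoidHom := by
    rw [← Cores.map_pCore_eq φ 2, Subgroup.map_map, hcomp, ← Subgroup.map_map, h2]
  refine ⟨⟨φ.symm.trans h1⟩, ?_⟩
  rw [hcore, ← Subgroup.map_equiv_normalizer_eq V σ]
  exact ⟨(Subgroup.equivMapOfInjective _ σ.toMonoidHom σ.injective).symm.trans h3⟩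

end Cfsg.Agent.S5382
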