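import Cfsg.Statements.S5387
import Cfsg.Agent.Lib.Perm.L34Cover.Unique

set_option autoImplicit false
open Cfsg

open scoped commutatorElement

namespace Cfsg.Agent.S5387

/-- Up to isomorphism there is at most one quasisimple group whose centre is elementary abelian of order 4 and whose central quotient is isomorphic to the projective special linear group of dimension 3 over the field with four elements: any two such groups are isomorphic. -/
theorem result {L₁ L₂ : Type*} [Group L₁] [Finite L₁] [Group L₂] [Finite L₂] (F : Type) [Field F] [Fintype F] (hF : Fintype.card F = 4) (h₁ : Cfsg.IsQuasisimple L₁) (h₂ : Cfsg.IsQuasisimple L₂) (hc₁ : Nat.card (Subgroup.center L₁) = 4) (hc₂ : Nat.card (Subgroup.center L₂) = 4) (he₁ : ∀ x ∈ Subgroup.center L₁, x * x = 1) (he₂ : ∀ x ∈ Subgroup.center L₂, x * x = 1) (e₁ : L₁ ⧸ Subgroup.center L₁ ≃* Matrix.ProjectiveSpecialLinearGroup (Fin 3) F) (e₂ : L₂ ⧸ Subgroup.center L₂ ≃* Matrix.ProjectiveSpecialLinearGroup (Fin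 3) F) : Nonempty (L₁ ≃* L₂) := by
  classical
  haveI : CharP F 2 := charP_of_card_eq_prime_pow (f := 2) (by rw [hF]; norm_num)
  haveI := h₁.2
  let φ₁ : L₁ →* Matrix.ProjectiveSpecialLinearGroup (Fin 3) F :=
    e₁.toMonoidHom.comp (QuotientGroup.mk' (Subgroup.center L₁))
  let φ₂ : L₂ →* Matrix.ProjectiveSpecialLinearGroup (Fin 3) F :=
    e₂.toMonoidHom.comp (QuotientGroup.mk' (Subgroup.center L₂))
  have s₁ : Function.Surjective φ₁ := e₁.surjective.comp (QuotientGroup.mk'_surjective _)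
  have s₂ : Function.Surjective φ₂ := e₂.surjective.comp (QuotientGroup.mk'_surjective _)
  have k₁ : ∀ x, φ₁ x = 1 ↔ x ∈ Subgroup.center L₁ := fun x => by
    change e₁ (QuotientGroup.mk x) = 1 ↔ _
    rw [map_eq_one_iff _ e₁.injective, QuotientGroup.eq_one_iff]
  have k₂ : ∀ x, φ₂ x = 1 ↔ x ∈ Subgroup.center L₂ := fun x => by
    change e₂ (QuotientGroup.mk x) = 1 ↔ _
    rw [map_eq_one_iff _ e₂.injective, QuotientGroup.eq_one_iff]
  have p₁ : commutator L₁ = ⊤ := h₁.1.commutator_eq_top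
  have p₂ : commutator L₂ = ⊤ := h₂.1.commutator_eq_top
  have hPperf : commutator (Matrix.ProjectiveSpecialLinearGroup (Fin 3) F) = ⊤ := by
    rw [commutator_def, ← Subgroup.map_top_of_surjective φ₁ s₁, ← Subgroup.map_commutator,
      ← commutator_def, p₁]
  haveI : IsSimpleGroup (Matrix.ProjectiveSpecialLinearGroup (Fin 3) F) :=
    IsSimpleGroup.isSimpleGroup_of_surjective e₁.toMonoidHom e₁.surjective
  have hcen : Subgroup.center (Matrix.ProjectiveSpecialLinearGroup (Fin 3) F) = ⊥ := by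
    rcases IsSimpleGroup.eq_bot_or_eq_top_of_normal
      (Subgroup.center (Matrix.ProjectiveSpecialLinearGroup (Fin 3) F)) inferInstance with h | h
    · exact h
    · exfalso
      have hb : commutator (Matrix.ProjectiveSpecialLinearGroup (Fin 3) F) = ⊥ := by
        rw [commutator_def, Subgroup.commutator_eq_bot_iff_le_centralizer]
        intro x _
        rw [Subgroup.mem_centralizer_iff]
        intro y _
        exact Subgroup.mem_center_iff.1 (h ▸ Subgroup.mem_top x) y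
      exact bot_ne_top (hb.symm.trans hPperf)
  let P : Subgroup (L₁ × L₂) :=
    { carrier := {p | φ₁ p.1 = φ₂ p.2}
      one_mem' := by simp
      mul_mem' := fun {a b} ha hb => by
        simp only [Set.mem_setOf_eq, Prod.fst_mul, Prod.snd_mul, map_mul] at *; rw [ha, hb]
      inv_mem' := fun {a} ha => by
        simp only [Set.mem_setOf_eq, Prod.fst_inv, Prod.snd_inv, map_inv] at *; rw [ha] }
  let X : Subgroup P := commutator P
  let π₁ : P →* L₁ := (MonoidHom.fst L₁ L₂).comp P.subtype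
  let π₂ : P →* L₂ := (MonoidHom.snd L₁ L₂).comp P.subtype
  have hπ₁ : Function.Surjective π₁ := fun x => by
    obtain ⟨y, hy⟩ := s₂ (φ₁ x)
    exact ⟨⟨(x, y), hy.symm⟩, rfl⟩
  have hπ₂ : Function.Surjective π₂ := fun y => by
    obtain ⟨x, hx⟩ := s₁ (φ₂ y)
    exact ⟨⟨(x, y), hx⟩, rfl⟩
  have t₁ : X.map π₁ = ⊤ := by
    change ((⁅(⊤ : Subgroup P), ⊤⁆ : Subgroup P)).map π₁ = ⊤
    rw [Subgroup.map_commutator, Subgroup.map_top_of_surjective π₁ hπ₁, ← commutator_def, p₁]
  have t₂ : X.map π₂ = ⊤ := by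
    change ((⁅(⊤ : Subgroup P), ⊤⁆ : Subgroup P)).map π₂ = ⊤
    rw [Subgroup.map_commutator, Subgroup.map_top_of_surjective π₂ hπ₂, ← commutator_def, p₂]
  let π : P →* Matrix.ProjectiveSpecialLinearGroup (Fin 3) F := φ₁.comp π₁
  have hπc : ∀ u : P, π u = 1 → u ∈ Subgroup.center P ∧ u * u = 1 := by
    intro u hu
    have a1 : (u : L₁ × L₂).1 ∈ Subgroup.center L₁ := (k₁ _).1 hu
    have a2 : (u : L₁ × L₂).2 ∈ Subgroup.center L₂ := (k₂ _).1 ((show φ₁ (u : L₁ × L₂).1 = _ from u.2) ▸ hu)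
    refine ⟨Subgroup.mem_center_iff.2 fun g => ?_, Subtype.ext (Prod.ext (he₁ _ a1) (he₂ _ a2))⟩
    exact Subtype.ext (Prod.ext (Subgroup.mem_center_iff.1 a1 _) (Subgroup.mem_center_iff.1 a2 _))
  let φ : X →* Matrix.ProjectiveSpecialLinearGroup (Fin 3) F := π.comp X.subtype
  have hφ : Function.Surjective φ := by
    intro y
    obtain ⟨x, rfl⟩ := s₁ y
    obtain ⟨u, hu, rfl⟩ := (t₁ ▸ Subgroup.mem_top x : x ∈ X.map π₁)
    exact ⟨⟨u, hu⟩, rfl⟩
  have hker : ∀ x : X, φ x = 1 ↔ x ∈ Subgroup.center X := by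
    intro x
    constructor
    · intro hx
      exact Subgroup.mem_center_iff.2 fun g =>
        Subtype.ext (Subgroup.mem_center_iff.1 (hπc x.1 hx).1 g.1)
    · intro hx
      rw [← Subgroup.mem_bot, ← hcen, Subgroup.mem_center_iff]
      intro y
      obtain ⟨g, rfl⟩ := hφ y
      rw [← map_mul, ← map_mul, Subgroup.mem_center_iff.1 hx g]
  have hZ : ∀ z ∈ Subgroup.center X, z * z = 1 := fun z hz =>
    Subtype.ext (hπc z.1 ((hker z).2 hz)).2
  have hperf : commutator X = ⊤ := by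
    refine Subgroup.map_injective X.subtype_injective ?_
    rw [commutator_def, Subgroup.map_commutator, ← MonoidHom.range_eq_map, Subgroup.range_subtype]
    refine le_antisymm (Subgroup.commutator_le_self X) ?_
    rw [show X = ⁅(⊤ : Subgroup P), ⊤⁆ from rfl, Subgroup.commutator_le]
    intro u _ v _
    obtain ⟨u', hu'⟩ := hφ (π u)
    obtain ⟨v', hv'⟩ := hφ (π v)
    have hc : ∀ (g : P) (g' : X), φ g' = π g → ∃ z ∈ Subgroup.center P, g = g'.1 * z := by
      intro g g' hg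
      refine ⟨g'.1⁻¹ * g, (hπc _ ?_).1, by rw [mul_inv_cancel_left]⟩
      rw [map_mul, map_inv]
      exact inv_mul_eq_one.2 hg
    obtain ⟨z, hz, rfl⟩ := hc u u' hu'
    obtain ⟨w, hw, rfl⟩ := hc v v' hv'
    have cz : ∀ g : P, g * z = z * g := Subgroup.mem_center_iff.1 hz
    have cw : ∀ g : P, g * w = w * g := Subgroup.mem_center_iff.1 hw
    have e : ⁅u'.1 * z, v'.1 * w⁆ = ⁅u'.1, v'.1⁆ := by
      simp only [commutatorElement_def]
      calc u'.1 * z * (v'.1 * w) * (u'.1 * z)⁻¹ * (v'.1 * w)⁻¹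
          = u'.1 * (z * v'.1) * w * z⁻¹ * u'.1⁻¹ * w⁻¹ * v'.1⁻¹ := by group
        _ = u'.1 * v'.1 * (z * w * z⁻¹) * u'.1⁻¹ * w⁻¹ * v'.1⁻¹ := by rw [← cz v'.1]; group
        _ = u'.1 * v'.1 * (w * u'.1⁻¹ * w⁻¹) * v'.1⁻¹ := by
            rw [← cz w, mul_inv_cancel_right]; group
        _ = u'.1 * v'.1 * u'.1⁻¹ * v'.1⁻¹ := by rw [← cw u'.1⁻¹, mul_inv_cancel_right]
    rw [e]
    exact Subgroup.commutator_mem_commutator u'.2 v'.2
  have hle := Cfsg.Agent.Perm.L34Cover.card_center_le hF hφ hker hZ hperf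
  have hq : ∀ {Y : Type _} [Group Y] (g : Y →* Matrix.ProjectiveSpecialLinearGroup (Fin 3) F),
      Function.Surjective g → (∀ y, g y = 1 ↔ y ∈ Subgroup.center Y) →
      Nat.card Y = Nat.card (Subgroup.center Y) *
        Nat.card (Matrix.ProjectiveSpecialLinearGroup (Fin 3) F) := by
    intro Y _ g hg hk
    have hkk : g.ker = Subgroup.center Y := by ext y; exact hk y
    rw [← Subgroup.card_mul_index g.ker, Subgroup.index_ker, MonoidHom.range_eq_top.2 hg,
      Subgroup.card_top, hkk]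
  have hcardX : Nat.card X = Nat.card (Subgroup.center X) *
      Nat.card (Matrix.ProjectiveSpecialLinearGroup (Fin 3) F) := hq φ hφ hker
  have hb : ∀ (M : ℕ), M = 4 * Nat.card (Matrix.ProjectiveSpecialLinearGroup (Fin 3) F) →
      Nat.card X ≤ M := by
    intro M hc
    rw [hcardX, hc]; exact Nat.mul_le_mul_right _ hle
  have c₁ : Nat.card L₁ = 4 * Nat.card (Matrix.ProjectiveSpecialLinearGroup (Fin 3) F) := by
    have h := Subgroup.card_mul_index (Subgroup.center L₁)
    rw [Subgroup.index, Nat.card_congr e₁.toEquiv, hc₁] at h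
    exact h.symm
  have c₂ : Nat.card L₂ = 4 * Nat.card (Matrix.ProjectiveSpecialLinearGroup (Fin 3) F) := by
    have h := Subgroup.card_mul_index (Subgroup.center L₂)
    rw [Subgroup.index, Nat.card_congr e₂.toEquiv, hc₂] at h
    exact h.symm
  have s1 : Function.Surjective (π₁.comp X.subtype) := by
    intro y
    obtain ⟨u, hu, rfl⟩ := (t₁ ▸ Subgroup.mem_top y : y ∈ X.map π₁)
    exact ⟨⟨u, hu⟩, rfl⟩
  have s2 : Function.Surjective (π₂.comp X.subtype) := by
    intro y
    obtain ⟨u, hu, rfl⟩ := (t₂ ▸ Subgroup.mem_top y : y ∈ X.map π₂)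
    exact ⟨⟨u, hu⟩, rfl⟩
  exact ⟨(MulEquiv.ofBijective _ (s1.bijective_of_nat_card_le (hb _ c₁))).symm.trans
    (MulEquiv.ofBijective _ (s2.bijective_of_nat_card_le (hb _ c₂)))⟩

end Cfsg.Agent.S5387
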