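import Cfsg.Statements.S5389
import Cfsg.Agent.Lib.OctadInv.Conclude
import Cfsg.Agent.Lib.OctadInv.Checks3

set_option autoImplicit false
open Cfsg

namespace Cfsg.Agent.S5389

open Cfsg.Agent.OctadInv Cfsg.Agent.OctadInv.Words Cfsg.Agent.OctadInv.Rep Cfsg.Agent.OctadInv.Cert Cfsg.Agent.OctadInv.Lower Cfsg.Agent.OctadInv.Orbits

/-- The transvection moving the last basis vector. -/
noncomputable def refl : Ident.Oi 2 := Cfsg.Agent.Forms.QuadStd.reflect (Cert.F 2) (decV (ixI 2) 16)

theorem refl_act (v : I 2 → ZMod 2) : act refl v =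
    v - ((Cfsg.quadFormMinus 2 (ZMod 2) 1 1 (decV (ixI 2) 16))⁻¹ *
      QuadraticMap.polar (Cfsg.quadFormMinus 2 (ZMod 2) 1 1) (decV (ixI 2) 16) v) • decV (ixI 2) 16 := by
  rw [← Cfsg.Agent.Classical.OrthForms.minQ_eq]
  exact Cfsg.Agent.Forms.Reflections.act_reflect (decV (ixI 2) 16) v

theorem range_ne_top : (chi (Cert.hyp Checks3.checks).B).range ≠ ⊤ := by
  intro e
  have hN : Nat.card (chi (Cert.hyp Checks3.checks).B).range = 25920 :=
    (Section.card_range (Cert.hyp Checks3.checks)).1.trans rfl
  have hend : 2 ≤ Nat.card (fixL (chi (Cert.hyp Checks3.checks).B).range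
      ((List.range (0 + Data3.D.chain.length)).reverse.map fun i => decV (ixI 2) (2 ^ i))) := by
    have hmem : refl ∈ fixL (chi (Cert.hyp Checks3.checks).B).range
        ((List.range (0 + Data3.D.chain.length)).reverse.map fun i => decV (ixI 2) (2 ^ i)) := by
      refine ⟨by rw [e]; exact Subgroup.mem_top _, fun b hb => ?_⟩
      obtain ⟨i, hi, rfl⟩ := List.mem_map.1 hb
      rw [List.mem_reverse, List.mem_range, show 0 + Data3.D.chain.length = 5 from rfl] at hi
      rw [refl_act]
      interval_cases i <;> decide +kernel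
    refine Finite.one_lt_card_iff_nontrivial.2 ⟨⟨⟨refl, hmem⟩, 1, fun h => ?_⟩⟩
    have h2 := congrArg (fun A : fixL _ _ => act A.1 (decV (ixI 2) 32)) h
    simp only [OneMemClass.coe_one, act_one, refl_act] at h2
    revert h2
    decide +kernel
  have h := chain_le (Cert.gens Checks3.checks) (fun _ => rfl) Checks3.checks.enc_dec Data3.D.chain 0
    Checks3.checks.chain_ok 2 hend
  rw [List.range_zero, List.reverse_nil, List.map_nil, fixL_nil] at h
  have h3 : 25920 ≤ Lower.size Data3.D.chain := Checks3.checks.chain_size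
  have h4 : Lower.size Data3.D.chain * 2 ≤ 25920 := h.trans_eq hN
  omega

/-- A simple section of the automorphism group of the Leech lattice satisfying the Suzuki-sporadic-type hypothesis (the group so obtained is the sporadic Suzuki group; that identification is not part of this statement): there is a subgroup A of order 3 of that automorphism group such that the centralizer of A modulo the subgroup generated by A and the centre of the automorphism group is a non-abelian simple group satisfying the large extraspecial hypothesis of minus type in dimension 6 — an involution whose centralizer has extraspecial generalized Fitting subgroup of order 2^7 with quotient the commutator subgroup of the isometry group of the elliptic quadratic form in dimension 6 over the field with two elements, the involution not weakly closed in that extraspecial group. -/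
theorem result : ∃ A : Subgroup ↥Cfsg.Co0, Nat.card A = 3 ∧ ∃ (hn : ((A ⊔ Subgroup.center ↥Cfsg.Co0).subgroupOf (Subgroup.centralizer (A : Set ↥Cfsg.Co0))).Normal), ∃ (S : Type) (_ : Group S) (_ : Finite S), Nonempty (S ≃* ↥(Subgroup.centralizer (A : Set ↥Cfsg.Co0)) ⧸ (A ⊔ Subgroup.center ↥Cfsg.Co0).subgroupOf (Subgroup.centralizer (A : Set ↥Cfsg.Co0))) ∧ IsSimpleGroup S ∧ ¬ IsMulCommutative S ∧ ∃ z : S, orderOf z = 2 ∧ ∃ (Q : Subgroup (Subgroup.centralizer ({z} : Set S))) (_ : Q.Normal), Cfsg.generalizedFittingSubgroup (Subgroup.centralizer ({z} : Set S)) = Q ∧ Cfsg.IsExtraspecial 2 Q ∧ Nat.card Q = 2 ^ 7 ∧ Nonempty ((Subgroup.centralizer ({z} : Set S)) ⧸ Q ≃* Cfsg.Omega (ZMod 2) (Cfsg.quadFormMinus 2 (ZMod 2) 1 1)) ∧ ∃ g : S, (∃ hq : g * z * g⁻¹ ∈ Subgroup.centralizer ({z} : Set S), (⟨g * z * g⁻¹, hq⟩ : Subgroup.centralizer ({z} : Set S)) ∈ Q) ∧ g * z * g⁻¹ ≠ z := by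
  have hN : Nat.card (chi (Cert.hyp Checks3.checks).B).range = 25920 :=
    (Section.card_range (Cert.hyp Checks3.checks)).1.trans rfl
  have hom := Ident.eq_omega6 _ hN range_ne_top
  have hs : IsSimpleGroup (chi (Cert.hyp Checks3.checks).B).range := by
    rw [hom]; exact Ident.omega6_simple
  exact Conclude.conclude Checks3.checks hom hs ⟨3, Nat.prime_three, by norm_num, by decide⟩

end Cfsg.Agent.S5389
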