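import Cfsg.Statements.S5392
import Cfsg.Agent.Lib.LeechAut.Irreducible
import Cfsg.Agent.Lib.Leech.Mod2

set_option autoImplicit false
open Cfsg

namespace Cfsg.Agent.S5392

open Cfsg.Agent.Golay.Basic Cfsg.Agent.Golay.Design Cfsg.Agent.Leech.Basic Cfsg.Agent.Leech.Gen
  Cfsg.Agent.Leech.Index Cfsg.Agent.LeechAut.Gens Cfsg.Agent.LeechAut.Basic Cfsg.Agent.LeechAut.Xi
  Cfsg.Agent.LeechAut.Irreducible
set_option maxRecDepth 10000

theorem gen_check : sqNorm oddVec = 32 ∧
    (∀ i : GolayPt, i ≠ none → ∀ t ∈ [(1 : ℤ), -1],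
      inLat (pairVec i t) = true ∧ sqNorm (pairVec i t) = 32 ∧ dotInt oddVec (pairVec i t) ≠ 0) ∧
    ∀ b ∈ basisMasks, inLat (twoInd (maskSet b)) = true ∧ sqNorm (twoInd (maskSet b)) = 32 ∧
      dotInt oddVec (twoInd (maskSet b)) ≠ 0 := by decide +kernel

theorem eq_or_neg {g : Co0}
    (h : ∀ v : leechLattice, ∃ w : leechLattice,
      ((g • v : leechLattice) : Vec) - (v : Vec) = 2 • (w : Vec))
    (v : leechLattice) (hv : sqNorm (v : Vec) = 32) : g • v = v ∨ g • v = -v := by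
  obtain ⟨w, hw⟩ := h v
  have hs := sqNorm_smul g v
  rcases Cfsg.Agent.Leech.Classes.congr_short Cfsg.Agent.Leech.Mod2.leech_shells
    (x := g • v) (y := v) (by rw [Cfsg.Agent.Leech.Mod2.lform_self, hs, hv]; norm_num)
    (by rw [Cfsg.Agent.Leech.Mod2.lform_self, hv]; norm_num) (z := w)
    (Subtype.ext (by rw [AddSubgroup.coe_sub, AddSubgroup.coe_add, hw, two_nsmul])) with h1 | h1 | h1
  · exact Or.inl h1.symm
  · exact Or.inr (neg_eq_iff_eq_neg.1 h1.symm)
  · rw [Cfsg.Agent.Leech.Mod2.lform_self, Cfsg.Agent.Leech.Mod2.lform_self, hv] at h1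
    omega

theorem trivial_of_fix {g : Co0}
    (h : ∀ v : leechLattice, ∃ w : leechLattice,
      ((g • v : leechLattice) : Vec) - (v : Vec) = 2 • (w : Vec))
    (ho : g • (⟨oddVec, oddVec_mem.1⟩ : leechLattice) = ⟨oddVec, oddVec_mem.1⟩) : g = 1 := by
  obtain ⟨-, hp, hb⟩ := gen_check
  let K : AddSubgroup Vec :=
    { carrier := {x | ∃ hx : x ∈ leechLattice, g • (⟨x, hx⟩ : leechLattice) = ⟨x, hx⟩}
      zero_mem' := ⟨zero_mem _, smul_zero' g⟩
      add_mem' := fun {x y} hx hy => ⟨add_mem hx.1 hy.1, by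
        rw [show (⟨x + y, _⟩ : leechLattice) = ⟨x, hx.1⟩ + ⟨y, hy.1⟩ from rfl, smul_add', hx.2, hy.2]⟩
      neg_mem' := fun {x} hx => ⟨neg_mem hx.1, by
        rw [show (⟨-x, _⟩ : leechLattice) = -⟨x, hx.1⟩ from rfl, smul_neg', hx.2]⟩ }
  have key : ∀ v, inLat v = true → sqNorm v = 32 → dotInt oddVec v ≠ 0 → v ∈ K := by
    intro v hv hn hd
    refine ⟨mem_of_inLat hv, ?_⟩
    rcases eq_or_neg h ⟨v, mem_of_inLat hv⟩ hn with e | e
    · exact e
    · exfalso
      have h2 := dot_smul g ⟨oddVec, oddVec_mem.1⟩ ⟨v, mem_of_inLat hv⟩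
      rw [ho, e] at h2
      have hneg : dotInt oddVec (-v) = -dotInt oddVec v := by simp [dotInt]
      change dotInt oddVec (-v) = dotInt oddVec v at h2
      omega
  have hK : leechLattice ≤ K := le_of_gens K ⟨oddVec_mem.1, ho⟩
    (fun i hi t ht => key _ (hp i hi t ht).1 (hp i hi t ht).2.1 (hp i hi t ht).2.2)
    (fun b hbm => key _ (hb b hbm).1 (hb b hbm).2.1 (hb b hbm).2.2)
  exact ext' fun v => by rw [one_smul]; exact (hK v.2).2

theorem faithful (g : Co0)
    (h : ∀ v : leechLattice, ∃ w : leechLattice,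
      ((g • v : leechLattice) : Vec) - (v : Vec) = 2 • (w : Vec)) :
    g ∈ Subgroup.center Co0 := by
  rcases eq_or_neg h ⟨oddVec, oddVec_mem.1⟩ gen_check.1 with e | e
  · rw [trivial_of_fix h e]; exact Subgroup.one_mem _
  · have h1 : negOne * g = 1 := trivial_of_fix (fun v => by
      obtain ⟨w, hw⟩ := h v
      refine ⟨-w - v, ?_⟩
      rw [mul_smul, negOne_smul, AddSubgroup.coe_neg, AddSubgroup.coe_sub, AddSubgroup.coe_neg,
        show ((g • v : leechLattice) : Vec) = (v : Vec) + 2 • (w : Vec) from by rw [← hw]; abel]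
      module) (by rw [mul_smul, e, negOne_smul, neg_neg])
    rw [eq_inv_of_mul_eq_one_right h1]
    exact Subgroup.inv_mem _ negOne_central

/-- The Leech lattice modulo twice itself is a faithful irreducible module for the first Conway group: an automorphism of the rank-24 lattice built from the length-24 code that moves every lattice vector only by twice a lattice vector lies in the centre of the automorphism group (the centre consists of ±1, which act trivially there, so the kernel is exactly the centre), and an additive subgroup lying between twice the lattice and the lattice that is invariant under all lattice automorphisms is one of the two. -/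
theorem result : (∀ g : ↥Cfsg.Co0, (∀ v : ↥Cfsg.leechLattice, ∃ w : ↥Cfsg.leechLattice, ((g • v : ↥Cfsg.leechLattice) : Cfsg.GolayPt → ℤ) - (v : Cfsg.GolayPt → ℤ) = 2 • (w : Cfsg.GolayPt → ℤ)) → g ∈ Subgroup.center ↥Cfsg.Co0) ∧ ∀ M : AddSubgroup (Cfsg.GolayPt → ℤ), (∀ v ∈ Cfsg.leechLattice, (2 : ℤ) • v ∈ M) → M ≤ Cfsg.leechLattice → (∀ g : ↥Cfsg.Co0, ∀ v : ↥Cfsg.leechLattice, (v : Cfsg.GolayPt → ℤ) ∈ M → ((g • v : ↥Cfsg.leechLattice) : Cfsg.GolayPt → ℤ) ∈ M) → (∀ x ∈ M, ∃ w ∈ Cfsg.leechLattice, x = (2 : ℤ) • w) ∨ M = Cfsg.leechLattice := by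
  refine ⟨faithful, fun M h2 hle hinv => ?_⟩
  by_cases h : ∀ x ∈ M, ∃ w ∈ Cfsg.leechLattice, x = (2 : ℤ) • w
  · exact Or.inl h
  · push Not at h
    obtain ⟨x, hx, hne⟩ := h
    refine Or.inr (eq_top ⟨?_, hle, hinv⟩ ⟨x, hx, ?_⟩)
    · rintro x ⟨z, hz, rfl⟩
      have := h2 z hz
      rwa [show (2 : ℤ) • z = 2 • z from natCast_zsmul z 2] at this
    · rintro ⟨z, hz, e⟩
      exact hne z hz (e.trans (natCast_zsmul z 2).symm)

end Cfsg.Agent.S5392
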