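import Cfsg.Statements.S5395
import Cfsg.Agent.Lib.PGroups.Basic

set_option autoImplicit false
open Cfsg

namespace Cfsg.Agent.S5395

/-- For a finite extraspecial 2-group E, an automorphism of E that induces the identity on E modulo its centre is inner (so these automorphisms form exactly the inner automorphism group, an elementary abelian 2-group of order |E|/2). -/
theorem result {E : Type*} [Group E] [Finite E] (hE : Cfsg.IsExtraspecial 2 E) (φ : E ≃* E) (hφ : ∀ x : E, φ x * x⁻¹ ∈ Subgroup.center E) : ∃ g : E, ∀ x : E, φ x = g * x * g⁻¹ := by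
  classical
  haveI : Fact (Nat.Prime 2) := ⟨Nat.prime_two⟩
  obtain ⟨⟨hp, -, hcomm⟩, hZ⟩ := hE
  set Z := Subgroup.center E with hZdef
  have hmem : ∀ g x : E, g * x * g⁻¹ * x⁻¹ ∈ Z := fun g x =>
    hcomm ▸ Subgroup.commutator_mem_commutator (Subgroup.mem_top g) (Subgroup.mem_top x)
  let c : E → E →* ↥Z := fun g =>
    { toFun := fun x => ⟨g * x * g⁻¹ * x⁻¹, hmem g x⟩
      map_one' := by ext; simp
      map_mul' := fun x y => by
        ext
        show g * (x * y) * g⁻¹ * (x * y)⁻¹ = g * x * g⁻¹ * x⁻¹ * (g * y * g⁻¹ * y⁻¹)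
        calc g * (x * y) * g⁻¹ * (x * y)⁻¹
            = g * x * g⁻¹ * ((g * y * g⁻¹ * y⁻¹) * x⁻¹) := by simp [mul_assoc]
          _ = g * x * g⁻¹ * (x⁻¹ * (g * y * g⁻¹ * y⁻¹)) := by
              rw [← (Subgroup.mem_center_iff.1 (hmem g y)) x⁻¹]
          _ = _ := by simp [mul_assoc] }
  have hker : ∀ g, Z ≤ (c g).ker := by
    intro g x hx
    rw [MonoidHom.mem_ker]
    ext
    show g * x * g⁻¹ * x⁻¹ = 1
    rw [Subgroup.mem_center_iff.1 hx g]; simp
  let F : E → (E ⧸ Z →* ↥Z) := fun g => QuotientGroup.lift Z (c g) (hker g)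
  have hF : ∀ g g' : E, F g = F g' → (g : E ⧸ Z) = g' := by
    intro g g' e
    rw [QuotientGroup.eq, Subgroup.mem_center_iff]
    intro x
    have h1 : g * x * g⁻¹ * x⁻¹ = g' * x * g'⁻¹ * x⁻¹ :=
      congrArg Subtype.val (DFunLike.congr_fun e (x : E ⧸ Z))
    have h2 : g * x * g⁻¹ = g' * x * g'⁻¹ := mul_right_cancel h1
    calc x * (g⁻¹ * g') = g⁻¹ * (g * x * g⁻¹) * g' := by simp [mul_assoc]
      _ = g⁻¹ * g' * x := by rw [h2]; simp [mul_assoc]
  let F' : E ⧸ Z → (E ⧸ Z →* ↥Z) := fun q => F q.out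
  have hinj : Function.Injective F' := fun q q' e => by
    have := hF _ _ e
    rwa [QuotientGroup.out_eq', QuotientGroup.out_eq'] at this
  have hfin : Finite (E ⧸ Z →* ↥Z) := Finite.of_injective _ DFunLike.coe_injective
  have hbij := hinj.bijective_of_nat_card_le
    (PGroups.Basic.card_hom_le (p := 2) (hp.to_quotient Z) hZ.le)
  let ψ : E →* ↥Z :=
    { toFun := fun x => ⟨φ x * x⁻¹, hφ x⟩
      map_one' := by ext; simp
      map_mul' := fun x y => by
        ext
        show φ (x * y) * (x * y)⁻¹ = φ x * x⁻¹ * (φ y * y⁻¹)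
        rw [map_mul, mul_inv_rev, mul_assoc, ← mul_assoc (φ y),
          ← Subgroup.mem_center_iff.1 (hφ y) x⁻¹]
        simp [mul_assoc] }
  have hψ : Z ≤ ψ.ker := by
    intro z hz
    rw [← hcomm] at hz
    have : commutator E ≤ ψ.ker := by
      rw [commutator_def, Subgroup.commutator_le]
      intro a _ b _
      rw [MonoidHom.mem_ker, map_commutatorElement, commutatorElement_eq_one_iff_mul_comm]
      ext
      exact (Subgroup.mem_center_iff.1 (ψ b).2) _
    exact this hz
  obtain ⟨q, hq⟩ := hbij.2 (QuotientGroup.lift Z ψ hψ)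
  refine ⟨q.out, fun x => ?_⟩
  have h1 : q.out * x * q.out⁻¹ * x⁻¹ = φ x * x⁻¹ :=
    congrArg Subtype.val (DFunLike.congr_fun hq (x : E ⧸ Z))
  exact (mul_right_cancel h1).symm

end Cfsg.Agent.S5395
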