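import Cfsg.Statements.S5396
import Cfsg.Agent.GenA.ExtraspecialTwo

set_option autoImplicit false
open Cfsg

namespace Cfsg.Agent.S5396

open Finset
open scoped commutatorElement

/-- The vector space. -/
abbrev V (n : ℕ) : Type := (Fin n → ZMod 2) × (Fin n → ZMod 2)

variable {n : ℕ} {i0 : Fin n} {d : ZMod 2}

/-- The cocycle. -/
def beta (i0 : Fin n) (d : ZMod 2) (v w : V n) : ZMod 2 :=
  (∑ i, v.1 i * w.2 i) + d * (v.1 i0 * w.1 i0 + v.2 i0 * w.2 i0)

theorem beta_add_left (u v w : V n) : beta i0 d (u + v) w = beta i0 d u w + beta i0 d v w := by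
  simp only [beta, Prod.fst_add, Prod.snd_add, Pi.add_apply, add_mul, sum_add_distrib]; ring

theorem beta_add_right (u v w : V n) : beta i0 d u (v + w) = beta i0 d u v + beta i0 d u w := by
  simp only [beta, Prod.fst_add, Prod.snd_add, Pi.add_apply, mul_add, sum_add_distrib]; ring

theorem beta_zero_left (v : V n) : beta i0 d 0 v = 0 := by simp [beta]

theorem beta_zero_right (v : V n) : beta i0 d v 0 = 0 := by simp [beta]

/-- The alternating form. -/
def omg (v w : V n) : ZMod 2 := (∑ i, v.1 i * w.2 i) + ∑ i, w.1 i * v.2 i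

theorem beta_swap (v w : V n) : beta i0 d v w + beta i0 d w v = omg v w := by
  have h2 : (2 : ZMod 2) = 0 := rfl
  simp only [beta, omg]
  linear_combination (d * (v.1 i0 * w.1 i0 + v.2 i0 * w.2 i0)) * h2

theorem omg_add_right (u v w : V n) : omg u (v + w) = omg u v + omg u w := by
  simp only [omg, Prod.fst_add, Prod.snd_add, Pi.add_apply, mul_add, add_mul, sum_add_distrib]; ring

theorem omg_comm (v w : V n) : omg v w = omg w v := add_comm _ _

theorem eq_one_of_ne : ∀ {a : ZMod 2}, a ≠ 0 → a = 1 := by decide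

theorem exists_omg {v : V n} (h : v ≠ 0) : ∃ w, omg v w = 1 := by
  classical
  have key : ∀ a : ZMod 2, a ≠ 0 → a = 1 := by decide
  by_cases h1 : ∃ i, v.1 i ≠ 0
  · obtain ⟨i, hi⟩ := h1
    exact ⟨(0, Pi.single i 1), by simp [omg, Pi.single_apply, key _ hi]⟩
  · push Not at h1
    obtain ⟨i, hi⟩ : ∃ i, v.2 i ≠ 0 := by
      by_contra h2; push Not at h2
      exact h (Prod.ext (funext h1) (funext h2))
    exact ⟨(Pi.single i 1, 0), by simp [omg, Pi.single_apply, key _ hi]⟩

/-- The group. -/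
@[ext] structure X (i0 : Fin n) (d : ZMod 2) : Type where
  c : ZMod 2
  v : V n

instance : One (X i0 d) := ⟨⟨0, 0⟩⟩
instance : Mul (X i0 d) := ⟨fun x y => ⟨x.c + y.c + beta i0 d x.v y.v, x.v + y.v⟩⟩
instance : Inv (X i0 d) := ⟨fun x => ⟨x.c + beta i0 d x.v x.v, x.v⟩⟩

@[simp] theorem one_c : (1 : X i0 d).c = 0 := rfl
@[simp] theorem one_v : (1 : X i0 d).v = 0 := rfl
@[simp] theorem mul_c (x y : X i0 d) : (x * y).c = x.c + y.c + beta i0 d x.v y.v := rfl
@[simp] theorem mul_v (x y : X i0 d) : (x * y).v = x.v + y.v := rfl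
@[simp] theorem inv_c (x : X i0 d) : x⁻¹.c = x.c + beta i0 d x.v x.v := rfl
@[simp] theorem inv_v (x : X i0 d) : x⁻¹.v = x.v := rfl

theorem V_add_self (v : V n) : v + v = 0 :=
  Prod.ext (funext fun _ => CharTwo.add_self_eq_zero _) (funext fun _ => CharTwo.add_self_eq_zero _)

instance : Group (X i0 d) where
  mul_assoc x y z := X.ext (by simp only [mul_c, mul_v, beta_add_left, beta_add_right]; ring) (add_assoc _ _ _)
  one_mul x := X.ext (by simp [beta_zero_left]) (by simp)
  mul_one x := X.ext (by simp [beta_zero_right]) (by simp)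
  inv_mul_cancel x := X.ext (by
    have h2 : (2 : ZMod 2) = 0 := rfl
    simp only [mul_c, inv_c, inv_v, one_c]
    linear_combination (x.c + beta i0 d x.v x.v) * h2) (V_add_self x.v)

/-- The group as a product. -/
def toProd : X i0 d ≃ ZMod 2 × V n := ⟨fun x => (x.c, x.v), fun p => ⟨p.1, p.2⟩, fun _ => rfl, fun _ => rfl⟩

instance : Finite (X i0 d) := Finite.of_equiv _ toProd.symm

theorem card_V : Nat.card (V n) = 2 ^ (2 * n) := by
  simp [Nat.card_eq_fintype_card, two_mul, pow_add]

theorem card_X : Nat.card (X i0 d) = 2 ^ (2 * n + 1) := by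
  rw [Nat.card_congr toProd, Nat.card_prod, card_V, Nat.card_zmod, pow_succ, mul_comm]

/-- The central involution. -/
def zz : X i0 d := ⟨1, 0⟩

theorem sq_eq (x : X i0 d) : x ^ 2 = ⟨beta i0 d x.v x.v, 0⟩ :=
  X.ext (by rw [sq, mul_c, CharTwo.add_self_eq_zero, zero_add]) (by rw [sq, mul_v, V_add_self])

theorem mem_center (x : X i0 d) : x ∈ Subgroup.center (X i0 d) ↔ x.v = 0 := by
  rw [Subgroup.mem_center_iff]
  constructor
  · intro h
    by_contra hv
    obtain ⟨w, hw⟩ := exists_omg hv
    have h1 := congrArg X.c (h ⟨0, w⟩)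
    simp only [mul_c] at h1
    rw [← beta_swap (i0 := i0) (d := d)] at hw
    revert h1 hw
    generalize beta i0 d x.v w = a
    generalize beta i0 d w x.v = b
    generalize x.c = e
    revert a b e; decide
  · intro h y
    refine X.ext ?_ (add_comm _ _)
    simp only [mul_c, h, beta_zero_left, beta_zero_right]; ring

theorem center_eq : (Subgroup.center (X i0 d) : Set (X i0 d)) = {1, zz} := by
  ext x
  simp only [SetLike.mem_coe, mem_center, Set.mem_insert_iff, Set.mem_singleton_iff]
  constructor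
  · intro h
    rcases (show ∀ a : ZMod 2, a = 0 ∨ a = 1 by decide) x.c with e | e
    · exact Or.inl (X.ext e h)
    · exact Or.inr (X.ext e h)
  · rintro (rfl | rfl) <;> rfl

theorem zz_ne : (zz : X i0 d) ≠ 1 := fun h => by simpa [zz] using congrArg X.c h

theorem isExtra : Cfsg.IsExtraspecial 2 (X i0 d) := by
  haveI : Fact (Nat.Prime 2) := ⟨Nat.prime_two⟩
  have hp : IsPGroup 2 (X i0 d) := IsPGroup.of_card card_X
  have hcard : Nat.card (Subgroup.center (X i0 d)) = 2 := by
    show Nat.card (Subgroup.center (X i0 d) : Set (X i0 d)) = 2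
    rw [Nat.card_coe_set_eq, center_eq, Set.ncard_pair (Ne.symm zz_ne)]
  obtain ⟨w, hw⟩ := exists_omg (v := ((Pi.single i0 1, 0) : V n)) fun h => by
    simpa using congrFun (congrArg Prod.fst h) i0
  have hcomm : ∀ x y : X i0 d, x * y * x⁻¹ * y⁻¹ = ⟨omg x.v y.v, 0⟩ := fun x y => by
    have h2 : (2 : ZMod 2) = 0 := rfl
    refine X.ext ?_ ?_
    · simp only [mul_c, mul_v, inv_c, inv_v, beta_add_left, beta_add_right, ← beta_swap (i0 := i0) (d := d)]
      linear_combination (x.c + y.c + beta i0 d x.v x.v + beta i0 d y.v y.v + beta i0 d x.v y.v) * h2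
    · simp only [mul_v, inv_v]
      rw [show x.v + y.v + x.v + y.v = (x.v + x.v) + (y.v + y.v) by abel, V_add_self, V_add_self, add_zero]
  have hder : commutator (X i0 d) = Subgroup.center (X i0 d) := by
    refine le_antisymm ?_ fun x hx => ?_
    · rw [commutator_def, Subgroup.commutator_le]
      intro a _ b _
      rw [commutatorElement_def, hcomm, mem_center]
    · have hm : (zz : X i0 d) ∈ commutator (X i0 d) := by
        have h := Subgroup.commutator_mem_commutator (H₁ := ⊤) (H₂ := ⊤)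
          (Subgroup.mem_top (⟨0, (Pi.single i0 1, 0)⟩ : X i0 d)) (Subgroup.mem_top (⟨0, w⟩ : X i0 d))
        rw [← commutator_def, commutatorElement_def, hcomm, hw] at h
        exact h
      have hx' : x ∈ (Subgroup.center (X i0 d) : Set (X i0 d)) := hx
      rw [center_eq] at hx'
      rcases hx' with rfl | rfl
      · exact one_mem _
      · exact hm
  refine ⟨⟨hp, le_antisymm ?_ ?_, hder⟩, hcard⟩
  · intro x hx
    rw [mem_center]
    by_contra hv
    obtain ⟨u, hu⟩ := exists_omg hv
    let M : Subgroup (X i0 d) :=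
      { carrier := {y | omg u y.v = 0}
        one_mem' := by simp [omg]
        mul_mem' := fun {a b} ha hb => by
          show omg u (a.v + b.v) = 0
          rw [omg_add_right, ha, hb, add_zero]
        inv_mem' := fun {a} ha => ha }
    have hxM : x ∉ M := fun h => by
      rw [omg_comm] at hu
      exact one_ne_zero (hu.symm.trans h)
    have hco : IsCoatom M := by
      refine ⟨fun h => hxM (h ▸ Subgroup.mem_top x), fun K hK => eq_top_iff.2 fun y _ => ?_⟩
      obtain ⟨k, hk, hkM⟩ := SetLike.exists_of_lt hK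
      have hk1 : omg u k.v = 1 := eq_one_of_ne hkM
      by_cases hy : y ∈ M
      · exact hK.le hy
      have hy1 : omg u y.v = 1 := eq_one_of_ne hy
      have hyk : y * k ∈ M := by
        show omg u (y.v + k.v) = 0
        rw [omg_add_right, hy1, hk1]; rfl
      have := K.mul_mem (hK.le hyk) (K.inv_mem hk)
      rwa [mul_inv_cancel_right] at this
    exact hxM (frattini_le_coatom hco hx)
  · rw [← hder]
    refine le_iInf₂ fun M hM => ?_
    haveI := hp.isNilpotent
    haveI : M.Normal := Subgroup.NormalizerCondition.normal_of_coatom M Group.normalizerCondition_of_isNilpotent hM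
    by_contra hle
    obtain ⟨c, hc, hcM⟩ := SetLike.not_le_iff_exists.1 hle
    have hc' : c ∈ Subgroup.center (X i0 d) := hder ▸ hc
    have htop : M ⊔ Subgroup.center (X i0 d) = ⊤ := by
      refine hM.2 _ (lt_of_le_of_ne le_sup_left fun e => hcM ?_)
      rw [e]; exact Subgroup.mem_sup_right hc'
    refine hle ?_
    rw [commutator_def, Subgroup.commutator_le]
    intro a _ b _
    obtain ⟨m, hm, z1, hz1, rfl⟩ := Subgroup.mem_sup_of_normal_left.1 (htop ▸ Subgroup.mem_top a)
    obtain ⟨m', hm', z2, hz2, rfl⟩ := Subgroup.mem_sup_of_normal_left.1 (htop ▸ Subgroup.mem_top b)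
    rw [mem_center] at hz1 hz2
    have e : ⁅m * z1, m' * z2⁆ = ⁅m, m'⁆ := by
      rw [commutatorElement_def, commutatorElement_def, hcomm, hcomm, mul_v, mul_v, hz1, hz2, add_zero, add_zero]
    rw [e, commutatorElement_def]
    exact M.mul_mem (M.mul_mem (M.mul_mem hm hm') (M.inv_mem hm)) (M.inv_mem hm')

/-- The sign. -/
def chi (a : ZMod 2) : ℤ := if a = 0 then 1 else -1

theorem chi_add (a b : ZMod 2) : chi (a + b) = chi a * chi b := by revert a b; decide

theorem plus_rank (n : ℕ) (i0 : Fin n) : ∃ A : Subgroup (X i0 0), Cfsg.IsElementaryAbelian 2 A ∧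
    Nat.card A = 2 ^ (n + 1) := by
  let A : Subgroup (X i0 0) :=
    { carrier := {y | y.v.2 = 0}
      one_mem' := rfl
      mul_mem' := fun {a b} ha hb => by
        show a.v.2 + b.v.2 = 0
        rw [ha, hb, add_zero]
      inv_mem' := fun {a} ha => ha }
  have hb : ∀ a ∈ A, ∀ b ∈ A, beta i0 0 a.v b.v = 0 := fun a _ b hb => by
    simp [beta, show b.v.2 = 0 from hb]
  refine ⟨A, ⟨⟨⟨fun a b => Subtype.ext (X.ext ?_ (add_comm _ _))⟩⟩, fun a ha => ?_⟩, ?_⟩
  · simp only [Subgroup.coe_mul, mul_c, hb a a.2 b b.2, hb b b.2 a a.2]; ring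
  · rw [sq_eq, hb a ha a ha]; rfl
  · have e : A ≃ ZMod 2 × (Fin n → ZMod 2) :=
      ⟨fun a => (a.1.c, a.1.v.1), fun p => ⟨⟨p.1, (p.2, 0)⟩, rfl⟩,
        fun a => Subtype.ext (X.ext rfl (Prod.ext rfl a.2.symm)), fun _ => rfl⟩
    rw [Nat.card_congr e, Nat.card_prod, Nat.card_zmod, Nat.card_eq_fintype_card]
    simp [pow_succ']

/-- The quadratic form of the second kind. -/
def qm (i0 : Fin n) (v : V n) : ZMod 2 := beta i0 1 v v

theorem qm_add (v w : V n) : qm i0 (v + w) = qm i0 v + qm i0 w + omg v w := by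
  simp only [qm, beta_add_left, beta_add_right, ← beta_swap (i0 := i0) (d := 1)]; ring

theorem gauss (i0 : Fin n) : ∑ v : V n, chi (qm i0 v) = -(2 ^ n : ℤ) := by
  classical
  let f : Fin n → ZMod 2 × ZMod 2 → ℤ := fun i p =>
    chi (p.1 * p.2 + if i = i0 then p.1 * p.1 + p.2 * p.2 else 0)
  have hprod : ∀ s : Finset (Fin n), ∀ g : Fin n → ZMod 2, chi (∑ i ∈ s, g i) = ∏ i ∈ s, chi (g i) := by
    intro s g
    induction s using Finset.induction with
    | empty => rfl
    | insert a s ha ih => rw [sum_insert ha, prod_insert ha, chi_add, ih]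
  have h1 : ∀ v : V n, chi (qm i0 v) = ∏ i, f i (v.1 i, v.2 i) := fun v => by
    simp only [f, qm, beta, one_mul]
    rw [← hprod, sum_add_distrib, sum_ite_eq' univ i0 fun i => v.1 i * v.1 i + v.2 i * v.2 i,
      if_pos (mem_univ _)]
  rw [sum_congr rfl fun v _ => h1 v,
    ← Equiv.sum_comp (Equiv.arrowProdEquivProdArrow (Fin n) (fun _ => ZMod 2) fun _ => ZMod 2)]
  show ∑ g : Fin n → ZMod 2 × ZMod 2, ∏ i, f i (g i) = _
  rw [← Fintype.prod_sum f]
  have h2 : ∀ i, (∑ p : ZMod 2 × ZMod 2, f i p) = if i = i0 then -2 else 2 := fun i => by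
    by_cases h : i = i0 <;> simp only [f, h, if_true, if_false] <;> decide
  rw [prod_congr rfl fun i _ => h2 i, Finset.prod_ite, prod_const, prod_const]
  rw [show (univ.filter fun i => i = i0) = {i0} by ext; simp, card_singleton,
    show (univ.filter fun i => ¬ i = i0).card = n - 1 by
      rw [filter_not, show (univ.filter fun i => i = i0) = {i0} by ext; simp,
        card_sdiff_of_subset (subset_univ _), card_univ, Fintype.card_fin, card_singleton]]
  have : n = n - 1 + 1 := by have := i0.2; omega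
  conv_rhs => rw [this, pow_succ]
  ring

theorem minus_rank (n : ℕ) (i0 : Fin n) (A : Subgroup (X i0 1)) (hA : Cfsg.IsElementaryAbelian 2 A) :
    Nat.card A ≠ 2 ^ (n + 1) := by
  classical
  intro hc
  have hq : ∀ a ∈ A, qm i0 a.v = 0 := fun a ha => by
    have h := congrArg X.c (hA.2 a ha)
    rw [sq_eq] at h
    exact h
  let W : Finset (V n) := univ.filter fun v => ∃ a ∈ A, a.v = v
  have memW : ∀ v, v ∈ W ↔ ∃ a ∈ A, a.v = v := fun v => by simp [W]
  have hW0 : (0 : V n) ∈ W := (memW _).2 ⟨1, one_mem _, rfl⟩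
  have haddW : ∀ v ∈ W, ∀ w ∈ W, v + w ∈ W := fun v hv w hw => by
    obtain ⟨a, ha, rfl⟩ := (memW _).1 hv
    obtain ⟨b, hb, rfl⟩ := (memW _).1 hw
    exact (memW _).2 ⟨a * b, mul_mem ha hb, rfl⟩
  have hqW : ∀ v ∈ W, qm i0 v = 0 := fun v hv => by
    obtain ⟨a, ha, rfl⟩ := (memW _).1 hv
    exact hq a ha
  have hcardW : 2 ^ n ≤ W.card := by
    have hle : (Set.univ : Set A).ncard ≤ ((univ : Finset (ZMod 2)) ×ˢ W : Finset (ZMod 2 × V n)).card := by
      rw [← Set.ncard_coe_finset]
      refine Set.ncard_le_ncard_of_injOn (fun a : A => (a.1.c, a.1.v)) (fun a _ => ?_)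
        (fun a _ b _ e => Subtype.ext (X.ext (congrArg Prod.fst e) (congrArg Prod.snd e))) (Set.toFinite _)
      simp only [mem_coe, mem_product, mem_univ, true_and]
      exact (memW _).2 ⟨a.1, a.2, rfl⟩
    rw [Set.ncard_univ, hc, card_product, show (univ : Finset (ZMod 2)).card = 2 from rfl, pow_succ] at hle
    omega
  have homg : ∀ v ∈ W, ∀ w ∈ W, omg v w = 0 := fun v hv w hw => by
    have h := qm_add (i0 := i0) v w
    rw [hqW v hv, hqW w hw, hqW _ (haddW v hv w hw)] at h
    simpa using h.symm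
  have char : ∀ v : V n, ∑ w ∈ W, chi (omg v w) = if ∀ w ∈ W, omg v w = 0 then (W.card : ℤ) else 0 := by
    intro v
    split_ifs with h
    · rw [sum_congr rfl fun w hw => by rw [h w hw]]; simp [chi]
    · push Not at h
      obtain ⟨w0, hw0, hne⟩ := h
      have h1 : omg v w0 = 1 := (show ∀ a : ZMod 2, a ≠ 0 → a = 1 by decide) _ hne
      have e : ∑ w ∈ W, chi (omg v w) = ∑ w ∈ W, -chi (omg v w) := by
        refine sum_nbij' (fun w => w + w0) (fun w => w + w0) (fun w hw => haddW w hw w0 hw0)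
          (fun w hw => haddW w hw w0 hw0) (fun w _ => by simp only [add_assoc, V_add_self, add_zero])
          (fun w _ => by simp only [add_assoc, V_add_self, add_zero]) fun w _ => ?_
        rw [omg_add_right, h1]
        generalize omg v w = a
        revert a; decide
      rw [sum_neg_distrib] at e
      omega
  set P := univ.filter fun v : V n => ∀ w ∈ W, omg v w = 0
  have hP : (P.card : ℤ) * W.card = (2 : ℤ) ^ (2 * n) := by
    have h : ∑ v : V n, ∑ w ∈ W, chi (omg v w) = ∑ w ∈ W, ∑ v : V n, chi (omg v w) := sum_comm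
    rw [sum_congr rfl fun v _ => char v, ← sum_filter, sum_const, nsmul_eq_mul] at h
    rw [h, ← sum_erase_add _ _ hW0, sum_eq_zero fun w hw => ?_, zero_add]
    · rw [sum_congr rfl fun v _ => show chi (omg v 0) = 1 by simp [omg, chi], sum_const, card_univ,
        nsmul_eq_mul, mul_one, ← Nat.card_eq_fintype_card, card_V]
      push_cast; rfl
    · obtain ⟨u, hu⟩ := exists_omg (Finset.ne_of_mem_erase hw)
      have e : ∑ v : V n, chi (omg v w) = ∑ v : V n, -chi (omg v w) := by
        refine Fintype.sum_equiv (Equiv.addRight u) _ _ fun v => ?_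
        show chi (omg v w) = -chi (omg (v + u) w)
        rw [omg_comm (v + u), omg_add_right, hu, omg_comm w v]
        generalize omg v w = a
        revert a; decide
      rw [sum_neg_distrib] at e
      omega
  have hWP : W ⊆ P := fun v hv => mem_filter.2 ⟨mem_univ _, fun w hw => homg v hv w hw⟩
  have heq : W = P := by
    refine eq_of_subset_of_card_le hWP ?_
    by_contra hlt
    push Not at hlt
    have h1 : (2 : ℤ) ^ n ≤ W.card := by exact_mod_cast hcardW
    have h2 : (W.card : ℤ) < P.card := by exact_mod_cast hlt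
    have h3 : (0 : ℤ) < 2 ^ n := by positivity
    rw [two_mul, pow_add] at hP
    nlinarith
  have hshift : ∀ w ∈ W, ∑ v : V n, chi (qm i0 v) = ∑ v : V n, chi (qm i0 v) * chi (omg v w) := by
    intro w hw
    refine Fintype.sum_equiv (Equiv.addRight w) _ _ fun v => ?_
    show chi (qm i0 v) = chi (qm i0 (v + w)) * chi (omg (v + w) w)
    rw [qm_add, hqW w hw, omg_comm (v + w), omg_add_right, homg w hw w hw, omg_comm w v, add_zero,
      add_zero, chi_add, mul_assoc, ← chi_add, CharTwo.add_self_eq_zero]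
    simp [chi]
  have hsum : (W.card : ℤ) * ∑ v : V n, chi (qm i0 v) = W.card * W.card := by
    rw [← nsmul_eq_mul, ← sum_const, sum_congr rfl hshift, sum_comm,
      sum_congr rfl fun v _ => by rw [← mul_sum, char v]]
    simp only [mul_ite, mul_zero]
    rw [← sum_filter, show (univ.filter fun v : V n => ∀ w ∈ W, omg v w = 0) = W from heq.symm,
      sum_congr rfl fun v hv => by rw [hqW v hv]]
    simp [chi]
  rw [gauss] at hsum
  have h1 : (0 : ℤ) < W.card := by exact_mod_cast card_pos.2 ⟨0, hW0⟩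
  have h2 : (0 : ℤ) < 2 ^ n := by positivity
  nlinarith

/-- For every n ≥ 1 there exist finite extraspecial 2-groups of order 2^(2n+1) whose 2-rank (the largest rank of an elementary abelian subgroup) is n, and ones whose 2-rank is n + 1 (so for each such order there are two non-isomorphic extraspecial 2-groups, told apart by their 2-rank). -/
theorem result (n : ℕ) (hn : 1 ≤ n) : ∀ r ∈ ({n, n + 1} : Set ℕ), ∃ (E : Type) (_ : Group E) (_ : Finite E), Cfsg.IsExtraspecial 2 E ∧ Nat.card E = 2 ^ (2 * n + 1) ∧ sSup {k : ℕ | ∃ A : Subgroup E, Cfsg.IsElementaryAbelian 2 A ∧ Nat.card A = 2 ^ k} = r := by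
  haveI : Fact (Nat.Prime 2) := ⟨Nat.prime_two⟩
  have wrap : ∀ {E : Type} [Group E] [Finite E], Cfsg.IsExtraspecial 2 E → Nat.card E = 2 ^ (2 * n + 1) →
      ∀ r, (∃ A : Subgroup E, Cfsg.IsElementaryAbelian 2 A ∧ Nat.card A = 2 ^ r) →
      (∀ A : Subgroup E, Cfsg.IsElementaryAbelian 2 A → Nat.card A ≤ 2 ^ r) →
      sSup {k : ℕ | ∃ A : Subgroup E, Cfsg.IsElementaryAbelian 2 A ∧ Nat.card A = 2 ^ k} = r := by
    intro E _ _ _ _ r hex hub
    refine IsGreatest.csSup_eq ⟨hex, fun k ⟨A, hA, hk⟩ => ?_⟩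
    exact (Nat.pow_le_pow_iff_right (by norm_num)).1 (hk ▸ hub A hA)
  have ub : ∀ {E : Type} [Group E] [Finite E], Cfsg.IsExtraspecial 2 E → Nat.card E = 2 ^ (2 * n + 1) →
      ∀ A : Subgroup E, Cfsg.IsElementaryAbelian 2 A → Nat.card A ≤ 2 ^ (n + 1) := fun hE hc A hA =>
    (Cfsg.Agent.GenA.ExtraspecialTwo.rank_cases hE hc).1 A
      ⟨le_top, fun a ha b hb => congrArg Subtype.val (hA.1.is_comm.comm (⟨a, ha⟩ : A) ⟨b, hb⟩), hA.2⟩
  let i0 : Fin n := ⟨0, hn⟩
  rintro r (rfl | rfl)
  · refine ⟨X i0 1, inferInstance, inferInstance, isExtra, card_X,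
      wrap isExtra card_X _ ?_ fun A hA => ?_⟩
    · obtain ⟨-, -, hrk⟩ := Cfsg.Agent.GenA.ExtraspecialTwo.rank_cases (n := r) (E := X i0 1) isExtra card_X
      have h := hrk hn
      simp only [Cfsg.PRankLE, not_forall, not_le] at h
      obtain ⟨A, hA, hA2, hc⟩ := h
      obtain ⟨k, hk⟩ := (IsPGroup.of_card (card_X (i0 := i0) (d := 1))).to_subgroup A |>.exists_card_eq
      obtain ⟨B, hBA, hB⟩ : ∃ B ≤ A, Nat.card B = 2 ^ r := by
        obtain ⟨B, hB⟩ := Sylow.exists_subgroup_card_pow_prime (G := A) 2 (n := r)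
          (show 2 ^ r ∣ Nat.card A by
            rw [hk] at hc ⊢
            refine pow_dvd_pow 2 ?_
            have := (Nat.pow_lt_pow_iff_right (by norm_num : 1 < 2)).1 hc
            omega)
        exact ⟨B.map A.subtype, Subgroup.map_subtype_le B, by rw [Subgroup.card_map_of_injective A.subtype_injective, hB]⟩
      exact ⟨B, ⟨⟨⟨fun a b => Subtype.ext (by
          simpa using congrArg Subtype.val (hA.is_comm.comm (⟨a.1, hBA a.2⟩ : A) ⟨b.1, hBA b.2⟩))⟩⟩,
        fun a ha => hA2 a (hBA ha)⟩, hB⟩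
    · have h := ub (E := X i0 1) isExtra card_X A hA
      obtain ⟨k, hk⟩ := ((IsPGroup.of_card (card_X (i0 := i0) (d := 1))).to_subgroup A).exists_card_eq
      have hne := minus_rank r i0 A hA
      rw [hk] at h hne ⊢
      refine Nat.pow_le_pow_right (by norm_num) ?_
      have := (Nat.pow_le_pow_iff_right (by norm_num)).1 h
      rcases Nat.lt_or_ge k (r + 1) with hlt | hge
      · omega
      · exact absurd (congrArg (2 ^ ·) (le_antisymm this hge)) hne
  · exact ⟨X i0 0, inferInstance, inferInstance, isExtra, card_X,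
      wrap isExtra card_X _ (plus_rank n i0) (ub isExtra card_X)⟩

end Cfsg.Agent.S5396
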