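import Cfsg.Statements.S5399
import Cfsg.Agent.Lib.ThreeTransp.M23.Involutions
import Cfsg.Agent.GenA.Tower.Main23
-- import your own Cfsg.Agent.* helpers here

set_option autoImplicit false
open Cfsg

namespace Cfsg.Agent.S5399

/-- Let G be a finite group with trivial centre generated by a conjugation-invariant set D of 3-transpositions on which it acts primitively, such that for some d in D the subgroup generated by the members of D other than d commuting with d has central largest normal 2- and 3-subgroups, and suppose G with D is of type M(23). Then G has exactly 3 conjugacy classes of involutions: every involution is a product of m distinct pairwise commuting members of D for some m between 1 and 3; for each such m these products form one non-empty conjugacy class; and the value of m is determined by the involution. -/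
theorem result {G : Type*} [Group G] [Finite G] {D : Set G} (hD : Cfsg.IsThreeTranspositionGroup D) (hprim : Cfsg.IsPrimitiveUnderConj D) (d : G) (hd : d ∈ D) (h3 : Cfsg.pCore 3 ↥(Subgroup.closure {y : G | y ∈ D ∧ y ≠ d ∧ Commute d y}) ≤ Subgroup.center ↥(Subgroup.closure {y : G | y ∈ D ∧ y ≠ d ∧ Commute d y})) (h2 : Cfsg.pCore 2 ↥(Subgroup.closure {y : G | y ∈ D ∧ y ≠ d ∧ Commute d y}) ≤ Subgroup.center ↥(Subgroup.closure {y : G | y ∈ D ∧ y ≠ d ∧ Commute d y})) (ht : Cfsg.IsOfTypeM23 G D) : (∀ x : G, orderOf x = 2 → ∃ m : ℕ, 1 ≤ m ∧ m ≤ 3 ∧ (∃ l : List G, l.Nodup ∧ l.length = m ∧ (∀ a ∈ l, a ∈ D) ∧ (∀ a ∈ l, ∀ b ∈ l, Commute a b) ∧ l.prod = x)) ∧ (∀ m : ℕ, 1 ≤ m → m ≤ 3 → (∃ x : G, orderOf x = 2 ∧ (∃ l : List G, l.Nodup ∧ l.length = m ∧ (∀ a ∈ l, a ∈ D) ∧ (∀ a ∈ l, ∀ b ∈ l, Commute a b) ∧ l.prod = x)) ∧ ∀ x y : G, (∃ l : List G, l.Nodup ∧ l.length = m ∧ (∀ a ∈ l, a ∈ D) ∧ (∀ a ∈ l, ∀ b ∈ l, Commute a b) ∧ l.prod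 = x) → (∃ l : List G, l.Nodup ∧ l.length = m ∧ (∀ a ∈ l, a ∈ D) ∧ (∀ a ∈ l, ∀ b ∈ l, Commute a b) ∧ l.prod = y) → IsConj x y) ∧ ∀ (m m' : ℕ) (x : G), 1 ≤ m → m ≤ 3 → 1 ≤ m' → m' ≤ 3 → (∃ l : List G, l.Nodup ∧ l.length = m ∧ (∀ a ∈ l, a ∈ D) ∧ (∀ a ∈ l, ∀ b ∈ l, Commute a b) ∧ l.prod = x) → (∃ l : List G, l.Nodup ∧ l.length = m' ∧ (∀ a ∈ l, a ∈ D) ∧ (∀ a ∈ l, ∀ b ∈ l, Commute a b) ∧ l.prod = x) → m = m' := by
  have B : ThreeTransp.M23.Base D :=
    ⟨fun a ha => GenA.Tower.M23.sep hD hprim ht ha,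
      fun a ha => (GenA.Tower.core_at hD hprim ht.1 (GenA.Tower.M23.hex hD hprim ht) ha).2.1,
      fun a ha => GenA.Tower.M23.t22 hD hprim ht ha, fun a ha => GenA.Tower.M23.prim hD hprim ht ha,
      fun a ha => GenA.Tower.M23.centralizer_eq hD hprim ht ha⟩
  have h6 : ThreeTransp.Factor.Rel 6 D := (ThreeTransp.Factor.M23_core hD hprim.1 ht).2
  refine ⟨fun x hx => ThreeTransp.M23.exists_prod hD B hprim ht.1 h6 hx, fun m h1 h3 => ⟨?_, ?_⟩,
    fun m m' x h1 h3 h1' h3' h h' => ThreeTransp.M23.prod_number hD h6 h1 h3 h1' h3' h h'⟩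
  · obtain ⟨x, hx⟩ := ThreeTransp.M23.exists_isProd hD B hprim ht.1 h1 h3
    exact ⟨x, ThreeTransp.M23.orderOf_prod hD h6 h1 h3 hx, hx⟩
  · exact fun x y hx hy => ThreeTransp.M23.prod_conj hD B hprim ht.1 h1 h3 hx hy

end Cfsg.Agent.S5399
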