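import Cfsg.Statements.S5404
import Cfsg.Agent.Lib.LargeExtra.AutFi24.Hyp

set_option autoImplicit false
open Cfsg

namespace Cfsg.Agent.S5404

/-- Let X be a finite group with a subgroup G₀ of index 2 of the following type: G₀ has an involution z, central in some Sylow 2-subgroup of G₀, whose centralizer C in G₀ has generalized Fitting subgroup Q extraspecial of order 2^13 and normal subgroups Q ≤ N ≤ M with N/Q of order 3, M/N isomorphic to the projective special unitary group of dimension 4 over the field with nine elements and M of index 2 in C, some G₀-conjugate of z other than z lying in Q; and suppose the generalized Fitting subgroup of the centralizer of z in X equals that of C. Then X is generated by a conjugacy class of 3-transpositions with respect to which it is of type M(24). -/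
theorem result {X : Type*} [Group X] [Finite X] (G₀ : Subgroup X) (hidx : G₀.index = 2) (z : ↥G₀) (hz : orderOf z = 2) (Q N M : Subgroup (Subgroup.centralizer ({z} : Set ↥G₀))) [Q.Normal] [N.Normal] [M.Normal] (hF : Cfsg.generalizedFittingSubgroup (Subgroup.centralizer ({z} : Set ↥G₀)) = Q) (hQ : Cfsg.IsExtraspecial 2 Q) (hcard : Nat.card Q = 2 ^ 13) (hQN : Q ≤ N) (hNM : N ≤ M) (hN : Nat.card N = 3 * Nat.card Q) (K : Type) [Field K] [Fintype K] (hK : Fintype.card K = 9) (e : M ⧸ N.subgroupOf M ≃* Cfsg.PSU 4 K 3) (hM : M.index = 2) (hnwc : ∃ g : ↥G₀, (∃ hq : g * z * g⁻¹ ∈ Subgroup.centralizer ({z} : Set ↥G₀), (⟨g * z * g⁻¹, hq⟩ : Subgroup.centralizer ({z} : Set ↥G₀)) ∈ Q) ∧ g * z * g⁻¹ ≠ z) (hcentral : ∃ P : Sylow 2 ↥G₀, z ∈ (P : Subgroup ↥G₀) ∧ ∀ x ∈ (P : Subgroup ↥G₀), Commute x z) (hFX : (Cfsg.generalizedFittingSubgroup ↥(Subgroup.centralizer ({(z : X)} : Set X))).map (Subgroup.subtype _) = ((Q.map (Subgroup.subtype _)).map G₀.subtype)) :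 ∃ E : Set X, Cfsg.IsThreeTranspositionClass E ∧ Cfsg.IsOfTypeM24 X E := by
  classical
  haveI : G₀.Normal := Subgroup.normal_of_index_eq_two hidx
  have hF' : Cfsg.IsOfLargeFischerTypeAt z Q :=
    ⟨⟨hz, hF, hQ, by simpa using hcard, hnwc⟩, N, M, inferInstance, inferInstance, hQN, hNM, hN,
      ⟨K, inferInstance, inferInstance, hK, ⟨e⟩⟩, hM⟩
  obtain ⟨d, hd, hdG, hdz, t, ht, hq, ⟨hn, hU⟩, g, hg, hne, hO⟩ :=
    Cfsg.Agent.LargeExtra.Fischer.exists_outer_full hidx hF' hcentral hFX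
  haveI := hn
  obtain ⟨h1, h2⟩ := Cfsg.Agent.S5402.result t ht hq hU.type22 hU ⟨g, hg, hne⟩
  obtain ⟨E, hcls, h22⟩ := hU.type22
  obtain ⟨hs, hperf⟩ := Cfsg.Agent.GenA.Heptad.setup_of_hyp t ht hq hcls h22
  obtain ⟨L₁, hL₁⟩ := Cfsg.Agent.GenA.Heptad.exists_good hs hperf
  have htt : t * t = 1 := Cfsg.Agent.ThreeTransp.Basic.mul_self_of_orderOf_two ht
  have ht1 : t ≠ 1 := Cfsg.Agent.ThreeTransp.Basic.ne_one_of_orderOf_two ht
  obtain ⟨L, hL, hLnb⟩ := Cfsg.Agent.GenA.T23.exists_class hs hL₁ htt ht1 ⟨g, hg, hne⟩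
  have F := Cfsg.Agent.GenA.T23.exists_frame hs hL htt ht1 hperf hLnb
  have hne' : (conjugatesOf t).Nonempty := ⟨t, mem_conjugatesOf_self⟩
  have hcom : Commute (g * t * g⁻¹) t := Subgroup.mem_centralizer_singleton_iff.1 hg
  exact (⟨hidx, hF', hd, hdG, hdz, Cfsg.Agent.GenA.T23.grp F hne', Cfsg.Agent.GenA.T23.prim F hne', h2,
    hcom, hne, hO⟩ : Cfsg.Agent.LargeExtra.AutFi24.Setup z Q d t g).type24

end Cfsg.Agent.S5404
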