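import Cfsg.Statements.S5405
import Cfsg.Agent.Lib.ThreeTransp.ReflCohData
import Cfsg.Agent.Lib.Classical.OrthForms
import Cfsg.Agent.Lib.Forms.SpecialOrth
import Cfsg.Agent.S0824

set_option autoImplicit false
open scoped MatrixGroups
open Cfsg

namespace Cfsg.Agent.S5405

open ThreeTransp.ReflCoh ThreeTransp.ReflCohData Cfsg.Agent.Forms.QuadStd Cfsg.Agent.Forms.Reflections

/-- Numbering of the coordinates of a minus form. -/
def minIdx' (m d : ℕ) (h : m + m + 2 = d) : Fin d ≃ (Fin m ⊕ Fin m) ⊕ Fin 2 :=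
  (finCongr h.symm).trans (finSumFinEquiv.symm.trans (Equiv.sumCongr finSumFinEquiv.symm (Equiv.refl _)))

def σ4 : Fin m4Data.d ≃ (Fin 1 ⊕ Fin 1) ⊕ Fin 2 := minIdx' 1 4 rfl

def σ6 : Fin m6Data.d ≃ (Fin 2 ⊕ Fin 2) ⊕ Fin 2 := minIdx' 2 6 rfl

def σ8 : Fin p8Data.d ≃ Fin 4 ⊕ Fin 4 :=
  (finSumFinEquiv (m := 4) (n := 4)).symm

set_option maxRecDepth 100000 in
theorem fit4 : Fits m4Data σ4 (Cfsg.quadFormMinus 1 (ZMod 2) 1 1) := by
  unfold Fits; decide +kernel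

set_option maxRecDepth 100000 in
theorem fit6 : Fits m6Data σ6 (Cfsg.quadFormMinus 2 (ZMod 2) 1 1) := by
  unfold Fits; decide +kernel

set_option maxRecDepth 100000 in
theorem fit8 : Fits p8Data σ8 (Cfsg.quadFormPlus 4 (ZMod 2)) := by
  unfold Fits; decide +kernel

theorem lt4 : m4Data.vecs.length = m4Data.n ∧ ∀ t ∈ m4Data.vecs, t < 2 ^ m4Data.d := by decide +kernel

theorem lt6 : m6Data.vecs.length = m6Data.n ∧ ∀ t ∈ m6Data.vecs, t < 2 ^ m6Data.d := by decide +kernel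

theorem lt8 : p8Data.vecs.length = p8Data.n ∧ ∀ t ∈ p8Data.vecs, t < 2 ^ p8Data.d := by decide +kernel

theorem cov4 : ∀ x, Cfsg.quadFormMinus 1 (ZMod 2) 1 1 x = 1 →
    code σ4 x ∈ reach m4Data m4Data.tree m4Data.vecs := by decide +kernel

theorem cov6 : ∀ x, Cfsg.quadFormMinus 2 (ZMod 2) 1 1 x = 1 →
    code σ6 x ∈ reach m6Data m6Data.tree m6Data.vecs := by decide +kernel

theorem cov8 : ∀ x, Cfsg.quadFormPlus 4 (ZMod 2) x = 1 →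
    code σ8 x ∈ reach p8Data p8Data.tree p8Data.vecs := by decide +kernel

theorem aniso : ∀ z₁ z₂ : ZMod 2, z₁ ^ 2 + 1 * z₁ * z₂ + 1 * z₂ ^ 2 = 0 → z₁ = 0 ∧ z₂ = 0 := by decide

/-- The five singular points carry the whole group. -/
theorem refGroup_qf : refGroup S0824.qf = ⊤ := by
  rw [eq_top_iff]
  intro g _
  have hinjg : Function.Injective (act g) := fun x y hxy => by
    have := congrArg (act g⁻¹) hxy
    rwa [← act_mul, ← act_mul, inv_mul_cancel, act_one, act_one] at this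
  have hcl : ∀ x, ∃ y, act g (S0824.pt x) = S0824.pt y := by
    intro x
    refine S0824.pt_class _ ?_ ?_
    · rw [← S0824.qf_eq, act_map, S0824.qf_eq]; exact (S0824.pt_sing x).1
    · exact fun h => (S0824.pt_sing x).2 (hinjg (h.trans (map_zero _).symm))
  choose π hπ using hcl
  have hinj : Function.Injective π := fun x y hxy =>
    S0824.pt_ne _ _ (hinjg (by rw [hπ, hπ, hxy]))
  let π' : Equiv.Perm (Fin 5) := Equiv.ofBijective π (Finite.injective_iff_bijective.1 hinj)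
  have key : ∀ τ : Equiv.Perm (Fin 5), ∃ h ∈ refGroup S0824.qf, ∀ x, act h (S0824.pt x) = S0824.pt (τ x) := by
    intro τ
    induction τ using Equiv.Perm.swap_induction_on with
    | one => exact ⟨1, one_mem _, fun x => act_one _⟩
    | swap_mul f i j hij ih =>
      obtain ⟨h, hh, he⟩ := ih
      refine ⟨reflect S0824.qf (S0824.pt i - S0824.pt j) * h,
        mul_mem (Subgroup.subset_closure ⟨_, ?_, rfl⟩) hh, fun x => ?_⟩
      · rw [S0824.qf_eq, S0824.pt_value i j hij]; exact one_ne_zero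
      · rw [act_mul, he, act_reflect, S0824.qf_eq, S0824.pt_value i j hij, inv_one, one_mul,
          S0824.pt_refl i j (f x) hij]
        rfl
  obtain ⟨h, hh, he⟩ := key π'
  have : act g = act h := LinearMap.ext_on_range S0824.pt_span fun x => by rw [hπ, he]; rfl
  have hgh : g = h := iso_ext fun v => by rw [← act_apply, ← act_apply, this]
  rw [hgh]; exact hh

theorem inner_of {ι : Type} [Fintype ι] [DecidableEq ι] {C : Cert} {σ : Fin C.d ≃ ι}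
    (Q : QuadraticForm (ZMod 2) (ι → ZMod 2)) (q : (ι → ZMod 2) → ZMod 2) (hq : ⇑Q = q)
    (hfit : Fits C σ q) (hlt : C.vecs.length = C.n ∧ ∀ t ∈ C.vecs, t < 2 ^ C.d)
    (hcov : ∀ x, q x = 1 → code σ x ∈ reach C C.tree C.vecs)
    (hQ : (QuadraticMap.polarBilin Q).Nondegenerate) (hok : ok C = true) (href : refGroup Q = ⊤)
    (f : ↥(Cfsg.Omega (ZMod 2) q) → (ι → ZMod 2))
    (hf : ∀ g h, f (g * h) = f g + Matrix.mulVec (((g : ↥(Cfsg.isometryGroup (ZMod 2) q)) :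
      Matrix.GeneralLinearGroup ι (ZMod 2)) : Matrix ι ι (ZMod 2)) (f h)) :
    ∃ v : ι → ZMod 2, ∀ g, f g = Matrix.mulVec (((g : ↥(Cfsg.isometryGroup (ZMod 2) q)) :
      Matrix.GeneralLinearGroup ι (ZMod 2)) : Matrix ι ι (ZMod 2)) v - v := by
  subst hq
  have htop : rootGroup Q C σ = ⊤ :=
    top_unique (href ▸ refGroup_le hfit hlt.1 hlt.2 hcov)
  obtain ⟨v, hv⟩ := derivation_inner hfit hQ hok htop f fun g h => by rw [act_apply]; exact hf g h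
  exact ⟨v, fun g => by rw [hv g, act_apply]⟩

/-- Vanishing of first cohomology on the natural module for three small orthogonal groups over the field with two elements: for the commutator subgroup of the isometry group of the elliptic quadratic form in dimension 4, of the elliptic form in dimension 6, and of the hyperbolic form in dimension 8, every crossed homomorphism into the natural module (a map f with f(gh) = f(g) + g·f(h)) is principal (of the form g ↦ g·v − v). -/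
theorem result : (∀ f : ↥(Cfsg.Omega (ZMod 2) (Cfsg.quadFormMinus 1 (ZMod 2) 1 1)) → ((Fin 1 ⊕ Fin 1) ⊕ Fin 2 → ZMod 2), (∀ g h : ↥(Cfsg.Omega (ZMod 2) (Cfsg.quadFormMinus 1 (ZMod 2) 1 1)), f (g * h) = f g + Matrix.mulVec (((g : ↥(Cfsg.isometryGroup (ZMod 2) (Cfsg.quadFormMinus 1 (ZMod 2) 1 1))) : GL ((Fin 1 ⊕ Fin 1) ⊕ Fin 2) (ZMod 2)) : Matrix ((Fin 1 ⊕ Fin 1) ⊕ Fin 2) ((Fin 1 ⊕ Fin 1) ⊕ Fin 2) (ZMod 2)) (f h)) → ∃ v : (Fin 1 ⊕ Fin 1) ⊕ Fin 2 → ZMod 2, ∀ g : ↥(Cfsg.Omega (ZMod 2) (Cfsg.quadFormMinus 1 (ZMod 2) 1 1)), f g = Matrix.mulVec (((g : ↥(Cfsg.isometryGroup (ZMod 2) (Cfsg.quadFormMinus 1 (ZMod 2) 1 1))) : GL ((Fin 1 ⊕ Fin 1) ⊕ Fin 2) (ZMod 2)) : Matrix ((Fin 1 ⊕ Fin 1) ⊕ Fin 2) ((Fin 1 ⊕ Fin 1) ⊕ Fin 2) (ZMod 2)) v - v) ∧ (∀ f : ↥(Cfsg.Omega (ZMod 2) (Cfsg.quadFormMinus 2 (ZMod 2) 1 1)) → ((Fin 2 ⊕ Fin 2) ⊕ Fin 2 → ZMod 2), (∀ g h : ↥(Cfsg.Omega (ZMod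 2) (Cfsg.quadFormMinus 2 (ZMod 2) 1 1)), f (g * h) = f g + Matrix.mulVec (((g : ↥(Cfsg.isometryGroup (ZMod 2) (Cfsg.quadFormMinus 2 (ZMod 2) 1 1))) : GL ((Fin 2 ⊕ Fin 2) ⊕ Fin 2) (ZMod 2)) : Matrix ((Fin 2 ⊕ Fin 2) ⊕ Fin 2) ((Fin 2 ⊕ Fin 2) ⊕ Fin 2) (ZMod 2)) (f h)) → ∃ v : (Fin 2 ⊕ Fin 2) ⊕ Fin 2 → ZMod 2, ∀ g : ↥(Cfsg.Omega (ZMod 2) (Cfsg.quadFormMinus 2 (ZMod 2) 1 1)), f g = Matrix.mulVec (((g : ↥(Cfsg.isometryGroup (ZMod 2) (Cfsg.quadFormMinus 2 (ZMod 2) 1 1))) : GL ((Fin 2 ⊕ Fin 2) ⊕ Fin 2) (ZMod 2)) : Matrix ((Fin 2 ⊕ Fin 2) ⊕ Fin 2) ((Fin 2 ⊕ Fin 2) ⊕ Fin 2) (ZMod 2)) v - v) ∧ (∀ f : ↥(Cfsg.Omega (ZMod 2) (Cfsg.quadFormPlus 4 (ZMod 2))) → (Fin 4 ⊕ Fin 4 → ZMod 2), (∀ g h : ↥(Cfsg.Omega (ZMod 2) (Cfsg.quadFormPlus 4 (ZMod 2))), f (g * h) = f g + Matrix.mulVec (((g : ↥(Cfsg.isometryGroup (ZMod 2) (Cfsg.quadFormPlus 4 (ZMod 2)))) : GL (Fin 4 ⊕ Fin 4) (ZMod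 2)) : Matrix (Fin 4 ⊕ Fin 4) (Fin 4 ⊕ Fin 4) (ZMod 2)) (f h)) → ∃ v : Fin 4 ⊕ Fin 4 → ZMod 2, ∀ g : ↥(Cfsg.Omega (ZMod 2) (Cfsg.quadFormPlus 4 (ZMod 2))), f g = Matrix.mulVec (((g : ↥(Cfsg.isometryGroup (ZMod 2) (Cfsg.quadFormPlus 4 (ZMod 2)))) : GL (Fin 4 ⊕ Fin 4) (ZMod 2)) : Matrix (Fin 4 ⊕ Fin 4) (Fin 4 ⊕ Fin 4) (ZMod 2)) v - v) := by
  refine ⟨fun f hf => ?_, fun f hf => ?_, fun f hf => ?_⟩
  · have hqq : Classical.OrthForms.minQ (ZMod 2) 1 1 1 = S0824.qf :=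
      DFunLike.coe_injective (by rw [Classical.OrthForms.minQ_eq, S0824.qf_eq])
    exact inner_of (σ := σ4) S0824.qf _ S0824.qf_eq fit4 lt4 cov4
      (hqq ▸ Classical.OrthForms.minQ_nondeg 1 aniso) m4_ok refGroup_qf f hf
  · exact inner_of (σ := σ6) (Classical.OrthForms.minQ (ZMod 2) 2 1 1) _
      (Classical.OrthForms.minQ_eq 2 1 1) fit6 lt6 cov6 (Classical.OrthForms.minQ_nondeg 2 aniso) m6_ok
      (refGroup_eq_top (Classical.OrthForms.minQ_nondeg 2 aniso) (Or.inr (by simp))) f hf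
  · exact inner_of (σ := σ8) (Forms.PlusStd.plusQ (ZMod 2) 4) _
      (Classical.OrthForms.plusQ_eq 4) fit8 lt8 cov8 (Forms.PlusStd.plusQ_nondeg (ZMod 2) 4) p8_ok
      (refGroup_eq_top (Forms.PlusStd.plusQ_nondeg (ZMod 2) 4) (Or.inr (by simp))) f hf

end Cfsg.Agent.S5405
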