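import Cfsg.Statements.S5553
import Cfsg.Agent.Lib.Leech.Index

set_option autoImplicit false
open Cfsg

namespace Cfsg.Agent.S5553

open Finset Cfsg.Agent.Golay.Basic Cfsg.Agent.Golay.Design Cfsg.Agent.Leech.Basic Cfsg.Agent.Leech.Index

/-- The vectors with all coordinates congruent modulo two. -/
def constPar : AddSubgroup Vec := (AddSubgroup.zmultiples (1 : GolayPt → ZMod 2)).comap redHom

/-- Halves of the vectors of the subgroup. -/
def halfA : AddSubgroup Vec := constPar ⊓ sumHom.ker

theorem one_mem_code : (1 : GolayPt → ZMod 2) ∈ golayCode := by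
  rw [mem_code_iff, show support₂ (1 : GolayPt → ZMod 2) = Finset.univ from by
    ext i; simp [mem_support₂]]
  exact mem_supports_iff.1 univ_mem

theorem mem_constPar {z : Vec} (hz : z ∈ constPar) : ∀ i, (z i : ZMod 2) = (z none : ZMod 2) := by
  obtain ⟨k, hk⟩ := AddSubgroup.mem_zmultiples_iff.1 hz
  intro i
  have h1 := congrFun hk i
  have h2 := congrFun hk none
  exact (h1.symm.trans h2 : redHom z i = redHom z none)

theorem par_cases {z : Vec} (hz : z ∈ constPar) : (∀ i, (2 : ℤ) ∣ z i) ∨ ∀ i, ¬ (2 : ℤ) ∣ z i := by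
  have h := mem_constPar hz
  by_cases h0 : (2 : ℤ) ∣ z none
  · refine Or.inl fun i => (ZMod.intCast_zmod_eq_zero_iff_dvd (z i) 2).1 ?_
    rw [h i]; exact (ZMod.intCast_zmod_eq_zero_iff_dvd (z none) 2).2 h0
  · refine Or.inr fun i hi => h0 ((ZMod.intCast_zmod_eq_zero_iff_dvd (z none) 2).1 ?_)
    rw [← h i]; exact (ZMod.intCast_zmod_eq_zero_iff_dvd (z i) 2).2 hi

theorem halfA_index : halfA.index = 2 ^ 24 := by
  have hone : addOrderOf (1 : GolayPt → ZMod 2) = 2 :=
    addOrderOf_eq_prime (by funext i; decide +revert) (fun h => absurd (congrFun h none) (by decide))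
  have hP : constPar.index = 2 ^ 23 := by
    rw [constPar, AddSubgroup.index_comap_of_surjective _ redHom_surjective]
    have h := AddSubgroup.card_mul_index (AddSubgroup.zmultiples (1 : GolayPt → ZMod 2))
    rw [Nat.card_zmultiples, hone, two_pow_card] at h
    omega
  have hrel : halfA.relIndex constPar = 2 := by
    rw [halfA, inf_comm, AddSubgroup.inf_relIndex_right, relIndex_ker']
    have himg : (constPar.map sumHom : Set (ZMod 4)) = {0, 2} := by
      ext z
      constructor
      · rintro ⟨x, hx, rfl⟩
        have hsum : ((∑ i, x i : ℤ) : ZMod 2) = 0 := by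
          push_cast
          rw [Finset.sum_congr rfl fun i _ => mem_constPar hx i, Finset.sum_const, nsmul_eq_mul,
            Finset.card_univ, show Fintype.card GolayPt = 24 by decide,
            show ((24 : ℕ) : ZMod 2) = 0 by decide, zero_mul]
        rw [ZMod.intCast_zmod_eq_zero_iff_dvd] at hsum
        obtain ⟨k, hk⟩ := hsum
        show ((∑ i, x i : ℤ) : ZMod 4) ∈ ({0, 2} : Set (ZMod 4))
        rw [hk]
        push_cast
        have : ∀ z : ZMod 4, 2 * z ∈ ({0, 2} : Set (ZMod 4)) := by decide
        exact this _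
      · rintro (rfl | rfl)
        · exact ⟨0, zero_mem _, map_zero _⟩
        · refine ⟨Pi.single none 2, ?_, ?_⟩
          · show redHom (Pi.single none 2) ∈ AddSubgroup.zmultiples (1 : GolayPt → ZMod 2)
            rw [show redHom (Pi.single none 2) = 0 from funext fun i => by
              by_cases h : i = none <;> simp [redHom, Pi.single_apply, h] <;> decide]
            exact zero_mem _
          · show ((∑ i, (Pi.single none 2 : Vec) i : ℤ) : ZMod 4) = 2
            simp
    show Nat.card (constPar.map sumHom : Set (ZMod 4)) = 2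
    rw [Nat.card_coe_set_eq, himg, Set.ncard_pair (by decide)]
  have h : halfA.relIndex constPar * constPar.index = halfA.index :=
    AddSubgroup.relIndex_mul_index (inf_le_left : halfA ≤ constPar)
  rw [hrel, hP] at h
  omega

theorem sum_sq_dvd {z : Vec} (hz : z ∈ halfA) : (8 : ℤ) ∣ ∑ i, z i ^ 2 := by
  have hsum : (4 : ℤ) ∣ ∑ i, z i := (ZMod.intCast_zmod_eq_zero_iff_dvd _ 4).1 hz.2
  rcases par_cases hz.1 with h | h
  · choose w hw using h
    have e : ∀ i, z i ^ 2 = 4 * w i + 8 * (w i * (w i - 1) / 2) := fun i => by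
      have : (2 : ℤ) ∣ w i * (w i - 1) := (Int.even_mul_pred_self (w i)).two_dvd
      rw [hw i]
      obtain ⟨k, hk⟩ := this
      rw [hk, Int.mul_ediv_cancel_left _ (by norm_num)]
      linear_combination 4 * hk
    simp only [e, sum_add_distrib, ← mul_sum]
    simp only [hw, ← mul_sum] at hsum
    omega
  · have e : ∀ i, ∃ k, z i ^ 2 = 1 + 8 * k := fun i => by
      obtain ⟨k, hk⟩ : Odd (z i) := Int.not_even_iff_odd.1 fun he => h i he.two_dvd
      obtain ⟨m, hm⟩ := (Int.even_mul_succ_self k).two_dvd
      exact ⟨m, by rw [hk]; linear_combination 4 * hm⟩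
    choose k hk using e
    simp only [hk, sum_add_distrib, ← mul_sum, sum_const, card_univ]
    rw [show Fintype.card GolayPt = 24 by decide]
    exact ⟨3 + ∑ i, k i, by ring⟩

/-- The Leech lattice of the definitions has an additive subgroup A containing twice the lattice, of index 2^12 in the lattice, all of whose vectors have squared length divisible by 32: the invariant quadratic form 'squared length over 16 modulo 2' on the lattice modulo twice the lattice (a 24-dimensional space over the field with two elements) vanishes on a 12-dimensional subspace, so it is of plus type. -/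
theorem result : ∃ A : AddSubgroup (Cfsg.GolayPt → ℤ), A ≤ Cfsg.leechLattice ∧ (∀ v ∈ Cfsg.leechLattice, (2 : ℤ) • v ∈ A) ∧ (A.addSubgroupOf Cfsg.leechLattice).index = 2 ^ 12 ∧ ∀ v ∈ A, (32 : ℤ) ∣ Cfsg.sqNorm v := by
  classical
  have hle : halfA.map dblHom ≤ leechLattice := by
    refine le_trans (AddSubgroup.map_mono ?_) (le_trans (map_dbl_halves).le inf_le_left)
    refine inf_le_inf_right _ (AddSubgroup.comap_mono ?_)
    rw [AddSubgroup.zmultiples_le]
    exact one_mem_code
  refine ⟨halfA.map dblHom, hle, ?_, ?_, ?_⟩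
  · intro v hv
    obtain ⟨m, c, y, hm, hc, hx, hs⟩ := mem_lattice_iff.1 hv
    refine ⟨v, ⟨?_, ?_⟩, funext fun i => by simp [dblHom]⟩
    · show redHom v ∈ AddSubgroup.zmultiples (1 : GolayPt → ZMod 2)
      have hr : redHom v = m • (1 : GolayPt → ZMod 2) := by
        funext i
        have h2 : (2 : ZMod 2) = 0 := rfl
        have h4 : (4 : ZMod 2) = 0 := rfl
        simp [redHom, hx i, h2, h4, zsmul_eq_mul]
      rw [hr]; exact zsmul_mem (AddSubgroup.mem_zmultiples _) m
    · show ((∑ i, v i : ℤ) : ZMod 4) = 0
      rw [ZMod.intCast_zmod_eq_zero_iff_dvd]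
      push_cast
      omega
  · have h : (halfA.map dblHom).relIndex leechLattice * leechLattice.index =
        (halfA.map dblHom).index := AddSubgroup.relIndex_mul_index hle
    rw [leech_index, AddSubgroup.index_map_of_injective _ dblHom_injective, halfA_index,
      dbl_range_index] at h
    show (halfA.map dblHom).relIndex leechLattice = 2 ^ 12
    exact Nat.eq_of_mul_eq_mul_right (by norm_num : 0 < 2 ^ 36) (h.trans (by norm_num))
  · rintro _ ⟨z, hz, rfl⟩
    obtain ⟨k, hk⟩ := sum_sq_dvd hz
    refine ⟨k, ?_⟩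
    simp only [sqNorm, dblHom, AddMonoidHom.coe_mk, ZeroHom.coe_mk, mul_pow, ← mul_sum, hk]
    ring

end Cfsg.Agent.S5553
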