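import Cfsg.Statements.S5408
import Cfsg.Agent.S5553
import Cfsg.Agent.Lib.CharP.LeechForm

set_option autoImplicit false
open Cfsg

namespace Cfsg.Agent.S5408


open scoped commutatorElement
open Cfsg.Agent.Leech.Basic Cfsg.Agent.Leech.Gen Cfsg.Agent.Leech.Index Cfsg.Agent.CharP.LeechForm
  Cfsg.Agent.S5553 Finset

section Group

variable {P : Type*} [Group P]

/-- Zero at the identity and one elsewhere. -/
noncomputable def bit (x : P) : ZMod 2 := by classical exact if x = 1 then 0 else 1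

theorem bit_eq_zero {x : P} : bit x = 0 ↔ x = 1 := by
  classical
  unfold bit; split_ifs with h <;> simp [h]

theorem center_cases (hc : Nat.card (Subgroup.center P) = 2) :
    ∃ e : P, e ∈ Subgroup.center P ∧ e ≠ 1 ∧ e * e = 1 ∧
      ∀ x ∈ Subgroup.center P, x = 1 ∨ x = e := by
  obtain ⟨e, he, hu⟩ := Nat.card_eq_two_iff' (1 : Subgroup.center P) |>.1 hc
  have hall : ∀ x ∈ Subgroup.center P, x = 1 ∨ x = (e : P) := fun x hx => by
    by_cases h : (⟨x, hx⟩ : Subgroup.center P) = 1
    · exact Or.inl (congrArg Subtype.val h)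
    · exact Or.inr (congrArg Subtype.val (hu _ h))
  refine ⟨e, e.2, fun h => he (Subtype.ext h), ?_, hall⟩
  rcases hall _ (mul_mem e.2 e.2) with h | h
  · exact h
  · exact absurd (mul_left_cancel (h.trans (mul_one (e : P)).symm)) fun h' => he (Subtype.ext h')

theorem bit_mul (hc : Nat.card (Subgroup.center P) = 2) {x y : P} (hx : x ∈ Subgroup.center P)
    (hy : y ∈ Subgroup.center P) : bit (x * y) = bit x + bit y := by
  classical
  obtain ⟨e, -, he1, hee, hall⟩ := center_cases hc
  rcases hall x hx with rfl | rfl <;> rcases hall y hy with rfl | rfl <;>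
    simp [bit, he1, hee] <;> decide

theorem sq_lift (hc : Nat.card (Subgroup.center P) = 2) {q r : P}
    (h : (QuotientGroup.mk q : P ⧸ Subgroup.center P) = QuotientGroup.mk r) : q ^ 2 = r ^ 2 := by
  obtain ⟨e, -, -, hee, hall⟩ := center_cases hc
  have hz : q⁻¹ * r ∈ Subgroup.center P := QuotientGroup.eq.1 h
  have hr : r = q * (q⁻¹ * r) := by group
  rw [hr, (show Commute q (q⁻¹ * r) from Subgroup.mem_center_iff.1 hz q).mul_pow]
  rcases hall _ hz with h1 | h1 <;> rw [h1] <;> simp [pow_two, hee]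

end Group

theorem mem_span {v : leechLattice} (hv : (v : GolayPt → ℤ) ∈ halfA.map dblHom) :
    ∃ u ∈ AddSubgroup.closure (Set.range fun p : GolayPt × GolayPt => U p.1 p.2),
      ∃ w : leechLattice, v = u + (w + w) := by
  set S := AddSubgroup.closure (Set.range fun p : GolayPt × GolayPt => U p.1 p.2) with hS
  have hU : ∀ a b, U a b ∈ S := fun a b => AddSubgroup.subset_closure ⟨(a, b), rfl⟩
  have hfour : ∀ (x : leechLattice) (y : GolayPt → ℤ), (2 : ℤ) ∣ ∑ i, y i →
      (∀ i, (x : GolayPt → ℤ) i = 4 * y i) → x ∈ S := by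
    intro x y hy hx
    obtain ⟨k, hk⟩ := hy
    have e : x = ∑ i, y i • (U i none - U none none) + k • U none none := by
      apply Subtype.ext; funext j
      rw [hx, AddSubgroup.coe_add, Pi.add_apply, AddSubgroup.val_finsetSum, Finset.sum_apply,
        AddSubgroup.coe_zsmul, Pi.smul_apply, U_apply]
      simp only [AddSubgroup.coe_zsmul, AddSubgroup.coe_sub, Pi.smul_apply, Pi.sub_apply, U_apply,
        smul_eq_mul, mul_sub, mul_add, sum_sub_distrib, sum_add_distrib, ← Finset.sum_mul, mul_ite,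
        mul_zero, sum_ite_eq, mem_univ, if_true, zero_mul, add_zero, zero_add, sub_zero]
      split_ifs
      all_goals simp [← Finset.sum_mul, hk, -Fintype.sum_option]
      all_goals ring
    rw [e]
    exact add_mem (sum_mem fun i _ => zsmul_mem (sub_mem (hU _ _) (hU _ _)) _)
      (zsmul_mem (hU _ _) _)
  obtain ⟨z, ⟨hz1, hz2⟩, hzv⟩ := hv
  have hvi : ∀ i, (v : GolayPt → ℤ) i = 2 * z i := fun i => (congrFun hzv i).symm
  have hsum : (4 : ℤ) ∣ ∑ i, z i := (ZMod.intCast_zmod_eq_zero_iff_dvd _ 4).1 hz2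
  rcases par_cases hz1 with h | h
  · choose y hy using h
    refine ⟨v, hfour v y ?_ (fun i => by rw [hvi, hy]; ring), 0, by simp⟩
    simp only [hy, ← Finset.mul_sum] at hsum
    omega
  · let o : leechLattice := ⟨oddVec, oddVec_mem.1⟩
    have ho : ∀ i, (2 : ℤ) ∣ z i - oddVec i := fun i => by
      have := h i
      have : oddVec i = -3 ∨ oddVec i = 1 := by unfold oddVec; split_ifs <;> simp
      omega
    choose y hy using ho
    refine ⟨v - (o + o), hfour _ y ?_ (fun i => ?_), o, by abel⟩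
    · have h20 : ∑ i, oddVec i = 20 := by decide +kernel
      have := Finset.sum_sub_distrib z oddVec (s := Finset.univ)
      simp only [hy, ← Finset.mul_sum, h20] at this
      omega
    · show ((v - (o + o) : leechLattice) : GolayPt → ℤ) i = 4 * y i
      rw [AddSubgroup.coe_sub, AddSubgroup.coe_add, Pi.sub_apply, Pi.add_apply, hvi]
      have := hy i
      show 2 * z i - (oddVec i + oddVec i) = 4 * y i
      omega

theorem A_index : (halfA.map dblHom).relIndex leechLattice = 2 ^ 12 := by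
  have hle : halfA.map dblHom ≤ leechLattice := by
    refine le_trans (AddSubgroup.map_mono ?_) (le_trans (map_dbl_halves).le inf_le_left)
    refine inf_le_inf_right _ (AddSubgroup.comap_mono ?_)
    rw [AddSubgroup.zmultiples_le]
    exact one_mem_code
  have h : (halfA.map dblHom).relIndex leechLattice * leechLattice.index =
      (halfA.map dblHom).index := AddSubgroup.relIndex_mul_index hle
  rw [leech_index, AddSubgroup.index_map_of_injective _ dblHom_injective, halfA_index,
    dbl_range_index] at h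
  exact Nat.eq_of_mul_eq_mul_right (by norm_num : 0 < 2 ^ 36) (h.trans (by norm_num))

theorem double_mem (w : leechLattice) : ((w + w : leechLattice) : GolayPt → ℤ) ∈ halfA.map dblHom := by
  obtain ⟨m, c, y, hm, hc, hx, hs⟩ := mem_lattice_iff.1 w.2
  refine ⟨w, ⟨?_, ?_⟩, funext fun i => by simp [dblHom, two_mul]⟩
  · show redHom (w : GolayPt → ℤ) ∈ AddSubgroup.zmultiples (1 : GolayPt → ZMod 2)
    have hr : redHom (w : GolayPt → ℤ) = m • (1 : GolayPt → ZMod 2) := by
      funext i
      have h2 : (2 : ZMod 2) = 0 := rfl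
      have h4 : (4 : ZMod 2) = 0 := rfl
      simp [redHom, hx i, h2, h4, zsmul_eq_mul]
    rw [hr]; exact zsmul_mem (AddSubgroup.mem_zmultiples _) m
  · show ((∑ i, (w : GolayPt → ℤ) i : ℤ) : ZMod 4) = 0
    rw [ZMod.intCast_zmod_eq_zero_iff_dvd]
    push_cast
    omega

theorem result {G : Type*} [Group G] [Finite G] (z : G) (Q : Subgroup (Subgroup.centralizer ({z} : Set G))) [Q.Normal] (hM : Cfsg.IsOfMonsterType z Q) : ∃ E : Subgroup Q, Cfsg.IsElementaryAbelian 2 E ∧ Nat.card E = 2 ^ 13 := by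
  obtain ⟨⟨-, -, ⟨-, hc⟩, hQ, -⟩, e, ψ, hadd, hsurj, hker, heq⟩ := hM
  let φ : leechLattice →+ Additive (Q ⧸ Subgroup.center Q) :=
    AddMonoidHom.mk' (fun v => Additive.ofMul (ψ v)) fun v w => congrArg Additive.ofMul (hadd v w)
  have hcomm : ∀ x y : Q ⧸ Subgroup.center Q, x * y = y * x := by
    intro x y
    obtain ⟨v, rfl⟩ := hsurj x
    obtain ⟨w, rfl⟩ := hsurj y
    rw [← hadd, ← hadd, add_comm]
  have hcm : ∀ q r : Q, ⁅r, q⁆ ∈ Subgroup.center Q := fun q r => by
    rw [← QuotientGroup.eq_one_iff]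
    show (QuotientGroup.mk' (Subgroup.center Q)) ⁅r, q⁆ = 1
    rw [map_commutatorElement, commutatorElement_eq_one_iff_commute]
    exact hcomm _ _
  have hdd : ∀ v, ψ (v + v) = 1 := fun v => (hker _).2 ⟨v, rfl⟩
  have hsqc : ∀ q : Q, q ^ 2 ∈ Subgroup.center Q := fun q => by
    obtain ⟨v, hv⟩ := hsurj (QuotientGroup.mk q)
    rw [← QuotientGroup.eq_one_iff, QuotientGroup.mk_pow, pow_two, ← hv, ← hadd, hdd]
  let f : leechLattice → ZMod 2 := fun v => bit ((ψ v).out ^ 2)
  have hf : ∀ v (q : Q), ψ v = QuotientGroup.mk q → f v = bit (q ^ 2) := fun v q h => by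
    show bit ((ψ v).out ^ 2) = _
    rw [sq_lift hc (q := (ψ v).out) (r := q) ((QuotientGroup.out_eq' _).trans h)]
  have hpol : ∀ v w (q r : Q), ψ v = QuotientGroup.mk q → ψ w = QuotientGroup.mk r →
      pol f v w = bit ⁅r, q⁆ := by
    intro v w q r hq hr
    have hvw : ψ (v + w) = QuotientGroup.mk (q * r) := by rw [hadd, hq, hr]; rfl
    have hid : (q * r) ^ 2 = q ^ 2 * r ^ 2 * ⁅r, q⁆ := by
      have h1 : (q * r) ^ 2 = q * ⁅r, q⁆ * q * r * r := by
        simp only [commutatorElement_def, pow_two]; group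
      have h2 := Subgroup.mem_center_iff.1 (hcm q r)
      rw [h1, h2 q, mul_assoc ⁅r, q⁆ q q, mul_assoc (⁅r, q⁆ * (q * q)) r r,
        mul_assoc ⁅r, q⁆ (q * q) (r * r), ← h2, ← pow_two, ← pow_two]
    rw [pol, hf _ _ hvw, hf _ _ hq, hf _ _ hr, hid,
      bit_mul hc (mul_mem (hsqc q) (hsqc r)) (hcm q r), bit_mul hc (hsqc q) (hsqc r)]
    have : ∀ a b c : ZMod 2, a + b + c + a + b = c := by decide
    exact this _ _ _
  have hinvf : InvForm f := by
    refine ⟨fun u v w => ?_, fun v => ?_, fun g v => ?_⟩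
    · obtain ⟨q1, h1⟩ := QuotientGroup.mk_surjective (ψ u)
      obtain ⟨q2, h2⟩ := QuotientGroup.mk_surjective (ψ v)
      obtain ⟨r, h3⟩ := QuotientGroup.mk_surjective (ψ w)
      have h12 : ψ (u + v) = QuotientGroup.mk (q1 * q2) := by rw [hadd, ← h1, ← h2]; rfl
      rw [hpol _ _ _ _ h12 h3.symm, hpol _ _ _ _ h1.symm h3.symm, hpol _ _ _ _ h2.symm h3.symm,
        ← bit_mul hc (hcm _ _) (hcm _ _)]
      congr 1
      have hzc : ⁅r, q2⁆ = q1 * ⁅r, q2⁆ * q1⁻¹ := by
        rw [Subgroup.mem_center_iff.1 (hcm q2 r) q1, mul_inv_cancel_right]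
      rw [hzc]
      simp only [commutatorElement_def]
      group
    · rw [hf _ 1 (by rw [hdd]; rfl)]
      simp [bit_eq_zero]
    · obtain ⟨h, hh⟩ := QuotientGroup.mk_surjective (e.symm (QuotientGroup.mk g))
      obtain ⟨q, hq⟩ := QuotientGroup.mk_surjective (ψ v)
      have hgh : (QuotientGroup.mk g : Spor.Co1) = e (QuotientGroup.mk h) := by
        rw [hh, MulEquiv.apply_symm_apply]
      rw [hf _ _ (heq h g hgh v q hq.symm), hf _ q hq.symm]
      obtain ⟨ε, -, hεne, -, hall⟩ := center_cases hc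
      let c : Q →* Q := (MulAut.conjNormal h).toMonoidHom
      have hc' : (⟨h * q * h⁻¹, (inferInstance : Q.Normal).conj_mem (q : Subgroup.centralizer ({z} : Set G)) q.2 h⟩ : Q) = c q :=
        Subtype.ext (MulAut.conjNormal_apply h q).symm
      rw [hc', ← map_pow]
      rcases hall _ (hsqc q) with h1 | h1
      · rw [h1, map_one]
      · rw [h1]
        have hne : c ε ≠ 1 := fun hcc =>
          hεne ((MulAut.conjNormal h).injective (hcc.trans (map_one c).symm))
        classical
        simp [bit, hne, hεne]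
  let A := (halfA.map dblHom).addSubgroupOf leechLattice
  have hkerA : φ.ker ≤ A := by
    intro v hv
    obtain ⟨w, rfl⟩ := (hker v).1 (congrArg Additive.toMul hv)
    exact double_mem w
  have hφs : Function.Surjective φ := fun x => by
    obtain ⟨v, hv⟩ := hsurj (Additive.toMul x)
    exact ⟨v, congrArg Additive.ofMul hv⟩
  have hidx : (A.map φ).index = 2 ^ 12 :=
    (AddSubgroup.index_map_eq _ hφs hkerA).trans A_index
  let E : Subgroup Q :=
    (AddSubgroup.toSubgroup' (A.map φ)).comap (QuotientGroup.mk' (Subgroup.center Q))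
  have hEidx : E.index = 2 ^ 12 := by
    rw [Subgroup.index_comap_of_surjective _ (QuotientGroup.mk'_surjective _)]
    exact hidx
  have hsq : ∀ q ∈ E, q ^ 2 = 1 := by
    intro q hq
    obtain ⟨v, hv, hvq⟩ := hq
    have hvq' : ψ v = QuotientGroup.mk q := congrArg Additive.toMul hvq
    obtain ⟨u, hu, w, rfl⟩ := mem_span hv
    rw [← bit_eq_zero, ← hf _ _ hvq']
    exact hinvf.f_eq_zero hu w
  refine ⟨E, ⟨⟨⟨fun a b => ?_⟩⟩, hsq⟩, ?_⟩
  · apply Subtype.ext
    have ha := hsq a a.2
    have hb := hsq b b.2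
    have hab := hsq (a * b : E) (a * b : E).2
    simp only [Subgroup.coe_mul, pow_two] at ha hb hab ⊢
    calc (a : Q) * b = ((a : Q) * b)⁻¹ := eq_inv_of_mul_eq_one_left hab
      _ = (b : Q)⁻¹ * (a : Q)⁻¹ := mul_inv_rev _ _
      _ = b * a := by rw [inv_eq_of_mul_eq_one_right ha, inv_eq_of_mul_eq_one_right hb]
  · have h := E.card_mul_index
    rw [hEidx, hQ] at h
    exact Nat.eq_of_mul_eq_mul_right (by norm_num : 0 < 2 ^ 12) (h.trans (by norm_num))

end Cfsg.Agent.S5408
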