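import Cfsg.Statements.S5410
import Cfsg.Agent.Lib.LargeExtra.MonsterPair

set_option autoImplicit false
open Cfsg

namespace Cfsg.Agent.S5410

/-- Let G be a finite group of Monster type at the involution z with Q the extraspecial normal subgroup of order 2^25 of C = C_G(z) (so C/Q is identified with the first Conway group with Q modulo its centre the Leech lattice modulo 2, and z is not weakly closed in Q). Let g in G with s = g z g⁻¹ a member of Q other than z, let X be the image in C/Q of the centralizer of s in C, and let E be the image in C/Q of the intersection of g Q g⁻¹ with C. Then E is a normal subgroup of X, elementary abelian of order 2^11, and it has a complement in X isomorphic to the Mathieu group of degree 24 (the automorphism group of the length-24 binary Golay code). -/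
theorem result {G : Type*} [Group G] [Finite G] (z : G) (Q : Subgroup (Subgroup.centralizer ({z} : Set G))) [Q.Normal] (hM : Cfsg.IsOfMonsterType z Q) (s : G) (hsQ : ∃ hsc : s ∈ Subgroup.centralizer ({z} : Set G), (⟨s, hsc⟩ : Subgroup.centralizer ({z} : Set G)) ∈ Q) (hs : IsConj z s) (hs1 : s ≠ z) (g : G) (hg : g * z * g⁻¹ = s) (X E : Subgroup ((Subgroup.centralizer ({z} : Set G)) ⧸ Q)) (hX : X = ((Subgroup.centralizer ({z} : Set G) ⊓ Subgroup.centralizer ({s} : Set G)).subgroupOf (Subgroup.centralizer ({z} : Set G))).map (QuotientGroup.mk' Q)) (hE : E = (((Q.map (Subgroup.centralizer ({z} : Set G)).subtype).map (MulAut.conj g).toMonoidHom ⊓ Subgroup.centralizer ({z} : Set G)).subgroupOf (Subgroup.centralizer ({z} : Set G))).map (QuotientGroup.mk' Q)) : E ≤ X ∧ (∀ x ∈ X, ∀ y ∈ E, x * y * x⁻¹ ∈ E) ∧ Cfsg.IsElementaryAbelian 2 E ∧ Nat.card E = 2 ^ 11 ∧ ∃ K : Subgroup ((Subgroup.centralizer ({z} : Set G)) ⧸ Q), K ≤ X ∧ E ⊓ K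 = ⊥ ∧ E ⊔ K = X ∧ Nonempty (K ≃* Cfsg.M24) := by
  obtain ⟨hS, e, ψ, hψ⟩ := hM
  subst hg
  have hgQ := Cfsg.Agent.MonsterOrbits.mem_bigQ.2 hsQ
  obtain ⟨-, hcard, e', hXe, hEe⟩ := Cfsg.Agent.MonsterPair.standard hS hψ hgQ hs1
  subst hX
  subst hE
  have hsq := Cfsg.Agent.MonsterPair.imgQ_sq hS hgQ hs1
  refine ⟨Cfsg.Agent.MonsterPair.imgQ_le hS hgQ hs1, Cfsg.Agent.MonsterPair.imgQ_conj hS hgQ hs1,
    ⟨⟨⟨fun a b => Subtype.ext ?_⟩⟩, fun a ha => (pow_two a).trans (hsq a ha)⟩, hcard, ?_⟩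
  · rw [Subgroup.coe_mul, Subgroup.coe_mul]
    have hi : ∀ c ∈ Cfsg.Agent.MonsterPair.imgQ Q g, c⁻¹ = c := fun c hc => inv_eq_of_mul_eq_one_left (hsq c hc)
    have hab := hi _ (mul_mem a.2 b.2)
    rw [mul_inv_rev, hi _ a.2, hi _ b.2] at hab
    exact hab.symm
  let φ : Cfsg.M24 →* Cfsg.Spor.Co1 := Cfsg.Agent.MonsterPair.toCo1.comp Cfsg.Agent.LeechAut.Co1.permHom
  have hφ : Function.Injective φ := by
    rw [injective_iff_map_eq_one]
    intro σ hσ
    exact Cfsg.Agent.MonsterPair.eq_one_of_mem_signSub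
      (Cfsg.Agent.MonsterPair.center_le_signSub ((QuotientGroup.eq_one_iff _).1
        (show Cfsg.Agent.MonsterPair.toCo1 (Cfsg.Agent.LeechAut.Co1.permHom σ) = 1 from hσ)))
  let χ : Cfsg.M24 →* (Subgroup.centralizer ({z} : Set G)) ⧸ Q := e'.symm.toMonoidHom.comp φ
  have hχ : Function.Injective χ := e'.symm.injective.comp hφ
  refine ⟨χ.range, ?_, ?_, ?_, ⟨(MonoidHom.ofInjective hχ).symm⟩⟩
  · rintro _ ⟨σ, rfl⟩
    obtain ⟨y, hy, hye⟩ : φ σ ∈ _ := hXe ▸ Subgroup.mem_map_of_mem _ (Cfsg.Agent.LeechAut.Co1.permHom_mem σ)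
    rw [show χ σ = e'.symm (φ σ) from rfl, ← hye]
    exact (e'.symm_apply_apply y).symm ▸ hy
  · rw [eq_bot_iff]
    rintro a ⟨ha, σ, rfl⟩
    obtain ⟨k, hk, hke⟩ : φ σ ∈ _ := hEe ▸ Subgroup.mem_map.2 ⟨χ σ, ha, e'.apply_symm_apply (φ σ)⟩
    have hc : k⁻¹ * Cfsg.Agent.LeechAut.Co1.permHom σ ∈ Subgroup.center Cfsg.Co0 :=
      QuotientGroup.eq.1 hke
    have : Cfsg.Agent.LeechAut.Co1.permHom σ ∈ Cfsg.Agent.LeechAut.Co1.signSub := by
      rw [← mul_inv_cancel_left k (Cfsg.Agent.LeechAut.Co1.permHom σ)]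
      exact mul_mem hk (Cfsg.Agent.MonsterPair.center_le_signSub hc)
    rw [Subgroup.mem_bot, Cfsg.Agent.MonsterPair.eq_one_of_mem_signSub this, map_one]
  · apply le_antisymm
    · refine sup_le (Cfsg.Agent.MonsterPair.imgQ_le hS hgQ hs1) ?_
      rintro _ ⟨σ, rfl⟩
      obtain ⟨y, hy, hye⟩ : φ σ ∈ _ := hXe ▸ Subgroup.mem_map_of_mem _ (Cfsg.Agent.LeechAut.Co1.permHom_mem σ)
      rw [show χ σ = e'.symm (φ σ) from rfl, ← hye]
      exact (e'.symm_apply_apply y).symm ▸ hy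
    · intro y hy
      obtain ⟨k, hk, hke⟩ : e' y ∈ _ := hXe ▸ Subgroup.mem_map.2 ⟨y, hy, rfl⟩
      obtain ⟨c, hc, σ, rfl⟩ := Cfsg.Agent.LeechAut.Co1.exists_parts hk
      obtain ⟨b, hb, hbe⟩ : Cfsg.Agent.MonsterPair.toCo1 _ ∈ _ := hEe.symm ▸ Subgroup.mem_map_of_mem _
        (Cfsg.Agent.LeechAut.Co1.sign_mem_signSub c hc)
      have : y = b * χ σ := by
        apply e'.injective
        rw [map_mul, show e' (χ σ) = φ σ from e'.apply_symm_apply _, show e' b = _ from hbe]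
        rw [← hke, map_mul]
        rfl
      rw [this]
      exact mul_mem (Subgroup.mem_sup_left hb) (Subgroup.mem_sup_right ⟨σ, rfl⟩)

end Cfsg.Agent.S5410
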