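import Cfsg.Statements.S5411
import Cfsg.Agent.Lib.LargeExtra.MonsterOrbits

set_option autoImplicit false
open Cfsg

namespace Cfsg.Agent.S5411

/-- Let G be a finite group of Monster type at the involution z with Q the extraspecial normal subgroup of order 2^25 of C = C_G(z) (so C/Q is identified with the first Conway group with Q modulo its centre the Leech lattice modulo 2, and z is not weakly closed in Q). Then C acts transitively by conjugation on the involutions of Q that are not conjugate to z in G. -/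
theorem result {G : Type*} [Group G] [Finite G] (z : G) (Q : Subgroup (Subgroup.centralizer ({z} : Set G))) [Q.Normal] (hM : Cfsg.IsOfMonsterType z Q) (s t : G) (hsQ : ∃ hsc : s ∈ Subgroup.centralizer ({z} : Set G), (⟨s, hsc⟩ : Subgroup.centralizer ({z} : Set G)) ∈ Q) (htQ : ∃ htc : t ∈ Subgroup.centralizer ({z} : Set G), (⟨t, htc⟩ : Subgroup.centralizer ({z} : Set G)) ∈ Q) (hs2 : orderOf s = 2) (ht2 : orderOf t = 2) (hs : ¬ IsConj z s) (ht : ¬ IsConj z t) : ∃ h ∈ Subgroup.centralizer ({z} : Set G), h * s * h⁻¹ = t := by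
  obtain ⟨hS, e, ψ, hψ⟩ := hM
  obtain ⟨hsC, hsQ⟩ := hsQ
  obtain ⟨htC, htQ⟩ := htQ
  obtain ⟨g, ⟨hgC, hgQ⟩, hgne⟩ := hS.2.2.2.2
  set x : Q := ⟨⟨s, hsC⟩, hsQ⟩ with hx
  set y : Q := ⟨⟨t, htC⟩, htQ⟩ with hy
  set w : Q := ⟨⟨g * z * g⁻¹, hgC⟩, hgQ⟩ with hw
  have hz : IsConj z z := IsConj.refl z
  have hgw : IsConj z (g * z * g⁻¹) := isConj_iff.2 ⟨g, rfl⟩
  have hnc : ∀ {u : G} (hu : u ∈ Subgroup.centralizer ({z} : Set G)) (huQ : (⟨u, hu⟩ : Subgroup.centralizer ({z} : Set G)) ∈ Q),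
      u ≠ 1 → u ≠ z → (⟨⟨u, hu⟩, huQ⟩ : Q) ∉ Subgroup.center Q := by
    intro u hu huQ h1 h2 hc
    rcases (Cfsg.Agent.MonsterOrbits.mem_center_iff' hS).1 hc with h | h
    exacts [h1 h, h2 h]
  have hs1 : s ≠ 1 := fun h => by rw [h, orderOf_one] at hs2; omega
  have ht1 : t ≠ 1 := fun h => by rw [h, orderOf_one] at ht2; omega
  have hw1 : g * z * g⁻¹ ≠ 1 := fun h => by
    have h1 : z = 1 := by rw [mul_inv_eq_one, mul_eq_left] at h; exact h
    have := hS.1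
    rw [h1, orderOf_one] at this
    omega
  obtain ⟨N₁, hN₁, tx⟩ : ∃ N, (N = 32 ∨ N = 48 ∨ N = 64) ∧ Cfsg.Agent.MonsterOrbits.Ty ψ x N := by
    rcases Cfsg.Agent.MonsterOrbits.exists_ty hψ (hnc hsC hsQ hs1 (fun h => hs (h ▸ hz))) with h | h | h
    exacts [⟨_, Or.inl rfl, h⟩, ⟨_, Or.inr (Or.inl rfl), h⟩, ⟨_, Or.inr (Or.inr rfl), h⟩]
  obtain ⟨N₂, hN₂, ty⟩ : ∃ N, (N = 32 ∨ N = 48 ∨ N = 64) ∧ Cfsg.Agent.MonsterOrbits.Ty ψ y N := by
    rcases Cfsg.Agent.MonsterOrbits.exists_ty hψ (hnc htC htQ ht1 (fun h => ht (h ▸ hz))) with h | h | h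
    exacts [⟨_, Or.inl rfl, h⟩, ⟨_, Or.inr (Or.inl rfl), h⟩, ⟨_, Or.inr (Or.inr rfl), h⟩]
  obtain ⟨N₀, hN₀, tw⟩ : ∃ N, (N = 32 ∨ N = 48 ∨ N = 64) ∧ Cfsg.Agent.MonsterOrbits.Ty ψ w N := by
    rcases Cfsg.Agent.MonsterOrbits.exists_ty hψ (hnc hgC hgQ hw1 hgne) with h | h | h
    exacts [⟨_, Or.inl rfl, h⟩, ⟨_, Or.inr (Or.inl rfl), h⟩, ⟨_, Or.inr (Or.inr rfl), h⟩]
  by_cases h12 : N₁ = N₂
  · subst h12
    exact Cfsg.Agent.MonsterOrbits.conj_of_ty hS hψ hN₁ tx ty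
  exfalso
  have h10 : N₁ ≠ N₀ := by
    rintro rfl
    obtain ⟨h, -, e'⟩ := Cfsg.Agent.MonsterOrbits.conj_of_ty hS hψ hN₁ tw tx
    exact hs (hgw.trans (isConj_iff.2 ⟨h, e'⟩))
  have h20 : N₂ ≠ N₀ := by
    rintro rfl
    obtain ⟨h, -, e'⟩ := Cfsg.Agent.MonsterOrbits.conj_of_ty hS hψ hN₂ tw ty
    exact ht (hgw.trans (isConj_iff.2 ⟨h, e'⟩))
  have hzz : z * z = 1 := by rw [← pow_two, ← hS.1, pow_orderOf_eq_one]
  have hall : ∀ u : Q, u * u = 1 := by
    intro u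
    have key : ∀ (v : Q) (h : G), h * ((v : Subgroup.centralizer ({z} : Set G)) : G) * h⁻¹ =
        ((u : Subgroup.centralizer ({z} : Set G)) : G) →
        ((v : Subgroup.centralizer ({z} : Set G)) : G) * ((v : Subgroup.centralizer ({z} : Set G)) : G) = 1 → u * u = 1 := by
      intro v h he hv
      refine Subtype.ext (Subtype.ext ?_)
      change ((u : Subgroup.centralizer ({z} : Set G)) : G) * ((u : Subgroup.centralizer ({z} : Set G)) : G) = 1
      rw [← he]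
      calc h * ((v : Subgroup.centralizer ({z} : Set G)) : G) * h⁻¹ * (h * ((v : Subgroup.centralizer ({z} : Set G)) : G) * h⁻¹)
          = h * (((v : Subgroup.centralizer ({z} : Set G)) : G) * ((v : Subgroup.centralizer ({z} : Set G)) : G)) * h⁻¹ := by group
        _ = 1 := by rw [hv, mul_one, mul_inv_cancel]
    by_cases huc : u ∈ Subgroup.center Q
    · refine Subtype.ext (Subtype.ext ?_)
      change ((u : Subgroup.centralizer ({z} : Set G)) : G) * ((u : Subgroup.centralizer ({z} : Set G)) : G) = 1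
      rcases (Cfsg.Agent.MonsterOrbits.mem_center_iff' hS).1 huc with h | h <;> rw [h]
      exacts [one_mul 1, hzz]
    obtain ⟨N, hN, tu⟩ : ∃ N, (N = 32 ∨ N = 48 ∨ N = 64) ∧ Cfsg.Agent.MonsterOrbits.Ty ψ u N := by
      rcases Cfsg.Agent.MonsterOrbits.exists_ty hψ huc with h | h | h
      exacts [⟨_, Or.inl rfl, h⟩, ⟨_, Or.inr (Or.inl rfl), h⟩, ⟨_, Or.inr (Or.inr rfl), h⟩]
    have : N = N₁ ∨ N = N₂ ∨ N = N₀ := by omega
    rcases this with rfl | rfl | rfl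
    · obtain ⟨h, -, e'⟩ := Cfsg.Agent.MonsterOrbits.conj_of_ty hS hψ hN tx tu
      exact key x h e' (by change s * s = 1; rw [← pow_two, ← hs2, pow_orderOf_eq_one])
    · obtain ⟨h, -, e'⟩ := Cfsg.Agent.MonsterOrbits.conj_of_ty hS hψ hN ty tu
      exact key y h e' (by change t * t = 1; rw [← pow_two, ← ht2, pow_orderOf_eq_one])
    · obtain ⟨h, -, e'⟩ := Cfsg.Agent.MonsterOrbits.conj_of_ty hS hψ hN tw tu
      refine key w h e' ?_
      change g * z * g⁻¹ * (g * z * g⁻¹) = 1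
      calc g * z * g⁻¹ * (g * z * g⁻¹) = g * (z * z) * g⁻¹ := by group
        _ = 1 := by rw [hzz, mul_one, mul_inv_cancel]
  have hinv : ∀ u : Q, u⁻¹ = u := fun u => inv_eq_of_mul_eq_one_left (hall u)
  have hcen : Subgroup.center Q = ⊤ := by
    refine eq_top_iff.2 fun u _ => Subgroup.mem_center_iff.2 fun v => ?_
    calc v * u = (v * u)⁻¹ := (hinv _).symm
      _ = u * v := by rw [mul_inv_rev, hinv, hinv]
  have h2 := hS.2.2.1.2
  rw [hcen, Subgroup.card_top, hS.2.2.2.1] at h2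
  norm_num at h2

end Cfsg.Agent.S5411
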