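import Cfsg.Statements.S5414
import Cfsg.Agent.Lib.LargeExtra.MonsterSpread.ThreeCent
-- import your own Cfsg.Agent.* helpers here

set_option autoImplicit false
open Cfsg

namespace Cfsg.Agent.S5414

/-- Let G be a finite group of Monster type at the involution z with Q the extraspecial normal subgroup of order 2^25 of C = C_G(z) (so C/Q is identified with the first Conway group with Q modulo its centre the Leech lattice modulo 2, and z is not weakly closed in Q). Let s be a conjugate of z in Q other than z and let Y be a subgroup of order 3 of the joint centralizer L of z and s that is not 3-central in L (Y lies in the centre of no Sylow 3-subgroup of L). Then the centralizer of Y modulo Y is a group of Thompson type (an involution whose centralizer D has generalized Fitting subgroup R extraspecial of order 2^9 with D/R the alternating group of degree 9, the involution not weakly closed in R). -/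
theorem result {G : Type*} [Group G] [Finite G] (z : G) (Q : Subgroup (Subgroup.centralizer ({z} : Set G))) [Q.Normal] (hM : Cfsg.IsOfMonsterType z Q) (s : G) (hsQ : ∃ hsc : s ∈ Subgroup.centralizer ({z} : Set G), (⟨s, hsc⟩ : Subgroup.centralizer ({z} : Set G)) ∈ Q) (hs : IsConj z s) (hs1 : s ≠ z) (Y : Subgroup G) (hY : Y ≤ Subgroup.centralizer ({z, s} : Set G)) (hY3 : Nat.card Y = 3) (hnc : ∀ P : Sylow 3 ↥(Subgroup.centralizer ({z, s} : Set G)), ¬ Y.subgroupOf (Subgroup.centralizer ({z, s} : Set G)) ≤ (Subgroup.center ↥(P : Subgroup ↥(Subgroup.centralizer ({z, s} : Set G)))).map (P : Subgroup ↥(Subgroup.centralizer ({z, s} : Set G))).subtype) [hn : (Y.subgroupOf (Subgroup.centralizer (Y : Set G))).Normal] : Cfsg.IsOfThompsonType (↥(Subgroup.centralizer (Y : Set G)) ⧸ Y.subgroupOf (Subgroup.centralizer (Y : Set G))) := by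
  haveI : Fact (Nat.Prime 3) := ⟨by norm_num⟩
  haveI := Cfsg.Agent.LeechAut.Cross.finite_Co0
  obtain ⟨hS, e, ψ, hψ⟩ := hM
  have hsB : s ∈ Cfsg.Agent.MonsterOrbits.bigQ Q := Cfsg.Agent.MonsterOrbits.mem_bigQ.2 hsQ
  have hgood : ∀ b : G, b ∈ Y → orderOf b = 3 →
      Cfsg.Agent.LargeExtra.MonsterSpread.Three.D.Good z s b := by
    intro b hb hbo g hg hker φ u hu huo
    change orderOf u = 3 at huo
    have huY : Subgroup.zpowers (u : G) = Y :=
      Subgroup.eq_of_le_of_card_ge (Subgroup.zpowers_le.2 ((Subgroup.zpowers_le.2 hb) hu))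
        (by rw [hY3, Nat.card_zpowers, Subgroup.orderOf_coe, huo])
    have hnu : Cfsg.Agent.LargeExtra.MonsterSpread.NC 3 u := by
      intro P hP
      by_contra hcon
      push Not at hcon
      refine hnc P fun v hv => ?_
      rw [Subgroup.mem_subgroupOf, ← huY] at hv
      obtain ⟨i, hi⟩ := hv
      have hvi : u ^ i = v := Subtype.ext (by rw [Subgroup.coe_zpow]; exact hi)
      rw [← hvi]
      refine Subgroup.zpow_mem _ ?_ i
      exact ⟨⟨u, hP⟩, Subgroup.mem_center_iff.2 fun y => Subtype.ext (hcon y y.2), rfl⟩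
    have hnφ : Cfsg.Agent.LargeExtra.MonsterSpread.NC 3 (φ.toMonoidHom u) := by
      refine Cfsg.Agent.LargeExtra.MonsterSpread.NC.map (p := 3) (by norm_num) φ.surjective ?_ huo hnu
      rw [(MonoidHom.ker_eq_bot_iff _).2 φ.injective]
      exact IsPGroup.of_bot
    have hφo : orderOf (φ u) = 3 := by rw [MulEquiv.orderOf_eq]; exact huo
    exact Cfsg.Agent.LargeExtra.MonsterSpread.Three.hits _
      (Cfsg.Agent.LargeExtra.MonsterSpread.orderOf_map (p := 3) (by norm_num) hker hφo)
      (Cfsg.Agent.LargeExtra.MonsterSpread.NC.map (p := 3) (by norm_num) hg hker hφo hnφ)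
  obtain ⟨w, R, hR, hset, ⟨iso⟩⟩ := Cfsg.Agent.LargeExtra.MonsterSpread.Dat.setting_of_good
    Cfsg.Agent.LargeExtra.MonsterSpread.Three.ok Cfsg.Agent.LargeExtra.MonsterSpread.Three.H_le
    Cfsg.Agent.LargeExtra.MonsterSpread.Three.card_bound Cfsg.Agent.LargeExtra.MonsterSpread.Three.core_H
    Cfsg.Agent.LargeExtra.MonsterSpread.Three.pow_induced hS hψ hsB hs hs1 hY hY3 hgood (hn := hn)
  exact ⟨w, R, hR, hset, ⟨iso⟩⟩

end Cfsg.Agent.S5414
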