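import Cfsg.Statements.S5417
import Cfsg.Agent.Lib.LargeExtra.MonsterCent.SevenGraphQuot
import Cfsg.Agent.Lib.HeLocal.CzFree
import Cfsg.Agent.Lib.HeLocal.CzBridge
import Cfsg.Agent.Lib.HeLocal.Endgame

set_option autoImplicit false
open Cfsg

namespace Cfsg.Agent.S5417

open Subgroup Cfsg.Agent.MonsterOrbits

/-- The local data are those of the Held group. -/
theorem isoHe_of_data {X : Type*} [Group X] [Finite X] {z : X}
    {R : Subgroup (Subgroup.centralizer ({z} : Set X))} [R.Normal]
    (hset : Cfsg.IsExtraspecialCentralizerSetting z R 3)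
    (hiso : Nonempty ((Subgroup.centralizer ({z} : Set X)) ⧸ R ≃* Matrix.SpecialLinearGroup (Fin 3) (ZMod 2)))
    (h29 : Set.ncard {x : Subgroup.centralizer ({z} : Set X) | x ∈ R ∧ IsConj z (x : X)} = 29)
    (hgraph : HeLocal.GraphType (bigQ R) z)
    (hplus : ∃ E : Subgroup R, Cfsg.IsElementaryAbelian 2 E ∧ Nat.card E = 2 ^ 4) :
    Cfsg.Spor.IsoHe X := by
  classical
  obtain ⟨e0⟩ := hiso
  obtain ⟨hz, hF, hext, hcard, -⟩ := id hset
  have h2c : centralizer (R : Set (centralizer ({z} : Set X))) ≤ R := by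
    rw [← hF]; exact Cfsg.Agent.Components.Fitting.centralizer_genFitting_le
  obtain ⟨h⟩ := HeLocal.Cz.shape_of_hyp hz R hext (by rw [hcard]) hplus h2c e0
  -- the two subgroups agree
  have hQ : bigQ R = h.Q := by
    have := HeLocal.Cz.l3_simple
    refine eq_of_le_of_card_ge (fun x hx => ?_) (by rw [card_bigQ, hcard, h.card])
    obtain ⟨hxC, hxR⟩ := mem_bigQ.1 hx
    refine (h.π_ker ⟨x, hxC⟩).1 ?_
    rcases (inferInstance : R.Normal).map h.π h.π_surj |>.eq_bot_or_eq_top with hb | hb
    · exact mem_bot.1 (hb ▸ mem_map_of_mem h.π hxR)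
    · exfalso
      have hd := R.card_map_dvd h.π
      rw [hb, Subgroup.card_top, HeLocal.Cz.l3_card, hcard] at hd
      norm_num at hd
  have hcnt : Nat.card {u : X // u ∈ bigQ R ∧ IsConj z u} = 29 := by
    rw [← h29, ← Nat.card_coe_set_eq]
    exact Nat.card_congr
      { toFun := fun u => ⟨⟨u.1, (mem_bigQ.1 u.2.1).1⟩, (mem_bigQ.1 u.2.1).2, u.2.2⟩
        invFun := fun u => ⟨(u.1 : X), mem_bigQ.2 ⟨u.1.2, u.2.1⟩, u.2.2⟩
        left_inv := fun u => Subtype.ext rfl
        right_inv := fun u => Subtype.ext (Subtype.ext rfl) }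
  obtain ⟨C⟩ := h.exists_dec_of_count (by rw [← hQ, hcnt])
  obtain ⟨e, hez, heQ⟩ := h.exists_equiv C
  exact HeLocal.GraphHyp.isoHe
    { Q := bigQ R
      ctr := ctr_bigQ hset
      cardQ := by rw [card_bigQ, hcard]; norm_num
      e := e
      e_zc := hez
      memQ := fun m => by rw [hQ]; exact heQ m
      count := hcnt
      graph := hgraph }

/-- Let G be a finite group of Monster type at the involution z with Q the extraspecial normal subgroup of order 2^25 of C = C_G(z) (so C/Q is identified with the first Conway group with Q modulo its centre the Leech lattice modulo 2, and z is not weakly closed in Q). Let s be a conjugate of z in Q other than z and let B be a Sylow 7-subgroup of the joint centralizer of z and s. Then the centralizer of B modulo B is isomorphic to the Held group (as presented on seven involutions). -/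
theorem result {G : Type*} [Group G] [Finite G] (z : G) (Q : Subgroup (Subgroup.centralizer ({z} : Set G))) [Q.Normal] (hM : Cfsg.IsOfMonsterType z Q) (s : G) (hsQ : ∃ hsc : s ∈ Subgroup.centralizer ({z} : Set G), (⟨s, hsc⟩ : Subgroup.centralizer ({z} : Set G)) ∈ Q) (hs : IsConj z s) (hs1 : s ≠ z) (B : Subgroup G) (hB : B ≤ Subgroup.centralizer ({z, s} : Set G)) (hBp : Nat.card B = 7 ^ (Nat.card ↥(Subgroup.centralizer ({z, s} : Set G))).factorization 7) [hn : (B.subgroupOf (Subgroup.centralizer (B : Set G))).Normal] : Cfsg.Spor.IsoHe (↥(Subgroup.centralizer (B : Set G)) ⧸ B.subgroupOf (Subgroup.centralizer (B : Set G))) := by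
  obtain ⟨hS, e, ψ, hψ⟩ := hM
  have hsB : s ∈ Cfsg.Agent.MonsterOrbits.bigQ Q := Cfsg.Agent.MonsterOrbits.mem_bigQ.2 hsQ
  have hf := Cfsg.Agent.LargeExtra.MonsterCent.Seven.seven_pair hS hψ hsB hs hs1
  rw [hf, pow_one] at hBp
  obtain ⟨e', ψ', b, hψ', hL, rfl⟩ :=
    Cfsg.Agent.LargeExtra.MonsterCent.Seven.exists_lifts hS hψ hsB hs hs1 hB hBp
  have hsb : s ∈ Cfsg.Agent.LargeExtra.MonsterCent.fixQ Q b :=
    ⟨hsB, Subgroup.mem_centralizer_singleton_iff.2
      (Subgroup.mem_centralizer_iff.1 (hB (Subgroup.mem_zpowers b)) s (by simp))⟩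
  obtain ⟨zb, R, hRn, hset, hiso, h29, hgraph, hplus⟩ :=
    Cfsg.Agent.LargeExtra.MonsterCent.Seven.held_graph hS hψ' hL (hn := hn) hsb hs hs1
  exact isoHe_of_data hset hiso h29 hgraph hplus

end Cfsg.Agent.S5417
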