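import Cfsg.Statements.S5418
import Cfsg.Agent.Lib.LargeExtra.MonsterCent.SevenLayer

set_option autoImplicit false
open Cfsg

namespace Cfsg.Agent.S5418

/-- Let G be a finite group of Monster type at the involution z with Q the extraspecial normal subgroup of order 2^25 of C = C_G(z) (so C/Q is identified with the first Conway group with Q modulo its centre the Leech lattice modulo 2, and z is not weakly closed in Q). Let s be a conjugate of z in Q other than z and let B be a Sylow 7-subgroup of the joint centralizer of z and s. Then the centralizer of B has index 6 in the normalizer of B; and some involution inverting B induces, by conjugation, a non-inner automorphism of the layer of the centralizer of B. -/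
theorem result {G : Type*} [Group G] [Finite G] (z : G) (Q : Subgroup (Subgroup.centralizer ({z} : Set G))) [Q.Normal] (hM : Cfsg.IsOfMonsterType z Q) (s : G) (hsQ : ∃ hsc : s ∈ Subgroup.centralizer ({z} : Set G), (⟨s, hsc⟩ : Subgroup.centralizer ({z} : Set G)) ∈ Q) (hs : IsConj z s) (hs1 : s ≠ z) (B : Subgroup G) (hB : B ≤ Subgroup.centralizer ({z, s} : Set G)) (hBp : Nat.card B = 7 ^ (Nat.card ↥(Subgroup.centralizer ({z, s} : Set G))).factorization 7) : (Subgroup.centralizer (B : Set G)).relIndex (Subgroup.normalizer (B : Set G)) = 6 ∧ ∃ t : G, orderOf t = 2 ∧ (∀ b ∈ B, t * b * t⁻¹ = b⁻¹) ∧ (∀ x ∈ (Cfsg.layer ↥(Subgroup.centralizer (B : Set G))).map (Subgroup.centralizer (B : Set G)).subtype, t * x * t⁻¹ ∈ (Cfsg.layer ↥(Subgroup.centralizer (B : Set G))).map (Subgroup.centralizer (B : Set G)).subtype) ∧ ¬ ∃ l ∈ (Cfsg.layer ↥(Subgroup.centralizer (B : Set G))).map (Subgroup.centralizer (B : Set G)).subtype, ∀ x ∈ (Cfsg.layer ↥(Subgroup.centralizer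 (B : Set G))).map (Subgroup.centralizer (B : Set G)).subtype, t * x * t⁻¹ = l * x * l⁻¹ := by
  obtain ⟨hS, e, ψ, hψ⟩ := hM
  have hsB : s ∈ Cfsg.Agent.MonsterOrbits.bigQ Q := Cfsg.Agent.MonsterOrbits.mem_bigQ.2 hsQ
  rw [Cfsg.Agent.LargeExtra.MonsterCent.Seven.seven_pair hS hψ hsB hs hs1, pow_one] at hBp
  obtain ⟨e', ψ', b, hψ', hL, rfl⟩ :=
    Cfsg.Agent.LargeExtra.MonsterCent.Seven.exists_lifts hS hψ hsB hs hs1 hB hBp
  have hsb : s ∈ Cfsg.Agent.LargeExtra.MonsterCent.fixQ Q b :=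
    ⟨hsB, Subgroup.mem_centralizer_singleton_iff.2
      (Subgroup.mem_centralizer_iff.1 (hB (Subgroup.mem_zpowers b)) s (by simp))⟩
  refine ⟨Cfsg.Agent.LargeExtra.MonsterCent.Seven.relIndex_six hS hψ' hL, ?_⟩
  obtain ⟨t, -, ht2, htb⟩ := Cfsg.Agent.LargeExtra.MonsterCent.Seven.exists_inverter hS hψ' hL
  have htn : ∀ x, x ∈ Subgroup.centralizer ((Subgroup.zpowers b : Subgroup G) : Set G) →
      t * x * t⁻¹ ∈ Subgroup.centralizer ((Subgroup.zpowers b : Subgroup G) : Set G) := by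
    intro x hx
    rw [Cfsg.Agent.LargeExtra.MonsterCent.mem_centB] at hx ⊢
    have hbt : t * b⁻¹ * t⁻¹ = b := by
      rw [show t * b⁻¹ * t⁻¹ = (t * b * t⁻¹)⁻¹ by group, htb, inv_inv]
    calc t * x * t⁻¹ * b = t * x * t⁻¹ * (t * b⁻¹ * t⁻¹) := by rw [hbt]
      _ = t * (x * b⁻¹) * t⁻¹ := by group
      _ = t * (b⁻¹ * x) * t⁻¹ := by rw [(show Commute x b from hx).inv_right.eq]
      _ = t * b⁻¹ * t⁻¹ * (t * x * t⁻¹) := by group
      _ = b * (t * x * t⁻¹) := by rw [hbt]
  set C := Subgroup.centralizer ((Subgroup.zpowers b : Subgroup G) : Set G)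
  have hmap : C.map (MulAut.conj t).toMonoidHom = C := by
    refine Subgroup.eq_of_le_of_card_ge ?_ (Subgroup.card_map_of_injective (MulAut.conj t).injective).ge
    rintro _ ⟨x, hx, rfl⟩
    exact htn x hx
  let φ : C ≃* C := ((MulAut.conj t).subgroupMap C).trans (MulEquiv.subgroupCongr hmap)
  refine ⟨t, ht2, ?_, ?_, ?_⟩
  · rintro _ ⟨i, rfl⟩
    show t * b ^ i * t⁻¹ = (b ^ i)⁻¹
    rw [← conj_zpow, htb, inv_zpow]
  · rintro _ ⟨x, hx, rfl⟩
    have h := (Subgroup.characteristic_iff_map_eq.1 (inferInstance : (Cfsg.layer ↥C).Characteristic)) φ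
    exact ⟨φ x, h ▸ Subgroup.mem_map_of_mem φ.toMonoidHom hx, rfl⟩
  · rintro ⟨l, hl, hlt⟩
    refine Cfsg.Agent.LargeExtra.MonsterCent.Seven.not_centralise hS hψ' hL hsb hs hs1 (u := l⁻¹ * t) ?_
      fun x hx => ?_
    · obtain ⟨l', -, rfl⟩ := hl
      have hlb : Commute (l' : G) b := Cfsg.Agent.LargeExtra.MonsterCent.mem_centB.1 l'.2
      calc ((l' : G))⁻¹ * t * b * ((l' : G)⁻¹ * t)⁻¹ = (l' : G)⁻¹ * (t * b * t⁻¹) * l' := by group
        _ = b⁻¹ := by rw [htb, hlb.inv_left.inv_right.eq, inv_mul_cancel_right]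
    · calc l⁻¹ * t * x * (l⁻¹ * t)⁻¹ = l⁻¹ * (t * x * t⁻¹) * l := by group
        _ = x := by rw [hlt x hx]; group

end Cfsg.Agent.S5418
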