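import Cfsg.Statements.S5422
import Cfsg.Agent.Lib.LargeExtra.Setting
import Cfsg.Agent.Lib.LargeExtra.Quotient

set_option autoImplicit false
open Cfsg

namespace Cfsg.Agent.S5422

open Subgroup

/-- Let Q be an extraspecial 2-subgroup of the finite group G whose centralizer in G is its centre Z and which is normal in the centralizer of Z; suppose Q has width at least 2 (order 2^(2w+1) with w ≥ 2) and g is an element of G not normalizing Z with g Z g⁻¹ inside Q. Then Z lies inside g Q g⁻¹; writing V for the subgroup generated by Z and g Z g⁻¹ (a four-group), the normalizer of V induces on V its full automorphism group, that is, the centralizer of V has index 6 in the normalizer of V; and Q is a large extraspecial 2-subgroup of G. -/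
theorem result {G : Type*} [Group G] [Finite G] (Q : Subgroup G) (hL1 : Cfsg.IsExtraspecial 2 ↥Q) (hL2 : Subgroup.centralizer (Q : Set G) = ((Subgroup.center ↥Q).map Q.subtype)) (hL3 : Subgroup.centralizer (((Subgroup.center ↥Q).map Q.subtype) : Set G) ≤ Subgroup.normalizer (Q : Set G)) (w : ℕ) (hw : 2 ≤ w) (hcard : Nat.card ↥Q = 2 ^ (2 * w + 1)) (g : G) (hg : g ∉ Subgroup.normalizer (((Subgroup.center ↥Q).map Q.subtype) : Set G)) (hZg : (((Subgroup.center ↥Q).map Q.subtype)).map (MulAut.conj g).toMonoidHom ≤ Q) : ((Subgroup.center ↥Q).map Q.subtype) ≤ (Q).map (MulAut.conj g).toMonoidHom ∧ (Subgroup.centralizer ((((Subgroup.center ↥Q).map Q.subtype) ⊔ (((Subgroup.center ↥Q).map Q.subtype)).map (MulAut.conj g).toMonoidHom : Subgroup G) : Set G)).relIndex (Subgroup.normalizer ((((Subgroup.center ↥Q).map Q.subtype) ⊔ (((Subgroup.center ↥Q).map Q.subtype)).map (MulAut.conj g).toMonoidHom : Subgroup G) : Set G)) = 6 ∧ Cfsg.IsLargeExtraspecial Q := by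
  haveI : Fact (Nat.Prime 2) := ⟨Nat.prime_two⟩
  set Z := (Subgroup.center ↥Q).map Q.subtype with hZdef
  have hZ2 : Nat.card ↥Z = 2 := by
    rw [hZdef, Subgroup.card_map_of_injective Q.subtype_injective, hL1.2]
  obtain ⟨⟨z, hzZ⟩, hz1, huniq⟩ := (Nat.card_eq_two_iff' (1 : ↥Z)).1 hZ2
  have hz2 : orderOf z = 2 := by
    refine orderOf_eq_prime ?_ (fun e => hz1 (Subtype.ext e))
    have := pow_card_eq_one' (x := (⟨z, hzZ⟩ : ↥Z))
    rw [hZ2] at this
    exact congrArg Subtype.val this
  have hZz : Z = Subgroup.zpowers z := (Subgroup.eq_of_le_of_card_ge (Subgroup.zpowers_le.2 hzZ)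
    (by rw [Nat.card_zpowers, hz2, hZ2])).symm
  have h : LargeExtra.Ctr Q z := by
    refine ⟨hL1, hz2, hZz, hL2.trans hZz, ?_⟩
    intro x hx
    apply hL3
    rw [Subgroup.mem_centralizer_singleton_iff] at hx
    rw [Subgroup.mem_centralizer_iff]
    intro u hu
    rw [SetLike.mem_coe, hZz] at hu
    obtain ⟨k, rfl⟩ := Subgroup.mem_zpowers_iff.1 hu
    exact ((Commute.symm hx).zpow_left k).eq
  have hgz : g * z * g⁻¹ ≠ z := by
    intro e
    apply hg
    rw [Subgroup.mem_normalizer_iff_map_conj_eq, hZz, MonoidHom.map_zpowers]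
    exact congrArg Subgroup.zpowers e
  have hgQ : g * z * g⁻¹ ∈ Q := hZg ⟨z, hzZ, rfl⟩
  have h32 : 32 ≤ Nat.card ↥Q := by
    rw [hcard]
    calc 32 = 2 ^ 5 := by norm_num
      _ ≤ 2 ^ (2 * w + 1) := Nat.pow_le_pow_right (by norm_num) (by omega)
  have P := LargeExtra.Pair.mk' h hgQ hgz
  have hzQ' := P.z_mem' h32
  have P2 := P.two h32
  obtain ⟨hR, ⟨hn, ⟨e⟩⟩, hN⟩ := P2.quotient_data
  refine ⟨hZz.trans_le (Subgroup.zpowers_le.2 hzQ'), ?_, P.h.large_of_mem P.h' P.mem P.ne hzQ'⟩
  set Q' := Q.map (MulAut.conj g).toMonoidHom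
  set a := g * z * g⁻¹ with ha
  have hV : Z ⊔ Z.map (MulAut.conj g).toMonoidHom = Subgroup.closure ({z, a} : Set G) := by
    rw [hZz, MonoidHom.map_zpowers, Subgroup.zpowers_eq_closure, Subgroup.zpowers_eq_closure,
      ← Subgroup.closure_union]
    congr 1
  rw [hV, Subgroup.centralizer_closure]
  set C := Subgroup.centralizer ({z, a} : Set G) with hC
  set N := Subgroup.normalizer (Subgroup.closure ({z, a} : Set G) : Set G) with hNdef
  have hCN : C ≤ N := hN ▸ le_sup_right
  have hXN : Q ⊔ Q' ≤ N := P2.sup_le_normalizer_V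
  haveI : (C.subgroupOf N).Normal := by
    refine Subgroup.normal_subgroupOf_of_le_normalizer ?_
    rw [hC, ← Subgroup.centralizer_closure, hNdef]
    intro n hn
    rw [Subgroup.mem_normalizer_iff]
    intro c
    rw [Subgroup.mem_centralizer_iff, Subgroup.mem_centralizer_iff]
    constructor
    · intro hc y hy
      have := hc _ ((Subgroup.mem_normalizer_iff''.1 hn y).1 hy)
      calc y * (n * c * n⁻¹) = n * ((n⁻¹ * y * n) * c) * n⁻¹ := by group
        _ = _ := by rw [this]; group
    · intro hc y hy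
      have := hc _ ((Subgroup.mem_normalizer_iff.1 hn y).1 hy)
      calc y * c = n⁻¹ * ((n * y * n⁻¹) * (n * c * n⁻¹)) * n := by group
        _ = _ := by rw [this]; group
  have htop : (C.subgroupOf N) ⊔ ((Q ⊔ Q').subgroupOf N) = ⊤ := by
    rw [← Subgroup.subgroupOf_sup hCN hXN, Subgroup.subgroupOf_eq_top, sup_comm]
    exact hN.le
  show (C.subgroupOf N).index = 6
  rw [← Subgroup.relIndex_top_right, ← htop, Subgroup.relIndex_sup_left,
    Subgroup.relIndex_subgroupOf hXN, ← Subgroup.inf_relIndex_left, ← hR, Subgroup.relIndex,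
    Subgroup.index_eq_card, Nat.card_congr e.toEquiv, Nat.card_perm, Nat.card_fin]
  rfl

end Cfsg.Agent.S5422
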