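import Cfsg.Statements.S5423
import Cfsg.Agent.Lib.LargeExtra.Affine

set_option autoImplicit false
open Cfsg

namespace Cfsg.Agent.S5423

open Cfsg.Agent.LargeExtra

/-- Let G be a finite group that is the split extension of an elementary abelian normal subgroup U of order 2^(n+1), n ≥ 1, by its full automorphism group: U has a complement M in G whose conjugation action on U is faithful and realizes every automorphism of U. Let Z be a subgroup of U of order 2 and Q the largest normal 2-subgroup of the centralizer C of Z. Then Q is extraspecial of order 2^(2n+1) with an elementary abelian subgroup of order 2^(n+1) (plus type), Q is a large extraspecial 2-subgroup of G, and C is the split extension of Q by the general linear group of degree n over the field with two elements. -/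
theorem result {G : Type*} [Group G] [Finite G] (n : ℕ) (hn : 1 ≤ n) (U M : Subgroup G) [U.Normal] (hU : Cfsg.IsElementaryAbelian 2 U) (hUcard : Nat.card ↥U = 2 ^ (n + 1)) (hUM : U ⊓ M = ⊥) (hUM' : U ⊔ M = ⊤) (hfaith : ∀ m ∈ M, (∀ u ∈ U, m * u * m⁻¹ = u) → m = 1) (hfull : ∀ φ : ↥U ≃* ↥U, ∃ m ∈ M, ∀ u : ↥U, ((φ u : ↥U) : G) = m * u * m⁻¹) (Z : Subgroup G) (hZU : Z ≤ U) (hZ : Nat.card ↥Z = 2) (Q : Subgroup G) (hQ : Q = (Cfsg.pCore 2 ↥(Subgroup.centralizer (Z : Set G))).map (Subgroup.centralizer (Z : Set G)).subtype) : Cfsg.IsExtraspecial 2 ↥Q ∧ Nat.card ↥Q = 2 ^ (2 * n + 1) ∧ (∃ E : Subgroup G, E ≤ Q ∧ Cfsg.IsElementaryAbelian 2 E ∧ Nat.card ↥E = 2 ^ (n + 1)) ∧ Cfsg.IsLargeExtraspecial Q ∧ ∃ K : Subgroup G, K ≤ Subgroup.centralizer (Z : Set G) ∧ Q ⊓ K = ⊥ ∧ Q ⊔ K = Subgroup.centralizer (Z : Set G) ∧ Nonempty (↥K ≃* Matrix.GeneralLinearGroup (Fin n) (ZMod 2)) := by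
  obtain ⟨z, hzZ, hz1⟩ : ∃ z ∈ Z, z ≠ (1 : G) := by
    by_contra hc
    push Not at hc
    rw [(Subgroup.eq_bot_iff_forall Z).2 hc, Subgroup.card_bot] at hZ
    exact absurd hZ (by norm_num)
  have hzord : orderOf z = 2 := by
    have h1 : orderOf (⟨z, hzZ⟩ : ↥Z) ∣ 2 := hZ ▸ orderOf_dvd_natCard (⟨z, hzZ⟩ : ↥Z)
    rw [← Subgroup.orderOf_coe] at h1
    rcases (Nat.dvd_prime Nat.prime_two).1 h1 with e | e
    · exact absurd (orderOf_eq_one_iff.1 e) hz1
    · exact e
  obtain rfl : Z = Subgroup.zpowers z :=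
    (Subgroup.eq_of_le_of_card_ge (Subgroup.zpowers_le.2 hzZ) (by rw [Nat.card_zpowers, hzord, hZ])).symm
  have hC : Subgroup.centralizer (Subgroup.zpowers z : Set G) = Subgroup.centralizer ({z} : Set G) := by
    rw [Subgroup.zpowers_eq_closure, Subgroup.centralizer_closure]
  rw [hC] at hQ ⊢
  exact Affine.shape_of_data hn U M hU hUcard hUM' hfaith hfull (Subgroup.zpowers_le.1 hZU) hz1 Q hQ

end Cfsg.Agent.S5423
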