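import Cfsg.Statements.S5424
import Cfsg.Agent.Lib.LargeExtra.AffineSL

set_option autoImplicit false
open Cfsg

namespace Cfsg.Agent.S5424

open Cfsg.Agent.LargeExtra Cfsg.Agent.LargeExtra.AffineSL

theorem mem_core_of_translation {m : ℕ} (i : Fin m) {z : ↥(AffineSL.P i)} (hz : z ∈ AffineSL.U i)
    {v : Fin m → ZMod 2} (hv : v i = 0) :
    AffineSL.τ i v hv ∈ (Cfsg.pCore 2 ↥(Subgroup.centralizer ({z} : Set ↥(AffineSL.P i)))).map
      (Subgroup.centralizer ({z} : Set ↥(AffineSL.P i))).subtype := by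
  have hle : AffineSL.U i ≤ Subgroup.centralizer ({z} : Set ↥(AffineSL.P i)) := fun u hu => by
    haveI := (AffineSL.elementary i).1
    rw [Subgroup.mem_centralizer_singleton_iff]
    exact congrArg Subtype.val (mul_comm' (⟨u, hu⟩ : ↥(AffineSL.U i)) ⟨z, hz⟩)
  refine ⟨⟨_, hle (AffineSL.τ_mem i v hv)⟩, Cfsg.Agent.Cores.le_pCore
    (N := (AffineSL.U i).subgroupOf (Subgroup.centralizer ({z} : Set ↥(AffineSL.P i)))) ?_
    (Subgroup.mem_subgroupOf.2 (AffineSL.τ_mem i v hv)), rfl⟩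
  intro x
  refine ⟨1, Subtype.ext (Subtype.ext ?_)⟩
  rw [pow_one]
  exact (AffineSL.elementary i).2 _ (Subgroup.mem_subgroupOf.1 x.2)

/-- Let G be the special linear group of degree n + 2 over the field with two elements, n ≥ 2, let z be a transvection, and let Q be the largest normal 2-subgroup of the centralizer C of z. Then Q is extraspecial of order 2^(2n+1) with an elementary abelian subgroup of order 2^(n+1) (plus type), Q is a large extraspecial 2-subgroup of G, and C is the split extension of Q by the special linear group of degree n over the field with two elements. -/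
theorem result (n : ℕ) (hn : 2 ≤ n) (z : Matrix.SpecialLinearGroup (Fin (n + 2)) (ZMod 2)) (hz : (z : Matrix (Fin (n + 2)) (Fin (n + 2)) (ZMod 2)) = Matrix.transvection 0 1 1) (Q : Subgroup (Matrix.SpecialLinearGroup (Fin (n + 2)) (ZMod 2))) (hQ : Q = (Cfsg.pCore 2 ↥(Subgroup.centralizer ({z} : Set (Matrix.SpecialLinearGroup (Fin (n + 2)) (ZMod 2))))).map (Subgroup.centralizer ({z} : Set (Matrix.SpecialLinearGroup (Fin (n + 2)) (ZMod 2)))).subtype) : Cfsg.IsExtraspecial 2 ↥Q ∧ Nat.card ↥Q = 2 ^ (2 * n + 1) ∧ (∃ E : Subgroup (Matrix.SpecialLinearGroup (Fin (n + 2)) (ZMod 2)), E ≤ Q ∧ Cfsg.IsElementaryAbelian 2 E ∧ Nat.card ↥E = 2 ^ (n + 1)) ∧ Cfsg.IsLargeExtraspecial Q ∧ ∃ K : Subgroup (Matrix.SpecialLinearGroup (Fin (n + 2)) (ZMod 2)), K ≤ Subgroup.centralizer ({z} : Set (Matrix.SpecialLinearGroup (Fin (n + 2)) (ZMod 2))) ∧ Q ⊓ K = ⊥ ∧ Q ⊔ K = Subgroup.centralizer ({z} : Set (Matrix.SpecialLinearGroup (Fin (n + 2)) (ZMod 2))) ∧ Nonempty (↥K ≃*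 Matrix.SpecialLinearGroup (Fin n) (ZMod 2)) := by
  have h01 : (0 : Fin (n + 2)) ≠ 1 := by simp [Fin.ext_iff]
  obtain ⟨hzP, hza⟩ := AffineSL.centralizer_le (1 : Fin (n + 2)) h01 z hz
  have hzmem : z ∈ AffineSL.P (1 : Fin (n + 2)) := hzP (Subgroup.mem_centralizer_singleton_iff.2 rfl)
  let z₀ : ↥(AffineSL.P (1 : Fin (n + 2))) := ⟨z, hzmem⟩
  have hzU : z₀ ∈ AffineSL.U (1 : Fin (n + 2)) := fun x hx => by
    show (z : Matrix (Fin (n + 2)) (Fin (n + 2)) (ZMod 2)).mulVec x = x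
    rw [hza, hx, zero_smul, add_zero]
  have hz₁ : z₀ ≠ 1 := fun h => by
    have h2 := hza (Pi.single 1 1)
    rw [show z = 1 from congrArg Subtype.val h, AffineSL.act_one, Pi.single_eq_same, one_smul] at h2
    simpa using congrFun h2 0
  have hz2 : orderOf z₀ = 2 :=
    orderOf_eq_prime ((AffineSL.elementary _).2 z₀ hzU) hz₁
  obtain ⟨Q₀, hQ₀⟩ : ∃ Q₀ : Subgroup ↥(AffineSL.P (1 : Fin (n + 2))),
      Q₀ = (Cfsg.pCore 2 ↥(Subgroup.centralizer ({z₀} : Set ↥(AffineSL.P (1 : Fin (n + 2)))))).map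
        (Subgroup.centralizer ({z₀} : Set ↥(AffineSL.P (1 : Fin (n + 2))))).subtype := ⟨_, rfl⟩
  have hshape := Affine.shape_of_data (by omega : 1 ≤ n) _ _ (AffineSL.elementary (1 : Fin (n + 2)))
    (AffineSL.card_U _ rfl) (AffineSL.sup_eq _) (AffineSL.faith _) (AffineSL.full _) hzU hz₁ Q₀ hQ₀
  obtain ⟨hQmap, hctr, hext, hcard, hE, K, hKC, hQK, hQK', ⟨eK⟩⟩ :=
    AffineSL.shape_map (AffineSL.P (1 : Fin (n + 2))).subtype (Subgroup.subtype_injective _) hz2
      (by rw [Subgroup.range_subtype]; exact hzP) hQ₀ hshape (Q := Q) hQ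
  refine ⟨hext, hcard, hE, ?_, K, hKC, hQK, hQK', ?_⟩
  · -- largeness
    set X := Fin (n + 2) → ZMod 2
    let e : Fin (n + 2) → X := fun j => Pi.single j 1
    let two : Fin (n + 2) := ⟨2, by omega⟩
    have h20 : two ≠ 0 := by simp [two, Fin.ext_iff]
    have h21 : two ≠ 1 := by simp [two, Fin.ext_iff]
    let g := AffineSL.ofEquiv (LinearEquiv.funCongrLeft (ZMod 2) (ZMod 2) (Equiv.swap (0 : Fin (n + 2)) two))
    let k : Matrix.SpecialLinearGroup (Fin (n + 2)) (ZMod 2) := ⟨Matrix.transvection two 0 1,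
      Matrix.det_transvection_of_ne _ _ h20 _⟩
    have hg : ∀ x : X, (g : Matrix (Fin (n + 2)) (Fin (n + 2)) (ZMod 2)).mulVec x =
        fun j => x (Equiv.swap (0 : Fin (n + 2)) two j) := fun x => AffineSL.ofEquiv_mulVec _ x
    have hk : ∀ x : X, (k : Matrix (Fin (n + 2)) (Fin (n + 2)) (ZMod 2)).mulVec x = x + x 0 • e two :=
      (AffineSL.centralizer_le 0 h20 k rfl).2
    have hQmem : ∀ (y : Matrix.SpecialLinearGroup (Fin (n + 2)) (ZMod 2)) (v : X), v 1 = 0 →
        (∀ x : X, (y : Matrix (Fin (n + 2)) (Fin (n + 2)) (ZMod 2)).mulVec x = x + x 1 • v) → y ∈ Q := by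
      intro y v hv hy
      rw [hQmap, hQ₀]
      refine ⟨_, mem_core_of_translation 1 hzU hv, AffineSL.act_ext fun x => ?_⟩
      rw [hy, Subgroup.coe_subtype, AffineSL.τ_apply]
    -- a conjugate of a transvection
    have hconj : ∀ (c : Matrix.SpecialLinearGroup (Fin (n + 2)) (ZMod 2)),
        (∀ x : X, (c : Matrix (Fin (n + 2)) (Fin (n + 2)) (ZMod 2)).mulVec x 1 = x 1) →
        ∀ x : X, ((c * z * c⁻¹ : Matrix.SpecialLinearGroup (Fin (n + 2)) (ZMod 2)) :
          Matrix (Fin (n + 2)) (Fin (n + 2)) (ZMod 2)).mulVec x =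
          x + x 1 • (c : Matrix (Fin (n + 2)) (Fin (n + 2)) (ZMod 2)).mulVec (e 0) := by
      intro c hc x
      have hcx : (c : Matrix (Fin (n + 2)) (Fin (n + 2)) (ZMod 2)).mulVec
          ((c⁻¹ : Matrix.SpecialLinearGroup (Fin (n + 2)) (ZMod 2)).1.mulVec x) = x := by
        have := AffineSL.act_mul c c⁻¹ x
        rw [mul_inv_cancel, AffineSL.act_one] at this
        exact this.symm
      rw [AffineSL.act_mul, AffineSL.act_mul, hza, Matrix.mulVec_add, Matrix.mulVec_smul, hcx]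
      congr 2
      conv_rhs => rw [← hcx, hc]
    have hgfix : ∀ x : X, (g : Matrix (Fin (n + 2)) (Fin (n + 2)) (ZMod 2)).mulVec x 1 = x 1 := fun x => by
      rw [hg]
      show x (Equiv.swap 0 two 1) = x 1
      rw [Equiv.swap_apply_of_ne_of_ne h01.symm h21.symm]
    have hkfix : ∀ x : X, (k : Matrix (Fin (n + 2)) (Fin (n + 2)) (ZMod 2)).mulVec x 1 = x 1 := fun x => by
      rw [hk, Pi.add_apply, Pi.smul_apply]; simp only [e, Pi.single_eq_of_ne h21.symm, smul_zero, add_zero]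
    have hge : (g : Matrix (Fin (n + 2)) (Fin (n + 2)) (ZMod 2)).mulVec (e 0) = e two := by
      rw [hg]; funext j
      by_cases hj : j = two
      · subst hj; simp [e]
      · have hne : Equiv.swap (0 : Fin (n + 2)) two j ≠ 0 := fun h => hj (by
          have := congrArg (Equiv.swap (0 : Fin (n + 2)) two) h
          rwa [Equiv.swap_apply_self, Equiv.swap_apply_left] at this)
        simp [e, hj, hne]
    have hke : (k : Matrix (Fin (n + 2)) (Fin (n + 2)) (ZMod 2)).mulVec (e 0) = e 0 + e two := by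
      rw [hk]; simp [e]
    have hginv : g⁻¹ = g := inv_eq_of_mul_eq_one_right (AffineSL.act_ext fun x => by
      rw [AffineSL.act_mul, hg, hg, AffineSL.act_one]
      funext j
      simp)
    have hkinv : k⁻¹ = k := inv_eq_of_mul_eq_one_right (AffineSL.act_ext fun x => by
      rw [AffineSL.act_mul, hk, hk, AffineSL.act_one, Pi.add_apply, Pi.smul_apply,
        show e two 0 = 0 by simp [e, h20.symm], smul_zero, add_zero, add_assoc,
        Cfsg.Agent.LargeExtra.AffineLinear.add_self, add_zero])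
    have ha : g * z * g⁻¹ ∈ Q := hQmem _ (e two) (by simp [e, h21.symm]) (fun x => by rw [hconj g hgfix, hge])
    have hb : k * z * k⁻¹ ∈ Q := hQmem _ (e 0 + e two) (by
      show (Pi.single 0 1 : X) 1 + (Pi.single two 1 : X) 1 = 0
      rw [Pi.single_eq_of_ne h01.symm, Pi.single_eq_of_ne h21.symm, add_zero])
      (fun x => by rw [hconj k hkfix, hke])
    refine hctr.large_of_conj g k ha (by rw [hginv] at ha ⊢; exact ha) (by rw [hkinv] at hb ⊢; exact hb) ?_
    show k * z * k⁻¹ = z * (g * z * g⁻¹)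
    refine AffineSL.act_ext fun x => ?_
    rw [hconj k hkfix, hke, AffineSL.act_mul]
    show _ = (z : Matrix (Fin (n + 2)) (Fin (n + 2)) (ZMod 2)).mulVec _
    rw [hconj g hgfix, hge, hza, Pi.add_apply, Pi.smul_apply,
      show e two 1 = 0 by simp [e, h21.symm], smul_zero, add_zero, smul_add]
    show x + (x 1 • e 0 + x 1 • e two) = x + x 1 • e two + x 1 • e 0
    abel
  · have hbij : Function.Bijective
        (Matrix.SpecialLinearGroup.toGL : Matrix.SpecialLinearGroup (Fin n) (ZMod 2) →* _) := by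
      refine ⟨Matrix.SpecialLinearGroup.toGL_injective, fun A => ?_⟩
      exact ⟨⟨(A : Matrix (Fin n) (Fin n) (ZMod 2)), AffineSL.det_eq_one _ A.isUnit⟩, Units.ext rfl⟩
    exact ⟨eK.trans (MulEquiv.ofBijective _ hbij).symm⟩

end Cfsg.Agent.S5424
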