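import Cfsg.Statements.S5426
import Cfsg.Agent.Lib.LargeExtra.Trichotomy

set_option autoImplicit false
open Cfsg

namespace Cfsg.Agent.S5426

open Cfsg.Agent.LargeExtra Cfsg.Agent.LargeExtra.Trichotomy Subgroup

/-- Let Q be a large extraspecial 2-subgroup of the finite group G (extraspecial; centralizer equal to its centre; normal in the centralizer of its centre; normalizing no non-trivial subgroup of odd order) with centre generated by z, and let M be the normal closure of z in G. Then one of the following holds: Q is normal in G; or M is abelian and the generalized Fitting subgroup of G is its largest normal 2-subgroup; or M is the generalized Fitting subgroup of G and is a non-abelian simple group; or M is the generalized Fitting subgroup of G and is the direct product of a non-abelian simple subgroup L and its conjugate u L u⁻¹ by some u in Q (the two meet trivially and commute elementwise), with z = z₁ (u z₁ u⁻¹) for some z₁ in L whose centralizer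 in L is a Sylow 2-subgroup of L with Frattini subgroup inside the subgroup generated by z₁, and Q is not the largest normal 2-subgroup of the centralizer of z. -/
theorem result {G : Type*} [Group G] [Finite G] (Q : Subgroup G) (hQ : Cfsg.IsLargeExtraspecial Q) (z : G) (hz : ((Subgroup.center ↥Q).map Q.subtype) = Subgroup.zpowers z) (M : Subgroup G) (hM : M = Subgroup.normalClosure ({z} : Set G)) : Q.Normal ∨ (IsMulCommutative ↥M ∧ Cfsg.generalizedFittingSubgroup G = Cfsg.pCore 2 G) ∨ (M = Cfsg.generalizedFittingSubgroup G ∧ IsSimpleGroup ↥M ∧ ¬ IsMulCommutative ↥M) ∨ (M = Cfsg.generalizedFittingSubgroup G ∧ ∃ (L : Subgroup G) (u : G), u ∈ Q ∧ IsSimpleGroup ↥L ∧ ¬ IsMulCommutative ↥L ∧ L ⊓ (L).map (MulAut.conj u).toMonoidHom = ⊥ ∧ (∀ x ∈ L, ∀ y ∈ (L).map (MulAut.conj u).toMonoidHom, x * y = y * x) ∧ L ⊔ (L).map (MulAut.conj u).toMonoidHom = M ∧ ∃ z₁ ∈ L, z = z₁ * (u * z₁ * u⁻¹) ∧ (∃ R : Sylow 2 ↥L, (R : Subgroup ↥L) = (Subgroup.centralizer ({z₁} : Set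 G)).subgroupOf L ∧ (frattini ↥(R : Subgroup ↥L)).map ((L.subtype).comp (R : Subgroup ↥L).subtype) ≤ Subgroup.zpowers z₁) ∧ Q ≠ (Cfsg.pCore 2 ↥(Subgroup.centralizer ({z} : Set G))).map (Subgroup.centralizer ({z} : Set G)).subtype) := by
  subst hM
  haveI : Fact (Nat.Prime 2) := ⟨Nat.prime_two⟩
  have hz2 : orderOf z = 2 := by
    rw [← Nat.card_zpowers, ← hz, Subgroup.card_map_of_injective Q.subtype_injective, hQ.1.2]
  have h := Ctr.of_large hQ hz hz2
  by_cases hO : Cfsg.pCore 2 G = ⊥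
  swap
  · exact Or.inr (Or.inl (abelian_case h hQ hO))
  have hMF : Subgroup.normalClosure ({z} : Set G) = Cfsg.generalizedFittingSubgroup G := by
    rw [closure_eq_layer h hQ hO, genFitting_eq h hQ hO]
  obtain ⟨L, hL⟩ : ∃ L : Subgroup G, Cfsg.IsComponent L := by
    by_contra hc
    push Not at hc
    have hz0 := z_mem_layer h hQ hO
    rw [Cfsg.Agent.Components.Basic.layer_eq_bot_iff.2 hc, Subgroup.mem_bot] at hz0
    exact h.ne_one hz0
  obtain ⟨hLs, hLn⟩ := component_simple h hQ hO hL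
  by_cases hone : ∀ K : Subgroup G, Cfsg.IsComponent K → K = L
  · -- one component
    have hE : Subgroup.normalClosure ({z} : Set G) = L := by
      rw [closure_eq_layer h hQ hO]
      exact le_antisymm (Cfsg.Agent.Components.Basic.layer_le fun K hK => (hone K hK).le)
        (Cfsg.Agent.Components.Basic.le_layer hL)
    refine Or.inr (Or.inr (Or.inl ⟨hMF, ?_, ?_⟩))
    · rw [hE]; exact hLs
    · rw [hE]; exact hLn
  refine Or.inr (Or.inr (Or.inr ⟨hMF, ?_⟩))
  obtain ⟨L₂, hL₂, hne₂⟩ : ∃ L₂ : Subgroup G, Cfsg.IsComponent L₂ ∧ L₂ ≠ L := by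
    push Not at hone; exact hone
  obtain ⟨u, hu, hu₂⟩ := transitive h hQ hO hL hL₂
  -- decomposition of `z`
  obtain ⟨hKc, hdec⟩ := centralizer_decomp h hQ hO hL
  have huniq : ∀ {a a' c c' : G}, a ∈ L → a' ∈ L → c ∈ centralizer (L : Set G) →
      c' ∈ centralizer (L : Set G) → a * c = a' * c' → a = a' ∧ c = c' :=
    fun ha ha' hc hc' e => decomp_unique h hQ hO hL ha ha' hc hc' e
  obtain ⟨z₁, hz₁, c, hc, hzc⟩ := hdec z (z_mem_layer h hQ hO)
  have hcomm : ∀ a ∈ L, ∀ d ∈ centralizer (L : Set G), a * d = d * a := fun a ha d hd =>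
    mem_centralizer_iff.1 hd a ha
  have hz₁z : z₁ * z = z * z₁ := by
    rw [hzc, mul_assoc, ← hcomm z₁ hz₁ c hc]
  have hzz := h.zz
  have hz₁₁ : z₁ * z₁ = 1 ∧ c * c = 1 := by
    refine huniq (mul_mem hz₁ hz₁) (one_mem _) (mul_mem hc hc) (one_mem _) ?_
    rw [one_mul]
    calc z₁ * z₁ * (c * c) = z₁ * (z₁ * c) * c := by group
      _ = z₁ * (c * z₁) * c := by rw [hcomm z₁ hz₁ c hc]
      _ = z₁ * c * (z₁ * c) := by group
      _ = 1 := by rw [← hzc, hzz]
  -- `Q` fixes the components through squares and commutators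
  have hfixL : ∀ w, w = 1 ∨ w = z → cj w L = L := by
    rintro w (rfl | rfl)
    · exact cj_one L
    · exact z_normalizes h hQ hO hL
  have hswap : ∀ q ∈ Q, cj q (cj q L) = L := fun q hq => by
    rw [← cj_mul]; exact hfixL _ (h.sq_cases hq)
  have hz₁ne : z₁ ≠ 1 := by
    intro e
    have hzL : z ∈ centralizer (L : Set G) := by rw [hzc, e, one_mul]; exact hc
    have hall : z ∈ centralizer (Cfsg.layer G : Set G) := by
      rw [mem_centralizer_iff]
      intro y hy
      have hle : Cfsg.layer G ≤ centralizer ({z} : Set G) := Cfsg.Agent.Components.Basic.layer_le fun K hK => by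
        obtain ⟨q, hq, rfl⟩ := transitive h hQ hO hL hK
        rintro _ ⟨x, hx, rfl⟩
        rw [mem_centralizer_singleton_iff]
        show q * x * q⁻¹ * z = z * (q * x * q⁻¹)
        calc q * x * q⁻¹ * z = q * (x * (q⁻¹ * z * q)) * q⁻¹ := by group
          _ = q * (x * z) * q⁻¹ := by
              rw [show q⁻¹ * z * q = z by
                have := h.conj_z (Q.inv_mem hq); rwa [inv_inv] at this]
          _ = q * z * x * q⁻¹ := by rw [mem_centralizer_iff.1 hzL x hx]; group
          _ = z * (q * x * q⁻¹) := by rw [h.comm hq]; group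
      exact mem_centralizer_singleton_iff.1 (hle hy)
    rw [centralizer_layer h hQ hO, mem_bot] at hall
    exact h.ne_one hall
  -- `C_L(z)`
  have hCL : ∀ x ∈ L, (x * z = z * x ↔ x * z₁ = z₁ * x) := by
    intro x hx
    rw [hzc]
    constructor
    · intro e
      refine mul_right_cancel (b := c) ?_
      calc x * z₁ * c = z₁ * c * x := by rw [← e, mul_assoc]
        _ = z₁ * x * c := by rw [mul_assoc, ← hcomm x hx c hc, mul_assoc]
    · intro e
      rw [← mul_assoc, e, mul_assoc, hcomm x hx c hc, mul_assoc]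
  -- moving `x ∈ C_L(z)` by an element of `Q`
  have hw : ∀ x, x * z = z * x → ∀ q ∈ Q, q * x * q⁻¹ * x⁻¹ ∈ Q := by
    intro x hxz q hq
    rw [mul_assoc q x, mul_assoc q]
    exact mul_mem hq (h.conj_mem hxz (inv_mem hq))
  have hmoveK : ∀ q, cj q L ≠ L → ∀ x ∈ L, q * x * q⁻¹ ∈ centralizer (L : Set G) := fun q hq x hx =>
    hKc _ (Cfsg.Agent.Components.Basic.component_conj hL q) hq (conj_mem_cj hx)
  have huL : cj u L ≠ L := hu₂ ▸ hne₂
  have hpow2 : ∀ x ∈ L, x * z = z * x → ∃ k : ℕ, x ^ 2 ^ k = 1 := by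
    intro x hx hxz
    obtain ⟨k, hk⟩ := h.pgroup ⟨_, hw x hxz u hu⟩
    refine ⟨k, ?_⟩
    have hk' : (u * x * u⁻¹ * x⁻¹) ^ 2 ^ k = 1 := by simpa using congrArg Subtype.val hk
    have hcm : Commute (u * x * u⁻¹) x⁻¹ :=
      (hcomm x⁻¹ (inv_mem hx) _ (hmoveK u huL x hx)).symm
    rw [hcm.mul_pow, inv_pow, mul_inv_eq_one] at hk'
    have h2 := (huniq (pow_mem hx _) (one_mem _) (one_mem _) (pow_mem (hmoveK u huL x hx) (2 ^ k))
      (by rw [mul_one, one_mul, hk'])).1
    exact h2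
  -- `R = C_L(z)` is a Sylow subgroup
  obtain ⟨T, hT⟩ := exists_sylow_centralized h hQ hO hL
  let R₁ : Subgroup ↥L := (centralizer ({z₁} : Set G)).subgroupOf L
  have hmem : ∀ x : ↥L, x ∈ R₁ ↔ (x : G) * z = z * x := fun x => by
    rw [hCL _ x.2, mem_subgroupOf, mem_centralizer_singleton_iff]
  have hR₁ : IsPGroup 2 ↥R₁ := fun x => by
    obtain ⟨k, hk⟩ := hpow2 _ x.1.2 ((hmem x.1).1 x.2)
    exact ⟨k, Subtype.ext (Subtype.ext (by simpa using hk))⟩
  have hTR : (T : Subgroup ↥L) = R₁ := (T.is_maximal' hR₁ fun x hx => (hmem x).2 (hT x hx)).symm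
  -- squares
  have hsq : ∀ x ∈ L, x * z = z * x → x * x = 1 ∨ x * x = z₁ := by
    intro x hx hxz
    have hcm : Commute (u * x * u⁻¹) x⁻¹ :=
      (hcomm x⁻¹ (inv_mem hx) _ (hmoveK u huL x hx)).symm
    have hK := hmoveK u huL x hx
    have hwsq : u * x * u⁻¹ * x⁻¹ * (u * x * u⁻¹ * x⁻¹) =
        (x * x)⁻¹ * (u * x * u⁻¹ * (u * x * u⁻¹)) := by
      have hcm2 : Commute (x * x)⁻¹ (u * x * u⁻¹ * (u * x * u⁻¹)) :=
        hcomm _ (inv_mem (mul_mem hx hx)) _ (mul_mem hK hK)
      rw [hcm2.eq, mul_inv_rev, mul_assoc, ← mul_assoc x⁻¹, ← hcm.eq]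
      group
    rcases h.sq_cases (hw x hxz u hu) with e | e <;> rw [hwsq] at e
    · left
      exact inv_eq_one.1 (huniq (inv_mem (mul_mem hx hx)) (one_mem _) (mul_mem hK hK) (one_mem _)
        (by rw [e, one_mul])).1
    · right
      have := (huniq (inv_mem (mul_mem hx hx)) hz₁ (mul_mem hK hK) hc (e.trans hzc)).1
      rw [← inv_inv (x * x), this]
      exact inv_eq_of_mul_eq_one_right hz₁₁.1
  -- a further element of `C_L(z)`
  haveI := hLs
  have hz₁R : (⟨z₁, hz₁⟩ : ↥L) ∈ R₁ := (hmem _).2 hz₁z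
  obtain ⟨x, hxL, hxz, hx1, hxz₁⟩ : ∃ x, x ∈ L ∧ x * z = z * x ∧ x ≠ 1 ∧ x ≠ z₁ := by
    by_contra hcon
    have hsmall : ∀ r : ↥(T : Subgroup ↥L), (r : ↥L) = 1 ∨ ((r : ↥L) : G) = z₁ := by
      intro r
      by_contra hr
      push Not at hr
      exact hcon ⟨_, r.1.2, (hmem r.1).1 (hTR ▸ r.2), fun e => hr.1 (Subtype.ext e), hr.2⟩
    have hzT : (⟨z₁, hz₁⟩ : ↥L) ∈ (T : Subgroup ↥L) := hTR ▸ hz₁R
    have hN : ∀ g : ↥L, g ∈ normalizer ((T : Subgroup ↥L) : Set ↥L) → g ∈ (T : Subgroup ↥L) := by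
      intro g hg
      have hgz : g * ⟨z₁, hz₁⟩ * g⁻¹ ∈ (T : Subgroup ↥L) := (mem_normalizer_iff.1 hg _).1 hzT
      rcases hsmall ⟨_, hgz⟩ with e | e
      · exact absurd (congrArg Subtype.val (conj_eq_one_iff.1 e)) hz₁ne
      · have e' : (g : G) * z₁ * (g : G)⁻¹ = z₁ := e
        rw [hTR]
        exact mem_subgroupOf.2 (mem_centralizer_singleton_iff.2 (mul_inv_eq_iff_eq_mul.1 e'))
    have hTz : ∀ r : ↥(T : Subgroup ↥L), r = 1 ∨ r = ⟨⟨z₁, hz₁⟩, hzT⟩ := fun r => by
      rcases hsmall r with e | e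
      · exact Or.inl (Subtype.ext e)
      · exact Or.inr (Subtype.ext (Subtype.ext e))
    have hTc : ∀ r s : ↥(T : Subgroup ↥L), r * s = s * r := fun r s => by
      rcases hTz r with rfl | rfl <;> rcases hTz s with rfl | rfl <;> simp
    have hTsq : (⟨⟨z₁, hz₁⟩, hzT⟩ : ↥(T : Subgroup ↥L)) * ⟨⟨z₁, hz₁⟩, hzT⟩ = 1 :=
      Subtype.ext (Subtype.ext hz₁₁.1)
    have hΦ := Cfsg.Agent.S5435.mem_frattini_of_central hLn T hN _ hTsq (fun r => hTc r _)
    have hle := Cfsg.Agent.CharP.frattini_le_ker (p := 2) (MonoidHom.id ↥(T : Subgroup ↥L))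
      (fun a b => hTc a b) (fun a => by
        rcases hTz a with rfl | rfl
        · simp
        · rw [pow_two]; exact hTsq) hΦ
    exact hz₁ne (congrArg (fun w : ↥(T : Subgroup ↥L) => ((w : ↥L) : G)) (MonoidHom.mem_ker.1 hle))
  -- only two components
  have htwo : ∀ K : Subgroup G, Cfsg.IsComponent K → K = L ∨ K = L₂ := by
    intro K hK
    by_contra hK'
    push Not at hK'
    obtain ⟨q, hq, hqK⟩ := transitive h hQ hO hL hK
    have hqL : cj q L ≠ L := hqK ▸ hK'.1
    have hquL : cj (q * u) L ≠ L := by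
      intro e
      have e2 : cj u (cj q L) = L := by
        rcases h.comm_cases hq hu with e' | e'
        · rw [← cj_mul, ← commutatorElement_eq_one_iff_mul_comm.1 e', e]
        · have : q * u = z * (u * q) := by
            rw [← e', commutatorElement_def]; group
          rw [this, cj_mul, cj_mul] at e
          have e3 := congrArg (cj z⁻¹) e
          rw [← cj_mul, inv_mul_cancel, cj_one] at e3
          rw [e3, h.inv_self]
          exact z_normalizes h hQ hO hL
      have e3 := congrArg (cj u) e2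
      rw [← cj_mul u u] at e3
      have e4 : cj (u * u) (cj q L) = cj q L := by
        rcases h.sq_cases hu with e' | e' <;> rw [e']
        · exact cj_one _
        · exact z_normalizes h hQ hO (Cfsg.Agent.Components.Basic.component_conj hL q)
      rw [e4] at e3
      exact hK'.2 (by rw [hqK, e3, hu₂])
    set w := u * x * u⁻¹ * x⁻¹
    have hwQ : w ∈ Q := hw x hxz u hu
    have hv : q * w * q⁻¹ ∈ centralizer (L : Set G) := by
      rw [show q * w * q⁻¹ = (q * u) * x * (q * u)⁻¹ * (q * x * q⁻¹)⁻¹ by simp only [w]; group]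
      exact mul_mem (hmoveK _ hquL x hxL) (inv_mem (hmoveK _ hqL x hxL))
    have hx' := hmoveK u huL x hxL
    have hexp : q * w * q⁻¹ * w⁻¹ = x * (q * w * q⁻¹ * (u * x * u⁻¹)⁻¹) := by
      have hcm : Commute x (q * w * q⁻¹ * (u * x * u⁻¹)⁻¹) :=
        hcomm x hxL _ (mul_mem hv (inv_mem hx'))
      rw [hcm.eq]
      have hcm' : Commute x (u * x * u⁻¹) := hcomm x hxL _ hx'
      rw [show w⁻¹ = (u * x * u⁻¹)⁻¹ * x by
        simp only [w]; rw [mul_inv_rev, inv_inv]; exact hcm'.inv_right.eq, ← mul_assoc]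
    rcases h.comm_cases hq hwQ with e | e <;> rw [commutatorElement_def, hexp] at e
    · exact hx1 (huniq hxL (one_mem _) (mul_mem hv (inv_mem hx')) (one_mem _) (by rw [e, one_mul])).1
    · exact hxz₁ (huniq hxL hz₁ (mul_mem hv (inv_mem hx')) hc (e.trans hzc)).1
  have hsup : L ⊔ cj u L = Subgroup.normalClosure ({z} : Set G) := by
    rw [closure_eq_layer h hQ hO]
    refine le_antisymm (sup_le (Cfsg.Agent.Components.Basic.le_layer hL)
      (Cfsg.Agent.Components.Basic.le_layer (Cfsg.Agent.Components.Basic.component_conj hL u))) ?_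
    refine Cfsg.Agent.Components.Basic.layer_le fun K hK => ?_
    rcases htwo K hK with e | e
    · exact e ▸ le_sup_left
    · exact (e.trans hu₂).le.trans le_sup_right
  have hcc : cj u L ≤ centralizer (L : Set G) :=
    hKc _ (Cfsg.Agent.Components.Basic.component_conj hL u) huL
  have hinf : L ⊓ cj u L = ⊥ := le_bot_iff.1
    ((inf_le_inf_left L hcc).trans (component_center h hQ hO hL).le)
  have hprod : ∀ y ∈ Cfsg.layer G, ∃ a ∈ L, ∃ b ∈ cj u L, y = a * b := by
    intro y hy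
    rw [← closure_eq_layer h hQ hO, ← hsup, ← SetLike.mem_coe,
      coe_mul_of_right_le_normalizer_left L (cj u L) (hcc.trans (centralizer_le_normalizer _))] at hy
    obtain ⟨a, ha, b, hb, rfl⟩ := hy
    exact ⟨a, ha, b, hb, rfl⟩
  have hzu : z = z₁ * (u * z₁ * u⁻¹) := by
    obtain ⟨a, ha, b, hb, hab⟩ := hprod z (z_mem_layer h hQ hO)
    obtain ⟨e1, e2⟩ := huniq hz₁ ha hc (hcc hb) (hzc.symm.trans hab)
    have hb' : u * b * u⁻¹ ∈ L := by
      have := conj_mem_cj (g := u) hb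
      rwa [hswap u hu] at this
    have hK' := hmoveK u huL z₁ hz₁
    have hcb : z = (u * b * u⁻¹) * (u * z₁ * u⁻¹) := by
      calc z = u * z * u⁻¹ := (h.conj_z hu).symm
        _ = u * (z₁ * b) * u⁻¹ := by rw [hab, ← e1]
        _ = u * (b * z₁) * u⁻¹ := by rw [hcomm z₁ hz₁ b (hcc hb)]
        _ = _ := by group
    obtain ⟨e3, e4⟩ := huniq hz₁ hb' hc hK' (hzc.symm.trans hcb)
    rw [hzc, e4]
  refine ⟨L, u, hu, hLs, hLn, hinf, fun a ha b hb => hcomm a ha b (hcc hb), hsup, z₁, hz₁, hzu,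
    ⟨T, hTR, ?_⟩, ?_⟩
  · -- the Frattini subgroup of `R`
    let N : Subgroup ↥(T : Subgroup ↥L) := (zpowers z₁).comap (L.subtype.comp (T : Subgroup ↥L).subtype)
    have hcz : ∀ r : ↥(T : Subgroup ↥L), ((r : ↥L) : G) * z₁ = z₁ * ((r : ↥L) : G) := fun r => by
      have hr : (r : ↥L) ∈ R₁ := hTR ▸ r.2
      exact mem_centralizer_singleton_iff.1 (mem_subgroupOf.1 hr)
    have hzc' : ∀ w ∈ zpowers z₁, ∀ r : ↥(T : Subgroup ↥L), ((r : ↥L) : G) * w = w * ((r : ↥L) : G) := by
      intro w hw' r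
      obtain ⟨k, rfl⟩ := mem_zpowers_iff.1 hw'
      exact (Commute.zpow_right (hcz r) k).eq
    haveI hNn : N.Normal := ⟨fun n hn g => by
      show ((g : ↥L) : G) * ((n : ↥L) : G) * ((g : ↥L) : G)⁻¹ ∈ zpowers z₁
      have hn' : ((n : ↥L) : G) ∈ zpowers z₁ := hn
      rw [hzc' _ hn' g, mul_inv_cancel_right]
      exact hn⟩
    have hexp2 : ∀ r : ↥(T : Subgroup ↥L), r * r ∈ N := fun r => by
      have hr : (r : ↥L) ∈ R₁ := hTR ▸ r.2
      show ((r : ↥L) : G) * ((r : ↥L) : G) ∈ zpowers z₁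
      rcases hsq _ r.1.2 ((hmem r.1).1 hr) with e | e <;> rw [e]
      · exact one_mem _
      · exact mem_zpowers z₁
    have hle := Cfsg.Agent.CharP.frattini_le_ker (p := 2) (QuotientGroup.mk' N)
      (fun a b => by
        have hinv : ∀ q : ↥(T : Subgroup ↥L) ⧸ N, q⁻¹ = q := fun q => by
          induction q using QuotientGroup.induction_on with
          | H r =>
            refine inv_eq_of_mul_eq_one_right ?_
            rw [← QuotientGroup.mk_mul, QuotientGroup.eq_one_iff]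
            exact hexp2 r
        show (QuotientGroup.mk' N a) * (QuotientGroup.mk' N b) = (QuotientGroup.mk' N b) * (QuotientGroup.mk' N a)
        rw [← hinv (QuotientGroup.mk' N a * QuotientGroup.mk' N b), mul_inv_rev, hinv, hinv])
      (fun a => by rw [pow_two, QuotientGroup.mk'_apply, ← QuotientGroup.mk_mul, QuotientGroup.eq_one_iff]; exact hexp2 a)
    rw [QuotientGroup.ker_mk'] at hle
    exact map_le_iff_le_comap.2 hle
  · intro hQeq
    have hxQ : x ∈ Q := by
      rw [hQeq]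
      let C := centralizer ({z} : Set G)
      have hxC : x ∈ C := mem_centralizer_singleton_iff.2 hxz
      let P : Subgroup ↥C := (Cfsg.layer G).subgroupOf C
      refine ⟨⟨x, hxC⟩, Cfsg.Agent.Cores.le_pCore (N := P) ?_
        (mem_subgroupOf.2 (Cfsg.Agent.Components.Basic.le_layer hL hxL)), rfl⟩
      rintro ⟨⟨y, hyC⟩, hyE⟩
      obtain ⟨a, ha, b, hb, rfl⟩ := hprod y (mem_subgroupOf.1 hyE)
      have hyz := mem_centralizer_singleton_iff.1 hyC
      have hK' := hmoveK u huL z₁ hz₁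
      have hab : Commute a b := hcomm a ha b (hcc hb)
      have hza : a * z₁ = z₁ * a ∧ b * (u * z₁ * u⁻¹) = u * z₁ * u⁻¹ * b := by
        refine huniq (mul_mem ha hz₁) (mul_mem hz₁ ha) (mul_mem (hcc hb) hK') (mul_mem hK' (hcc hb)) ?_
        rw [hzu] at hyz
        calc a * z₁ * (b * (u * z₁ * u⁻¹)) = a * (z₁ * b) * (u * z₁ * u⁻¹) := by group
          _ = a * b * (z₁ * (u * z₁ * u⁻¹)) := by rw [hcomm z₁ hz₁ b (hcc hb)]; group
          _ = z₁ * (u * z₁ * u⁻¹) * (a * b) := hyz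
          _ = z₁ * ((u * z₁ * u⁻¹) * a) * b := by group
          _ = z₁ * a * ((u * z₁ * u⁻¹) * b) := by rw [← hcomm a ha _ hK']; group
      obtain ⟨k₁, hk₁⟩ := hpow2 a ha ((hCL a ha).2 hza.1)
      obtain ⟨b', hb', rfl⟩ := hb
      have hb'' : b' * z₁ = z₁ * b' := by
        have e : u * b' * u⁻¹ * (u * z₁ * u⁻¹) = u * z₁ * u⁻¹ * (u * b' * u⁻¹) := hza.2
        have := congrArg (fun t => u⁻¹ * t * u) e
        simpa [mul_assoc] using this
      obtain ⟨k₂, hk₂⟩ := hpow2 b' hb' ((hCL b' hb').2 hb'')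
      refine ⟨k₁ + k₂, Subtype.ext (Subtype.ext ?_)⟩
      show (a * (u * b' * u⁻¹)) ^ 2 ^ (k₁ + k₂) = 1
      have hab' : Commute a (u * b' * u⁻¹) := hab
      rw [hab'.mul_pow, conj_pow, pow_add, pow_mul, hk₁, one_pow, one_mul, mul_comm, pow_mul, hk₂,
        one_pow, mul_one, mul_inv_cancel]
    rcases h.conj_cases hu hxQ with e | e
    · have hm : x ∈ L ⊓ cj u L := ⟨hxL, e ▸ conj_mem_cj hxL⟩
      rw [hinf, mem_bot] at hm
      exact hx1 hm
    · have hK := hmoveK u huL x hxL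
      have e' : x⁻¹ * (u * x * u⁻¹) = z₁ * c := by
        rw [← hzc, e, h.comm hxQ |> fun h' : x * z = z * x => show z * x = x * z from h'.symm, inv_mul_cancel_left]
      have h2 := (huniq (inv_mem hxL) hz₁ hK hc e').1
      exact hxz₁ (by rw [← inv_inv x, h2]; exact inv_eq_of_mul_eq_one_right hz₁₁.1)

end Cfsg.Agent.S5426
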