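import Cfsg.Statements.S5433


set_option autoImplicit false
open Cfsg

namespace Cfsg.Agent.S5433

/-- Let Q be a large extraspecial 2-subgroup of the finite group G (extraspecial; centralizer equal to its centre; normal in the centralizer of its centre; normalizing no non-trivial subgroup of odd order), and L a normal subgroup of G containing Q. Then G is the product of L and the normalizer of Q. -/
theorem result {G : Type*} [Group G] [Finite G] (Q : Subgroup G) (hQ : Cfsg.IsLargeExtraspecial Q) (L : Subgroup G) [L.Normal] (hQL : Q ≤ L) : L ⊔ Subgroup.normalizer (Q : Set G) = ⊤ := by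
  haveI : Fact (Nat.Prime 2) := ⟨Nat.prime_two⟩
  obtain ⟨⟨hQsp, hQZ⟩, hC, hN, -⟩ := hQ
  have hQ2 : IsPGroup 2 ↥(Q.subgroupOf L) := hQsp.1.of_equiv (Subgroup.subgroupOfEquivOfLe hQL).symm
  obtain ⟨T, hT⟩ := hQ2.exists_le_sylow
  set T' := (T : Subgroup ↥L).map L.subtype with hT'
  have hQT : Q ≤ T' := by
    intro x hx
    exact ⟨⟨x, hQL hx⟩, hT (Subgroup.mem_subgroupOf.2 hx), rfl⟩
  set Z := (Subgroup.center ↥Q).map Q.subtype with hZdef
  set Y := (Subgroup.center ↥T').map T'.subtype with hY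
  have hYZ : Y ≤ Z := by
    rw [← hC]
    rintro _ ⟨y, hy, rfl⟩
    rw [Subgroup.mem_centralizer_iff]
    intro q hq
    exact congrArg Subtype.val (Subgroup.mem_center_iff.1 hy ⟨q, hQT hq⟩)
  have hZ2 : Nat.card ↥Z = 2 := by
    rw [hZdef, Subgroup.card_map_of_injective Q.subtype_injective, hQZ]
  have hnt : Nontrivial ↥T' := by
    rw [Subgroup.nontrivial_iff_ne_bot]
    intro e
    rw [e] at hQT
    have h0 := Subgroup.card_le_of_le ((Subgroup.map_subtype_le _ : Z ≤ Q).trans hQT)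
    rw [hZ2, Subgroup.card_bot] at h0
    omega
  have hYne : Y ≠ ⊥ := by
    haveI := (T.2.map L.subtype : IsPGroup 2 ↥T').center_nontrivial
    rw [hY, Ne, Subgroup.map_eq_bot_iff_of_injective _ T'.subtype_injective,
      ← Ne, ← Subgroup.nontrivial_iff_ne_bot]
    infer_instance
  have hYZ' : Y = Z := by
    refine Subgroup.eq_of_le_of_card_ge hYZ ?_
    rw [hZ2]
    exact (Subgroup.one_lt_card_iff_ne_bot Y).2 hYne
  have hle : Subgroup.normalizer (T' : Set G) ≤ Subgroup.normalizer (Q : Set G) := by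
    intro n hn
    refine hN ?_
    show n ∈ Subgroup.centralizer (Z : Set G)
    rw [Subgroup.mem_centralizer_iff]
    intro z hz
    rw [SetLike.mem_coe, ← hYZ'] at hz
    obtain ⟨⟨y, hy⟩, hyc, rfl⟩ := hz
    have hy' : n * y * n⁻¹ ∈ Z := by
      rw [← hYZ']
      refine ⟨⟨n * y * n⁻¹, (Subgroup.mem_normalizer_iff.1 hn y).1 hy⟩, ?_, rfl⟩
      rw [SetLike.mem_coe, Subgroup.mem_center_iff]
      rintro ⟨u, hu⟩
      apply Subtype.ext
      show u * (n * y * n⁻¹) = n * y * n⁻¹ * u
      have hm : n⁻¹ * u * n ∈ T' := by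
        have := (Subgroup.mem_normalizer_iff.1 (Subgroup.inv_mem _ hn) u).1 hu
        rwa [inv_inv] at this
      have e : n⁻¹ * u * n * y = y * (n⁻¹ * u * n) :=
        congrArg Subtype.val (Subgroup.mem_center_iff.1 hyc ⟨_, hm⟩)
      calc u * (n * y * n⁻¹) = n * (n⁻¹ * u * n * y) * n⁻¹ := by simp [mul_assoc]
        _ = _ := by rw [e]; simp [mul_assoc]
    have hyZ : y ∈ Z := hYZ' ▸ ⟨⟨y, hy⟩, hyc, rfl⟩
    show y * n = n * y
    by_cases hy1 : y = 1
    · simp [hy1]
    · have h3 : n * y * n⁻¹ = y := by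
        have hZ2' := (Nat.card_eq_two_iff' (1 : ↥Z)).1 hZ2
        have := hZ2'.unique (y₁ := ⟨n * y * n⁻¹, hy'⟩) (y₂ := ⟨y, hyZ⟩)
          (fun e => hy1 (conj_eq_one_iff.1 (congrArg Subtype.val e)))
          (fun e => hy1 (congrArg Subtype.val e))
        exact congrArg Subtype.val this
      exact (mul_inv_eq_iff_eq_mul.1 h3).symm
  rw [eq_top_iff, ← Sylow.normalizer_sup_eq_top T]
  exact sup_le (hle.trans le_sup_right) le_sup_left

end Cfsg.Agent.S5433
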