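import Cfsg.Statements.S5427
import Cfsg.Agent.Lib.LargeExtra.Minimal
import Cfsg.Agent.Lib.LargeExtra.Pair
import Cfsg.Agent.Lib.Cores.Basic
import Cfsg.Agent.S5421
import Cfsg.Agent.S5433

set_option autoImplicit false
open Cfsg

namespace Cfsg.Agent.S5427

open Subgroup

/-- Let z be an involution of the finite group G whose centralizer C has generalized Fitting subgroup Q, an extraspecial 2-group of width at least 2 (order 2^(2w+1), w ≥ 2). Let K be a subgroup of G such that the subgroup U generated by the K-conjugates of z is abelian and C is generated by the C-conjugates of U. Suppose that either some K-conjugate of z other than z lies in Q, or some element u of U ∩ Q outside the subgroup generated by z has z in the largest normal 2-subgroup of its centralizer. Then G is simple and Q is a large extraspecial 2-subgroup of G. -/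
theorem result {G : Type*} [Group G] [Finite G] (z : G) (hz : orderOf z = 2) (Q : Subgroup G) (hQC : Q ≤ Subgroup.centralizer ({z} : Set G)) (hF : (Cfsg.generalizedFittingSubgroup ↥(Subgroup.centralizer ({z} : Set G))).map (Subgroup.centralizer ({z} : Set G)).subtype = Q) (hQ : Cfsg.IsExtraspecial 2 ↥Q) (w : ℕ) (hw : 2 ≤ w) (hcard : Nat.card ↥Q = 2 ^ (2 * w + 1)) (K U : Subgroup G) (hU : U = Subgroup.closure {x : G | ∃ k ∈ K, x = k * z * k⁻¹}) (hUab : IsMulCommutative ↥U) (hgen : Subgroup.closure {x : G | ∃ c ∈ Subgroup.centralizer ({z} : Set G), ∃ u ∈ U, x = c * u * c⁻¹} = Subgroup.centralizer ({z} : Set G)) (h3 : (∃ k ∈ K, k * z * k⁻¹ ∈ Q ∧ k * z * k⁻¹ ≠ z) ∨ ∃ u ∈ U ⊓ Q, u ∉ Subgroup.zpowers z ∧ (∃ hz' : z ∈ Subgroup.centralizer ({u} : Set G), (⟨z, hz'⟩ : ↥(Subgroup.centralizer ({u} : Set G))) ∈ Cfsg.pCore 2 ↥(Subgroup.centralizer ({u} : Set G)))) : IsSimpleGroup G ∧ Cfsg.IsLargeExtraspecial Q := by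
  classical
  haveI : Fact (Nat.Prime 2) := ⟨Nat.prime_two⟩
  have h : LargeExtra.Ctr Q z := LargeExtra.Ctr.of_fitting hz hQC hF hQ
  set C := Subgroup.centralizer ({z} : Set G) with hC
  have hctr : Subgroup.centralizer (Q : Set G) = (Subgroup.center ↥Q).map Q.subtype := by rw [h.ctr, h.cent]
  have hnm : Subgroup.centralizer (((Subgroup.center ↥Q).map Q.subtype) : Set G) ≤
      Subgroup.normalizer (Q : Set G) := by
    rw [h.ctr]
    exact (Subgroup.centralizer_le (Set.singleton_subset_iff.2 (Subgroup.mem_zpowers z))).trans h.norm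
  have hQ32 : 32 ≤ Nat.card ↥Q := by
    rw [hcard]
    calc 32 = 2 ^ 5 := by norm_num
      _ ≤ 2 ^ (2 * w + 1) := Nat.pow_le_pow_right (by norm_num) (by omega)
  have hL : Cfsg.IsLargeExtraspecial Q := by
    rcases h3 with ⟨k, -, hkQ, hkz⟩ | ⟨u, hu, huz, hz', hzm⟩
    · have P := LargeExtra.Pair.mk' h hkQ hkz
      have hzQ' := P.z_mem' hQ32
      set Q' := Q.map (MulAut.conj k).toMonoidHom
      set a := k * z * k⁻¹
      have ha2 : orderOf a = 2 := P.h'.two
      refine S5421.result Q hQ hctr hnm a hkQ ?_ ha2 ?_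
      · rw [h.ctr]
        intro e
        rcases h.mem_zpowers_cases e with e | e
        · exact P.h'.ne_one e
        · exact hkz e
      · rw [h.ctr, Subgroup.zpowers_le]
        have hle : Q' ≤ Subgroup.centralizer ({a} : Set G) := P.h'.le_centralizer
        haveI : (Q'.subgroupOf (Subgroup.centralizer ({a} : Set G))).Normal :=
          Subgroup.normal_subgroupOf_of_le_normalizer P.h'.norm
        refine ⟨⟨z, hle hzQ'⟩, Cores.le_pCore ?_ (Subgroup.mem_subgroupOf.2 hzQ'), rfl⟩
        exact P.h'.pgroup.of_equiv (Subgroup.subgroupOfEquivOfLe hle).symm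
    · have hu2 : u * u = 1 := by
        have : ∀ v ∈ U, v * v = 1 := by
          intro v hv
          rw [hU] at hv
          induction hv using Subgroup.closure_induction with
          | mem y hy =>
            obtain ⟨k, -, rfl⟩ := hy
            calc k * z * k⁻¹ * (k * z * k⁻¹) = k * (z * z) * k⁻¹ := by group
              _ = 1 := by rw [h.zz]; simp
          | one => simp
          | mul y y' hy hy' i1 i2 =>
            have hc : y * y' = y' * y := by
              have hy1 : y ∈ U := by rw [hU]; exact hy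
              have hy2 : y' ∈ U := by rw [hU]; exact hy'
              exact congrArg Subtype.val (hUab.is_comm.comm ⟨y, hy1⟩ ⟨y', hy2⟩)
            calc y * y' * (y * y') = y * (y' * y) * y' := by simp [mul_assoc]
              _ = (y * y) * (y' * y') := by rw [← hc]; simp [mul_assoc]
              _ = 1 := by rw [i1, i2, one_mul]
          | inv y _ i1 => rw [← mul_inv_rev, i1, inv_one]
        exact this u hu.1
      have hu1 : u ≠ 1 := fun e => huz (e ▸ one_mem _)
      refine S5421.result Q hQ hctr hnm u hu.2 (by rwa [h.ctr]) (orderOf_eq_prime (by rw [pow_two, hu2]) hu1) ?_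
      rw [h.ctr, Subgroup.zpowers_le]
      exact ⟨_, hzm, rfl⟩
  refine ⟨LargeExtra.isSimpleGroup_of h hL (fun M hM hzM => ?_), hL⟩
  have hUM : U ≤ M := by
    rw [hU, Subgroup.closure_le]
    rintro _ ⟨k, -, rfl⟩
    exact hM.conj_mem z hzM k
  have hCM : C ≤ M := by
    rw [← hgen, Subgroup.closure_le]
    rintro _ ⟨c, -, u, hu, rfl⟩
    exact hM.conj_mem u (hUM hu) c
  have hNC : Subgroup.normalizer (Q : Set G) ≤ C := by
    intro n hn
    rw [hC, Subgroup.mem_centralizer_singleton_iff]
    have hm : n * z * n⁻¹ ∈ Subgroup.centralizer (Q : Set G) := by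
      rw [Subgroup.mem_centralizer_iff]
      intro q hq
      have hq' : n⁻¹ * q * n ∈ Q := (Subgroup.mem_normalizer_iff''.1 hn q).1 hq
      calc q * (n * z * n⁻¹) = n * ((n⁻¹ * q * n) * z) * n⁻¹ := by group
        _ = _ := by rw [h.comm hq']; group
    rw [h.cent] at hm
    rcases h.mem_zpowers_cases hm with e | e
    · exact absurd (conj_eq_one_iff.1 e) h.ne_one
    · exact mul_inv_eq_iff_eq_mul.1 e
  haveI := hM
  rw [eq_top_iff, ← S5433.result Q hL M (hQC.trans hCM)]
  exact sup_le le_rfl (hNC.trans hCM)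

end Cfsg.Agent.S5427
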