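import Cfsg.Statements.S5428
import Cfsg.Agent.Lib.LargeExtra.Mod
import Cfsg.Agent.S5421

set_option autoImplicit false
open Cfsg

namespace Cfsg.Agent.S5428

open Subgroup

/-- Let z be an involution of the finite group G whose centralizer C has generalized Fitting subgroup Q extraspecial (as a 2-group), let A be a subgroup of C of odd order, and let R be the centralizer of A in Q; suppose R has order at least 32, the largest normal subgroup of odd order of the centralizer of the subgroup generated by A and R lies in A, the order of that centralizer is not divisible by 4, and g is an element of G with g z g⁻¹ in R but outside the centre Z of Q. Let M be the subgroup generated by A and the centralizer of A (A is normal in it). Then: the centralizer in M of the subgroup generated by R and A, joined with A, equals the subgroup generated by A and Z; the image of R in M/A is a large extraspecial 2-subgroup of M/A; and g z g⁻¹ is conjugate to z inside the subgroup generated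 by R and the centralizer of A in g Q g⁻¹. -/
theorem result {G : Type*} [Group G] [Finite G] (z : G) (hz : orderOf z = 2) (Q : Subgroup G) (hQC : Q ≤ Subgroup.centralizer ({z} : Set G)) (hF : (Cfsg.generalizedFittingSubgroup ↥(Subgroup.centralizer ({z} : Set G))).map (Subgroup.centralizer ({z} : Set G)).subtype = Q) (hQ : Cfsg.IsExtraspecial 2 ↥Q) (A : Subgroup G) (hA : A ≤ Subgroup.centralizer ({z} : Set G)) (hAodd : Odd (Nat.card ↥A)) (R : Subgroup G) (hR : R = Q ⊓ Subgroup.centralizer (A : Set G)) (hR32 : 32 ≤ Nat.card ↥R) (hO : (Cfsg.oddCore ↥(Subgroup.centralizer ((A ⊔ R : Subgroup G) : Set G))).map (Subgroup.centralizer ((A ⊔ R : Subgroup G) : Set G)).subtype ≤ A) (h4 : ¬ 4 ∣ Nat.card ↥(Subgroup.centralizer ((A ⊔ R : Subgroup G) : Set G))) (g : G) (hgR : g * z * g⁻¹ ∈ R) (hgZ : g * z * g⁻¹ ∉ ((Subgroup.center ↥Q).map Q.subtype)) (M : Subgroup G) (hM : M = Subgroup.centralizer (A : Set G) ⊔ A) [hn : (A.subgroupOf M).Normal] : (M ⊓ Subgroup.centralizer ((R ⊔ A :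 Subgroup G) : Set G)) ⊔ A = A ⊔ ((Subgroup.center ↥Q).map Q.subtype) ∧ Cfsg.IsLargeExtraspecial ((R.subgroupOf M).map (QuotientGroup.mk' (A.subgroupOf M))) ∧ ∃ x ∈ R ⊔ ((Q).map (MulAut.conj g).toMonoidHom ⊓ Subgroup.centralizer (A : Set G)), x * (g * z * g⁻¹) * x⁻¹ = z := by
  classical
  haveI : Fact (Nat.Prime 2) := ⟨Nat.prime_two⟩
  set a := g * z * g⁻¹ with hadef
  have h : LargeExtra.Ctr Q z := LargeExtra.Ctr.of_fitting hz hQC hF hQ
  have haQ : a ∈ Q := (hR ▸ hgR : a ∈ Q ⊓ centralizer (A : Set G)).1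
  have haA : ∀ b ∈ A, b * a = a * b := fun b hb =>
    mem_centralizer_iff.1 (hR ▸ hgR : a ∈ Q ⊓ centralizer (A : Set G)).2 b hb
  have haz : a ≠ z := fun e => hgZ (by rw [h.ctr]; exact e ▸ mem_zpowers z)
  have ha1 : a ≠ 1 := fun e => hgZ (by rw [h.ctr, e]; exact one_mem _)
  have hRQ : R ≤ Q := hR ▸ inf_le_left
  have hRA : R ≤ centralizer (A : Set G) := hR ▸ inf_le_right
  have hQ32 : 32 ≤ Nat.card ↥Q := hR32.trans (card_le_of_le hRQ)
  have P := LargeExtra.Pair.mk' h haQ haz
  have hzQ' := P.z_mem' hQ32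
  set Q' := Q.map (MulAut.conj g).toMonoidHom with hQ'def
  have hAz : ∀ b ∈ A, b * z = z * b := fun b hb => mem_centralizer_singleton_iff.1 (hA hb)
  have hzR : z ∈ R := hR ▸ ⟨h.z_mem, mem_centralizer_iff.2 hAz⟩
  have hcf : ∀ x ∈ R, (∀ u ∈ R, u * x = x * u) → x = 1 ∨ x = z := by
    rw [hR]; exact fun x hx hxC => h.center_fixed hA hAodd hx hxC
  have hRext : Cfsg.IsExtraspecial 2 ↥R := by
    refine LargeExtra.isExtraspecial_of_center_le h hRQ hcf ⟨a, hgR, ha1, haz⟩
  obtain ⟨d, hdR, hda⟩ : ∃ d ∈ R, d * a * d⁻¹ = z * a := by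
    by_contra hcon
    push Not at hcon
    rcases hcf a hgR (fun u hu =>
      mul_inv_eq_iff_eq_mul.1 ((h.conj_cases (hRQ hu) haQ).resolve_right (hcon u hu))) with e | e
    · exact ha1 e
    · exact haz e
  -- exponent
  obtain ⟨N, hNQ⟩ := IsPGroup.iff_card.1 h.pgroup
  have hexp : ∀ (c r : G), r ∈ Q → (c * r * c⁻¹) ^ 2 ^ N = 1 ∧ r ^ 2 ^ N = 1 := by
    intro c r hr
    have h1 : (⟨r, hr⟩ : ↥Q) ^ 2 ^ N = 1 := by rw [← hNQ]; exact pow_card_eq_one'
    have h2 : r ^ 2 ^ N = 1 := congrArg Subtype.val h1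
    exact ⟨by rw [conj_pow, h2, mul_one, mul_inv_cancel], h2⟩
  have sep : ∀ c r r', r ∈ R → r' ∈ R → (c * r * c⁻¹) * r'⁻¹ ∈ A → c * r * c⁻¹ = r' := fun c r r' hr hr' hd =>
    LargeExtra.eq_of_mod hAodd (hexp c r (hRQ hr)).1 (hexp 1 r' (hRQ hr')).2 hd
      (fun b hb => mem_centralizer_iff.1 (hRA hr') b hb)
  have sep1 : ∀ r r', r ∈ R → r' ∈ R → r * r'⁻¹ ∈ A → r = r' := fun r r' hr hr' hd => by
    simpa using sep 1 r r' hr hr' (by simpa using hd)
  -- the ambient group M
  have hCM : centralizer (A : Set G) ≤ M := hM ▸ le_sup_left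
  have hAM : A ≤ M := hM ▸ le_sup_right
  have hRM : R ≤ M := hRA.trans hCM
  have hCN : centralizer (A : Set G) ≤ normalizer (A : Set G) := centralizer_le_normalizer _
  set An := A.subgroupOf M with hAn
  let π : ↥M →* ↥M ⧸ An := QuotientGroup.mk' An
  have hπ : ∀ x y : ↥M, π x = π y ↔ (y : G) * (x : G)⁻¹ ∈ A := by
    intro x y
    rw [eq_comm, ← mul_inv_eq_one, ← map_inv, ← map_mul]
    show ((y * x⁻¹ : ↥M) : ↥M ⧸ An) = 1 ↔ _
    rw [QuotientGroup.eq_one_iff, hAn, mem_subgroupOf]
    rfl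
  have hrep : ∀ m : ↥M ⧸ An, ∃ c : ↥M, (c : G) ∈ centralizer (A : Set G) ∧ π c = m := by
    intro m
    obtain ⟨⟨x, hx⟩, rfl⟩ := QuotientGroup.mk'_surjective An m
    have hx' : x ∈ A ⊔ centralizer (A : Set G) := by rw [sup_comm, ← hM]; exact hx
    obtain ⟨b, hb, c, hc, rfl⟩ := (Coprime.mem_sup_of_le_normalizer hCN).1 hx'
    refine ⟨⟨c, hCM hc⟩, hc, (hπ _ _).2 ?_⟩
    show b * c * c⁻¹ ∈ A
    simpa using hb
  have himg : ∀ m, m ∈ (R.subgroupOf M).map π ↔ ∃ r, ∃ hr : r ∈ R, π ⟨r, hRM hr⟩ = m := fun m =>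
    ⟨fun ⟨⟨r, _⟩, hr, e⟩ => ⟨r, hr, e⟩, fun ⟨r, hr, e⟩ => ⟨⟨r, hRM hr⟩, hr, e⟩⟩
  set Rb := (R.subgroupOf M).map π with hRb
  have hinj : Function.Injective (π.comp (inclusion hRM)) := fun x y e => by
    have h1 := (hπ _ _).1 e
    exact Subtype.ext (sep1 _ _ y.2 x.2 h1).symm
  have hrange : (π.comp (inclusion hRM)).range = Rb := by
    ext m
    rw [himg, MonoidHom.mem_range]
    exact ⟨fun ⟨⟨r, hr⟩, e⟩ => ⟨r, hr, e⟩, fun ⟨r, hr, e⟩ => ⟨⟨r, hr⟩, e⟩⟩
  have hRbext : Cfsg.IsExtraspecial 2 ↥Rb :=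
    LargeExtra.isExtraspecial_of_equiv hRext
      ((MonoidHom.ofInjective hinj).trans (MulEquiv.subgroupCongr hrange))
  set zb := π ⟨z, hRM hzR⟩ with hzb
  have hzb1 : zb ≠ 1 := fun e => h.ne_one (by
    have h1 := sep1 z 1 hzR (one_mem _) ?_
    · exact h1
    · rw [hzb, ← map_one π, eq_comm, hπ] at e; exact e)
  have hctr : (center ↥Rb).map Rb.subtype = zpowers zb := by
    symm
    refine eq_of_le_of_card_ge ?_ ?_
    · rw [zpowers_le]
      refine ⟨⟨zb, (himg _).2 ⟨z, hzR, rfl⟩⟩, mem_center_iff.2 ?_, rfl⟩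
      rintro ⟨u, hu⟩
      obtain ⟨r, hr, rfl⟩ := (himg _).1 hu
      apply Subtype.ext
      show π _ * π _ = π _ * π _
      rw [← map_mul, ← map_mul]
      exact congrArg π (Subtype.ext (h.comm (hRQ hr)))
    · rw [card_map_of_injective Rb.subtype_injective, hRbext.2, Nat.card_zpowers]
      have : orderOf zb = 2 := orderOf_eq_prime (by
        rw [hzb, ← map_pow, ← map_one π]
        exact congrArg π (Subtype.ext (by rw [SubgroupClass.coe_pow, pow_two]; exact h.zz))) hzb1
      rw [this]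
  -- centralizer of R and A
  have hH : ∀ c, c ∈ centralizer ((A ⊔ R : Subgroup G) : Set G) → c ∈ A ∨ c * z ∈ A := by
    intro c hc
    set H := centralizer ((A ⊔ R : Subgroup G) : Set G)
    have hzH : z ∈ H := by
      show z ∈ centralizer ((A ⊔ R : Subgroup G) : Set G)
      rw [← zpowers_le, Subgroup.le_centralizer_iff]
      refine sup_le ?_ ?_
      · intro b hb
        rw [mem_centralizer_iff]
        intro w hw
        obtain ⟨k, rfl⟩ := mem_zpowers_iff.1 hw
        exact ((Commute.symm (hAz b hb)).zpow_left k).eq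
      · intro b hb
        rw [mem_centralizer_iff]
        intro w hw
        obtain ⟨k, rfl⟩ := mem_zpowers_iff.1 hw
        exact ((Commute.symm (h.comm (hRQ hb))).zpow_left k).eq
    have hzc : (⟨z, hzH⟩ : ↥H) ∈ center ↥H := mem_center_iff.2 fun u => Subtype.ext
      ((mem_centralizer_iff.1 u.2 z (le_sup_right (a := A) hzR)).symm)
    rcases LargeExtra.mem_oddCore_mul hzc (by rw [orderOf_mk]; exact hz) h4 ⟨c, hc⟩ with e | e
    · exact Or.inl (hO ⟨_, e, rfl⟩)
    · exact Or.inr (hO ⟨_, e, rfl⟩)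
  have hfix : ∀ c : ↥M, (c : G) ∈ centralizer (A : Set G) → ∀ r (hr : r ∈ R),
      π c * π ⟨r, hRM hr⟩ = π ⟨r, hRM hr⟩ * π c → (c : G) * r * (c : G)⁻¹ = r := by
    intro c hc r hr e
    rw [← map_mul, ← map_mul, hπ] at e
    have e' : r * ((c : G) * r * (c : G)⁻¹)⁻¹ ∈ A := by
      simpa [mul_assoc] using e
    refine sep _ r r hr hr ?_
    simpa using A.inv_mem e'
  refine ⟨?_, ?_, ?_⟩
  · rw [h.ctr]
    apply le_antisymm
    · refine sup_le ?_ le_sup_left
      rintro x ⟨-, hx⟩
      have hx' : x ∈ centralizer ((A ⊔ R : Subgroup G) : Set G) := by rwa [sup_comm]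
      rcases hH x hx' with e | e
      · exact mem_sup_left e
      · have : x = (x * z) * z⁻¹ := by simp
        rw [this]
        exact mul_mem_sup e ((zpowers z).inv_mem (mem_zpowers z))
    · refine sup_le le_sup_right ?_
      rw [zpowers_le]
      refine mem_sup_left ⟨hRM hzR, ?_⟩
      show z ∈ centralizer ((R ⊔ A : Subgroup G) : Set G)
      rw [← zpowers_le, Subgroup.le_centralizer_iff]
      refine sup_le ?_ ?_ <;> intro b hb <;> rw [mem_centralizer_iff] <;> intro w hw <;>
        obtain ⟨k, rfl⟩ := mem_zpowers_iff.1 hw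
      · exact ((Commute.symm (h.comm (hRQ hb))).zpow_left k).eq
      · exact ((Commute.symm (hAz b hb)).zpow_left k).eq
  · have hab : π ⟨a, hRM hgR⟩ ∈ Rb := (himg _).2 ⟨a, hgR, rfl⟩
    refine S5421.result Rb hRbext ?_ ?_ (π ⟨a, hRM hgR⟩) hab ?_ ?_ ?_
    · rw [hctr]
      apply le_antisymm
      · intro m hm
        obtain ⟨c, hc, rfl⟩ := hrep m
        have hcR : ∀ r (hr : r ∈ R), (c : G) * r * (c : G)⁻¹ = r := fun r hr =>
          hfix c hc r hr (mem_centralizer_iff.1 hm _ ((himg _).2 ⟨r, hr, rfl⟩)).symm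
        have hcH : (c : G) ∈ centralizer ((A ⊔ R : Subgroup G) : Set G) := by
          rw [← zpowers_le, Subgroup.le_centralizer_iff]
          refine sup_le ?_ ?_ <;> intro b hb <;> rw [mem_centralizer_iff] <;> intro w hw <;>
            obtain ⟨k, rfl⟩ := mem_zpowers_iff.1 hw
          · exact ((Commute.symm (mem_centralizer_iff.1 hc b hb)).zpow_left k).eq
          · exact ((show Commute (c : G) b from mul_inv_eq_iff_eq_mul.1 (hcR b hb)).zpow_left k).eq
        rcases hH _ hcH with e | e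
        · have : π c = 1 := by
            rw [← map_one π, eq_comm, hπ]; simpa using e
          rw [this]; exact one_mem _
        · have : π c = zb := by
            rw [hzb, hπ]
            show z * (c : G)⁻¹ ∈ A
            have := A.inv_mem e
            rwa [mul_inv_rev, h.inv_self] at this
          rw [this]; exact mem_zpowers _
      · rw [zpowers_le, mem_centralizer_iff]
        intro m hm
        obtain ⟨r, hr, rfl⟩ := (himg _).1 hm
        rw [hzb, ← map_mul, ← map_mul]
        exact congrArg π (Subtype.ext (h.comm (hRQ hr)))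
    · rw [hctr]
      intro m hm
      obtain ⟨c, hc, rfl⟩ := hrep m
      have hcz : (c : G) * z = z * c := mul_inv_eq_iff_eq_mul.1 (hfix c hc z hzR
        (mem_centralizer_iff.1 hm _ (mem_zpowers _)).symm)
      have hcR : ∀ (e : ↥M), (e : G) * z = z * e → (e : G) ∈ centralizer (A : Set G) →
          ∀ r ∈ R, (e : G) * r * (e : G)⁻¹ ∈ R := by
        intro e hez he r hr
        rw [hR]
        exact ⟨h.conj_mem hez (hRQ hr), (centralizer (A : Set G)).mul_mem ((centralizer (A : Set G)).mul_mem he (hRA hr)) ((centralizer (A : Set G)).inv_mem he)⟩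
      rw [mem_normalizer_iff]
      intro u
      constructor
      · intro hu
        obtain ⟨r, hr, rfl⟩ := (himg _).1 hu
        rw [← map_inv, ← map_mul, ← map_mul]
        exact (himg _).2 ⟨_, hcR c hcz hc r hr, rfl⟩
      · intro hu
        obtain ⟨r, hr, e⟩ := (himg _).1 hu
        have : u = (π c)⁻¹ * π ⟨r, hRM hr⟩ * π c := by
          rw [e]; simp [π, mul_assoc]
        rw [this, ← map_inv, ← map_mul, ← map_mul]
        refine (himg _).2 ⟨_, hcR c⁻¹ ?_ (inv_mem hc) r hr, congrArg π (Subtype.ext ?_)⟩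
        · exact ((show Commute (c : G) z from hcz).inv_left).eq
        · show (c : G)⁻¹ * r * (c : G)⁻¹⁻¹ = (c : G)⁻¹ * r * c
          rw [inv_inv]
    · rw [hctr]
      intro e
      have : orderOf zb = 2 := by
        rw [← Nat.card_zpowers, ← hctr, card_map_of_injective Rb.subtype_injective, hRbext.2]
      obtain ⟨k, hk⟩ := mem_zpowers_iff.1 e
      rw [← zpow_mod_orderOf, this] at hk
      rcases Int.emod_two_eq_zero_or_one k with e2 | e2 <;> push_cast at hk <;> rw [e2] at hk
      · rw [zpow_zero, ← map_one π, eq_comm] at hk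
        exact ha1 (sep1 a 1 hgR (one_mem _) (by simpa using (hπ _ _).1 hk.symm))
      · rw [zpow_one, hzb, hπ] at hk
        exact haz (sep1 a z hgR hzR hk)
    · have ha2 : a * a = 1 := by
        rw [hadef]
        calc g * z * g⁻¹ * (g * z * g⁻¹) = g * (z * z) * g⁻¹ := by group
          _ = 1 := by rw [h.zz]; simp
      refine orderOf_eq_prime ?_ ?_
      · rw [← map_pow, ← map_one π]
        exact congrArg π (Subtype.ext (by rw [SubgroupClass.coe_pow, pow_two]; exact ha2))
      · intro e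
        rw [← map_one π, eq_comm, hπ] at e
        exact ha1 (sep1 a 1 hgR (one_mem _) e)
    · rw [hctr, zpowers_le]
      set ab := π ⟨a, hRM hgR⟩ with habdef
      set Cb := centralizer ({ab} : Set (↥M ⧸ An)) with hCb
      set P0 := ((Q' ⊓ centralizer (A : Set G)).subgroupOf M).map π with hP0
      have hP0le : P0 ≤ Cb := by
        rintro _ ⟨x, hx, rfl⟩
        rw [hCb, mem_centralizer_singleton_iff, habdef, ← map_mul, ← map_mul]
        exact congrArg π (Subtype.ext (P.h'.comm (mem_subgroupOf.1 hx).1))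
      haveI : (P0.subgroupOf Cb).Normal := by
        refine ⟨fun x hx y => ?_⟩
        rw [mem_subgroupOf] at hx ⊢
        obtain ⟨⟨u, huM⟩, hu, e⟩ := hx
        obtain ⟨c, hc, hce⟩ := hrep (y : ↥M ⧸ An)
        have hca : (c : G) * a = a * c := mul_inv_eq_iff_eq_mul.1 (hfix c hc a hgR (by
          rw [hce]; exact mem_centralizer_singleton_iff.1 y.2))
        refine ⟨c * ⟨u, huM⟩ * c⁻¹, ⟨P.h'.conj_mem hca hu.1, (centralizer (A : Set G)).mul_mem ((centralizer (A : Set G)).mul_mem hc hu.2) ((centralizer (A : Set G)).inv_mem hc)⟩, ?_⟩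
        rw [map_mul, map_mul, map_inv, hce, e]
        rfl
      have hp0 : IsPGroup 2 ↥(P0.subgroupOf Cb) := by
        refine IsPGroup.of_equiv ?_ (subgroupOfEquivOfLe hP0le).symm
        refine IsPGroup.map ?_ π
        exact (P.h'.pgroup.to_le inf_le_left).of_equiv (subgroupOfEquivOfLe (inf_le_right.trans hCM)).symm
      have hmem : zb ∈ P0 := ⟨⟨z, hRM hzR⟩, ⟨hzQ', hRA hzR⟩, rfl⟩
      exact ⟨⟨zb, hP0le hmem⟩, Cores.le_pCore hp0 hmem, rfl⟩
  · obtain ⟨y, hy, hyz⟩ : ∃ y ∈ Q' ⊓ centralizer (A : Set G), y * z * y⁻¹ = a * z := by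
      by_contra hcon
      push Not at hcon
      have hA' : A ≤ centralizer ({a} : Set G) := fun b hb =>
        mem_centralizer_singleton_iff.2 (haA b hb)
      rcases P.h'.center_fixed hA' hAodd ⟨hzQ', hRA hzR⟩ (fun u hu => mul_inv_eq_iff_eq_mul.1
        ((P.h'.conj_cases hu.1 hzQ').resolve_right (hcon u hu))) with e | e
      · exact h.ne_one e
      · exact haz e.symm
    refine ⟨y * d, mul_mem (mem_sup_right hy) (mem_sup_left hdR), ?_⟩
    calc y * d * a * (y * d)⁻¹ = y * (d * a * d⁻¹) * y⁻¹ := by group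
      _ = (y * z * y⁻¹) * (y * a * y⁻¹) := by rw [hda]; group
      _ = a * z * a := by rw [hyz, P.h'.conj_z hy.1]
      _ = z := by rw [P.az, mul_assoc, P.h'.zz, mul_one]

end Cfsg.Agent.S5428
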