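import Cfsg.Statements.S5429
import Cfsg.Agent.Lib.LargeExtra.Mod
import Cfsg.Agent.S5421

set_option autoImplicit false
open Cfsg

namespace Cfsg.Agent.S5429

open Subgroup
open scoped commutatorElement

theorem zpowers_two {G : Type*} [Group G] {t : G} (ht : orderOf t = 2) {x : G} (hx : x ∈ zpowers t) :
    x = 1 ∨ x = t := by
  obtain ⟨k, rfl⟩ := mem_zpowers_iff.1 hx
  rw [← zpow_mod_orderOf, ht]
  rcases Int.emod_two_eq_zero_or_one k with e | e <;> push_cast <;> rw [e]
  · exact Or.inl (zpow_zero t)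
  · exact Or.inr (zpow_one t)

/-- Let z be an involution of the finite group G with centralizer C whose generalized Fitting subgroup Q is extraspecial of width at least 3 (order 2^(2w+1), w ≥ 3); let g be an element of G with g z g⁻¹ in Q but outside the centre Z of Q, and t an involution lying in both Q and g Q g⁻¹ that is not conjugate to z; write P for the centralizer of t in Q and suppose that the elements of C acting trivially by conjugation on P modulo the subgroup generated by t and z are exactly the elements of Q. Then the image of P in the centralizer of t modulo the subgroup generated by t is a large extraspecial 2-subgroup there, and g z g⁻¹ is conjugate to z inside the subgroup generated by P and the centralizer of t in g Q g⁻¹. -/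
theorem result {G : Type*} [Group G] [Finite G] (z : G) (hz : orderOf z = 2) (Q : Subgroup G) (hQC : Q ≤ Subgroup.centralizer ({z} : Set G)) (hF : (Cfsg.generalizedFittingSubgroup ↥(Subgroup.centralizer ({z} : Set G))).map (Subgroup.centralizer ({z} : Set G)).subtype = Q) (hQ : Cfsg.IsExtraspecial 2 ↥Q) (w : ℕ) (hw : 3 ≤ w) (hcard : Nat.card ↥Q = 2 ^ (2 * w + 1)) (g : G) (hgQ : g * z * g⁻¹ ∈ Q) (hgZ : g * z * g⁻¹ ∉ ((Subgroup.center ↥Q).map Q.subtype)) (t : G) (ht : orderOf t = 2) (htQ : t ∈ Q ⊓ (Q).map (MulAut.conj g).toMonoidHom) (htz : ¬ IsConj z t) (P : Subgroup G) (hP : P = Q ⊓ Subgroup.centralizer ({t} : Set G)) (hCP : ∀ c ∈ Subgroup.centralizer ({z} : Set G), (∀ x ∈ P, ∃ y ∈ Subgroup.closure ({t, z} : Set G), c * x * c⁻¹ = x * y) ↔ c ∈ Q) [hn : ((Subgroup.zpowers t).subgroupOf (Subgroup.centralizer ({t} : Set G))).Normal] : Cfsg.IsLargeExtraspecial ((P.subgroupOf (Subgroup.centralizer ({t} : Set G))).map (QuotientGroup.mk' ((Subgroup.zpowers t).subgroupOf (Subgroup.centralizer ({t}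 : Set G))))) ∧ ∃ x ∈ P ⊔ ((Q).map (MulAut.conj g).toMonoidHom ⊓ Subgroup.centralizer ({t} : Set G)), x * (g * z * g⁻¹) * x⁻¹ = z := by
  classical
  haveI : Fact (Nat.Prime 2) := ⟨Nat.prime_two⟩
  set a := g * z * g⁻¹ with hadef
  have h : LargeExtra.Ctr Q z := LargeExtra.Ctr.of_fitting hz hQC hF hQ
  have hza : IsConj z a := isConj_iff.2 ⟨g, rfl⟩
  have haz : a ≠ z := fun e => hgZ (by rw [h.ctr]; exact e ▸ mem_zpowers z)
  have ha1 : a ≠ 1 := fun e => hgZ (by rw [h.ctr, e]; exact one_mem _)
  have hQ32 : 32 ≤ Nat.card ↥Q := by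
    rw [hcard]
    calc 32 = 2 ^ 5 := by norm_num
      _ ≤ 2 ^ (2 * w + 1) := Nat.pow_le_pow_right (by norm_num) (by omega)
  have PP := LargeExtra.Pair.mk' h hgQ haz
  have hzQ' := PP.z_mem' hQ32
  set Q' := Q.map (MulAut.conj g).toMonoidHom with hQ'def
  obtain ⟨htQ, htQ'⟩ := htQ
  have ht1 : t ≠ 1 := fun e => by simp [e] at ht
  have htne : t ≠ z := fun e => htz (e ▸ IsConj.refl z)
  have htna : t ≠ a := fun e => htz (e ▸ hza)
  have htt : t * t = 1 := by rw [← pow_two, ← ht, pow_orderOf_eq_one]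
  have hti : t⁻¹ = t := inv_eq_of_mul_eq_one_right htt
  have hzt_t : IsConj t (z * t) := by
    obtain ⟨q, hq, e⟩ := h.exists_move htQ ht1 htne
    exact isConj_iff.2 ⟨q, e⟩
  have hat_t : IsConj t (a * t) := by
    obtain ⟨q, hq, e⟩ := PP.h'.exists_move htQ' ht1 htna
    exact isConj_iff.2 ⟨q, e⟩
  have hat : a * t = t * a := (PP.h'.comm htQ').symm
  have hztc : z * t = t * z := (h.comm htQ).symm
  have haP : a ∈ P := hP ▸ ⟨hgQ, mem_centralizer_singleton_iff.2 hat⟩
  have hPQ : P ≤ Q := hP ▸ inf_le_left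
  have hPC : P ≤ centralizer ({t} : Set G) := hP ▸ inf_le_right
  have hzP : z ∈ P := hP ▸ ⟨h.z_mem, mem_centralizer_singleton_iff.2 hztc⟩
  have hcP : ∀ x ∈ P, (∀ u ∈ P, u * x = x * u) → x = 1 ∨ x = z ∨ x = t ∨ x = z * t := by
    intro x hx hxC
    refine h.double_centralizer htQ ht1 htne (hPQ hx) fun u hu hut => hxC u ?_
    rw [hP]; exact ⟨hu, mem_centralizer_singleton_iff.2 hut⟩
  obtain ⟨d, hdP, hda⟩ : ∃ d ∈ P, d * a * d⁻¹ = z * a := by
    by_contra hcon
    push Not at hcon
    rcases hcP a haP (fun u hu =>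
      mul_inv_eq_iff_eq_mul.1 ((h.conj_cases (hPQ hu) hgQ).resolve_right (hcon u hu))) with e | e | e | e
    · exact ha1 e
    · exact haz e
    · exact htna e.symm
    · exact htz (hza.trans (by rw [e]; exact hzt_t.symm))
  set C := centralizer ({t} : Set G) with hC
  set T := (zpowers t).subgroupOf C with hT
  let π : ↥C →* ↥C ⧸ T := QuotientGroup.mk' T
  have hπ : ∀ x y : ↥C, π x = π y ↔ ((y : G) = x ∨ (y : G) = t * x) := by
    intro x y
    rw [eq_comm, ← mul_inv_eq_one, ← map_inv, ← map_mul]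
    show ((y * x⁻¹ : ↥C) : ↥C ⧸ T) = 1 ↔ _
    rw [QuotientGroup.eq_one_iff, hT, mem_subgroupOf]
    show (y : G) * (x : G)⁻¹ ∈ zpowers t ↔ _
    constructor
    · intro hm
      rcases zpowers_two ht hm with e | e
      · exact Or.inl (mul_inv_eq_one.1 e)
      · exact Or.inr (mul_inv_eq_iff_eq_mul.1 e)
    · rintro (e | e) <;> rw [e]
      · simp
      · simp
  have himg : ∀ m, m ∈ (P.subgroupOf C).map π ↔ ∃ r, ∃ hr : r ∈ P, π ⟨r, hPC hr⟩ = m := fun m =>
    ⟨fun ⟨⟨r, _⟩, hr, e⟩ => ⟨r, hr, e⟩, fun ⟨r, hr, e⟩ => ⟨⟨r, hPC hr⟩, hr, e⟩⟩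
  set Pb := (P.subgroupOf C).map π with hPb
  set zb := π ⟨z, hPC hzP⟩ with hzb
  have hzb1 : zb ≠ 1 := by
    intro e
    rw [hzb, ← map_one π, eq_comm, hπ] at e
    rcases e with e | e
    · exact h.ne_one e
    · exact htne (by simpa using e.symm)
  have hzb2 : zb * zb = 1 := by
    rw [hzb, ← map_mul, ← map_one π]
    exact congrArg π (Subtype.ext h.zz)
  have hord : orderOf zb = 2 := orderOf_eq_prime (by rw [pow_two, hzb2]) hzb1
  -- congruence mod t of commutators in Q
  have hmodQ : ∀ u x, u ∈ Q → x ∈ Q → (u * x * u⁻¹ = x ∨ u * x * u⁻¹ = t * x) → u * x * u⁻¹ = x := by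
    intro u x hu hx e
    rcases h.conj_cases hu hx with e' | e'
    · exact e'
    · rcases e with e | e
      · exact e
      · exact absurd (mul_right_cancel (e'.symm.trans e)) htne.symm
  have hcz : ∀ (m : ↥C), π m * zb = zb * π m → (m : G) * z = z * m := by
    intro m e
    rw [hzb, ← map_mul, ← map_mul, hπ] at e
    rcases e with e | e
    · exact e.symm
    · exfalso
      apply htz
      have e' : z * (m : G) = t * ((m : G) * z) := e
      have e2 : (m : G) * z * (m : G)⁻¹ = t * z := by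
        calc (m : G) * z * (m : G)⁻¹ = t⁻¹ * (t * ((m : G) * z)) * (m : G)⁻¹ := by simp [mul_assoc]
          _ = _ := by rw [← e']; simp [mul_assoc, hti]
      refine (isConj_iff.2 ⟨(m : G), e2⟩).trans ?_
      rw [← hztc]
      exact hzt_t.symm
  have hctr : (center ↥Pb).map Pb.subtype = zpowers zb := by
    apply le_antisymm
    · rintro _ ⟨⟨m, hm⟩, hmc, rfl⟩
      obtain ⟨r, hr, rfl⟩ := (himg _).1 hm
      show π ⟨r, hPC hr⟩ ∈ zpowers zb
      have hrc : ∀ u ∈ P, u * r = r * u := by
        intro u hu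
        have e := congrArg Subtype.val (mem_center_iff.1 hmc ⟨_, (himg _).2 ⟨u, hu, rfl⟩⟩)
        change π _ * π _ = π _ * π _ at e
        rw [← map_mul, ← map_mul, hπ] at e
        refine mul_inv_eq_iff_eq_mul.1 (hmodQ u r (hPQ hu) (hPQ hr) ?_)
        rcases e with e | e
        · left
          change r * u = u * r at e
          rw [← e]; simp
        · right
          change r * u = t * (u * r) at e
          calc u * r * u⁻¹ = t * (t * (u * r)) * u⁻¹ := by simp [← mul_assoc, htt]
            _ = t * r := by rw [← e]; simp [mul_assoc]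
      rcases hcP r hr hrc with e | e | e | e
      · have : π ⟨r, hPC hr⟩ = 1 := by rw [← map_one π]; exact congrArg π (Subtype.ext e)
        rw [this]; exact one_mem _
      · have : π ⟨r, hPC hr⟩ = zb := congrArg π (Subtype.ext e)
        rw [this]; exact mem_zpowers _
      · have : π ⟨r, hPC hr⟩ = 1 := by
          rw [← map_one π, hπ]; right
          show (1 : G) = t * r
          rw [e, htt]
        rw [this]; exact one_mem _
      · have : π ⟨r, hPC hr⟩ = zb := by
          rw [hzb, hπ]; right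
          show z = t * r
          rw [e, hztc, ← mul_assoc, htt, one_mul]
        rw [this]; exact mem_zpowers _
    · rw [zpowers_le]
      refine ⟨⟨zb, (himg _).2 ⟨z, hzP, rfl⟩⟩, mem_center_iff.2 ?_, rfl⟩
      rintro ⟨u, hu⟩
      obtain ⟨r, hr, rfl⟩ := (himg _).1 hu
      apply Subtype.ext
      show π _ * π _ = π _ * π _
      rw [← map_mul, ← map_mul]
      exact congrArg π (Subtype.ext (h.comm (hPQ hr)))
  have hab : π ⟨a, hPC haP⟩ ∈ Pb := (himg _).2 ⟨a, haP, rfl⟩
  have hPp : IsPGroup 2 ↥Pb :=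
    ((h.pgroup.to_le hPQ).of_equiv (subgroupOfEquivOfLe hPC).symm).map π
  have hext : Cfsg.IsExtraspecial 2 ↥Pb := by
    have hzm : ∀ u : ↥Pb, (u : ↥C ⧸ T) = 1 ∨ (u : ↥C ⧸ T) = zb → u ∈ center ↥Pb := by
      intro u hu
      have : (u : ↥C ⧸ T) ∈ (center ↥Pb).map Pb.subtype := by
        rw [hctr]
        rcases hu with e | e <;> rw [e]
        · exact one_mem _
        · exact mem_zpowers _
      obtain ⟨v, hv, e⟩ := this
      exact Subtype.ext e ▸ hv
    have hle : commutator ↥Pb ≤ center ↥Pb := by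
      rw [_root_.commutator_def, commutator_le]
      intro u _ v _
      apply hzm
      obtain ⟨r, hr, e⟩ := (himg _).1 u.2
      obtain ⟨s, hs, e'⟩ := (himg _).1 v.2
      rw [commutatorElement_def, coe_mul, coe_mul, coe_mul, coe_inv, coe_inv, ← e, ← e', ← map_inv, ← map_inv,
        ← map_mul, ← map_mul, ← map_mul]
      rcases h.conj_cases (hPQ hr) (hPQ hs) with k | k
      · left; rw [← map_one π]
        exact congrArg π (Subtype.ext (show r * s * r⁻¹ * s⁻¹ = 1 by rw [k, mul_inv_cancel]))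
      · right
        exact congrArg π (Subtype.ext (show r * s * r⁻¹ * s⁻¹ = z by rw [k, mul_inv_cancel_right]))
    have hc2 : Nat.card ↥(center ↥Pb) = 2 := by
      rw [← card_map_of_injective Pb.subtype_injective, hctr, Nat.card_zpowers, hord]
    have heq : commutator ↥Pb = center ↥Pb := by
      refine eq_of_le_of_card_ge hle ?_
      rw [hc2]
      refine (one_lt_card_iff_ne_bot _).2 fun e => ?_
      have h0 : ⁅(⟨_, (himg _).2 ⟨d, hdP, rfl⟩⟩ : ↥Pb), ⟨_, hab⟩⁆ ∈ commutator ↥Pb :=
        commutator_mem_commutator (mem_top _) (mem_top _)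
      rw [e, mem_bot, Subtype.ext_iff, commutatorElement_def, coe_mul, coe_mul, coe_mul, coe_inv, coe_inv,
        coe_one, ← map_inv, ← map_inv, ← map_mul, ← map_mul, ← map_mul] at h0
      apply hzb1
      rw [← h0]
      exact congrArg π (Subtype.ext (show z = d * a * d⁻¹ * a⁻¹ by rw [hda, mul_inv_cancel_right]))
    refine ⟨⟨hPp, le_antisymm ?_ ?_, heq⟩, hc2⟩
    · have := Cfsg.Agent.CharP.frattini_le_ker (p := 2) (QuotientGroup.mk' (center ↥Pb)) (fun u v => by
        show (u : ↥Pb ⧸ center ↥Pb) * v = v * u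
        rw [← QuotientGroup.mk_mul, ← QuotientGroup.mk_mul, QuotientGroup.eq]
        have h0 : ⁅v⁻¹, u⁻¹⁆ ∈ center ↥Pb := hle (commutator_mem_commutator (mem_top _) (mem_top _))
        convert h0 using 1
        simp [commutatorElement_def, mul_assoc])
        (fun u => by
          rw [QuotientGroup.mk'_apply, ← QuotientGroup.mk_pow, QuotientGroup.eq_one_iff]
          apply hzm
          obtain ⟨r, hr, e⟩ := (himg _).1 u.2
          rw [SubgroupClass.coe_pow, ← e, ← map_pow]
          rcases h.sq_cases (hPQ hr) with k | k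
          · left; rw [← map_one π]
            exact congrArg π (Subtype.ext (show r ^ 2 = 1 by rw [pow_two, k]))
          · right
            exact congrArg π (Subtype.ext (show r ^ 2 = z by rw [pow_two, k])))
      rwa [QuotientGroup.ker_mk'] at this
    · haveI := hPp.isNilpotent
      rw [← heq]
      exact Cfsg.Agent.Coprime.commutator_le_frattini _
  refine ⟨S5421.result Pb hext ?_ ?_ (π ⟨a, hPC haP⟩) hab ?_ ?_ ?_, ?_⟩
  · rw [hctr]
    apply le_antisymm
    · intro m hm
      obtain ⟨c, rfl⟩ := QuotientGroup.mk'_surjective T m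
      have hcz' : (c : G) * z = z * c :=
        hcz c (mem_centralizer_iff.1 hm _ ((himg _).2 ⟨z, hzP, rfl⟩)).symm
      have hcQ : (c : G) ∈ Q := by
        refine (hCP c (mem_centralizer_singleton_iff.2 hcz')).1 fun x hx => ?_
        have e := mem_centralizer_iff.1 hm _ ((himg _).2 ⟨x, hx, rfl⟩)
        change π _ * π c = π c * π _ at e
        rw [← map_mul, ← map_mul, hπ] at e
        rcases e with e | e
        · refine ⟨1, one_mem _, ?_⟩
          change (c : G) * x = x * c at e
          rw [e]; simp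
        · refine ⟨t, subset_closure (by simp), ?_⟩
          change (c : G) * x = t * (x * c) at e
          rw [e, mul_assoc, mul_inv_cancel_right]
          exact (mem_centralizer_singleton_iff.1 (hPC hx)).symm
      have hcPb : π c ∈ Pb := by
        have hcP' : (c : G) ∈ P := by rw [hP]; exact ⟨hcQ, c.2⟩
        exact (himg _).2 ⟨c, hcP', rfl⟩
      rw [← hctr]
      exact ⟨⟨_, hcPb⟩, mem_center_iff.2 fun u => Subtype.ext (mem_centralizer_iff.1 hm u u.2), rfl⟩
    · rw [zpowers_le, mem_centralizer_iff]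
      intro m hm
      obtain ⟨r, hr, rfl⟩ := (himg _).1 hm
      rw [hzb, ← map_mul, ← map_mul]
      exact congrArg π (Subtype.ext (h.comm (hPQ hr)))
  · rw [hctr]
    intro m hm
    obtain ⟨c, rfl⟩ := QuotientGroup.mk'_surjective T m
    have hcz' : (c : G) * z = z * c := hcz c (mem_centralizer_iff.1 hm _ (mem_zpowers _)).symm
    have hcPP : ∀ (e : ↥C), (e : G) * z = z * e → ∀ r ∈ P, (e : G) * r * (e : G)⁻¹ ∈ P := by
      intro e hez r hr
      rw [hP]
      exact ⟨h.conj_mem hez (hPQ hr), C.mul_mem (C.mul_mem e.2 (hPC hr)) (C.inv_mem e.2)⟩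
    rw [mem_normalizer_iff]
    intro u
    constructor
    · intro hu
      obtain ⟨r, hr, rfl⟩ := (himg _).1 hu
      rw [← map_inv, ← map_mul, ← map_mul]
      exact (himg _).2 ⟨_, hcPP c hcz' r hr, rfl⟩
    · intro hu
      obtain ⟨r, hr, e⟩ := (himg _).1 hu
      have : u = (π c)⁻¹ * π ⟨r, hPC hr⟩ * π c := by
        rw [e]; simp [π, mul_assoc]
      rw [this, ← map_inv, ← map_mul, ← map_mul]
      refine (himg _).2 ⟨_, hcPP c⁻¹ ?_ r hr, congrArg π (Subtype.ext ?_)⟩
      · exact ((show Commute (c : G) z from hcz').inv_left).eq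
      · show (c : G)⁻¹ * r * (c : G)⁻¹⁻¹ = (c : G)⁻¹ * r * c
        rw [inv_inv]
  · rw [hctr]
    intro e
    rcases zpowers_two hord e with k | k
    · rw [← map_one π, eq_comm, hπ] at k
      rcases k with k | k
      · exact ha1 k
      · exact htna (by simpa using k.symm)
    · rw [hzb, hπ] at k
      rcases k with k | k
      · exact haz k.symm
      · apply htz
        change z = t * a at k
        have : IsConj z t := by rw [k, ← hat]; exact hat_t.symm
        exact this
  · refine orderOf_eq_prime ?_ ?_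
    · rw [← map_pow, ← map_one π]
      exact congrArg π (Subtype.ext (by rw [SubgroupClass.coe_pow, pow_two]; exact PP.h'.zz))
    · intro e
      rw [← map_one π, eq_comm, hπ] at e
      rcases e with e | e
      · exact ha1 e
      · exact htna (by simpa using e.symm)
  · rw [hctr, zpowers_le]
    set ab := π ⟨a, hPC haP⟩ with habdef
    set Cb := centralizer ({ab} : Set (↥C ⧸ T)) with hCb
    set P0 := ((Q' ⊓ C).subgroupOf C).map π with hP0
    have hP0le : P0 ≤ Cb := by
      rintro _ ⟨x, hx, rfl⟩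
      rw [hCb, mem_centralizer_singleton_iff, habdef, ← map_mul, ← map_mul]
      exact congrArg π (Subtype.ext (PP.h'.comm (mem_subgroupOf.1 hx).1))
    haveI : (P0.subgroupOf Cb).Normal := by
      refine ⟨fun x hx y => ?_⟩
      rw [mem_subgroupOf] at hx ⊢
      obtain ⟨⟨u, huC⟩, hu, e⟩ := hx
      obtain ⟨c, hce⟩ := QuotientGroup.mk'_surjective T (y : ↥C ⧸ T)
      have hca : (c : G) * a = a * c := by
        have e1 := mem_centralizer_singleton_iff.1 y.2
        rw [← hce] at e1
        change π c * π _ = π _ * π c at e1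
        rw [← map_mul, ← map_mul, hπ] at e1
        rcases e1 with e1 | e1
        · exact e1.symm
        · exfalso
          apply htz
          change a * (c : G) = t * ((c : G) * a) at e1
          have e2 : (c : G) * a * (c : G)⁻¹ = t * a := by
            calc (c : G) * a * (c : G)⁻¹ = t⁻¹ * (t * ((c : G) * a)) * (c : G)⁻¹ := by simp [mul_assoc]
              _ = _ := by rw [← e1]; simp [mul_assoc, hti]
          refine hza.trans ((isConj_iff.2 ⟨(c : G), e2⟩).trans ?_)
          rw [← hat]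
          exact hat_t.symm
      refine ⟨c * ⟨u, huC⟩ * c⁻¹, ⟨PP.h'.conj_mem hca hu.1,
        C.mul_mem (C.mul_mem c.2 huC) (C.inv_mem c.2)⟩, ?_⟩
      show π _ = _
      rw [map_mul, map_mul, map_inv]
      show π c * π ⟨u, huC⟩ * (π c)⁻¹ = _
      rw [show π ⟨u, huC⟩ = _ from e, show π c = _ from hce]
      rfl
    have hp0 : IsPGroup 2 ↥(P0.subgroupOf Cb) := by
      refine IsPGroup.of_equiv ?_ (subgroupOfEquivOfLe hP0le).symm
      refine IsPGroup.map ?_ π
      exact (PP.h'.pgroup.to_le inf_le_left).of_equiv (subgroupOfEquivOfLe inf_le_right).symm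
    have hmem : zb ∈ P0 := ⟨⟨z, hPC hzP⟩, ⟨hzQ', hPC hzP⟩, rfl⟩
    exact ⟨⟨zb, hP0le hmem⟩, Cores.le_pCore hp0 hmem, rfl⟩
  · obtain ⟨y, hy, hyz⟩ : ∃ y ∈ Q' ⊓ C, y * z * y⁻¹ = a * z := by
      by_contra hcon
      push Not at hcon
      rcases PP.h'.double_centralizer htQ' ht1 htna hzQ' (fun u hu hut =>
        mul_inv_eq_iff_eq_mul.1 ((PP.h'.conj_cases hu hzQ').resolve_right
          (hcon u ⟨hu, mem_centralizer_singleton_iff.2 hut⟩))) with e | e | e | e
      · exact h.ne_one e
      · exact haz e.symm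
      · exact htne e.symm
      · exact htz (by rw [e]; exact hat_t.symm)
    refine ⟨y * d, mul_mem (mem_sup_right hy) (mem_sup_left hdP), ?_⟩
    calc y * d * a * (y * d)⁻¹ = y * (d * a * d⁻¹) * y⁻¹ := by group
      _ = (y * z * y⁻¹) * (y * a * y⁻¹) := by rw [hda]; group
      _ = a * z * a := by rw [hyz, PP.h'.conj_z hy.1]
      _ = z := by rw [PP.az, mul_assoc, PP.h'.zz, mul_one]

end Cfsg.Agent.S5429
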