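import Cfsg.Statements.S5430
import Cfsg.Agent.Lib.LargeExtra.Center
import Cfsg.Agent.Lib.Cores.Basic

set_option autoImplicit false
open Cfsg

namespace Cfsg.Agent.S5430

open Subgroup in
theorem pCore_perm3 : Cfsg.pCore 2 (Equiv.Perm (Fin 3)) = ⊥ := by
  haveI : Fact (Nat.Prime 2) := ⟨Nat.prime_two⟩
  rw [eq_bot_iff]
  intro τ hτ
  rw [mem_bot]
  have hp := Cores.pCore_isPGroup (G := Equiv.Perm (Fin 3)) 2
  have sq : ∀ σ ∈ Cfsg.pCore 2 (Equiv.Perm (Fin 3)), σ ^ 2 = 1 := by
    intro σ hσ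
    obtain ⟨k, hk⟩ := hp ⟨σ, hσ⟩
    have h1 : σ ^ (2 ^ k) = 1 := congrArg Subtype.val hk
    have h6 : σ ^ 6 = 1 := by
      have := pow_card_eq_one' (x := σ)
      rwa [Nat.card_perm, Nat.card_fin] at this
    have hd : orderOf σ ∣ 2 := by
      have := Nat.dvd_gcd (orderOf_dvd_of_pow_eq_one h1) (orderOf_dvd_of_pow_eq_one h6)
      refine this.trans ?_
      rcases k with _ | k
      · simp
      · rw [pow_succ', show (6 : ℕ) = 2 * 3 from rfl, Nat.gcd_mul_left,
          Nat.Coprime.gcd_eq_one ((show Nat.Coprime 2 3 by decide).pow_left k)]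
    exact orderOf_dvd_iff_pow_eq_one.1 hd
  have hall : ∀ σ, (σ * τ * σ⁻¹ * τ) ^ 2 = 1 := fun σ =>
    sq _ (mul_mem ((Cores.pCore_normal 2).conj_mem _ hτ σ) hτ)
  have hτ2 := sq τ hτ
  clear hτ sq hp
  revert τ
  decide +kernel

/-- Let Q be a large extraspecial 2-subgroup of the finite group G (extraspecial; centralizer equal to its centre; normal in the centralizer of its centre; normalizing no non-trivial subgroup of odd order) with centre generated by z, an involution, of width w ≥ 2 (order 2^(2w+1)); let g be an element outside the centralizer H of z with g z g⁻¹ in Q; write V for the subgroup generated by z and g z g⁻¹, X for the subgroup generated by Q and g Q g⁻¹, R for the subgroup generated by the centralizer of z in g Q g⁻¹ and the centralizer of g z g⁻¹ in Q, and E for the intersection of Q and g Q g⁻¹. Then R is the centralizer of V in X and is the largest normal 2-subgroup of X, and X/R is isomorphic to the symmetric group of degree 3; moreover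 the normalizer of V is the product of X and the centralizer of V in H, X is normal in it, and modulo R it is the direct product of X/R and of the centralizer of V in H modulo R. -/
theorem result {G : Type*} [Group G] [Finite G] (Q : Subgroup G) (hQ : Cfsg.IsLargeExtraspecial Q) (z : G) (hz : ((Subgroup.center ↥Q).map Q.subtype) = Subgroup.zpowers z) (hz2 : orderOf z = 2) (w : ℕ) (hw : 2 ≤ w) (hcard : Nat.card ↥Q = 2 ^ (2 * w + 1)) (g : G) (hgH : g ∉ Subgroup.centralizer ({z} : Set G)) (hgQ : g * z * g⁻¹ ∈ Q) (V X R E : Subgroup G) (hV : V = Subgroup.closure ({z, g * z * g⁻¹} : Set G)) (hX : X = Q ⊔ (Q).map (MulAut.conj g).toMonoidHom) (hR : R = ((Q).map (MulAut.conj g).toMonoidHom ⊓ Subgroup.centralizer ({z} : Set G)) ⊔ (Q ⊓ Subgroup.centralizer ({g * z * g⁻¹} : Set G))) (hE : E = Q ⊓ (Q).map (MulAut.conj g).toMonoidHom) : R = X ⊓ Subgroup.centralizer (V : Set G) ∧ R = (Cfsg.pCore 2 ↥X).map X.subtype ∧ (∃ h : (R.subgroupOf X).Normal, Nonempty (↥X ⧸ R.subgroupOf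 X ≃* Equiv.Perm (Fin 3))) ∧ Subgroup.normalizer (V : Set G) = X ⊔ (Subgroup.centralizer ({z} : Set G) ⊓ Subgroup.centralizer (V : Set G)) ∧ (∀ y ∈ Subgroup.normalizer (V : Set G), ∀ x ∈ X, y * x * y⁻¹ ∈ X) ∧ R ≤ Subgroup.centralizer ({z} : Set G) ⊓ Subgroup.centralizer (V : Set G) ∧ (∀ x ∈ X, ∀ c ∈ Subgroup.centralizer ({z} : Set G) ⊓ Subgroup.centralizer (V : Set G), x * c * x⁻¹ * c⁻¹ ∈ R) ∧ X ⊓ (Subgroup.centralizer ({z} : Set G) ⊓ Subgroup.centralizer (V : Set G)) = R := by
  have hgz : g * z * g⁻¹ ≠ z := fun e =>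
    hgH (Subgroup.mem_centralizer_singleton_iff.2 (mul_inv_eq_iff_eq_mul.1 e))
  have h32 : 32 ≤ Nat.card ↥Q := by
    rw [hcard]
    calc 32 = 2 ^ 5 := by norm_num
      _ ≤ 2 ^ (2 * w + 1) := Nat.pow_le_pow_right (by norm_num) (by omega)
  have P := (LargeExtra.Pair.mk' (LargeExtra.Ctr.of_large hQ hz hz2) hgQ hgz).two h32
  obtain ⟨hR', hiso, hN⟩ := P.quotient_data
  have hc : LargeExtra.core Q (Q.map (MulAut.conj g).toMonoidHom) z (g * z * g⁻¹) = R := hR.symm
  have hVc : Subgroup.centralizer (V : Set G) = Subgroup.centralizer ({z, g * z * g⁻¹} : Set G) := by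
    rw [hV, Subgroup.centralizer_closure]
  have hzc : Subgroup.centralizer (V : Set G) ≤ Subgroup.centralizer ({z} : Set G) :=
    Subgroup.centralizer_le (by rw [hV]; exact Set.singleton_subset_iff.2 (Subgroup.subset_closure (by simp)))
  have hinf : Subgroup.centralizer ({z} : Set G) ⊓ Subgroup.centralizer (V : Set G) =
      Subgroup.centralizer (V : Set G) := inf_eq_right.2 hzc
  rw [hc, ← hX] at hiso
  obtain ⟨hn, ⟨e⟩⟩ := hiso
  rw [hc, ← hX, ← hVc] at hR'
  rw [hinf]
  have hn' := P.sup_le_normalizer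
  rw [hc, ← hX] at hn'
  refine ⟨hR', ?_, ⟨hn, ⟨e⟩⟩, ?_, ?_, ?_, ?_, hR'.symm⟩
  · have hRX : R ≤ X := hR'.le.trans inf_le_left
    have hp : IsPGroup 2 ↥(R.subgroupOf X) :=
      (hc ▸ P.isPGroup_core).of_equiv (Subgroup.subgroupOfEquivOfLe hRX).symm
    have h1 : R.subgroupOf X ≤ Cfsg.pCore 2 ↥X := Cores.le_pCore hp
    have h2 : Cfsg.pCore 2 ↥X ≤ R.subgroupOf X := by
      intro x hx
      rw [← QuotientGroup.eq_one_iff (N := R.subgroupOf X)]
      apply e.injective
      rw [map_one, ← Subgroup.mem_bot, ← pCore_perm3]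
      exact Cores.map_pCore_le (f := (e.toMonoidHom.comp (QuotientGroup.mk' _)))
        (e.surjective.comp (QuotientGroup.mk'_surjective _)) 2 (Subgroup.mem_map_of_mem _ hx)
    rw [le_antisymm h2 h1, Subgroup.map_subgroupOf_eq_of_le hRX]
  · rw [hV, hN, ← hX, ← hVc, hV]
  · intro y hy x hx
    rw [hV, hN, ← hX, ← hVc, hV] at hy
    have hle : X ⊔ Subgroup.centralizer (V : Set G) ≤ Subgroup.normalizer (X : Set G) := by
      refine sup_le Subgroup.le_normalizer ?_
      rw [Subgroup.le_normalizer_iff]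
      intro c hcc u hu
      have h := P.comm_sup_cV u (hX ▸ hu) c (hVc ▸ hcc)
      rw [hc] at h
      have h' : u * c * u⁻¹ * c⁻¹ ∈ X := (hR'.le h).1
      have e1 : c * u * c⁻¹ = (u * c * u⁻¹ * c⁻¹)⁻¹ * u := by group
      rw [e1]
      exact mul_mem (inv_mem h') hu
    exact (Subgroup.mem_normalizer_iff.1 (hle (hV ▸ hy)) x).1 hx
  · exact hR'.le.trans inf_le_right
  · intro x hx c hcc
    have h := P.comm_sup_cV x (hX ▸ hx) c (hVc ▸ hcc)
    rwa [hc] at h

end Cfsg.Agent.S5430
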