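import Cfsg.Statements.S5431
import Cfsg.Agent.Lib.LargeExtra.Center

set_option autoImplicit false
open Cfsg

namespace Cfsg.Agent.S5431

open scoped commutatorElement

/-- Let Q be a large extraspecial 2-subgroup of the finite group G (extraspecial; centralizer equal to its centre; normal in the centralizer of its centre; normalizing no non-trivial subgroup of odd order) with centre generated by z, an involution, of width w ≥ 2 (order 2^(2w+1)); let g be an element outside the centralizer H of z with g z g⁻¹ in Q; write V for the subgroup generated by z and g z g⁻¹, X for the subgroup generated by Q and g Q g⁻¹, R for the subgroup generated by the centralizer of z in g Q g⁻¹ and the centralizer of g z g⁻¹ in Q, and E for the intersection of Q and g Q g⁻¹. Then V is the centre of R, E lies in the second centre of R, R is nilpotent of class at most 3, E and R/E are elementary abelian, R/E is the direct product of the images of the centralizer of g z g⁻¹ in Q and of the centralizer of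 z in g Q g⁻¹ (R is their product and they meet in E), and the commutator subgroup of X and E lies in V. -/
theorem result {G : Type*} [Group G] [Finite G] (Q : Subgroup G) (hQ : Cfsg.IsLargeExtraspecial Q) (z : G) (hz : ((Subgroup.center ↥Q).map Q.subtype) = Subgroup.zpowers z) (hz2 : orderOf z = 2) (w : ℕ) (hw : 2 ≤ w) (hcard : Nat.card ↥Q = 2 ^ (2 * w + 1)) (g : G) (hgH : g ∉ Subgroup.centralizer ({z} : Set G)) (hgQ : g * z * g⁻¹ ∈ Q) (V X R E : Subgroup G) (hV : V = Subgroup.closure ({z, g * z * g⁻¹} : Set G)) (hX : X = Q ⊔ (Q).map (MulAut.conj g).toMonoidHom) (hR : R = ((Q).map (MulAut.conj g).toMonoidHom ⊓ Subgroup.centralizer ({z} : Set G)) ⊔ (Q ⊓ Subgroup.centralizer ({g * z * g⁻¹} : Set G))) (hE : E = Q ⊓ (Q).map (MulAut.conj g).toMonoidHom) : (Subgroup.center ↥R).map R.subtype = V ∧ E ≤ (Subgroup.upperCentralSeries ↥R 2).map R.subtype ∧ Subgroup.upperCentralSeries ↥R 3 = ⊤ ∧ Cfsg.IsElementaryAbelian 2 E ∧ (∀ x ∈ R, ∀ y ∈ R, x * y * x⁻¹ * y⁻¹ ∈ E ∧ x ^ 2 ∈ E) ∧ ((Q).map (MulAut.conj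 g).toMonoidHom ⊓ Subgroup.centralizer ({z} : Set G)) ⊓ (Q ⊓ Subgroup.centralizer ({g * z * g⁻¹} : Set G)) = E ∧ ⁅X, E⁆ ≤ V := by
  have hgz : g * z * g⁻¹ ≠ z := fun e =>
    hgH (Subgroup.mem_centralizer_singleton_iff.2 (mul_inv_eq_iff_eq_mul.1 e))
  have h32 : 32 ≤ Nat.card ↥Q := by
    rw [hcard]
    calc 32 = 2 ^ 5 := by norm_num
      _ ≤ 2 ^ (2 * w + 1) := Nat.pow_le_pow_right (by norm_num) (by omega)
  have P := (LargeExtra.Pair.mk' (LargeExtra.Ctr.of_large hQ hz hz2) hgQ hgz).two h32
  have hc : LargeExtra.core Q (Q.map (MulAut.conj g).toMonoidHom) z (g * z * g⁻¹) = R := hR.symm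
  have hZ := P.center_core
  have hVR := P.closure_le_core
  have hcs := P.comm_sq_mem
  have hin := P.inf_eq
  have hcE := P.comm_sup_inf
  rw [hc, ← hV] at hZ hVR
  rw [hc, ← hE] at hcs
  rw [← hE] at hin
  rw [← hE, ← hX, ← hV] at hcE
  have hRX : R ≤ X := hc ▸ hX ▸ LargeExtra.Pair₂.core_le_sup P
  have hER : E ≤ R := hE ▸ hc ▸ P.inf_le_cQ.trans P.cQ_le_core
  have hmem : ∀ r : ↥R, (r : G) ∈ E → r ∈ Subgroup.upperCentralSeries ↥R 2 := by
    intro r hr
    rw [Subgroup.mem_upperCentralSeries_succ_iff]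
    intro y
    rw [Subgroup.upperCentralSeries_one]
    have h1 : ((⁅r, y⁆ : ↥R) : G) ∈ V := by
      have h0 := hcE (Subgroup.commutator_mem_commutator (hRX y.2) hr)
      rw [← inv_mem_iff, commutatorElement_inv] at h0
      exact h0
    rw [← hZ] at h1
    obtain ⟨u, hu, hue⟩ := h1
    exact Subtype.ext hue ▸ hu
  refine ⟨hZ, ?_, ?_, ?_, hcs, hin, hcE⟩
  · intro x hx
    exact ⟨⟨x, hER hx⟩, hmem _ hx, rfl⟩
  · rw [eq_top_iff]
    intro x _
    rw [Subgroup.mem_upperCentralSeries_succ_iff]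
    intro y
    exact hmem _ (hcs x x.2 y y.2).1
  · exact hE ▸ P.isElementaryAbelian_inf

end Cfsg.Agent.S5431
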