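import Cfsg.Statements.S5432
import Cfsg.Agent.Lib.LargeExtra.ExtFormTypes

set_option autoImplicit false
open Cfsg

namespace Cfsg.Agent.S5432

open Cfsg.Agent.LargeExtra.ExtForm

/-- Let E be an extraspecial 2-group of order 2^(2n+1), n ≥ 1. If E contains an elementary abelian subgroup of order 2^(n+1) (plus type), then its outer automorphism group is isomorphic to the full isometry group of the hyperbolic quadratic form in dimension 2n over the field with two elements; otherwise (minus type) it is isomorphic to the full isometry group of the elliptic quadratic form in dimension 2n over that field. -/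
theorem result {E : Type*} [Group E] [Finite E] (hE : Cfsg.IsExtraspecial 2 E) (n : ℕ) (hn : 1 ≤ n) (hcard : Nat.card E = 2 ^ (2 * n + 1)) : ((∃ A : Subgroup E, Cfsg.IsElementaryAbelian 2 A ∧ Nat.card ↥A = 2 ^ (n + 1)) → Nonempty (Cfsg.Out E ≃* Cfsg.isometryGroup (ZMod 2) (Cfsg.quadFormPlus n (ZMod 2)))) ∧ ((¬ ∃ A : Subgroup E, Cfsg.IsElementaryAbelian 2 A ∧ Nat.card ↥A = 2 ^ (n + 1)) → Nonempty (Cfsg.Out E ≃* Cfsg.isometryGroup (ZMod 2) (Cfsg.quadFormMinus (n - 1) (ZMod 2) 1 1))) := by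
  haveI : Nonempty (Fin n ⊕ Fin n) := ⟨.inl ⟨0, hn⟩⟩
  refine ⟨fun ⟨A, hA, hAc⟩ => ?_, fun hno => ?_⟩
  · have hE' : ¬ Cfsg.PRankLE 2 n E := fun h => by
      have h1 := h A hA.1 hA.2
      rw [hAc, pow_succ] at h1
      have := Nat.two_pow_pos n
      omega
    obtain ⟨e⟩ := Cfsg.Agent.GenA.ExtraspecialTwo.iso hE (isExtraspecial (nondeg_plus n)) hcard
      (by rw [card_ext, Fintype.card_sum, Fintype.card_fin, hcard]; congr 1; omega)
      ⟨fun h => absurd h hE', fun h => absurd h (plus_rank n)⟩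
    obtain ⟨e₁⟩ := out_congr e
    obtain ⟨e₂⟩ := out_equiv (nondeg_plus n) _ (quadFormPlus_eq n)
    exact ⟨e₁.trans e₂⟩
  · obtain ⟨m, rfl⟩ : ∃ m, n = m + 1 := ⟨n - 1, by omega⟩
    have hE' : Cfsg.PRankLE 2 (m + 1) E := by
      by_contra h
      obtain ⟨h1, -, -⟩ := Cfsg.Agent.GenA.ExtraspecialTwo.rank_cases hE hcard
      obtain ⟨A, hA, hAc⟩ := (Cfsg.Agent.GenA.ExtraspecialTwo.plus_iff _ h1).2 h
      exact hno ⟨A, ⟨⟨⟨fun a b => Subtype.ext (hA.2.1 a a.2 b b.2)⟩⟩, hA.2.2⟩,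
        le_antisymm (h1 A hA) hAc⟩
    haveI : Nonempty ((Fin m ⊕ Fin m) ⊕ Fin 2) := ⟨.inr 0⟩
    obtain ⟨e⟩ := Cfsg.Agent.GenA.ExtraspecialTwo.iso hE (isExtraspecial (nondeg_minus m)) hcard
      (by rw [card_ext, Fintype.card_sum, Fintype.card_sum, Fintype.card_fin, Fintype.card_fin, hcard]; congr 1; omega)
      ⟨fun _ => minus_rank m, fun _ => hE'⟩
    obtain ⟨e₁⟩ := out_congr e
    obtain ⟨e₂⟩ := out_equiv (nondeg_minus m) _ (quadFormMinus_eq m)
    rw [Nat.add_sub_cancel]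
    exact ⟨e₁.trans e₂⟩

end Cfsg.Agent.S5432
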