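import Cfsg.Statements.S5434
import Cfsg.Agent.Lib.Coprime.Commutator
import Cfsg.Agent.Lib.Coprime.PGroup
import Cfsg.Agent.Lib.CharP.Basic
import Cfsg.Agent.Solvable.Basics

set_option autoImplicit false
open Cfsg

namespace Cfsg.Agent.S5434

open scoped commutatorElement
open Subgroup

/-- A non-abelian central factor of an extraspecial 2-group is extraspecial. -/
theorem extra_factor {G : Type*} [Group G] [Finite G] {Q H K : Subgroup G} (hQ : Cfsg.IsExtraspecial 2 ↥Q)
    (hHQ : H ≤ Q) (hsup : H ⊔ K = Q) (hcomm : ∀ x ∈ H, ∀ y ∈ K, x * y = y * x)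
    (hH : ¬ H ≤ (center ↥Q).map Q.subtype) : Cfsg.IsExtraspecial 2 ↥H := by
  haveI : Fact (Nat.Prime 2) := ⟨Nat.prime_two⟩
  obtain ⟨⟨hP, hfr, hcm⟩, hZ⟩ := hQ
  set Z := (center ↥Q).map Q.subtype with hZdef
  have hcZ : ∀ h : ↥H, h ∈ center ↥H → (h : G) ∈ Z := by
    intro h hh
    refine ⟨⟨h, hHQ h.2⟩, ?_, rfl⟩
    have hle : Q ≤ centralizer {(h : G)} := by
      rw [← hsup, sup_le_iff]
      constructor
      · intro x hx
        rw [mem_centralizer_singleton_iff]
        exact congrArg Subtype.val (mem_center_iff.1 hh ⟨x, hx⟩)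
      · intro y hy
        rw [mem_centralizer_singleton_iff]
        exact (hcomm h h.2 y hy).symm
    rw [SetLike.mem_coe, mem_center_iff]
    intro x
    exact Subtype.ext (mem_centralizer_singleton_iff.1 (hle x.2))
  have hZc : ∀ h : ↥H, (h : G) ∈ Z → h ∈ center ↥H := by
    rintro h ⟨q, hq, e⟩
    rw [mem_center_iff]
    intro x
    apply Subtype.ext
    have := congrArg Subtype.val (mem_center_iff.1 hq ⟨x, hHQ x.2⟩)
    show (x : G) * h = h * x
    rw [← e]
    exact this
  have hcH : ∀ x ∈ H, ∀ y ∈ H, ⁅x, y⁆ ∈ Z := by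
    intro x hx y hy
    refine ⟨⁅(⟨x, hHQ hx⟩ : ↥Q), ⟨y, hHQ hy⟩⁆, ?_, rfl⟩
    rw [← hcm]
    exact commutator_mem_commutator (mem_top _) (mem_top _)
  have hsq : ∀ h : ↥H, h ^ 2 ∈ center ↥H := by
    intro h
    refine hZc _ ⟨(⟨h, hHQ h.2⟩ : ↥Q) ^ 2, ?_, rfl⟩
    rw [← hfr]
    exact Cfsg.Agent.Solvable.Basics.pow_mem_frattini hP _
  have hle : commutator ↥H ≤ center ↥H := by
    rw [_root_.commutator_def, commutator_le]
    intro x _ y _
    exact hZc _ (hcH x x.2 y y.2)
  have hZ2 : Nat.card ↥Z = 2 := by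
    rw [hZdef, card_map_of_injective Q.subtype_injective, hZ]
  have hcle : (center ↥H).map H.subtype ≤ Z := by
    rintro _ ⟨h, hh, rfl⟩
    exact hcZ h hh
  have hne : commutator ↥H ≠ ⊥ := by
    intro e
    apply hH
    intro x hx
    have hc := hcZ ⟨x, hx⟩ (by
      rw [mem_center_iff]
      intro y
      have h0 : ⁅y, (⟨x, hx⟩ : ↥H)⁆ ∈ commutator ↥H := commutator_mem_commutator (mem_top _) (mem_top _)
      rw [e, mem_bot, commutatorElement_eq_one_iff_mul_comm] at h0
      exact h0)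
    exact hc
  have h2 : 2 ≤ Nat.card ↥(commutator ↥H) := (one_lt_card_iff_ne_bot _).2 hne
  have hc2 : Nat.card ↥(center ↥H) ≤ 2 := by
    rw [← card_map_of_injective H.subtype_injective, ← hZ2]
    exact card_le_of_le hcle
  have hle2 := card_le_of_le hle
  have heq : commutator ↥H = center ↥H := eq_of_le_of_card_ge hle (by omega)
  have hPH : IsPGroup 2 ↥H := (hP.to_subgroup _).of_equiv (subgroupOfEquivOfLe hHQ)
  refine ⟨⟨hPH, le_antisymm ?_ ?_, heq⟩, by omega⟩
  · have := Cfsg.Agent.CharP.frattini_le_ker (p := 2) (QuotientGroup.mk' (center ↥H)) (fun a b => by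
      show (a : ↥H ⧸ center ↥H) * b = b * a
      rw [← QuotientGroup.mk_mul, ← QuotientGroup.mk_mul, QuotientGroup.eq]
      have h0 : ⁅b⁻¹, a⁻¹⁆ ∈ center ↥H := hle (commutator_mem_commutator (mem_top _) (mem_top _))
      convert h0 using 1
      simp [commutatorElement_def, mul_assoc])
      (fun a => by
        rw [QuotientGroup.mk'_apply, ← QuotientGroup.mk_pow, QuotientGroup.eq_one_iff]
        exact hsq a)
    rwa [QuotientGroup.ker_mk'] at this
  · haveI := hPH.isNilpotent
    rw [← heq]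
    exact Cfsg.Agent.Coprime.commutator_le_frattini _

/-- Let Q be a large extraspecial 2-subgroup of the finite group G (extraspecial; centralizer equal to its centre; normal in the centralizer of its centre; normalizing no non-trivial subgroup of odd order), and A a non-trivial subgroup of odd order of the normalizer of Q. Then Q is the central product of the centralizer of A in Q and the commutator subgroup [Q, A] (they generate Q and commute elementwise), [Q, A] is extraspecial, and the centralizer of A in Q is either the centre of Q or extraspecial. -/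
theorem result {G : Type*} [Group G] [Finite G] (Q : Subgroup G) (hQ : Cfsg.IsLargeExtraspecial Q) (A : Subgroup G) (hA : A ≤ Subgroup.normalizer (Q : Set G)) (hAodd : Odd (Nat.card ↥A)) (hA1 : A ≠ ⊥) : (Q ⊓ Subgroup.centralizer (A : Set G)) ⊔ ⁅Q, A⁆ = Q ∧ (∀ x ∈ Q ⊓ Subgroup.centralizer (A : Set G), ∀ y ∈ ⁅Q, A⁆, x * y = y * x) ∧ Cfsg.IsExtraspecial 2 ↥⁅Q, A⁆ ∧ (Q ⊓ Subgroup.centralizer (A : Set G) = ((Subgroup.center ↥Q).map Q.subtype) ∨ Cfsg.IsExtraspecial 2 ↥(Q ⊓ Subgroup.centralizer (A : Set G))) := by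
  haveI : Fact (Nat.Prime 2) := ⟨Nat.prime_two⟩
  obtain ⟨hE, hC, hN, -⟩ := hQ
  obtain ⟨⟨hP, hfr, hcm⟩, hZ⟩ := id hE
  set Z := (Subgroup.center ↥Q).map Q.subtype with hZdef
  have hcop : (Nat.card A).Coprime (Nat.card Q) := by
    obtain ⟨k, hk⟩ := IsPGroup.iff_card.1 hP
    rw [hk]
    exact (Nat.coprime_two_right.2 hAodd).pow_right k
  haveI := hP.isNilpotent
  have hsolv : Group.IsSolvable A ∨ Group.IsSolvable Q := Or.inr inferInstance
  have h1 : (Q ⊓ Subgroup.centralizer (A : Set G)) ⊔ ⁅Q, A⁆ = Q := by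
    rw [sup_comm]; exact Cfsg.Agent.Coprime.commutator_sup_inf_centralizer hA hcop hsolv
  have hZQ : Z ≤ Q := Subgroup.map_subtype_le _
  have hZ2 : Nat.card ↥Z = 2 := by
    rw [hZdef, Subgroup.card_map_of_injective Q.subtype_injective, hZ]
  -- the centre is centralized by A
  have hZfix : ∀ a ∈ A, ∀ z ∈ Z, a * z * a⁻¹ = z := by
    intro a ha z hz
    have hmem : a * z * a⁻¹ ∈ Z := by
      obtain ⟨q, hq, rfl⟩ := hz
      refine ⟨⟨a * q * a⁻¹, (Subgroup.mem_normalizer_iff.1 (hA ha) q).1 q.2⟩, ?_, rfl⟩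
      rw [SetLike.mem_coe, Subgroup.mem_center_iff]
      rintro ⟨u, hu⟩
      apply Subtype.ext
      show u * (a * q * a⁻¹) = a * q * a⁻¹ * u
      have hm : a⁻¹ * u * a ∈ Q := (Subgroup.mem_normalizer_iff''.1 (hA ha) u).1 hu
      have e : a⁻¹ * u * a * q = q * (a⁻¹ * u * a) :=
        congrArg Subtype.val (Subgroup.mem_center_iff.1 hq ⟨_, hm⟩)
      calc u * (a * q * a⁻¹) = a * (a⁻¹ * u * a * q) * a⁻¹ := by simp [mul_assoc]
        _ = _ := by rw [e]; simp [mul_assoc]
    by_cases hz1 : z = 1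
    · simp [hz1]
    · have h2 := (Nat.card_eq_two_iff' (1 : ↥Z)).1 hZ2
      exact congrArg Subtype.val (h2.unique (y₁ := ⟨_, hmem⟩) (y₂ := ⟨z, hz⟩)
        (fun e => hz1 (conj_eq_one_iff.1 (congrArg Subtype.val e)))
        (fun e => hz1 (congrArg Subtype.val e)))
  have hAZ : A ≤ Subgroup.centralizer (Z : Set G) := by
    intro a ha
    rw [Subgroup.mem_centralizer_iff]
    intro z hz
    exact (mul_inv_eq_iff_eq_mul.1 (hZfix a ha z hz)).symm
  have hnot : ¬ A ≤ Subgroup.centralizer (Q : Set G) := by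
    rw [hC]
    intro h
    apply hA1
    apply Subgroup.eq_bot_of_card_eq
    have h' := Subgroup.card_dvd_of_le h
    rw [hZ2] at h'
    rcases (Nat.dvd_prime Nat.prime_two).1 h' with h'' | h''
    · exact h''
    · rw [h''] at hAodd; exact absurd hAodd (by decide)
  have hDQ : ⁅Q, A⁆ ≤ Q := Cfsg.Agent.Coprime.commutator_le_of_le_normalizer hA
  have h2 : ∀ x ∈ Q ⊓ Subgroup.centralizer (A : Set G), ∀ y ∈ ⁅Q, A⁆, x * y = y * x := by
    intro x hx y hy
    have h0 : ⁅⁅Q, A⁆, Q ⊓ Subgroup.centralizer (A : Set G)⁆ = ⊥ := by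
      apply Subgroup.commutator_commutator_eq_bot_of_rotate
      · rw [eq_bot_iff]
        refine le_trans (Subgroup.commutator_mono (le_of_eq ?_) le_rfl) (le_of_eq (Subgroup.commutator_bot_left _))
        rw [Subgroup.commutator_eq_bot_iff_le_centralizer, Subgroup.le_centralizer_iff]
        exact inf_le_right
      · have h' : ⁅Q ⊓ Subgroup.centralizer (A : Set G), Q⁆ ≤ Z := by
          rw [hZdef, ← hcm, Subgroup.map_subtype_commutator]
          exact Subgroup.commutator_mono inf_le_left le_rfl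
        refine le_bot_iff.1 (le_trans (Subgroup.commutator_mono h' le_rfl) (le_of_eq ?_))
        rw [Subgroup.commutator_eq_bot_iff_le_centralizer, Subgroup.le_centralizer_iff]
        exact hAZ
    rw [Subgroup.commutator_eq_bot_iff_le_centralizer] at h0
    exact Subgroup.mem_centralizer_iff.1 (h0 hy) x hx
  refine ⟨h1, h2, ?_, ?_⟩
  · refine extra_factor hE hDQ (by rw [sup_comm]; exact h1) (fun x hx y hy => (h2 y hy x hx).symm) ?_
    intro h
    exact hnot (Cfsg.Agent.Coprime.le_centralizer_of_series hA hcop hsolv hAZ h)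
  · by_cases hcase : Q ⊓ Subgroup.centralizer (A : Set G) ≤ Z
    · refine Or.inl (le_antisymm hcase ?_)
      exact le_inf hZQ ((Subgroup.le_centralizer_iff).1 hAZ)
    · exact Or.inr (extra_factor hE inf_le_left h1 h2 hcase)

end Cfsg.Agent.S5434
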