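import Cfsg.Statements.S5436
import Cfsg.Agent.Lib.LargeExtra.Minimal
import Cfsg.Agent.Lib.LargeExtra.Pair
import Cfsg.Agent.Lib.Cores.Basic
import Cfsg.Agent.S5421
import Cfsg.Agent.S5433

set_option autoImplicit false
open Cfsg

namespace Cfsg.Agent.S5436

open Subgroup

/-- Let z be an involution of the finite group G with centralizer H whose generalized Fitting subgroup Q is extraspecial of width at least 2 (order 2^(2w+1), w ≥ 2); suppose some conjugate of z other than z lies in Q, H/Q is a non-abelian simple group, H acts irreducibly by conjugation on Q modulo the subgroup generated by z (the only H-invariant subgroups of Q containing z are that subgroup and Q), and Q is not the subgroup generated by the conjugates of z lying in H. Then G is simple. -/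
theorem result {G : Type*} [Group G] [Finite G] (z : G) (hz : orderOf z = 2) (Q : Subgroup (Subgroup.centralizer ({z} : Set G))) [Q.Normal] (hF : Cfsg.generalizedFittingSubgroup ↥(Subgroup.centralizer ({z} : Set G)) = Q) (hQ : Cfsg.IsExtraspecial 2 ↥Q) (w : ℕ) (hw : 2 ≤ w) (hcard : Nat.card ↥Q = 2 ^ (2 * w + 1)) (hnwc : ∃ g : G, (∃ hq : g * z * g⁻¹ ∈ Subgroup.centralizer ({z} : Set G), (⟨g * z * g⁻¹, hq⟩ : Subgroup.centralizer ({z} : Set G)) ∈ Q) ∧ g * z * g⁻¹ ≠ z) (hsimp : IsSimpleGroup (↥(Subgroup.centralizer ({z} : Set G)) ⧸ Q)) (hna : ¬ IsMulCommutative (↥(Subgroup.centralizer ({z} : Set G)) ⧸ Q)) (hirr : ∀ W : Subgroup (Subgroup.centralizer ({z} : Set G)), W.Normal → W ≤ Q → (W = Q ∨ ∀ x ∈ W, (x : G) ∈ Subgroup.zpowers z)) (hwcl : Subgroup.closure {x : Subgroup.centralizer ({z} : Set G) | IsConj z (x : G)} ≠ Q) : IsSimpleGroup G := by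
  classical
  haveI : Fact (Nat.Prime 2) := ⟨Nat.prime_two⟩
  set Q₀ := Q.map (Subgroup.centralizer ({z} : Set G)).subtype with hQ₀
  have hQC : Q₀ ≤ (Subgroup.centralizer ({z} : Set G)) := Subgroup.map_subtype_le _
  have hext : Cfsg.IsExtraspecial 2 ↥Q₀ :=
    LargeExtra.isExtraspecial_of_equiv hQ (Q.equivMapOfInjective (Subgroup.centralizer ({z} : Set G)).subtype (Subgroup.centralizer ({z} : Set G)).subtype_injective)
  have h : LargeExtra.Ctr Q₀ z := LargeExtra.Ctr.of_fitting hz hQC (by rw [hF]) hext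
  have hQ32 : 32 ≤ Nat.card ↥Q₀ := by
    rw [Subgroup.card_map_of_injective (Subgroup.centralizer ({z} : Set G)).subtype_injective, hcard]
    calc 32 = 2 ^ 5 := by norm_num
      _ ≤ 2 ^ (2 * w + 1) := Nat.pow_le_pow_right (by norm_num) (by omega)
  obtain ⟨g, ⟨hq, hgQ⟩, hgz⟩ := hnwc
  have hgQ₀ : g * z * g⁻¹ ∈ Q₀ := ⟨_, hgQ, rfl⟩
  have P := LargeExtra.Pair.mk' h hgQ₀ hgz
  have hzQ' := P.z_mem' hQ32
  set Q' := Q₀.map (MulAut.conj g).toMonoidHom
  set a := g * z * g⁻¹ with ha
  have hctr : Subgroup.centralizer (Q₀ : Set G) = (Subgroup.center ↥Q₀).map Q₀.subtype := by rw [h.ctr, h.cent]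
  have hnm : Subgroup.centralizer (((Subgroup.center ↥Q₀).map Q₀.subtype) : Set G) ≤
      Subgroup.normalizer (Q₀ : Set G) := by
    rw [h.ctr]
    exact (Subgroup.centralizer_le (Set.singleton_subset_iff.2 (Subgroup.mem_zpowers z))).trans h.norm
  have hanz : a ∉ Subgroup.zpowers z := by
    intro e
    rcases h.mem_zpowers_cases e with e | e
    · exact P.h'.ne_one e
    · exact hgz e
  have hL : Cfsg.IsLargeExtraspecial Q₀ := by
    refine S5421.result Q₀ hext hctr hnm a hgQ₀ (by rwa [h.ctr]) P.h'.two ?_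
    rw [h.ctr, Subgroup.zpowers_le]
    have hle : Q' ≤ Subgroup.centralizer ({a} : Set G) := P.h'.le_centralizer
    haveI : (Q'.subgroupOf (Subgroup.centralizer ({a} : Set G))).Normal :=
      Subgroup.normal_subgroupOf_of_le_normalizer P.h'.norm
    refine ⟨⟨z, hle hzQ'⟩, Cores.le_pCore ?_ (Subgroup.mem_subgroupOf.2 hzQ'), rfl⟩
    exact P.h'.pgroup.of_equiv (Subgroup.subgroupOfEquivOfLe hle).symm
  refine LargeExtra.isSimpleGroup_of h hL (fun M hM hzM => ?_)
  haveI := hM
  have hirr' : ∀ W : Subgroup ↥(Subgroup.centralizer ({z} : Set G)), W.Normal → W ≤ Q → (⟨a, hq⟩ : ↥(Subgroup.centralizer ({z} : Set G))) ∈ W → W = Q := by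
    intro W hW hWQ haW
    exact (hirr W hW hWQ).resolve_right fun hall => hanz (hall _ haW)
  have hQM : Q ≤ M.subgroupOf (Subgroup.centralizer ({z} : Set G)) := by
    rw [← hirr' (M.subgroupOf (Subgroup.centralizer ({z} : Set G)) ⊓ Q) inferInstance inf_le_right ⟨hM.conj_mem z hzM g, hgQ⟩]
    exact inf_le_left
  set T := Subgroup.closure {x : ↥(Subgroup.centralizer ({z} : Set G)) | IsConj z (x : G)} with hT
  haveI hTn : T.Normal := by
    refine ⟨fun x hx c => ?_⟩
    induction hx using Subgroup.closure_induction with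
    | mem y hy =>
      refine Subgroup.subset_closure ?_
      show IsConj z ((c : G) * (y : G) * (c : G)⁻¹)
      exact IsConj.trans hy (isConj_iff.2 ⟨(c : G), rfl⟩)
    | one => simp
    | mul y y' _ _ i1 i2 => rw [← conj_mul]; exact mul_mem i1 i2
    | inv y _ i1 => rw [← conj_inv]; exact inv_mem i1
  have hTM : T ≤ M.subgroupOf (Subgroup.centralizer ({z} : Set G)) := by
    rw [hT, Subgroup.closure_le]
    intro x hx
    obtain ⟨c, hc⟩ := isConj_iff.1 hx
    rw [SetLike.mem_coe, Subgroup.mem_subgroupOf, ← hc]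
    exact hM.conj_mem z hzM c
  have hnTQ : ¬ T ≤ Q := fun hle => hwcl (hirr' T hTn hle (Subgroup.subset_closure (isConj_iff.2 ⟨g, rfl⟩)))
  haveI := hsimp
  have hCM : (Subgroup.centralizer ({z} : Set G)) ≤ M := by
    rw [← Subgroup.subgroupOf_eq_top, eq_top_iff]
    have hn : ((M.subgroupOf (Subgroup.centralizer ({z} : Set G))).map (QuotientGroup.mk' Q)).Normal :=
      (inferInstance : (M.subgroupOf (Subgroup.centralizer ({z} : Set G))).Normal).map _ (QuotientGroup.mk'_surjective Q)
    rcases hn.eq_bot_or_eq_top with e | e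
    · exfalso
      rw [Subgroup.map_eq_bot_iff, QuotientGroup.ker_mk'] at e
      exact hnTQ (hTM.trans e)
    · have := congrArg (Subgroup.comap (QuotientGroup.mk' Q)) e
      rw [Subgroup.comap_map_eq, QuotientGroup.ker_mk', Subgroup.comap_top, sup_eq_left.2 hQM] at this
      rw [this]
  have hNC : Subgroup.normalizer (Q₀ : Set G) ≤ (Subgroup.centralizer ({z} : Set G)) := by
    intro n hn
    rw [Subgroup.mem_centralizer_singleton_iff]
    have hm : n * z * n⁻¹ ∈ Subgroup.centralizer (Q₀ : Set G) := by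
      rw [Subgroup.mem_centralizer_iff]
      intro q hq
      have hq' : n⁻¹ * q * n ∈ Q₀ := (Subgroup.mem_normalizer_iff''.1 hn q).1 hq
      calc q * (n * z * n⁻¹) = n * ((n⁻¹ * q * n) * z) * n⁻¹ := by group
        _ = _ := by rw [h.comm hq']; group
    rw [h.cent] at hm
    rcases h.mem_zpowers_cases hm with e | e
    · exact absurd (conj_eq_one_iff.1 e) h.ne_one
    · exact mul_inv_eq_iff_eq_mul.1 e
  rw [eq_top_iff, ← S5433.result Q₀ hL M (hQC.trans hCM)]
  exact sup_le le_rfl (hNC.trans hCM)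

end Cfsg.Agent.S5436
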