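import Cfsg.Statements.S5437
import Cfsg.Agent.Lib.ThreeTransp.Dihedral

set_option autoImplicit false
open Cfsg

namespace Cfsg.Agent.S5437

open Cfsg.Agent.ThreeTransp

/-- Let I be a set of involutions of the finite group G closed under conjugation, and H a subgroup of G. The following are equivalent: (1) for every member x of I lying in H, the conjugates of x lying in H form a single H-class and the centralizer of x lies in H; (2) for every g outside H, no member of I lies in both H and g H g⁻¹; (3) every member of I lying in H fixes exactly one coset in the action of G on the cosets of H. -/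
theorem result {G : Type*} [Group G] [Finite G] (I : Set G) (hI : ∀ x ∈ I, orderOf x = 2) (hIc : ∀ g : G, ∀ x ∈ I, g * x * g⁻¹ ∈ I) (H : Subgroup G) : ((∀ x ∈ I, x ∈ H → (∀ g : G, g * x * g⁻¹ ∈ H → ∃ h ∈ H, h * x * h⁻¹ = g * x * g⁻¹) ∧ Subgroup.centralizer ({x} : Set G) ≤ H) ↔ (∀ g : G, g ∉ H → ∀ x ∈ I, ¬ (x ∈ H ∧ x ∈ (H : Subgroup G).map (MulAut.conj g).toMonoidHom))) ∧ ((∀ g : G, g ∉ H → ∀ x ∈ I, ¬ (x ∈ H ∧ x ∈ (H : Subgroup G).map (MulAut.conj g).toMonoidHom)) ↔ ∀ x ∈ I, x ∈ H → ∃! c : G ⧸ H, x • c = c) := by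
  have hmap : ∀ g x : G, x ∈ H.map (MulAut.conj g).toMonoidHom ↔ g⁻¹ * x * g ∈ H := by
    intro g x
    rw [Subgroup.mem_map]
    constructor
    · rintro ⟨h, hh, rfl⟩; simpa [mul_assoc] using hh
    · intro hh; exact ⟨_, hh, by simp [mul_assoc]⟩
  refine ⟨⟨fun hA g hg x hx ⟨hxH, hxg⟩ => ?_, fun hB x hx hxH => ⟨fun g hg => ?_, fun c hc => ?_⟩⟩,
    ⟨fun hB x hx hxH => ?_, fun hC g hg x hx ⟨hxH, hxg⟩ => ?_⟩⟩
  · rw [hmap] at hxg
    obtain ⟨h, hh, he⟩ := (hA x hx hxH).1 g⁻¹ (by rwa [inv_inv])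
    rw [inv_inv] at he
    have hc : g * h ∈ Subgroup.centralizer ({x} : Set G) := by
      rw [Subgroup.mem_centralizer_singleton_iff]
      have e : g * (h * x * h⁻¹) * h = g * (g⁻¹ * x * g) * h := by rw [he]
      simpa [mul_assoc] using e
    exact hg (by simpa using H.mul_mem ((hA x hx hxH).2 hc) (H.inv_mem hh))
  · refine ⟨g, ?_, rfl⟩
    by_contra hgH
    refine hB g⁻¹ (by simpa using hgH) x hx ⟨hxH, ?_⟩
    rw [hmap]; simpa using hg
  · by_contra hcH
    refine hB c hcH x hx ⟨hxH, ?_⟩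
    rw [hmap, mul_assoc, ← (Subgroup.mem_centralizer_singleton_iff.1 hc), ← mul_assoc]
    simpa using hxH
  · refine ⟨((1 : G) : G ⧸ H), (Dihedral.smul_coset_eq_iff H x 1).2 (by simpa using hxH), ?_⟩
    intro c hc
    induction c using QuotientGroup.induction_on with
    | H g =>
      rw [QuotientGroup.eq]
      have : g ∈ H := by
        by_contra hg
        exact hB g hg x hx ⟨hxH, (hmap g x).2 ((Dihedral.smul_coset_eq_iff H x g).1 hc)⟩
      simpa using this
  · exact hg (Dihedral.mem_of_unique_fixed hxH (hC x hx hxH) ((hmap g x).1 hxg))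

end Cfsg.Agent.S5437
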