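import Cfsg.Statements.S5438
import Cfsg.Agent.Lib.Involutions.Basic

set_option autoImplicit false
open Cfsg

namespace Cfsg.Agent.S5438

theorem le_of_two_group {G : Type*} [Group G] [Finite G] {H : Subgroup G} {S : Subgroup G}
    (hS : IsPGroup 2 S) {w : G} (hw : w ∈ S) (hwH : w ∈ H)
    (hfix : ∀ g : G, g⁻¹ * w * g ∈ H → g ∈ H) : S ≤ H := by
  haveI : Fact (Nat.Prime 2) := ⟨Nat.prime_two⟩
  haveI : Group.IsNilpotent ↥S := hS.isNilpotent
  rw [← Subgroup.subgroupOf_eq_top]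
  by_contra hne
  obtain ⟨s, hsN, hs⟩ := SetLike.exists_of_lt
    ((Group.normalizerCondition_of_isNilpotent (G := ↥S)) _ (lt_top_iff_ne_top.2 hne))
  refine hs (Subgroup.mem_subgroupOf.2 (hfix _ ?_))
  have h1 : (⟨w, hw⟩ : ↥S) ∈ H.subgroupOf S := hwH
  have h2 := (Subgroup.mem_normalizer_iff.1 (Subgroup.inv_mem _ hsN) _).1 h1
  simpa [Subgroup.mem_subgroupOf] using h2

/-- Let z be a 2-central involution of the finite group G (an involution central in some Sylow 2-subgroup) and H a subgroup containing z such that the coset H is the only coset of H fixed by z (in the action of G on the cosets of H). Then H has odd index in G, and for every 2-element x of H the conjugates of x lying in H form a single H-class. -/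
theorem result {G : Type*} [Group G] [Finite G] (z : G) (hz : Cfsg.IsTwoCentralInvolution z) (H : Subgroup G) (hzH : z ∈ H) (hfix : ∀ g : G, g⁻¹ * z * g ∈ H → g ∈ H) : Odd H.index ∧ ∀ x ∈ H, (∃ k : ℕ, orderOf x = 2 ^ k) → ∀ g : G, g * x * g⁻¹ ∈ H → ∃ h ∈ H, h * x * h⁻¹ = g * x * g⁻¹ := by
  haveI : Fact (Nat.Prime 2) := ⟨Nat.prime_two⟩
  obtain ⟨hzo, P, hzP, hPz⟩ := hz
  have hPH : (P : Subgroup G) ≤ H := fun c hc => hfix c <| by
    rw [mul_assoc, ← hPz c hc, ← mul_assoc, inv_mul_cancel, one_mul]; exact hzH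
  refine ⟨?_, fun x hx ⟨k, hk⟩ g hg => ?_⟩
  · rw [← Nat.not_even_iff_odd, even_iff_two_dvd]
    exact fun h => P.not_dvd_index (h.trans (Subgroup.index_dvd_of_le hPH))
  have step : ∀ u ∈ H, (∃ k : ℕ, orderOf u = 2 ^ k) →
      ∃ h ∈ H, Commute (h * z * h⁻¹) u := by
    rintro u hu ⟨k, hk⟩
    have hu2 : IsPGroup 2 ↥(Subgroup.zpowers (⟨u, hu⟩ : ↥H)) :=
      IsPGroup.of_card (n := k) (by rw [Nat.card_zpowers, Subgroup.orderOf_mk, hk])
    obtain ⟨R, hR⟩ := hu2.exists_le_sylow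
    obtain ⟨h, hh⟩ := MulAction.exists_smul_eq ↥H (P.subtype hPH) R
    have hm : (⟨u, hu⟩ : ↥H) ∈ (R : Subgroup ↥H) := hR (Subgroup.mem_zpowers _)
    rw [← hh, Sylow.coe_subgroup_smul, Subgroup.mem_pointwise_smul_iff_inv_smul_mem] at hm
    have hm2 : (h : G)⁻¹ * u * (h : G) ∈ (P : Subgroup G) := by
      simpa [MulAut.smul_def, Sylow.coe_subtype, Subgroup.mem_subgroupOf] using hm
    refine ⟨h, h.2, ?_⟩
    have := (Commute.conj_iff (h : G)).2 (hPz _ hm2 : Commute _ z).symm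
    simpa [mul_assoc] using this
  obtain ⟨h₁, hh₁, hc₁⟩ := step x hx ⟨k, hk⟩
  obtain ⟨h₂, hh₂, hc₂⟩ := step _ hg ⟨k, by rw [Involutions.Basic.orderOf_conj, hk]⟩
  set y := g * x * g⁻¹ with hy
  set C := Subgroup.centralizer ({y} : Set G)
  have hconjfix : ∀ a ∈ H, ∀ g : G, g⁻¹ * (a * z * a⁻¹) * g ∈ H → g ∈ H := by
    intro a ha g hg
    have := hfix (a⁻¹ * g) (by simpa [mul_assoc] using hg)
    simpa using H.mul_mem ha this
  have hw : g * (h₁ * z * h₁⁻¹) * g⁻¹ ∈ C := by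
    rw [Subgroup.mem_centralizer_singleton_iff]
    exact ((Commute.conj_iff g).2 hc₁).eq
  have hz2 : h₂ * z * h₂⁻¹ ∈ C := Subgroup.mem_centralizer_singleton_iff.2 hc₂.eq
  have hgrp : ∀ (u : ↥C), orderOf (u : G) = 2 → IsPGroup 2 ↥(Subgroup.zpowers u) := fun u hu =>
    IsPGroup.of_card (n := 1) (by rw [Nat.card_zpowers, ← Subgroup.orderOf_coe, hu, pow_one])
  obtain ⟨S₂, hS₂⟩ := (hgrp ⟨_, hz2⟩ (by simp [Involutions.Basic.orderOf_conj, hzo])).exists_le_sylow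
  obtain ⟨S₃, hS₃⟩ := (hgrp ⟨_, hw⟩ (by simp [Involutions.Basic.orderOf_conj, hzo])).exists_le_sylow
  obtain ⟨c, hc⟩ := MulAction.exists_smul_eq ↥C S₃ S₂
  have hle : (S₂ : Subgroup ↥C).map C.subtype ≤ H :=
    le_of_two_group (S₂.2.map _) ⟨⟨_, hz2⟩, hS₂ (Subgroup.mem_zpowers _), rfl⟩
      (H.mul_mem (H.mul_mem hh₂ hzH) (H.inv_mem hh₂)) (hconjfix h₂ hh₂)
  have hcw : (c : G) * (g * (h₁ * z * h₁⁻¹) * g⁻¹) * (c : G)⁻¹ ∈ H := by
    refine hle ⟨MulAut.conj c ⟨_, hw⟩, ?_, by simp⟩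
    rw [SetLike.mem_coe, ← hc, Sylow.coe_subgroup_smul]
    exact Subgroup.smul_mem_pointwise_smul _ _ _ (hS₃ (Subgroup.mem_zpowers _))
  have hcg : ((c : G) * g)⁻¹ ∈ H := hconjfix h₁ hh₁ _ (by simpa [mul_assoc] using hcw)
  refine ⟨(c : G) * g, H.inv_mem_iff.1 hcg, ?_⟩
  have hcy : (c : G) * y = y * c := Subgroup.mem_centralizer_singleton_iff.1 c.2
  calc (c : G) * g * x * ((c : G) * g)⁻¹ = (c : G) * y * (c : G)⁻¹ := by
        rw [hy]; simp [mul_assoc]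
    _ = y := by rw [hcy, mul_inv_cancel_right]

end Cfsg.Agent.S5438
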