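import Cfsg.Statements.S5439
import Cfsg.Agent.Lib.Involutions.Basic
import Cfsg.Agent.Lib.ThreeTransp.Dihedral

set_option autoImplicit false
open Cfsg

namespace Cfsg.Agent.S5439

open Cfsg.Agent.Involutions.Basic
open Cfsg.Agent.ThreeTransp

/-- Let I and J be two different conjugacy classes of involutions of the finite group G and H a subgroup such that every member of I ∪ J fixes exactly one coset in the action on the cosets of H, and such that for every a in I ∩ H and every b in (I ∪ J) ∩ H different from a and commuting with it, the centralizer of a b lies in H. Then H = G. -/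
theorem result {G : Type*} [Group G] [Finite G] (I J : Set G) (a₀ b₀ : G) (ha₀ : orderOf a₀ = 2) (hb₀ : orderOf b₀ = 2) (hI : I = {x | IsConj a₀ x}) (hJ : J = {x | IsConj b₀ x}) (hIJ : I ≠ J) (H : Subgroup G) (hfix : ∀ x ∈ I ∪ J, ∃! c : G ⧸ H, x • c = c) (hcent : ∀ a ∈ I, a ∈ H → ∀ b ∈ I ∪ J, b ∈ H → a ≠ b → a * b = b * a → Subgroup.centralizer ({a * b} : Set G) ≤ H) : H = ⊤ := by
  have hconj : ∀ g : G, ∀ x ∈ I ∪ J, g * x * g⁻¹ ∈ I ∪ J := by
    intro g x hx
    subst hI hJ
    rcases hx with h | h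
    · exact Or.inl (IsConj.trans h (isConj_iff.2 ⟨g, rfl⟩))
    · exact Or.inr (IsConj.trans h (isConj_iff.2 ⟨g, rfl⟩))
  have hord : ∀ x ∈ I ∪ J, orderOf x = 2 := by
    intro x hx
    subst hI hJ
    rcases hx with h | h <;> obtain ⟨g, rfl⟩ := isConj_iff.1 h <;> rw [orderOf_conj] <;> assumption
  have hCle : ∀ x ∈ I ∪ J, x ∈ H → ∀ c, Commute c x → c ∈ H := fun x hx hxH c hc =>
    Dihedral.mem_of_unique_fixed hxH (hfix x hx) <| by
      rw [mul_assoc, ← hc.eq, ← mul_assoc, inv_mul_cancel, one_mul]; exact hxH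
  have haI : a₀ ∈ I := by rw [hI]; exact IsConj.refl a₀
  have hbJ : b₀ ∈ J := by rw [hJ]; exact IsConj.refl b₀
  obtain ⟨c₀, hc₀, -⟩ := hfix a₀ (Or.inl haI)
  induction c₀ using QuotientGroup.induction_on with
  | H g₀ =>
  set a := g₀⁻¹ * a₀ * g₀ with ha
  have haH : a ∈ H := (Dihedral.smul_coset_eq_iff H a₀ g₀).1 hc₀
  have haI' : a ∈ I := by
    rw [hI]; exact isConj_iff.2 ⟨g₀⁻¹, by rw [ha, inv_inv]⟩
  have hJH : ∀ b ∈ J, b ∈ H := by
    intro b hb
    have hA := hord a (Or.inl haI')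
    have hB := hord b (Or.inr hb)
    have heven : Even (orderOf (a * b)) := even_orderOf_mul_of_not_isConj hA hB <| fun hc => hIJ <| by
      rw [hI, hJ]
      have hab : IsConj a₀ b₀ := by
        rw [hI] at haI'; rw [hJ] at hb
        exact IsConj.trans haI' (IsConj.trans hc (IsConj.symm hb))
      ext x
      exact ⟨fun h => IsConj.trans (IsConj.symm hab) h, fun h => IsConj.trans hab h⟩
    obtain ⟨hzo, hza, hzb⟩ := middle_involution hA hB heven
    set z := (a * b) ^ (orderOf (a * b) / 2)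
    have hzH : z ∈ H := hCle a (Or.inl haI') haH z hza
    have haz : a * z ∈ I ∪ J := Dihedral.mem_of_mul_pow hconj hA hB (Or.inl haI') (Or.inr hb) _
    have hne : a ≠ a * z := fun e => ne_one hzo (mul_eq_left.1 e.symm)
    have h3 := hcent a haI' haH (a * z) haz (H.mul_mem haH hzH) hne
      ((Commute.refl a).mul_right hza.symm)
    rw [show a * (a * z) = z by rw [← mul_assoc, inv_sq_one hA, one_mul]] at h3
    exact h3 (Subgroup.mem_centralizer_singleton_iff.2 hzb.symm.eq)
  rw [eq_top_iff]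
  intro g _
  refine Dihedral.mem_of_unique_fixed (hJH b₀ hbJ) (hfix b₀ (Or.inr hbJ)) (hJH _ ?_)
  rw [hJ]; exact isConj_iff.2 ⟨g⁻¹, by rw [inv_inv]⟩

end Cfsg.Agent.S5439
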