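import Cfsg.Statements.S5440
import Cfsg.Agent.Lib.LargeExtra.Fischer.Main

set_option autoImplicit false
open Cfsg

namespace Cfsg.Agent.S5440

/-- Let G be a finite group of large Fischer type at the involution z: the generalized Fitting subgroup Q of H = C_G(z) is extraspecial of order 2^13, H has normal subgroups Q ≤ H₁ ≤ H₂ with H₁/Q of order 3, H₂/H₁ the projective special unitary group of dimension 4 over the field with nine elements and H₂ of index 2 in H, and some conjugate of z other than z lies in Q. Then H has exactly two orbits, under conjugation, on the involutions of Q other than z. -/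
theorem result {G : Type*} [Group G] [Finite G] (z : G) (Q : Subgroup (Subgroup.centralizer ({z} : Set G))) [Q.Normal] (hF : Cfsg.IsOfLargeFischerTypeAt z Q) : ∃ s t : Subgroup.centralizer ({z} : Set G), s ∈ Q ∧ t ∈ Q ∧ orderOf s = 2 ∧ orderOf t = 2 ∧ (s : G) ≠ z ∧ (t : G) ≠ z ∧ (¬ ∃ h : Subgroup.centralizer ({z} : Set G), h * s * h⁻¹ = t) ∧ ∀ x : Subgroup.centralizer ({z} : Set G), x ∈ Q → orderOf x = 2 → (x : G) ≠ z → (∃ h : Subgroup.centralizer ({z} : Set G), h * s * h⁻¹ = x) ∨ ∃ h : Subgroup.centralizer ({z} : Set G), h * t * h⁻¹ = x := by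
  classical
  have hS := hF.1
  obtain ⟨M, ⟨F⟩⟩ := Cfsg.Agent.LargeExtra.Fischer.exists_frame hF
  obtain ⟨a, ha⟩ := F.surj Cfsg.Agent.Components.UnitarySix.e01
  obtain ⟨b, hb⟩ := F.surj Cfsg.Agent.LargeExtra.Fischer.fv
  have ha' := Cfsg.Agent.LargeExtra.Fischer.e01_InO
  have hb' := Cfsg.Agent.LargeExtra.Fischer.O1_fv
  have hia : Cfsg.Agent.Components.UnitarySix.Iso (F.φ a) :=
    ha ▸ Cfsg.Agent.LargeExtra.Fischer.InO_Iso ha'
  have hib : Cfsg.Agent.Components.UnitarySix.Iso (F.φ b) := hb ▸ hb'.1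
  obtain ⟨ha2, haz⟩ := Cfsg.Agent.LargeExtra.Fischer.invol_of_iso hS F hia
  obtain ⟨hb2, hbz⟩ := Cfsg.Agent.LargeExtra.Fischer.invol_of_iso hS F hib
  refine ⟨a, b, a.2, b.2, ha2, hb2, haz, hbz, ?_, ?_⟩
  · rintro ⟨h, he⟩
    have h1 := F.conj h a
    rw [show MulAut.conjNormal h a = b from Subtype.ext ((MulAut.conjNormal_apply _ _).trans he), ha, hb] at h1
    exact hb'.2 (h1 ▸ F.InO_act h ha')
  · intro x hx hx2 hxz
    have hi := Cfsg.Agent.LargeExtra.Fischer.iso_of_invol hS F (a := ⟨x, hx⟩) hx2 hxz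
    rcases Cfsg.Agent.LargeExtra.Fischer.iso_cases hi with h | h
    · exact Or.inl (Cfsg.Agent.LargeExtra.Fischer.conj_of_kind hS F (a := a) (b := ⟨x, hx⟩)
        (Or.inl ⟨ha ▸ ha', h⟩))
    · exact Or.inr (Cfsg.Agent.LargeExtra.Fischer.conj_of_kind hS F (a := b) (b := ⟨x, hx⟩)
        (Or.inr ⟨hb ▸ hb', h⟩))


end Cfsg.Agent.S5440
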