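import Cfsg.Statements.S5442
import Cfsg.Agent.Lib.LargeExtra.Fischer.Main

set_option autoImplicit false
open Cfsg

namespace Cfsg.Agent.S5442

/-- Let G be a finite group of large Fischer type at the involution z: the generalized Fitting subgroup Q of H = C_G(z) is extraspecial of order 2^13, H has normal subgroups Q ≤ H₁ ≤ H₂ with H₁/Q of order 3, H₂/H₁ the projective special unitary group of dimension 4 over the field with nine elements and H₂ of index 2 in H, and some conjugate of z other than z lies in Q. Let s = g z g⁻¹ be a conjugate of z lying in Q and different from z. Then the intersection of Q and g Q g⁻¹ (as subgroups of G) is elementary abelian of order 2^7; and in H/Q, writing X for the image of the centralizer of s in H and E for the image of the intersection of g Q g⁻¹ with H, E is a normal subgroup of X, elementary abelian of order 32, with X/E isomorphic to the alternating group of degree 6. -/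
theorem result {G : Type*} [Group G] [Finite G] (z : G) (Q : Subgroup (Subgroup.centralizer ({z} : Set G))) [Q.Normal] (hF : Cfsg.IsOfLargeFischerTypeAt z Q) (s : G) (hsQ : ∃ hsc : s ∈ Subgroup.centralizer ({z} : Set G), (⟨s, hsc⟩ : Subgroup.centralizer ({z} : Set G)) ∈ Q) (hs : IsConj z s) (hs1 : s ≠ z) (g : G) (hg : g * z * g⁻¹ = s) (X E : Subgroup ((Subgroup.centralizer ({z} : Set G)) ⧸ Q)) (hX : X = ((Subgroup.centralizer ({z} : Set G) ⊓ Subgroup.centralizer ({s} : Set G)).subgroupOf (Subgroup.centralizer ({z} : Set G))).map (QuotientGroup.mk' Q)) (hE : E = ((((Q.map (Subgroup.centralizer ({z} : Set G)).subtype)).map (MulAut.conj g).toMonoidHom ⊓ Subgroup.centralizer ({z} : Set G)).subgroupOf (Subgroup.centralizer ({z} : Set G))).map (QuotientGroup.mk' Q)) : Cfsg.IsElementaryAbelian 2 ((Q.map (Subgroup.centralizer ({z} : Set G)).subtype) ⊓ ((Q.map (Subgroup.centralizer ({z} : Set G)).subtype)).map (MulAut.conj g).toMonoidHom) ∧ Nat.card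 ↥((Q.map (Subgroup.centralizer ({z} : Set G)).subtype) ⊓ ((Q.map (Subgroup.centralizer ({z} : Set G)).subtype)).map (MulAut.conj g).toMonoidHom) = 2 ^ 7 ∧ E ≤ X ∧ (∀ x ∈ X, ∀ y ∈ E, x * y * x⁻¹ ∈ E) ∧ Cfsg.IsElementaryAbelian 2 E ∧ Nat.card E = 32 ∧ ∃ _ : (E.subgroupOf X).Normal, Nonempty (↥X ⧸ E.subgroupOf X ≃* alternatingGroup (Fin 6)) := by
  classical
  have hS := hF.1
  obtain ⟨M, ⟨F0⟩⟩ := Cfsg.Agent.LargeExtra.Fischer.exists_frame hF
  obtain ⟨hsc, hsQ⟩ := hsQ
  subst hg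
  subst hX
  subst hE
  have hgQ : g * z * g⁻¹ ∈ Cfsg.Agent.MonsterOrbits.bigQ Q := ⟨_, hsQ, rfl⟩
  have h1 := Cfsg.Agent.LargeExtra.Fischer.O1_of_conj hS F0 (g := g) (a := ⟨⟨_, hsc⟩, hsQ⟩) hgQ hs1 rfl
  obtain ⟨F, -, hv⟩ := Cfsg.Agent.LargeExtra.Fischer.exists_twist F0 h1.1
  obtain ⟨h32, h7, hq⟩ := Cfsg.Agent.LargeExtra.Fischer.pair_structure hS F (g := g) (a := ⟨⟨_, hsc⟩, hsQ⟩)
    hgQ hs1 rfl (hv h1)
  have hcard : 32 ≤ Nat.card ↥(Cfsg.Agent.MonsterOrbits.bigQ Q) := by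
    rw [Cfsg.Agent.MonsterOrbits.card_bigQ, hS.2.2.2.1]; norm_num
  have P := (Cfsg.Agent.LargeExtra.Pair.mk' (Cfsg.Agent.MonsterOrbits.ctr_bigQ hS) hgQ hs1).two hcard
  have hsq := Cfsg.Agent.MonsterPair.imgQ_sq hS hgQ hs1
  have hle := Cfsg.Agent.MonsterPair.imgQ_le hS hgQ hs1
  have hconj := Cfsg.Agent.MonsterPair.imgQ_conj hS hgQ hs1
  refine ⟨P.isElementaryAbelian_inf, h7, hle, fun x hx y hy => hconj x hx y hy, ?_, h32, ?_, hq _⟩
  · refine ⟨⟨⟨fun x y => Subtype.ext ?_⟩⟩, fun x hx => by rw [pow_two]; exact hsq x hx⟩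
    have hi : ∀ u ∈ Cfsg.Agent.MonsterPair.imgQ Q g, u⁻¹ = u := fun u hu => inv_eq_of_mul_eq_one_right (hsq u hu)
    have h := hi _ (mul_mem x.2 y.2)
    rw [mul_inv_rev, hi _ x.2, hi _ y.2] at h
    exact h.symm
  · exact ⟨fun y hy x => Subgroup.mem_subgroupOf.2 (hconj x x.2 _ (Subgroup.mem_subgroupOf.1 hy))⟩


end Cfsg.Agent.S5442
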