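import Cfsg.Statements.S5443
import Cfsg.Agent.Lib.LargeExtra.Fischer.Main

set_option autoImplicit false
open Cfsg

namespace Cfsg.Agent.S5443

/-- Let G be a finite group of large Fischer type at the involution z: the generalized Fitting subgroup Q of H = C_G(z) is extraspecial of order 2^13, H has normal subgroups Q ≤ H₁ ≤ H₂ with H₁/Q of order 3, H₂/H₁ the projective special unitary group of dimension 4 over the field with nine elements and H₂ of index 2 in H, and some conjugate of z other than z lies in Q. Let t be an involution of Q not conjugate to z in G, and S the set of elements of H conjugating t to t or to t z (the stabilizer of the image of t in Q modulo its centre). Then the image of S in H/Q is isomorphic to the full isometry group of the elliptic quadratic form in dimension 6 over the field with two elements. -/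
theorem result {G : Type*} [Group G] [Finite G] (z : G) (Q : Subgroup (Subgroup.centralizer ({z} : Set G))) [Q.Normal] (hF : Cfsg.IsOfLargeFischerTypeAt z Q) (t : Subgroup.centralizer ({z} : Set G)) (htQ : t ∈ Q) (ht2 : orderOf t = 2) (ht : ¬ IsConj z (t : G)) (S : Subgroup (Subgroup.centralizer ({z} : Set G))) (hS : ∀ h : Subgroup.centralizer ({z} : Set G), h ∈ S ↔ (h * t * h⁻¹ = t ∨ ((h * t * h⁻¹ : Subgroup.centralizer ({z} : Set G)) : G) = t * z)) : Nonempty (↥(S.map (QuotientGroup.mk' Q)) ≃* Cfsg.isometryGroup (ZMod 2) (Cfsg.quadFormMinus 2 (ZMod 2) 1 1)) := by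
  classical
  have hSmem := hS
  clear hS
  have hS := hF.1
  obtain ⟨M, ⟨F0⟩⟩ := Cfsg.Agent.LargeExtra.Fischer.exists_frame hF
  obtain ⟨g, ⟨hq, hqQ⟩, hne⟩ := hS.2.2.2.2
  have hgQ : g * z * g⁻¹ ∈ Cfsg.Agent.MonsterOrbits.bigQ Q := ⟨_, hqQ, rfl⟩
  let s : Q := ⟨⟨_, hq⟩, hqQ⟩
  have hs := Cfsg.Agent.LargeExtra.Fischer.O1_of_conj hS F0 (g := g) (a := s) hgQ hne rfl
  have htz : (t : G) ≠ z := fun e => ht (by rw [e])
  have hti := Cfsg.Agent.LargeExtra.Fischer.iso_of_invol hS F0 (a := ⟨t, htQ⟩) ht2 htz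
  have hto : Cfsg.Agent.Components.UnitarySix.InO Cfsg.Agent.InvChar.Coset.FF.w (F0.φ ⟨t, htQ⟩) := by
    refine (Cfsg.Agent.LargeExtra.Fischer.iso_cases hti).resolve_right fun h => ht ?_
    obtain ⟨c, hc⟩ := Cfsg.Agent.LargeExtra.Fischer.conj_of_kind hS F0 (a := s) (b := ⟨t, htQ⟩) (Or.inr ⟨hs, h⟩)
    exact (isConj_iff.2 ⟨g, rfl⟩).trans (isConj_iff.2 ⟨c, congrArg Subtype.val hc⟩)
  obtain ⟨F, hv, -⟩ := Cfsg.Agent.LargeExtra.Fischer.exists_twist F0 hti
  have hv' := hv hto
  refine Cfsg.Agent.LargeExtra.Fischer.stab_iso hS F hv'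
    (fun c hc => Cfsg.Agent.LargeExtra.Fischer.antilinear hS F (g := g) (a := s) hgQ hne rfl hc) S fun h => ?_
  rw [hSmem h, ← hv', ← F.conj]
  constructor
  · rintro (e | e)
    · exact congrArg F.φ (Subtype.ext ((MulAut.conjNormal_apply _ _).trans e))
    · have hz : (⟨t, htQ⟩ : Q)⁻¹ * MulAut.conjNormal h ⟨t, htQ⟩ ∈ Subgroup.center Q := by
        rw [Cfsg.Agent.MonsterOrbits.mem_center_iff' hF.1]
        refine Or.inr ?_
        show (t : G)⁻¹ * ((h * t * h⁻¹ : Subgroup.centralizer ({z} : Set G)) : G) = z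
        rw [e, inv_mul_cancel_left]
      have h0 := (F.zero _).2 hz
      calc F.φ (MulAut.conjNormal h ⟨t, htQ⟩)
          = F.φ (⟨t, htQ⟩ * ((⟨t, htQ⟩ : Q)⁻¹ * MulAut.conjNormal h ⟨t, htQ⟩)) := by rw [mul_inv_cancel_left]
        _ = _ := by rw [F.φ_mul, h0, add_zero]
  · intro e
    rcases F.eq_or_mul_z hF.1 e.symm with e' | e'
    · exact Or.inl (Subtype.ext e')
    · exact Or.inr e'


end Cfsg.Agent.S5443
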