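import Cfsg.Statements.S5444
import Cfsg.Agent.Lib.LargeExtra.Fischer.Elementary
-- import your own Cfsg.Agent.* helpers here

set_option autoImplicit false
open Cfsg
open Cfsg.Agent.LargeExtra.Fischer (Cz Frame exists_frame exists_position antilinear exists_scal A0 A0_sq A0_inf card_A0 max_eq card_UT comm_of_sq T_inf_M_card preimage_P0)

namespace Cfsg.Agent.S5444

/-- Let G be a finite group of large Fischer type at the involution z: the generalized Fitting subgroup Q of H = C_G(z) is extraspecial of order 2^13, H has normal subgroups Q ≤ H₁ ≤ H₂ with H₁/Q of order 3, H₂/H₁ the projective special unitary group of dimension 4 over the field with nine elements and H₂ of index 2 in H, and some conjugate of z other than z lies in Q. Let T be a Sylow 2-subgroup of H. Then T has exactly one elementary abelian subgroup A of largest order; A has order 2^11, it meets Q in a subgroup of order 2^7, and its image in H/Q has order 16. -/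
theorem result {G : Type*} [Group G] [Finite G] (z : G) (Q : Subgroup (Subgroup.centralizer ({z} : Set G))) [Q.Normal] (hF : Cfsg.IsOfLargeFischerTypeAt z Q) (T : Sylow 2 ↥(Subgroup.centralizer ({z} : Set G))) : ∃ A : Subgroup ↥(T : Subgroup (Subgroup.centralizer ({z} : Set G))), Cfsg.maxElementaryAbelianSubgroups 2 ↥(T : Subgroup (Subgroup.centralizer ({z} : Set G))) = {A} ∧ Nat.card A = 2 ^ 11 ∧ Nat.card ↥(A.map (T : Subgroup (Subgroup.centralizer ({z} : Set G))).subtype ⊓ Q) = 2 ^ 7 ∧ Nat.card ↥((A.map (T : Subgroup (Subgroup.centralizer ({z} : Set G))).subtype).map (QuotientGroup.mk' Q)) = 16 := by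
  classical
  haveI : Fact (Nat.Prime 2) := ⟨Nat.prime_two⟩
  obtain ⟨M, ⟨F0⟩⟩ := exists_frame hF
  have hS := hF.1
  obtain ⟨F, hpos⟩ := exists_position F0 T
  obtain ⟨-, -, hE, -, g0, ⟨hq0, hqQ⟩, hg0⟩ := id hS
  have hanti : ∀ c : Cz z, c ∉ M → ∀ v, F.act c (Cfsg.Agent.InvChar.Coset.FF.w • v) =
      Cfsg.Agent.InvChar.Coset.FF.w2 • F.act c v := fun c hc =>
    antilinear hS F (g := g0) ⟨_, hqQ, rfl⟩ hg0 (a := ⟨⟨_, hq0⟩, hqQ⟩) rfl hc
  obtain ⟨x, ⟨X⟩⟩ := exists_scal hS F
  set A := A0 F X hS with hA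
  set TS := (T : Subgroup (Cz z)) with hTS
  have hAT : A ≤ TS := by
    obtain ⟨R, hRm, hR, hRM, -⟩ := preimage_P0 hS F
    have hle : TS ⊓ M ≤ R := fun m hm => (hRm m).2 ⟨hm.2, hpos m hm.1 hm.2⟩
    have heq := Subgroup.eq_of_le_of_card_ge hle (by rw [hR]; exact T_inf_M_card hS F T)
    intro a ha
    obtain ⟨u, hu, c, ⟨e, he, hc⟩, rfl⟩ := id ha
    refine (inf_le_left : TS ⊓ M ≤ TS) ?_
    rw [heq, hRm]
    obtain ⟨d, hdM, hd⟩ := F.of_K0 e (Cfsg.Agent.LargeExtra.Fischer.P0_le he.1).1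
    have huc : ∀ v, F.act (u * c) v = e • v := fun v => by
      rw [map_mul, (F.ker u).2 hu.1, one_mul, hc.1]
    have hdq : d⁻¹ * (u * c) ∈ Q := (F.ker _).1 (by
      rw [map_mul, map_inv, inv_mul_eq_one]
      exact Equiv.ext fun v => by rw [hd, huc])
    exact ⟨by simpa using M.mul_mem hdM (F.le hdq), e, he.1, huc⟩
  obtain ⟨hcA, himgA⟩ := card_A0 hS F X
  have hmap : (A.subgroupOf TS).map TS.subtype = A := by
    rw [Subgroup.map_subgroupOf_eq_of_le hAT]
  have hel : Cfsg.IsElementaryAbelian 2 (A.subgroupOf TS) :=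
    ⟨⟨⟨fun a b => Subtype.ext (Subtype.ext (comm_of_sq (A0_sq hS F X) _ a.2 _ b.2))⟩⟩,
      fun a ha => Subtype.ext (by rw [pow_two]; exact A0_sq hS F X _ ha)⟩
  have hcA' : Nat.card (A.subgroupOf TS) = 2 ^ 11 := by
    rw [Nat.card_congr (Subgroup.subgroupOfEquivOfLe hAT).toEquiv, hcA]
  have huniq : ∀ B : Subgroup TS, Cfsg.IsElementaryAbelian 2 B → 2 ^ 11 ≤ Nat.card B → B = A.subgroupOf TS := by
    intro B hB hbig
    have h : B.map TS.subtype = A := by
      refine max_eq hS F hanti X (fun m hm hM => hpos m ?_ hM) ?_ ?_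
      · obtain ⟨b, -, rfl⟩ := hm; exact b.2
      · rintro _ ⟨b, hb, rfl⟩
        rw [← map_mul, ← pow_two, hB.2 b hb, map_one]
      · rwa [Subgroup.card_map_of_injective TS.subtype_injective]
    rw [← h, Subgroup.subgroupOf, Subgroup.comap_map_eq_self_of_injective TS.subtype_injective]
  refine ⟨A.subgroupOf TS, ?_, hcA', ?_, ?_⟩
  · refine Set.eq_singleton_iff_unique_mem.2 ⟨⟨hel, fun B hB => ?_⟩, fun B hB => ?_⟩
    · by_contra hlt
      rw [hcA'] at hlt
      rw [huniq B hB (le_of_not_ge hlt), hcA'] at hlt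
      exact hlt le_rfl
    · exact huniq B hB.1 (hcA' ▸ hB.2 _ hel)
  · rw [hmap, A0_inf hS F X, card_UT hS F]; norm_num
  · rw [hmap]; exact himgA

end Cfsg.Agent.S5444
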