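import Cfsg.Statements.S5449
import Cfsg.Agent.Lib.LargeExtra.Fischer.FourGroupMain

set_option autoImplicit false
open Cfsg

namespace Cfsg.Agent.S5449

/-- Let G be a finite group of large Fischer type at the involution z: the generalized Fitting subgroup Q of H = C_G(z) is extraspecial of order 2^13, H has normal subgroups Q ≤ H₁ ≤ H₂ with H₁/Q of order 3, H₂/H₁ the projective special unitary group of dimension 4 over the field with nine elements and H₂ of index 2 in H, and some conjugate of z other than z lies in Q. Then Q contains a four-group E, not containing z and containing an involution not conjugate to z in G, whose centralizer in G is quasisimple with quotient by E isomorphic to the projective special unitary group of dimension 6 over the field with four elements. -/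
theorem result {G : Type*} [Group G] [Finite G] (z : G) (Q : Subgroup (Subgroup.centralizer ({z} : Set G))) [Q.Normal] (hF : Cfsg.IsOfLargeFischerTypeAt z Q) : ∃ E : Subgroup G, E ≤ (Q.map (Subgroup.centralizer ({z} : Set G)).subtype) ∧ Cfsg.IsElementaryAbelian 2 E ∧ Nat.card E = 4 ∧ z ∉ E ∧ (∃ t ∈ E, orderOf t = 2 ∧ ¬ IsConj z t) ∧ Cfsg.IsQuasisimple ↥(Subgroup.centralizer (E : Set G)) ∧ ∃ (_ : (E.subgroupOf (Subgroup.centralizer (E : Set G))).Normal) (K : Type) (_ : Field K) (_ : Fintype K), Fintype.card K = 4 ∧ Nonempty (↥(Subgroup.centralizer (E : Set G)) ⧸ E.subgroupOf (Subgroup.centralizer (E : Set G)) ≃* Cfsg.PSU 6 K 2) := by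
  obtain ⟨M, F, x, X, d⟩ := Cfsg.Agent.LargeExtra.Fischer.exists_setup hF
  obtain ⟨W⟩ := Cfsg.Agent.LargeExtra.Fischer.exists_four F
  have hS := hF.1
  obtain ⟨m, hm, hne, hmz⟩ := W.exists_mover hS X d
  obtain ⟨hqs, ⟨e⟩⟩ := W.quasisimple hS hm hne hmz
  have ht1 : Cfsg.Agent.LargeExtra.Fischer.inQ Q W.t ≠ 1 := fun h => by
    have h' : W.t = 1 := Cfsg.Agent.LargeExtra.Fischer.inQ_injective (h.trans (map_one _).symm)
    exact Cfsg.Agent.LargeExtra.Fischer.line_distinct.1 (by rw [← W.ht, h', F.φ_one])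
  refine ⟨W.E, W.le_bigQ, (W.elem hS).1, (W.elem hS).2, W.z_not_mem hS,
    ⟨_, W.t_mem, orderOf_eq_prime ?_ ht1, W.not_conj hS W.t_mem ht1⟩, hqs, W.E'_normal, Cfsg.Agent.InvChar.Coset.FF,
    inferInstance, inferInstance, rfl, ⟨e⟩⟩
  exact (W.elem hS).1.2 _ W.t_mem

end Cfsg.Agent.S5449
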