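import Cfsg.Statements.S5450
import Cfsg.Agent.Lib.LargeExtra.Fischer.Fi22Centralizer

set_option autoImplicit false
open Cfsg

namespace Cfsg.Agent.S5450

/-- Let G be a finite group of large Fischer type at the involution z: the generalized Fitting subgroup Q of H = C_G(z) is extraspecial of order 2^13, H has normal subgroups Q ≤ H₁ ≤ H₂ with H₁/Q of order 3, H₂/H₁ the projective special unitary group of dimension 4 over the field with nine elements and H₂ of index 2 in H, and some conjugate of z other than z lies in Q. Let t be an involution of Q not conjugate to z in G, and K the generalized Fitting subgroup of the centralizer of t. Then K is quasisimple of index 2 in the centralizer of t, contains t, and the centralizer of t modulo the subgroup generated by t is isomorphic to the full automorphism group of the Fischer group Fi₂₂ (as presented). -/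
theorem result {G : Type*} [Group G] [Finite G] (z : G) (Q : Subgroup (Subgroup.centralizer ({z} : Set G))) [Q.Normal] (hF : Cfsg.IsOfLargeFischerTypeAt z Q) (t : G) (htQ : ∃ htc : t ∈ Subgroup.centralizer ({z} : Set G), (⟨t, htc⟩ : Subgroup.centralizer ({z} : Set G)) ∈ Q) (ht2 : orderOf t = 2) (ht : ¬ IsConj z t) (K : Subgroup ↥(Subgroup.centralizer ({t} : Set G))) (hK : K = Cfsg.generalizedFittingSubgroup ↥(Subgroup.centralizer ({t} : Set G))) [hn : ((Subgroup.zpowers t).subgroupOf (Subgroup.centralizer ({t} : Set G))).Normal] : Cfsg.IsQuasisimple ↥K ∧ K.index = 2 ∧ (∃ htc : t ∈ Subgroup.centralizer ({t} : Set G), (⟨t, htc⟩ : ↥(Subgroup.centralizer ({t} : Set G))) ∈ K) ∧ Nonempty (↥(Subgroup.centralizer ({t} : Set G)) ⧸ (Subgroup.zpowers t).subgroupOf (Subgroup.centralizer ({t} : Set G)) ≃* MulAut Cfsg.Spor.Fi22) := by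
  classical
  open Cfsg.Agent.LargeExtra.Fischer in
  open Cfsg.Agent.InvChar.Coset in
  open Cfsg.Agent.Components.UnitarySix in
  · have hS := hF.1
    obtain ⟨htc, htQ⟩ := htQ
    obtain ⟨M, F, x, X, d⟩ := exists_setup hF
    obtain ⟨W⟩ := exists_four F
    have key := W.centProp hS X d fun T => (thompson_mathieu hF T).1
    let a : Q := ⟨⟨t, htc⟩, htQ⟩
    have hne : t ≠ z := fun e => ht (by rw [e])
    have ho : orderOf ((⟨t, htc⟩ : Subgroup.centralizer ({z} : Set G))) = 2 := by
      rw [← Subgroup.orderOf_coe]; exact ht2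
    have hI : InO FF.w (F.φ a) := by
      have hti := iso_of_invol hS F (a := a) ho hne
      refine (iso_cases hti).resolve_right fun h => ht ?_
      obtain ⟨g, ⟨hq, hqQ⟩, hgne⟩ := hS.2.2.2.2
      let s : Q := ⟨⟨_, hq⟩, hqQ⟩
      have hs := O1_of_conj hS F (g := g) (a := s) ⟨_, hqQ, rfl⟩ hgne rfl
      obtain ⟨c, hc⟩ := conj_of_kind hS F (a := s) (b := a) (Or.inr ⟨hs, h⟩)
      exact (isConj_iff.2 ⟨g, rfl⟩).trans (isConj_iff.2 ⟨c, congrArg Subtype.val hc⟩)
    obtain ⟨c, hc⟩ := conj_of_kind hS F (a := W.t) (b := a) (Or.inl ⟨by rw [W.ht]; exact e01_InO, hI⟩)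
    have he : (c : G) * inQ Q W.t * (c : G)⁻¹ = t := congrArg Subtype.val hc
    have h := key.conj (c : G)
    rw [he] at h
    exact h K hK

end Cfsg.Agent.S5450
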