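import Cfsg.Statements.S5453
import Cfsg.Agent.S5398
import Cfsg.Agent.S5361
import Cfsg.Agent.Lib.ThreeTransp.M22.DoubleCover
-- import your own Cfsg.Agent.* helpers here

set_option autoImplicit false
open Cfsg

namespace Cfsg.Agent.S5453

/-- Let G be a finite group with an involution d whose centralizer C is quasisimple, such that C modulo the subgroup generated by d is of type M(22) with respect to some conjugacy class of 3-transpositions generating it and also has an involution whose own centralizer is quasisimple with quotient by it isomorphic to the projective special unitary group of dimension 6 over the field with four elements and which is not weakly closed in that centralizer; and suppose some conjugate of d other than d commutes with d. Then every involution of C modulo the subgroup generated by d is the image of an involution of C, and d is not a square in G. -/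
theorem result {G : Type*} [Group G] [Finite G] (d : G) (hd : orderOf d = 2) (hq : Cfsg.IsQuasisimple ↥(Subgroup.centralizer ({d} : Set G))) [hzn : ((Subgroup.zpowers d).subgroupOf (Subgroup.centralizer ({d} : Set G))).Normal] (htype : ∃ E : Set (↥(Subgroup.centralizer ({d} : Set G)) ⧸ (Subgroup.zpowers d).subgroupOf (Subgroup.centralizer ({d} : Set G))), Cfsg.IsThreeTranspositionClass E ∧ Cfsg.IsOfTypeM22 _ E) (hinvol : ∃ d' : ↥(Subgroup.centralizer ({d} : Set G)) ⧸ (Subgroup.zpowers d).subgroupOf (Subgroup.centralizer ({d} : Set G)), orderOf d' = 2 ∧ Cfsg.IsQuasisimple ↥(Subgroup.centralizer ({d'} : Set _)) ∧ (∃ (K : Type) (_ : Field K) (_ : Fintype K), Fintype.card K = 4 ∧ ∃ _ : ((Subgroup.zpowers d').subgroupOf (Subgroup.centralizer ({d'} : Set _))).Normal, Nonempty (↥(Subgroup.centralizer ({d'} : Set _)) ⧸ (Subgroup.zpowers d').subgroupOf (Subgroup.centralizer ({d'} : Set _)) ≃* Cfsg.PSU 6 K 2)) ∧ ∃ g, g * d' * g⁻¹ ∈ Subgroup.centralizer ({d'} : Set _) ∧ g * d' * g⁻¹ ≠ d') (hnwc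 : ∃ g : G, g * d * g⁻¹ ∈ Subgroup.centralizer ({d} : Set G) ∧ g * d * g⁻¹ ≠ d) : (∀ x : ↥(Subgroup.centralizer ({d} : Set G)) ⧸ (Subgroup.zpowers d).subgroupOf (Subgroup.centralizer ({d} : Set G)), orderOf x = 2 → ∃ y : ↥(Subgroup.centralizer ({d} : Set G)), orderOf y = 2 ∧ (QuotientGroup.mk y : ↥(Subgroup.centralizer ({d} : Set G)) ⧸ (Subgroup.zpowers d).subgroupOf (Subgroup.centralizer ({d} : Set G))) = x) ∧ ¬ ∃ g : G, g ^ 2 = d := by
  obtain ⟨E, hcls, h22⟩ := htype
  let π := QuotientGroup.mk' ((Subgroup.zpowers d).subgroupOf (Subgroup.centralizer ({d} : Set G)))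
  have hπ : Function.Surjective π := QuotientGroup.mk'_surjective ((Subgroup.zpowers d).subgroupOf (Subgroup.centralizer ({d} : Set G)))
  have hdd : d * d = 1 := ThreeTransp.Basic.mul_self_of_orderOf_two hd
  have hdC : d ∈ (Subgroup.centralizer ({d} : Set G)) := Subgroup.mem_centralizer_iff.2 (by rintro _ rfl; rfl)
  have hzp : ∀ x ∈ Subgroup.zpowers d, x = 1 ∨ x = d := by
    intro x hx
    obtain ⟨n, rfl⟩ := Subgroup.mem_zpowers_iff.1 hx
    rcases Int.even_or_odd n with ⟨r, rfl⟩ | ⟨r, rfl⟩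
    · left; rw [← two_mul, zpow_mul, zpow_two, hdd, one_zpow]
    · right; rw [zpow_add, zpow_one, zpow_mul, zpow_two, hdd, one_zpow, one_mul]
  let z : ↥(Subgroup.centralizer ({d} : Set G)) := ⟨d, hdC⟩
  have hz : z * z = 1 := Subtype.ext hdd
  have hzc : ∀ c : ↥(Subgroup.centralizer ({d} : Set G)), Commute z c := fun c =>
    Subtype.ext (Subgroup.mem_centralizer_iff.1 c.2 d rfl)
  have hker : ∀ c : ↥(Subgroup.centralizer ({d} : Set G)), π c = 1 → c = 1 ∨ c = z := by
    intro c hc
    rcases hzp c (Subgroup.mem_subgroupOf.1 ((QuotientGroup.eq_one_iff c).1 hc)) with h | h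
    exacts [Or.inl (Subtype.ext h), Or.inr (Subtype.ext h)]
  have hD : Cfsg.IsThreeTranspositionGroup E := by
    refine ⟨hcls.1, fun g e he => ?_, hcls.2.2⟩
    obtain ⟨e₀, -, rfl⟩ := hcls.2.1
    exact (show IsConj e₀ e from he).trans (isConj_iff.2 ⟨g, rfl⟩)
  haveI := hq.1
  have hperf : commutator (↥(Subgroup.centralizer ({d} : Set G)) ⧸ ((Subgroup.zpowers d).subgroupOf (Subgroup.centralizer ({d} : Set G)))) = ⊤ := by
    rw [commutator_def, ← Subgroup.map_top_of_surjective π hπ, ← Subgroup.map_commutator,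
      ← commutator_def, Group.IsPerfect.commutator_eq_top]
  have hsimple : IsSimpleGroup (↥(Subgroup.centralizer ({d} : Set G)) ⧸ ((Subgroup.zpowers d).subgroupOf (Subgroup.centralizer ({d} : Set G)))) := by
    haveI := hq.2
    have hZ : Subgroup.center ↥(Subgroup.centralizer ({d} : Set G)) = ((Subgroup.zpowers d).subgroupOf (Subgroup.centralizer ({d} : Set G))) := by
      refine le_antisymm (fun c hc => ?_) fun c hc => ?_
      · rw [← QuotientGroup.eq_one_iff c, ← Subgroup.mem_bot, ← h22.1]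
        refine Subgroup.mem_center_iff.2 fun q => ?_
        obtain ⟨y, rfl⟩ := hπ q
        exact (congrArg π (Subgroup.mem_center_iff.1 hc y) :)
      · refine Subgroup.mem_center_iff.2 fun y => ?_
        rcases hker c ((QuotientGroup.eq_one_iff c).2 hc) with rfl | rfl
        exacts [(Commute.one_left y).eq.symm, (hzc y).eq.symm]
    exact (QuotientGroup.quotientMulEquivOfEq hZ).symm.isSimpleGroup
  have hw : ∃ a ∈ E, ∃ b ∈ E, a ≠ b ∧ Commute a b := by
    obtain ⟨a, ha, -⟩ := hcls.2.1
    obtain ⟨K⟩ := ThreeTransp.M22.exists_chart hD h22 ha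
    obtain ⟨b, hb⟩ :=
      Set.nonempty_of_ncard_ne_zero (K.ncard_nb.trans_ne (by norm_num : (693 : ℕ) ≠ 0))
    exact ⟨a, ha, b, hb.1, Ne.symm hb.2.1, hb.2.2⟩
  have hprim : Cfsg.IsPrimitiveUnderConj E := (S5361.result hcls h22.1 hw).1.1
    ((MulEquiv.subgroupCongr hperf).trans Subgroup.topEquiv).isSimpleGroup
  have lift : ∀ x, orderOf x = 2 → ∃ y : ↥(Subgroup.centralizer ({d} : Set G)), orderOf y = 2 ∧ π y = x := by
    intro x hx
    obtain ⟨a, ha, -⟩ := hcls.2.1
    haveI : Fact (Nat.Prime 2) := ⟨Nat.prime_two⟩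
    haveI : Fact (Nat.Prime 3) := ⟨Nat.prime_three⟩
    obtain ⟨m, -, -, l, -, -, hl, hlc, hp⟩ := (S5398.result hD hprim a ha
      (ThreeTransp.M22.d₀_cores hD hprim h22 ha 3)
      (ThreeTransp.M22.d₀_cores hD hprim h22 ha 2) h22).1 x hx
    exact ThreeTransp.M22.DoubleCover.lift_involution hD hprim h22 π hπ z hz hzc hker hx hl hlc hp
  refine ⟨lift, ?_⟩
  rintro ⟨g, hg⟩
  have hgC : g ∈ (Subgroup.centralizer ({d} : Set G)) := Subgroup.mem_centralizer_iff.2 (by
    rintro _ rfl; rw [← hg, ← pow_succ, ← pow_succ'])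
  set g' : ↥(Subgroup.centralizer ({d} : Set G)) := ⟨g, hgC⟩ with hg'
  have hg2 : g' * g' = z := Subtype.ext ((pow_two g).symm.trans hg)
  have hz1 : z ≠ 1 := fun h => ThreeTransp.Basic.ne_one_of_orderOf_two hd (congrArg Subtype.val h)
  by_cases h1 : π g' = 1
  · rcases hker g' h1 with h | h
    · exact hz1 (by rw [← hg2, h, one_mul])
    · exact hz1 (by rw [← hg2, h, hz])
  · haveI : Fact (Nat.Prime 2) := ⟨Nat.prime_two⟩
    have hx : orderOf (π g') = 2 := orderOf_eq_prime (by
      rw [pow_two, ← map_mul, hg2]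
      exact (QuotientGroup.eq_one_iff z).2 (Subgroup.mem_subgroupOf.2 (Subgroup.mem_zpowers d))) h1
    obtain ⟨y, hy, hyx⟩ := lift _ hx
    have hy2 : y * y = 1 := ThreeTransp.Basic.mul_self_of_orderOf_two hy
    rcases hker (y⁻¹ * g') (by rw [map_mul, map_inv, hyx, inv_mul_cancel]) with h | h
    · rw [inv_mul_eq_one] at h
      exact hz1 (by rw [← hg2, ← h, hy2])
    · rw [inv_mul_eq_iff_eq_mul] at h
      exact hz1 (by rw [← hg2, h, (hzc y).mul_mul_mul_comm, hy2, hz, one_mul])

end Cfsg.Agent.S5453
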