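import Cfsg.Statements.S5454
import Cfsg.Agent.S5452
import Cfsg.Agent.Lib.ThreeTransp.U62Cover.Main
import Cfsg.Agent.Lib.ThreeTransp.U62Cover.Parabolic

set_option autoImplicit false
open Cfsg

namespace Cfsg.Agent.S5454

/-- Let G be a finite group with an involution d whose centralizer C is quasisimple with C modulo the subgroup generated by d isomorphic to the projective special unitary group of dimension 6 over the field with four elements, and suppose some conjugate of d other than d commutes with d. Let S be a Sylow 2-subgroup of C and A the Thompson subgroup of S (generated by the elementary abelian subgroups of S of largest order), regarded as a subgroup of G. Then A is elementary abelian of order 2^10, exactly 22 conjugates of d lie in A, and the normalizer of A permutes them transitively. -/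
theorem result {G : Type*} [Group G] [Finite G] (d : G) (hd : orderOf d = 2) (hq : Cfsg.IsQuasisimple ↥(Subgroup.centralizer ({d} : Set G))) [hzn : ((Subgroup.zpowers d).subgroupOf (Subgroup.centralizer ({d} : Set G))).Normal] (K : Type) [Field K] [Fintype K] (hK : Fintype.card K = 4) (e : ↥(Subgroup.centralizer ({d} : Set G)) ⧸ (Subgroup.zpowers d).subgroupOf (Subgroup.centralizer ({d} : Set G)) ≃* Cfsg.PSU 6 K 2) (hnwc : ∃ g : G, g * d * g⁻¹ ∈ Subgroup.centralizer ({d} : Set G) ∧ g * d * g⁻¹ ≠ d) (S : Sylow 2 ↥(Subgroup.centralizer ({d} : Set G))) (A : Subgroup G) (hA : A = (Cfsg.thompsonSubgroupOf 2 (S : Subgroup ↥(Subgroup.centralizer ({d} : Set G)))).map (Subgroup.centralizer ({d} : Set G)).subtype) : Cfsg.IsElementaryAbelian 2 A ∧ Nat.card A = 2 ^ 10 ∧ Set.ncard {x : G | x ∈ A ∧ IsConj d x} = 22 ∧ ∀ x ∈ A, ∀ y ∈ A, IsConj d x → IsConj d y → ∃ n ∈ Subgroup.normalizer (A : Set G), n * x * n⁻¹ = y := by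
  have hdd : d * d = 1 := by rw [← pow_two, ← hd, pow_orderOf_eq_one]
  have hd1 : d ≠ 1 := fun h => by
    rw [h, orderOf_one] at hd
    exact absurd hd (by norm_num)
  have hmem : ∀ g : G, g ∈ (Subgroup.centralizer ({d} : Set G)) ↔ g * d = d * g := fun g => Subgroup.mem_centralizer_singleton_iff
  obtain ⟨D⟩ := Cfsg.Agent.ThreeTransp.U62Cover.Model.exists_data (F := K) hK
  have hker : ∀ c : ↥(Subgroup.centralizer ({d} : Set G)), e (QuotientGroup.mk c) = 1 ↔ c = 1 ∨ (c : G) = d := by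
    intro c
    rw [e.map_eq_one_iff, QuotientGroup.eq_one_iff, Subgroup.mem_subgroupOf,
      ← mem_powers_iff_mem_zpowers]
    constructor
    · rintro ⟨k, hk⟩
      have hk' : d ^ k = (c : G) := hk
      rcases Nat.even_or_odd' k with ⟨j, rfl | rfl⟩
      · left
        exact Subtype.ext (by rw [← hk', pow_mul, pow_two, hdd, one_pow]; rfl)
      · right
        rw [← hk', pow_succ, pow_mul, pow_two, hdd, one_pow, one_mul]
    · rintro (rfl | h)
      · exact Submonoid.one_mem _
      · exact ⟨1, by simp [h]⟩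
  let X : Cfsg.Agent.ThreeTransp.U62Cover.Cover (Subgroup.centralizer ({d} : Set G)) (Cfsg.PSU 6 K 2) :=
    { d := d
      f := e.toMonoidHom.comp (QuotientGroup.mk' _)
      D := D
      d_sq := hdd
      d_ne := hd1
      mem := hmem
      surj := e.surjective.comp (QuotientGroup.mk'_surjective _)
      ker := hker
      not_sq := fun ⟨g, hg⟩ =>
        (Cfsg.Agent.S5452.result d hd hq K hK e hnwc).2 ⟨g, by rw [pow_two, hg]⟩ }
  obtain ⟨c, hc⟩ := X.thompson S
  have hn : X.Ω.ncard = 22 := X.ncard_eq hq.1.commutator_eq_top hnwc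
  rw [hc] at hA
  subst hA
  set φ := (MulAut.conj (c : G)).toMonoidHom with hφ
  have hinj : Function.Injective φ := (MulAut.conj (c : G)).injective
  have hφd : φ d = d := by
    show (c : G) * d * (c : G)⁻¹ = d
    rw [(hmem _).1 c.2, mul_inv_cancel_right]
  have hconj : ∀ x : G, IsConj d (φ x) ↔ IsConj d x := by
    intro x
    have h : IsConj x (φ x) := isConj_iff.2 ⟨(c : G), rfl⟩
    exact ⟨fun h' => h'.trans h.symm, fun h' => h'.trans h⟩
  refine ⟨?_, ?_, ?_, ?_⟩
  · refine ⟨⟨⟨fun a b => Subtype.ext ?_⟩⟩, fun a ha => ?_⟩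
    · obtain ⟨x, hx, hxa⟩ := a.2
      obtain ⟨y, hy, hyb⟩ := b.2
      show (a : G) * b = (b : G) * a
      rw [← hxa, ← hyb, ← map_mul, X.comm_A hx hy, map_mul]
    · obtain ⟨x, hx, rfl⟩ := ha
      rw [pow_two, ← map_mul, X.sq_A hx, map_one]
  · rw [Subgroup.card_map_of_injective hinj, X.card_A]
  · rw [← hn, ← Set.ncard_image_of_injective X.Ω hinj]
    congr 1
    ext x
    constructor
    · rintro ⟨⟨a, ha, rfl⟩, h⟩
      exact ⟨a, ⟨ha, (hconj a).1 h⟩, rfl⟩
    · rintro ⟨a, ⟨ha, h⟩, rfl⟩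
      exact ⟨⟨a, ha, rfl⟩, (hconj a).2 h⟩
  · rintro _ ⟨x, hx, rfl⟩ _ ⟨y, hy, rfl⟩ hdx hdy
    obtain ⟨n₁, h₁, e₁⟩ := X.trans hx ((hconj x).1 hdx)
    obtain ⟨n₂, h₂, e₂⟩ := X.trans hy ((hconj y).1 hdy)
    have hn' : n₂ * n₁⁻¹ ∈ Subgroup.normalizer (X.A : Set G) := mul_mem h₂ (inv_mem h₁)
    refine ⟨φ (n₂ * n₁⁻¹), ?_, ?_⟩
    · refine Subgroup.mem_normalizer_iff.2 fun h => ?_
      obtain ⟨z, rfl⟩ := (MulAut.conj (c : G)).surjective h
      show φ z ∈ X.A.map φ ↔ φ (n₂ * n₁⁻¹) * φ z * (φ (n₂ * n₁⁻¹))⁻¹ ∈ X.A.map φ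
      rw [← map_inv, ← map_mul, ← map_mul, Subgroup.mem_map_iff_mem hinj,
        Subgroup.mem_map_iff_mem hinj]
      exact Subgroup.mem_normalizer_iff.1 hn' z
    · rw [← map_inv, ← map_mul, ← map_mul, ← e₁, ← e₂]
      congr 1
      group

end Cfsg.Agent.S5454
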