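import Cfsg.Statements.S5455
import Cfsg.Agent.GenA.Heptad.Main
import Cfsg.Agent.GenA.Heptad.Transport
-- import your own Cfsg.Agent.* helpers here

set_option autoImplicit false
open Cfsg

namespace Cfsg.Agent.S5455

/-- Let G be a finite group with an involution d whose centralizer C is quasisimple, such that C modulo the subgroup generated by d is of type M(22) with respect to some conjugacy class of 3-transpositions generating it and also has an involution whose own centralizer is quasisimple with quotient by it isomorphic to the projective special unitary group of dimension 6 over the field with four elements and which is not weakly closed in that centralizer; and suppose some conjugate of d other than d commutes with d. Let S be a Sylow 2-subgroup of C and A the Thompson subgroup of S, regarded as a subgroup of G. Then A is elementary abelian of order 2^11, exactly 23 conjugates of d lie in A, and the normalizer of A permutes them transitively. -/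
theorem result {G : Type*} [Group G] [Finite G] (d : G) (hd : orderOf d = 2) (hq : Cfsg.IsQuasisimple ↥(Subgroup.centralizer ({d} : Set G))) [hzn : ((Subgroup.zpowers d).subgroupOf (Subgroup.centralizer ({d} : Set G))).Normal] (htype : ∃ E : Set (↥(Subgroup.centralizer ({d} : Set G)) ⧸ (Subgroup.zpowers d).subgroupOf (Subgroup.centralizer ({d} : Set G))), Cfsg.IsThreeTranspositionClass E ∧ Cfsg.IsOfTypeM22 _ E) (hinvol : ∃ d' : ↥(Subgroup.centralizer ({d} : Set G)) ⧸ (Subgroup.zpowers d).subgroupOf (Subgroup.centralizer ({d} : Set G)), orderOf d' = 2 ∧ Cfsg.IsQuasisimple ↥(Subgroup.centralizer ({d'} : Set _)) ∧ (∃ (K : Type) (_ : Field K) (_ : Fintype K), Fintype.card K = 4 ∧ ∃ _ : ((Subgroup.zpowers d').subgroupOf (Subgroup.centralizer ({d'} : Set _))).Normal, Nonempty (↥(Subgroup.centralizer ({d'} : Set _)) ⧸ (Subgroup.zpowers d').subgroupOf (Subgroup.centralizer ({d'} : Set _)) ≃* Cfsg.PSU 6 K 2)) ∧ ∃ g, g * d' * g⁻¹ ∈ Subgroup.centralizer ({d'} : Set _) ∧ g * d' * g⁻¹ ≠ d') (hnwc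 : ∃ g : G, g * d * g⁻¹ ∈ Subgroup.centralizer ({d} : Set G) ∧ g * d * g⁻¹ ≠ d) (S : Sylow 2 ↥(Subgroup.centralizer ({d} : Set G))) (A : Subgroup G) (hA : A = (Cfsg.thompsonSubgroupOf 2 (S : Subgroup ↥(Subgroup.centralizer ({d} : Set G)))).map (Subgroup.centralizer ({d} : Set G)).subtype) : Cfsg.IsElementaryAbelian 2 A ∧ Nat.card A = 2 ^ 11 ∧ Set.ncard {x : G | x ∈ A ∧ IsConj d x} = 23 ∧ ∀ x ∈ A, ∀ y ∈ A, IsConj d x → IsConj d y → ∃ n ∈ Subgroup.normalizer (A : Set G), n * x * n⁻¹ = y := by
  obtain ⟨E, hcls, h22⟩ := htype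
  haveI : Fact (Nat.Prime 2) := ⟨Nat.prime_two⟩
  obtain ⟨hs, hperf⟩ := GenA.Heptad.setup_of_hyp d hd hq hcls h22
  obtain ⟨L, hL⟩ := GenA.Heptad.exists_good hs hperf
  let T := S.mapSurjective hs.surj
  let A₀ := GenA.Heptad.AA (QuotientGroup.mk' _) E T
  have hAA : A = A₀.map (Subgroup.centralizer ({d} : Set G)).subtype := by
    rw [hA, GenA.Heptad.thompson_eq hs hL S]
  obtain ⟨helA, hcardA⟩ := GenA.Heptad.thompson_map hs hL S
  have trans : ∀ x ∈ A, IsConj d x → ∃ n ∈ Subgroup.normalizer (A : Set G), n * d * n⁻¹ = x :=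
    fun x hx hc => GenA.Heptad.trans_AA hs hL S hAA hx hc
  refine ⟨hAA ▸ helA, hAA ▸ hcardA, ?_, ?_⟩
  · have himg : {x : G | x ∈ A ∧ IsConj d x} = Subtype.val ''
        {y : ↥(Subgroup.centralizer ({d} : Set G)) | y ∈ A₀ ∧ IsConj d (y : G)} := by
      ext x
      constructor
      · rintro ⟨hx, hc⟩
        rw [hAA] at hx
        obtain ⟨y, hy, rfl⟩ := hx
        exact ⟨y, ⟨hy, hc⟩, rfl⟩
      · rintro ⟨y, ⟨hy, hc⟩, rfl⟩
        exact ⟨hAA ▸ ⟨y, hy, rfl⟩, hc⟩
    rw [himg, Set.ncard_image_of_injective _ Subtype.val_injective]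
    exact GenA.Heptad.ncard_eq hs hL T (GenA.Heptad.orb_conj hs hL S)
      (GenA.Heptad.exists_conj_AA hs hL S (ThreeTransp.Basic.mul_self_of_orderOf_two hd)
        (ThreeTransp.Basic.ne_one_of_orderOf_two hd) hnwc)
  · intro x hx y hy h1 h2
    obtain ⟨n, hn, rfl⟩ := trans x hx h1
    obtain ⟨m, hm, rfl⟩ := trans y hy h2
    exact ⟨m * n⁻¹, mul_mem hm (inv_mem hn), by group⟩

end Cfsg.Agent.S5455
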