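import Cfsg.Statements.S5458
import Cfsg.Agent.Lib.ThreeTransp.M22.Thompson

set_option autoImplicit false
open Cfsg

namespace Cfsg.Agent.S5458

/-- Let G be a finite group with trivial centre generated by a conjugation-invariant set D of 3-transpositions on which it acts primitively, of type M(22), and suppose G also has an involution whose centralizer is quasisimple with quotient by it the projective special unitary group of dimension 6 over the field with four elements and which is not weakly closed in that centralizer. Let T be a Sylow 2-subgroup of G. Then the subgroup generated by the members of D lying in T is the Thompson subgroup of T (generated by the elementary abelian subgroups of T of largest order). -/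
theorem result {G : Type*} [Group G] [Finite G] {D : Set G} (hD : Cfsg.IsThreeTranspositionGroup D) (hprim : Cfsg.IsPrimitiveUnderConj D) (h22 : Cfsg.IsOfTypeM22 G D) (hM : ∃ d : G, orderOf d = 2 ∧ Cfsg.IsQuasisimple ↥(Subgroup.centralizer ({d} : Set G)) ∧ (∃ (_ : ((Subgroup.zpowers d).subgroupOf (Subgroup.centralizer ({d} : Set G))).Normal) (K : Type) (_ : Field K) (_ : Fintype K), Fintype.card K = 4 ∧ Nonempty (↥(Subgroup.centralizer ({d} : Set G)) ⧸ (Subgroup.zpowers d).subgroupOf (Subgroup.centralizer ({d} : Set G)) ≃* Cfsg.PSU 6 K 2)) ∧ ∃ g : G, g * d * g⁻¹ ∈ Subgroup.centralizer ({d} : Set G) ∧ g * d * g⁻¹ ≠ d) (T : Sylow 2 G) : Subgroup.closure {x : G | x ∈ D ∧ x ∈ (T : Subgroup G)} = Cfsg.thompsonSubgroupOf 2 (T : Subgroup G) := by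
  have hle : Subgroup.closure {x : G | x ∈ D ∧ x ∈ (T : Subgroup G)} ≤ (T : Subgroup G) :=
    (Subgroup.closure_le _).2 fun x hx => hx.2
  set EE := Subgroup.closure {x : G | x ∈ D ∧ x ∈ (T : Subgroup G)} with hEE
  have hel : Cfsg.IsElementaryAbelian 2 (EE.subgroupOf (T : Subgroup G)) :=
    ⟨⟨⟨fun p q => Subtype.ext (Subtype.ext
      (ThreeTransp.M22.Thompson.EE_comm hD T _ p.2 _ q.2))⟩⟩,
      fun p hp => Subtype.ext (by
        rw [SubgroupClass.coe_pow, pow_two]
        exact ThreeTransp.M22.Thompson.EE_sq hD T hp)⟩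
  have key : ∀ B : Subgroup ↥(T : Subgroup G), Cfsg.IsElementaryAbelian 2 B →
      Nat.card ↥EE ≤ Nat.card B → B ≤ EE.subgroupOf (T : Subgroup G) := by
    intro B hB hc
    have h := ThreeTransp.M22.Thompson.le_of_card hD hprim h22 T (A := B.map (T : Subgroup G).subtype)
      (Subgroup.map_subtype_le _)
      (by
        rintro _ ⟨p, hp, rfl⟩ _ ⟨q, hq, rfl⟩
        exact congrArg (fun z : ↥B => ((z : ↥(T : Subgroup G)) : G))
          (hB.1.is_comm.comm (⟨p, hp⟩ : ↥B) ⟨q, hq⟩))
      (by
        rintro _ ⟨p, hp, rfl⟩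
        have := congrArg Subtype.val (hB.2 p hp)
        simpa [pow_two] using this)
      (by rwa [Subgroup.card_map_of_injective (Subgroup.subtype_injective _)])
    intro p hp
    exact h ⟨p, hp, rfl⟩
  have hcE : Nat.card ↥(EE.subgroupOf (T : Subgroup G)) = Nat.card ↥EE :=
    Nat.card_congr (Subgroup.subgroupOfEquivOfLe hle).toEquiv
  have hmax : Cfsg.maxElementaryAbelianSubgroups 2 ↥(T : Subgroup G) =
      {EE.subgroupOf (T : Subgroup G)} := by
    ext B
    constructor
    · rintro ⟨hB, hBmax⟩
      have h1 := hBmax _ hel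
      rw [hcE] at h1
      exact Subgroup.eq_of_le_of_card_ge (key B hB h1) (hcE ▸ h1)
    · rintro rfl
      refine ⟨hel, fun B hB => ?_⟩
      rcases le_total (Nat.card ↥EE) (Nat.card B) with h | h
      · exact Subgroup.card_le_of_le (key B hB h)
      · rw [hcE]; exact h
  rw [Cfsg.thompsonSubgroupOf, Cfsg.thompsonSubgroup, hmax, sSup_singleton,
    Subgroup.map_subgroupOf_eq_of_le hle]

end Cfsg.Agent.S5458
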