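import Cfsg.Statements.S5459
import Cfsg.Agent.Lib.Components.Basic
import Cfsg.Agent.Lib.ThreeTransp.Basic
import Cfsg.Agent.Lib.ThreeTransp.Dihedral

set_option autoImplicit false
open Cfsg

namespace Cfsg.Agent.S5459

open Cfsg.Agent.ThreeTransp

/-- Let G be a finite group with a quasisimple normal subgroup L and an involution d such that G is generated by L and d, the centre of L has odd order, and d inverts every element of the centre of L. If the commuting graph on the conjugacy class of the image of d in G modulo the centre of L is connected, then the commuting graph on the conjugacy class of d is connected. -/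
theorem result {G : Type*} [Group G] [Finite G] (L : Subgroup G) [L.Normal] (hL : Cfsg.IsQuasisimple ↥L) (d : G) (hd : orderOf d = 2) (hgen : L ⊔ Subgroup.zpowers d = ⊤) (hodd : Odd (Nat.card ↥(Subgroup.center ↥L))) (hinv : ∀ c ∈ (Subgroup.center ↥L).map L.subtype, d * c * d⁻¹ = c⁻¹) [hn : ((Subgroup.center ↥L).map L.subtype).Normal] (hconn : (Cfsg.commutingGraph (conjugatesOf (QuotientGroup.mk d : G ⧸ (Subgroup.center ↥L).map L.subtype))).Connected) : (Cfsg.commutingGraph (conjugatesOf d)).Connected := by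
  classical
  set Z' := (Subgroup.center ↥L).map L.subtype with hZ'
  have hZL : Z' ≤ L := Subgroup.map_subtype_le _
  have hZcent : ∀ c ∈ Z', ∀ l ∈ L, l * c = c * l := by
    rintro _ ⟨c, hc, rfl⟩ l hl
    exact congrArg Subtype.val (Subgroup.mem_center_iff.1 hc ⟨l, hl⟩)
  have hZodd : Odd (Nat.card ↥Z') := by
    rwa [hZ', Subgroup.card_map_of_injective L.subtype_injective]
  have hC2 : ∀ a ∈ conjugatesOf d, orderOf a = 2 := by
    intro a ha
    obtain ⟨g, rfl⟩ := isConj_iff.1 ha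
    rw [Involutions.Basic.orderOf_conj, hd]
  have hinvC : ∀ a ∈ conjugatesOf d, ∀ c ∈ Z', a * c * a⁻¹ = c⁻¹ := by
    intro a ha c hc
    obtain ⟨g, rfl⟩ := isConj_iff.1 ha
    have h1 := hinv _ (hn.conj_mem c hc g⁻¹)
    calc g * d * g⁻¹ * c * (g * d * g⁻¹)⁻¹ = g * (d * (g⁻¹ * c * g⁻¹⁻¹) * d⁻¹) * g⁻¹ := by
          simp [mul_assoc]
      _ = c⁻¹ := by rw [h1]; simp [mul_assoc]
  -- lifting a commuting pair of the quotient
  have hlift : ∀ a ∈ conjugatesOf d, ∀ b ∈ conjugatesOf d,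
      Commute (a : G ⧸ Z') b → ∃ b' ∈ conjugatesOf d, (b' : G ⧸ Z') = b ∧ Commute a b' := by
    intro a ha b hb hab
    have ha2 := Basic.mul_self_of_orderOf_two (hC2 a ha)
    have hb2 := Basic.mul_self_of_orderOf_two (hC2 b hb)
    have hai := Basic.inv_eq_of_orderOf_two (hC2 a ha)
    have hbi := Basic.inv_eq_of_orderOf_two (hC2 b hb)
    have hc : b * a * b * a ∈ Z' := by
      have h1 : ((a * b : G) : G ⧸ Z') = ((b * a : G) : G ⧸ Z') := hab
      rw [QuotientGroup.eq, mul_inv_rev, hai, hbi] at h1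
      simpa [mul_assoc] using h1
    set c := b * a * b * a with hcdef
    obtain ⟨g, hgZ, hg⟩ : ∃ g ∈ Z', g ^ 4 = c⁻¹ := by
      have h4 : (Nat.card ↥Z').Coprime 4 := (Nat.coprime_two_right.2 hZodd).pow_right 2
      obtain ⟨g, hg⟩ := (powCoprime h4).surjective ⟨c⁻¹, Z'.inv_mem hc⟩
      exact ⟨g, g.2, congrArg Subtype.val hg⟩
    have hconjg : ∀ x ∈ conjugatesOf d, ∀ y ∈ Z', x * y = y⁻¹ * x := fun x hx y hy => by
      rw [← hinvC x hx y hy, inv_mul_cancel_right]
    refine ⟨g * b * g⁻¹, Dihedral.conjugatesOf_conj d g hb, ?_, ?_⟩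
    · rw [QuotientGroup.mk_mul, QuotientGroup.mk_mul, (QuotientGroup.eq_one_iff g).2 hgZ,
        (QuotientGroup.eq_one_iff g⁻¹).2 (Z'.inv_mem hgZ)]
      simp
    · have e1 : g * b * g⁻¹ = b * (g ^ 2)⁻¹ := by
        have := hconjg b hb g⁻¹ (Z'.inv_mem hgZ)
        rw [inv_inv] at this
        rw [← this, pow_two, mul_inv_rev, mul_assoc]
      have e2 : a * b * a = b * c := by
        rw [hcdef]; simp [← mul_assoc, hb2]
      have e3 : a * (b * (g ^ 2)⁻¹) * a = b * (g ^ 2)⁻¹ := by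
        calc a * (b * (g ^ 2)⁻¹) * a = a * b * ((g ^ 2)⁻¹ * a) := by simp [mul_assoc]
          _ = a * b * (a * g ^ 2) := by rw [hconjg a ha _ (pow_mem hgZ 2)]
          _ = (a * b * a) * g ^ 2 := by simp [mul_assoc]
          _ = b * (c * g ^ 2) := by rw [e2, mul_assoc]
          _ = b * (g ^ 2)⁻¹ := by
              congr 1
              rw [eq_inv_iff_mul_eq_one, mul_assoc, ← pow_add, hg, mul_inv_cancel]
      rw [e1]
      show a * (b * (g ^ 2)⁻¹) = b * (g ^ 2)⁻¹ * a
      conv_rhs => rw [← e3]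
      rw [mul_assoc _ a a, ha2, mul_one]
  -- the component of `d`
  set Γ := Cfsg.commutingGraph (conjugatesOf d) with hΓ
  have hadj : ∀ x y : ↥(conjugatesOf d), Commute (x : G) y → Γ.Reachable x y := by
    intro x y h
    by_cases e : x = y
    · subst e; rfl
    · exact SimpleGraph.Adj.reachable ((SimpleGraph.fromRel_adj _ _ _).2 ⟨e, Or.inl h⟩)
  have hdC : d ∈ conjugatesOf d := IsConj.refl d
  let K : Set G := {a | ∃ ha : a ∈ conjugatesOf d, Γ.Reachable ⟨d, hdC⟩ ⟨a, ha⟩}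
  have hdK : d ∈ K := ⟨hdC, SimpleGraph.Reachable.refl _⟩
  have hquot : ∀ b ∈ conjugatesOf d, ∃ a ∈ K, (a : G ⧸ Z') = b := by
    intro b hb
    have hbq : (b : G ⧸ Z') ∈ conjugatesOf (QuotientGroup.mk d : G ⧸ Z') :=
      (QuotientGroup.mk' Z').map_isConj hb
    obtain ⟨w⟩ := hconn ⟨_, IsConj.refl _⟩ ⟨(b : G ⧸ Z'), hbq⟩
    have main : ∀ (u v : ↥(conjugatesOf (QuotientGroup.mk d : G ⧸ Z'))),
        (Cfsg.commutingGraph (conjugatesOf (QuotientGroup.mk d : G ⧸ Z'))).Walk u v →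
        (∃ a ∈ K, (a : G ⧸ Z') = u) → ∃ a ∈ K, (a : G ⧸ Z') = v := by
      intro u v w
      induction w with
      | nil => exact id
      | @cons u v t huv _ ih =>
        rintro ⟨a, ⟨ha, har⟩, hau⟩
        apply ih
        obtain ⟨g, hg⟩ := isConj_iff.1 v.2
        obtain ⟨g, rfl⟩ := QuotientGroup.mk_surjective g
        have hvC : g * d * g⁻¹ ∈ conjugatesOf d := Dihedral.conjugatesOf_conj d g hdC
        have hcomm : Commute (a : G ⧸ Z') ((g * d * g⁻¹ : G) : G ⧸ Z') := by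
          rw [hau, QuotientGroup.mk_mul, QuotientGroup.mk_mul, QuotientGroup.mk_inv, hg]
          rcases ((SimpleGraph.fromRel_adj _ _ _).1 huv).2 with h | h
          · exact h
          · exact h.symm
        obtain ⟨b', hb', e, hab⟩ := hlift a ha _ hvC hcomm
        refine ⟨b', ⟨hb', har.trans (hadj ⟨a, ha⟩ ⟨b', hb'⟩ hab)⟩, ?_⟩
        rw [e, QuotientGroup.mk_mul, QuotientGroup.mk_mul, QuotientGroup.mk_inv, hg]
    exact main _ _ w ⟨d, hdK, rfl⟩
  -- its stabilizer
  let cj : G → (Γ →g Γ) := fun g =>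
    { toFun := fun x => ⟨g * x * g⁻¹, Dihedral.conjugatesOf_conj d g x.2⟩
      map_rel' := by
        intro x y h
        rw [hΓ, Cfsg.commutingGraph, SimpleGraph.fromRel_adj] at h ⊢
        refine ⟨fun e => h.1 (Subtype.ext ?_), h.2.imp ((Commute.conj_iff g).2) ((Commute.conj_iff g).2)⟩
        simpa using congrArg Subtype.val e }
  have hmove : ∀ a ∈ K, ∀ e ∈ K, a * e * a⁻¹ ∈ K := by
    rintro a ⟨ha, har⟩ e ⟨he, her⟩
    refine ⟨Dihedral.conjugatesOf_conj d a he, ?_⟩
    have h1 := (har.symm.trans her).map (cj a)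
    have h2 : (cj a) ⟨a, ha⟩ = ⟨a, ha⟩ := Subtype.ext (by show a * a * a⁻¹ = a; simp)
    rw [h2] at h1
    exact har.trans h1
  let M : Subgroup G :=
    { carrier := {g | ∀ a, a ∈ K ↔ g * a * g⁻¹ ∈ K}
      one_mem' := by intro a; simp
      mul_mem' := by
        intro g h hg hh a
        rw [hh a, hg (h * a * h⁻¹)]
        simp [mul_assoc]
      inv_mem' := by
        intro g hg a
        rw [hg (g⁻¹ * a * g⁻¹⁻¹)]
        simp [mul_assoc] }
  have hXM : Subgroup.closure K ≤ M := by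
    rw [Subgroup.closure_le]
    intro a ha b
    refine ⟨fun hb => hmove a ha b hb, fun hb => ?_⟩
    have := hmove a ha _ hb
    have hai := Basic.inv_eq_of_orderOf_two (hC2 a ha.1)
    have ha2 := Basic.mul_self_of_orderOf_two (hC2 a ha.1)
    simp only [hai, ← mul_assoc, ha2, one_mul, mul_assoc _ a a, mul_one] at this
    exact this
  set X := Subgroup.closure K with hX
  have hCX : ∀ b ∈ conjugatesOf d, b ∈ X ⊔ Z' := by
    intro b hb
    obtain ⟨a, ha, e⟩ := hquot b hb
    rw [QuotientGroup.eq] at e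
    have := mul_mem (Subgroup.mem_sup_left (Subgroup.subset_closure ha) : a ∈ X ⊔ Z')
      (Subgroup.mem_sup_right e)
    rwa [mul_inv_cancel_left] at this
  suffices hKC : ∀ b ∈ conjugatesOf d, b ∈ K by
    haveI : Nonempty ↥(conjugatesOf d) := ⟨⟨d, hdC⟩⟩
    exact ⟨fun x y => (hKC x x.2).2.symm.trans (hKC y y.2).2⟩
  rcases eq_or_ne Z' ⊥ with hbot | hne
  · intro b hb
    obtain ⟨a, ha, e⟩ := hquot b hb
    rw [QuotientGroup.eq, hbot, Subgroup.mem_bot] at e
    have hab : a = b := by rw [← inv_eq_of_mul_eq_one_right e, inv_inv]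
    exact hab ▸ ha
  set N := Subgroup.normalClosure ({d} : Set G) with hN
  have hdN : d ∈ N := Subgroup.subset_normalClosure rfl
  have hLN : L ≤ N := by
    rcases Components.Basic.quasisimple_eq_top_or_le_center_of_normal hL (N.subgroupOf L) with h | h
    · exact Subgroup.subgroupOf_eq_top.1 h
    exfalso
    apply hne
    have hψmem : ∀ l : ↥L, (l : G) * d * (l : G)⁻¹ * d⁻¹ ∈ Z' := by
      intro l
      have h1 : (l : G) * d * (l : G)⁻¹ * d⁻¹ ∈ L := by
        rw [mul_assoc (l : G), mul_assoc (l : G)]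
        exact L.mul_mem l.2 ((inferInstance : L.Normal).conj_mem _ (L.inv_mem l.2) d)
      exact ⟨⟨_, h1⟩, h (Subgroup.mem_subgroupOf.2 (mul_mem
        ((inferInstance : N.Normal).conj_mem d hdN l) (N.inv_mem hdN))), rfl⟩
    let ψ : ↥L →* ↥Z' :=
      { toFun := fun l => ⟨_, hψmem l⟩
        map_one' := by ext; simp
        map_mul' := fun l m => by
          ext
          show (l * m : G) * d * (l * m : G)⁻¹ * d⁻¹ =
            l * d * (l : G)⁻¹ * d⁻¹ * (m * d * (m : G)⁻¹ * d⁻¹)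
          have hc := hψmem m
          generalize hcm : (m : G) * d * (m : G)⁻¹ * d⁻¹ = z at hc
          have hmd : (m : G) * d * (m : G)⁻¹ = z * d := by rw [← hcm, inv_mul_cancel_right]
          calc (l * m : G) * d * (l * m : G)⁻¹ * d⁻¹
              = l * (m * d * (m : G)⁻¹) * (l : G)⁻¹ * d⁻¹ := by simp [mul_assoc]
            _ = (l * z) * (d * (l : G)⁻¹ * d⁻¹) := by rw [hmd]; simp [mul_assoc]
            _ = z * (l * d * (l : G)⁻¹ * d⁻¹) := by rw [hZcent z hc l l.2]; simp [mul_assoc]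
            _ = _ := (hZcent z hc _ (hZL (hψmem l))).symm }
    haveI := hL.1
    haveI : IsMulCommutative ↥Z' := ⟨⟨fun a b => Subtype.ext (hZcent b b.2 a (hZL a.2))⟩⟩
    have htriv : ∀ l : ↥L, ψ l = 1 := by
      intro l
      have hl : l ∈ commutator ↥L := by rw [hL.1.commutator_eq_top]; exact Subgroup.mem_top l
      have : commutator ↥L ≤ ψ.ker := by
        rw [commutator_def, Subgroup.commutator_le]
        intro a _ b _
        rw [MonoidHom.mem_ker, map_commutatorElement, commutatorElement_eq_one_iff_mul_comm]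
        exact mul_comm' _ _
      exact this hl
    rw [Subgroup.eq_bot_iff_forall]
    intro c hc
    have h1 : c * d * c⁻¹ * d⁻¹ = 1 := congrArg Subtype.val (htriv ⟨c, hZL hc⟩)
    have h2 : d * c = c * d := (mul_inv_eq_iff_eq_mul.1 (mul_inv_eq_one.1 h1)).symm
    have h3 : c = c⁻¹ := by
      rw [← hinv c hc, h2, mul_inv_cancel_right]
    have h4 : (⟨c, hc⟩ : ↥Z') ^ 2 = 1 := by
      ext
      show c ^ 2 = 1
      rw [pow_two]
      nth_rw 1 [h3]
      exact inv_mul_cancel c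
    have h5 := (Nat.Coprime.pow_left_bijective (Nat.coprime_two_right.2 hZodd)).1
      (h4.trans (one_pow 2).symm)
    exact congrArg Subtype.val h5
  have hNtop : N = ⊤ := by
    rw [eq_top_iff, ← hgen]
    exact sup_le hLN (Subgroup.zpowers_le.2 hdN)
  have hXZ : X ⊔ Z' = ⊤ := by
    rw [eq_top_iff, ← hNtop, hN, Subgroup.normalClosure, Subgroup.closure_le]
    intro b hb
    obtain ⟨e, he, hconj⟩ := Group.mem_conjugatesOfSet_iff.1 hb
    rw [Set.mem_singleton_iff] at he
    subst he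
    exact hCX b hconj
  have hLX : L ≤ X := by
    have hdec : ∀ l ∈ L, ∃ x ∈ X, x ∈ L ∧ ∃ z ∈ Z', l = x * z := by
      intro l hl
      have : l ∈ X ⊔ Z' := hXZ ▸ Subgroup.mem_top l
      obtain ⟨x, hx, z, hz, rfl⟩ := Subgroup.mem_sup_of_normal_right.1 this
      refine ⟨x, hx, ?_, z, hz, rfl⟩
      have := L.mul_mem hl (L.inv_mem (hZL hz))
      rwa [mul_inv_cancel_right] at this
    suffices h : commutator ↥L ≤ X.subgroupOf L by
      rw [hL.1.commutator_eq_top, top_le_iff] at h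
      exact Subgroup.subgroupOf_eq_top.1 h
    rw [commutator_def, Subgroup.commutator_le]
    rintro ⟨a, ha⟩ _ ⟨b, hb⟩ _
    rw [Subgroup.mem_subgroupOf]
    obtain ⟨x, hx, hxL, z, hz, rfl⟩ := hdec a ha
    obtain ⟨y, hy, hyL, w, hw, rfl⟩ := hdec b hb
    show x * z * (y * w) * (x * z)⁻¹ * (y * w)⁻¹ ∈ X
    have e : x * z * (y * w) * (x * z)⁻¹ * (y * w)⁻¹ = x * y * x⁻¹ * y⁻¹ := by
      have hz' : ∀ l ∈ L, z * l = l * z := fun l hl => (hZcent z hz l hl).symm
      have hw' : ∀ l ∈ L, w * l = l * w := fun l hl => (hZcent w hw l hl).symm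
      calc x * z * (y * w) * (x * z)⁻¹ * (y * w)⁻¹
          = x * (z * (y * w)) * z⁻¹ * (x⁻¹ * w⁻¹) * y⁻¹ := by simp [mul_assoc]
        _ = x * (y * w) * (x⁻¹ * w⁻¹) * y⁻¹ := by
            rw [hz' (y * w) (L.mul_mem hyL (hZL hw))]; simp [mul_assoc]
        _ = x * y * (w * x⁻¹) * w⁻¹ * y⁻¹ := by simp [mul_assoc]
        _ = x * y * x⁻¹ * y⁻¹ := by rw [hw' _ (L.inv_mem hxL)]; simp [mul_assoc]
    rw [e]
    exact mul_mem (mul_mem (mul_mem hx hy) (inv_mem hx)) (inv_mem hy)
  have hMtop : M = ⊤ := by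
    rw [eq_top_iff, ← hgen]
    refine (sup_le hLX ?_).trans hXM
    exact Subgroup.zpowers_le.2 (Subgroup.subset_closure hdK)
  intro b hb
  obtain ⟨g, rfl⟩ := isConj_iff.1 hb
  have : g ∈ M := hMtop ▸ Subgroup.mem_top g
  exact (this d).1 hdK

end Cfsg.Agent.S5459
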