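import Cfsg.Statements.S5462
import Cfsg.Agent.Lib.ThreeTransp.M22.Eighteen
import Cfsg.Agent.Lib.ThreeTransp.M22.Involutions
import Cfsg.Agent.Lib.ThreeTransp.M22.Unique

set_option autoImplicit false
open Cfsg

namespace Cfsg.Agent.S5462

/-- Let G be a finite group with trivial centre generated by a conjugation-invariant set D of 3-transpositions on which it acts primitively, such that for some d in D the subgroup generated by the members of D other than d commuting with d has central largest normal 2- and 3-subgroups, and suppose G with D is of type M(22). Then every automorphism of G of order 2 fixes some member of D. -/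
theorem result {G : Type*} [Group G] [Finite G] {D : Set G} (hD : Cfsg.IsThreeTranspositionGroup D) (hprim : Cfsg.IsPrimitiveUnderConj D) (d₀ : G) (hd₀ : d₀ ∈ D) (h3 : Cfsg.pCore 3 ↥(Subgroup.closure {y : G | y ∈ D ∧ y ≠ d₀ ∧ Commute d₀ y}) ≤ Subgroup.center ↥(Subgroup.closure {y : G | y ∈ D ∧ y ≠ d₀ ∧ Commute d₀ y})) (h2 : Cfsg.pCore 2 ↥(Subgroup.closure {y : G | y ∈ D ∧ y ≠ d₀ ∧ Commute d₀ y}) ≤ Subgroup.center ↥(Subgroup.closure {y : G | y ∈ D ∧ y ≠ d₀ ∧ Commute d₀ y})) (h22 : Cfsg.IsOfTypeM22 G D) (φ : MulAut G) (hφ : orderOf φ = 2) : ∃ d ∈ D, φ d = d := by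
  have hsq : ∀ g, φ (φ g) = g := by
    intro g
    have h : φ ^ 2 = 1 := by rw [← hφ]; exact pow_orderOf_eq_one φ
    have h' := congrArg (fun f : MulAut G => f g) h
    simpa [pow_two] using h'
  have hcls : Cfsg.IsThreeTranspositionClass (φ '' D) := by
    refine ⟨⟨?_, ?_⟩, ?_, ?_⟩
    · rintro _ ⟨x, hx, rfl⟩
      rw [MulEquiv.orderOf_eq φ]; exact hD.1.1 x hx
    · rintro _ ⟨x, hx, rfl⟩ _ ⟨y, hy, rfl⟩
      rcases hD.1.2 x hx y hy with h | h
      · exact Or.inl (by rw [← map_mul, ← map_pow, h, map_one])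
      · exact Or.inr (by rw [← map_mul, ← map_pow, h, map_one])
    · refine ⟨φ d₀, ⟨d₀, hd₀, rfl⟩, Set.ext fun y => ⟨?_, ?_⟩⟩
      · rintro ⟨x, hx, rfl⟩
        obtain ⟨g, hg⟩ := hprim.1 d₀ hd₀ x hx
        exact isConj_iff.2 ⟨φ g, by rw [← hg, map_mul, map_mul, map_inv]⟩
      · intro hy
        obtain ⟨g, rfl⟩ := isConj_iff.1 hy
        refine ⟨φ g * d₀ * (φ g)⁻¹, hD.2.1 _ _ hd₀, ?_⟩
        rw [map_mul, map_mul, map_inv, hsq]
    · have h := MonoidHom.map_closure (φ : G ≃* G).toMonoidHom D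
      rw [hD.2.2, Subgroup.map_top_of_surjective _ (φ : G ≃* G).surjective] at h
      exact h.symm
  have himg : φ '' D = D := ThreeTransp.M22.unique_class hD hprim h22 hcls
    fun x hx => ThreeTransp.M22.exists_prod hD hprim h22 hx
  exact ThreeTransp.M22.exists_fixed_of_aut hD hprim h22 φ hsq
    fun d hd => himg ▸ Set.mem_image_of_mem φ hd

end Cfsg.Agent.S5462
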