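import Cfsg.Statements.S5468
import Cfsg.Agent.Lib.ThreeTransp.M23.Pair
import Cfsg.Agent.GenA.Tower.Main23

set_option autoImplicit false
open Cfsg

namespace Cfsg.Agent.S5468

open Cfsg.Agent.ThreeTransp

/-- Let G be a finite group with trivial centre generated by a conjugation-invariant set D of 3-transpositions on which it acts primitively, such that for some d in D the subgroup generated by the members of D other than d commuting with d has central largest normal 2- and 3-subgroups, and suppose G with D is of type M(23). Let d₁, d₂ be distinct commuting members of D, j = d₁ d₂, K the joint centralizer of d₁ and d₂ and C the centralizer of j. Then K has index 2 in C, the centre of K is the subgroup generated by d₁ and d₂, K is quasisimple with K modulo its centre isomorphic to the projective special unitary group of dimension 6 over the field with four elements, and C modulo the subgroup generated by d₁ and d₂ has trivial centre (so it is that unitary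 group extended by an outer involution). -/
theorem result {G : Type*} [Group G] [Finite G] {D : Set G} (hD : Cfsg.IsThreeTranspositionGroup D) (hprim : Cfsg.IsPrimitiveUnderConj D) (d₀ : G) (hd₀ : d₀ ∈ D) (h3 : Cfsg.pCore 3 ↥(Subgroup.closure {y : G | y ∈ D ∧ y ≠ d₀ ∧ Commute d₀ y}) ≤ Subgroup.center ↥(Subgroup.closure {y : G | y ∈ D ∧ y ≠ d₀ ∧ Commute d₀ y})) (h2 : Cfsg.pCore 2 ↥(Subgroup.closure {y : G | y ∈ D ∧ y ≠ d₀ ∧ Commute d₀ y}) ≤ Subgroup.center ↥(Subgroup.closure {y : G | y ∈ D ∧ y ≠ d₀ ∧ Commute d₀ y})) (h23 : Cfsg.IsOfTypeM23 G D) (d₁ d₂ : G) (h₁ : d₁ ∈ D) (h₂ : d₂ ∈ D) (hne : d₁ ≠ d₂) (hc : Commute d₁ d₂) (K C V : Subgroup G) (hK : K = Subgroup.centralizer ({d₁, d₂} : Set G)) (hC : C = Subgroup.centralizer ({d₁ * d₂} : Set G)) (hV : V = Subgroup.closure ({d₁, d₂} : Set G)) [hn : (V.subgroupOf C).Normal] : K ≤ C ∧ (K.subgroupOf C).index = 2 ∧ (Subgroup.center ↥K).map K.subtype = V ∧ Cfsg.IsQuasisimple ↥K ∧ (∃ (F : Type) (_ : Field F) (_ : Fintype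 F), Fintype.card F = 4 ∧ Nonempty (↥K ⧸ Subgroup.center ↥K ≃* Cfsg.PSU 6 F 2)) ∧ Subgroup.center (↥C ⧸ V.subgroupOf C) = ⊥ := by
  subst hK hC hV
  have L : M23.Pair.LocalHyp D d₁ :=
    ⟨GenA.Tower.M23.centralizer_eq hD hprim h23 h₁, GenA.Tower.M23.center_eq hD hprim h23 h₁,
      GenA.Tower.M23.t22 hD hprim h23 h₁, GenA.Tower.M23.prim hD hprim h23 h₁⟩
  have hb : d₂ ∈ Factor.nb D d₁ := ⟨h₂, hne.symm, hc⟩
  have h6 := (Factor.M23_core hD hprim.1 h23).2
  obtain ⟨F, i1, i2, hF, hiso⟩ := M23.Pair.quotient_iso hD h6 h₁ hb L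
  refine ⟨M23.Pair.K_le_cent, M23.Pair.index_two hD h6 h₁ hb hprim,
    M23.Pair.center_map hD h6 h₁ hb L,
    ⟨⟨M23.Pair.perfect hD h6 h₁ hb L⟩,
      (hiso.elim fun φ => (Factor.simple_of_iso (by rw [hF]; norm_num) φ).1)⟩,
    ⟨F, i1, i2, hF, hiso⟩, ?_⟩
  rw [eq_bot_iff]
  intro q hq
  obtain ⟨z, rfl⟩ := QuotientGroup.mk_surjective q
  rw [Subgroup.mem_bot, QuotientGroup.eq_one_iff, Subgroup.mem_subgroupOf]
  refine M23.Pair.center_quot hD h6 h₁ hb L z.2 fun k hk => ?_
  have e := Subgroup.mem_center_iff.1 hq (QuotientGroup.mk ⟨k, M23.Pair.K_le_cent hk⟩)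
  rw [← QuotientGroup.mk_mul, ← QuotientGroup.mk_mul, QuotientGroup.eq,
    Subgroup.mem_subgroupOf] at e
  simp only [Subgroup.coe_mul, InvMemClass.coe_inv] at e
  rw [show ((k : G) * z)⁻¹ * (z * k) = (z : G)⁻¹ * k⁻¹ * z * k by group] at e
  exact e

end Cfsg.Agent.S5468
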