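import Cfsg.Statements.S5469
import Cfsg.Agent.Lib.ThreeTransp.M22.Pair
-- import your own Cfsg.Agent.* helpers here

set_option autoImplicit false
open Cfsg

namespace Cfsg.Agent.S5469

/-- Let G be a finite group with trivial centre generated by a conjugation-invariant set D of 3-transpositions on which it acts primitively, such that for some d in D the subgroup generated by the members of D other than d commuting with d has central largest normal 2- and 3-subgroups, and suppose G with D is of type M(22). Let d₁, d₂ be distinct commuting members of D, j = d₁ d₂, K the joint centralizer of d₁ and d₂, C the centralizer of j and V the subgroup generated by d₁ and d₂. Then K has index 2 in C, V is the centre of K, and C has a normal subgroup E containing V with E/V elementary abelian of order 2^8 and C/E isomorphic to the full automorphism group of the projective special unitary group of dimension 4 over the field with four elements. -/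
theorem result {G : Type*} [Group G] [Finite G] {D : Set G} (hD : Cfsg.IsThreeTranspositionGroup D) (hprim : Cfsg.IsPrimitiveUnderConj D) (d₀ : G) (hd₀ : d₀ ∈ D) (h3 : Cfsg.pCore 3 ↥(Subgroup.closure {y : G | y ∈ D ∧ y ≠ d₀ ∧ Commute d₀ y}) ≤ Subgroup.center ↥(Subgroup.closure {y : G | y ∈ D ∧ y ≠ d₀ ∧ Commute d₀ y})) (h2 : Cfsg.pCore 2 ↥(Subgroup.closure {y : G | y ∈ D ∧ y ≠ d₀ ∧ Commute d₀ y}) ≤ Subgroup.center ↥(Subgroup.closure {y : G | y ∈ D ∧ y ≠ d₀ ∧ Commute d₀ y})) (h22 : Cfsg.IsOfTypeM22 G D) (d₁ d₂ : G) (h₁ : d₁ ∈ D) (h₂ : d₂ ∈ D) (hne : d₁ ≠ d₂) (hc : Commute d₁ d₂) (K C V : Subgroup G) (hK : K = Subgroup.centralizer ({d₁, d₂} : Set G)) (hC : C = Subgroup.centralizer ({d₁ * d₂} : Set G)) (hV : V = Subgroup.closure ({d₁, d₂} : Set G)) : K ≤ C ∧ (K.subgroupOf C).index = 2 ∧ (Subgroup.center ↥K).map K.subtype = V ∧ ∃ E : Subgroup G, V ≤ E ∧ E ≤ C ∧ (∀ c ∈ C, ∀ x ∈ E, c * x * c⁻¹ ∈ E) ∧ Nat.card E = 2 ^ 10 ∧ (∀ x ∈ E, ∀ y ∈ E,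 x * y * x⁻¹ * y⁻¹ ∈ V ∧ x ^ 2 ∈ V) ∧ ∃ (_ : (E.subgroupOf C).Normal) (F : Type) (_ : Field F) (_ : Fintype F), Fintype.card F = 4 ∧ Nonempty (↥C ⧸ E.subgroupOf C ≃* MulAut (Cfsg.PSU 4 F 2)) := by
  classical
  have hb : d₂ ∈ ThreeTransp.Factor.nb D d₁ := ⟨h₂, hne.symm, hc⟩
  obtain ⟨Ch, hCh⟩ := ThreeTransp.M22.exists_chart_at hD hprim h22 h₁ hb
  have hKK : K = ThreeTransp.M22.KK d₁ d₂ := by
    rw [hK]
    ext x
    simp only [Subgroup.mem_inf, Subgroup.mem_centralizer_iff, Set.mem_insert_iff,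
      Set.mem_singleton_iff, forall_eq_or_imp, forall_eq]
  subst hKK
  subst hC hV
  set φ := ThreeTransp.M22.phi hD hprim h22 h₁ Ch hCh with hφ
  have mem_cent : ∀ {x : G}, x ∈ Subgroup.centralizer ({d₁ * d₂} : Set G) ↔ Commute x (d₁ * d₂) :=
    fun {x} => ThreeTransp.M22.mem_centralizer_iff_commute hD hprim h22
  have hKC : ThreeTransp.M22.KK d₁ d₂ ≤ Subgroup.centralizer ({d₁ * d₂} : Set G) := fun x hx =>
    mem_cent.2 ((ThreeTransp.M22.mem_KK.1 hx).1.mul_right (ThreeTransp.M22.mem_KK.1 hx).2)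
  have hV : Subgroup.closure ({d₁, d₂} : Set G) ≤ ThreeTransp.M22.KK d₁ d₂ := by
    rw [Subgroup.closure_le]
    rintro x (rfl | rfl)
    exacts [ThreeTransp.M22.mem_KK.2 ⟨Commute.refl _, hc⟩,
      ThreeTransp.M22.mem_KK.2 ⟨hc.symm, Commute.refl _⟩]
  have hVc : ∀ x ∈ Subgroup.closure ({d₁, d₂} : Set G), ∀ k ∈ ThreeTransp.M22.KK d₁ d₂,
      Commute x k := by
    intro x hx k hk
    obtain ⟨k1, k2⟩ := ThreeTransp.M22.mem_KK.1 hk
    induction hx using Subgroup.closure_induction with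
    | one => exact Commute.one_left _
    | mul p q _ _ hp hq => exact hp.mul_left hq
    | inv p _ hp => exact hp.inv_left
    | mem y hy =>
      rcases hy with rfl | rfl
      exacts [k1.symm, k2.symm]
  obtain ⟨Θ, hΘ⟩ := ThreeTransp.M22.exists_theta hD hprim h22 h₁ Ch hCh
  haveI := (ThreeTransp.M22.simple_four hD hprim h22 h₁ Ch hCh).1
  obtain ⟨s, hs1, hs2⟩ := ThreeTransp.M22.pair_trans hD hprim h22 h₁ hb h₂
    (ThreeTransp.Cover.mem_nb_symm h₁ hb)
  have hsC : s ∈ Subgroup.centralizer ({d₁ * d₂} : Set G) := mem_cent.2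
    (ThreeTransp.M22.conj_eq_self_iff.1 (by
      rw [show s * (d₁ * d₂) * s⁻¹ = (s * d₁ * s⁻¹) * (s * d₂ * s⁻¹) by group, hs1, hs2, hc.eq]))
  have hindex : ((ThreeTransp.M22.KK d₁ d₂).subgroupOf
      (Subgroup.centralizer ({d₁ * d₂} : Set G))).index = 2 := by
    have h := ((ThreeTransp.M22.KK d₁ d₂).subgroupOf
      (Subgroup.centralizer ({d₁ * d₂} : Set G))).card_mul_index
    rw [Nat.card_congr (Subgroup.subgroupOfEquivOfLe hKC).toEquiv,
      ThreeTransp.M22.card_centralizer_two hD hprim h22 h₁ hb,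
      ThreeTransp.M22.card_centralizer_pair hD hprim h22 h₁ hb] at h
    omega
  refine ⟨hKC, hindex, ?_, ?_⟩
  · refine le_antisymm ?_ fun x hx => ?_
    · rintro _ ⟨z, hz, rfl⟩
      exact ThreeTransp.M22.center_KK hD hprim h22 h₁ Ch hCh z.2 fun k hk =>
        (congrArg Subtype.val (Subgroup.mem_center_iff.1 hz ⟨k, hk⟩)).symm
    · exact ⟨⟨x, hV hx⟩, Subgroup.mem_center_iff.2 fun k => Subtype.ext (hVc x hx k k.2).eq.symm,
        rfl⟩
  refine ⟨φ.ker.map (ThreeTransp.M22.KK d₁ d₂).subtype, fun x hx => ?_,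
    fun x hx => hKC (Subgroup.map_subtype_le _ hx), ?_, ?_, ?_, ?_⟩
  · exact ⟨⟨x, hV hx⟩, MonoidHom.mem_ker.2
      (ThreeTransp.M22.phi_central hD hprim h22 h₁ Ch hCh fun k =>
        Subtype.ext (hVc x hx k k.2).eq), rfl⟩
  · rintro c hc' _ ⟨k, hk, rfl⟩
    exact ⟨_, ThreeTransp.M22.ker_invariant hD hprim h22 h₁ Ch hCh (mem_cent.1 hc') hk, rfl⟩
  · rw [Nat.card_congr (Subgroup.equivMapOfInjective φ.ker _
      (Subgroup.subtype_injective _)).symm.toEquiv, hφ,
      ThreeTransp.M22.card_phi_ker hD hprim h22 h₁ Ch hCh]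
    norm_num
  · rintro _ ⟨x, hx, rfl⟩ _ ⟨y, hy, rfl⟩
    exact ThreeTransp.M22.ker_two hD hprim h22 h₁ Ch hCh hx hy
  have hkerΘ : Θ.ker = (φ.ker.map (ThreeTransp.M22.KK d₁ d₂).subtype).subgroupOf (Subgroup.centralizer ({d₁ * d₂} : Set G)) := by
    refine le_antisymm (fun c hc' => ?_) (fun c hc' => ?_)
    · have hid : ∀ X, ThreeTransp.M22.act hD hprim h22 h₁ Ch hCh c X = X := fun X => by
        rw [← hΘ, MonoidHom.mem_ker.1 hc']; rfl
      rcases ThreeTransp.M22.pair_cases hD hprim h22 h₁ hb (mem_cent.1 c.2) with h | ⟨ha, hb'⟩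
      · refine Subgroup.mem_subgroupOf.2 ⟨⟨c, h⟩, ?_, rfl⟩
        rw [SetLike.mem_coe, MonoidHom.mem_ker, ← Subgroup.mem_bot,
          ← (ThreeTransp.M22.simple_four hD hprim h22 h₁ Ch hCh).2, Subgroup.mem_center_iff]
        intro X
        obtain ⟨k, rfl⟩ := ThreeTransp.M22.phi_surj hD hprim h22 h₁ Ch hCh X
        have e := hid (φ k)
        rw [hφ, ThreeTransp.M22.act_phi] at e
        rw [← map_mul, ← map_mul]
        have he : (⟨(c : G) * k * (c : G)⁻¹, ThreeTransp.M22.conj_KK hD hprim h22 h₁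
            (ThreeTransp.M22.hb_of hD hprim h22 h₁ Ch hCh)
            ((ThreeTransp.M22.mem_centralizer_iff_commute hD hprim h22).1 c.2) k.2⟩ :
            ↥(ThreeTransp.M22.KK d₁ d₂)) = ⟨c, h⟩ * k * ⟨c, h⟩⁻¹ := Subtype.ext rfl
        rw [he, map_mul, map_inv, mul_inv_eq_iff_eq_mul, ← map_mul] at e
        exact e.symm
      · obtain ⟨X, hX⟩ := ThreeTransp.M22.act_swap hD hprim h22 h₁ Ch hCh c ha hb'
        exact absurd (hid X) hX
    · obtain ⟨k, hk, hkc⟩ := Subgroup.mem_subgroupOf.1 hc'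
      rw [MonoidHom.mem_ker]
      refine MulEquiv.ext fun X => ?_
      obtain ⟨l, rfl⟩ := ThreeTransp.M22.phi_surj hD hprim h22 h₁ Ch hCh X
      rw [hΘ, ThreeTransp.M22.act_phi]
      show φ _ = φ l
      have he : (⟨(c : G) * l * (c : G)⁻¹, ThreeTransp.M22.conj_KK hD hprim h22 h₁
          (ThreeTransp.M22.hb_of hD hprim h22 h₁ Ch hCh)
          ((ThreeTransp.M22.mem_centralizer_iff_commute hD hprim h22).1 c.2) l.2⟩ :
          ↥(ThreeTransp.M22.KK d₁ d₂)) = k * l * k⁻¹ := Subtype.ext (by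
        simp only [Subgroup.coe_mul, InvMemClass.coe_inv]; rw [← hkc]; rfl)
      rw [he, map_mul, map_mul, map_inv, MonoidHom.mem_ker.1 hk, one_mul, inv_one, mul_one]
  have hnorm : ((φ.ker.map (ThreeTransp.M22.KK d₁ d₂).subtype).subgroupOf (Subgroup.centralizer ({d₁ * d₂} : Set G))).Normal :=
    hkerΘ ▸ inferInstance
  refine ⟨hnorm, Ch.F, inferInstance, inferInstance, by rw [Ch.hF]; norm_num, ?_⟩
  have hsurj : Function.Surjective Θ := by
    rw [← MonoidHom.range_eq_top]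
    apply Subgroup.eq_top_of_card_eq
    have h1 := Subgroup.card_eq_card_quotient_mul_card_subgroup Θ.ker
    rw [Nat.card_congr (QuotientGroup.quotientKerEquivRange Θ).toEquiv] at h1
    have hker : Nat.card ↥Θ.ker = 1024 := by
      rw [hkerΘ, Nat.card_congr (Subgroup.subgroupOfEquivOfLe
        (fun x hx => hKC (Subgroup.map_subtype_le _ hx))).toEquiv,
        Nat.card_congr (Subgroup.equivMapOfInjective φ.ker _
          (Subgroup.subtype_injective _)).symm.toEquiv, hφ,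
        ThreeTransp.M22.card_phi_ker hD hprim h22 h₁ Ch hCh]
    rw [hker, ThreeTransp.M22.card_centralizer_pair hD hprim h22 h₁ hb] at h1
    haveI : Fact (Nat.Prime 2) := ⟨Nat.prime_two⟩
    rw [AutPSU.Count.card_mulAut (n := 4) Ch.hF 2 (f := 1) (by norm_num) (by norm_num) (by norm_num),
      ThreeTransp.M22.card_four hD hprim h22 h₁ Ch hCh, show Nat.gcd 4 (2 + 1) = 1 from rfl]
    omega
  exact ⟨(QuotientGroup.quotientMulEquivOfEq hkerΘ.symm).trans
    (QuotientGroup.quotientKerEquivOfSurjective Θ hsurj)⟩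

end Cfsg.Agent.S5469
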