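import Cfsg.Statements.S5471
import Cfsg.Agent.Lib.ThreeTransp.Factor.Perm

set_option autoImplicit false
open Cfsg

namespace Cfsg.Agent.S5471

/-- Let G be a finite group with trivial centre generated by a conjugation-invariant set D of 3-transpositions on which it acts primitively, such that for some d in D the subgroup generated by the members of D other than d commuting with d has central largest normal 2- and 3-subgroups, and suppose G with D is of type M(23). Let d₁, d₂, d₃ be distinct pairwise commuting members of D and j their product. Then the joint centralizer of d₁, d₂, d₃ is normal in the centralizer of j with quotient isomorphic to the symmetric group of degree 3. -/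
theorem result {G : Type*} [Group G] [Finite G] {D : Set G} (hD : Cfsg.IsThreeTranspositionGroup D) (hprim : Cfsg.IsPrimitiveUnderConj D) (d₀ : G) (hd₀ : d₀ ∈ D) (h3 : Cfsg.pCore 3 ↥(Subgroup.closure {y : G | y ∈ D ∧ y ≠ d₀ ∧ Commute d₀ y}) ≤ Subgroup.center ↥(Subgroup.closure {y : G | y ∈ D ∧ y ≠ d₀ ∧ Commute d₀ y})) (h2 : Cfsg.pCore 2 ↥(Subgroup.closure {y : G | y ∈ D ∧ y ≠ d₀ ∧ Commute d₀ y}) ≤ Subgroup.center ↥(Subgroup.closure {y : G | y ∈ D ∧ y ≠ d₀ ∧ Commute d₀ y})) (h23 : Cfsg.IsOfTypeM23 G D) (d₁ d₂ d₃ : G) (h₁ : d₁ ∈ D) (h₂ : d₂ ∈ D) (h₃ : d₃ ∈ D) (h12 : d₁ ≠ d₂) (h13 : d₁ ≠ d₃) (h23 : d₂ ≠ d₃) (c12 : Commute d₁ d₂) (c13 : Commute d₁ d₃) (c23 : Commute d₂ d₃) (K C : Subgroup G) (hK : K = Subgroup.centralizer ({d₁, d₂, d₃} : Set G)) (hC : C = Subgroup.centralizer ({d₁ * d₂ * d₃} : Set G)) : K ≤ C ∧ ∃ _ : (K.subgroupOf C).Normal, Nonempty (↥C ⧸ K.subgroupOf C ≃* Equiv.Perm (Fin 3)) := by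
  have h6 : Cfsg.Agent.ThreeTransp.Factor.Rel 6 D :=
    (Cfsg.Agent.ThreeTransp.Factor.M23_core hD hprim.1 (by assumption)).2
  set S : Set G := {d₁, d₂, d₃} with hS
  set j := d₁ * d₂ * d₃ with hj
  have hmemK : ∀ g : G, g ∈ K ↔ ∀ x ∈ S, g * x * g⁻¹ = x := by
    intro g
    rw [hK, Subgroup.mem_centralizer_iff]
    exact forall₂_congr fun x _ => by rw [mul_inv_eq_iff_eq_mul, eq_comm]
  have hKC : K ≤ C := by
    intro g hg
    have h := (hmemK g).1 hg
    rw [hC, Subgroup.mem_centralizer_iff]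
    rintro _ rfl
    have c1 : Commute g d₁ := mul_inv_eq_iff_eq_mul.1 (h d₁ (by simp [hS]))
    have c2 : Commute g d₂ := mul_inv_eq_iff_eq_mul.1 (h d₂ (by simp [hS]))
    have c3 : Commute g d₃ := mul_inv_eq_iff_eq_mul.1 (h d₃ (by simp [hS]))
    exact ((c1.mul_right c2).mul_right c3).eq.symm
  have hnd : [d₁, d₂, d₃].Nodup := by simp [h12, h13, h23]
  have hlD : ∀ a ∈ [d₁, d₂, d₃], a ∈ D := by simp [h₁, h₂, h₃]
  have hlc : ∀ a ∈ [d₁, d₂, d₃], ∀ b ∈ [d₁, d₂, d₃], Commute a b := by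
    simp [c12, c13, c23, c12.symm, c13.symm, c23.symm]
  have hinv : ∀ g ∈ C, ∀ x, x ∈ S ↔ MulAut.conj g x ∈ S := by
    intro g hg
    rw [hC, Subgroup.mem_centralizer_iff] at hg
    have hgj : g * j * g⁻¹ = j := mul_inv_eq_iff_eq_mul.2 (hg j rfl).symm
    have hu := Cfsg.Agent.ThreeTransp.Factor.list_triple hD h6 j [d₁, d₂, d₃]
      ([d₁, d₂, d₃].map (MulAut.conj g)) ⟨hnd, rfl, hlD, hlc, by simp [hj, mul_assoc]⟩
      ⟨hnd.map (MulAut.conj g).injective, rfl, ?_, ?_, ?_⟩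
    · intro x
      have h := hu (MulAut.conj g x)
      rw [List.mem_map_of_injective (MulAut.conj g).injective] at h
      have hS' : ∀ y : G, y ∈ S ↔ y ∈ [d₁, d₂, d₃] := fun y => by simp [hS]
      rw [hS', hS']
      exact h.symm
    · intro a ha
      obtain ⟨b, hb, rfl⟩ := List.mem_map.1 ha
      exact hD.2.1 g b (hlD b hb)
    · intro a ha b hb
      obtain ⟨a', ha', rfl⟩ := List.mem_map.1 ha
      obtain ⟨b', hb', rfl⟩ := List.mem_map.1 hb
      exact (hlc a' ha' b' hb').map (MulAut.conj g).toMonoidHom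
    · rw [← map_list_prod, show [d₁, d₂, d₃].prod = j by simp [hj, mul_assoc]]
      exact hgj
  let v : Fin 3 → G := ![d₁, d₂, d₃]
  have hv : Function.Injective v := by
    intro a b hab
    fin_cases a <;> fin_cases b <;>
      simp [v, h12, h13, h23, Ne.symm h12, Ne.symm h13, Ne.symm h23] at hab ⊢
  have hrange : Set.range v = S := by
    ext x
    simp only [Set.mem_range, hS, Set.mem_insert_iff, Set.mem_singleton_iff, v]
    constructor
    · rintro ⟨i, rfl⟩; fin_cases i <;> simp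
    · rintro (rfl | rfl | rfl)
      exacts [⟨0, rfl⟩, ⟨1, rfl⟩, ⟨2, rfl⟩]
  let ε : Fin 3 ≃ ↥S := (Equiv.ofInjective v hv).trans (Equiv.setCongr hrange)
  let π : ↥C →* Equiv.Perm (Fin 3) :=
    { toFun := fun g => ε.symm.permCongr
        ((MulAut.conj (g : G)).toEquiv.subtypeEquiv (hinv g g.2))
      map_one' := by
        ext i
        apply congrArg Fin.val
        apply ε.injective
        simp only [Equiv.permCongr_apply, Equiv.symm_symm, Equiv.apply_symm_apply]
        apply Subtype.ext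
        simp [Equiv.subtypeEquiv]
      map_mul' := fun a b => by
        ext i
        apply congrArg Fin.val
        apply ε.injective
        simp only [Equiv.permCongr_apply, Equiv.Perm.mul_apply, Equiv.symm_symm,
          Equiv.apply_symm_apply]
        apply Subtype.ext
        simp [Equiv.subtypeEquiv, mul_assoc] }
  have hπ : ∀ (g : ↥C) (i : Fin 3), v (π g i) = (g : G) * v i * (g : G)⁻¹ := by
    intro g i
    have h : ε (π g i) = (MulAut.conj (g : G)).toEquiv.subtypeEquiv (hinv g g.2) (ε i) := by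
      simp [π, Equiv.permCongr_apply]
    exact congrArg Subtype.val h
  have hker : π.ker = K.subgroupOf C := by
    ext g
    rw [MonoidHom.mem_ker, Subgroup.mem_subgroupOf, hmemK]
    constructor
    · intro h x hx
      rw [← hrange] at hx
      obtain ⟨i, rfl⟩ := hx
      rw [← hπ, h, Equiv.Perm.one_apply]
    · intro h
      ext i
      apply congrArg Fin.val
      apply hv
      rw [hπ, Equiv.Perm.one_apply]
      exact h _ (hrange ▸ Set.mem_range_self i)
  obtain ⟨x, hxc, hxa, hxb⟩ := Cfsg.Agent.ThreeTransp.Factor.exists_swap hD hprim h₁ h₂ h₃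
    h12 h13 h23 c12 c13 c23
  obtain ⟨y, hyc, hya, hyb⟩ := Cfsg.Agent.ThreeTransp.Factor.exists_swap hD hprim h₂ h₃ h₁
    h23 (Ne.symm h12) (Ne.symm h13) c23 c12.symm c13.symm
  have hmemC : ∀ g : G, g * j * g⁻¹ = j → g ∈ C := by
    intro g hg
    rw [hC, Subgroup.mem_centralizer_iff]
    rintro _ rfl
    exact (mul_inv_eq_iff_eq_mul.1 hg).symm
  have hxC : x ∈ C := hmemC x (by
    calc x * j * x⁻¹ = (x * d₁ * x⁻¹) * (x * d₂ * x⁻¹) * (x * d₃ * x⁻¹) := by rw [hj]; group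
      _ = j := by rw [hxa, hxb, hxc.eq, mul_inv_cancel_right, hj, c12.eq])
  have hyC : y ∈ C := hmemC y (by
    calc y * j * y⁻¹ = (y * d₁ * y⁻¹) * (y * d₂ * y⁻¹) * (y * d₃ * y⁻¹) := by rw [hj]; group
      _ = j := by rw [hya, hyb, hyc.eq, mul_inv_cancel_right, hj, mul_assoc, mul_assoc, c23.eq])
  have hpx : π ⟨x, hxC⟩ = Equiv.swap 0 1 := by
    ext i
    apply congrArg Fin.val
    apply hv
    rw [hπ]
    fin_cases i
    · simpa [v] using hxa
    · simpa [v] using hxb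
    · simpa [v, Equiv.swap_apply_of_ne_of_ne, mul_inv_eq_iff_eq_mul] using hxc.eq
  have hpy : π ⟨y, hyC⟩ = Equiv.swap 1 2 := by
    ext i
    apply congrArg Fin.val
    apply hv
    rw [hπ]
    fin_cases i
    · simpa [v, Equiv.swap_apply_of_ne_of_ne, mul_inv_eq_iff_eq_mul] using hyc.eq
    · simpa [v] using hya
    · simpa [v] using hyb
  have hsurj : Function.Surjective π := by
    intro σ
    have hall : ∀ τ : Equiv.Perm (Fin 3), τ = 1 ∨ τ = Equiv.swap 0 1 ∨ τ = Equiv.swap 1 2 ∨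
        τ = Equiv.swap 0 1 * Equiv.swap 1 2 ∨ τ = Equiv.swap 1 2 * Equiv.swap 0 1 ∨
        τ = Equiv.swap 0 1 * Equiv.swap 1 2 * Equiv.swap 0 1 := by decide
    rcases hall σ with h | h | h | h | h | h <;> subst h
    · exact ⟨1, map_one π⟩
    · exact ⟨_, hpx⟩
    · exact ⟨_, hpy⟩
    · exact ⟨⟨x, hxC⟩ * ⟨y, hyC⟩, by rw [map_mul, hpx, hpy]⟩
    · exact ⟨⟨y, hyC⟩ * ⟨x, hxC⟩, by rw [map_mul, hpy, hpx]⟩
    · exact ⟨⟨x, hxC⟩ * ⟨y, hyC⟩ * ⟨x, hxC⟩, by rw [map_mul, map_mul, hpx, hpy]⟩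
  have hnorm : (K.subgroupOf C).Normal := hker ▸ MonoidHom.normal_ker π
  exact ⟨hKC, hnorm, ⟨(QuotientGroup.quotientMulEquivOfEq hker.symm).trans
    (QuotientGroup.quotientKerEquivOfSurjective π hsurj)⟩⟩

end Cfsg.Agent.S5471
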