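import Cfsg.Statements.S5472
import Cfsg.Agent.Lib.ThreeTransp.M22Outer.Main
import Cfsg.Agent.Lib.ThreeTransp.M22Iso.Main

set_option autoImplicit false
set_option linter.style.haveILetI false
open Cfsg

namespace Cfsg.Agent.S5472

theorem pCore_equiv {A B : Type*} [Group A] [Group B] [Finite A] [Finite B] (f : A ≃* B) :
    (Cfsg.pCore 2 A).map f.toMonoidHom = Cfsg.pCore 2 B := by
  refine le_antisymm ?_ ?_
  · haveI : ((Cfsg.pCore 2 A).map f.toMonoidHom).Normal :=
      Subgroup.Normal.map inferInstance _ f.surjective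
    exact Cfsg.Agent.Cores.le_pCore ((Cfsg.Agent.Cores.pCore_isPGroup 2).map _)
  · haveI : ((Cfsg.pCore 2 B).map f.symm.toMonoidHom).Normal :=
      Subgroup.Normal.map inferInstance _ f.symm.surjective
    intro x hx
    have hle : (Cfsg.pCore 2 B).map f.symm.toMonoidHom ≤ Cfsg.pCore 2 A :=
      Cfsg.Agent.Cores.le_pCore ((Cfsg.Agent.Cores.pCore_isPGroup 2).map _)
    exact ⟨f.symm x, hle (Subgroup.mem_map_of_mem _ hx), by simp⟩

open Cfsg.Agent.ThreeTransp.M22Outer in
/-- Let G be a finite group with trivial centre generated by a conjugation-invariant set D of 3-transpositions on which it acts primitively, such that for some d in D the subgroup generated by the members of D other than d commuting with d has central largest normal 2- and 3-subgroups, and suppose G with D is of type M(22). Then G has a non-inner automorphism s of order 2 whose fixed-point subgroup is isomorphic to the full automorphism group of Ω⁺(8, 2) (the commutator subgroup of the isometry group of the hyperbolic quadratic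 form in dimension 8 over the field with two elements), together with distinct commuting members a, b of D fixed by s such that: s, s composed with conjugation by a, and s composed with conjugation by a b represent the three classes (under the automorphism group) of non-inner automorphisms of order 2; the elements fixed by the automorphism s composed with conjugation by a are exactly those fixed by s and commuting with a, and they form a group isomorphic to the direct product of a group of order 2 and the symplectic group of dimension 6 over the field with two elements; and the elements fixed by the automorphism s composed with conjugation by a b form a group whose largest normal 2-subgroup is elementary abelian of order 64 with quotient isomorphic to the full isometry group of the elliptic quadratic form in dimension 6 over the field with two elements. -/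
theorem result {G : Type*} [Group G] [Finite G] {D : Set G} (hD : Cfsg.IsThreeTranspositionGroup D) (hprim : Cfsg.IsPrimitiveUnderConj D) (d₀ : G) (hd₀ : d₀ ∈ D) (h3 : Cfsg.pCore 3 ↥(Subgroup.closure {y : G | y ∈ D ∧ y ≠ d₀ ∧ Commute d₀ y}) ≤ Subgroup.center ↥(Subgroup.closure {y : G | y ∈ D ∧ y ≠ d₀ ∧ Commute d₀ y})) (h2 : Cfsg.pCore 2 ↥(Subgroup.closure {y : G | y ∈ D ∧ y ≠ d₀ ∧ Commute d₀ y}) ≤ Subgroup.center ↥(Subgroup.closure {y : G | y ∈ D ∧ y ≠ d₀ ∧ Commute d₀ y})) (h22 : Cfsg.IsOfTypeM22 G D) : ∃ (s : MulAut G) (a b : G) (Cs : Subgroup G), orderOf s = 2 ∧ s ∉ (MulAut.conj : G →* MulAut G).range ∧ (∀ g : G, g ∈ Cs ↔ s g = g) ∧ Nonempty (↥Cs ≃* MulAut (Cfsg.Omega (ZMod 2) (Cfsg.quadFormPlus 4 (ZMod 2)))) ∧ a ∈ D ∧ b ∈ D ∧ a ≠ b ∧ Commute a b ∧ s a = a ∧ s b = b ∧ (∀ t : MulAut G, orderOf t = 2 → t ∉ (MulAut.conj : G →* MulAut G).range → (IsConj t s ∨ IsConj t (s * MulAut.conj a) ∨ IsConj t (s * MulAut.conj (a * b)))) ∧ ¬ IsConj s (s * MulAut.conj a) ∧ ¬ IsConj s (s * MulAut.conj (a *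 b)) ∧ ¬ IsConj (s * MulAut.conj a) (s * MulAut.conj (a * b)) ∧ (∀ g : G, (s * MulAut.conj a) g = g ↔ g ∈ Cs ⊓ Subgroup.centralizer ({a} : Set G)) ∧ Nonempty (↥(Cs ⊓ Subgroup.centralizer ({a} : Set G)) ≃* Multiplicative (ZMod 2) × Cfsg.PSp 3 (ZMod 2)) ∧ ∃ Csab O : Subgroup G, (∀ g : G, g ∈ Csab ↔ (s * MulAut.conj (a * b)) g = g) ∧ O = (Cfsg.pCore 2 ↥Csab).map Csab.subtype ∧ Cfsg.IsElementaryAbelian 2 O ∧ Nat.card O = 64 ∧ ∃ _ : (O.subgroupOf Csab).Normal, Nonempty (↥Csab ⧸ O.subgroupOf Csab ≃* Cfsg.isometryGroup (ZMod 2) (Cfsg.quadFormMinus 2 (ZMod 2) 1 1)) := by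
  classical
  haveI := Cfsg.Agent.InvChar.Coset.FiUnit.finite_Fi
  obtain ⟨e, he⟩ := Cfsg.Agent.ThreeTransp.M22Iso.exists_iso hD hprim h22
    Cfsg.Agent.ThreeTransp.Fi22Model.grp Cfsg.Agent.ThreeTransp.Fi22Model.primitive
    Cfsg.Agent.ThreeTransp.Fi22Model.type22
  obtain ⟨μ, hμ⟩ : ∃ μ : MulAut G ≃* MulAut Cfsg.Agent.InvChar.Coset.FiUnit.FiG, μ = MulAut.congr e :=
    ⟨_, rfl⟩
  have app : ∀ (α : MulAut G) x, μ α x = e (α (e.symm x)) := fun α x => by rw [hμ]; rfl
  have app' : ∀ α g, μ.symm α g = e.symm (α (e g)) := fun α g => by rw [hμ]; rfl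
  have conj' : ∀ x, μ.symm (MulAut.conj x) = MulAut.conj (e.symm x) := fun x =>
    MulEquiv.ext fun g => by rw [app']; simp
  have fixed : ∀ α g, μ.symm α g = g ↔ α (e g) = e g := fun α g => by
    rw [app', e.symm_apply_eq]
  have out : ∀ t : MulAut G, t ∉ (MulAut.conj : G →* MulAut G).range →
      ∀ x, μ t ≠ MulAut.conj x := fun t ht x h => ht ⟨e.symm x, by rw [← conj', ← h, μ.symm_apply_apply]⟩
  have memD : ∀ x ∈ Cfsg.Agent.ThreeTransp.Fi22Model.DD, e.symm x ∈ D := fun x hx => by
    rw [← he] at hx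
    obtain ⟨d, hd, rfl⟩ := hx
    rwa [e.symm_apply_apply]
  have hs1 : μ.symm (rep 1) = μ.symm Cfsg.Agent.InvChar.Coset.FiOut.psi * MulAut.conj (e.symm ea) := by
    rw [rep_one_eq, map_mul, conj']
  have hs2 : μ.symm (rep 2) =
      μ.symm Cfsg.Agent.InvChar.Coset.FiOut.psi * MulAut.conj (e.symm ea * e.symm eb) := by
    rw [rep_two_eq, map_mul, conj', map_mul]
  have memCs : ∀ (r : ℕ) g, g ∈ (Cfix r).map e.symm.toMonoidHom ↔ μ.symm (rep r) g = g := fun r g => by
    rw [fixed, Subgroup.mem_map_equiv, MulEquiv.symm_symm]; exact mem_Cfix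
  obtain ⟨i0⟩ := Cfix_zero_iso
  obtain ⟨i1⟩ := Cfix_one_iso
  obtain ⟨f, hf, hel, h64, hker⟩ := Cfix_two_struct
  refine ⟨μ.symm Cfsg.Agent.InvChar.Coset.FiOut.psi, e.symm ea, e.symm eb,
    (Cfix 0).map e.symm.toMonoidHom, ?_, ?_, fun g => ?_, ?_, memD _ ?_, memD _ ?_, ?_, ?_, ?_, ?_,
    fun t ht hto => ?_, ?_, ?_, ?_, fun g => ?_, ?_, ?_⟩
  · refine orderOf_eq_prime ?_ fun h => psi_ne_one ?_
    · rw [← map_pow, pow_two, psi_sq, map_one]
    · exact μ.symm.injective (h.trans (map_one _).symm)
  · rintro ⟨x, hx⟩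
    refine Cfsg.Agent.InvChar.Coset.FiOut.psi_not_inner (e x) (μ.symm.injective ?_)
    rw [conj', e.symm_apply_apply, hx]
  · rw [memCs, rep_zero]
  · exact ⟨((Cfix 0).equivMapOfInjective _ e.symm.injective).symm.trans i0⟩
  · exact Cfsg.Agent.ThreeTransp.Fi22Model.dd_mem _
  · exact Cfsg.Agent.ThreeTransp.Fi22Model.dd_mem _
  · exact fun h => ea_ne_eb (e.symm.injective h)
  · exact commute_ab.map e.symm
  · rw [fixed, e.apply_symm_apply]; exact psi_ea
  · rw [fixed, e.apply_symm_apply]; exact psi_eb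
  · have h2 : μ t * μ t = 1 := by
      rw [← map_mul, ← pow_two, show t ^ 2 = 1 from ht ▸ pow_orderOf_eq_one t, map_one]
    rcases rep_isConj h2 (out t hto) with h | h | h
    all_goals have h' := MonoidHom.map_isConj μ.symm.toMonoidHom h
    · left
      rwa [MulEquiv.coe_toMonoidHom, μ.symm_apply_apply] at h'
    · right; left
      rw [MulEquiv.coe_toMonoidHom, μ.symm_apply_apply, map_mul, conj'] at h'
      exact h'
    · right; right
      rw [MulEquiv.coe_toMonoidHom, μ.symm_apply_apply, map_mul, conj', map_mul] at h'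
      exact h'
  · intro h
    have h' := MonoidHom.map_isConj μ.toMonoidHom h
    rw [← hs1, MulEquiv.coe_toMonoidHom, μ.apply_symm_apply, μ.apply_symm_apply, ← rep_zero] at h'
    exact rep_not_conj (by norm_num) (by norm_num) (by norm_num) h'
  · intro h
    have h' := MonoidHom.map_isConj μ.toMonoidHom h
    rw [← hs2, MulEquiv.coe_toMonoidHom, μ.apply_symm_apply, μ.apply_symm_apply, ← rep_zero] at h'
    exact rep_not_conj (by norm_num) (by norm_num) (by norm_num) h'
  · intro h
    have h' := MonoidHom.map_isConj μ.toMonoidHom h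
    rw [← hs1, ← hs2, MulEquiv.coe_toMonoidHom, μ.apply_symm_apply, μ.apply_symm_apply] at h'
    exact rep_not_conj (by norm_num) (by norm_num) (by norm_num) h'
  · rw [← hs1, fixed, mem_Cfix_one_iff, Subgroup.mem_inf, Subgroup.mem_inf, Subgroup.mem_map_equiv,
      MulEquiv.symm_symm, Subgroup.mem_centralizer_singleton_iff, Subgroup.mem_centralizer_singleton_iff]
    refine and_congr Iff.rfl ⟨fun h => e.injective ?_, fun h => ?_⟩
    · rw [map_mul, map_mul, e.apply_symm_apply, h]
    · have := congrArg e h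
      rwa [map_mul, map_mul, e.apply_symm_apply] at this
  · have hA : (Cfix 1).map e.symm.toMonoidHom = (Cfix 0).map e.symm.toMonoidHom ⊓
        Subgroup.centralizer ({e.symm ea} : Set G) := by
      ext g
      rw [memCs, fixed, mem_Cfix_one_iff, Subgroup.mem_inf, Subgroup.mem_inf, Subgroup.mem_map_equiv,
        MulEquiv.symm_symm, Subgroup.mem_centralizer_singleton_iff, Subgroup.mem_centralizer_singleton_iff]
      refine and_congr Iff.rfl ⟨fun h => e.injective ?_, fun h => ?_⟩
      · rw [map_mul, map_mul, e.apply_symm_apply, h]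
      · have := congrArg e h
        rwa [map_mul, map_mul, e.apply_symm_apply] at this
    exact ⟨(MulEquiv.subgroupCongr hA.symm).trans
      (((Cfix 1).equivMapOfInjective _ e.symm.injective).symm.trans i1)⟩
  · obtain ⟨C, hC⟩ : ∃ C : Subgroup G, C = (Cfix 2).map e.symm.toMonoidHom := ⟨_, rfl⟩
    let ε : ↥(Cfix 2) ≃* ↥C :=
      ((Cfix 2).equivMapOfInjective _ e.symm.injective).trans (MulEquiv.subgroupCongr hC.symm)
    have hε : ∀ x : ↥(Cfix 2), (ε x : G) = e.symm x := fun x => rfl
    let f' : ↥C →* _ := f.comp ε.symm.toMonoidHom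
    have hf' : Function.Surjective f' := hf.comp ε.symm.surjective
    have hk : f'.ker = Cfsg.pCore 2 ↥C := by
      rw [← pCore_equiv ε, ← hker]
      ext x
      simp only [f', MonoidHom.mem_ker, MonoidHom.comp_apply, Subgroup.mem_map_equiv]
      rfl
    have hO : (Cfsg.pCore 2 ↥C).map C.subtype =
        (f.ker.map (Cfix 2).subtype).map e.symm.toMonoidHom := by
      rw [← pCore_equiv ε, ← hker, Subgroup.map_map, Subgroup.map_map]
      exact congrArg (fun φ => f.ker.map φ) (MonoidHom.ext hε)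
    have hsub : ((Cfsg.pCore 2 ↥C).map C.subtype).subgroupOf C = f'.ker := by
      rw [hk]
      exact Subgroup.comap_map_eq_self_of_injective C.subtype_injective _
    refine ⟨C, (Cfsg.pCore 2 ↥C).map C.subtype, fun g => ?_, rfl, ?_, ?_, ?_⟩
    · rw [hC, memCs, hs2]
    · rw [hO]
      refine ⟨⟨⟨?_⟩⟩, ?_⟩
      · rintro ⟨_, x, hx, rfl⟩ ⟨_, y, hy, rfl⟩
        refine Subtype.ext ?_
        show e.symm x * e.symm y = e.symm y * e.symm x
        have := congrArg Subtype.val (hel.1.is_comm.comm ⟨x, hx⟩ ⟨y, hy⟩)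
        simpa using congrArg e.symm this
      · rintro _ ⟨x, hx, rfl⟩
        rw [← map_pow, hel.2 x hx, map_one]
    · rw [hO, Subgroup.card_map_of_injective e.symm.injective, h64]
    · haveI hn : (((Cfsg.pCore 2 ↥C).map C.subtype).subgroupOf C).Normal := by rw [hsub]; infer_instance
      exact ⟨hn, ⟨((QuotientGroup.quotientMulEquivOfEq hsub).trans
        (QuotientGroup.quotientKerEquivOfSurjective f' hf')).trans
        (MulEquiv.subgroupCongr (congrArg (Cfsg.isometryGroup (ZMod 2))
          (Cfsg.Agent.Classical.OrthForms.minQ_eq 2 1 1)))⟩⟩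

end Cfsg.Agent.S5472
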