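import Cfsg.Statements.S5473
import Cfsg.Agent.Lib.ThreeTransp.M22Aut.Extra
import Cfsg.Agent.Lib.CharP.CharP

set_option autoImplicit false
open Cfsg

namespace Cfsg.Agent.S5473

/-- Let G be a finite group with trivial centre generated by a conjugation-invariant set D of 3-transpositions on which it acts primitively, such that for some d in D the subgroup generated by the members of D other than d commuting with d has central largest normal 2- and 3-subgroups, and suppose G with D is of type M(22), and let A be the automorphism group of G. Let d₁, d₂ be distinct commuting members of D and j the inner automorphism of their product. Then the generalized Fitting subgroup Q of the centralizer of j in A is a large extraspecial 2-subgroup of A of order 2^11 (extraspecial; centralizer equal to its centre; normal in the centralizer of its centre; normalizing no non-trivial odd-order subgroup), and the centralizer of j modulo Q is isomorphic to the full automorphism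 group of the projective special unitary group of dimension 4 over the field with four elements. -/
theorem result {G : Type*} [Group G] [Finite G] {D : Set G} (hD : Cfsg.IsThreeTranspositionGroup D) (hprim : Cfsg.IsPrimitiveUnderConj D) (d₀ : G) (hd₀ : d₀ ∈ D) (h3 : Cfsg.pCore 3 ↥(Subgroup.closure {y : G | y ∈ D ∧ y ≠ d₀ ∧ Commute d₀ y}) ≤ Subgroup.center ↥(Subgroup.closure {y : G | y ∈ D ∧ y ≠ d₀ ∧ Commute d₀ y})) (h2 : Cfsg.pCore 2 ↥(Subgroup.closure {y : G | y ∈ D ∧ y ≠ d₀ ∧ Commute d₀ y}) ≤ Subgroup.center ↥(Subgroup.closure {y : G | y ∈ D ∧ y ≠ d₀ ∧ Commute d₀ y})) (h22 : Cfsg.IsOfTypeM22 G D) (d₁ d₂ : G) (h₁ : d₁ ∈ D) (h₂ : d₂ ∈ D) (hne : d₁ ≠ d₂) (hc : Commute d₁ d₂) (j : MulAut G) (hj : j = MulAut.conj (d₁ * d₂)) (Q : Subgroup (MulAut G)) (hQ : Q = (Cfsg.generalizedFittingSubgroup ↥(Subgroup.centralizer ({j} : Set (MulAut G)))).map (Subgroup.centralizer ({j} : Set (MulAut G))).subtype) : Cfsg.IsLargeExtraspecial Q ∧ Nat.card Q = 2 ^ 11 ∧ Q ≤ Subgroup.centralizer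 ({j} : Set (MulAut G)) ∧ ∃ (_ : (Q.subgroupOf (Subgroup.centralizer ({j} : Set (MulAut G)))).Normal) (F : Type) (_ : Field F) (_ : Fintype F), Fintype.card F = 4 ∧ Nonempty (↥(Subgroup.centralizer ({j} : Set (MulAut G))) ⧸ Q.subgroupOf (Subgroup.centralizer ({j} : Set (MulAut G))) ≃* MulAut (Cfsg.PSU 4 F 2)) := by
  classical
  subst hj
  haveI : Fact (Nat.Prime 2) := ⟨Nat.prime_two⟩
  have hb : d₂ ∈ ThreeTransp.Factor.nb D d₁ := ⟨h₂, hne.symm, hc⟩
  obtain ⟨Ch, hCh⟩ := ThreeTransp.M22.exists_chart_at hD hprim h22 h₁ hb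
  obtain ⟨Θ, hΘ⟩ := ThreeTransp.M22Aut.exists_Theta hD hprim h22 h₁ Ch hCh
  obtain ⟨hsurj, hcard, -⟩ := ThreeTransp.M22Aut.surj_and_card hD hprim h22 h₁ Ch hCh Θ hΘ
  haveI := (ThreeTransp.M22.simple_four hD hprim h22 h₁ Ch hCh).1
  have hkp : IsPGroup 2 ↥Θ.ker := IsPGroup.of_card (n := 11) (by rw [hcard]; norm_num)
  have hcore : Cfsg.pCore 2 ↥(ThreeTransp.M22Aut.CA d₁ d₂) = Θ.ker := by
    refine le_antisymm ?_ (CharP.le_pCore inferInstance hkp)
    haveI := Cores.pCore_normal (G := ↥(ThreeTransp.M22Aut.CA d₁ d₂)) 2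
    haveI : ((Cfsg.pCore 2 ↥(ThreeTransp.M22Aut.CA d₁ d₂)).map Θ).Normal :=
      Subgroup.Normal.map inferInstance _ hsurj
    exact (Subgroup.map_eq_bot_iff _).1 (ThreeTransp.M22Aut.mulAut_no_pGroup
      (ThreeTransp.M22.simple_four hD hprim h22 h₁ Ch hCh).2
      ((Cores.pCore_isPGroup (G := ↥(ThreeTransp.M22Aut.CA d₁ d₂)) 2).map Θ))
  have hF : Cfsg.generalizedFittingSubgroup ↥(ThreeTransp.M22Aut.CA d₁ d₂) = Θ.ker := by
    rw [← hcore]
    refine CharP.genFitting_eq_pCore_iff.2 ?_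
    rw [hcore]
    intro x hx
    have hQ : ∀ q ∈ Θ.ker.map (ThreeTransp.M22Aut.CA d₁ d₂).subtype,
        q * (x : MulAut G) = x * q := by
      rintro _ ⟨q, hq, rfl⟩
      exact congrArg Subtype.val (Subgroup.mem_centralizer_iff.1 hx q hq)
    rcases ThreeTransp.M22Aut.centralizer_QQ hD hprim h22 h₁ Ch hCh Θ hΘ hQ with e | e
    · rw [show x = 1 from Subtype.ext e]; exact one_mem _
    · obtain ⟨p, hp, hpe⟩ := ThreeTransp.M22Aut.j_mem hD hprim h22 h₁ Ch hCh Θ hΘ
      rw [show x = p from Subtype.ext (e.trans hpe.symm)]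
      exact hp
  have hQ' : Q = Θ.ker.map (ThreeTransp.M22Aut.CA d₁ d₂).subtype := by rw [hQ]; exact congrArg _ hF
  have hsub : Q.subgroupOf (ThreeTransp.M22Aut.CA d₁ d₂) = Θ.ker := by
    rw [hQ']
    exact Subgroup.comap_map_eq_self_of_injective (Subgroup.subtype_injective _) _
  haveI hn : (Q.subgroupOf (ThreeTransp.M22Aut.CA d₁ d₂)).Normal :=
    hsub ▸ (inferInstance : Θ.ker.Normal)
  refine ⟨?_, ?_, ?_, hn, Ch.F, inferInstance, inferInstance,
    by rw [Ch.hF]; norm_num, ?_⟩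
  · rw [hQ']; exact ThreeTransp.M22Aut.QQ_large hD hprim h22 h₁ Ch hCh Θ hΘ
  · rw [hQ']; exact ThreeTransp.M22Aut.card_QQ hD hprim h22 h₁ Ch hCh Θ hΘ
  · rw [hQ']; exact Subgroup.map_subtype_le _
  · exact ⟨(QuotientGroup.quotientMulEquivOfEq hsub).trans
      (QuotientGroup.quotientKerEquivOfSurjective Θ hsurj)⟩

end Cfsg.Agent.S5473
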