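import Cfsg.Statements.S5514
import Cfsg.Agent.Lib.Components.OmegaSeven.Cover
import Cfsg.Agent.Lib.Components.OmegaSeven.Invariant

set_option autoImplicit false
set_option maxHeartbeats 800000
open Cfsg

namespace Cfsg.Agent.S5514

open Cfsg.Agent.Components.OmegaSeven in
lemma inv_key : ∀ i j : Fin 7, repInvList.getD i.val (0, 0) = repInvList.getD j.val (0, 0) →
    i = j ∨ (i = 2 ∧ j = 3) ∨ (i = 3 ∧ j = 2) := by decide

open Cfsg.Agent.Components.OmegaSeven in
lemma rep_sep {i j : Fin 7} {g : ↥W7}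
    (h : g * rep i * g⁻¹ = rep j ∨ g * rep i * g⁻¹ = rep j * rep j) : i = j := by
  have hinv : repInv i = repInv j := by
    rw [← repInv_eq, ← repInv_eq]
    rcases h with h | h
    · rw [← fixCount_conj 0 g, ← fixCount_conj 1 g, h]
    · rw [← fixCount_conj 0 g, ← fixCount_conj 1 g, h, fixCount_sq _ _ (rep_cube j),
        fixCount_sq _ _ (rep_cube j)]
  rw [repInv_val, repInv_val] at hinv
  have key : i = j ∨ (i = 2 ∧ j = 3) ∨ (i = 3 ∧ j = 2) := by
    exact inv_key i j hinv
  have no : ∀ g : ↥W7, g * rep 2 * g⁻¹ ≠ rep 3 ∧ g * rep 2 * g⁻¹ ≠ rep 3 * rep 3 := by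
    intro g
    refine ⟨fun he => no_conj_pair (Or.inl rfl) g ?_, fun he => no_conj_pair (Or.inr rfl) g ?_⟩
    · have e : g * rep 2 = rep 3 * g := by
        rw [← he]
        group
      have e' : mat7 ((g * rep 2 : ↥W7) : O7) = mat7 ((rep 3 * g : ↥W7) : O7) := by rw [e]
      rw [Subgroup.coe_mul, Subgroup.coe_mul, mat7_mul, mat7_mul, matU_eq, matV_eq.1] at e'
      exact e'
    · have e : g * rep 2 = (rep 3 * rep 3) * g := by
        rw [← he]
        group
      have e' : mat7 ((g * rep 2 : ↥W7) : O7) = mat7 (((rep 3 * rep 3) * g : ↥W7) : O7) := by rw [e]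
      rw [Subgroup.coe_mul, Subgroup.coe_mul, mat7_mul, mat7_mul, matU_eq, matV_eq.2] at e'
      exact e'
  rcases key with rfl | ⟨rfl, rfl⟩ | ⟨rfl, rfl⟩
  · rfl
  · rcases h with h | h
    · exact absurd h (no g).1
    · exact absurd h (no g).2
  · rcases h with h | h
    · refine absurd ?_ (no g⁻¹).1
      rw [← h]
      group
    · refine absurd ?_ (no g⁻¹).2
      have h4 : (rep 2 * rep 2) * (rep 2 * rep 2) = rep 2 := by
        have := rep_cube 2
        rw [pow_succ, pow_succ, pow_one] at this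
        rw [show (rep 2 * rep 2) * (rep 2 * rep 2) = rep 2 * rep 2 * rep 2 * rep 2 by group, this,
          one_mul]
      rw [← h] at h4
      rw [← h4]
      group


/-- The commutator subgroup of the isometry group of a non-degenerate 7-dimensional quadratic form over the field with three elements, modulo its (trivial) centre — the simple group Ω(7, 3) — has exactly seven conjugacy classes of subgroups of order 3. -/
theorem result : ∃ Y : Fin 7 → Subgroup (Cfsg.POmega (ZMod 3) (Cfsg.quadFormOdd 3 (ZMod 3))), (∀ i, Nat.card (Y i) = 3) ∧ (∀ i j, (∃ g : Cfsg.POmega (ZMod 3) (Cfsg.quadFormOdd 3 (ZMod 3)), (Y i).map (MulAut.conj g).toMonoidHom = Y j) → i = j) ∧ (∀ X : Subgroup (Cfsg.POmega (ZMod 3) (Cfsg.quadFormOdd 3 (ZMod 3))), Nat.card X = 3 → ∃ i, ∃ g : Cfsg.POmega (ZMod 3) (Cfsg.quadFormOdd 3 (ZMod 3)), X.map (MulAut.conj g).toMonoidHom = Y i) := by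
  open Cfsg.Agent.Components.OmegaSeven in
  have : Fact (Nat.Prime 3) := ⟨Nat.prime_three⟩
  let φ : ↥W7 ≃* Cfsg.POmega (ZMod 3) (Cfsg.quadFormOdd 3 (ZMod 3)) :=
    ((QuotientGroup.quotientMulEquivOfEq center_eq_bot).trans QuotientGroup.quotientBot).symm
  have ord : ∀ i, orderOf (φ (rep i)) = 3 := fun i =>
    orderOf_eq_prime (by rw [← map_pow, rep_cube, map_one])
      (fun h => rep_ne_one i (φ.injective (by rw [h, map_one])))
  refine ⟨fun i => Subgroup.zpowers (φ (rep i)), fun i => by rw [Nat.card_zpowers, ord], ?_, ?_⟩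
  · rintro i j ⟨g, hg⟩
    have hmem : g * φ (rep i) * g⁻¹ ∈ Subgroup.zpowers (φ (rep j)) :=
      hg.le ⟨_, Subgroup.mem_zpowers _, rfl⟩
    obtain ⟨n, hn⟩ := Subgroup.mem_zpowers_iff.mp hmem
    obtain ⟨g', rfl⟩ := φ.surjective g
    rw [← map_zpow, ← map_inv, ← map_mul, ← map_mul] at hn
    have he := (φ.injective hn).symm
    have h3 : rep j ^ (3 : ℤ) = 1 := mod_cast rep_cube j
    have hmod : rep j ^ n = rep j ^ (n % 3) := by
      conv_lhs => rw [← Int.mul_ediv_add_emod n 3, zpow_add, zpow_mul, h3, one_zpow, one_mul]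
    rw [hmod] at he
    have h0 : 0 ≤ n % 3 := Int.emod_nonneg n (by norm_num)
    have h2 : n % 3 < 3 := Int.emod_lt_of_pos n (by norm_num)
    interval_cases hk : n % 3
    · rw [zpow_zero] at he
      exact absurd (conj_eq_one_iff.mp he) (rep_ne_one i)
    · exact rep_sep (g := g') (Or.inl (by rw [he, zpow_one]))
    · exact rep_sep (g := g') (Or.inr (by rw [he, zpow_two]))
  · intro X hX
    obtain ⟨x, hx⟩ := (isCyclic_of_prime_card hX).exists_generator
    have hgen : Subgroup.zpowers (x : Cfsg.POmega (ZMod 3) (Cfsg.quadFormOdd 3 (ZMod 3))) = X := by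
      refine le_antisymm (Subgroup.zpowers_le.mpr x.2) fun y hy => ?_
      obtain ⟨k, hk⟩ := Subgroup.mem_zpowers_iff.mp (hx ⟨y, hy⟩)
      exact ⟨k, by simpa using congrArg Subtype.val hk⟩
    have ho : orderOf (x : Cfsg.POmega (ZMod 3) (Cfsg.quadFormOdd 3 (ZMod 3))) = 3 := by
      rw [← Nat.card_zpowers, hgen, hX]
    obtain ⟨y, hy⟩ := φ.surjective (x : Cfsg.POmega (ZMod 3) (Cfsg.quadFormOdd 3 (ZMod 3)))
    rw [← hy] at ho hgen
    rw [MulEquiv.orderOf_eq] at ho
    have h3 : y ^ 3 = 1 := by simpa only [ho] using pow_orderOf_eq_one y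
    have h1 : y ≠ 1 := fun h => by simp [h] at ho
    obtain ⟨i, g, hg⟩ := hit_of_cube h3 h1
    refine ⟨i, φ g, ?_⟩
    have hle : X.map (MulAut.conj (φ g)).toMonoidHom ≤ Subgroup.zpowers (φ (rep i)) := by
      rintro _ ⟨z, hz, rfl⟩
      rw [← hgen] at hz
      obtain ⟨k, rfl⟩ := Subgroup.mem_zpowers_iff.mp hz
      rw [map_zpow]
      apply Subgroup.zpow_mem
      show φ g * φ y * (φ g)⁻¹ ∈ _
      rw [← map_inv, ← map_mul, ← map_mul]
      rcases hg with hg | hg
      · rw [hg]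
        exact Subgroup.mem_zpowers _
      · rw [hg, map_mul]
        exact Subgroup.mul_mem _ (Subgroup.mem_zpowers _) (Subgroup.mem_zpowers _)
    refine Subgroup.eq_of_le_of_card_ge hle (le_of_eq ?_)
    rw [Nat.card_zpowers, ord]
    exact hX.symm.trans (Subgroup.card_map_of_injective (K := X) (MulAut.conj (φ g)).injective).symm

end Cfsg.Agent.S5514
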