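import Cfsg.Statements.S5516
import Cfsg.Agent.Lib.Components.OmegaEight.Cover
import Cfsg.Agent.Lib.Components.OmegaEight.Invariant
import Cfsg.Agent.Lib.Components.OmegaEight.Graph
import Cfsg.Agent.Lib.Components.OuterOrbits

set_option autoImplicit false
open Cfsg

namespace Cfsg.Agent.S5516

open Cfsg.Agent.Components.OmegaEight Cfsg.Agent.Components Cfsg.Agent.AutPOmega.D4Out

/-- The simple group. -/
abbrev T8 : Type := Cfsg.POmega (ZMod 3) (Cfsg.quadFormPlus 4 (ZMod 3))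

/-- The projection. -/
def pr : ↥W8 →* T8 := QuotientGroup.mk' (Subgroup.center ↥W8)

/-- The image of a representative. -/
def y (i : Fin 13) : T8 := pr (rep i)

lemma center_sq {z : ↥W8} (hz : z ∈ Subgroup.center ↥W8) : z ^ 2 = 1 := by
  have h := pow_card_eq_one' (G := Subgroup.center ↥W8) (x := ⟨z, hz⟩)
  rw [card_center] at h
  exact congrArg Subtype.val h

lemma pr_cancel {a b : ↥W8} (h : pr a = pr b) (ha : a ^ 3 = 1) (hb : b ^ 3 = 1) : a = b := by
  obtain ⟨z, hz, rfl⟩ := (QuotientGroup.mk'_eq_mk' _).mp h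
  have hc : a * z = z * a := Subgroup.mem_center_iff.mp hz a
  rw [(show Commute a z from hc).mul_pow, ha, one_mul, pow_succ, center_sq hz, one_mul] at hb
  rw [hb, mul_one]

lemma y_cube (i : Fin 13) : y i ^ 3 = 1 := by rw [y, ← map_pow, rep_cube, map_one]

lemma y_ne_one (i : Fin 13) : y i ≠ 1 := fun h =>
  rep_ne_one i (pr_cancel (h.trans (map_one pr).symm) (rep_cube i) (one_pow 3))

lemma zpowers_sq {G : Type*} [Group G] {x : G} (h : x ^ 3 = 1) :
    Subgroup.zpowers (x * x) = Subgroup.zpowers x := by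
  refine le_antisymm (Subgroup.zpowers_le.mpr (mul_mem (Subgroup.mem_zpowers _) (Subgroup.mem_zpowers _)))
    (Subgroup.zpowers_le.mpr ?_)
  have e : x = (x * x) * (x * x) := by
    rw [show x * x * (x * x) = x ^ 3 * x by simp [pow_succ, mul_assoc], h, one_mul]
  have hm := mul_mem (Subgroup.mem_zpowers (x * x)) (Subgroup.mem_zpowers (x * x))
  rwa [← e] at hm

/-- The subgroup of a representative. -/
def Yc (i : Fin 13) : Subgroup T8 := Subgroup.zpowers (y i)

lemma card_Yc (i : Fin 13) : Nat.card (Yc i) = 3 := by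
  have : Fact (Nat.Prime 3) := ⟨Nat.prime_three⟩
  rw [Yc, Nat.card_zpowers, orderOf_eq_prime (y_cube i) (y_ne_one i)]

lemma map_Yc {f : MulAut T8} {i j : Fin 13} (h : f (y i) = y j ∨ f (y i) = y j * y j) :
    (Yc i).map f.toMonoidHom = Yc j := by
  rw [Yc, MonoidHom.map_zpowers]
  rcases h with h | h
  · exact congrArg Subgroup.zpowers h
  · exact (congrArg Subgroup.zpowers h).trans (zpowers_sq (y_cube j))

lemma cover (X : Subgroup T8) (hX : Nat.card X = 3) :
    ∃ i g, X.map (MulAut.conj g).toMonoidHom = Yc i := by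
  have : Fact (Nat.Prime 3) := ⟨Nat.prime_three⟩
  obtain ⟨x, hx⟩ := (isCyclic_of_prime_card hX).exists_generator
  have hgen : Subgroup.zpowers (x : T8) = X := by
    refine le_antisymm (Subgroup.zpowers_le.mpr x.2) fun z hz => ?_
    obtain ⟨k, hk⟩ := Subgroup.mem_zpowers_iff.mp (hx ⟨z, hz⟩)
    exact ⟨k, by simpa using congrArg Subtype.val hk⟩
  have ho : orderOf (x : T8) = 3 := by rw [← Nat.card_zpowers, hgen, hX]
  have h3 : (x : T8) ^ 3 = 1 := by
    have h := pow_orderOf_eq_one (x : T8)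
    rwa [ho] at h
  obtain ⟨u, hu⟩ := QuotientGroup.mk'_surjective (Subgroup.center ↥W8) (x : T8)
  have hz : u ^ 3 ∈ Subgroup.center ↥W8 :=
    (QuotientGroup.eq_one_iff _).mp ((map_pow (QuotientGroup.mk' _) u 3).trans (by rw [hu, h3]))
  have hv : (u ^ 4) ^ 3 = 1 := by
    rw [← pow_mul, show 4 * 3 = 3 * 2 * 2 by norm_num, pow_mul, pow_mul, center_sq hz, one_pow]
  have hpv : pr (u ^ 4) = x := by
    rw [map_pow, show pr u = x from hu, pow_succ, h3, one_mul]
  have h1 : u ^ 4 ≠ 1 := fun h => by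
    rw [h, map_one] at hpv
    rw [← hpv, orderOf_one] at ho
    norm_num at ho
  obtain ⟨i, g, hg⟩ := hit_of_cube hv h1
  refine ⟨i, pr g, ?_⟩
  rw [← hgen, MonoidHom.map_zpowers]
  have e : MulAut.conj (pr g) (x : T8) = pr (g * u ^ 4 * g⁻¹) := by
    rw [map_mul, map_mul, map_inv, hpv, MulAut.conj_apply]
  rcases hg with hg | hg <;> rw [hg] at e
  · exact congrArg Subgroup.zpowers e
  · exact (congrArg Subgroup.zpowers (e.trans (map_mul pr _ _))).trans (zpowers_sq (y_cube i))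

lemma conj_inv {i j : Fin 13} (g : T8) (h : (Yc i).map (MulAut.conj g).toMonoidHom = Yc j) :
    repInv i = repInv j := by
  have hm : g * y i * g⁻¹ ∈ Subgroup.zpowers (y j) := h.le ⟨_, Subgroup.mem_zpowers _, rfl⟩
  obtain ⟨n, hn⟩ := Subgroup.mem_zpowers_iff.mp hm
  have hn' : y j ^ (n % 3) = g * y i * g⁻¹ := by
    have h3 : y j ^ (3 : ℤ) = 1 := mod_cast y_cube j
    rw [← hn]
    conv_rhs => rw [← Int.mul_ediv_add_emod n 3, zpow_add, zpow_mul, h3, one_zpow, one_mul]
  obtain ⟨g', rfl⟩ := QuotientGroup.mk'_surjective (Subgroup.center ↥W8) g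
  have hc : ∀ e : ℕ, y j ^ (e : ℤ) = pr g' * y i * (pr g')⁻¹ → g' * rep i * g'⁻¹ = rep j ^ e := by
    intro e he
    refine pr_cancel ?_ (by rw [conj_pow, rep_cube, mul_one, mul_inv_cancel])
      (by rw [← pow_mul, mul_comm, pow_mul, rep_cube, one_pow])
    rw [map_mul, map_mul, map_inv, map_pow, ← zpow_natCast]
    exact he.symm
  rw [← repInv_eq, ← repInv_eq]
  have h0 : 0 ≤ n % 3 := Int.emod_nonneg n (by norm_num)
  have h2 : n % 3 < 3 := Int.emod_lt_of_pos n (by norm_num)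
  interval_cases hk : n % 3
  · have e := hc 0 hn'
    rw [pow_zero] at e
    exact absurd (conj_eq_one_iff.mp e) (rep_ne_one i)
  · have e := hc 1 hn'
    rw [pow_one] at e
    rw [← fixCount_conj 0 g', ← fixCount_conj 1 g', e]
  · have e := hc 2 hn'
    rw [pow_two] at e
    rw [← fixCount_conj 0 g', ← fixCount_conj 1 g', e, fixCount_sq _ _ (rep_cube j),
      fixCount_sq _ _ (rep_cube j)]

/-- A model of the automorphisms induced in an extension by the symmetric group of degree three. -/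
lemma exists_model : ∃ (a : Equiv.Perm (Fin 3) → MulAut T8) (R : Subgroup (MulAut T8)),
    Cfsg.Inn T8 ≤ R ∧ Nat.card (R.map (QuotientGroup.mk' (Cfsg.Inn T8))) = 6 ∧ (∀ π, a π ∈ R) ∧
    (∀ r ∈ R, ∃ π, ∃ x ∈ Cfsg.Inn T8, r = x * a π) ∧
    ∀ π i, ∃ g : T8, (Yc i).map (MulAut.conj g * a π).toMonoidHom = Yc (tgt π i) := by
  obtain ⟨a, R, h1, h2, h3, h4, h5⟩ :=
    exists_graph (F := ZMod 3) (Cfsg.quadFormPlus 4 (ZMod 3)) quad_coe.symm
  refine ⟨a, R, h1, h2, h3, h4, fun π i => ?_⟩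
  have hl : ∀ k, a π (pr (gen (nodeLet k))) = pr (gen (nodeLet (rho4 π k))) := fun k =>
    h5 π k (gen (nodeLet k)) (gen (nodeLet (rho4 π k))) (genMat_node k) (genMat_node _)
  have hw : ∀ w : List (Fin 4), a π (pr (ev (w.map nodeLet))) =
      pr (ev (w.map fun k => nodeLet (rho4 π k))) := by
    intro w
    induction w with
    | nil => exact map_one (a π)
    | cons k w ih => simp only [List.map_cons, ev, map_mul, hl, ih]
  obtain ⟨g, hg⟩ := conj_img π i
  refine ⟨pr g, map_Yc ?_⟩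
  have he : (MulAut.conj (pr g) * a π) (y i) =
      pr (g * ev ((nodeWord i).map fun k => nodeLet (rho4 π k)) * g⁻¹) := by
    rw [MulAut.mul_apply, y, rep, ← ev_eq_ev (node_rep i), hw, MulAut.conj_apply, map_mul, map_mul, map_inv]
  rw [he]
  rcases hg with hg | hg
  · exact Or.inl (congrArg pr hg)
  · exact Or.inr ((congrArg pr hg).trans (map_mul pr _ _))

lemma inv_table : ∀ i j : Fin 13,
    (∀ π : Equiv.Perm (Fin 3), repInvList.getD (tgt π i).val (0, 0) = repInvList.getD (tgt π j).val (0, 0)) →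
    i = j := by decide +kernel

/-- The orbit of a representative. -/
def lab (i : Fin 13) : Fin 7 := labList.getD i.val 0

/-- A representative of an orbit. -/
def pick (k : Fin 7) : Fin 13 := pickList.getD k.val 0

lemma lab_pick : ∀ k, lab (pick k) = k := by decide +kernel

lemma lab_tgt : ∀ π i, lab (tgt π i) = lab i := by decide +kernel

lemma tgt_pick : ∀ i, ∃ π, tgt π i = pick (lab i) := by decide +kernel

lemma sep {i j : Fin 13} (h : ∃ g, (Yc i).map (MulAut.conj g).toMonoidHom = Yc j) : i = j := by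
  obtain ⟨a, R, -, -, -, -, h5⟩ := exists_model
  obtain ⟨c, hc⟩ := h
  refine inv_table i j fun π => ?_
  obtain ⟨g, hg⟩ := h5 π i
  obtain ⟨g', hg'⟩ := h5 π j
  rw [← repInv_val, ← repInv_val]
  refine conj_inv (g' * a π c * g⁻¹) ?_
  rw [← hg, ← OuterOrbits.map_aut_mul, ← hg', ← hc, ← OuterOrbits.map_aut_mul]
  refine congrArg (fun f => (Yc i).map f) (congrArg MulEquiv.toMonoidHom ?_)
  refine MulEquiv.ext fun t => ?_
  simp only [MulAut.mul_apply, MulAut.conj_apply, map_mul (a π), map_inv (a π)]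
  group

lemma out_equiv : Nonempty (Cfsg.Out T8 ≃* Equiv.Perm (Fin 4)) := by
  have hout := Cfsg.Agent.S2608.result (F := ZMod 3) (p := 3) (f := 1) (m := 4) le_rfl
    (by rw [ZMod.card]; rfl) (by norm_num) le_rfl
  rw [if_pos rfl] at hout
  obtain ⟨e⟩ := hout
  exact ⟨e.trans MulEquiv.prodUnique⟩

lemma center_bot : Subgroup.center T8 = ⊥ := by
  have := Cfsg.Agent.S0296.result (F := ZMod 3) 4 le_rfl
  refine (IsSimpleGroup.eq_bot_or_eq_top_of_normal _ inferInstance).resolve_right fun htop => ?_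
  have hc : ∀ a : T8, a ∈ Subgroup.center T8 := fun a => htop ▸ Subgroup.mem_top a
  have h : ∀ i, Yc i = ⊤ := fun i =>
    ((⟨fun z hz g => by rwa [(Subgroup.mem_center_iff.mp (hc z) g), mul_inv_cancel_right]⟩ :
      (Yc i).Normal).eq_bot_or_eq_top).resolve_left
      fun hb => by
        have := card_Yc i
        rw [hb, Subgroup.card_bot] at this
        norm_num at this
  exact absurd (sep ⟨1, by rw [h 0, h 1]; exact Subgroup.map_top_of_surjective _ (MulAut.conj 1).surjective⟩)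
    (by decide : (0 : Fin 13) ≠ 1)

/-- PΩ⁺(8, 3) (the commutator subgroup of the isometry group of the hyperbolic quadratic form in dimension 8 over the field with three elements, modulo its centre) has exactly 13 conjugacy classes of subgroups of order 3; and a finite group G whose generalized Fitting subgroup L is isomorphic to PΩ⁺(8, 3) with G/L the symmetric group of degree 3 has exactly 7 orbits, under conjugation, on the subgroups of L of order 3. -/
theorem result {G : Type*} [Group G] [Finite G] (L : Subgroup G) (hL : L = Cfsg.generalizedFittingSubgroup G) (hF : Nonempty (↥L ≃* Cfsg.POmega (ZMod 3) (Cfsg.quadFormPlus 4 (ZMod 3)))) [hn : L.Normal] (hq : Nonempty (G ⧸ L ≃* Equiv.Perm (Fin 3))) : (∃ Y : Fin 13 → Subgroup (Cfsg.POmega (ZMod 3) (Cfsg.quadFormPlus 4 (ZMod 3))), (∀ i, Nat.card (Y i) = 3) ∧ (∀ i j, (∃ g : Cfsg.POmega (ZMod 3) (Cfsg.quadFormPlus 4 (ZMod 3)), (Y i).map (MulAut.conj g).toMonoidHom = Y j) → i = j) ∧ (∀ X : Subgroup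 (Cfsg.POmega (ZMod 3) (Cfsg.quadFormPlus 4 (ZMod 3))), Nat.card X = 3 → ∃ i, ∃ g : Cfsg.POmega (ZMod 3) (Cfsg.quadFormPlus 4 (ZMod 3)), X.map (MulAut.conj g).toMonoidHom = Y i)) ∧ ∃ Y : Fin 7 → Subgroup G, (∀ i, Y i ≤ L ∧ Nat.card (Y i) = 3) ∧ (∀ i j, (∃ g : G, (Y i).map (MulAut.conj g).toMonoidHom = Y j) → i = j) ∧ ∀ X : Subgroup G, X ≤ L → Nat.card X = 3 → ∃ i, ∃ g : G, X.map (MulAut.conj g).toMonoidHom = Y i := by
  refine ⟨⟨Yc, card_Yc, fun i j h => sep h, cover⟩, ?_⟩
  obtain ⟨a, R, h1, h2, h3, h4, h5⟩ := exists_model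
  obtain ⟨e⟩ := out_equiv
  obtain ⟨eL⟩ := hF
  have : Finite T8 := Finite.of_equiv _ eL.toEquiv
  subst hL
  refine OuterOrbits.orbits e center_bot R h1 h2 Yc lab pick lab_pick card_Yc cover ?_ ?_ _ eL
    Cfsg.Agent.S1265.result hq
  · intro r hr i j hij
    obtain ⟨π, x, ⟨t, rfl⟩, rfl⟩ := h4 r hr
    obtain ⟨g, hg⟩ := h5 π i
    have e1 : MulAut.conj (t * g⁻¹) * (MulAut.conj g * a π) = MulAut.conj t * a π := by
      rw [← mul_assoc, ← map_mul, inv_mul_cancel_right]
    rw [← e1, OuterOrbits.map_aut_mul, hg] at hij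
    rw [← lab_tgt π i, sep ⟨_, hij⟩]
  · intro i
    obtain ⟨π, hπ⟩ := tgt_pick i
    obtain ⟨g, hg⟩ := h5 π i
    exact ⟨_, mul_mem (h1 ⟨g, rfl⟩) (h3 π), hπ ▸ hg⟩

end Cfsg.Agent.S5516
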