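import Cfsg.Statements.S5517
import Cfsg.Agent.Lib.ThreeTransp.M22Fi22.Type
import Cfsg.Agent.Lib.ThreeTransp.M22Iso.Main
import Cfsg.Agent.InvChar.Coset.FiOrthIso

set_option autoImplicit false
open Cfsg

namespace Cfsg.Agent.S5517

/-- Let G be a finite group with trivial centre generated by a conjugation-invariant set D of 3-transpositions on which it acts primitively, such that for some d in D the subgroup generated by the members of D other than d commuting with d has central largest normal 2- and 3-subgroups, and suppose G with D is of type M(22). Then G has a subgroup L generated by the members of D it contains and isomorphic to Ω(7, 3) (the commutator subgroup of the isometry group of a non-degenerate 7-dimensional quadratic form over the field with three elements, modulo its centre), and every Sylow 3-subgroup of L is a Sylow 3-subgroup of G. -/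
theorem result {G : Type*} [Group G] [Finite G] {D : Set G} (hD : Cfsg.IsThreeTranspositionGroup D) (hprim : Cfsg.IsPrimitiveUnderConj D) (d₀ : G) (hd₀ : d₀ ∈ D) (h3 : Cfsg.pCore 3 ↥(Subgroup.closure {y : G | y ∈ D ∧ y ≠ d₀ ∧ Commute d₀ y}) ≤ Subgroup.center ↥(Subgroup.closure {y : G | y ∈ D ∧ y ≠ d₀ ∧ Commute d₀ y})) (h2 : Cfsg.pCore 2 ↥(Subgroup.closure {y : G | y ∈ D ∧ y ≠ d₀ ∧ Commute d₀ y}) ≤ Subgroup.center ↥(Subgroup.closure {y : G | y ∈ D ∧ y ≠ d₀ ∧ Commute d₀ y})) (h22 : Cfsg.IsOfTypeM22 G D) : ∃ L : Subgroup G, Cfsg.IsDSubgroup D L ∧ Nonempty (↥L ≃* Cfsg.POmega (ZMod 3) (Cfsg.quadFormOdd 3 (ZMod 3))) ∧ ∀ P : Sylow 3 ↥L, ∃ P' : Sylow 3 G, (P : Subgroup ↥L).map L.subtype = (P' : Subgroup G) := by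
  classical
  haveI := Cfsg.Agent.InvChar.Coset.FiUnit.finite_Fi
  haveI : Fact (Nat.Prime 3) := ⟨Nat.prime_three⟩
  obtain ⟨e, he⟩ := Cfsg.Agent.ThreeTransp.M22Iso.exists_iso hD hprim h22
    Cfsg.Agent.ThreeTransp.M22Fi22.group_DFi Cfsg.Agent.ThreeTransp.M22Fi22.prim_DFi
    Cfsg.Agent.ThreeTransp.M22Fi22.type_DFi
  set M := Cfsg.Agent.CosetCert.subg Cfsg.Agent.InvChar.Coset.Fi22B.data.gen [1, 2, 3, 4, 5, 6, 7, 8] with hM
  refine ⟨M.map e.symm.toMonoidHom, ?_, ?_, fun P => ?_⟩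
  · refine le_antisymm ((Subgroup.closure_le _).2 fun d hd => hd.2) ?_
    rw [hM, Cfsg.Agent.CosetCert.subg, MonoidHom.map_closure, Subgroup.closure_le]
    rintro _ ⟨_, ⟨j, hj, rfl⟩, rfl⟩
    refine Subgroup.subset_closure ⟨?_, Subgroup.subset_closure ⟨_, ⟨j, hj, rfl⟩, rfl⟩⟩
    have hmem : Cfsg.Agent.InvChar.Coset.Fi22B.data.gen j ∈ Cfsg.Agent.ThreeTransp.M22Fi22.DFi := by
      obtain ⟨k, rfl⟩ : ∃ k : Fin 9, Cfsg.Agent.InvChar.Coset.FiOut.lt' k = j :=
        (show ∀ j ∈ [1, 2, 3, 4, 5, 6, 7, 8], ∃ k : Fin 9, Cfsg.Agent.InvChar.Coset.FiOut.lt' k = j by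
          decide +kernel) j hj
      rw [← Cfsg.Agent.InvChar.Coset.FiOut.cg_gen, Cfsg.Agent.InvChar.Coset.FiOut.cg_eq]
      exact Cfsg.Agent.ThreeTransp.M22Fi22.dd_mem _
    rw [← he] at hmem
    obtain ⟨d, hd, hde⟩ := hmem
    show e.symm _ ∈ D
    rw [← hde, e.symm_apply_apply]
    exact hd
  · obtain ⟨i⟩ := Cfsg.Agent.InvChar.Coset.FiOrth.nonempty_iso
    exact ⟨((M.equivMapOfInjective _ e.symm.injective).symm).trans i⟩
  · have key : ∀ L : Subgroup G, L.index = 14080 → ∀ P : Sylow 3 ↥L,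
        ∃ P' : Sylow 3 G, (P : Subgroup ↥L).map L.subtype = (P' : Subgroup G) := by
      intro L hidx P
      refine ⟨(P.2.map L.subtype).toSylow ?_, Subgroup.ext fun x => (IsPGroup.mem_toSylow _ _).symm⟩
      rw [Subgroup.index_map_subtype, hidx]
      intro h
      rcases (Nat.Prime.dvd_mul Nat.prime_three).1 h with h | h
      · exact P.not_dvd_index h
      · norm_num at h
    refine key _ ?_ P
    rw [Subgroup.index_map_of_bijective (f := e.symm.toMonoidHom) e.symm.bijective]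
    exact Cfsg.Agent.InvChar.Coset.Fi22B.index_sub

end Cfsg.Agent.S5517
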