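import Cfsg.Statements.S5519
import Cfsg.Agent.S5469
import Cfsg.Agent.Lib.ThreeTransp.M22.PairRadical
import Cfsg.Agent.Lib.Forms.Aut42
import Cfsg.Agent.Lib.CharP.CharP
import Cfsg.Agent.Lib.ThreeTransp.M22.ThreeA
import Cfsg.Agent.Lib.LargeExtra.Centralizer

set_option autoImplicit false
open Cfsg
open scoped commutatorElement

namespace Cfsg.Agent.S5519

/-- A non-trivial normal subgroup of the orthogonal group contains `Ω`. -/
theorem omega_le_of_normal {N : Subgroup ↥SuzukiType.O6} [N.Normal] (h : N ≠ ⊥) :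
    Cfsg.Omega (ZMod 2) ⇑SuzukiType.F6 ≤ N := by
  set Ω := Cfsg.Omega (ZMod 2) ⇑SuzukiType.F6
  haveI := SuzukiType.omega_simple
  rcases (inferInstance : (N.subgroupOf Ω).Normal).eq_bot_or_eq_top with h0 | h0
  · exfalso
    refine h ((Subgroup.eq_bot_iff_forall _).2 fun g hg => Forms.Aut42.omega_centralizer fun x hx => ?_)
    have hd : N ⊓ Ω = ⊥ := (disjoint_iff).1 (Subgroup.subgroupOf_eq_bot.1 h0)
    have : g * x * g⁻¹ * x⁻¹ ∈ N ⊓ Ω := Subgroup.mem_inf.2 ⟨by
      rw [show g * x * g⁻¹ * x⁻¹ = g * (x * g⁻¹ * x⁻¹) by group]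
      exact N.mul_mem hg (Subgroup.Normal.conj_mem inferInstance _ (N.inv_mem hg) x),
      Ω.mul_mem (Subgroup.Normal.conj_mem inferInstance x hx g) (Ω.inv_mem hx)⟩
    rw [hd, Subgroup.mem_bot, mul_inv_eq_one, mul_inv_eq_iff_eq_mul] at this
    exact this
  · exact Subgroup.subgroupOf_eq_top.1 h0

/-- Let G be a finite group with trivial centre generated by a conjugation-invariant set D of 3-transpositions on which it acts primitively, such that for some d in D the subgroup generated by the members of D other than d commuting with d has central largest normal 2- and 3-subgroups, and suppose G with D is of type M(22). Let d₁, d₂ be distinct commuting members of D and C the centralizer of their product. Then the generalized Fitting subgroup of C is the direct product of a group of order 2 and an extraspecial 2-group of order 2^9, and C modulo it is isomorphic to the full isometry group of the elliptic quadratic form in dimension 6 over the field with two elements.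 -/
theorem result {G : Type*} [Group G] [Finite G] {D : Set G} (hD : Cfsg.IsThreeTranspositionGroup D) (hprim : Cfsg.IsPrimitiveUnderConj D) (d₀ : G) (hd₀ : d₀ ∈ D) (h3 : Cfsg.pCore 3 ↥(Subgroup.closure {y : G | y ∈ D ∧ y ≠ d₀ ∧ Commute d₀ y}) ≤ Subgroup.center ↥(Subgroup.closure {y : G | y ∈ D ∧ y ≠ d₀ ∧ Commute d₀ y})) (h2 : Cfsg.pCore 2 ↥(Subgroup.closure {y : G | y ∈ D ∧ y ≠ d₀ ∧ Commute d₀ y}) ≤ Subgroup.center ↥(Subgroup.closure {y : G | y ∈ D ∧ y ≠ d₀ ∧ Commute d₀ y})) (h22 : Cfsg.IsOfTypeM22 G D) (d₁ d₂ : G) (h₁ : d₁ ∈ D) (h₂ : d₂ ∈ D) (hne : d₁ ≠ d₂) (hc : Commute d₁ d₂) (C : Subgroup G) (hC : C = Subgroup.centralizer ({d₁ * d₂} : Set G)) [hn : (Cfsg.generalizedFittingSubgroup ↥C).Normal] : (∃ (E : Type) (_ : Group E) (_ : Finite E), Cfsg.IsExtraspecial 2 E ∧ Nat.card E = 2 ^ 9 ∧ Nonempty (↥(Cfsg.generalizedFittingSubgroup ↥C) ≃* Multiplicative (ZMod 2) × E)) ∧ Nonempty (↥C ⧸ Cfsg.generalizedFittingSubgroup ↥C ≃* Cfsg.isometryGroup (ZMod 2) (Cfsg.quadFormMinus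 2 (ZMod 2) 1 1)) := by
  classical
  haveI : Fact (Nat.Prime 2) := ⟨Nat.prime_two⟩
  have hb : d₂ ∈ ThreeTransp.Factor.nb D d₁ := ⟨h₂, hne.symm, hc⟩
  obtain ⟨-, hidx, hZK, E, hVE, hEC, -, hEcard, -, hEn, F, iF, iF', hF, ⟨ψ₀⟩⟩ :=
    S5469.result hD hprim d₀ hd₀ h3 h2 h22 d₁ d₂ h₁ h₂ hne hc
      (Subgroup.centralizer ({d₁, d₂} : Set G)) C (Subgroup.closure ({d₁, d₂} : Set G)) rfl hC rfl
  set K := Subgroup.centralizer ({d₁, d₂} : Set G) with hK
  obtain ⟨e6⟩ := Forms.Aut42.mulAut_equiv hF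
  set Es := E.subgroupOf C with hEs
  set O := Cfsg.isometryGroup (ZMod 2) (Cfsg.quadFormMinus 2 (ZMod 2) 1 1) with hO
  have hOO : SuzukiType.O6 = O := by
    rw [hO, ← Classical.OrthForms.minQ_eq]
  obtain ⟨ψ⟩ : Nonempty (↥C ⧸ Es ≃* ↥SuzukiType.O6) :=
    ⟨(ψ₀.trans e6).trans (MulEquiv.subgroupCongr hOO.symm)⟩
  set π : ↥C →* ↥SuzukiType.O6 := ψ.toMonoidHom.comp (QuotientGroup.mk' Es) with hπ
  have hπs : Function.Surjective π := ψ.surjective.comp (QuotientGroup.mk'_surjective _)
  have hker : ∀ x : ↥C, π x = 1 ↔ (x : G) ∈ E := fun x => by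
    rw [hπ, MonoidHom.comp_apply, MulEquiv.coe_toMonoidHom, ψ.map_eq_one_iff,
      QuotientGroup.mk'_apply, QuotientGroup.eq_one_iff, hEs, Subgroup.mem_subgroupOf]
  set Ω := Cfsg.Omega (ZMod 2) ⇑SuzukiType.F6 with hΩ
  have hΩne : ¬ IsPGroup 2 ↥Ω := by
    intro h
    obtain ⟨n, hn⟩ := IsPGroup.iff_card.1 h
    have h1 : Nat.card ↥SuzukiType.O6 = 51840 := by
      show Nat.card (Cfsg.isometryGroup (ZMod 2) ⇑SuzukiType.F6) = 51840
      rw [Classical.OrthForms.minQ_eq]
      exact (S0288.result (F := ZMod 2) (ZMod.card 2) 3 (by norm_num) 1 1 SuzukiType.anis).trans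
        (by decide)
    have h2 := Ω.card_mul_index
    rw [SuzukiType.omega_index, h1, hn] at h2
    have : (3 : ℕ) ∣ 2 ^ n := ⟨8640, by omega⟩
    exact absurd (Nat.prime_three.dvd_of_dvd_pow this) (by norm_num)
  have hpimage : ∀ N : Subgroup ↥C, N.Normal → IsPGroup 2 ↥N → ∀ x ∈ N, (x : G) ∈ E := by
    intro N hN hP x hx
    rw [← hker]
    haveI : (N.map π).Normal := hN.map π hπs
    by_contra hne1
    refine hΩne ((hP.map π).to_le (omega_le_of_normal (N := N.map π) fun h => hne1 ?_))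
    have : π x ∈ N.map π := ⟨x, hx, rfl⟩
    rwa [h, Subgroup.mem_bot] at this
  -- how `C` acts on the pair
  have hmemK : ∀ g : G, g ∈ K ↔ g * d₁ * g⁻¹ = d₁ ∧ g * d₂ * g⁻¹ = d₂ := fun g => by
    rw [hK, ThreeTransp.M22.mem_centralizer_pair hD hprim h22, ThreeTransp.M22.conj_eq_self_iff,
      ThreeTransp.M22.conj_eq_self_iff]
  have hKC : K ≤ C := by
    intro g hg
    obtain ⟨g1, g2⟩ := (hmemK g).1 hg
    rw [hC, Subgroup.mem_centralizer_iff]
    rintro _ rfl
    exact ((mul_inv_eq_iff_eq_mul.1 (show g * (d₁ * d₂) * g⁻¹ = d₁ * d₂ by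
      rw [show g * (d₁ * d₂) * g⁻¹ = g * d₁ * g⁻¹ * (g * d₂ * g⁻¹) by group, g1, g2]))).symm
  obtain ⟨s, hs1, hs2⟩ := ThreeTransp.M22.pair_trans hD hprim h22 h₁ hb h₂
    (ThreeTransp.Cover.mem_nb_symm h₁ hb)
  have hsC : s ∈ C := by
    rw [hC, Subgroup.mem_centralizer_iff]
    rintro _ rfl
    exact ((mul_inv_eq_iff_eq_mul.1 (show s * (d₁ * d₂) * s⁻¹ = d₁ * d₂ by
      rw [show s * (d₁ * d₂) * s⁻¹ = s * d₁ * s⁻¹ * (s * d₂ * s⁻¹) by group, hs1, hs2,
        hc.eq]))).symm
  have hact : ∀ g ∈ C, (g * d₁ * g⁻¹ = d₁ ∧ g * d₂ * g⁻¹ = d₂) ∨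
      (g * d₁ * g⁻¹ = d₂ ∧ g * d₂ * g⁻¹ = d₁) := by
    intro g hg
    by_cases hgK : g ∈ K
    · exact Or.inl ((hmemK g).1 hgK)
    right
    have hsK : s ∉ K := fun h => hne (((hmemK s).1 h).1.symm.trans hs1)
    have hgs := ((Subgroup.mul_mem_iff_of_index_two hidx (a := (⟨g, hg⟩ : ↥C))
      (b := ⟨s, hsC⟩)).2 (iff_of_false (fun h => hgK h) fun h => hsK h))
    obtain ⟨e1, e2⟩ := (hmemK _).1 (Subgroup.mem_subgroupOf.1 hgs)
    rw [Subgroup.coe_mul] at e1 e2
    constructor
    · calc g * d₁ * g⁻¹ = g * (s * d₂ * s⁻¹) * g⁻¹ := by rw [hs2]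
        _ = g * s * d₂ * (g * s)⁻¹ := by group
        _ = d₂ := e2
    · calc g * d₂ * g⁻¹ = g * (s * d₁ * s⁻¹) * g⁻¹ := by rw [hs1]
        _ = g * s * d₁ * (g * s)⁻¹ := by group
        _ = d₁ := e1
  -- the radical
  set R := ThreeTransp.M22.radical D d₁ d₂ with hR
  have hRK : R ≤ K := ThreeTransp.M22.radical_le hD hprim h22 h₁ hb
  haveI : (R.subgroupOf C).Normal := ⟨fun x hx g => by
    rw [Subgroup.mem_subgroupOf] at hx ⊢
    exact ThreeTransp.M22.radical_conj hD hprim h22 h₁ hb (hact g g.2) hx⟩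
  have hRE : R = E := by
    have hle : R ≤ E := fun x hx =>
      hpimage (R.subgroupOf C) inferInstance
        ((ThreeTransp.M22.radical_isPGroup hD hprim h22 h₁ hb).of_equiv
          (Subgroup.subgroupOfEquivOfLe (hRK.trans hKC)).symm) ⟨x, hKC (hRK hx)⟩ hx
    exact Subgroup.eq_of_le_of_card_ge hle
      (hEcard ▸ ThreeTransp.M22.radical_card hD hprim h22 h₁ hb)
  subst hRE
  have hEK : R ≤ K := hRK
  -- common neighbours generate `K` modulo the radical
  set S := ThreeTransp.Factor.nb D d₁ ∩ ThreeTransp.Factor.nb D d₂ with hS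
  have hSK : Subgroup.closure S ≤ K := (Subgroup.closure_le _).2 fun x hx => (hmemK x).2
    ⟨hx.1.2.2.symm.mul_inv_cancel, hx.2.2.2.symm.mul_inv_cancel⟩
  set N := Subgroup.closure S with hN
  haveI hNn : (N.subgroupOf C).Normal := ⟨fun x hx g => by
    rw [Subgroup.mem_subgroupOf] at hx ⊢
    rw [Subgroup.coe_mul, Subgroup.coe_mul, Subgroup.coe_inv]
    have hle : N.map (MulAut.conj (g : G)).toMonoidHom ≤ N := by
      rw [hN, MonoidHom.map_closure, Subgroup.closure_le]
      rintro _ ⟨y, hy, rfl⟩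
      refine Subgroup.subset_closure ?_
      have k1 := ThreeTransp.Cover.conj_nb hD (g : G) hy.1
      have k2 := ThreeTransp.Cover.conj_nb hD (g : G) hy.2
      rcases hact g g.2 with ⟨e1, e2⟩ | ⟨e1, e2⟩ <;> rw [e1] at k1 <;> rw [e2] at k2
      exacts [⟨k1, k2⟩, ⟨k2, k1⟩]
    exact hle ⟨_, hx, rfl⟩⟩
  obtain ⟨x₁, y₁, -, -, hx₁, hy₁, -, -, hn1, -, -, -, -, -⟩ :=
    ThreeTransp.M22.exists_frame_lines hD hprim h22 h₁ hb
  have hNE : ¬ N ≤ R := by
    intro hle
    have hmem : x₁ * y₁ ∈ R := hle (mul_mem (Subgroup.subset_closure hx₁) (Subgroup.subset_closure hy₁))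
    obtain ⟨k, hk⟩ := ThreeTransp.M22.radical_isPGroup hD hprim h22 h₁ hb ⟨_, hmem⟩
    have h3 := ThreeTransp.Basic.orderOf_eq_three hD.1 hx₁.1.1 hy₁.1.1 hn1
    have hdvd : orderOf (x₁ * y₁) ∣ 2 ^ k := orderOf_dvd_of_pow_eq_one (congrArg Subtype.val hk)
    rw [h3] at hdvd
    exact absurd (Nat.prime_three.dvd_of_dvd_pow hdvd) (by norm_num)
  haveI : (K.subgroupOf C).Normal := Subgroup.normal_of_index_eq_two hidx
  have hKΩ : (K.subgroupOf C).map π = Ω := by
    haveI : ((K.subgroupOf C).map π).Normal := Subgroup.Normal.map inferInstance π hπs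
    refine (Subgroup.eq_of_le_of_card_ge (omega_le_of_normal ?_) (le_of_eq ?_)).symm
    · intro h
      rw [Subgroup.map_eq_bot_iff] at h
      exact hNE fun x hx => (hker ⟨x, hKC (hSK hx)⟩).1 (h (Subgroup.mem_subgroupOf.2 (hSK hx)))
    · have hi := Subgroup.index_map_eq (K.subgroupOf C) hπs (fun x hx =>
        Subgroup.mem_subgroupOf.2 (hEK ((hker x).1 hx)))
      replace hi : _ = Ω.index := hi.trans (hidx.trans SuzukiType.omega_index.symm)
      have h1 := Ω.card_mul_index
      have h2 := ((K.subgroupOf C).map π).card_mul_index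
      rw [hi, ← h1] at h2
      exact Nat.eq_of_mul_eq_mul_right (by rw [SuzukiType.omega_index]; norm_num) h2
  have hgen : ∀ k ∈ K, ∃ n ∈ N, ∃ r ∈ R, k = n * r := by
    intro k hk
    haveI : ((N.subgroupOf C).map π).Normal := hNn.map π hπs
    have hΩN : Ω ≤ (N.subgroupOf C).map π := omega_le_of_normal fun h => by
      rw [Subgroup.map_eq_bot_iff] at h
      exact hNE fun x hx => (hker ⟨x, hKC (hSK hx)⟩).1 (h (Subgroup.mem_subgroupOf.2 hx))
    obtain ⟨n, hn, he⟩ := hΩN (hKΩ.le (⟨⟨k, hKC hk⟩, Subgroup.mem_subgroupOf.2 hk, rfl⟩ :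
      π ⟨k, hKC hk⟩ ∈ (K.subgroupOf C).map π))
    refine ⟨n, hn, (n : G)⁻¹ * k, ?_, by group⟩
    exact (hker (n⁻¹ * ⟨k, hKC hk⟩)).1 (by rw [map_mul, map_inv, he, inv_mul_cancel])
  -- the centre of the radical
  have hcenter : ∀ e ∈ R, (∀ f ∈ R, Commute e f) → e ∈ Subgroup.closure ({d₁, d₂} : Set G) := by
    intro e he hcf
    rw [← hZK]
    refine ⟨⟨e, hEK he⟩, Subgroup.mem_center_iff.2 fun k => Subtype.ext ?_, rfl⟩
    obtain ⟨n, hn, r, hr, hk⟩ := hgen k k.2
    have hen : Commute e n := by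
      clear hk
      induction hn using Subgroup.closure_induction with
      | mem y hy => exact ThreeTransp.M22.radical_center hD hprim h22 h₁ hb he hcf hy
      | one => exact Commute.one_right e
      | mul p q _ _ hp hq => exact hp.mul_right hq
      | inv p _ hp => exact hp.inv_right
    show (k : G) * e = e * k
    rw [hk]
    exact ((hen.mul_right (hcf r hr)).eq).symm
  -- the generalised Fitting subgroup
  have hcentE : Subgroup.centralizer ((R.subgroupOf C : Subgroup ↥C) : Set ↥C) ≤ R.subgroupOf C := by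
    set Z := Subgroup.centralizer ((R.subgroupOf C : Subgroup ↥C) : Set ↥C) with hZ
    haveI : (Z.map π).Normal := Subgroup.Normal.map inferInstance π hπs
    intro z hz
    rw [Subgroup.mem_subgroupOf, ← hker]
    by_contra hz1
    have hle : Ω ≤ Z.map π := omega_le_of_normal fun h => hz1 (by
      have : π z ∈ Z.map π := ⟨z, hz, rfl⟩
      rwa [h, Subgroup.mem_bot] at this)
    have hRV : R ≤ Subgroup.closure ({d₁, d₂} : Set G) := by
      intro e he
      rw [← hZK]
      refine ⟨⟨e, hEK he⟩, Subgroup.mem_center_iff.2 fun k => Subtype.ext ?_, rfl⟩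
      have hy : ∀ y ∈ S, Commute e y := by
        intro y hy
        have hyK := hSK (Subgroup.subset_closure hy)
        obtain ⟨w, hw, hwe⟩ := hle (hKΩ.le (⟨⟨y, hKC hyK⟩, Subgroup.mem_subgroupOf.2 hyK, rfl⟩ :
          π ⟨y, hKC hyK⟩ ∈ (K.subgroupOf C).map π))
        obtain ⟨r, hr, hyr⟩ : ∃ r ∈ R, y = (w : G) * r := ⟨(w : G)⁻¹ * y,
          (hker (w⁻¹ * ⟨y, hKC hyK⟩)).1 (by rw [map_mul, map_inv, hwe, inv_mul_cancel]), by group⟩
        have hew : Commute e w := congrArg Subtype.val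
          (Subgroup.mem_centralizer_iff.1 hw ⟨e, hEC he⟩ (Subgroup.mem_subgroupOf.2 he))
        have hz' := ThreeTransp.M22.radical_comm hD hprim h22 h₁ hb he hr
        rw [← ThreeTransp.M22.conj_eq_self_iff]
        set c := e * r * e⁻¹ * r⁻¹ with hc'
        obtain ⟨i, hi⟩ := Subgroup.mem_zpowers_iff.1 hz'
        have hcr : e * r * e⁻¹ = r * c := by
          have hcom : Commute r c := by
            rw [← hi]
            exact (((hmemK r).1 (hEK hr)).1 |> ThreeTransp.M22.conj_eq_self_iff.1).mul_right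
              (((hmemK r).1 (hEK hr)).2 |> ThreeTransp.M22.conj_eq_self_iff.1) |>.zpow_right i
          rw [hcom.eq, hc']; group
        have he' : e * y * e⁻¹ = y * c := by
          rw [hyr, show e * ((w : G) * r) * e⁻¹ = e * w * e⁻¹ * (e * r * e⁻¹) by group,
            hew.mul_inv_cancel, hcr, mul_assoc]
        rcases Int.even_or_odd i with ⟨j, rfl⟩ | ⟨j, rfl⟩
        · rw [he', ← hi, ← two_mul, _root_.zpow_mul, _root_.zpow_two,
            ThreeTransp.M22.pair_sq hD hprim h22 h₁ hb, _root_.one_zpow, mul_one]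
        · exfalso
          have h13 : 3 = 1 := ThreeTransp.M22.prod_number hD hprim h22 (m := 3) (m' := 1)
            (x := e * y * e⁻¹) (by norm_num) le_rfl le_rfl (by norm_num)
            ⟨[y, d₁, d₂], by simp [hy.1.2.1, hy.2.2.1, hne], rfl,
              by simp [hy.1.1, h₁, h₂],
              by
                have k1 : Commute y d₁ := hy.1.2.2.symm
                have k2 : Commute y d₂ := hy.2.2.2.symm
                simp [k1, k2, k1.symm, k2.symm, hc, hc.symm],
              by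
                rw [he', ← hi, _root_.zpow_add, _root_.zpow_mul, _root_.zpow_two,
                  ThreeTransp.M22.pair_sq hD hprim h22 h₁ hb, _root_.one_zpow, one_mul,
                  _root_.zpow_one]
                simp⟩
            ⟨[e * y * e⁻¹], by simp, rfl, by simpa using hD.2.1 e y hy.1.1, by simp, by simp⟩
          omega
      obtain ⟨n, hn, r, hr, hk⟩ := hgen k k.2
      have hen : Commute e n := by
        clear hk
        induction hn using Subgroup.closure_induction with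
        | mem y hy' => exact hy y hy'
        | one => exact Commute.one_right e
        | mul p q _ _ hp hq => exact hp.mul_right hq
        | inv p _ hp => exact hp.inv_right
      have her : Commute e r := by
        clear hk
        induction hr using Subgroup.closure_induction with
        | mem t ht =>
          rcases ht with ⟨p, hp, q, hq, rfl⟩ | rfl | rfl
          · exact (hy p hp).mul_right (hy q (ThreeTransp.M22.cl_sub hD hprim h22 h₁ hb hp hq))
          · exact ThreeTransp.M22.conj_eq_self_iff.1 ((hmemK e).1 (hEK he)).1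
          · exact ThreeTransp.M22.conj_eq_self_iff.1 ((hmemK e).1 (hEK he)).2
        | one => exact Commute.one_right e
        | mul p q _ _ hp hq => exact hp.mul_right hq
        | inv p _ hp => exact hp.inv_right
      show (k : G) * e = e * k
      rw [hk]
      exact ((hen.mul_right her).eq).symm
    obtain ⟨M, hM, -, -, -, u, hu, w, hw, huw⟩ := ThreeTransp.M22.exists_half hD hprim h22 h₁ hb
    refine huw ?_
    have hVc : ∀ v ∈ Subgroup.closure ({d₁, d₂} : Set G), ∀ k ∈ K, Commute k v := by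
      intro v hv k hk
      rw [← hZK] at hv
      obtain ⟨v', hv', rfl⟩ := hv
      exact congrArg Subtype.val (Subgroup.mem_center_iff.1 hv' ⟨k, hk⟩)
    exact hVc w (hRV (hM hw)) u (hEK (hM hu))
  have hpcore : Cfsg.pCore 2 ↥C = R.subgroupOf C := by
    refine le_antisymm (fun x hx => Subgroup.mem_subgroupOf.2 ?_) ?_
    · exact hpimage _ (Cores.pCore_normal 2) (Cores.pCore_isPGroup 2) x hx
    · exact Cores.le_pCore ((ThreeTransp.M22.radical_isPGroup hD hprim h22 h₁ hb).of_equiv
        (Subgroup.subgroupOfEquivOfLe (hRK.trans hKC)).symm)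
  have hGF : Cfsg.generalizedFittingSubgroup ↥C = R.subgroupOf C := by
    rw [← hpcore]
    exact CharP.genFitting_eq_pCore_iff.2 (by rw [hpcore]; exact hcentE)
  obtain ⟨M, hMR, hMc, haM, habM, u, hu, w, hw, huw⟩ :=
    ThreeTransp.M22.exists_half hD hprim h22 h₁ hb
  refine ⟨?_, ⟨(QuotientGroup.quotientMulEquivOfEq hGF).trans
    (ψ.trans (MulEquiv.subgroupCongr hOO))⟩⟩
  have hzc : ∀ g ∈ R, Commute g d₁ ∧ Commute g d₂ := fun g hg =>
    ⟨ThreeTransp.M22.conj_eq_self_iff.1 ((hmemK g).1 (hEK hg)).1,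
      ThreeTransp.M22.conj_eq_self_iff.1 ((hmemK g).1 (hEK hg)).2⟩
  have hd1R : d₁ ∈ R := Subgroup.subset_closure (by simp)
  have hd1d1 := ThreeTransp.Classes.sq hD h₁
  set f : Multiplicative (ZMod 2) → G := fun t => d₁ ^ (Multiplicative.toAdd t).val with hf
  have hfR : ∀ t, f t ∈ R := fun t => pow_mem hd1R _
  have hfmul : ∀ s t, f (s * t) = f s * f t := by
    intro s t
    show d₁ ^ ((Multiplicative.toAdd s + Multiplicative.toAdd t : ZMod 2)).val = _
    rw [ZMod.val_add, ← pow_add]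
    exact (pow_eq_pow_mod _ (by rw [pow_two, hd1d1])).symm
  let Φ : Multiplicative (ZMod 2) × ↥M →* ↥R :=
    { toFun := fun p => ⟨f p.1 * p.2, mul_mem (hfR _) (hMR p.2.2)⟩
      map_one' := Subtype.ext (by simp [f])
      map_mul' := fun p q => Subtype.ext (by
        show f (p.1 * q.1) * ((p.2 : G) * q.2) = f p.1 * p.2 * (f q.1 * q.2)
        rw [hfmul, mul_assoc, mul_assoc, ← mul_assoc (f q.1), ← mul_assoc (p.2 : G),
          (((hzc _ (hMR p.2.2)).1.pow_right _).eq : (p.2 : G) * f q.1 = f q.1 * p.2)]) }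
  have hΦ : Function.Bijective Φ := by
    refine (Nat.bijective_iff_injective_and_card Φ).2 ⟨?_, ?_⟩
    · rw [injective_iff_map_eq_one]
      rintro ⟨t, m⟩ h
      have h' : f t * (m : G) = 1 := congrArg Subtype.val h
      have ht : t = 1 := by
        by_contra ht
        have hv : (Multiplicative.toAdd t).val = 1 := by
          have key : ∀ x : ZMod 2, x ≠ 0 → x.val = 1 := fun x hx => by
            fin_cases x <;> first | rfl | exact absurd rfl hx
          exact key _ fun e => ht (Multiplicative.toAdd.injective e)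
        have : f t = d₁ := by simp [f, hv]
        rw [this] at h'
        exact haM (by rw [eq_inv_of_mul_eq_one_left h']; exact inv_mem m.2)
      subst ht
      have : f 1 = 1 := by simp [f]
      rw [this, one_mul] at h'
      exact Prod.ext rfl (Subtype.ext h')
    · rw [Nat.card_prod, hMc, hEcard, Nat.card_congr Multiplicative.toAdd, Nat.card_zmod]
      norm_num
  -- `M` is extraspecial
  set j : ↥M := ⟨d₁ * d₂, habM⟩ with hj
  have hjne : d₁ * d₂ ≠ 1 := ThreeTransp.M22.mul_pair_ne_one hD hprim h22 h₁ hb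
  have hjj : d₁ * d₂ * (d₁ * d₂) = 1 := ThreeTransp.M22.pair_sq hD hprim h22 h₁ hb
  have hjord : orderOf j = 2 := by
    rw [← Subgroup.orderOf_coe]
    exact orderOf_eq_prime (by rw [pow_two]; exact hjj) hjne
  have hMP : IsPGroup 2 ↥M := (ThreeTransp.M22.radical_isPGroup hD hprim h22 h₁ hb).to_le hMR
  have hcent : Subgroup.center ↥M = Subgroup.zpowers j := by
    refine le_antisymm (fun m hm => ?_) (Subgroup.zpowers_le.2 (Subgroup.mem_center_iff.2 fun x =>
      Subtype.ext ((hzc _ (hMR x.2)).1.mul_right (hzc _ (hMR x.2)).2).eq))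
    have hmV : (m : G) ∈ Subgroup.closure ({d₁, d₂} : Set G) := by
      refine hcenter m (hMR m.2) fun g hg => ?_
      obtain ⟨⟨t, m'⟩, hp⟩ := hΦ.2 ⟨g, hg⟩
      have he : f t * (m' : G) = g := congrArg Subtype.val hp
      rw [← he]
      exact ((hzc _ (hMR m.2)).1.pow_right _).mul_right
        (congrArg Subtype.val (Subgroup.mem_center_iff.1 hm m')).symm
    have hV4 : ∀ v ∈ Subgroup.closure ({d₁, d₂} : Set G),
        v = 1 ∨ v = d₁ ∨ v = d₂ ∨ v = d₁ * d₂ := by
      intro v hv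
      have hsub := ThreeTransp.Basic.closure_subset_of_left_stable (T := ({d₁, d₂} : Set G))
        (S := ({1, d₁, d₂, d₁ * d₂} : Set G)) (by
          rintro t (rfl | rfl)
          exacts [hd1d1, ThreeTransp.Classes.sq hD h₂]) (by simp) (by
          rintro t (h | h) s (k | k | k | k) <;> rw [h, k]
          · simp
          · simp [hd1d1]
          · simp
          · simp [← mul_assoc, hd1d1]
          · simp
          · simp [hc.eq]
          · simp [ThreeTransp.Classes.sq hD h₂]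
          · rw [hc.eq, ← mul_assoc, ThreeTransp.Classes.sq hD h₂, one_mul]
            simp) hv
      simpa using hsub
    rcases hV4 _ hmV with e | e | e | e
    · exact (show m = 1 from Subtype.ext e) ▸ one_mem _
    · exact absurd (e ▸ m.2) haM
    · refine absurd ?_ haM
      have : d₁ = d₁ * d₂ * d₂ := by rw [mul_assoc, ThreeTransp.Classes.sq hD h₂, mul_one]
      rw [this]
      exact mul_mem habM (e ▸ m.2)
    · exact (show m = j from Subtype.ext e) ▸ Subgroup.mem_zpowers _
  have hlift : ∀ {g : G} (hg : g ∈ M), g ∈ Subgroup.zpowers (d₁ * d₂) →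
      (⟨g, hg⟩ : ↥M) ∈ Subgroup.zpowers j := by
    intro g hg h
    obtain ⟨i, hi⟩ := Subgroup.mem_zpowers_iff.1 h
    exact ⟨i, Subtype.ext (by simpa [hj] using hi)⟩
  have hcomm : commutator ↥M = Subgroup.zpowers j := by
    refine le_antisymm ?_ (Subgroup.zpowers_le.2 ?_)
    · rw [commutator_def, Subgroup.commutator_le]
      intro p _ q _
      rw [commutatorElement_def]
      exact hlift (mul_mem (mul_mem (mul_mem p.2 q.2) (inv_mem p.2)) (inv_mem q.2))
        (ThreeTransp.M22.radical_comm hD hprim h22 h₁ hb (hMR p.2) (hMR q.2))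
    · have hm : (⟨u * w * u⁻¹ * w⁻¹, mul_mem (mul_mem (mul_mem hu hw) (inv_mem hu)) (inv_mem hw)⟩ :
          ↥M) = j := by
        refine Subtype.ext ?_
        obtain ⟨i, hi⟩ := Subgroup.mem_zpowers_iff.1
          (ThreeTransp.M22.radical_comm hD hprim h22 h₁ hb (hMR hu) (hMR hw))
        rcases Int.even_or_odd i with ⟨k, rfl⟩ | ⟨k, rfl⟩
        · exfalso
          rw [← two_mul, _root_.zpow_mul, _root_.zpow_two, hjj, _root_.one_zpow, eq_comm,
            mul_inv_eq_one, mul_inv_eq_iff_eq_mul] at hi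
          exact huw hi
        · rw [_root_.zpow_add, _root_.zpow_mul, _root_.zpow_two, hjj, _root_.one_zpow, one_mul,
            _root_.zpow_one] at hi
          exact hi.symm
      rw [← hm]
      exact Subgroup.commutator_mem_commutator (Subgroup.mem_top (⟨u, hu⟩ : ↥M))
        (Subgroup.mem_top (⟨w, hw⟩ : ↥M))
  have hfrat : frattini ↥M = Subgroup.zpowers j := by
    haveI := hMP.isNilpotent
    refine le_antisymm ?_ (hcomm ▸ Coprime.commutator_le_frattini ↥M)
    rw [← hcent]
    have h := CharP.frattini_le_ker (p := 2) (QuotientGroup.mk' (Subgroup.center ↥M)) (fun p q => by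
      show (p : ↥M ⧸ Subgroup.center ↥M) * q = q * p
      rw [← QuotientGroup.mk_mul, ← QuotientGroup.mk_mul, QuotientGroup.eq]
      have h0 : (p * q)⁻¹ * (q * p) ∈ commutator ↥M := by
        rw [show (p * q)⁻¹ * (q * p) = q⁻¹ * p⁻¹ * q⁻¹⁻¹ * p⁻¹⁻¹ by group, ← commutatorElement_def]
        exact Subgroup.commutator_mem_commutator (Subgroup.mem_top _) (Subgroup.mem_top _)
      rwa [hcomm, ← hcent] at h0) (fun p => by
      rw [QuotientGroup.mk'_apply, ← QuotientGroup.mk_pow, QuotientGroup.eq_one_iff, hcent, pow_two]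
      exact hlift (mul_mem p.2 p.2)
        (ThreeTransp.M22.radical_sq hD hprim h22 h₁ hb (hMR p.2)))
    rwa [QuotientGroup.ker_mk'] at h
  let μ : Shrink.{0} ↥M ≃* ↥M := Shrink.mulEquiv
  refine ⟨Shrink.{0} ↥M, inferInstance, inferInstance, LargeExtra.isExtraspecial_of_equiv
    ⟨⟨hMP, hfrat.trans hcent.symm, hcomm.trans hcent.symm⟩,
      by rw [hcent, Nat.card_zpowers, hjord]⟩ μ.symm, ?_, ?_⟩
  · rw [Nat.card_congr μ.toEquiv, hMc]
  · exact ⟨(MulEquiv.subgroupCongr hGF).trans ((Subgroup.subgroupOfEquivOfLe (hRK.trans hKC)).trans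
      ((MulEquiv.ofBijective Φ hΦ).symm.trans (MulEquiv.prodCongr (MulEquiv.refl _) μ.symm)))⟩

end Cfsg.Agent.S5519
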