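import Cfsg.Statements.S5521
import Cfsg.Agent.Lib.Golay.Trans

set_option autoImplicit false
open Cfsg

namespace Cfsg.Agent.S5521

open Cfsg Cfsg.Agent.Golay.Basic Cfsg.Agent.Golay.Perm Cfsg.Agent.Golay.M24 Cfsg.Agent.Golay.Trans in
theorem exists_ne_one (B : Finset GolayPt) (h : B.card ≤ 6) :
    ∃ g ∈ M24, g ≠ 1 ∧ ∀ b ∈ B, g b = b := by
  classical
  obtain ⟨t, ht, -, ht6⟩ := Finset.exists_subsuperset_card_eq (Finset.subset_univ B) h
    (show 6 ≤ (Finset.univ : Finset GolayPt).card by decide)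
  obtain ⟨b, l, hl, hnd⟩ : ∃ b l, t.toList = b :: l ∧ t.toList.Nodup := by
    have hlen : t.toList.length = 6 := by rw [Finset.length_toList, ht6]
    cases hE : t.toList with
    | nil => rw [hE] at hlen; simp at hlen
    | cons b l => exact ⟨b, l, rfl, hE ▸ t.nodup_toList⟩
  have hl5 : l.length = 5 := by
    have := congrArg List.length hl
    rw [Finset.length_toList, ht6] at this
    simp only [List.length_cons] at this; omega
  rw [hl] at hnd
  have h48 : Nat.card (fixers M24 l) = 48 := by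
    rw [card_fixers (List.nodup_cons.1 hnd).2 hl5.le, hl5]; rfl
  let O : Finset GolayPt := Finset.univ.filter fun x => ∃ g ∈ fixers M24 l, g b = x
  have hstep := card_fixers_step M24 l b O
    (fun g hg => Finset.mem_filter.2 ⟨Finset.mem_univ _, g, hg, rfl⟩)
    (fun x hx => (Finset.mem_filter.1 hx).2)
  have hO : O.card ≤ 24 := le_of_le_of_eq (Finset.card_le_univ O) (by decide)
  rw [h48] at hstep
  have hne : fixers M24 (b :: l) ≠ ⊥ := by
    intro e
    rw [e, Subgroup.card_bot] at hstep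
    omega
  obtain ⟨g, hg, hg1⟩ : ∃ g ∈ fixers M24 (b :: l), g ≠ 1 := by
    by_contra hcon
    refine hne (eq_bot_iff.2 fun g hg => ?_)
    by_contra hg1
    exact hcon ⟨g, hg, fun e => hg1 (Subgroup.mem_bot.2 e)⟩
  exact ⟨g, hg.1, hg1, fun x hx => hg.2 x (hl ▸ Finset.mem_toList.2 (ht hx))⟩

open Cfsg Cfsg.Agent.Golay.Basic Cfsg.Agent.Golay.Perm Cfsg.Agent.Golay.M24 in
theorem exists_base : ∃ B : Finset GolayPt, B.card = 7 ∧
    ∀ g ∈ M24, (∀ b ∈ B, g b = b) → g = 1 := by
  refine ⟨(basePre 7).toFinset, by decide +kernel, fun g hg h => ?_⟩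
  have : g ∈ fixers M24 (basePre 7) := ⟨hg, fun x hx => h x (List.mem_toFinset.2 hx)⟩
  rwa [fixers_seven, Subgroup.mem_bot] at this

/-- The Mathieu group M₂₄ in its natural action on the 24 coordinate positions of the binary Golay code has minimal base size exactly 7: every set of at most 6 positions is fixed pointwise by some non-identity element of M₂₄, while some set of 7 positions is fixed pointwise only by the identity. -/
theorem result :
    (∀ B : Finset Cfsg.GolayPt, B.card ≤ 6 → ∃ g ∈ Cfsg.M24, g ≠ 1 ∧ ∀ b ∈ B, g b = b) ∧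
    (∃ B : Finset Cfsg.GolayPt, B.card = 7 ∧ ∀ g ∈ Cfsg.M24, (∀ b ∈ B, g b = b) → g = 1) := by
  exact ⟨exists_ne_one, exists_base⟩

end Cfsg.Agent.S5521
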