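import Cfsg.Statements.S5522
import Cfsg.Agent.Lib.M24Module.FixCount
import Cfsg.Agent.Lib.Golay.Small

set_option autoImplicit false
open Cfsg

namespace Cfsg.Agent.S5522

open Cfsg.Agent.Golay.Basic Cfsg.Agent.Golay.Design Cfsg.Agent.Golay.Perm Cfsg.Agent.Golay.M24 Cfsg.Agent.Golay.Trans Cfsg.Agent.Golay.Small Cfsg.Agent.M24Module.FixCount
open scoped Pointwise

theorem square_mem : Cfsg.Spor.squareDodecad ∈ Cfsg.dodecads :=
  mem_dodecads_iff.2 (by decide +kernel)

theorem fix_five {d : Finset Cfsg.GolayPt} (hd : d ∈ Cfsg.dodecads) {g : Equiv.Perm Cfsg.GolayPt}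
    (hg : g ∈ Cfsg.M24) (hgd : g • d = d) (hF : 5 ≤ (fixSet g).card) (hsub : fixSet g ⊆ d) : g = 1 := by
  classical
  obtain ⟨a, ha, had⟩ := dodecads_transitive hd baseDodecad_mem
  obtain ⟨t, ht, ht5⟩ := Finset.exists_subset_card_eq hF
  have hnd : (t.toList.map a).Nodup := t.nodup_toList.map a.injective
  obtain ⟨b, hb, hbt⟩ := M12K_exists_tuple (t.toList.map a) (by simp [ht5]) hnd (by
    intro x hx
    obtain ⟨y, hy, rfl⟩ := List.mem_map.1 hx
    rw [show d0 = a • d from had.symm]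
    exact (mem_smul_iff a d y).2 (hsub (ht (Finset.mem_toList.1 hy))))
  have hK : b⁻¹ * a * g * (b⁻¹ * a)⁻¹ ∈ M12K := by
    have h1 : a * g * a⁻¹ ∈ M12K := by
      refine mem_M12K.2 ⟨Cfsg.M24.mul_mem (Cfsg.M24.mul_mem ha hg) (Cfsg.M24.inv_mem ha), ?_⟩
      rw [show d0 = a • d from had.symm, mul_smul, mul_smul, inv_smul_smul, hgd]
    have := M12K.mul_mem (M12K.mul_mem (M12K.inv_mem hb) h1) hb
    rwa [show b⁻¹ * a * g * (b⁻¹ * a)⁻¹ = b⁻¹ * (a * g * a⁻¹) * b by group]
  have h1 := five_fix_d0 hK fun x hx => by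
    have hx' : ∃ y ∈ t, b x = a y := by
      have hlen : (t.toList.map a).length = 5 := by simp [ht5]
      obtain ⟨j, hj, rfl⟩ := mem_basePre hx
      have hmem : b (base j) ∈ t.toList.map a := by
        rw [← hbt, hlen]
        have hbj : ∀ j < 5, ∃ i ∈ [0, 1, 2, 3, 4], base j = pt i := by decide +kernel
        obtain ⟨i, hi, ei⟩ := hbj j hj
        exact List.mem_map.2 ⟨i, hi, by rw [ei]⟩
      obtain ⟨y, hy, e⟩ := List.mem_map.1 hmem
      exact ⟨y, Finset.mem_toList.1 hy, e.symm⟩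
    obtain ⟨y, hy, e⟩ := hx'
    have e1 : (b⁻¹ * a)⁻¹ x = y := by simp [e]
    rw [Equiv.Perm.mul_apply, Equiv.Perm.mul_apply (b⁻¹ * a) g, e1, mem_fixSet.1 (ht hy)]
    simp [← e]
  rwa [conj_eq_one_iff] at h1

theorem exists_fix_of_dvd (s : Finset Cfsg.GolayPt) {g : Equiv.Perm Cfsg.GolayPt} {p : ℕ}
    [hp : Fact p.Prime] (hord : orderOf g = p) (hs : ∀ x, g x ∈ s ↔ x ∈ s) (hc : ¬ p ∣ s.card) :
    ∃ x ∈ s, g x = x := by
  have hc' : ¬ p ∣ Fintype.card s := by rw [Fintype.card_coe]; exact hc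
  have hpow : g.subtypePerm hs ^ p ^ 1 = 1 := by
    refine Equiv.ext fun x => Subtype.ext ?_
    rw [pow_one, Equiv.Perm.subtypePerm_pow, ← hord]
    simp [pow_orderOf_eq_one]
  obtain ⟨x, hx⟩ := Equiv.Perm.exists_fixed_point_of_prime hc' hpow
  exact ⟨x, x.2, congrArg Subtype.val hx⟩

/-- The Mathieu group M₁₁, realised as the stabiliser of one point of the dodecad of squares inside the stabiliser M₁₂ of that dodecad in M₂₄, acts on the twelve coordinate positions outside the dodecad of squares (its 3-transitive action of degree 12); in this action every element of prime order fixes a point, i.e. the action is elusive. -/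
theorem result (g : Equiv.Perm Cfsg.GolayPt) (hg : g ∈ Cfsg.Spor.M11) (hord : (orderOf g).Prime) :
    ∃ x : Cfsg.GolayPt, x ∉ Cfsg.Spor.squareDodecad ∧ g x = x := by
  classical
  have hd := square_mem
  have hgd : g • Cfsg.Spor.squareDodecad = Cfsg.Spor.squareDodecad := hg.1.2
  have hgM : g ∈ Cfsg.M24 := hg.1.1
  have h0 : (some 0 : Cfsg.GolayPt) ∈ fixSet g := mem_fixSet.2 hg.2
  haveI := Fact.mk hord
  by_contra hno
  have hsub : fixSet g ⊆ Cfsg.Spor.squareDodecad := fun x hx => by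
    by_contra hxd
    exact hno ⟨x, hxd, mem_fixSet.1 hx⟩
  have hinv : ∀ x, g x ∈ Cfsg.Spor.squareDodecadᶜ ↔ x ∈ Cfsg.Spor.squareDodecadᶜ := fun x => by
    rw [Finset.mem_compl, Finset.mem_compl]
    conv_lhs => rw [← hgd, mem_smul_iff]
  have hdvd : orderOf g ∣ 12 := by
    by_contra hnd
    obtain ⟨x, hx, hgx⟩ := exists_fix_of_dvd Cfsg.Spor.squareDodecadᶜ rfl hinv
      (by rw [Finset.card_compl, hd.2]; exact hnd)
    exact hno ⟨x, Finset.mem_compl.1 hx, hgx⟩
  have hne : g ≠ 1 := fun e => by rw [e, orderOf_one] at hord; exact Nat.not_prime_one hord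
  have hle : orderOf g ≤ 12 := Nat.le_of_dvd (by norm_num) hdvd
  have h5 : 5 ≤ (fixSet g).card := by
    interval_cases h : orderOf g <;> first | (norm_num at hord; done) | (norm_num at hdvd; done) | skip
    · rcases two_fix hgM h with e | e
      · rw [e.2]; norm_num
      · rw [e] at h0; exact absurd h0 (Finset.notMem_empty _)
    · rcases three_fix hgM h with e | e
      · omega
      · rw [Finset.card_eq_zero.1 e] at h0; exact absurd h0 (Finset.notMem_empty _)
  exact hne (fix_five hd hgM hgd h5 hsub)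

end Cfsg.Agent.S5522
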