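import Cfsg.Statements.S5529
import Cfsg.Agent.Lib.M23Gen.Use

set_option autoImplicit false
open Cfsg

namespace Cfsg.Agent.S5529

open Cfsg Cfsg.Agent.Golay.Basic Cfsg.Agent.Golay.Cert Cfsg.Agent.M23Gen

theorem prime_factor {r : ℕ} (hr : r.Prime) (h : r ∣ 10200960) :
    r = 2 ∨ r = 3 ∨ r = 5 ∨ r = 7 ∨ r = 11 ∨ r = 23 := by
  rw [show 10200960 = 2 ^ 7 * 3 ^ 2 * 5 * 7 * 11 * 23 from by norm_num] at h
  have e : ∀ {a : ℕ}, a.Prime → r ∣ a → r = a := fun ha hd =>
    (Nat.prime_dvd_prime_iff_eq hr ha).1 hd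
  rcases (Nat.Prime.dvd_mul hr).1 h with h | h
  rotate_left
  · exact Or.inr (Or.inr (Or.inr (Or.inr (Or.inr (e (by norm_num) h)))))
  rcases (Nat.Prime.dvd_mul hr).1 h with h | h
  rotate_left
  · exact Or.inr (Or.inr (Or.inr (Or.inr (Or.inl (e (by norm_num) h)))))
  rcases (Nat.Prime.dvd_mul hr).1 h with h | h
  rotate_left
  · exact Or.inr (Or.inr (Or.inr (Or.inl (e (by norm_num) h))))
  rcases (Nat.Prime.dvd_mul hr).1 h with h | h
  rotate_left
  · exact Or.inr (Or.inr (Or.inl (e (by norm_num) h)))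
  rcases (Nat.Prime.dvd_mul hr).1 h with h | h
  · exact Or.inl (e Nat.prime_two (hr.dvd_of_dvd_pow h))
  · exact Or.inr (Or.inl (e Nat.prime_three (hr.dvd_of_dvd_pow h)))

/-- The bound on the rank. -/
def bd : ℕ → ℕ
  | 2 => 8
  | 3 => 12
  | 5 => 16
  | 7 => 18
  | 11 => 20
  | _ => 22

theorem rank_le {g : Spor.M23} {p : ℕ} (hp : p.Prime) (hd : p ∣ 10200960) (hg : orderOf g = p) :
    Module.finrank ℚ (Scott.diff (g : Equiv.Perm GolayPt)) ≤ bd p := by
  haveI : Fact p.Prime := ⟨hp⟩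
  obtain ⟨h1, h2⟩ := Scott.rank_bound (σ := (g : Equiv.Perm GolayPt)) (p := p)
    (by rw [Subgroup.orderOf_coe]; exact hg)
  rw [show Fintype.card GolayPt = 24 by decide] at h1 h2
  have hpos : 1 ≤ (Finset.univ.filter fun a => (g : Equiv.Perm GolayPt) a = a).card :=
    Finset.card_pos.2 ⟨pt 23, Finset.mem_filter.2 ⟨Finset.mem_univ _, Use.fix23 g.2⟩⟩
  rcases prime_factor hp hd with rfl | rfl | rfl | rfl | rfl | rfl <;> simp only [bd]
  · have h3 : 8 ≤ (Finset.univ.filter fun a => (g : Equiv.Perm GolayPt) a = a).card := Use.fix_two hg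
    omega
  · have h3 : 6 ≤ (Finset.univ.filter fun a => (g : Equiv.Perm GolayPt) a = a).card := Use.fix_three hg
    omega
  all_goals omega

theorem sum_ge {x y z : Spor.M23} (hxyz : x * y * z = 1) (hgen : Subgroup.closure {x, y} = ⊤) :
    44 ≤ Module.finrank ℚ (Scott.diff (x : Equiv.Perm GolayPt)) +
      Module.finrank ℚ (Scott.diff (y : Equiv.Perm GolayPt)) +
      Module.finrank ℚ (Scott.diff (z : Equiv.Perm GolayPt)) := by
  have h := Scott.scott (x := (x : Equiv.Perm GolayPt)) (y := (y : Equiv.Perm GolayPt))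
    (z := (z : Equiv.Perm GolayPt)) (by rw [← Subgroup.coe_mul, ← Subgroup.coe_mul, hxyz]; rfl)
    (pt 23) (pt 22) (by decide +kernel) ?_
  · rw [show Fintype.card GolayPt = 24 by decide] at h
    omega
  intro a ha
  have hcl : Subgroup.closure ({(x : Equiv.Perm GolayPt), (y : Equiv.Perm GolayPt)} : Set _) =
      (Subgroup.closure {x, y}).map Spor.M23.subtype := by
    rw [MonoidHom.map_closure, Set.image_pair]
    rfl
  rw [hcl, hgen, ← MonoidHom.range_eq_map, Subgroup.range_subtype, ← Use.gens_eq]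
  obtain ⟨b, T, ws, rest, hch, hb, hT⟩ : ∃ b T ws rest, Data.chain = (b, T, ws) :: rest ∧ b = 22 ∧
      T = 8388607 := ⟨_, _, _, _, rfl, rfl, rfl⟩
  have hok := Use.chain_ok
  rw [hch] at hok
  have hat : a ∈ maskSet T := by
    rw [hT]
    revert a
    decide +kernel
  obtain ⟨g, hg, -, he⟩ := chain_trans Use.gens_ok (pre := []) (by simp) hok hat
  exact ⟨g, hg, hb ▸ he⟩

/-- Generation of the Mathieu group M₂₃ (the stabiliser of a point in the Mathieu group M₂₄ acting on 24 points) by triples of prime orders. Let p ≤ q ≤ r be primes dividing |M₂₃| = 10200960 = 2⁷·3²·5·7·11·23, not both p and q equal to 2. Then M₂₃ contains elements x, y, z of orders p, q, r with xyz = 1 and ⟨x, y⟩ = M₂₃ if and only if (p, q, r) is none of: (2, 3, r) for any r, (2, 5, 5), (2, 5, 7), (3, 3, 3), (3, 3, 5), (3, 3, 7). -/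
theorem result (p q r : ℕ) (hp : p.Prime) (hq : q.Prime)
    (hr : r.Prime) (hpq : p ≤ q) (hqr : q ≤ r) (hp2 : ¬ (p = 2 ∧ q = 2))
    (hdvd : p ∣ 10200960 ∧ q ∣ 10200960 ∧ r ∣ 10200960) :
    (∃ x y z : Cfsg.Spor.M23, orderOf x = p ∧ orderOf y = q ∧ orderOf z = r ∧ x * y * z = 1 ∧
        Subgroup.closure {x, y} = ⊤) ↔
      ¬ ((p = 2 ∧ q = 3) ∨ (p = 2 ∧ q = 5 ∧ r = 5) ∨ (p = 2 ∧ q = 5 ∧ r = 7) ∨ (p = 3 ∧ q = 3 ∧ r ≤ 7)) := by
  haveI : Fact p.Prime := ⟨hp⟩
  haveI : Fact q.Prime := ⟨hq⟩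
  haveI : Fact r.Prime := ⟨hr⟩
  obtain ⟨hdp, hdq, hdr⟩ := hdvd
  constructor
  · rintro ⟨x, y, z, hx, hy, hz, hxyz, hgen⟩ hex
    have h := sum_ge hxyz hgen
    have b1 := rank_le hp hdp hx
    have b2 := rank_le hq hdq hy
    have b3 := rank_le hr hdr hz
    rcases hex with ⟨rfl, rfl⟩ | ⟨rfl, rfl, rfl⟩ | ⟨rfl, rfl, rfl⟩ | ⟨rfl, rfl, hr7⟩
    · have : bd r ≤ 22 := by
        rcases prime_factor hr hdr with rfl | rfl | rfl | rfl | rfl | rfl <;> decide
      simp only [bd] at b1 b2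
      omega
    · simp only [bd] at b1 b2 b3
      omega
    · simp only [bd] at b1 b2 b3
      omega
    · have : bd r ≤ 18 := by
        rcases prime_factor hr hdr with rfl | rfl | rfl | rfl | rfl | rfl <;>
          first | decide | omega
      simp only [bd] at b1 b2
      omega
  · intro hne
    refine Use.exists_of_cert ?_
    rcases prime_factor hp hdp with rfl | rfl | rfl | rfl | rfl | rfl <;>
      rcases prime_factor hq hdq with rfl | rfl | rfl | rfl | rfl | rfl <;>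
      rcases prime_factor hr hdr with rfl | rfl | rfl | rfl | rfl | rfl <;>
      first
        | omega
        | decide +kernel

end Cfsg.Agent.S5529
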