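import Cfsg.Statements.S5541


set_option autoImplicit false
open Cfsg

namespace Cfsg.Agent.S5541

theorem inv_apply {H : Type*} [Group H] {U : Type*} [AddCommGroup U] [Module ℝ U]
    (ρ : Representation ℝ H U) (g : H) (u : U) : ρ g (ρ g⁻¹ u) = u := by
  rw [← Module.End.mul_apply, ← map_mul, mul_inv_cancel, map_one, Module.End.one_apply]

/-- Let ρ be a representation of a group H on a finite-dimensional real vector space U whose only ρ-invariant subspaces are the zero subspace and U, and suppose U carries a non-zero ρ-invariant symmetric bilinear form. Then the following are equivalent: (1) there is a non-zero ρ-equivariant commutative bilinear product on U of which every ρ-equivariant bilinear product is a scalar multiple; (2) there is a non-zero ρ-invariant trilinear form on U that is symmetric under all permutations of its arguments and of which every ρ-invariant trilinear form is a scalar multiple. -/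
theorem result {H : Type*} [Group H] {U : Type*} [AddCommGroup U] [Module ℝ U] [FiniteDimensional ℝ U] (ρ : Representation ℝ H U) (hirr : ∀ W : Submodule ℝ U, (∀ g : H, W.map (ρ g) ≤ W) → W = ⊥ ∨ W = ⊤) (B : LinearMap.BilinForm ℝ U) (hB0 : B ≠ 0) (hBs : ∀ u v, B u v = B v u) (hBi : ∀ (g : H) (u v : U), B (ρ g u) (ρ g v) = B u v) : (∃ m : U →ₗ[ℝ] U →ₗ[ℝ] U, m ≠ 0 ∧ (∀ u v, m u v = m v u) ∧ (∀ (g : H) (u v : U), m (ρ g u) (ρ g v) = ρ g (m u v)) ∧ ∀ m' : U →ₗ[ℝ] U →ₗ[ℝ] U, (∀ (g : H) (u v : U), m' (ρ g u) (ρ g v) = ρ g (m' u v)) → ∃ c : ℝ, m' = c • m) ↔ (∃ t : U →ₗ[ℝ] U →ₗ[ℝ] U →ₗ[ℝ] ℝ, t ≠ 0 ∧ (∀ u v w, t u v w = t v u w ∧ t u v w = t u w v) ∧ (∀ (g : H) (u v w : U), t (ρ g u) (ρ g v) (ρ g w) = t u v w) ∧ ∀ t' : U →ₗ[ℝ] U →ₗ[ℝ] U →ₗ[ℝ] ℝ, (∀ (g : H) (u v w : U), t' (ρ g u) (ρ g v) (ρ g w) = t' u v w) → ∃ c : ℝ, t' = c • t) := by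
  have hker : LinearMap.ker B = ⊥ := by
    refine (hirr (LinearMap.ker B) fun g => ?_).resolve_right fun h => hB0 (LinearMap.ker_eq_top.1 h)
    rintro _ ⟨u, hu, rfl⟩
    rw [SetLike.mem_coe, LinearMap.mem_ker] at hu
    rw [LinearMap.mem_ker]
    ext v
    rw [← inv_apply ρ g v, hBi, hu]; simp
  have hinjB : Function.Injective B := LinearMap.ker_eq_bot.1 hker
  have hext : ∀ a b : U, (∀ w, B a w = B b w) → a = b := fun a b h =>
    hinjB (LinearMap.ext h)
  let Be : U ≃ₗ[ℝ] (U →ₗ[ℝ] ℝ) :=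
    LinearEquiv.ofInjectiveOfFinrankEq B hinjB Subspace.dual_finrank_eq.symm
  have hBe : ∀ f w, B (Be.symm f) w = f w := fun f w => by
    have : Be (Be.symm f) = f := Be.apply_symm_apply f
    exact LinearMap.congr_fun this w
  let T : (U →ₗ[ℝ] U →ₗ[ℝ] U) → (U →ₗ[ℝ] U →ₗ[ℝ] U →ₗ[ℝ] ℝ) := fun m => m.compr₂ B
  let S : (U →ₗ[ℝ] U →ₗ[ℝ] U →ₗ[ℝ] ℝ) → (U →ₗ[ℝ] U →ₗ[ℝ] U) :=
    fun t => t.compr₂ Be.symm.toLinearMap
  have hS : ∀ t u v w, B (S t u v) w = t u v w := fun t u v w => hBe _ w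
  have hTi : ∀ m, (∀ (g : H) (u v : U), m (ρ g u) (ρ g v) = ρ g (m u v)) →
      ∀ (g : H) (u v w : U), T m (ρ g u) (ρ g v) (ρ g w) = T m u v w := by
    intro m hm g u v w
    show B (m (ρ g u) (ρ g v)) (ρ g w) = B (m u v) w
    rw [hm, hBi]
  have hSi : ∀ t, (∀ (g : H) (u v w : U), t (ρ g u) (ρ g v) (ρ g w) = t u v w) →
      ∀ (g : H) (u v : U), S t (ρ g u) (ρ g v) = ρ g (S t u v) := by
    intro t ht g u v
    refine hext _ _ fun w => ?_
    rw [← inv_apply ρ g w, hS, hBi, ht, hS]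
  constructor
  · rintro ⟨m, hm0, hmc, hmi, hmu⟩
    have huniq : ∀ t', (∀ (g : H) (u v w : U), t' (ρ g u) (ρ g v) (ρ g w) = t' u v w) →
        ∃ c : ℝ, t' = c • T m := by
      intro t' ht'
      obtain ⟨c, hc⟩ := hmu (S t') (hSi t' ht')
      refine ⟨c, LinearMap.ext fun u => LinearMap.ext fun v => LinearMap.ext fun w => ?_⟩
      rw [← hS t', hc]
      simp [T]
    have hne : T m ≠ 0 := by
      intro h0
      apply hm0
      refine LinearMap.ext fun u => LinearMap.ext fun v => hext _ _ fun w => ?_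
      have h1 : T m u v w = 0 := by rw [h0]; rfl
      simpa [T] using h1
    let t2 : U →ₗ[ℝ] U →ₗ[ℝ] U →ₗ[ℝ] ℝ :=
      LinearMap.mk₂ ℝ (fun u v => (T m u).flip v) (fun a b v => by ext w; simp)
        (fun r a v => by ext w; simp) (fun u a b => by ext w; simp) (fun r u a => by ext w; simp)
    obtain ⟨c, hc⟩ := huniq t2 (fun g u v w => hTi m hmi g u w v)
    set t := T m with htdef
    have h12 : ∀ u v w, t u v w = t v u w := fun u v w => by
      show B (m u v) w = B (m v u) w
      rw [hmc]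
    have h23 : ∀ u v w, t u w v = c * t u v w := fun u v w => by
      have := LinearMap.congr_fun (LinearMap.congr_fun (LinearMap.congr_fun hc u) v) w
      simpa [t2] using this
    have hc1 : c = 1 := by
      obtain ⟨u, v, w, huvw⟩ : ∃ u v w, t u v w ≠ 0 := by
        by_contra h
        push Not at h
        exact hne (LinearMap.ext fun u => LinearMap.ext fun v => LinearMap.ext fun w => h u v w)
      have h3 : c ^ 3 = 1 := by
        have e : t u v w = c ^ 3 * t u v w := by
          calc t u v w = c * t u w v := h23 u w v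
            _ = c * t w u v := by rw [h12 u w v]
            _ = c * (c * t w v u) := by rw [h23 w v u]
            _ = c * (c * t v w u) := by rw [h12 w v u]
            _ = c * (c * (c * t v u w)) := by rw [h23 v u w]
            _ = c ^ 3 * t u v w := by rw [h12 v u w]; ring
        exact (mul_eq_right₀ huvw).1 e.symm
      have h4 : (c - 1) * (c ^ 2 + c + 1) = 0 := by ring_nf; linarith
      rcases mul_eq_zero.1 h4 with h5 | h5
      · linarith
      · nlinarith [sq_nonneg (2 * c + 1)]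
    refine ⟨t, hne, fun u v w => ⟨h12 u v w, ?_⟩, hTi m hmi, huniq⟩
    rw [h23 u v w, hc1, one_mul]
  · rintro ⟨t, ht0, hts, hti, htu⟩
    refine ⟨S t, fun h0 => ht0 ?_, fun u v => hext _ _ fun w => ?_, hSi t hti, fun m' hm' => ?_⟩
    · refine LinearMap.ext fun u => LinearMap.ext fun v => LinearMap.ext fun w => ?_
      rw [← hS t, h0]
      simp
    · rw [hS, hS, (hts u v w).1]
    · obtain ⟨c, hc⟩ := htu (T m') (hTi m' hm')
      refine ⟨c, LinearMap.ext fun u => LinearMap.ext fun v => hext _ _ fun w => ?_⟩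
      have := LinearMap.congr_fun (LinearMap.congr_fun (LinearMap.congr_fun hc u) v) w
      simpa [T, hS] using this

end Cfsg.Agent.S5541
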