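import Cfsg.Statements.S5543


set_option autoImplicit false
open Cfsg

namespace Cfsg.Agent.S5543

/-- Let V be a finite-dimensional real vector space with a commutative bilinear product and a positive-definite symmetric bilinear form that associates with the product and satisfies the Norton inequality (the Majorana setting of the definitions). Let X be a group of linear automorphisms of V in which every element squares to the identity, and suppose every non-identity element x of X is a Majorana involution with an axial vector a(x) of squared length 1, such that for any two distinct non-identity x, y the product a(x) ∘ a(y) equals (1/8)(a(x) + a(y) − a(xy)) (the dihedral subalgebra of type 2A whose third axis belongs to the involution xy). Then X has order at most 4. -/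
theorem result {V : Type*} [AddCommGroup V] [Module ℝ V] [FiniteDimensional ℝ V] (mul : V →ₗ[ℝ] V →ₗ[ℝ] V) (B : LinearMap.BilinForm ℝ V) (hV : Cfsg.Axial.IsMajoranaAmbient mul B) (X : Subgroup (V ≃ₗ[ℝ] V)) (hX : ∀ x ∈ X, x * x = 1) (ax : (V ≃ₗ[ℝ] V) → V) (hax : ∀ x ∈ X, x ≠ 1 → Cfsg.Axial.IsMajoranaPair mul B x (ax x)) (h1 : ∀ x ∈ X, x ≠ 1 → B (ax x) (ax x) = 1) (h2A : ∀ x ∈ X, ∀ y ∈ X, x ≠ 1 → y ≠ 1 → x ≠ y → mul (ax x) (ax y) = (1 / 8 : ℝ) • (ax x + ax y - ax (x * y))) : Nat.card ↥X ≤ 4 := by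
  obtain ⟨hcomm, -, -, -, -⟩ := hV
  have hmul : ∀ x ∈ X, ∀ y ∈ X, x * y = y * x := fun x hx y hy => by
    have h := hX _ (X.mul_mem hx hy)
    calc x * y = x * ((x * y) * (x * y)) * y := by rw [h, mul_one]
      _ = (x * x) * (y * x) * (y * y) := by simp [mul_assoc]
      _ = y * x := by rw [hX x hx, hX y hy, one_mul, mul_one]
  have hid : ∀ x ∈ X, x ≠ 1 → mul (ax x) (ax x) = ax x :=
    fun x hx h => (hax x hx h).2.2.1.1.2.1
  have hdist : ∀ x ∈ X, ∀ y ∈ X, x ≠ 1 → y ≠ 1 → x ≠ y → ax x ≠ ax y := by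
    intro x hx y hy hx1 hy1 hxy e
    have h := h2A x hx y hy hx1 hy1 hxy
    rw [← e, hid x hx hx1] at h
    have hxy1 : x * y ≠ 1 := fun e' => hxy <| by
      calc x = x * (y * y) := by rw [hX y hy, mul_one]
        _ = y := by rw [← mul_assoc, e', one_mul]
    have hk : ax (x * y) = (-6 : ℝ) • ax x := by
      have h' := congrArg (fun v => (8 : ℝ) • v) h
      simp only [smul_smul] at h'
      norm_num at h'
      linear_combination (norm := module) h'
    have h3 := h1 _ (X.mul_mem hx hy) hxy1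
    rw [hk] at h3
    simp [h1 x hx hx1] at h3
    norm_num at h3
  by_contra hcard
  push Not at hcard
  haveI : Finite ↥X := Nat.finite_of_card_ne_zero (by omega)
  classical
  obtain ⟨x, hx, hx1⟩ : ∃ x ∈ X, x ≠ 1 := by
    by_contra h
    push Not at h
    have : X = ⊥ := (Subgroup.eq_bot_iff_forall X).2 h
    rw [this, Subgroup.card_bot] at hcard
    omega
  have key : ∀ S : Finset (V ≃ₗ[ℝ] V), S.card ≤ 4 → ∃ z ∈ X, z ∉ S := by
    intro S hS
    by_contra h
    push Not at h
    have h2 : (X : Set (V ≃ₗ[ℝ] V)).ncard ≤ (S : Set (V ≃ₗ[ℝ] V)).ncard :=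
      Set.ncard_le_ncard h S.finite_toSet
    rw [← Nat.card_coe_set_eq, Set.ncard_coe_finset] at h2
    exact absurd (le_trans h2 hS) (not_le.2 hcard)
  obtain ⟨y, hy, hyS⟩ := key {1, x} (le_trans Finset.card_le_two (by norm_num))
  obtain ⟨z, hz, hzS⟩ := key {1, x, y, x * y} Finset.card_le_four
  simp only [Finset.mem_insert, Finset.mem_singleton, not_or] at hyS hzS
  obtain ⟨hy1, hyx⟩ := hyS
  obtain ⟨hz1, hzx, hzy, hzxy⟩ := hzS
  have hinv : ∀ u ∈ X, ∀ v, u * (u * v) = v := fun u hu v => by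
    rw [← mul_assoc, hX u hu, one_mul]
  have hlin : ∀ p ∈ X, ∀ q ∈ X, p ≠ 1 → q ≠ 1 → p ≠ q → mul (ax p) (ax q - ax (p * q)) =
      (1 / 4 : ℝ) • (ax q - ax (p * q)) := by
    intro p hp q hq hp1 hq1 hpq
    have hpq1 : p * q ≠ 1 := fun e => hpq <| by
      rw [← hinv p hp q, e, mul_one]
    have hne : p ≠ p * q := fun e => hq1 (mul_eq_left.1 e.symm)
    rw [map_sub, h2A p hp q hq hp1 hq1 hpq, h2A p hp _ (X.mul_mem hp hq) hp1 hpq1 hne,
      hinv p hp q]
    module
  set u := ax y - ax (x * y)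
  set v := ax z - ax (x * z)
  have hu := hlin x hx y hy hx1 hy1 (Ne.symm hyx)
  have hv := hlin x hx z hz hx1 hz1 (Ne.symm hzx)
  have hxy1 : x * y ≠ 1 := fun e => hyx <| by rw [← hinv x hx y, e, mul_one]
  have hxz1 : x * z ≠ 1 := fun e => hzx <| by rw [← hinv x hx z, e, mul_one]
  have hxyX := X.mul_mem hx hy
  have hxzX := X.mul_mem hx hz
  have hyzX := X.mul_mem hy hz
  have hyz1 : y * z ≠ 1 := fun e => hzy <| by rw [← hinv y hy z, e, mul_one]
  have hxyz : x * (y * z) ∈ X := X.mul_mem hx hyzX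
  have hxyz1 : x * (y * z) ≠ 1 := fun e => hzxy <| by
    have : y * z = x := by rw [← hinv x hx (y * z), e, mul_one]
    rw [← hinv y hy z, this, hmul y hy x hx]
  have hyz : x * (y * z) ≠ y * z := fun e => hx1 (mul_eq_right.1 e)
  have hyzx : y * z ≠ x := fun e => hzxy <| by rw [← hinv y hy z, e, hmul y hy x hx]
  have p1 := h2A y hy z hz hy1 hz1 (Ne.symm hzy)
  have p2 := h2A y hy (x * z) hxzX hy1 hxz1 (fun e => hzxy <| by rw [e, hinv x hx z])
  have p3 := h2A (x * y) hxyX z hz hxy1 hz1 (Ne.symm hzxy)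
  have p4 := h2A (x * y) hxyX (x * z) hxzX hxy1 hxz1 (fun e => hzy (mul_left_cancel e).symm)
  have e2 : y * (x * z) = x * (y * z) := by
    rw [← mul_assoc, hmul y hy x hx, mul_assoc]
  have e3 : x * y * z = x * (y * z) := mul_assoc _ _ _
  have e4 : x * y * (x * z) = y * z := by
    rw [mul_assoc, e2, hinv x hx]
  rw [e2] at p2
  rw [e3] at p3
  rw [e4] at p4
  have huv : mul u v = (1 / 4 : ℝ) • (ax (x * (y * z)) - ax (y * z)) := by
    simp only [u, v, map_sub, LinearMap.sub_apply, p1, p2, p3, p4]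
    module
  set w := ax (x * (y * z)) - ax (y * z) with hw
  have hwe : mul (ax x) w = (1 / 4 : ℝ) • w := by
    have h := hlin x hx (x * (y * z)) hxyz hx1 hxyz1
      (fun e => hyz1 (mul_eq_left.1 e.symm))
    rwa [hinv x hx] at h
  have hp := (hax x hx hx1).2.2.1.1.2.2.2
  have hmemS : (1 / 4 : ℝ) ∈ Cfsg.Axial.majoranaSpectrum := by simp [Cfsg.Axial.majoranaSpectrum]
  have hfus := hp (1 / 4) hmemS (1 / 4) hmemS u (Module.End.mem_eigenspace_iff.2 hu) v
    (Module.End.mem_eigenspace_iff.2 hv)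
  have hlaw : Cfsg.Axial.monsterLaw (1 / 4 : ℝ) (1 / 32) (1 / 4) (1 / 4) = {1, 0} := by
    unfold Cfsg.Axial.monsterLaw
    norm_num
  rw [hlaw, Cfsg.Axial.eigenSum, iSup_insert, iSup_singleton, Submodule.mem_sup] at hfus
  obtain ⟨a, ha, b, hb, hab⟩ := hfus
  rw [Cfsg.Axial.eigen, Module.End.mem_eigenspace_iff, one_smul] at ha
  rw [Cfsg.Axial.eigen, Module.End.mem_eigenspace_iff, zero_smul] at hb
  rw [huv] at hab
  have h5 : a = (1 / 16 : ℝ) • w := by
    have e : mul (ax x) (a + b) = mul (ax x) ((1 / 4 : ℝ) • w) := by rw [hab]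
    rw [map_add, ha, hb, add_zero, map_smul, hwe, smul_smul] at e
    rw [e]; norm_num
  have h6 : a = 0 := by
    rw [h5, map_smul, hwe, smul_smul] at ha
    have h7 : (1 / 16 * (1 / 4) - 1 / 16 : ℝ) • w = 0 := by rw [sub_smul, ha, sub_self]
    rw [smul_eq_zero] at h7
    rw [h5, h7.resolve_left (by norm_num), smul_zero]
  rw [h6, eq_comm, smul_eq_zero] at h5
  exact hdist _ hxyz _ hyzX hxyz1 hyz1 hyz (sub_eq_zero.1 (h5.resolve_left (by norm_num)))

end Cfsg.Agent.S5543
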