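import Cfsg.Statements.S5545


set_option autoImplicit false
open Cfsg

namespace Cfsg.Agent.S5545

open Cfsg.Axial

variable {V : Type*} [AddCommGroup V] [Module ℝ V]

theorem eigen_iff {mul : V →ₗ[ℝ] V →ₗ[ℝ] V} {a v : V} {c : ℝ} :
    v ∈ eigen mul a c ↔ mul a v = c • v := Module.End.mem_eigenspace_iff

theorem sum_four {mul : V →ₗ[ℝ] V →ₗ[ℝ] V} {a : V} :
    eigenSum mul a majoranaSpectrum =
      eigen mul a 1 ⊔ (eigen mul a 0 ⊔ (eigen mul a (1/4) ⊔ eigen mul a (1/32))) := by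
  simp only [eigenSum, majoranaSpectrum, iSup_insert, iSup_singleton]

theorem sep {mul : V →ₗ[ℝ] V →ₗ[ℝ] V} {a : V} (ha : mul a a = a) (ha0 : a ≠ 0) {x : ℝ} {z w : V}
    (hz : mul a z = 0) (hw : mul a w = (1/4 : ℝ) • w) (h : x • a + z + w = 0) :
    x = 0 ∧ z = 0 ∧ w = 0 := by
  have h1 := congrArg (mul a) h
  rw [map_add, map_add, map_smul, ha, hz, hw, map_zero] at h1
  have h2 := congrArg (mul a) h1
  rw [map_add, map_add, map_smul, map_smul, ha, map_zero, hw] at h2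
  have hwz : w = 0 := by
    have h3 : (3/16 : ℝ) • w = 0 := by linear_combination (norm := module) h1 - h2
    exact (smul_eq_zero.1 h3).resolve_left (by norm_num)
  rw [hwz] at h h1
  have hx : x • a = 0 := by simpa using h1
  have hx0 := (smul_eq_zero.1 hx).resolve_right ha0
  rw [hx0] at h
  exact ⟨hx0, by simpa using h, hwz⟩

theorem decompose {mul : V →ₗ[ℝ] V →ₗ[ℝ] V} {B : LinearMap.BilinForm ℝ V}
    (hV : IsMajoranaAmbient mul B) {μ : V ≃ₗ[ℝ] V} {a : V} (h : IsMajoranaPair mul B μ a)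
    (hn : B a a = 1) {b : V} (hb : μ b = b) :
    ∃ u w, mul a u = 0 ∧ mul a w = (1/4 : ℝ) • w ∧ b = B a b • a + u + w ∧ B a u = 0 ∧ B a w = 0 := by
  obtain ⟨-, hs, -, hassoc, -⟩ := hV
  obtain ⟨-, -, ⟨⟨ha0, haa, htop, -⟩, hone⟩, hfix, hneg⟩ := h
  have hb' : b ∈ eigen mul a 1 ⊔ (eigen mul a 0 ⊔ (eigen mul a (1/4) ⊔ eigen mul a (1/32))) :=
    sum_four (mul := mul) (a := a) ▸ htop.symm ▸ Submodule.mem_top
  obtain ⟨p, hp, q, hq, rfl⟩ := Submodule.mem_sup.1 hb'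
  obtain ⟨u, hu, r, hr, rfl⟩ := Submodule.mem_sup.1 hq
  obtain ⟨w, hw, t, ht, rfl⟩ := Submodule.mem_sup.1 hr
  have hmem : ∀ c ∈ ({1, 0, 1/4} : Set ℝ), ∀ v ∈ eigen mul a c, μ v = v := fun c hc v hv =>
    hfix v (Submodule.mem_iSup_of_mem c (Submodule.mem_iSup_of_mem hc hv))
  have ht0 : t = 0 := by
    have h1 : μ t = -t := hneg t ht
    rw [map_add, map_add, map_add, hmem 1 (by simp) p hp, hmem 0 (by simp) u hu,
      hmem _ (by simp) w hw, h1] at hb
    have h2 : (2 : ℝ) • t = 0 := by linear_combination (norm := module) -hb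
    exact (smul_eq_zero.1 h2).resolve_left (by norm_num)
  rw [hone] at hp
  obtain ⟨x, rfl⟩ := Submodule.mem_span_singleton.1 hp
  rw [eigen_iff, zero_smul] at hu
  rw [eigen_iff] at hw
  have hau : B a u = 0 := by
    have h1 := hassoc a a u
    rw [haa, hu, map_zero] at h1
    exact h1.symm
  have haw : B a w = 0 := by
    have h1 := hassoc a a w
    rw [haa, hw, map_smul, smul_eq_mul] at h1
    linarith
  refine ⟨u, w, hu, hw, ?_, hau, haw⟩
  subst ht0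
  simp only [map_add, map_smul, smul_eq_mul, hau, haw, hn, add_zero, mul_one]
  module

theorem fusion {mul : V →ₗ[ℝ] V →ₗ[ℝ] V} {B : LinearMap.BilinForm ℝ V} {μ : V ≃ₗ[ℝ] V} {a : V}
    (h : IsMajoranaPair mul B μ a) {u w : V} (hu : mul a u = 0) (hw : mul a w = (1/4 : ℝ) • w) :
    mul a (mul u u) = 0 ∧ mul a (mul u w) = (1/4 : ℝ) • mul u w ∧
      ∃ (k : ℝ) (z : V), mul w w = k • a + z ∧ mul a z = 0 := by
  obtain ⟨-, -, ⟨⟨ha0, haa, htop, hlaw⟩, hone⟩, -, -⟩ := h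
  have m0 : (0:ℝ) ∈ majoranaSpectrum := by simp [majoranaSpectrum]
  have m4 : (1/4:ℝ) ∈ majoranaSpectrum := by simp [majoranaSpectrum]
  have hu' : u ∈ eigen mul a 0 := by rw [eigen_iff, zero_smul]; exact hu
  have hw' : w ∈ eigen mul a (1/4) := eigen_iff.2 hw
  have l00 : monsterLaw (1/4 : ℝ) (1/32) 0 0 = {0} := by simp [monsterLaw]
  have l04 : monsterLaw (1/4 : ℝ) (1/32) 0 (1/4) = {1/4} := by
    unfold monsterLaw
    norm_num
  have l44 : monsterLaw (1/4 : ℝ) (1/32) (1/4) (1/4) = {1, 0} := by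
    unfold monsterLaw
    norm_num
  have h00 := hlaw 0 m0 0 m0 u hu' u hu'
  have h04 := hlaw 0 m0 _ m4 u hu' w hw'
  have h44 := hlaw _ m4 _ m4 w hw' w hw'
  rw [l00, eigenSum, iSup_singleton, eigen_iff, zero_smul] at h00
  rw [l04, eigenSum, iSup_singleton, eigen_iff] at h04
  rw [l44, eigenSum, iSup_insert, iSup_singleton, Submodule.mem_sup] at h44
  obtain ⟨p, hp, z, hz, he⟩ := h44
  rw [hone] at hp
  obtain ⟨k, rfl⟩ := Submodule.mem_span_singleton.1 hp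
  rw [eigen_iff, zero_smul] at hz
  exact ⟨h00, h04, k, z, he.symm, hz⟩

theorem fixed {mul : V →ₗ[ℝ] V →ₗ[ℝ] V} {B : LinearMap.BilinForm ℝ V} {μ ν : V ≃ₗ[ℝ] V} {a : V}
    (h : IsMajoranaPair mul B μ a) (hν : ∀ u v, ν (mul u v) = mul (ν u) (ν v))
    (hu : ∀ b, IsMajoranaPair mul B μ b → b = a) (hc : μ * ν = ν * μ) : ν a = a := by
  obtain ⟨hmul, hB, ⟨⟨ha0, haa, htop, hlaw⟩, hone⟩, hfix, hneg⟩ := h
  have heig : ∀ c, eigen mul (ν a) c = (eigen mul a c).map (ν : V →ₗ[ℝ] V) := by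
    intro c
    ext v
    rw [Submodule.mem_map, eigen_iff]
    constructor
    · intro hv
      refine ⟨ν.symm v, eigen_iff.2 (ν.injective ?_), ν.apply_symm_apply v⟩
      rw [hν, map_smul, ν.apply_symm_apply, hv]
    · rintro ⟨x, hx, rfl⟩
      rw [eigen_iff] at hx
      rw [LinearEquiv.coe_coe, ← hν, hx, map_smul]
  have hsum : ∀ S, eigenSum mul (ν a) S = (eigenSum mul a S).map (ν : V →ₗ[ℝ] V) := fun S => by
    simp [eigenSum, heig, Submodule.map_iSup]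
  have hcomm : ∀ v, μ (ν v) = ν (μ v) := fun v => LinearEquiv.congr_fun hc v
  refine hu _ ⟨hmul, hB, ⟨⟨by simpa using ha0, by rw [← hν, haa], ?_, ?_⟩, ?_⟩, ?_, ?_⟩
  · rw [hsum, htop, Submodule.map_top, LinearEquiv.range]
  · intro c hc d hd u hu v hv
    rw [heig, Submodule.mem_map] at hu hv
    obtain ⟨u, hu', rfl⟩ := hu
    obtain ⟨v, hv', rfl⟩ := hv
    rw [hsum, LinearEquiv.coe_coe, ← hν]
    exact Submodule.mem_map_of_mem (f := (ν : V →ₗ[ℝ] V)) (hlaw c hc d hd u hu' v hv')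
  · rw [heig, hone, Submodule.map_span, Set.image_singleton]; rfl
  · intro v hv
    rw [hsum, Submodule.mem_map] at hv
    obtain ⟨x, hx, rfl⟩ := hv
    show μ (ν x) = ν x
    rw [hcomm]; exact congrArg ν (hfix x hx)
  · intro v hv
    rw [heig, Submodule.mem_map] at hv
    obtain ⟨x, hx, rfl⟩ := hv
    show μ (ν x) = -ν x
    rw [hcomm, show μ x = -x from hneg x hx, map_neg]

/-- Let V be a finite-dimensional real vector space with a commutative bilinear product and a positive-definite symmetric bilinear form that associates with the product and satisfies the Norton inequality (the Majorana setting of the definitions). Let μ₀, μ₁ be commuting Majorana involutions with distinct axial vectors a₀ ≠ a₁ of squared length 1, each involution having no other axial vector. Then either a₀ and a₁ are orthogonal with a₀ ∘ a₁ = 0 (type 2B), or their inner product is 1/8 and, with a₂ = a₀ + a₁ − 8 a₀ ∘ a₁, the vector a₂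 is an idempotent and a₀ ∘ a₂ = (1/8)(a₀ + a₂ − a₁), a₁ ∘ a₂ = (1/8)(a₁ + a₂ − a₀) (type 2A: the three idempotents span a subalgebra with aᵢ ∘ aⱼ = (1/8)(aᵢ + aⱼ − aₖ)). -/
theorem result {V : Type*} [AddCommGroup V] [Module ℝ V] [FiniteDimensional ℝ V] (mul : V →ₗ[ℝ] V →ₗ[ℝ] V) (B : LinearMap.BilinForm ℝ V) (hV : Cfsg.Axial.IsMajoranaAmbient mul B) (μ₀ μ₁ : V ≃ₗ[ℝ] V) (a₀ a₁ : V) (h₀ : Cfsg.Axial.IsMajoranaPair mul B μ₀ a₀) (h₁ : Cfsg.Axial.IsMajoranaPair mul B μ₁ a₁) (hu₀ : ∀ a : V, Cfsg.Axial.IsMajoranaPair mul B μ₀ a → a = a₀) (hu₁ : ∀ a : V, Cfsg.Axial.IsMajoranaPair mul B μ₁ a → a = a₁) (hn₀ : B a₀ a₀ = 1) (hn₁ : B a₁ a₁ = 1) (hc : μ₀ * μ₁ = μ₁ * μ₀) (hne : a₀ ≠ a₁) : (B a₀ a₁ = 0 ∧ mul a₀ a₁ = 0) ∨ (B a₀ a₁ = 1 / 8 ∧ mul (a₀ + a₁ - (8 : ℝ) • mul a₀ a₁) (a₀ + a₁ - (8 : ℝ) • mul a₀ a₁) = a₀ + a₁ - (8 : ℝ) • mul a₀ a₁ ∧ mul a₀ (a₀ + a₁ - (8 : ℝ) • mul a₀ a₁) = (1 / 8 : ℝ) • (a₀ + (a₀ + a₁ - (8 : ℝ) • mul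 a₀ a₁) - a₁) ∧ mul a₁ (a₀ + a₁ - (8 : ℝ) • mul a₀ a₁) = (1 / 8 : ℝ) • (a₁ + (a₀ + a₁ - (8 : ℝ) • mul a₀ a₁) - a₀)) := by
  have hfix₀ : μ₁ a₀ = a₀ := fixed h₀ h₁.1 hu₀ hc
  have hfix₁ : μ₀ a₁ = a₁ := fixed h₁ h₀.1 hu₁ hc.symm
  obtain ⟨hcm, hs, hpos, hassoc, -⟩ := id hV
  obtain ⟨u, w, hu, hw, he₀, hau, haw⟩ := decompose hV h₁ hn₁ hfix₀
  obtain ⟨u', w', hu', hw', he₁, -, -⟩ := decompose hV h₀ hn₀ hfix₁
  have haa₀ : mul a₀ a₀ = a₀ := h₀.2.2.1.1.2.1
  have haa₁ : mul a₁ a₁ = a₁ := h₁.2.2.1.1.2.1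
  have ha₁ : a₁ ≠ 0 := h₁.2.2.1.1.1
  obtain ⟨huu, huw, k, z, hww, hz⟩ := fusion h₁ hu hw
  set l := B a₁ a₀ with hl
  rw [hs a₀ a₁, ← hl] at he₁
  have hk : k = 1/4 * B w w := by
    have h1 := hassoc a₁ w w
    rw [hww, map_add, map_smul, hn₁, hw, map_smul, LinearMap.smul_apply, smul_eq_mul, smul_eq_mul] at h1
    have h2 : B a₁ z = 0 := by
      have h3 := hassoc a₁ a₁ z
      rw [haa₁, hz, map_zero] at h3
      exact h3.symm
    rw [h2] at h1
    linarith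
  have hp : mul a₁ a₀ = l • a₁ + (1/4 : ℝ) • w := by
    rw [he₀, map_add, map_add, map_smul, haa₁, hu, hw, add_zero]
  have hp' : mul a₀ a₁ = l • a₀ + (1/4 : ℝ) • w' := by
    rw [he₁, map_add, map_add, map_smul, haa₀, hu', hw', add_zero]
  have hw'eq : w' = w + (4 * l) • (a₁ - a₀) := by
    have h1 : l • a₀ + (1/4 : ℝ) • w' = l • a₁ + (1/4 : ℝ) • w := by rw [← hp', hcm, hp]
    linear_combination (norm := module) (4 : ℝ) • h1
  have hexp : mul a₀ a₀ = (l * l) • a₁ + mul u u + mul w w + (2 : ℝ) • mul u w + ((1/2) * l) • w := by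
    rw [he₀]
    simp only [map_add, map_smul, LinearMap.add_apply, LinearMap.smul_apply, haa₁, hu, hw,
      hcm w u, hcm u a₁, hcm w a₁, smul_smul, smul_zero]
    module
  rw [haa₀] at hexp
  have hs1 := sep haa₁ ha₁ (x := l * l + k - l) (z := mul u u + z - u)
    (w := (2 : ℝ) • mul u w + ((1/2) * l) • w - w)
    (by rw [map_sub, map_add, huu, hz, hu]; simp)
    (by simp only [map_add, map_sub, map_smul, huw, hw]; module)
    (by
      rw [hww] at hexp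
      linear_combination (norm := module) he₀ - hexp)
  obtain ⟨e1, e0, e4⟩ := hs1
  have huw' : mul u w = ((1/2) - (1/4) * l) • w := by
    linear_combination (norm := module) (1/2 : ℝ) • e4
  have hmid : mul a₀ w = (1/2 : ℝ) • w + mul w w := by
    rw [he₀]
    simp only [map_add, map_smul, LinearMap.add_apply, LinearMap.smul_apply, hw, huw']
    module
  have hiter : (l * l) • a₁ + (l * (1/4)) • w + (1/4 : ℝ) • mul a₀ w =
      ((3/4) * l) • a₀ + ((1/4) * l) • a₁ + (1/16 : ℝ) • w := by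
    have h1 : mul a₀ (mul a₀ a₁) = l • a₀ + (1/16 : ℝ) • w' := by
      rw [hp', map_add, map_smul, map_smul, haa₀, hw', smul_smul]; norm_num
    have h2 : mul a₀ (mul a₀ a₁) = l • (l • a₁ + (1/4 : ℝ) • w) + (1/4 : ℝ) • mul a₀ w := by
      conv_lhs => rw [hcm a₀ a₁, hp, map_add, map_smul, map_smul, hcm a₀ a₁, hp]
    rw [h1, hw'eq] at h2
    linear_combination (norm := module) -h2
  rw [hmid, hww] at hiter
  have hs2 := sep haa₁ ha₁ (x := l * l + (1/4) * k - (3/4) * l * l - (1/4) * l)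
    (z := (1/4 : ℝ) • z - ((3/4) * l) • u)
    (w := (l * (1/4) + (1/8) - (3/4) * l - (1/16)) • w)
    (by rw [map_sub, map_smul, map_smul, hz, hu]; simp)
    (by rw [map_smul, hw]; module)
    (by linear_combination (norm := module) hiter + ((3/4) * l) • he₀)
  obtain ⟨f1, f0, f4⟩ := hs2
  rcases eq_or_ne w 0 with hw0 | hw0
  · have hk0 : k = 0 := by rw [hk, hw0]; simp
    rcases mul_eq_zero.1 (show l * (l - 1) = 0 by rw [hk0] at e1; linarith) with h | h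
    · left
      refine ⟨by rw [hs, ← hl, h], ?_⟩
      rw [hcm, hp, h, hw0]; simp
    · exfalso
      have hl1 : l = 1 := by linarith
      refine (hpos (a₀ - a₁) (sub_ne_zero.2 hne)).ne' ?_
      simp only [map_sub, LinearMap.sub_apply, hn₀, hn₁, hs a₀ a₁, ← hl, hl1, sub_self]
  · right
    have hl8 : l = 1/8 := by
      have := (smul_eq_zero.1 f4).resolve_right hw0
      linarith
    have hp8 : mul a₀ a₁ = (1/8 : ℝ) • a₁ + (1/4 : ℝ) • w := by rw [hcm, hp, hl8]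
    have hσ : a₀ + a₁ - (8 : ℝ) • mul a₀ a₁ = u + (1/8 : ℝ) • a₁ - w := by
      rw [hp8, he₀, hl8]; module
    refine ⟨by rw [hs, ← hl, hl8], ?_, ?_, ?_⟩
    · rw [hσ]
      simp only [map_add, map_sub, map_smul, LinearMap.add_apply, LinearMap.sub_apply,
        LinearMap.smul_apply, haa₁, hu, hw, hcm w u, hcm u a₁, hcm w a₁, smul_zero, huw', hww]
      have hk' : k = 7/64 := by rw [hl8] at e1; linarith
      have hz' : z = (3/8 : ℝ) • u := by
        rw [hl8] at f0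
        linear_combination (norm := module) (4 : ℝ) • f0
      have huu' : mul u u = u - z := by linear_combination (norm := module) e0
      rw [huu', hz', hk', hl8]
      module
    · have h2 : mul a₀ (mul a₀ a₁) = (1/8 : ℝ) • a₀ + (1/16 : ℝ) • w' := by
        rw [hp', map_add, map_smul, map_smul, haa₀, hw', smul_smul, hl8]; norm_num
      rw [map_sub, map_add, map_smul, haa₀, h2]
      rw [hp', hl8]
      module
    · have h1 : mul a₁ (mul a₀ a₁) = (1/8 : ℝ) • a₁ + (1/16 : ℝ) • w := by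
        rw [hp8, map_add, map_smul, map_smul, haa₁, hw, smul_smul]; norm_num
      rw [map_sub, map_add, map_smul, haa₁, h1, hcm a₁ a₀, hp8]
      module

end Cfsg.Agent.S5545
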