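import Cfsg.Statements.S5546
import Cfsg.Agent.Lib.LeechAut.Basic

set_option autoImplicit false
open Cfsg

namespace Cfsg.Agent.S5546

open Cfsg Cfsg.Agent.Leech.Basic Cfsg.Agent.LeechAut.Basic Finset

instance : Fact (Nat.Prime 13) := ⟨by norm_num⟩

/-- Eight times a coordinate vector. -/
def ev (j : GolayPt) : leechLattice :=
  ⟨Pi.single j 8, mem_lattice_iff.2 ⟨0, ∅, Pi.single j 2, Or.inl rfl, empty_mem,
    fun i => by rcases eq_or_ne i j with h | h <;> simp [ind, h], by simp⟩⟩

theorem eight_smul (v : leechLattice) : (8 : ℤ) • v = ∑ j, (v : GolayPt → ℤ) j • ev j := by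
  apply Subtype.ext
  funext i
  rw [AddSubgroup.val_finsetSum, Finset.sum_apply]
  simp [ev, Pi.single_apply, mul_comm]

/-- Reduction modulo 13. -/
def red (v : GolayPt → ℤ) : GolayPt → ZMod 13 := fun i => (v i : ZMod 13)

/-- The matrix modulo 13. -/
def mat (f : Co0) : Matrix GolayPt GolayPt (ZMod 13) :=
  Matrix.of fun i j => 5 * ((((f • ev j : leechLattice) : GolayPt → ℤ) i : ℤ) : ZMod 13)

theorem mat_mulVec (f : Co0) (v : leechLattice) :
    (mat f).mulVec (red v) = red ((f • v : leechLattice) : GolayPt → ℤ) := by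
  funext i
  have h : (f • ((8 : ℤ) • v) : leechLattice) = ∑ j, (v : GolayPt → ℤ) j • (f • ev j) := by
    rw [eight_smul, show ∀ w, f • w = actHom f w from fun _ => rfl, map_sum]
    simp only [map_zsmul, actHom_apply]
  rw [show f • ((8 : ℤ) • v) = (8 : ℤ) • (f • v) from map_zsmul (actHom f) _ _] at h
  have h' : (8 : ℤ) * ((f • v : leechLattice) : GolayPt → ℤ) i =
      ∑ j, (v : GolayPt → ℤ) j * ((f • ev j : leechLattice) : GolayPt → ℤ) i := by
    have := congrArg (fun w : leechLattice => (w : GolayPt → ℤ) i) h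
    simpa [AddSubgroup.val_finsetSum, Finset.sum_apply] using this
  have h40 : (5 : ZMod 13) * 8 = 1 := by decide
  have h'' : (8 : ZMod 13) * ((((f • v : leechLattice) : GolayPt → ℤ) i : ℤ) : ZMod 13) =
      ∑ j, ((((v : GolayPt → ℤ) j : ℤ) : ZMod 13) *
        ((((f • ev j : leechLattice) : GolayPt → ℤ) i : ℤ) : ZMod 13)) := by
    have := congrArg (fun t : ℤ => (t : ZMod 13)) h'
    simpa using this
  rw [Matrix.mulVec, dotProduct]
  simp only [mat, red, Matrix.of_apply]
  calc ∑ j, 5 * ((((f • ev j : leechLattice) : GolayPt → ℤ) i : ℤ) : ZMod 13) * (((v : GolayPt → ℤ) j : ℤ) : ZMod 13)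
      = 5 * ∑ j, ((((v : GolayPt → ℤ) j : ℤ) : ZMod 13) *
          ((((f • ev j : leechLattice) : GolayPt → ℤ) i : ℤ) : ZMod 13)) := by
        rw [Finset.mul_sum]
        exact Finset.sum_congr rfl fun j _ => by ring
    _ = _ := by rw [← h'', ← mul_assoc, h40, one_mul]

theorem mat_one : mat 1 = 1 := by
  ext i j
  rcases eq_or_ne i j with h | h <;> simp [mat, ev, Matrix.one_apply, h] <;> decide

theorem mat_mul (f g : Co0) : mat (f * g) = mat f * mat g := by
  ext i j
  rw [Matrix.mul_apply]
  have h := congrFun (mat_mulVec f (g • ev j)) i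
  calc mat (f * g) i j = 5 * red ((f • g • ev j : leechLattice) : GolayPt → ℤ) i := by
        simp [mat, red, mul_smul]
    _ = _ := by
        rw [← h, Matrix.mulVec, dotProduct, Finset.mul_sum]
        refine Finset.sum_congr rfl fun k _ => ?_
        simp only [mat, red, Matrix.of_apply]
        ring

theorem mat_transpose (f : Co0) : (mat f).transpose * mat f = 1 := by
  ext i j
  rw [Matrix.mul_apply, Matrix.one_apply]
  have h := dot_smul f (ev i) (ev j)
  have e : ∑ k, (mat f).transpose i k * mat f k j =
      25 * ((dotInt ((f • ev i : leechLattice) : GolayPt → ℤ) ((f • ev j : leechLattice) : GolayPt → ℤ) : ℤ) : ZMod 13) := by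
    simp only [dotInt, Int.cast_sum, Int.cast_mul, Finset.mul_sum, Matrix.transpose_apply, mat, Matrix.of_apply]
    exact Finset.sum_congr rfl fun k _ => by ring
  rw [e, h]
  rcases eq_or_ne i j with rfl | h'
  · rw [if_pos rfl, show dotInt (ev i : GolayPt → ℤ) (ev i : GolayPt → ℤ) = 64 by
      simp [dotInt, ev, Pi.single_apply]]
    decide
  · rw [if_neg h', show dotInt (ev i : GolayPt → ℤ) (ev j : GolayPt → ℤ) = 0 by
      simp [dotInt, ev, Pi.single_apply, h', Ne.symm h']]
    simp

theorem mat_injective {f : Co0} (h : mat f = 1) : f = 1 := by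
  have hev : ∀ j, f • ev j = ev j := by
    intro j
    set a : GolayPt → ℤ := ((f • ev j : leechLattice) : GolayPt → ℤ) with ha
    set b : GolayPt → ℤ := (ev j : GolayPt → ℤ) with hb
    have hdvd : ∀ i, (13 : ℤ) ∣ a i - b i := by
      intro i
      have h2 := congrFun (mat_mulVec f (ev j)) i
      rw [h, Matrix.one_mulVec] at h2
      exact (ZMod.intCast_eq_intCast_iff_dvd_sub _ _ 13).1 h2
    choose w hw using hdvd
    have hn : sqNorm a = sqNorm b := sqNorm_smul f (ev j)
    have hb64 : sqNorm b = 64 := by
      rw [sqNorm, Finset.sum_eq_single j (fun i _ hi => by simp [hb, ev, hi]) (by simp)]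
      simp [hb, ev]
    have e1 : sqNorm (a - b) = 169 * sqNorm w := by
      simp only [sqNorm, Pi.sub_apply, hw, Finset.mul_sum]
      exact Finset.sum_congr rfl fun i _ => by ring
    have e2 : sqNorm (a - b) = 128 - 2 * dotInt a b := by
      have e : sqNorm (a - b) = sqNorm a - 2 * dotInt a b + sqNorm b := by
        simp only [sqNorm, dotInt, Pi.sub_apply, Finset.mul_sum, ← Finset.sum_sub_distrib,
          ← Finset.sum_add_distrib]
        exact Finset.sum_congr rfl fun i _ => by ring
      rw [e, hn, hb64]; ring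
    have e3 : 0 ≤ 128 + 2 * dotInt a b := by
      have e := sqNorm_add a b
      have h0 : 0 ≤ sqNorm (a + b) := Finset.sum_nonneg fun i _ => sq_nonneg _
      rw [e, hn, hb64] at h0
      linarith
    have hw0 : 0 ≤ sqNorm w := Finset.sum_nonneg fun i _ => sq_nonneg _
    have hwz : sqNorm w = 0 := by omega
    apply Subtype.ext
    funext i
    show a i = b i
    have hwi : w i ^ 2 = 0 :=
      (Finset.sum_eq_zero_iff_of_nonneg fun i _ => sq_nonneg (w i)).1 hwz i (Finset.mem_univ i)
    have := hw i
    rw [pow_eq_zero_iff (by norm_num) |>.1 hwi] at this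
    linarith
  refine ext' fun v => ?_
  rw [one_smul]
  have h8 : (8 : ℤ) • (f • v) = (8 : ℤ) • v := by
    rw [show (8 : ℤ) • (f • v) = f • ((8 : ℤ) • v) from (map_zsmul (actHom f) _ _).symm, eight_smul,
      show f • (∑ j, (v : GolayPt → ℤ) j • ev j) = ∑ j, (v : GolayPt → ℤ) j • (f • ev j) by
        rw [show ∀ w, f • w = actHom f w from fun _ => rfl, map_sum]
        simp only [map_zsmul, actHom_apply]]
    simp only [hev]
  apply Subtype.ext
  funext i
  have := congrArg (fun w : leechLattice => (w : GolayPt → ℤ) i) h8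
  simpa using this

theorem red_u_sq : red Spor.vecU ⬝ᵥ red Spor.vecU = 6 := by decide +kernel

/-- The second Conway group (the stabilizer in the Leech lattice automorphism group of the short vector fixed in the definitions) is isomorphic to a subgroup of the general linear group of degree 23 over the field with 13 elements: there is an injective homomorphism into it. -/
theorem result : ∃ f : ↥Cfsg.Spor.Co2 →* GL (Fin 23) (ZMod 13), Function.Injective f := by
  classical
  let u : GolayPt → ZMod 13 := red Spor.vecU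
  let φ : (GolayPt → ZMod 13) →ₗ[ZMod 13] ZMod 13 :=
    { toFun := fun x => x ⬝ᵥ u
      map_add' := fun x y => add_dotProduct x y u
      map_smul' := fun c x => smul_dotProduct c x u }
  let ι : ↥Cfsg.Spor.Co2 →* Co0 := Subgroup.inclusion inf_le_left
  have hu : ∀ f : ↥Cfsg.Spor.Co2, (mat (ι f)).mulVec u = u := by
    intro f
    have h : (ι f) • Spor.leechU = Spor.leechU := f.2.2
    show (mat (ι f)).mulVec (red Spor.leechU) = red Spor.leechU
    rw [mat_mulVec, h]
  have hinv : ∀ (f : ↥Cfsg.Spor.Co2) (x), φ ((mat (ι f)).mulVec x) = φ x := by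
    intro f x
    show (mat (ι f)).mulVec x ⬝ᵥ u = x ⬝ᵥ u
    conv_lhs => rw [← hu f]
    rw [Matrix.dotProduct_mulVec, ← Matrix.mulVec_transpose, Matrix.mulVec_mulVec, mat_transpose,
      Matrix.one_mulVec]
  let W := LinearMap.ker φ
  let ρ : ↥Cfsg.Spor.Co2 →* Module.End (ZMod 13) W :=
    { toFun := fun f => (Matrix.toLin' (mat (ι f))).restrict (p := W) (q := W) fun x hx => by
        rw [LinearMap.mem_ker] at hx ⊢
        rw [Matrix.toLin'_apply, hinv, hx]
      map_one' := by
        apply LinearMap.ext; intro x; apply Subtype.ext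
        simp [mat_one]
      map_mul' := fun f g => by
        apply LinearMap.ext; intro x; apply Subtype.ext
        simp [mat_mul, Matrix.mulVec_mulVec] }
  have hρ : Function.Injective ρ := by
    rw [injective_iff_map_eq_one]
    intro f hf
    have h1 : mat (ι f) = 1 := by
      refine Matrix.ext_of_mulVec_single fun j => ?_
      rw [Matrix.one_mulVec]
      set x : GolayPt → ZMod 13 := Pi.single j 1
      set c : ZMod 13 := 11 * φ x
      have hx : x - c • u ∈ W := by
        rw [LinearMap.mem_ker, map_sub, map_smul]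
        show φ x - (11 * φ x) • (u ⬝ᵥ u) = 0
        rw [red_u_sq, smul_eq_mul]
        generalize φ x = t
        revert t
        decide
      have h := congrArg (fun T : Module.End (ZMod 13) W => (T ⟨_, hx⟩ : GolayPt → ZMod 13)) hf
      simp only [ρ, MonoidHom.coe_mk, OneHom.coe_mk, LinearMap.coe_restrict_apply, Matrix.toLin'_apply,
        Module.End.one_apply] at h
      rw [Matrix.mulVec_sub, Matrix.mulVec_smul, hu f] at h
      exact sub_left_injective h
    exact Subgroup.inclusion_injective inf_le_left ((mat_injective h1).trans (map_one ι).symm)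
  have hfr : Module.finrank (ZMod 13) W = 23 := by
    have hsurj : Function.Surjective φ := fun t => ⟨(11 * t) • u, by
      rw [map_smul]
      show (11 * t) • (u ⬝ᵥ u) = t
      rw [red_u_sq, smul_eq_mul]
      revert t
      decide⟩
    have h := LinearMap.finrank_range_add_finrank_ker φ
    rw [LinearMap.range_eq_top.2 hsurj, finrank_top, Module.finrank_self, Module.finrank_pi] at h
    rw [show Fintype.card GolayPt = 24 by decide] at h
    show Module.finrank (ZMod 13) (LinearMap.ker φ) = 23
    omega
  let b := Module.finBasisOfFinrankEq (ZMod 13) W hfr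
  let σ : ↥Cfsg.Spor.Co2 →* Matrix (Fin 23) (Fin 23) (ZMod 13) :=
    ((LinearMap.toMatrixAlgEquiv b).toAlgHom.toRingHom.toMonoidHom).comp ρ
  refine ⟨σ.toHomUnits, fun f g h => hρ ((LinearMap.toMatrixAlgEquiv b).injective ?_)⟩
  exact congrArg (fun x : GL (Fin 23) (ZMod 13) => (x : Matrix (Fin 23) (Fin 23) (ZMod 13))) h

end Cfsg.Agent.S5546
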