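import Cfsg.Statements.S5551
import Cfsg.Agent.Lib.Leech.Mod2

set_option autoImplicit false
open Cfsg

namespace Cfsg.Agent.S5551

open Cfsg.Agent.Leech in
theorem key {x y : Cfsg.GolayPt → ℤ} (hx : x ∈ Cfsg.leechLattice) (hy : y ∈ Cfsg.leechLattice)
    (hxn : Cfsg.sqNorm x ≤ 64) (hyn : Cfsg.sqNorm y ≤ 64)
    (hc : ∃ z ∈ Cfsg.leechLattice, x - y = 2 • z) :
    y = x ∨ y = -x ∨ (Cfsg.dotInt x y = 0 ∧ Cfsg.sqNorm x = 64 ∧ Cfsg.sqNorm y = 64) := by
  obtain ⟨z, hz, e⟩ := hc
  have h := Classes.congr_short Mod2.leech_shells (x := ⟨x, hx⟩) (y := ⟨y, hy⟩)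
    (by rw [Mod2.lform_self]; exact hxn) (by rw [Mod2.lform_self]; exact hyn) (z := ⟨z, hz⟩)
    (Subtype.ext (by rw [AddSubgroup.coe_sub, AddSubgroup.coe_add]; exact e.trans (two_nsmul z)))
  rcases h with h | h | ⟨h1, h2, h3⟩
  · exact Or.inl (congrArg Subtype.val h)
  · exact Or.inr (Or.inl (by simpa using congrArg Subtype.val h))
  · rw [Mod2.lform_self] at h2 h3
    exact Or.inr (Or.inr ⟨h1, h2, h3⟩)

theorem sqNorm_neg' (x : Cfsg.GolayPt → ℤ) : Cfsg.sqNorm (-x) = Cfsg.sqNorm x := by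
  simp [Cfsg.sqNorm]

/-- In the Leech lattice of the definitions (integer coordinates, minimal squared length 32), let v and w be non-zero lattice vectors of squared length at most 64 that are congruent modulo twice the lattice. Then they have the same squared length, and if that length is less than 64 then w = v or w = −v. (So a class that contains a non-zero vector of squared length at most 64 has a well-defined type 2, 3 or 4, and a class of type 2 or 3 contains no such vector other than v and −v.) -/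
theorem result (v w : Cfsg.GolayPt → ℤ) (hv : v ∈ Cfsg.leechLattice) (hw : w ∈ Cfsg.leechLattice) (hv0 : v ≠ 0) (hw0 : w ≠ 0) (hvn : Cfsg.sqNorm v ≤ 64) (hwn : Cfsg.sqNorm w ≤ 64) (hc : ∃ z ∈ Cfsg.leechLattice, v - w = 2 • z) : Cfsg.sqNorm v = Cfsg.sqNorm w ∧ (Cfsg.sqNorm v < 64 → w = v ∨ w = -v) := by
  rcases key hv hw hvn hwn hc with h | h | ⟨h1, h2, h3⟩
  · subst h; exact ⟨rfl, fun _ => Or.inl rfl⟩
  · subst h; exact ⟨(sqNorm_neg' v).symm, fun _ => Or.inr rfl⟩
  · exact ⟨by rw [h2, h3], fun h => absurd h2 h.ne⟩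

end Cfsg.Agent.S5551
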