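import Cfsg.Statements.S5552
import Cfsg.Agent.Lib.LeechAut.Irreducible

set_option autoImplicit false
open Cfsg

namespace Cfsg.Agent.S5552

open Cfsg.Agent.Golay.Basic Cfsg.Agent.Golay.Design Cfsg.Agent.Leech.Basic Cfsg.Agent.Leech.Gen
  Cfsg.Agent.Leech.Index Cfsg.Agent.LeechAut.Gens Cfsg.Agent.LeechAut.Basic Cfsg.Agent.LeechAut.Xi
  Cfsg.Agent.LeechAut.Functional Cfsg.Agent.LeechAut.Irreducible
set_option maxRecDepth 10000

abbrev f8 : leechLattice := ⟨eightVec, eight_mem⟩

/-- An invariant quadratic form modulo two. -/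
structure InvForm (Q : leechLattice → ZMod 2) : Prop where
  coset : ∀ v w, Q (v + (w + w)) = Q v
  quad : ∀ u v w, Q (u + v + w) + Q u + Q v + Q w = Q (u + v) + Q (u + w) + Q (v + w)
  inv : ∀ (g : Co0) (v : leechLattice), Q (g • v) = Q v

/-- The polar form. -/
def polar (Q : leechLattice → ZMod 2) (u v : leechLattice) : ZMod 2 := Q (u + v) + Q u + Q v

theorem zero' {Q : leechLattice → ZMod 2} (hQ : InvForm Q) : Q 0 = 0 := by
  have h := hQ.quad 0 0 0
  simp only [add_zero] at h
  revert h
  generalize Q 0 = a
  revert a; decide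

theorem polar_symm {Q : leechLattice → ZMod 2} (u v : leechLattice) : polar Q u v = polar Q v u := by
  simp only [polar, add_comm u v]; ring

theorem polar_add {Q : leechLattice → ZMod 2} (hQ : InvForm Q) (u v w : leechLattice) :
    polar Q u (v + w) = polar Q u v + polar Q u w := by
  have h := hQ.quad u v w
  simp only [polar, ← add_assoc u v w]
  revert h
  generalize Q (u + v + w) = a
  generalize Q (u + v) = b
  generalize Q (u + w) = c
  generalize Q (v + w) = d
  generalize Q u = e
  generalize Q v = f
  generalize Q w = g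
  revert a b c d e f g; decide

theorem polar_smul {Q : leechLattice → ZMod 2} (hQ : InvForm Q) (g : Co0) (u v : leechLattice) :
    polar Q (g • u) (g • v) = polar Q u v := by
  simp only [polar, ← smul_add', hQ.inv]

theorem radical_top {Q : leechLattice → ZMod 2} (hQ : InvForm Q)
    (h : ∀ v, polar Q f8 v = 0) : Q = 0 := by
  have hdbl : ∀ z u : leechLattice, polar Q (z + z) u = 0 := fun z u => by
    rw [polar_symm, polar_add hQ]; exact CharTwo.add_self_eq_zero _
  let R : AddSubgroup Vec :=
    { carrier := {x | ∃ hx : x ∈ leechLattice, ∀ v, polar Q ⟨x, hx⟩ v = 0}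
      zero_mem' := ⟨zero_mem _, fun v => by
        show polar Q 0 v = 0
        simp [polar, zero' hQ]; exact CharTwo.add_self_eq_zero _⟩
      add_mem' := fun {x y} hx hy => ⟨add_mem hx.1 hy.1, fun v => by
        show polar Q (⟨x, hx.1⟩ + ⟨y, hy.1⟩) v = 0
        rw [polar_symm, polar_add hQ, polar_symm v, polar_symm v, hx.2, hy.2, add_zero]⟩
      neg_mem' := fun {x} hx => ⟨neg_mem hx.1, fun v => by
        show polar Q (-⟨x, hx.1⟩) v = 0
        have e := polar_add hQ v (⟨x, hx.1⟩ : leechLattice) (-⟨x, hx.1⟩)
        rw [add_neg_cancel, polar_symm v ⟨x, hx.1⟩, hx.2, zero_add, polar_symm v (-_)] at e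
        rw [← e]
        simp [polar, zero' hQ]; exact CharTwo.add_self_eq_zero _⟩ }
  have hR : R = leechLattice := by
    refine eq_top ⟨?_, fun x hx => hx.1, ?_⟩ ⟨eightVec, ⟨eight_mem, h⟩, ?_⟩
    · rintro x ⟨z, hz, rfl⟩
      refine ⟨nsmul_mem hz 2, fun v => ?_⟩
      rw [show (⟨2 • z, nsmul_mem hz 2⟩ : leechLattice) = ⟨z, hz⟩ + ⟨z, hz⟩ from
        Subtype.ext (two_nsmul z)]
      exact hdbl _ v
    · rintro g v ⟨hv, hall⟩
      refine ⟨(g • v).2, fun w => ?_⟩
      show polar Q (g • v) w = 0
      rw [show w = g • (g⁻¹ • w) from (smul_inv_smul g w).symm, polar_smul hQ]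
      exact hall _
    · rintro ⟨z, hz, e⟩
      have hn : sqNorm eightVec = 64 := by decide +kernel
      rw [e, two_nsmul, sqNorm_add] at hn
      have : dotInt z z = sqNorm z := by simp [dotInt, sqNorm, sq]
      rw [this] at hn
      by_cases h0 : z = 0
      · subst h0; simp [sqNorm] at hn
      · have := min_norm hz h0; omega
  have hadd : ∀ u v, Q (u + v) = Q u + Q v := fun u v => by
    have h' : (u : Vec) ∈ R := hR.symm ▸ u.2
    have := h'.2 v
    revert this
    show polar Q u v = 0 → _
    simp only [polar]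
    generalize Q (u + v) = a
    generalize Q u = b
    generalize Q v = c
    revert a b c; decide
  have h0 := Cfsg.Agent.LeechAut.Functional.eq_zero (AddMonoidHom.mk' Q hadd) (fun g v => hQ.inv g v)
  exact funext fun v => DFunLike.congr_fun h0 v

theorem polar_frame {Q : leechLattice → ZMod 2} (hQ : InvForm Q) (v : leechLattice) :
    polar Q f8 v = polar Q f8 ⟨oddVec, oddVec_mem.1⟩ * (((v : Vec) none : ℤ) : ZMod 2) := by
  refine eq_parity (AddMonoidHom.mk' (fun v => polar Q f8 v) (polar_add hQ f8)) (fun d hd w => ?_) v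
  show polar Q f8 (sign d hd • w) = polar Q f8 w
  rw [← polar_smul hQ (sign d hd) f8 w]
  by_cases hn : none ∈ d
  · have e : sign d hd • f8 = -f8 := Subtype.ext (funext fun i => by
      rw [sign_smul]
      by_cases hi : i = none <;> simp [LeechAut.Basic.flip, eightVec, hi, hn])
    rw [e]
    have h := polar_add hQ (sign d hd • w) f8 (-f8)
    rw [add_neg_cancel, polar_symm (sign d hd • w) f8, polar_symm (sign d hd • w) (-f8)] at h
    have h0 : polar Q (sign d hd • w) 0 = 0 := by simp [polar, zero' hQ]; exact CharTwo.add_self_eq_zero _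
    rw [h0] at h
    revert h
    generalize polar Q f8 (sign d hd • w) = a
    generalize polar Q (-f8) (sign d hd • w) = b
    revert a b; decide
  · have e : sign d hd • f8 = f8 := Subtype.ext (funext fun i => by
      rw [sign_smul]
      by_cases hi : i = none <;> simp [LeechAut.Basic.flip, eightVec, hi, hn])
    rw [e]

/-- The form `sqNorm / 16`. -/
def qform (v : leechLattice) : ZMod 2 := ((sqNorm (v : Vec) / 16 : ℤ) : ZMod 2)

/-- Half the inner products. -/
def hdot (u v : leechLattice) : ℤ := dotInt (u : Vec) (v : Vec) / 8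

theorem qform_add (u v : leechLattice) :
    sqNorm ((u + v : leechLattice) : Vec) / 16 =
      sqNorm (u : Vec) / 16 + sqNorm (v : Vec) / 16 + hdot u v ∧ dotInt (u : Vec) (v : Vec) = 8 * hdot u v := by
  have e := sqNorm_add (u : Vec) (v : Vec)
  have h1 := sixteen_dvd_sqNorm u.2
  have h2 := sixteen_dvd_sqNorm v.2
  have h3 := sixteen_dvd_sqNorm (u + v).2
  rw [AddSubgroup.coe_add] at h3 ⊢
  unfold hdot
  omega

theorem hdot_add (u v w : leechLattice) : hdot u (v + w) = hdot u v + hdot u w := by
  have e : dotInt (u : Vec) ((v + w : leechLattice) : Vec) = dotInt (u : Vec) (v : Vec) + dotInt (u : Vec) (w : Vec) := by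
    simp only [dotInt, AddSubgroup.coe_add, Pi.add_apply, mul_add, Finset.sum_add_distrib]
  have h1 := (qform_add u v).2
  have h2 := (qform_add u w).2
  have h3 := (qform_add u (v + w)).2
  omega

theorem qform_inv : InvForm qform where
  coset v w := by
    have h1 := (qform_add v (w + w)).1
    have h2 := (qform_add w w).1
    have h3 : hdot w w = 2 * (sqNorm (w : Vec) / 16) := by
      have e : dotInt (w : Vec) (w : Vec) = sqNorm (w : Vec) := by simp [dotInt, sqNorm, sq]
      have := (qform_add w w).2
      have := sixteen_dvd_sqNorm w.2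
      omega
    have h4 := hdot_add v w w
    simp only [qform]
    rw [ZMod.intCast_eq_intCast_iff']
    omega
  quad u v w := by
    simp only [qform, ← Int.cast_add]
    have h1 := (qform_add (u + v) w).1
    have h2 := (qform_add u v).1
    have h3 := (qform_add u w).1
    have h4 := (qform_add v w).1
    have h5 : hdot (u + v) w = hdot u w + hdot v w := by
      have hs : ∀ x y, hdot x y = hdot y x := fun x y => by simp [hdot, dotInt, mul_comm]
      rw [hs, hdot_add, hs w u, hs w v]
    rw [ZMod.intCast_eq_intCast_iff']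
    omega
  inv g v := by simp only [qform, sqNorm_smul]

theorem qform_frame : polar qform f8 ⟨oddVec, oddVec_mem.1⟩ = 1 := by
  show (((sqNorm (eightVec + oddVec)) / 16 : ℤ) : ZMod 2) + ((sqNorm eightVec / 16 : ℤ) : ZMod 2) +
    ((sqNorm oddVec / 16 : ℤ) : ZMod 2) = 1
  rw [show sqNorm (eightVec + oddVec) / 16 = 3 by decide +kernel,
    show sqNorm eightVec / 16 = 4 by decide +kernel, show sqNorm oddVec / 16 = 2 by decide +kernel]
  decide

/-- On the Leech lattice of the definitions, let Q be a function to the field with two elements that is constant on cosets of twice the lattice, is a quadratic form there (Q(u+v+w) + Q(u) + Q(v) + Q(w) = Q(u+v) + Q(u+w) + Q(v+w) for all u, v, w), is invariant under every lattice automorphism, and is not identically zero. Then Q(v) is the squared length of v divided by 16, reduced modulo 2, for every lattice vector v (squared lengths of lattice vectors are multiples of 16). -/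
theorem result (Q : ↥Cfsg.leechLattice → ZMod 2) (hcoset : ∀ v w : ↥Cfsg.leechLattice, Q (v + (w + w)) = Q v) (hquad : ∀ u v w : ↥Cfsg.leechLattice, Q (u + v + w) + Q u + Q v + Q w = Q (u + v) + Q (u + w) + Q (v + w)) (hinv : ∀ (g : ↥Cfsg.Co0) (v : ↥Cfsg.leechLattice), Q (g • v) = Q v) (hne : ∃ v : ↥Cfsg.leechLattice, Q v ≠ 0) (v : ↥Cfsg.leechLattice) : Q v = ((Cfsg.sqNorm (v : Cfsg.GolayPt → ℤ) / 16 : ℤ) : ZMod 2) := by
  have hQ : InvForm Q := ⟨hcoset, hquad, hinv⟩
  have hq := qform_inv
  have ha : polar Q f8 ⟨oddVec, oddVec_mem.1⟩ = 1 := by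
    by_contra h
    have h0 : polar Q f8 ⟨oddVec, oddVec_mem.1⟩ = 0 :=
      (show ∀ a : ZMod 2, a ≠ 1 → a = 0 by decide) _ h
    obtain ⟨u, hu⟩ := hne
    exact hu (congrFun (radical_top hQ fun u => by rw [polar_frame hQ, h0, zero_mul]) u)
  have hD : InvForm (fun v => Q v + qform v) :=
    { coset := fun a b => by rw [hQ.coset, hq.coset]
      quad := fun a b c => by linear_combination hQ.quad a b c + hq.quad a b c
      inv := fun g a => by rw [hQ.inv, hq.inv] }
  have h0 := congrFun (radical_top hD fun u => by
    have e : polar (fun v => Q v + qform v) f8 u = polar Q f8 u + polar qform f8 u := by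
      simp only [polar]; ring
    rw [e, polar_frame hQ, polar_frame hq, ha, qform_frame]
    exact CharTwo.add_self_eq_zero _) v
  show Q v = qform v
  exact CharTwo.add_eq_zero.1 h0

end Cfsg.Agent.S5552
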