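import Cfsg.Statements.S5555
import Cfsg.Agent.Lib.ThreeTransp.TwoQuotientSplit
import Cfsg.Agent.Lib.ThreeTransp.SUThreeTwo
import Cfsg.Agent.Lib.Components.Fitting

set_option autoImplicit false
open Cfsg

namespace Cfsg.Agent.S5555

open Cfsg.Agent.ThreeTransp

/-- Let G be a finite group generated by a conjugacy class D of 3-transpositions, with trivial centre and with generalized Fitting subgroup F*(G) = O₂(G) (so the Fitting subgroup is O₂(G) too). If G/O₂(G) is isomorphic to the derived group of SU₃(2) (the group of order 54 generated by nine 3-transpositions), then O₂(G) has a complement in G. -/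
theorem result {G : Type*} [Group G] [Finite G] {D : Set G} (hD : Cfsg.IsThreeTranspositionClass D)
    (hZ : Subgroup.center G = ⊥) (hF : Cfsg.generalizedFittingSubgroup G = Cfsg.pCore 2 G)
    (hq : ∃ (F : Type) (_ : Field F) (_ : Fintype F), Fintype.card F = 4 ∧ Nonempty (G ⧸ Cfsg.pCore 2 G ≃* ↥(commutator ↥(Cfsg.SU 3 F 2)))) :
    ∃ K : Subgroup G, (Cfsg.pCore 2 G).IsComplement' K := by
  haveI : Fact (Nat.Prime 3) := ⟨Nat.prime_three⟩
  obtain ⟨F, iF, iFF, h4, ⟨e⟩⟩ := hq
  obtain ⟨u', y', z', d', hR', hinj', hgen'⟩ := SUThreeTwo.exists_rels h4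
  obtain ⟨hG, htr⟩ := Classes.of_class hD
  have hC : Subgroup.centralizer (Cfsg.pCore 2 G : Set G) ≤ Cfsg.pCore 2 G := by
    have := Components.Fitting.centralizer_genFitting_le (G := G)
    rwa [hF] at this
  set f := e.symm.toMonoidHom with hf
  set u := f u' with hu
  set y := f y' with hy
  set z := f z' with hz
  set db := f d' with hdb
  have hnf : ∀ p, Heis.nf u y z db p = f (Heis.nf u' y' z' d' p) := fun p => by
    simp [Heis.nf, hu, hy, hz, hdb, map_mul, map_pow]
  have hR : Heis.Rels u y z db := ⟨by rw [hu, ← map_pow, hR'.u3, map_one],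
    by rw [hy, ← map_pow, hR'.y3, map_one], by rw [hz, ← map_pow, hR'.z3, map_one],
    by rw [hdb, ← map_mul, hR'.d2, map_one], hR'.zu.map f, hR'.zy.map f, hR'.zd.map f,
    by rw [hu, hy, hz, ← map_mul, ← map_mul, ← map_mul, hR'.yu],
    by rw [hu, hdb, ← map_mul, ← map_mul, hR'.du, map_inv],
    by rw [hy, hdb, ← map_mul, ← map_mul, hR'.dy, map_inv]⟩
  have hinj : Function.Injective (Heis.nf u y z db) := fun p q h => by
    rw [hnf, hnf] at h
    exact hinj' (e.symm.injective h)
  have hgen : Subgroup.closure ({u, y, db} : Set (G ⧸ Cfsg.pCore 2 G)) = ⊤ := by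
    rw [show ({u, y, db} : Set (G ⧸ Cfsg.pCore 2 G)) = f '' {u', y', d'} by
      simp [Set.image_insert_eq, hu, hy, hdb], ← MonoidHom.map_closure, hgen',
      Subgroup.map_top_of_surjective]
    exact e.symm.surjective
  set P := Subgroup.closure ({u, y} : Set (G ⧸ Cfsg.pCore 2 G)) with hP
  have mu : u ∈ P := Subgroup.subset_closure (Set.mem_insert _ _)
  have my : y ∈ P := Subgroup.subset_closure (Set.mem_insert_of_mem _ rfl)
  have mz : z ∈ P := by
    have : z = y * u * (u * y)⁻¹ := by rw [hR.yu, mul_inv_cancel_right]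
    rw [this]
    exact mul_mem (mul_mem my mu) (inv_mem (mul_mem mu my))
  have hcP : Nat.card P = 3 ^ 3 := by
    let g : ZMod 3 × ZMod 3 × ZMod 3 → P := fun p =>
      ⟨Heis.nf u y z db (p.1, p.2.1, p.2.2, 0), by
        simp only [Heis.nf, ZMod.val_zero, pow_zero, mul_one]
        exact mul_mem (mul_mem (pow_mem mz _) (pow_mem my _)) (pow_mem mu _)⟩
    have hg : Function.Bijective g := by
      refine ⟨fun p q h => ?_, fun ⟨x, hx⟩ => ?_⟩
      · have := hinj (congrArg Subtype.val h)
        simp only [Prod.mk.injEq, and_true] at this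
        exact Prod.ext this.1 (Prod.ext this.2.1 this.2.2)
      · obtain ⟨a, b, c, rfl⟩ := Heis.closure_form hR hx
        refine ⟨((a : ZMod 3), (b : ZMod 3), (c : ZMod 3)), Subtype.ext ?_⟩
        show Heis.nf u y z db _ = _
        simp [Heis.nf, ZMod.val_natCast, ← pow_eq_pow_mod, hR.z3, hR.y3, hR.u3]
    rw [← Nat.card_congr (Equiv.ofBijective g hg)]
    simp [Nat.card_eq_fintype_card]
  have h54 := Heis.natCard_eq hR hinj hgen
  have hidx : P.index = 2 := by
    have := P.card_mul_index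
    rw [hcP, h54] at this
    omega
  haveI hPn : P.Normal := Subgroup.normal_of_index_eq_two hidx
  have hp3 : IsPGroup 3 P := IsPGroup.of_card hcP
  have hz1 : z ≠ 1 := fun h => by
    have := hinj (a₁ := (1, 0, 0, 0)) (a₂ := (0, 0, 0, 0))
      (by simp [Heis.nf, h])
    simp at this
  have hu1 : u ≠ 1 := fun h => by
    have := hinj (a₁ := (0, 0, 1, 0)) (a₂ := (0, 0, 0, 0)) (by simp [Heis.nf, h])
    simp at this
  have hdP : db ∉ P := fun h => by
    obtain ⟨a, b, c, habc⟩ := Heis.closure_form hR h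
    exact Heis.d_ne_form hR (fun k hk => by
      have := hinj (a₁ := (0, 0, 1, 0)) (a₂ := ((k : ZMod 3), 0, 0, 0))
        (by simp [Heis.nf, ZMod.val_natCast, ← pow_eq_pow_mod, hR.z3, ← hk, ZMod.val_one])
      simp at this) a b c habc
  obtain ⟨e0, he0, he0P⟩ : ∃ e0 ∈ D, TwoQuotient.pr G e0 ∉ P := by
    by_contra hcon
    push Not at hcon
    have : (⊤ : Subgroup G) ≤ P.comap (TwoQuotient.pr G) := by
      rw [← hG.2.2, Subgroup.closure_le]
      exact hcon
    obtain ⟨g, hg⟩ := QuotientGroup.mk'_surjective _ db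
    exact hdP (hg ▸ this (Subgroup.mem_top g))
  -- move the member over `db`
  set w := TwoQuotient.pr G e0 with hw
  set p := w * db with hp
  have hw2 : w * w = 1 := by rw [hw, ← map_mul, Classes.sq hG he0, map_one]
  have hpP : p ∈ P := (P.mul_mem_iff_of_index_two hidx).2 (iff_of_false he0P hdP)
  have hpinv : db * p * db = p⁻¹ := by
    rw [hp, mul_inv_rev, inv_eq_of_mul_eq_one_right hR.d2, inv_eq_of_mul_eq_one_right hw2, mul_assoc,
      mul_assoc, hR.d2, mul_one]
  obtain ⟨j, -, hj⟩ := TwoQuotient.exists_conj_sqrt hR.d2 hpinv (by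
    obtain ⟨k, hk⟩ := IsPGroup.iff_orderOf.1 hp3 ⟨p, hpP⟩
    rw [Subgroup.orderOf_mk] at hk
    rw [hk]; exact (by decide : Odd 3).pow)
  obtain ⟨g, rfl⟩ := QuotientGroup.mk'_surjective _ j
  have hd : g⁻¹ * e0 * g ∈ D := Classes.inv_conj_mem hG g he0
  have hpd : TwoQuotient.pr G (g⁻¹ * e0 * g) = db := by
    rw [hp, mul_assoc w, hR.d2, mul_one] at hj
    rw [map_mul, map_mul, map_inv, ← hw, ← hj]
    group
  have S : TwoQuotient.Setup D P (g⁻¹ * e0 * g) :=
    ⟨hG, htr, hC, hPn, hp3, hidx, hd, by rw [hpd]; exact hdP⟩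
  obtain ⟨a, b, c, t, hRH, ea, eb, ec, et⟩ :=
    TwoQuotient.exists_lifted_rels S (hpd.symm ▸ hR) mu my hz1 hu1
  exact TwoQuotient.exists_complement hR hinj hgen hRH ea eb ec (et.trans hpd)

end Cfsg.Agent.S5555
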