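import Cfsg.Statements.S5558
import Cfsg.Agent.Lib.ThreeTransp.UniqueFibre
import Cfsg.Agent.Lib.Components.Fitting

set_option autoImplicit false
open Cfsg

namespace Cfsg.Agent.S5558

/-- Automorphisms of an abelian group as additive endomorphisms. -/
def endHom (A : Type*) [CommGroup A] : MulAut A →* AddMonoid.End (Additive A) where
  toFun σ := MonoidHom.toAdditive σ.toMonoidHom
  map_one' := rfl
  map_mul' _ _ := rfl

/-- Let G be a finite group generated by a conjugacy class D of 3-transpositions, with trivial centre and with generalized Fitting subgroup F*(G) = O₂(G) (so the Fitting subgroup is O₂(G) too). If moreover O₂(G) is elementary abelian, then D is the only conjugacy class of 3-transpositions generating G. -/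
theorem result {G : Type*} [Group G] [Finite G] {D : Set G} (hD : Cfsg.IsThreeTranspositionClass D)
    (hZ : Subgroup.center G = ⊥) (hF : Cfsg.generalizedFittingSubgroup G = Cfsg.pCore 2 G)
    (hV : Cfsg.IsElementaryAbelian 2 (Cfsg.pCore 2 G)) :
    ∀ E : Set G, Cfsg.IsThreeTranspositionClass E → E = D := by
  obtain ⟨hcomm, hexp⟩ := hV
  haveI := Cfsg.Agent.Cores.pCore_normal (G := G) 2
  letI : CommGroup (Cfsg.pCore 2 G) :=
    { (inferInstance : Group (Cfsg.pCore 2 G)) with mul_comm := fun a b => hcomm.is_comm.comm a b }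
  intro E hE
  refine Cfsg.Agent.ThreeTransp.Unique.class_unique
    (ρ := (endHom (Cfsg.pCore 2 G)).comp MulAut.conjNormal)
    (emb := fun v : Additive (Cfsg.pCore 2 G) => ((Additive.toMul v : Cfsg.pCore 2 G) : G))
    ⟨?_, fun _ _ => rfl, ?_, ?_, fun _ _ => rfl, ?_, hZ⟩ hD hE
  · intro v
    apply Additive.toMul.injective
    apply Subtype.ext
    show ((Additive.toMul v : Cfsg.pCore 2 G) : G) * (Additive.toMul v : Cfsg.pCore 2 G) = 1
    rw [← pow_two]
    exact hexp _ (Additive.toMul v).2
  · exact fun u v h => Additive.toMul.injective (Subtype.ext h)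
  · exact fun x => ⟨fun hx => ⟨Additive.ofMul ⟨x, hx⟩, rfl⟩, fun ⟨v, hv⟩ => hv ▸ (Additive.toMul v).2⟩
  · intro g
    constructor
    · intro h
      rw [← hF]
      refine Cfsg.Agent.Components.Fitting.centralizer_genFitting_le ?_
      rw [hF, Subgroup.mem_centralizer_iff]
      intro x hx
      have h1 := congrArg (fun σ : AddMonoid.End (Additive (Cfsg.pCore 2 G)) =>
        ((Additive.toMul (σ (Additive.ofMul ⟨x, hx⟩)) : Cfsg.pCore 2 G) : G)) h
      have h2 : g * x * g⁻¹ = x := h1
      exact (mul_inv_eq_iff_eq_mul.1 h2).symm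
    · intro hg
      refine AddMonoidHom.ext fun v => ?_
      apply Additive.toMul.injective
      apply Subtype.ext
      show g * ((Additive.toMul v : Cfsg.pCore 2 G) : G) * g⁻¹ = _
      rw [mul_inv_eq_iff_eq_mul]
      exact congrArg Subtype.val (mul_comm (⟨g, hg⟩ : Cfsg.pCore 2 G) (Additive.toMul v))

end Cfsg.Agent.S5558
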