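import Cfsg.Statements.S5559
import Cfsg.Agent.Lib.ThreeTransp.TwoQuotientShape
import Cfsg.Agent.Lib.ThreeTransp.SUThreeTwo
import Cfsg.Agent.Lib.Components.Fitting

set_option autoImplicit false
open Cfsg

namespace Cfsg.Agent.S5559

open Cfsg.Agent.ThreeTransp

/-- Let H be a finite group generated by a conjugacy class E of 3-transpositions with at least two members, with F*(H) = O₂(H), and such that H/O₂(H) has a normal Sylow 3-subgroup of 2-power index (that is, H = O_{2,3,2}(H)). Then H/O₂(H) is isomorphic to the symmetric group of degree 3 or to the derived group of SU₃(2) (of order 54). -/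
theorem result {H : Type*} [Group H] [Finite H] {E : Set H} (hE : Cfsg.IsThreeTranspositionClass E)
    (hE2 : ∃ a ∈ E, ∃ b ∈ E, a ≠ b) (hF : Cfsg.generalizedFittingSubgroup H = Cfsg.pCore 2 H)
    (h232 : ∃ P : Sylow 3 (H ⧸ Cfsg.pCore 2 H), (P : Subgroup (H ⧸ Cfsg.pCore 2 H)).Normal ∧
      ∃ k : ℕ, (P : Subgroup (H ⧸ Cfsg.pCore 2 H)).index = 2 ^ k) :
    Nonempty (H ⧸ Cfsg.pCore 2 H ≃* Equiv.Perm (Fin 3)) ∨
      ∃ (F : Type) (_ : Field F) (_ : Fintype F), Fintype.card F = 4 ∧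
        Nonempty (H ⧸ Cfsg.pCore 2 H ≃* ↥(commutator ↥(Cfsg.SU 3 F 2))) := by
  haveI : Fact (Nat.Prime 2) := ⟨Nat.prime_two⟩
  haveI : Fact (Nat.Prime 3) := ⟨Nat.prime_three⟩
  obtain ⟨P, hPn, k, hk⟩ := h232
  haveI := hPn
  obtain ⟨hG, htr⟩ := Classes.of_class hE
  have hC : Subgroup.centralizer (Cfsg.pCore 2 H : Set H) ≤ Cfsg.pCore 2 H := by
    have := Components.Fitting.centralizer_genFitting_le (G := H)
    rwa [hF] at this
  obtain ⟨d, hd⟩ : ∃ d, d ∈ E := ⟨_, hE2.choose_spec.1⟩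
  obtain ⟨e0, he0, hde0⟩ := Classes.exists_noncomm hG htr hE2 hd
  have hout : ∀ e ∈ E, TwoQuotient.pr H e ≠ 1 := by
    intro e he h
    have hEQ : E ⊆ Cfsg.pCore 2 H := fun x hx => by
      obtain ⟨g, rfl⟩ := htr e he x hx
      exact TwoQuotient.conj_mem_core (TwoQuotient.pr_eq_one.1 h) g
    exact hde0 (Basic.commute_of_pGroup hG.1 Nat.prime_two (by norm_num) (Cores.pCore_isPGroup 2) hd he0
      (mul_mem (hEQ hd) (hEQ he0)))
  have hdP : TwoQuotient.pr H d ∉ (P : Subgroup (H ⧸ Cfsg.pCore 2 H)) := by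
    intro h
    refine hout d hd (Classes.eq_one_of_mem_pGroup Nat.prime_three P.2 h (n := 2) ?_ (by norm_num))
    rw [← map_pow, pow_two, Classes.sq hG hd, map_one]
  have hidx : (P : Subgroup (H ⧸ Cfsg.pCore 2 H)).index = 2 := by
    let ρ := (QuotientGroup.mk' (P : Subgroup (H ⧸ Cfsg.pCore 2 H))).comp (TwoQuotient.pr H)
    have hρs : Function.Surjective ρ :=
      (QuotientGroup.mk'_surjective _).comp (QuotientGroup.mk'_surjective _)
    have h2 : IsPGroup 2 ((H ⧸ Cfsg.pCore 2 H) ⧸ (P : Subgroup (H ⧸ Cfsg.pCore 2 H))) :=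
      IsPGroup.of_card (n := k) (by rw [← hk]; rfl)
    have hcomm : ∀ a ∈ E, ∀ b ∈ E, Commute (ρ a) (ρ b) := by
      intro a ha b hb
      rcases hG.1.2 a ha b hb with h | h
      · exact ((Basic.sq_prod_eq_one_iff (Classes.sq hG ha) (Classes.sq hG hb)).1 h).map ρ
      · have h1 : ρ (a * b) = 1 := by
          refine Classes.eq_one_of_mem_pGroup Nat.prime_two (h2.to_subgroup ⊤) (Subgroup.mem_top _) (n := 3)
            ?_ (by norm_num)
          rw [← map_pow, h, map_one]
        rw [map_mul] at h1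
        rw [eq_inv_of_mul_eq_one_left h1]
        exact (Commute.refl _).inv_left
    have hcen : ∀ g : H, Commute (ρ g) (ρ d) := by
      intro g
      have hg : g ∈ Subgroup.closure E := hG.2.2 ▸ Subgroup.mem_top g
      induction hg using Subgroup.closure_induction with
      | mem x hx => exact hcomm x hx d hd
      | one => rw [map_one]; exact Commute.one_left _
      | mul x y _ _ hx hy => rw [map_mul]; exact hx.mul_left hy
      | inv x _ hx => rw [map_inv]; exact hx.inv_left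
    have htop : Subgroup.zpowers (ρ d) = ⊤ := by
      rw [eq_top_iff, ← Subgroup.map_top_of_surjective ρ hρs, ← hG.2.2, MonoidHom.map_closure,
        Subgroup.closure_le]
      rintro _ ⟨x, hx, rfl⟩
      obtain ⟨g, rfl⟩ := htr d hd x hx
      rw [map_mul, map_mul, map_inv, (hcen g).eq, mul_inv_cancel_right]
      exact Subgroup.mem_zpowers _
    have hne : ρ d ≠ 1 := fun h => hdP ((QuotientGroup.eq_one_iff _).1 h)
    show Nat.card ((H ⧸ Cfsg.pCore 2 H) ⧸ (P : Subgroup (H ⧸ Cfsg.pCore 2 H))) = 2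
    rw [← Subgroup.card_top, ← htop, Nat.card_zpowers]
    exact orderOf_eq_prime (by rw [← map_pow, pow_two, Classes.sq hG hd, map_one]) hne
  have S : TwoQuotient.Setup E (P : Subgroup (H ⧸ Cfsg.pCore 2 H)) d :=
    ⟨hG, htr, hC, hPn, P.2, hidx, hd, hdP⟩
  by_cases hab : ∀ a ∈ (P : Subgroup (H ⧸ Cfsg.pCore 2 H)), ∀ b ∈ (P : Subgroup (H ⧸ Cfsg.pCore 2 H)),
      Commute a b
  · left
    obtain ⟨i, hi, hne, h6⟩ := TwoQuotient.card_eq_six S hE2 hab
    exact TwoQuotient.equiv_perm_three h6 (TwoQuotient.sq_pr S) (hout d hd) hi.2 hne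
      (TwoQuotient.inv_cube S hi)
  · right
    obtain ⟨u, y, z, hR, hinj, hgen⟩ := TwoQuotient.exists_rels S hab
    haveI : Fintype (GaloisField 2 2) := Fintype.ofFinite _
    have h4 : Fintype.card (GaloisField 2 2) = 4 := by
      rw [← Nat.card_eq_fintype_card, GaloisField.card 2 2 (by norm_num)]; norm_num
    obtain ⟨u', y', z', d', hR', hinj', hgen'⟩ := SUThreeTwo.exists_rels h4
    exact ⟨GaloisField 2 2, inferInstance, inferInstance, h4,
      Heis.nonempty_equiv hR hR' hinj hinj' hgen hgen'⟩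

end Cfsg.Agent.S5559
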