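import Cfsg.Statements.S5562
import Cfsg.Agent.Lib.Involutions.Basic
import Cfsg.Agent.Lib.ThreeTransp.Dihedral

set_option autoImplicit false
open Cfsg

namespace Cfsg.Agent.S5562

open Cfsg.Agent.Involutions.Basic
open Cfsg.Agent.ThreeTransp

/-- Let G be a finite group, d an involution of G whose conjugates pairwise have products of odd order, and x any involution of G. Then the conjugacy class of d is the disjoint union, over the conjugates a of d commuting with x, of the sets of conjugates of d commuting with ax: every conjugate of d commutes with ax for exactly one conjugate a of d that commutes with x. -/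
theorem result {G : Type*} [Group G] [Finite G] (d : G) (hd : orderOf d = 2)
    (hodd : ∀ a ∈ conjugatesOf d, ∀ b ∈ conjugatesOf d, Odd (orderOf (a * b)))
    (x : G) (hx : orderOf x = 2) :
    ∀ e ∈ conjugatesOf d,
      ∃! a : G, a ∈ conjugatesOf d ∧ Commute a x ∧ Commute e (a * x) := by
  have hord : ∀ a ∈ conjugatesOf d, orderOf a = 2 := by
    intro a ha
    obtain ⟨g, rfl⟩ := isConj_iff.1 ha
    rw [orderOf_conj, hd]
  intro e he
  have hE := hord e he
  set f := x * e * x⁻¹ with hf
  have hfC : f ∈ conjugatesOf d := Dihedral.conjugatesOf_conj d x he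
  have hF := hord f hfC
  have hx2 := inv_sq_one hx
  have uniq : ∀ s ∈ conjugatesOf d, ∀ s' ∈ conjugatesOf d,
      s * e * s = f → s' * e * s' = f → s = s' := by
    intro s hs s' hs' h1 h2
    have hS := hord s hs
    have hS' := hord s' hs'
    set r := s * s' with hr
    have hre : e * r * e⁻¹ = r := by
      have hsf : s * f * s = e := by
        rw [← h1]; simp [← mul_assoc, inv_sq_one hS, mul_assoc _ s s]
      have h0 : r * e * r⁻¹ = e := by
        rw [hr, mul_inv_rev, inv_eq hS, inv_eq hS']
        calc s * s' * e * (s' * s) = s * (s' * e * s') * s := by simp [mul_assoc]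
          _ = e := by rw [h2, hsf]
      have : r * e = e * r := mul_inv_eq_iff_eq_mul.1 h0
      rw [← this, mul_inv_cancel_right]
    have hsr : s * r * s⁻¹ = r⁻¹ := conj_prod_left hS hS'
    have hes : ∀ k : ℕ, (e * s) ^ k * r * ((e * s) ^ k)⁻¹ = r ^ ((-1 : ℤ) ^ k) := by
      intro k
      induction k with
      | zero => simp
      | succ k ih =>
        have hstep : e * s * r * (e * s)⁻¹ = r⁻¹ := by
          calc e * s * r * (e * s)⁻¹ = e * (s * r * s⁻¹) * e⁻¹ := by simp [mul_assoc]
            _ = (e * r * e⁻¹)⁻¹ := by rw [hsr]; simp [mul_assoc]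
            _ = r⁻¹ := by rw [hre]
        calc (e * s) ^ (k + 1) * r * ((e * s) ^ (k + 1))⁻¹
            = (e * s) * ((e * s) ^ k * r * ((e * s) ^ k)⁻¹) * (e * s)⁻¹ := by
              rw [pow_succ']; simp [mul_assoc]
          _ = _ := by rw [ih, ← conj_zpow, hstep, inv_zpow, ← zpow_neg, pow_succ, mul_neg_one]
    obtain ⟨m, hm⟩ := hodd e he s hs
    have h3 := hes (orderOf (e * s))
    rw [pow_orderOf_eq_one, hm] at h3
    simp [pow_succ, pow_mul] at h3
    have h4 : r ^ 2 = 1 := by
      rw [pow_two]
      nth_rw 1 [h3]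
      exact inv_mul_cancel r
    have h5 := orderOf_dvd_of_pow_eq_one h4
    obtain ⟨l, hl⟩ := hodd s hs s' hs'
    rw [← hr] at hl
    rcases (Nat.dvd_prime Nat.prime_two).1 h5 with h6 | h6
    · rw [orderOf_eq_one_iff] at h6
      rw [eq_inv_of_mul_eq_one_left h6, inv_eq hS']
    · omega
  obtain ⟨m, hm⟩ := hodd e he f hfC
  set a := e * (e * f) ^ (m + 1) with ha
  have haC : a ∈ conjugatesOf d :=
    Dihedral.mem_of_mul_pow (fun g y hy => Dihedral.conjugatesOf_conj d g hy) hE hF he hfC _
  have haf : a * e * a = f := by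
    calc a * e * a = e * (e * f) ^ (m + 1) * (e * e) * (e * f) ^ (m + 1) := by
          rw [ha]; simp only [mul_assoc]
      _ = e * ((e * f) ^ (m + 1) * (e * f) ^ (m + 1)) := by
          rw [inv_sq_one hE, mul_one, mul_assoc]
      _ = f := by
          rw [← pow_add, show m + 1 + (m + 1) = orderOf (e * f) + 1 by omega, pow_succ,
            pow_orderOf_eq_one, one_mul, ← mul_assoc, inv_sq_one hE, one_mul]
  have hax : Commute a x := by
    have h2 := uniq (x * a * x⁻¹) (Dihedral.conjugatesOf_conj d x haC) a haC ?_ haf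
    · exact (mul_inv_eq_iff_eq_mul.1 h2).symm
    · have hA := hord a haC
      calc x * a * x⁻¹ * e * (x * a * x⁻¹) = x * (a * (x⁻¹ * e * x) * a) * x⁻¹ := by
            simp [mul_assoc]
        _ = x * (a * f * a) * x⁻¹ := by rw [hf, inv_eq hx]
        _ = f := by
            rw [← haf]
            simp [mul_assoc, hf]
            simp [← mul_assoc, inv_sq_one hA, mul_assoc _ a a, haf, hf]
  have hiff : ∀ s ∈ conjugatesOf d, Commute s x → (Commute e (s * x) ↔ s * e * s = f) := by
    intro s hs hsx
    have hS := inv_eq (hord s hs)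
    constructor
    · intro h
      calc s * e * s = s⁻¹ * (e * (s * x)) * x⁻¹ := by simp [hS, mul_assoc]
        _ = f := by rw [h.eq, hf]; simp [mul_assoc]
    · intro h
      show e * (s * x) = s * x * e
      calc e * (s * x) = s * (s * e * s) * x := by
            simp [← mul_assoc, inv_sq_one (hord s hs)]
        _ = s * x * e := by rw [h, hf]; simp [mul_assoc]
  refine ⟨a, ⟨haC, hax, (hiff a haC hax).2 haf⟩, fun s ⟨hs, hsx, hse⟩ => ?_⟩
  exact uniq s hs a haC ((hiff s hs hsx).1 hse) haf

end Cfsg.Agent.S5562
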