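import Cfsg.Statements.S5567
import Cfsg.Agent.Lib.J4V.Inst

set_option autoImplicit false
open Cfsg

namespace Cfsg.Agent.S5567

/-- Let G be a finite non-abelian simple group of Janko-four type (an involution z whose centralizer H has an extraspecial largest normal 2-subgroup E of order 2^13 containing its centralizer in H, a normal subgroup N ≥ E of H with N/E of order 3 and H/N the automorphism group of M₂₂, and a subgroup P ≤ N of order 3 with C_E(P) = ⟨z⟩, N_H(P) ≠ C_H(P) and P ≤ C_H(P)′). Then every elementary abelian subgroup V of G of order 2^11 contains its centralizer, and its normalizer is a split extension of V by a complement isomorphic to the Mathieu group M₂₄. -/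
theorem result {G : Type*} [Group G] [Finite G] [IsSimpleGroup G] (hG : ¬ IsMulCommutative G) (hJ : Cfsg.IsOfJankoFourType G) (V : Subgroup G) (hV : Cfsg.IsElementaryAbelian 2 V) (hcard : Nat.card ↥V = 2 ^ 11) :
    Subgroup.centralizer (V : Set G) ≤ V ∧ ∃ K : Subgroup G, K ≤ Subgroup.normalizer (V : Set G) ∧ K ⊓ V = ⊥ ∧ K ⊔ V = Subgroup.normalizer (V : Set G) ∧ Cfsg.Spor.IsoM24 ↥K := by
  obtain ⟨z, P, hP⟩ := hJ
  obtain ⟨X⟩ := Cfsg.Agent.J4Eleven.exists_chart hP
  have hVb := Cfsg.Agent.J4V.Big.of_elementary hV hcard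
  obtain ⟨g, hg⟩ := Cfsg.Agent.J4V.exists_conj_big X.L.J X.std_big hVb
  subst hg
  have hN : Subgroup.map (MulAut.conj g).toMonoidHom (Subgroup.normalizer (X.std : Set G)) =
      Subgroup.normalizer ((Cfsg.Agent.J4Local.cjS g X.std : Subgroup G) : Set G) :=
    Cfsg.Agent.J4Local.cjS_normalizer g X.std
  refine ⟨fun c hc => ?_, ?_⟩
  · rw [Cfsg.Agent.J4Local.mem_cjS]
    refine X.centralizer_std (Subgroup.mem_centralizer_iff.2 fun a ha => ?_)
    have h := Subgroup.mem_centralizer_iff.1 hc (g * a * g⁻¹) ⟨a, ha, rfl⟩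
    have h' := congrArg (fun x => g⁻¹ * x * g) h
    simpa [mul_assoc] using h'
  · obtain ⟨K, hK1, hK2, hK3, ⟨e⟩⟩ := X.exists_complement hG
    refine ⟨K.map (MulAut.conj g).toMonoidHom, ?_, ?_, ?_, ⟨?_⟩⟩
    · rw [← hN]; exact Subgroup.map_mono hK1
    · show K.map _ ⊓ X.std.map (MulAut.conj g).toMonoidHom = ⊥
      rw [← Subgroup.map_inf _ _ _ (MulAut.conj g).injective, hK2, Subgroup.map_bot]
    · rw [← hN]
      show K.map _ ⊔ X.std.map (MulAut.conj g).toMonoidHom = _
      rw [← Subgroup.map_sup, hK3]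
    · exact ((Subgroup.equivMapOfInjective K _ (MulAut.conj g).injective).symm.trans e)

end Cfsg.Agent.S5567
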