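import Cfsg.Statements.S5568
import Cfsg.Agent.Lib.J4V.Cent

set_option autoImplicit false
open Cfsg

namespace Cfsg.Agent.S5568

/-- Let G be a finite non-abelian simple group of Janko-four type (an involution z whose centralizer H has an extraspecial largest normal 2-subgroup E of order 2^13 containing its centralizer in H, a normal subgroup N ≥ E of H with N/E of order 3 and H/N the automorphism group of M₂₂, and a subgroup P ≤ N of order 3 with C_E(P) = ⟨z⟩, N_H(P) ≠ C_H(P) and P ≤ C_H(P)′). Let V be an elementary abelian subgroup of G of order 2^11. Then under conjugation by the normalizer of V the non-identity elements of V fall into an orbit of length 1771 consisting of conjugates of z and an orbit of length 276 consisting of involutions t not conjugate to z, and for such t the centralizer of t in G lies in the normalizer of V. -/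
theorem result {G : Type*} [Group G] [Finite G] [IsSimpleGroup G] (hG : ¬ IsMulCommutative G) (z : G) (hJ : Cfsg.IsOfJankoFourTypeAt z) (V : Subgroup G) (hV : Cfsg.IsElementaryAbelian 2 V) (hcard : Nat.card ↥V = 2 ^ 11) :
    ∃ z' t : G, z' ∈ V ∧ t ∈ V ∧ t ≠ 1 ∧ IsConj z z' ∧ ¬ IsConj z t ∧
    Set.ncard {v : G | ∃ n ∈ Subgroup.normalizer (V : Set G), n * z' * n⁻¹ = v} = 1771 ∧
    Set.ncard {v : G | ∃ n ∈ Subgroup.normalizer (V : Set G), n * t * n⁻¹ = v} = 276 ∧
    Subgroup.centralizer ({t} : Set G) ≤ Subgroup.normalizer (V : Set G) := by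
  obtain ⟨P, hP⟩ := hJ
  obtain ⟨X⟩ := Cfsg.Agent.J4Eleven.exists_chart hP
  have hVb := Cfsg.Agent.J4V.Big.of_elementary hV hcard
  obtain ⟨g, hg⟩ := Cfsg.Agent.J4V.exists_conj_big X.L.J X.std_big hVb
  have hmem : ∀ v : G, g * v * g⁻¹ ∈ V ↔ v ∈ X.std := fun v => by
    rw [← hg, Cfsg.Agent.J4Local.mem_cjS]; simp [mul_assoc]
  have hY : ∀ n : G, g * n * g⁻¹ ∈ Subgroup.normalizer (V : Set G) ↔ n ∈ Subgroup.normalizer (X.std : Set G) := fun n => by
    rw [← hg, ← Cfsg.Agent.J4Local.cjS_normalizer, Cfsg.Agent.J4Local.mem_cjS]; simp [mul_assoc]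
  have horb : ∀ v : G, Set.ncard {w : G | ∃ n ∈ Subgroup.normalizer (V : Set G), n * (g * v * g⁻¹) * n⁻¹ = w} =
      Set.ncard {w : G | ∃ n ∈ Subgroup.normalizer (X.std : Set G), n * v * n⁻¹ = w} := by
    intro v
    rw [← Set.ncard_image_of_injective {w : G | ∃ n ∈ Subgroup.normalizer (X.std : Set G), n * v * n⁻¹ = w}
      (f := fun w => g * w * g⁻¹) (fun a b e => mul_left_cancel (mul_right_cancel e))]
    congr 1
    ext w
    constructor
    · rintro ⟨n, hn, rfl⟩
      refine ⟨g⁻¹ * n * g * v * (g⁻¹ * n * g)⁻¹, ⟨g⁻¹ * n * g, (hY _).1 ?_, rfl⟩, by group⟩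
      simpa [mul_assoc] using hn
    · rintro ⟨_, ⟨n, hn, rfl⟩, rfl⟩
      exact ⟨g * n * g⁻¹, (hY n).2 hn, by group⟩
  obtain ⟨t0, ht, ht1, htn⟩ : {v : G | v ∈ X.std ∧ v ≠ 1 ∧ ¬ IsConj z v}.Nonempty :=
    Set.nonempty_of_ncard_ne_zero (by rw [X.others_ncard hG]; norm_num)
  refine ⟨g * z * g⁻¹, g * t0 * g⁻¹, (hmem z).2 X.z_mem_std, (hmem t0).2 ht,
    fun e => ht1 (conj_eq_one_iff.1 e), isConj_iff.2 ⟨g, rfl⟩,
    fun h => htn (h.trans (isConj_iff.2 ⟨g, rfl⟩).symm), ?_, ?_, ?_⟩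
  · rw [horb, X.zt_orbit hG]
    exact (X.params hG).2.1
  · rw [horb]
    refine Eq.trans (congrArg Set.ncard (Set.Subset.antisymm ?_ ?_)) (X.others_ncard hG)
    · rintro _ ⟨n, hn, rfl⟩
      exact ⟨Cfsg.Agent.M22Order.conj_mem_of_mem_normalizer hn ht, fun e => ht1 (conj_eq_one_iff.1 e),
        fun h => htn (h.trans (isConj_iff.2 ⟨n, rfl⟩).symm)⟩
    · rintro w ⟨hw, hw1, hwn⟩
      exact X.others_conj hG ht ht1 htn hw hw1 hwn
  · intro c hc
    have h := X.centralizer_le_of_not_zt hG ht ht1 htn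
      (show g⁻¹ * c * g ∈ Subgroup.centralizer ({t0} : Set G) from Subgroup.mem_centralizer_singleton_iff.2 (by
        have e : c * (g * t0 * g⁻¹) = g * t0 * g⁻¹ * c := Subgroup.mem_centralizer_singleton_iff.1 hc
        calc g⁻¹ * c * g * t0 = g⁻¹ * (c * (g * t0 * g⁻¹)) * g := by group
          _ = _ := by rw [e]; group))
    have := (hY _).2 h
    simpa [mul_assoc] using this

end Cfsg.Agent.S5568
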