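import Cfsg.Statements.S5570
import Cfsg.Agent.Lib.J4Ten.Recog

set_option autoImplicit false
open Cfsg

namespace Cfsg.Agent.S5570

/-- Let G be a finite non-abelian simple group of Janko-four type (an involution z whose centralizer H has an extraspecial largest normal 2-subgroup E of order 2^13 containing its centralizer in H, a normal subgroup N ≥ E of H with N/E of order 3 and H/N the automorphism group of M₂₂, and a subgroup P ≤ N of order 3 with C_E(P) = ⟨z⟩, N_H(P) ≠ C_H(P) and P ≤ C_H(P)′). Then G has self-centralizing elementary abelian subgroups of order 2^10, any two of them are conjugate, and for such a subgroup A the normalizer of A is a split extension of A by a complement isomorphic to L₅(2) under which A has no proper non-trivial invariant subgroup. -/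
theorem result {G : Type*} [Group G] [Finite G] [IsSimpleGroup G] (hG : ¬ IsMulCommutative G) (hJ : Cfsg.IsOfJankoFourType G) :
    (∃ A : Subgroup G, Cfsg.IsElementaryAbelian 2 A ∧ Nat.card ↥A = 2 ^ 10 ∧ Subgroup.centralizer (A : Set G) = A) ∧
    (∀ A A' : Subgroup G, Cfsg.IsElementaryAbelian 2 A → Nat.card ↥A = 2 ^ 10 → Subgroup.centralizer (A : Set G) = A → Cfsg.IsElementaryAbelian 2 A' → Nat.card ↥A' = 2 ^ 10 → Subgroup.centralizer (A' : Set G) = A' → ∃ g : G, A' = A.map (MulAut.conj g).toMonoidHom) ∧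
    ∀ A : Subgroup G, Cfsg.IsElementaryAbelian 2 A → Nat.card ↥A = 2 ^ 10 → Subgroup.centralizer (A : Set G) = A →
      (∃ B : Subgroup G, B ≤ Subgroup.normalizer (A : Set G) ∧ B ⊓ A = ⊥ ∧ B ⊔ A = Subgroup.normalizer (A : Set G) ∧
        Nonempty (↥B ≃* Matrix.SpecialLinearGroup (Fin 5) (ZMod 2))) ∧
      ∀ W : Subgroup G, W ≤ A → Subgroup.normalizer (A : Set G) ≤ Subgroup.normalizer (W : Set G) → W = ⊥ ∨ W = A := by
  classical
  obtain ⟨z, P, hP⟩ := hJ
  obtain ⟨X⟩ := Cfsg.Agent.J4Eleven.exists_chart hP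
  obtain ⟨F⟩ := X.exists_vframe hG
  have hconj : ∀ A A' : Subgroup G, Cfsg.IsElementaryAbelian 2 A → Nat.card ↥A = 2 ^ 10 →
      Subgroup.centralizer (A : Set G) = A → Cfsg.IsElementaryAbelian 2 A' → Nat.card ↥A' = 2 ^ 10 →
      Subgroup.centralizer (A' : Set G) = A' → ∃ g : G, Cfsg.Agent.J4Local.cjS g A = A' := by
    intro A A' h1 h2 h3 h1' h2' h3'
    obtain ⟨g, hg⟩ := X.exists_conj_base_global h1 h2 h3
    obtain ⟨g', hg'⟩ := X.exists_conj_base_global h1' h2' h3'
    refine ⟨g'⁻¹ * g, ?_⟩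
    ext a
    have := SetLike.ext_iff.1 (hg.trans hg'.symm) (g' * a * g'⁻¹)
    simp only [Cfsg.Agent.J4Local.mem_cjS] at this ⊢
    simpa [mul_assoc] using this
  refine ⟨⟨F.ta, F.ta_isElem, F.card_ta, F.centralizer_ta hG⟩, fun A A' h1 h2 h3 h1' h2' h3' => ?_,
    fun A h1 h2 h3 => ⟨?_, fun W hW hn => X.ten_irreducible hG h1 h2 h3 hW hn⟩⟩
  · obtain ⟨g, e⟩ := hconj A A' h1 h2 h3 h1' h2' h3'
    exact ⟨g, e.symm⟩
  · obtain ⟨g, rfl⟩ := hconj F.ta A F.ta_isElem F.card_ta (F.centralizer_ta hG) h1 h2 h3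
    obtain ⟨B, hB, hBi, hBs, ⟨φ⟩⟩ := F.exists_split hG
    set f := (MulAut.conj g).toMonoidHom with hf
    have hinj : Function.Injective f := (MulAut.conj g).injective
    have hN : Subgroup.normalizer ((Cfsg.Agent.J4Local.cjS g F.ta : Subgroup G) : Set G) =
        (Subgroup.normalizer (F.ta : Set G)).map f := (Cfsg.Agent.J4Local.cjS_normalizer g F.ta).symm
    refine ⟨B.map f, ?_, ?_, ?_, ⟨(B.equivMapOfInjective f hinj).symm.trans φ⟩⟩
    · rw [hN]; exact Subgroup.map_mono hB
    · show B.map f ⊓ F.ta.map f = ⊥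
      rw [← Subgroup.map_inf _ _ _ hinj, hBi, Subgroup.map_bot]
    · rw [hN]
      show B.map f ⊔ F.ta.map f = _
      rw [← Subgroup.map_sup, hBs]

end Cfsg.Agent.S5570
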