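import Cfsg.Statements.S5571
import Cfsg.Agent.Lib.J4Ten.Count

set_option autoImplicit false
open Cfsg

namespace Cfsg.Agent.S5571

/-- Let G be a finite non-abelian simple group of Janko-four type (an involution z whose centralizer H has an extraspecial largest normal 2-subgroup E of order 2^13 containing its centralizer in H, a normal subgroup N ≥ E of H with N/E of order 3 and H/N the automorphism group of M₂₂, and a subgroup P ≤ N of order 3 with C_E(P) = ⟨z⟩, N_H(P) ≠ C_H(P) and P ≤ C_H(P)′). Let A be a self-centralizing elementary abelian subgroup of G of order 2^10. Then under conjugation by the normalizer of A the non-identity elements of A fall into two orbits, of lengths 155 and 868. -/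
theorem result {G : Type*} [Group G] [Finite G] [IsSimpleGroup G] (hG : ¬ IsMulCommutative G) (hJ : Cfsg.IsOfJankoFourType G) (A : Subgroup G) (hA : Cfsg.IsElementaryAbelian 2 A) (hcard : Nat.card ↥A = 2 ^ 10) (hself : Subgroup.centralizer (A : Set G) = A) :
    ∃ a b : G, a ∈ A ∧ b ∈ A ∧ Set.ncard {v : G | ∃ n ∈ Subgroup.normalizer (A : Set G), n * a * n⁻¹ = v} = 155 ∧
    Set.ncard {v : G | ∃ n ∈ Subgroup.normalizer (A : Set G), n * b * n⁻¹ = v} = 868 := by
  classical
  obtain ⟨z, hz⟩ := hJ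
  obtain ⟨P, hP⟩ := hz
  obtain ⟨X⟩ := Cfsg.Agent.J4Eleven.exists_chart hP
  obtain ⟨g, hg⟩ := X.exists_conj_base_global hA hcard hself
  obtain ⟨B, hB⟩ := X.exists_oct
  obtain ⟨g', hg'⟩ := X.exists_conj_base_global (A := hB.ten)
    ⟨⟨⟨fun a b => Subtype.ext (hB.ten_comm a a.2 b b.2)⟩⟩, fun a ha => by rw [pow_two]; exact hB.ten_sq a ha⟩
    hB.card_ten hB.centralizer_ten
  set k := g⁻¹ * g' with hk
  have hcj : Cfsg.Agent.J4Local.cjS k hB.ten = A := by
    have e : Cfsg.Agent.J4Local.cjS g A = Cfsg.Agent.J4Local.cjS g' hB.ten := hg.trans hg'.symm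
    ext a
    have := SetLike.ext_iff.1 e (g * a * g⁻¹)
    simp only [Cfsg.Agent.J4Local.mem_cjS] at this ⊢
    simpa [hk, mul_assoc] using this.symm
  have hmem : ∀ v : G, k * v * k⁻¹ ∈ A ↔ v ∈ hB.ten := fun v => by
    rw [← hcj, Cfsg.Agent.J4Local.mem_cjS]; simp [mul_assoc]
  have hY : ∀ n : G, k * n * k⁻¹ ∈ Subgroup.normalizer (A : Set G) ↔ n ∈ Subgroup.normalizer (hB.ten : Set G) := fun n => by
    rw [← hcj, ← Cfsg.Agent.J4Local.cjS_normalizer, Cfsg.Agent.J4Local.mem_cjS]; simp [mul_assoc]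
  have horb : ∀ v : G, Set.ncard {w : G | ∃ n ∈ Subgroup.normalizer (A : Set G), n * (k * v * k⁻¹) * n⁻¹ = w} =
      (hB.orb v).ncard := by
    intro v
    rw [← Set.ncard_image_of_injective (hB.orb v)
      (f := fun w => k * w * k⁻¹) (fun a b e => mul_left_cancel (mul_right_cancel e))]
    congr 1
    ext w
    constructor
    · rintro ⟨n, hn, rfl⟩
      refine ⟨k⁻¹ * n * k * v * (k⁻¹ * n * k)⁻¹, ⟨k⁻¹ * n * k, (hY _).1 ?_, rfl⟩, by group⟩
      simpa [mul_assoc] using hn
    · rintro ⟨_, ⟨n, hn, rfl⟩, rfl⟩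
      exact ⟨k * n * k⁻¹, (hY n).2 hn, by group⟩
  obtain ⟨b, hb, hb868, -⟩ := hB.exists_others hG
  exact ⟨k * z * k⁻¹, k * b * k⁻¹, (hmem z).2 hB.z_mem_ten, (hmem b).2 hb,
    (horb z).trans (hB.ten_params hG).1, (horb b).trans hb868⟩

end Cfsg.Agent.S5571
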