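import Cfsg.Statements.S5588
import Cfsg.Agent.Lib.Components.Spider.Arms
-- import your own Cfsg.Agent.* helpers here

set_option autoImplicit false
open Cfsg

namespace Cfsg.Agent.S5588

open Cfsg.Agent.CosetCert Cfsg.Agent.Spider Cfsg.Spor.Bimonster

/-- The node with a given number. -/
def ofIdx : ℕ → Gen
  | 0 => .a | 1 => .b1 | 2 => .c1 | 3 => .d1 | 4 => .e1 | 5 => .f1
  | 6 => .b2 | 7 => .c2 | 8 => .d2 | 9 => .e2 | 10 => .f2
  | 11 => .b3 | 12 => .c3 | 13 => .d3 | 14 => .e3 | _ => .f3

theorem ofIdx_idx (x : Gen) : ofIdx (idx x) = x := by cases x <;> rfl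

theorem node (x : Gen) : x ∈ Cfsg.Spor.coxNodes edges := by cases x <;> decide

theorem enum_all (x : Gen) : x ∈ enum := by cases x <;> decide

/-- The relations hold in any group satisfying the Coxeter relators and the spider relator. -/
theorem key {A : Type*} [Group A] (φ : FreeGroup Gen →* A)
    (hcox : ∀ x y : Gen, φ ((FreeGroup.of x * FreeGroup.of y) ^ Cfsg.Spor.coxLabel edges x y) = 1)
    (hsp : φ ((a * b1 * c1 * a * b2 * c2 * a * b3 * c3) ^ 10) = 1) : ∀ r ∈ extra, φ r = 1 := by
  let g : ℕ → A := fun i => φ (FreeGroup.of (ofIdx i))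
  have hinv : ∀ i, g i * g i = 1 := fun i => by
    have h := hcox (ofIdx i) (ofIdx i)
    rw [Cfsg.Spor.coxLabel, if_pos rfl, pow_one, map_mul] at h
    exact h
  have hgi : ∀ x, g (idx x) = φ (FreeGroup.of x) := fun x => by simp only [g, ofIdx_idx]
  have hc : ∀ w ∈ coxWords, wprod g w = 1 := by
    intro w hw
    obtain ⟨x, -, hx⟩ := List.mem_flatMap.mp hw
    obtain ⟨y, -, rfl⟩ := List.mem_map.mp hx
    rw [wprod_replicate, hgi, hgi, ← map_mul, ← map_pow]
    exact hcox x y
  have hsp' : wprod g spW = 1 := by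
    rw [← hsp, show spW = (List.replicate 10 [12, 11, 0, 7, 6, 0, 2, 1, 0]).flatten by decide +kernel]
    simp only [List.replicate, List.flatten_cons, List.flatten_nil, List.cons_append, List.nil_append, wprod,
      one_mul, map_pow, map_mul, pow_succ, pow_zero, mul_assoc]
    rfl
  have main := fun P hP hPs => f_eq (g := g) hinv hc hsp' P hP hPs

  have h0 : φ (f1 * (((a * b1 * b2 * b3 * c1 * c2 * d1) ^ 9)⁻¹)) = 1 := by
    have h := main [0, 1, 2, 3, 4, 5, 6, 7, 8, 9, 10, 11, 12, 13, 14, 15] (by decide +kernel) (by decide +kernel)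
    rw [show mapWord [0, 1, 2, 3, 4, 5, 6, 7, 8, 9, 10, 11, 12, 13, 14, 15] zW = (List.replicate 9 [3, 7, 2, 11, 6, 1, 0]).flatten by decide +kernel] at h
    rw [map_mul, map_inv, mul_inv_eq_one, map_pow]
    refine h.trans ?_
    simp only [List.replicate, List.flatten_cons, List.flatten_nil, List.cons_append, List.nil_append, wprod,
      one_mul, map_mul, pow_succ, pow_zero, mul_assoc]
    rfl
  have h1 : φ (f1 * (((a * b1 * b3 * b2 * c1 * c3 * d1) ^ 9)⁻¹)) = 1 := by
    have h := main [0, 1, 2, 3, 4, 5, 11, 12, 13, 14, 15, 6, 7, 8, 9, 10] (by decide +kernel) (by decide +kernel)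
    rw [show mapWord [0, 1, 2, 3, 4, 5, 11, 12, 13, 14, 15, 6, 7, 8, 9, 10] zW = (List.replicate 9 [3, 12, 2, 6, 11, 1, 0]).flatten by decide +kernel] at h
    rw [map_mul, map_inv, mul_inv_eq_one, map_pow]
    refine h.trans ?_
    simp only [List.replicate, List.flatten_cons, List.flatten_nil, List.cons_append, List.nil_append, wprod,
      one_mul, map_mul, pow_succ, pow_zero, mul_assoc]
    rfl
  have h2 : φ (f2 * (((a * b2 * b1 * b3 * c2 * c1 * d2) ^ 9)⁻¹)) = 1 := by
    have h := main [0, 6, 7, 8, 9, 10, 1, 2, 3, 4, 5, 11, 12, 13, 14, 15] (by decide +kernel) (by decide +kernel)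
    rw [show mapWord [0, 6, 7, 8, 9, 10, 1, 2, 3, 4, 5, 11, 12, 13, 14, 15] zW = (List.replicate 9 [8, 2, 7, 11, 1, 6, 0]).flatten by decide +kernel] at h
    rw [map_mul, map_inv, mul_inv_eq_one, map_pow]
    refine h.trans ?_
    simp only [List.replicate, List.flatten_cons, List.flatten_nil, List.cons_append, List.nil_append, wprod,
      one_mul, map_mul, pow_succ, pow_zero, mul_assoc]
    rfl
  have h3 : φ (f2 * (((a * b2 * b3 * b1 * c2 * c3 * d2) ^ 9)⁻¹)) = 1 := by
    have h := main [0, 6, 7, 8, 9, 10, 11, 12, 13, 14, 15, 1, 2, 3, 4, 5] (by decide +kernel) (by decide +kernel)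
    rw [show mapWord [0, 6, 7, 8, 9, 10, 11, 12, 13, 14, 15, 1, 2, 3, 4, 5] zW = (List.replicate 9 [8, 12, 7, 1, 11, 6, 0]).flatten by decide +kernel] at h
    rw [map_mul, map_inv, mul_inv_eq_one, map_pow]
    refine h.trans ?_
    simp only [List.replicate, List.flatten_cons, List.flatten_nil, List.cons_append, List.nil_append, wprod,
      one_mul, map_mul, pow_succ, pow_zero, mul_assoc]
    rfl
  have h4 : φ (f3 * (((a * b3 * b1 * b2 * c3 * c1 * d3) ^ 9)⁻¹)) = 1 := by
    have h := main [0, 11, 12, 13, 14, 15, 1, 2, 3, 4, 5, 6, 7, 8, 9, 10] (by decide +kernel) (by decide +kernel)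
    rw [show mapWord [0, 11, 12, 13, 14, 15, 1, 2, 3, 4, 5, 6, 7, 8, 9, 10] zW = (List.replicate 9 [13, 2, 12, 6, 1, 11, 0]).flatten by decide +kernel] at h
    rw [map_mul, map_inv, mul_inv_eq_one, map_pow]
    refine h.trans ?_
    simp only [List.replicate, List.flatten_cons, List.flatten_nil, List.cons_append, List.nil_append, wprod,
      one_mul, map_mul, pow_succ, pow_zero, mul_assoc]
    rfl
  have h5 : φ (f3 * (((a * b3 * b2 * b1 * c3 * c2 * d3) ^ 9)⁻¹)) = 1 := by
    have h := main [0, 11, 12, 13, 14, 15, 6, 7, 8, 9, 10, 1, 2, 3, 4, 5] (by decide +kernel) (by decide +kernel)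
    rw [show mapWord [0, 11, 12, 13, 14, 15, 6, 7, 8, 9, 10, 1, 2, 3, 4, 5] zW = (List.replicate 9 [13, 7, 12, 1, 6, 11, 0]).flatten by decide +kernel] at h
    rw [map_mul, map_inv, mul_inv_eq_one, map_pow]
    refine h.trans ?_
    simp only [List.replicate, List.flatten_cons, List.flatten_nil, List.cons_append, List.nil_append, wprod,
      one_mul, map_mul, pow_succ, pow_zero, mul_assoc]
    rfl
  intro r hr
  simp only [extra, List.mem_cons, List.not_mem_nil, or_false] at hr
  rcases hr with rfl | rfl | rfl | rfl | rfl | rfl | rfl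
  exacts [hsp, h0, h1, h2, h3, h4, h5]

/-- In the group presented by the sixteen involutions of the Y₅₅₅ Coxeter diagram subject only to the Coxeter relations and the single spider relation (a b₁ c₁ a b₂ c₂ a b₃ c₃)^10 = 1, each of the further relators used in the definitions' presentation of the Bimonster (each end node equals the ninth power of the Coxeter element of a sub-diagram of type E₇) already holds. Equivalently, the Y₅₅₅ diagram with the spider relation alone presents the Bimonster. -/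
theorem result :
    ∀ r ∈ Cfsg.Spor.Bimonster.extra,
      (PresentedGroup.mk (Cfsg.Spor.coxRelators Cfsg.Spor.Bimonster.edges ∪ {r' | r' ∈ [(Cfsg.Spor.Bimonster.a * Cfsg.Spor.Bimonster.b1 * Cfsg.Spor.Bimonster.c1 * Cfsg.Spor.Bimonster.a * Cfsg.Spor.Bimonster.b2 * Cfsg.Spor.Bimonster.c2 * Cfsg.Spor.Bimonster.a * Cfsg.Spor.Bimonster.b3 * Cfsg.Spor.Bimonster.c3) ^ 10]}) r) = 1 := by
  intro r hr
  refine key (PresentedGroup.mk _) (fun x y => ?_) ?_ r hr
  · exact PresentedGroup.one_of_mem (Or.inl ⟨x, node x, y, node y, rfl⟩)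
  · exact PresentedGroup.one_of_mem (Or.inr (List.mem_singleton.mpr rfl))

end Cfsg.Agent.S5588
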