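import Cfsg.Statements.S5592
import Cfsg.Agent.Lib.Leech.Mod2

set_option autoImplicit false
open Cfsg

namespace Cfsg.Agent.S5592

open Cfsg.Agent.Leech in
theorem key {x y : Cfsg.GolayPt → ℤ} (hx : x ∈ Cfsg.leechLattice) (hy : y ∈ Cfsg.leechLattice)
    (hxn : Cfsg.sqNorm x ≤ 64) (hyn : Cfsg.sqNorm y ≤ 64)
    (hc : ∃ z ∈ Cfsg.leechLattice, x - y = 2 • z) :
    y = x ∨ y = -x ∨ (Cfsg.dotInt x y = 0 ∧ Cfsg.sqNorm x = 64 ∧ Cfsg.sqNorm y = 64) := by
  obtain ⟨z, hz, e⟩ := hc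
  have h := Classes.congr_short Mod2.leech_shells (x := ⟨x, hx⟩) (y := ⟨y, hy⟩)
    (by rw [Mod2.lform_self]; exact hxn) (by rw [Mod2.lform_self]; exact hyn) (z := ⟨z, hz⟩)
    (Subtype.ext (by rw [AddSubgroup.coe_sub, AddSubgroup.coe_add]; exact e.trans (two_nsmul z)))
  rcases h with h | h | ⟨h1, h2, h3⟩
  · exact Or.inl (congrArg Subtype.val h)
  · exact Or.inr (Or.inl (by simpa using congrArg Subtype.val h))
  · rw [Mod2.lform_self] at h2 h3
    exact Or.inr (Or.inr ⟨h1, h2, h3⟩)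

/-- In the Leech lattice (integer coordinates, sum of squares equal to 8 times the customary norm, so the shortest non-zero vectors have sum of squares 32): if two distinct vectors of sum of squares at most 64 are congruent modulo twice the lattice, then either they are negatives of each other, or both have sum of squares 64 and they are orthogonal. -/
theorem result (x y : Cfsg.GolayPt → ℤ) (hx : x ∈ Cfsg.leechLattice) (hy : y ∈ Cfsg.leechLattice) (hxy : x ≠ y) (hxn : Cfsg.sqNorm x ≤ 64) (hyn : Cfsg.sqNorm y ≤ 64) (hc : (∃ z ∈ Cfsg.leechLattice, x - y = 2 • z)) :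
    x = -y ∨ (Cfsg.sqNorm x = 64 ∧ Cfsg.sqNorm y = 64 ∧ Cfsg.dotInt x y = 0) := by
  rcases key hx hy hxn hyn hc with h | h | ⟨h1, h2, h3⟩
  · exact absurd h.symm hxy
  · left; rw [h, neg_neg]
  · exact Or.inr ⟨h2, h3, h1⟩

end Cfsg.Agent.S5592
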