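import Cfsg.Statements.S5594
import Cfsg.Agent.Lib.LeechAut.Basic
import Cfsg.Agent.Lib.Golay.Cert

set_option autoImplicit false
open Cfsg

namespace Cfsg.Agent.S5594

open Cfsg.Agent.Golay.Basic Cfsg.Agent.Golay.Design Cfsg.Agent.Golay.Cert
  Cfsg.Agent.Leech.Basic Cfsg.Agent.LeechAut.Basic
open Cfsg.Agent.Golay.M24 (tabAt)
set_option maxRecDepth 10000

/-- A fixed-point-free involution. -/
def invTab : ℕ := 270488045917489381948823846810562180

/-- A dodecad which it moves to its complement. -/
def swapped : ℕ := 9949244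

theorem tab_check : tabOK invTab = true ∧ isCode swapped = true ∧ swapped < 2 ^ 24 ∧
    ((List.range 24).all fun i => (tabAt invTab (tabAt invTab i) == i) &&
      (swapped.testBit (tabAt invTab i) == !swapped.testBit i)) = true := by decide +kernel

theorem exists_sq_negOne : ∃ g : Co0, g * g = negOne := by
  obtain ⟨ht, hc, hlt, hinv⟩ := tab_check
  simp only [List.all_eq_true, List.mem_range, Bool.and_eq_true, beq_iff_eq] at hinv
  have hd : maskSet swapped ∈ codeSets := mem_supports_iff.2 (by rw [mask_maskSet hlt]; exact hc)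
  have htab := isTab_tabPerm ht
  refine ⟨sign _ hd * perm _ (tabPerm_mem ht), ext' fun v => Subtype.ext (funext fun i => ?_)⟩
  have hσσ : tabPerm invTab (tabPerm invTab i) = i := ix_injective (by
    rw [htab, htab, (hinv _ (ix_lt i)).1])
  have hσ : tabPerm invTab i ∈ maskSet swapped ↔ i ∉ maskSet swapped := by
    rw [mem_maskSet, mem_maskSet, htab, (hinv _ (ix_lt i)).2]
    simp
  rw [negOne_smul]
  simp only [mul_smul, sign_smul, perm_smul, LeechAut.Basic.flip, AddSubgroup.coe_neg, Pi.neg_apply]
  by_cases h : i ∈ maskSet swapped <;> simp [h, hσ, hσσ]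

/-- The automorphism group of the Leech lattice contains the negation map, and the subgroup of order 2 it generates has no complement: the automorphism group is a non-split extension of its quotient by that subgroup (it is not the direct product of a group of order 2 with the first Conway group). -/
theorem result :
    ∃ n : ↥Cfsg.Co0, (∀ v : ↥Cfsg.leechLattice, ((n • v : ↥Cfsg.leechLattice) : Cfsg.GolayPt → ℤ) = -(v : Cfsg.GolayPt → ℤ)) ∧
    ∀ K : Subgroup ↥Cfsg.Co0, ¬ (Subgroup.zpowers n).IsComplement' K := by
  refine ⟨negOne, fun v => by rw [negOne_smul]; simp, fun K hK => ?_⟩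
  obtain ⟨g, hg⟩ := exists_sq_negOne
  have hne : negOne ≠ (1 : Co0) := by
    intro e
    have h1 := negOne_smul ⟨_, Cfsg.Agent.Leech.Gen.oddVec_mem.1⟩
    rw [e, one_smul] at h1
    have h2 := congrFun (congrArg Subtype.val h1) none
    simp [Cfsg.Agent.Leech.Gen.oddVec] at h2
  have h2 : Nat.card (Subgroup.zpowers negOne) = 2 := by
    rw [Nat.card_zpowers]
    refine orderOf_eq_prime ?_ hne
    exact ext' fun v => by rw [sq, mul_smul, negOne_smul, negOne_smul, neg_neg, one_smul]
  have hidx : K.index = 2 := by rw [hK.index_eq_card]; exact h2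
  have hK1 : negOne ∈ K := hg ▸ Subgroup.mul_self_mem_of_index_two hidx g
  exact hne (Subgroup.disjoint_def.1 hK.disjoint (Subgroup.mem_zpowers _) hK1)

end Cfsg.Agent.S5594
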