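import Cfsg.Statements.S5595
import Cfsg.Agent.Lib.LargeExtra.Setting

set_option autoImplicit false
open Cfsg

namespace Cfsg.Agent.S5595

open Subgroup

/-- Setting: `z` is an involution of the finite group `G`; for each element `x`, `Q x` denotes the largest normal 2-subgroup of the centralizer of `x`; `Q z` is extraspecial and contains its own centralizer in `G` (a large extraspecial 2-subgroup in this sense). Call the conjugates of `z` singular, and say that singular `x` is orthogonal to singular `y` when `x ∈ Q y`. Then orthogonality is symmetric: if a conjugate `x` of `z` lies in `Q z`, then `z` lies in `Q x`. -/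
theorem result {G : Type*} [Group G] [Finite G]
    (Q : G → Subgroup G)
    (hQ : ∀ x : G, Q x = (Cfsg.pCore 2 ↥(Subgroup.centralizer ({x} : Set G))).map (Subgroup.centralizer ({x} : Set G)).subtype)
    (z : G) (hz : orderOf z = 2) (hE : Cfsg.IsExtraspecial 2 ↥(Q z))
    (hC : Subgroup.centralizer ((Q z : Subgroup G) : Set G) ≤ Q z)
    (g : G) (hx : g * z * g⁻¹ ∈ Q z) : z ∈ Q (g * z * g⁻¹) := by
  haveI : Fact (Nat.Prime 2) := ⟨Nat.prime_two⟩
  have h := LargeExtra.setting_base Q hQ hz hE hC
  by_cases hne : g * z * g⁻¹ = z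
  · rw [hne]; exact h.z_mem
  set a := g * z * g⁻¹ with ha
  have ha2 : a * a = 1 := by
    rw [ha]
    calc g * z * g⁻¹ * (g * z * g⁻¹) = g * (z * z) * g⁻¹ := by group
      _ = 1 := by rw [h.zz]; simp
  have ha1 : a ≠ 1 := fun e => h.ne_one (conj_eq_one_iff.1 e)
  obtain ⟨n, hn1, hn⟩ := PGroups.Extraspecial.exists_card_eq h.ext
  by_cases hn2 : 2 ≤ n
  · have P := LargeExtra.Pair.mk' h hx hne
    have h32 : 32 ≤ Nat.card ↥(Q z) := by
      rw [hn]
      calc 32 = 2 ^ 5 := by norm_num
        _ ≤ 2 ^ (2 * n + 1) := Nat.pow_le_pow_right (by norm_num) (by omega)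
    have hz' := P.z_mem' h32
    rw [mem_map_equiv, MulAut.conj_symm_apply] at hz'
    exact (LargeExtra.setting_conj Q hQ z g z).2 hz'
  · have h8 : Nat.card ↥(Q z) = 8 := by rw [hn, show n = 1 by omega]; rfl
    obtain ⟨q, hq, hqa⟩ := h.exists_move hx ha1 hne
    have hqa' : q * a = z * a * q := mul_inv_eq_iff_eq_mul.1 hqa
    have haz : a * z = z * a := h.comm hx
    have hqz : q * z = z * q := h.comm hq
    -- an element squaring to z
    obtain ⟨b, hb, hbb, hba⟩ : ∃ b ∈ Q z, b * b = z ∧ b * a * b⁻¹ = z * a := by
      rcases h.sq_cases hq with e | e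
      · refine ⟨q * a, (Q z).mul_mem hq hx, ?_, ?_⟩
        · calc q * a * (q * a) = q * a * (z * a * q) := by rw [hqa']
            _ = q * (a * z * a) * q := by simp [mul_assoc]
            _ = q * (z * (a * a)) * q := by rw [haz]; simp [mul_assoc]
            _ = (z * q) * q := by rw [ha2, mul_one, hqz]
            _ = z := by rw [mul_assoc, e, mul_one]
        · rw [mul_inv_rev]
          calc q * a * a * (a⁻¹ * q⁻¹) = q * a * q⁻¹ := by group
            _ = _ := hqa
      · exact ⟨q, hq, e, hqa⟩
    have hbz : b * z = z * b := h.comm hb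
    have hba' : b * a = z * a * b := mul_inv_eq_iff_eq_mul.1 hba
    have hall : ∀ x ∈ Q z, x = 1 ∨ x = z ∨ x = a ∨ x = z * a ∨ x = b ∨ x = z * b ∨ x = b * a ∨ x = z * (b * a) := by
      classical
      set C := Q z ⊓ centralizer ({a} : Set G) with hCd
      have hbC : b ∉ C := by
        intro hm
        have e := mem_centralizer_singleton_iff.1 hm.2
        rw [e, mul_inv_cancel_right] at hba
        exact h.ne_one (mul_eq_right.1 hba.symm)
      have hle : Nat.card ↥C ≤ 4 := by
        have hd : Nat.card ↥C ∣ 2 ^ 3 := by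
          rw [show (2:ℕ) ^ 3 = 8 by norm_num, ← h8]; exact card_dvd_of_le inf_le_left
        obtain ⟨k, hk, e⟩ := (Nat.dvd_prime_pow Nat.prime_two).1 hd
        have hne8 : k ≠ 3 := fun hk3 => hbC (by
          have hEq : C = Q z := eq_of_le_of_card_ge inf_le_left (by rw [e, hk3, h8]; norm_num)
          rw [hEq]
          exact hb)
        rw [e]
        calc 2 ^ k ≤ 2 ^ 2 := Nat.pow_le_pow_right (by norm_num) (by omega)
          _ = 4 := by norm_num
      have za1 : z * a ≠ 1 := fun e => hne (by rw [← h.inv_self]; exact eq_inv_of_mul_eq_one_right e)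
      have hcza : z * a ∈ centralizer ({a} : Set G) := by
        rw [mem_centralizer_singleton_iff, ← mul_assoc a z, haz]
      have four : ∀ u ∈ C, u = 1 ∨ u = z ∨ u = a ∨ u = z * a := by
        intro u hu
        by_contra hcon
        push Not at hcon
        obtain ⟨h1, h2, h3, h4⟩ := hcon
        have hsub : ({u, 1, z, a, z * a} : Set G) ⊆ (C : Set G) := by
          rintro w (e | e | e | e | e) <;> rw [e]
          · exact hu
          · exact C.one_mem
          · exact ⟨h.z_mem, mem_centralizer_singleton_iff.2 haz.symm⟩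
          · exact ⟨hx, mem_centralizer_singleton_iff.2 rfl⟩
          · exact ⟨(Q z).mul_mem h.z_mem hx, hcza⟩
        have h5 : ({u, 1, z, a, z * a} : Set G).ncard = 5 := by
          rw [Set.ncard_eq_toFinset_card']
          have e1 : (1 : G) ≠ z := h.ne_one.symm
          have e2 : (1 : G) ≠ a := ha1.symm
          have e3 : (1 : G) ≠ z * a := za1.symm
          have e4 : z ≠ a := fun e => hne e.symm
          have e5 : z ≠ z * a := fun e => ha1 (mul_eq_left.1 e.symm)
          have e6 : a ≠ z * a := fun e => h.ne_one (mul_eq_right.1 e.symm)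
          simp [h1, h2, h3, h4, e1, e2, e3, e4, e5, e6]
        have := Set.ncard_le_ncard hsub
        rw [h5, ← Nat.card_coe_set_eq, SetLike.coe_sort_coe] at this
        omega
      intro x hxm
      rcases h.conj_cases hxm hx with e | e
      · rcases four x ⟨hxm, mem_centralizer_singleton_iff.2 (mul_inv_eq_iff_eq_mul.1 e)⟩ with e | e | e | e <;> simp [e]
      · have hm : b⁻¹ * x ∈ C := by
          refine ⟨(Q z).mul_mem ((Q z).inv_mem hb) hxm, mem_centralizer_singleton_iff.2 ?_⟩
          calc b⁻¹ * x * a = b⁻¹ * (x * a * x⁻¹) * x := by group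
            _ = b⁻¹ * (b * a * b⁻¹) * x := by rw [e, hba]
            _ = _ := by group
        rcases four _ hm with e' | e' | e' | e' <;> rw [inv_mul_eq_iff_eq_mul] at e'
        · simp [e']
        · simp [e', hbz]
        · simp [e']
        · simp [e', ← mul_assoc, hbz]
    -- the centralizer of z is a 2-group
    have hp : IsPGroup 2 ↥(centralizer ({z} : Set G)) := by
      intro y
      refine ⟨3, Subtype.ext ?_⟩
      set c : G := (y : G) with hc
      have hcz : c * z * c⁻¹ = z := mul_inv_eq_iff_eq_mul.2 (mem_centralizer_singleton_iff.1 y.2)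
      let φ : G → G := fun x => c * x * c⁻¹
      have φm : ∀ u v, φ (u * v) = φ u * φ v := fun u v => by simp [φ, mul_assoc]
      have φQ : ∀ x ∈ Q z, φ x ∈ Q z := fun x hx => h.conj_mem (mul_inv_eq_iff_eq_mul.1 hcz) hx
      have φz : φ z = z := hcz
      have φi : Function.Injective φ := fun u v e => mul_left_cancel (mul_right_cancel e)
      have hzb2 : z * b * (z * b) = z := by
        rw [mul_assoc, ← mul_assoc b z, hbz, mul_assoc z b b, hbb, ← mul_assoc, h.zz, one_mul]
      have hba2 : b * a * (b * a) = 1 := by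
        calc b * a * (b * a) = b * a * (z * a * b) := by rw [hba']
          _ = b * (a * z * a) * b := by simp [mul_assoc]
          _ = b * (z * (a * a)) * b := by rw [haz]; simp [mul_assoc]
          _ = (z * b) * b := by rw [ha2, mul_one, hbz]
          _ = 1 := by rw [mul_assoc, hbb, h.zz]
      have hza2 : z * a * (z * a) = 1 := by rw [mul_assoc, ← mul_assoc a z, haz, mul_assoc z a a, ha2, mul_one, h.zz]
      have hzba2 : z * (b * a) * (z * (b * a)) = 1 := by
        rw [mul_assoc, ← mul_assoc (b * a) z, h.comm ((Q z).mul_mem hb hx), mul_assoc z (b * a), hba2, mul_one, h.zz]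
      have φb : φ b = b ∨ φ b = z * b := by
        have hsq : φ b * φ b = z := by rw [← φm, hbb, φz]
        rcases hall _ (φQ b hb) with e | e | e | e | e | e | e | e
        · rw [e, mul_one] at hsq; exact absurd hsq.symm h.ne_one
        · rw [e, h.zz] at hsq; exact absurd hsq.symm h.ne_one
        · rw [e, ha2] at hsq; exact absurd hsq.symm h.ne_one
        · rw [e, hza2] at hsq; exact absurd hsq.symm h.ne_one
        · exact Or.inl e
        · exact Or.inr e
        · rw [e, hba2] at hsq; exact absurd hsq.symm h.ne_one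
        · rw [e, hzba2] at hsq; exact absurd hsq.symm h.ne_one
      have zz' : ∀ u, z * (z * u) = u := fun u => by rw [← mul_assoc, h.zz, one_mul]
      have φbb : φ (φ b) = b := by
        rcases φb with e | e
        · rw [e, e]
        · rw [e, φm, φz, e, zz']
      have bzl : ∀ u, b * (z * u) = z * (b * u) := fun u => by rw [← mul_assoc, hbz, mul_assoc]
      have bbl : ∀ u, b * (b * u) = z * u := fun u => by rw [← mul_assoc, hbb]
      have φ2 : φ (φ a) = a ∨ φ (φ a) = z * a := by
        have hsq : φ a * φ a = 1 := by rw [← φm, ha2]; simp [φ]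
        clear_value φ
        rcases hall _ (φQ a hx) with e | e | e | e | e | e | e | e
        · rw [e] at hsq ⊢
          exact absurd (φi (e.trans (by
            have h1 : φ 1 * φ 1 = φ 1 := by rw [← φm, mul_one]
            exact (mul_eq_left.1 h1).symm))) ha1
        · exact absurd (φi (e.trans φz.symm)) hne
        · exact Or.inl (by rw [e, e])
        · exact Or.inl (by rw [e, φm, φz, e, zz'])
        · rw [e, hbb] at hsq; exact absurd hsq h.ne_one
        · rw [e, hzb2] at hsq; exact absurd hsq h.ne_one
        · rw [e, φm, e]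
          rcases φb with eb | eb <;> rw [eb] <;> simp [mul_assoc, zz', bzl, bbl]
        · rw [e, φm, φm, φz, e]
          rcases φb with eb | eb <;> rw [eb] <;> simp [mul_assoc, zz', bzl, bbl]
      have φa : φ (φ (φ (φ a))) = a := by
        rcases φ2 with e | e
        · rw [e, e]
        · rw [e, φm z a, φz, φm z (φ a), φz, e, zz']
      have h4 : ∀ x, φ (φ (φ (φ x))) = c ^ 4 * x * (c ^ 4)⁻¹ := fun x => by simp [φ, pow_succ, mul_assoc]
      have hc4 : c ^ 4 ∈ centralizer ((Q z : Subgroup G) : Set G) := by
        have hA : c ^ 4 * a = a * c ^ 4 := mul_inv_eq_iff_eq_mul.1 ((h4 a).symm.trans φa)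
        have hB : c ^ 4 * b = b * c ^ 4 := mul_inv_eq_iff_eq_mul.1 ((h4 b).symm.trans (by rw [φbb, φbb]))
        have hZ : c ^ 4 * z = z * c ^ 4 := mul_inv_eq_iff_eq_mul.1 ((h4 z).symm.trans (by rw [φz, φz, φz, φz]))
        have hmul : ∀ {u v : G}, c ^ 4 * u = u * c ^ 4 → c ^ 4 * v = v * c ^ 4 → c ^ 4 * (u * v) = u * v * c ^ 4 :=
          fun hu hv => by rw [← mul_assoc, hu, mul_assoc, hv, mul_assoc]
        rw [mem_centralizer_iff]
        intro x hxm
        rcases hall x hxm with e | e | e | e | e | e | e | e <;> subst e <;> symm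
        · simp
        · exact hZ
        · exact hA
        · exact hmul hZ hA
        · exact hB
        · exact hmul hZ hB
        · exact hmul hB hA
        · exact hmul hZ (hmul hB hA)
      rw [h.cent] at hc4
      show c ^ 2 ^ 3 = 1
      rw [show (2 : ℕ) ^ 3 = 4 + 4 by norm_num, pow_add]
      rcases h.mem_zpowers_cases hc4 with e | e <;> rw [e]
      · exact one_mul _
      · exact h.zz
    rw [LargeExtra.setting_conj Q hQ z g z, hQ]
    have hmem : g⁻¹ * z * g ∈ centralizer ({z} : Set G) := by
      rw [mem_centralizer_singleton_iff]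
      calc g⁻¹ * z * g * z = g⁻¹ * (z * (g * z * g⁻¹)) * g := by group
        _ = _ := by rw [← ha, ← haz, ha]; group
    exact ⟨⟨_, hmem⟩, by rw [(Cores.pCore_eq_top_iff 2).2 hp]; exact mem_top _, rfl⟩

end Cfsg.Agent.S5595
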