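import Cfsg.Statements.S5597
import Cfsg.Agent.Lib.LargeExtra.Setting

set_option autoImplicit false
open Cfsg

namespace Cfsg.Agent.S5597

/-- Setting: `z` is an involution of the finite group `G`; for each element `x`, `Q x` is the largest normal 2-subgroup of the centralizer of `x`; `Q z` is extraspecial and contains its own centralizer in `G`. A subgroup `U` is singular when it is elementary abelian, every non-identity element of `U` is conjugate to `z`, and any two non-identity elements `u`, `v` of `U` are orthogonal (`v ∈ Q u`). Write `QU` for the intersection of the `Q u` and `LU` for the join of the `Q u` over the non-identity `u` in `U`. If `U` is a non-trivial singular subgroup, then `LU` acts trivially on `QU / U` (every commutator of an element of `LU` with an element of `QU` lies in `U`), and for every `x` in `QU` outside `U` the centralizer of `U` in `LU` permutes the coset `x U` transitively: each `x u` with `u ∈ U` is a conjugate of `x` by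 an element of `LU` centralizing `U`. -/
theorem result {G : Type*} [Group G] [Finite G]
    (Q : G → Subgroup G)
    (hQ : ∀ x : G, Q x = (Cfsg.pCore 2 ↥(Subgroup.centralizer ({x} : Set G))).map (Subgroup.centralizer ({x} : Set G)).subtype)
    (z : G) (hz : orderOf z = 2) (hE : Cfsg.IsExtraspecial 2 ↥(Q z))
    (hC : Subgroup.centralizer ((Q z : Subgroup G) : Set G) ≤ Q z)
    (U : Subgroup G) (hU2 : ∀ u ∈ U, u * u = 1)
    (hS : ∀ u ∈ U, u ≠ 1 → ∃ g : G, g * z * g⁻¹ = u)
    (hO : ∀ u ∈ U, ∀ v ∈ U, u ≠ 1 → v ≠ 1 → v ∈ Q u)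
    (QU LU : Subgroup G) (hQU : QU = ⨅ u ∈ ((U : Set G) \ {1}), Q u) (hLU : LU = ⨆ u ∈ ((U : Set G) \ {1}), Q u)
    (hU : U ≠ ⊥) :
    (∀ g ∈ LU, ∀ x ∈ QU, g * x * g⁻¹ * x⁻¹ ∈ U) ∧
      ∀ x ∈ QU, x ∉ U → ∀ u ∈ U, ∃ g ∈ LU ⊓ Subgroup.centralizer (U : Set G), g * x * g⁻¹ = x * u := by
  have hctr : ∀ u ∈ U, u ≠ 1 → LargeExtra.Ctr (Q u) u := fun u hu hu1 =>
    LargeExtra.setting_ctr Q hQ hz hE hC (hS u hu hu1)
  have hUle : ∀ v ∈ U, v ≠ 1 → U ≤ Q v := by
    intro v hv hv1 u hu
    by_cases hu1 : u = 1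
    · rw [hu1]; exact one_mem _
    · exact hO v hv u hu hv1 hu1
  have hQUle : ∀ u ∈ U, u ≠ 1 → QU ≤ Q u := fun u hu hu1 => by
    rw [hQU]; exact iInf₂_le u ⟨hu, hu1⟩
  have hN : ∀ u ∈ U, u ≠ 1 → Q u ≤ Subgroup.normalizer (U : Set G) := by
    intro u hu hu1
    rw [Subgroup.le_normalizer_iff]
    intro q hq v hv
    rcases (hctr u hu hu1).conj_cases hq (hUle u hu hu1 hv) with e | e <;> rw [e]
    · exact hv
    · exact U.mul_mem hu hv
  constructor
  · intro g hg x hx
    let S : Subgroup G :=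
      { carrier := {g | g ∈ Subgroup.normalizer (U : Set G) ∧ ∀ x ∈ QU, g * x * g⁻¹ * x⁻¹ ∈ U}
        one_mem' := ⟨one_mem _, fun x _ => by simp⟩
        mul_mem' := by
          rintro a b ⟨ha, ha'⟩ ⟨hb, hb'⟩
          refine ⟨mul_mem ha hb, fun x hx => ?_⟩
          have : a * b * x * (a * b)⁻¹ * x⁻¹ = (a * (b * x * b⁻¹ * x⁻¹) * a⁻¹) * (a * x * a⁻¹ * x⁻¹) := by
            group
          rw [this]
          exact U.mul_mem ((Subgroup.mem_normalizer_iff.1 ha _).1 (hb' x hx)) (ha' x hx)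
        inv_mem' := by
          rintro a ⟨ha, ha'⟩
          refine ⟨inv_mem ha, fun x hx => ?_⟩
          have : a⁻¹ * x * a⁻¹⁻¹ * x⁻¹ = a⁻¹ * (a * x * a⁻¹ * x⁻¹)⁻¹ * a⁻¹⁻¹ := by group
          rw [this]
          exact (Subgroup.mem_normalizer_iff.1 (inv_mem ha) _).1 (U.inv_mem (ha' x hx)) }
    have hle : LU ≤ S := by
      rw [hLU]
      refine iSup₂_le fun u hu q hq => ⟨hN u hu.1 hu.2 hq, fun y hy => ?_⟩
      rcases (hctr u hu.1 hu.2).conj_cases hq (hQUle u hu.1 hu.2 hy) with e | e <;> rw [e]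
      · simp
      · simpa using hu.1
    exact (hle hg).2 x hx
  · intro x hx hxU u hu
    by_cases hu1 : u = 1
    · exact ⟨1, one_mem _, by simp [hu1]⟩
    have h := hctr u hu hu1
    obtain ⟨q, hq, hqW, hqx⟩ := h.exists_separate (hUle u hu hu1) hu (hQUle u hu hu1 hx) hxU
    refine ⟨q, ⟨?_, ?_⟩, ?_⟩
    · rw [hLU]; exact (le_iSup₂_of_le u ⟨hu, hu1⟩ le_rfl : Q u ≤ _) hq
    · show q ∈ Subgroup.centralizer (U : Set G)
      rw [Subgroup.mem_centralizer_iff]
      exact fun y hy => (hqW y hy).symm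
    · rw [hqx, ← h.comm (hQUle u hu hu1 hx)]

end Cfsg.Agent.S5597
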