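import Cfsg.Statements.S5598
import Cfsg.Agent.Lib.LargeExtra.Setting

set_option autoImplicit false
open Cfsg

namespace Cfsg.Agent.S5598

/-- Setting: `z` is an involution of the finite group `G`; for each element `x`, `Q x` is the largest normal 2-subgroup of the centralizer of `x`; `Q z` is extraspecial and contains its own centralizer in `G`. A subgroup `U` is singular when it is elementary abelian, every non-identity element of `U` is conjugate to `z`, and any two non-identity elements `u`, `v` of `U` are orthogonal (`v ∈ Q u`). Write `QU` for the intersection of the `Q u` and `LU` for the join of the `Q u` over the non-identity `u` in `U`. If the singular subgroup `U` is generated by a set `T` of non-identity elements, then `QU` is already the intersection of the `Q t` over `t ∈ T`. -/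
theorem result {G : Type*} [Group G] [Finite G]
    (Q : G → Subgroup G)
    (hQ : ∀ x : G, Q x = (Cfsg.pCore 2 ↥(Subgroup.centralizer ({x} : Set G))).map (Subgroup.centralizer ({x} : Set G)).subtype)
    (z : G) (hz : orderOf z = 2) (hE : Cfsg.IsExtraspecial 2 ↥(Q z))
    (hC : Subgroup.centralizer ((Q z : Subgroup G) : Set G) ≤ Q z)
    (U : Subgroup G) (hU2 : ∀ u ∈ U, u * u = 1)
    (hS : ∀ u ∈ U, u ≠ 1 → ∃ g : G, g * z * g⁻¹ = u)
    (hO : ∀ u ∈ U, ∀ v ∈ U, u ≠ 1 → v ≠ 1 → v ∈ Q u)
    (QU LU : Subgroup G) (hQU : QU = ⨅ u ∈ ((U : Set G) \ {1}), Q u) (hLU : LU = ⨆ u ∈ ((U : Set G) \ {1}), Q u)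
    (T : Set G) (hT : Subgroup.closure T = U) (hT1 : (1 : G) ∉ T) :
    QU = ⨅ t ∈ T, Q t := by
  have hctr : ∀ u ∈ U, u ≠ 1 → LargeExtra.Ctr (Q u) u := fun u hu hu1 =>
    LargeExtra.setting_ctr Q hQ hz hE hC (hS u hu hu1)
  apply le_antisymm
  · refine le_iInf₂ fun t ht => ?_
    rw [hQU]
    refine iInf₂_le_of_le t ⟨?_, ?_⟩ le_rfl
    · rw [← hT]; exact Subgroup.subset_closure ht
    · intro e; exact hT1 (e ▸ ht)
  · intro x hx
    rw [hQU]
    simp only [Subgroup.mem_iInf]
    have hxT : ∀ t ∈ T, x ∈ Q t := fun t ht => by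
      simp only [Subgroup.mem_iInf] at hx; exact hx t ht
    have key : ∀ u v, u ∈ U → v ∈ U → u ≠ 1 → v ≠ 1 → u * v ≠ 1 → x ∈ Q u → x ∈ Q v → x ∈ Q (u * v) := by
      intro u v hu hv hu1 hv1 huv hxu hxv
      have hne : v ≠ u := fun e => huv (e ▸ hU2 v hv)
      have h := hctr u hu hu1
      have hvQ := hO u hu v hv hu1 hv1
      obtain ⟨q, hq, e⟩ := h.exists_move hvQ hv1 hne
      rw [← e, LargeExtra.setting_conj Q hQ v q x]
      have huQ := hO v hv u hu hv1 hu1
      rcases h.conj_cases ((Q u).inv_mem hq) hxu with k | k <;> rw [inv_inv] at k <;> rw [k]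
      · exact hxv
      · exact (Q v).mul_mem huQ hxv
    have all : ∀ u, u ∈ U → u = 1 ∨ x ∈ Q u := by
      intro u hu
      rw [← hT] at hu
      induction hu using Subgroup.closure_induction with
      | mem y hy => exact Or.inr (hxT y hy)
      | one => exact Or.inl rfl
      | mul y y' hy hy' i1 i2 =>
        have hyU : y ∈ U := hT ▸ hy
        have hy'U : y' ∈ U := hT ▸ hy'
        by_cases hy1 : y = 1
        · rw [hy1, one_mul]; exact i2
        by_cases hy2 : y' = 1
        · rw [hy2, mul_one]; exact i1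
        by_cases hyy : y * y' = 1
        · exact Or.inl hyy
        exact Or.inr (key y y' hyU hy'U hy1 hy2 hyy (i1.resolve_left hy1) (i2.resolve_left hy2))
      | inv y hy i =>
        rw [inv_eq_of_mul_eq_one_right (hU2 y (hT ▸ hy))]
        exact i
    intro u hu
    exact (all u hu.1).resolve_left hu.2

end Cfsg.Agent.S5598
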