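import Cfsg.Statements.S5599
import Cfsg.Agent.Lib.M24Module.Classes

set_option autoImplicit false
open scoped Pointwise
open Cfsg

namespace Cfsg.Agent.S5599

open Cfsg.Agent.Golay.Basic Cfsg.Agent.Golay.M24 Cfsg.Agent.M24Module.Basic Cfsg.Agent.M24Module.Classes
open scoped Pointwise

theorem mem_M22 {x : Equiv.Perm Cfsg.GolayPt} :
    x ∈ Cfsg.Spor.M22 ↔ x ∈ Cfsg.M24 ∧ x none = none ∧ x (some 0) = some 0 :=
  ⟨fun h => ⟨h.1.1, h.1.2, h.2⟩, fun h => ⟨⟨h.1, h.2.1⟩, h.2.2⟩⟩

theorem mem_pair {x : Equiv.Perm Cfsg.GolayPt}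
    (h : x • ({none, some 0} : Finset Cfsg.GolayPt) = {none, some 0}) :
    (x none = none ∧ x (some 0) = some 0) ∨ (x none = some 0 ∧ x (some 0) = none) := by
  have h1 : x none ∈ ({none, some 0} : Finset Cfsg.GolayPt) := by
    rw [← h]; exact (mem_smul_iff x _ none).2 (by simp)
  have h2 : x (some 0) ∈ ({none, some 0} : Finset Cfsg.GolayPt) := by
    rw [← h]; exact (mem_smul_iff x _ (some 0)).2 (by simp)
  simp only [Finset.mem_insert, Finset.mem_singleton] at h1 h2
  have hne : x none ≠ x (some 0) := fun e => by simpa using x.injective e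
  rcases h1 with h1 | h1 <;> rcases h2 with h2 | h2
  · exact absurd (h1.trans h2.symm) hne
  · exact Or.inl ⟨h1, h2⟩
  · exact Or.inr ⟨h1, h2⟩
  · exact absurd (h1.trans h2.symm) hne

theorem exists_out (s : Finset Cfsg.GolayPt) (h : s.card < 24) : ∃ r, r ∉ s := by
  by_contra hall
  simp only [not_exists, not_not] at hall
  rw [Finset.eq_univ_iff_forall.2 hall] at h
  revert h; decide

theorem centralizer_fix {c : Equiv.Perm Cfsg.GolayPt}
    (hc : ∀ x ∈ Cfsg.Spor.M22, c * x = x * c) {p : Cfsg.GolayPt} (hp1 : p ≠ none) (hp2 : p ≠ some 0) :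
    c p = p := by
  by_contra hne
  have hcomm : ∀ x ∈ Cfsg.Spor.M22, c (x p) = x (c p) := fun x hx => by
    rw [← Equiv.Perm.mul_apply, hc x hx, Equiv.Perm.mul_apply]
  have hq : c p ≠ none ∧ c p ≠ some 0 := by
    refine ⟨fun e => ?_, fun e => ?_⟩
    all_goals
      obtain ⟨r, hr⟩ : ∃ r : Cfsg.GolayPt, r ∉ ({none, some 0, p} : Finset Cfsg.GolayPt) :=
        exists_out _ ((Finset.card_le_three).trans_lt (by norm_num))
      simp only [Finset.mem_insert, Finset.mem_singleton, not_or] at hr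
      obtain ⟨x, hx, hfix, hxp⟩ := exists_fix_move (l := [none, some 0]) (by simp) (by simp)
        (p := p) (q := r) (by simp [hp1, hp2]) (by simp [hr.1, hr.2.1])
      have hx22 : x ∈ Cfsg.Spor.M22 := mem_M22.2 ⟨hx, hfix _ (by simp), hfix _ (by simp)⟩
      have h := hcomm x hx22
      rw [hxp, e, hfix _ (by simp), ← e] at h
      exact hr.2.2 (c.injective h)
  obtain ⟨r, hr⟩ : ∃ r : Cfsg.GolayPt, r ∉ ({none, some 0, p, c p} : Finset Cfsg.GolayPt) :=
    exists_out _ ((Finset.card_le_four).trans_lt (by norm_num))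
  simp only [Finset.mem_insert, Finset.mem_singleton, not_or] at hr
  obtain ⟨x, hx, hfix, hxq⟩ := exists_fix_move (l := [none, some 0, p]) (by simp [Ne.symm hp1, Ne.symm hp2])
    (by simp) (p := c p) (q := r) (by simp [hq.1, hq.2, hne]) (by simp [hr.1, hr.2.1, hr.2.2.1])
  have hx22 : x ∈ Cfsg.Spor.M22 := mem_M22.2 ⟨hx, hfix _ (by simp), hfix _ (by simp)⟩
  have h := hcomm x hx22
  rw [hfix p (by simp), hxq] at h
  exact hr.2.2.2 h.symm

/-- In the automorphism group of the length-24 code, the two-point Mathieu group (permutations of the code's group fixing the extra point and the residue 0) has index 2 in the setwise stabiliser of that pair of points, and an element of the code's group interchanging the two points normalises the two-point group and induces on it, by conjugation, an automorphism that is not inner. -/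
theorem result (g : Equiv.Perm Cfsg.GolayPt) (hg : g ∈ Cfsg.M24) (h₁ : g none = some 0) (h₂ : g (some 0) = none) : Cfsg.Spor.M22.relIndex (Cfsg.M24 ⊓ MulAction.stabilizer (Equiv.Perm Cfsg.GolayPt) ({none, some 0} : Finset Cfsg.GolayPt)) = 2 ∧ (∀ x ∈ Cfsg.Spor.M22, g * x * g⁻¹ ∈ Cfsg.Spor.M22) ∧ ¬ ∃ h ∈ Cfsg.Spor.M22, ∀ x ∈ Cfsg.Spor.M22, g * x * g⁻¹ = h * x * h⁻¹ := by
  refine ⟨?_, fun x hx => ?_, ?_⟩
  · rw [Subgroup.relIndex, Subgroup.index_eq_two_iff]
    have hgP : g ∈ Cfsg.M24 ⊓ MulAction.stabilizer (Equiv.Perm Cfsg.GolayPt)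
        ({none, some 0} : Finset Cfsg.GolayPt) := by
      refine ⟨hg, ?_⟩
      show g • ({none, some 0} : Finset Cfsg.GolayPt) = {none, some 0}
      rw [Finset.smul_finset_insert, Finset.smul_finset_singleton]
      show ({g none, g (some 0)} : Finset Cfsg.GolayPt) = _
      rw [h₁, h₂, Finset.pair_comm]
    refine ⟨⟨g, hgP⟩, fun b => ?_⟩
    rcases b with ⟨b, hbM, hbs⟩
    simp only [Subgroup.mem_subgroupOf, Subgroup.coe_mul, mem_M22]
    rcases mem_pair hbs with ⟨e1, e2⟩ | ⟨e1, e2⟩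
    · refine Or.inr ⟨⟨hbM, e1, e2⟩, fun h => ?_⟩
      have := h.2.1
      rw [Equiv.Perm.mul_apply, h₁, e2] at this
      exact absurd this (by simp)
    · refine Or.inl ⟨⟨Cfsg.M24.mul_mem hbM hg, by rw [Equiv.Perm.mul_apply, h₁, e2],
        by rw [Equiv.Perm.mul_apply, h₂, e1]⟩, fun h => ?_⟩
      rw [e1] at h
      exact absurd h.2.1 (by simp)
  · rw [mem_M22] at hx ⊢
    refine ⟨Cfsg.M24.mul_mem (Cfsg.M24.mul_mem hg hx.1) (Cfsg.M24.inv_mem hg), ?_, ?_⟩
    · have e : g⁻¹ none = some 0 := by rw [Equiv.Perm.inv_eq_iff_eq, h₂]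
      rw [Equiv.Perm.mul_apply, Equiv.Perm.mul_apply, e, hx.2.2, h₂]
    · have e : g⁻¹ (some 0) = none := by rw [Equiv.Perm.inv_eq_iff_eq, h₁]
      rw [Equiv.Perm.mul_apply, Equiv.Perm.mul_apply, e, hx.2.1, h₁]
  · rintro ⟨h, hh, hall⟩
    obtain ⟨hhM, hh1, hh2⟩ := mem_M22.1 hh
    have hcomm : ∀ x ∈ Cfsg.Spor.M22, (h⁻¹ * g) * x = x * (h⁻¹ * g) := fun x hx => by
      have := hall x hx
      calc (h⁻¹ * g) * x = h⁻¹ * (g * x * g⁻¹) * g := by group
        _ = h⁻¹ * (h * x * h⁻¹) * g := by rw [this]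
        _ = x * (h⁻¹ * g) := by group
    have hsw : (h⁻¹ * g) none = some 0 := by
      rw [Equiv.Perm.mul_apply, h₁, Equiv.Perm.inv_eq_iff_eq, hh2]
    have hne : h⁻¹ * g ≠ 1 := fun e => by rw [e] at hsw; simp at hsw
    obtain ⟨y, hy, hmov⟩ := exists_second (Cfsg.M24.mul_mem (Cfsg.M24.inv_mem hhM) hg) hne
      {none, some 0} (Finset.card_le_two.trans (by norm_num))
    simp only [Finset.mem_insert, Finset.mem_singleton, not_or] at hy
    exact hmov (centralizer_fix hcomm hy.1 hy.2)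

end Cfsg.Agent.S5599
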