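import Cfsg.Statements.S5600
import Cfsg.Agent.Lib.M24Module.OctadFix

set_option autoImplicit false
open scoped Pointwise
open Cfsg

namespace Cfsg.Agent.S5600

open Cfsg.Agent.Golay.Basic Cfsg.Agent.Golay.Design Cfsg.Agent.Golay.Perm Cfsg.Agent.Golay.M24 Cfsg.Agent.Golay.M24Data Cfsg.Agent.Golay.Trans Cfsg.Agent.Golay.Orbit Cfsg.Agent.M24Module.OctadFix
open scoped Pointwise
set_option maxRecDepth 10000

open Classical in
/-- The normal position of the sixth point. -/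
noncomputable def sixth (E : Finset Cfsg.GolayPt) : Cfsg.GolayPt :=
  if ∃ o ∈ Cfsg.octads, E ⊆ o then base 5 else pt 5

theorem normal6 {E : Finset Cfsg.GolayPt} (hE : E.card = 6) (e : Fin 6 ≃ E) :
    ∃ a ∈ Cfsg.M24, (∀ i : Fin 6, i.1 < 5 → a (e i) = base i) ∧ a (e 5) = sixth E := by
  classical
  let x : ℕ → Cfsg.GolayPt := fun i => if h : i < 6 then (e ⟨i, h⟩ : Cfsg.GolayPt) else none
  obtain ⟨a, ha, hai⟩ := exists_to_base 5 le_rfl x (by
    intro i hi j hj h
    simp only [Set.mem_Iio] at hi hj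
    simp only [x, dif_pos (show i < 6 by omega), dif_pos (show j < 6 by omega)] at h
    exact Fin.mk.inj_iff.1 (e.injective (Subtype.ext h)))
  have hai' : ∀ i : Fin 6, i.1 < 5 → a (e i) = base i := by
    intro i hi
    rw [← hai i hi]
    simp only [x, dif_pos i.2, Fin.eta]
  have hne : a (e 5) ∉ (basePre 5).toFinset := by
    intro hm
    obtain ⟨j, hj, e1⟩ := mem_basePre (List.mem_toFinset.1 hm)
    rw [← hai' ⟨j, by omega⟩ hj] at e1
    have := congrArg Fin.val (e.injective (Subtype.ext (a.injective e1)))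
    simp at this
    omega
  have hfive : ∀ z ∈ basePre 5, a⁻¹ z ∈ E := by
    intro z hz
    obtain ⟨j, hj, rfl⟩ := mem_basePre hz
    rw [← hai' ⟨j, by omega⟩ hj, ← Equiv.Perm.mul_apply, inv_mul_cancel, Equiv.Perm.one_apply]
    exact (e _).2
  by_cases hoct : ∃ o ∈ Cfsg.octads, E ⊆ o
  · obtain ⟨o, ho, hEo⟩ := hoct
    have hao : a • o = o0 := smul_eq_o0 ha ho fun z hz => hEo (hfive z hz)
    obtain ⟨h, hh, hhb⟩ := trans_exists (k := 5) (by norm_num) (t := a (e 5))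
      (Finset.mem_sdiff.2 ⟨by show a (e 5) ∈ o0; rw [← hao, mem_smul_iff]; exact hEo (e 5).2, hne⟩)
    have hh' : h⁻¹ ∈ fixers Cfsg.M24 (basePre 5) := inv_mem (fixers_mono genGroup_le _ hh)
    refine ⟨h⁻¹ * a, Cfsg.M24.mul_mem hh'.1 ha, fun i hi => ?_, ?_⟩
    · rw [Equiv.Perm.mul_apply, hai' i hi, hh'.2 _ (base_mem_basePre hi)]
    · rw [sixth, if_pos ⟨o, ho, hEo⟩, Equiv.Perm.mul_apply, ← hhb, ← Equiv.Perm.mul_apply, inv_mul_cancel, Equiv.Perm.one_apply]
  · have hnot : a (e 5) ∉ o0 := by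
      intro hm
      refine hoct ⟨a⁻¹ • o0, smul_mem_octads (Cfsg.M24.inv_mem ha) o0_mem, fun p hp => ?_⟩
      obtain ⟨i, hi⟩ := e.surjective ⟨p, hp⟩
      have hap : a p ∈ o0 := by
        rw [show p = (e i : Cfsg.GolayPt) by rw [hi]]
        by_cases h5 : i.1 < 5
        · rw [hai' i h5]
          have : ∀ i < 5, base i ∈ o0 := by decide +kernel
          exact this _ h5
        · rw [show i = 5 from Fin.ext (by show i.1 = 5; omega)]; exact hm
      have := (mem_smul_iff a⁻¹ o0 (a p)).2 hap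
      rwa [← Equiv.Perm.mul_apply, inv_mul_cancel, Equiv.Perm.one_apply] at this
    obtain ⟨g, hg, hfix, -, hgt⟩ := exists_fix_o0_map hnot
    refine ⟨g * a, Cfsg.M24.mul_mem hg ha, fun i hi => ?_, ?_⟩
    · rw [Equiv.Perm.mul_apply, hai' i hi]
      have : ∀ i < 5, base i ∈ o0 := by decide +kernel
      exact hfix _ (this _ hi)
    · rw [sixth, if_neg hoct, Equiv.Perm.mul_apply, hgt]

theorem extend {E : Finset Cfsg.GolayPt} (hE : E.card = 6) (σ : Equiv.Perm E) :
    ∃ g ∈ Cfsg.M24, ∀ p : E, g p = σ p := by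
  let e : Fin 6 ≃ E := (E.equivFinOfCardEq hE).symm
  obtain ⟨a, ha, h1, h2⟩ := normal6 hE e
  obtain ⟨b, hb, k1, k2⟩ := normal6 hE (e.trans σ)
  refine ⟨b⁻¹ * a, Cfsg.M24.mul_mem (Cfsg.M24.inv_mem hb) ha, fun p => ?_⟩
  obtain ⟨i, rfl⟩ := e.surjective p
  rw [Equiv.Perm.mul_apply, Equiv.Perm.inv_eq_iff_eq]
  by_cases hi : i.1 < 5
  · rw [h1 i hi]; exact (k1 i hi).symm
  · rw [show i = 5 from Fin.ext (by show i.1 = 5; omega), h2]; exact k2.symm

theorem card_fix {E : Finset Cfsg.GolayPt} (hE : E.card = 6) :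
    Nat.card {g : Equiv.Perm Cfsg.GolayPt // g ∈ Cfsg.M24 ∧ ∀ p ∈ E, g p = p} =
      Nat.card (fixers Cfsg.M24 (sixth E :: basePre 5)) := by
  let e : Fin 6 ≃ E := (E.equivFinOfCardEq hE).symm
  obtain ⟨a, ha, h1, h2⟩ := normal6 hE e
  refine Nat.card_congr ((MulAut.conj a).toEquiv.subtypeEquiv fun g => ?_)
  show (g ∈ Cfsg.M24 ∧ ∀ p ∈ E, g p = p) ↔ a * g * a⁻¹ ∈ fixers Cfsg.M24 (sixth E :: basePre 5)
  constructor
  · rintro ⟨hg, hfix⟩
    refine ⟨Cfsg.M24.mul_mem (Cfsg.M24.mul_mem ha hg) (Cfsg.M24.inv_mem ha), fun x hx => ?_⟩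
    have key : ∀ i, (a * g * a⁻¹) (a (e i)) = a (e i) := fun i => by simp [hfix _ (e i).2]
    rcases List.mem_cons.1 hx with rfl | hx
    · rw [← h2]; exact key 5
    · obtain ⟨j, hj, rfl⟩ := mem_basePre hx
      rw [← h1 ⟨j, by omega⟩ hj]; exact key _
  · rintro ⟨hg, hfix⟩
    refine ⟨?_, fun p hp => ?_⟩
    · simpa [mul_assoc] using Cfsg.M24.mul_mem (Cfsg.M24.mul_mem (Cfsg.M24.inv_mem ha) hg) ha
    · obtain ⟨i, hi⟩ := e.surjective ⟨p, hp⟩
      have hmem : a (e i) ∈ sixth E :: basePre 5 := by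
        by_cases h5 : i.1 < 5
        · rw [h1 i h5]; exact List.mem_cons_of_mem _ (base_mem_basePre h5)
        · rw [show i = 5 from Fin.ext (by show i.1 = 5; omega), h2]; exact List.mem_cons_self
      have := hfix _ hmem
      rw [hi] at this
      simpa using this

theorem mem_iff_of_fix {g : Equiv.Perm Cfsg.GolayPt} {E : Finset Cfsg.GolayPt} (h : g • E = E)
    (p : Cfsg.GolayPt) : g p ∈ E ↔ p ∈ E := by
  conv_lhs => rw [← h]
  exact mem_smul_iff _ _ _

theorem card_fix_out : Nat.card (fixers Cfsg.M24 (pt 5 :: basePre 5)) = 3 := by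
  have h := card_fixers_step Cfsg.M24 (basePre 5) (pt 5) o0ᶜ ?_ ?_
  · rw [card_fixers_basePre 5 (by norm_num), show (o0ᶜ).card = 16 by decide +kernel] at h
    simp only [List.getD_cons_succ, List.getD_cons_zero] at h
    omega
  · intro g hg
    rw [Finset.mem_compl]
    show g (pt 5) ∉ maskSet baseOctad
    rw [mem_iff_of_fix (baseOctad_fixed hg)]
    decide +kernel
  · intro t ht
    obtain ⟨g, hg, hfix, -, hgt⟩ := exists_fix_o0_map (Finset.mem_compl.1 ht)
    refine ⟨g⁻¹, inv_mem ⟨hg, fun x hx => hfix x ?_⟩, by rw [Equiv.Perm.inv_eq_iff_eq, hgt]⟩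
    have : ∀ x ∈ basePre 5, x ∈ o0 := by decide +kernel
    exact this x hx

/-- The action of the setwise stabiliser. -/
def toPerm (E : Finset Cfsg.GolayPt) : MulAction.stabilizer Cfsg.M24 E →* Equiv.Perm E where
  toFun g := (g.1 : Equiv.Perm Cfsg.GolayPt).subtypePerm fun p => mem_iff_of_fix g.2 p
  map_one' := Equiv.ext fun _ => Subtype.ext rfl
  map_mul' _ _ := Equiv.ext fun _ => Subtype.ext rfl

theorem setwise {E : Finset Cfsg.GolayPt} (hE : E.card = 6)
    (h3 : Nat.card {g : Equiv.Perm Cfsg.GolayPt // g ∈ Cfsg.M24 ∧ ∀ p ∈ E, g p = p} = 3) :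
    Nat.card (MulAction.stabilizer Cfsg.M24 E) = 2160 := by
  have hfixset : ∀ g : Equiv.Perm Cfsg.GolayPt, (∀ p ∈ E, g p ∈ E) → g • E = E := fun g h => by
    refine Finset.eq_of_subset_of_card_le (fun y hy => ?_) (by rw [Finset.card_smul_finset])
    rw [smul_finset_def, Finset.mem_image] at hy
    obtain ⟨z, hz, rfl⟩ := hy
    exact h z hz
  have hsurj : Function.Surjective (toPerm E) := fun σ => by
    obtain ⟨g, hg, hgσ⟩ := extend hE σ
    exact ⟨⟨⟨g, hg⟩, hfixset g fun p hp => by rw [hgσ ⟨p, hp⟩]; exact (σ _).2⟩,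
      Equiv.ext fun p => Subtype.ext (hgσ p)⟩
  have hker : Nat.card (toPerm E).ker = 3 := by
    rw [← h3]
    refine Nat.card_congr
      { toFun := fun g => ⟨g.1.1.1, g.1.1.2, fun p hp => ?_⟩
        invFun := fun g => ⟨⟨⟨g.1, g.2.1⟩,
          hfixset g.1 fun p hp => (g.2.2 p hp).symm ▸ hp⟩,
          Equiv.ext fun p => Subtype.ext (g.2.2 p.1 p.2)⟩
        left_inv := fun _ => rfl
        right_inv := fun _ => rfl }
    exact congrArg Subtype.val (Equiv.Perm.ext_iff.1 g.2 ⟨p, hp⟩)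
  rw [← Subgroup.index_mul_card (toPerm E).ker, Subgroup.index_ker, MonoidHom.range_eq_top.2 hsurj,
    Subgroup.card_top, hker, Nat.card_perm, Nat.card_eq_fintype_card, Fintype.card_coe, hE]
  decide

/-- Although the group of the length-24 code is only 5-transitive on the 24 points, it induces the full symmetric group on every 6-element subset: every permutation of a 6-set E is the restriction of an element of the group mapping E to itself. The pointwise stabiliser of E has order 16 when E lies in an octad and order 3 otherwise; in the latter case the setwise stabiliser of E has order 2160. -/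
theorem result (E : Finset Cfsg.GolayPt) (hE : E.card = 6) : (∀ σ : Equiv.Perm ↥E, ∃ g ∈ Cfsg.M24, ∀ p : ↥E, g p = σ p) ∧ ((∃ o ∈ Cfsg.octads, E ⊆ o) → Nat.card {g : Equiv.Perm Cfsg.GolayPt // g ∈ Cfsg.M24 ∧ ∀ p ∈ E, g p = p} = 16) ∧ ((¬ ∃ o ∈ Cfsg.octads, E ⊆ o) → Nat.card {g : Equiv.Perm Cfsg.GolayPt // g ∈ Cfsg.M24 ∧ ∀ p ∈ E, g p = p} = 3 ∧ Nat.card ↥(MulAction.stabilizer Cfsg.M24 E) = 2160) := by
  refine ⟨extend hE, fun h => ?_, fun h => ?_⟩
  · rw [card_fix hE, sixth, if_pos h]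
    exact card_fixers_basePre 6 (by norm_num)
  · have h3 : Nat.card {g : Equiv.Perm Cfsg.GolayPt // g ∈ Cfsg.M24 ∧ ∀ p ∈ E, g p = p} = 3 := by
      rw [card_fix hE, sixth, if_neg h]; exact card_fix_out
    exact ⟨h3, setwise hE h3⟩

end Cfsg.Agent.S5600
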