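import Cfsg.Statements.S5601
import Cfsg.Agent.Lib.M24Module.FixCount

set_option autoImplicit false
open scoped Pointwise
open Cfsg

namespace Cfsg.Agent.S5601

open Cfsg.Agent.Golay.Basic Cfsg.Agent.Golay.Cert Cfsg.Agent.M24Module.ClassData Cfsg.Agent.M24Module.Classes Cfsg.Agent.M24Module.FixCount
open scoped Pointwise

theorem gen_three (X : Subgroup ↥Cfsg.M24) (hX : Nat.card X = 3) :
    ∃ g : Cfsg.M24, orderOf g = 3 ∧ orderOf (g : Equiv.Perm Cfsg.GolayPt) = 3 ∧ X = Subgroup.zpowers g ∧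
      {p : Cfsg.GolayPt | ∀ x ∈ X, ((x : ↥Cfsg.M24) : Equiv.Perm Cfsg.GolayPt) p = p}.ncard =
        (fixSet (g : Equiv.Perm Cfsg.GolayPt)).card := by
  haveI : Fact (Nat.Prime 3) := ⟨Nat.prime_three⟩
  haveI : Finite X := Nat.finite_of_card_ne_zero (by rw [hX]; norm_num)
  obtain ⟨g, hg⟩ := exists_prime_orderOf_dvd_card' (G := X) 3 (by rw [hX])
  have hg' : orderOf (g : Cfsg.M24) = 3 := by rw [Subgroup.orderOf_coe, hg]
  have heq : X = Subgroup.zpowers (g : Cfsg.M24) := by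
    refine (Subgroup.eq_of_le_of_card_ge (Subgroup.zpowers_le.2 g.2) ?_).symm
    rw [Nat.card_zpowers, hg', hX]
  refine ⟨g, hg', by rw [Subgroup.orderOf_coe, hg'], heq, ?_⟩
  rw [← Set.ncard_coe_finset]
  congr 1
  ext p
  simp only [Set.mem_setOf_eq, Finset.mem_coe, mem_fixSet]
  constructor
  · exact fun h => h g g.2
  · intro h x hx
    rw [heq] at hx
    have hle : Subgroup.zpowers (g : Cfsg.M24) ≤ MulAction.stabilizer Cfsg.M24 p :=
      Subgroup.zpowers_le.2 h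
    exact hle hx

theorem exists_rep {n : ℕ} (hn : n ∈ threeReps.map fun r => pc (fixMask r)) :
    ∃ X : Subgroup ↥Cfsg.M24, Nat.card X = 3 ∧
      {p : Cfsg.GolayPt | ∀ x ∈ X, ((x : ↥Cfsg.M24) : Equiv.Perm Cfsg.GolayPt) p = p}.ncard = n := by
  obtain ⟨r, hr, rfl⟩ := List.mem_map.1 hn
  haveI : Fact (Nat.Prime 3) := ⟨Nat.prime_three⟩
  have htab := List.all_eq_true.1 three_reps_nodup.2 r hr
  have ho : orderOf (⟨tabPerm r, tabPerm_mem htab⟩ : Cfsg.M24) = 3 := by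
    rw [← Subgroup.orderOf_coe]; exact orderOf_rep htab (List.all_eq_true.1 two_rep_orders.2 r hr)
  refine ⟨Subgroup.zpowers ⟨tabPerm r, tabPerm_mem htab⟩, by rw [Nat.card_zpowers, ho], ?_⟩
  rw [← fixSet_tab (isTab_tabPerm htab), ← card_eq_pc, ← Set.ncard_coe_finset]
  congr 1
  ext p
  simp only [Set.mem_setOf_eq, Finset.mem_coe, mem_fixSet]
  constructor
  · exact fun h => h _ (Subgroup.mem_zpowers _)
  · intro h x hx
    have hle : Subgroup.zpowers (⟨tabPerm r, tabPerm_mem htab⟩ : Cfsg.M24) ≤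
        MulAction.stabilizer Cfsg.M24 p := Subgroup.zpowers_le.2 h
    exact hle hx

/-- The group of the length-24 code has exactly two conjugacy classes of subgroups of order 3: a subgroup of order 3 fixes either exactly 6 of the 24 points or none of them, both cases occur, and two subgroups of order 3 with the same number of fixed points are conjugate. -/
theorem result : (∀ X : Subgroup ↥Cfsg.M24, Nat.card X = 3 → {p : Cfsg.GolayPt | ∀ x ∈ X, ((x : ↥Cfsg.M24) : Equiv.Perm Cfsg.GolayPt) p = p}.ncard = 6 ∨ {p : Cfsg.GolayPt | ∀ x ∈ X, ((x : ↥Cfsg.M24) : Equiv.Perm Cfsg.GolayPt) p = p}.ncard = 0) ∧ (∃ X : Subgroup ↥Cfsg.M24, Nat.card X = 3 ∧ {p : Cfsg.GolayPt | ∀ x ∈ X, ((x : ↥Cfsg.M24) : Equiv.Perm Cfsg.GolayPt) p = p}.ncard = 6) ∧ (∃ X : Subgroup ↥Cfsg.M24, Nat.card X = 3 ∧ {p : Cfsg.GolayPt | ∀ x ∈ X, ((x : ↥Cfsg.M24) : Equiv.Perm Cfsg.GolayPt) p = p}.ncard = 0) ∧ ∀ X Y : Subgroup ↥Cfsg.M24, Nat.card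 X = 3 → Nat.card Y = 3 → {p : Cfsg.GolayPt | ∀ x ∈ X, ((x : ↥Cfsg.M24) : Equiv.Perm Cfsg.GolayPt) p = p}.ncard = {p : Cfsg.GolayPt | ∀ x ∈ Y, ((x : ↥Cfsg.M24) : Equiv.Perm Cfsg.GolayPt) p = p}.ncard → ∃ k : ↥Cfsg.M24, MulAut.conj k • X = Y := by
  have h60 := rep_facts.2.1
  refine ⟨fun X hX => ?_, exists_rep (by rw [h60]; simp), exists_rep (by rw [h60]; simp),
    fun X Y hX hY hc => ?_⟩
  · obtain ⟨g, -, hg, -, e⟩ := gen_three X hX
    rw [e]; exact three_fix g.2 hg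
  · obtain ⟨g, -, hg, rfl, e⟩ := gen_three X hX
    obtain ⟨h, -, hh, rfl, e'⟩ := gen_three Y hY
    obtain ⟨k, hk, ek⟩ := conj_of_fix three_reps_nodup.1 three_reps_nodup.2
      (classify_three g.2 hg) (classify_three h.2 hh) (e.symm.trans (hc.trans e'))
    refine ⟨⟨k, hk⟩, ?_⟩
    rw [show (MulAut.conj (⟨k, hk⟩ : Cfsg.M24) • Subgroup.zpowers g) =
      (Subgroup.zpowers g).map (MulAut.conj (⟨k, hk⟩ : Cfsg.M24)).toMonoidHom from rfl,
      MonoidHom.map_zpowers]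
    congr 1
    exact Subtype.ext ek

end Cfsg.Agent.S5601
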