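import Cfsg.Statements.S5602
import Cfsg.Agent.Lib.M24Module.Enum

set_option autoImplicit false
open scoped Pointwise
open Cfsg

namespace Cfsg.Agent.S5602

open Cfsg.Agent.Golay.Basic Cfsg.Agent.Golay.Cert Cfsg.Agent.M24Module.ClassData Cfsg.Agent.M24Module.Classes Cfsg.Agent.M24Module.FixCount Cfsg.Agent.M24Module.Enum Cfsg.Agent.M24Module.Config
open scoped Pointwise
set_option maxRecDepth 10000

theorem rep_counts : let r := threeReps.getD 0 0
    r ∈ threeReps ∧ pc (fixMask r) = 6 ∧ tabOK r = true ∧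
    (codeList.filter fun m => pc m == 8 && imgTab r m == m).length = 21 ∧
    (codeList.filter fun m => pc m == 12 && imgTab r m == m).length = 20 ∧
    fixedCount r trioList = 15 ∧ fixedCount r sextetList = 16 := by decide +kernel

/-- An element of order 3 of the group of the length-24 code having exactly 6 fixed points maps to themselves exactly 21 octads, exactly 15 trios, exactly 16 sextets and exactly 20 dodecads. -/
theorem result (g : Equiv.Perm Cfsg.GolayPt) (hg : g ∈ Cfsg.M24) (h₃ : orderOf g = 3) (h₆ : (Finset.univ.filter fun p => g p = p).card = 6) : {o : Finset Cfsg.GolayPt | o ∈ Cfsg.octads ∧ g • o = o}.ncard = 21 ∧ {T : Finset (Finset Cfsg.GolayPt) | T ∈ Cfsg.trios ∧ g • T = T}.ncard = 15 ∧ {S : Finset (Finset Cfsg.GolayPt) | S ∈ Cfsg.sextets ∧ g • S = S}.ncard = 16 ∧ {d : Finset Cfsg.GolayPt | d ∈ Cfsg.dodecads ∧ g • d = d}.ncard = 20 := by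
  obtain ⟨hm, h8, hr, c1, c1', c2, c3⟩ := rep_counts
  obtain ⟨k, hk, e⟩ := rep_eq three_reps_nodup.1 three_reps_nodup.2 (classify_three hg h₃) hm (h₆.trans h8.symm)
  exact ⟨ncard_fixed_words 8 hr hk e c1,
    ncard_fixed trioList_spec (fun g _ h => smul_mem_trios g.2 h) hr hk e c2,
    ncard_fixed sextetList_spec (fun g _ h => smul_mem_sextets g.2 h) hr hk e c3,
    ncard_fixed_words 12 hr hk e c1'⟩

end Cfsg.Agent.S5602
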