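import Cfsg.Statements.S5603
import Cfsg.Agent.Lib.M24Module.Enum

set_option autoImplicit false
open scoped Pointwise
open Cfsg

namespace Cfsg.Agent.S5603

open Cfsg.Agent.Golay.Basic Cfsg.Agent.Golay.Cert Cfsg.Agent.M24Module.ClassData Cfsg.Agent.M24Module.Classes Cfsg.Agent.M24Module.FixCount Cfsg.Agent.M24Module.Enum Cfsg.Agent.M24Module.Config
open scoped Pointwise
set_option maxRecDepth 10000

theorem rep_counts : let r := threeReps.getD 1 0
    r ∈ threeReps ∧ pc (fixMask r) = 0 ∧ tabOK r = true ∧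
    fixedCount r trioList = 15 ∧ fixedCount r sextetList = 7 := by decide +kernel

/-- A fixed-point-free element of order 3 of the group of the length-24 code maps to themselves exactly 7 sextets and exactly 15 trios. -/
theorem result (g : Equiv.Perm Cfsg.GolayPt) (hg : g ∈ Cfsg.M24) (h₃ : orderOf g = 3) (h₀ : ∀ p, g p ≠ p) : {S : Finset (Finset Cfsg.GolayPt) | S ∈ Cfsg.sextets ∧ g • S = S}.ncard = 7 ∧ {T : Finset (Finset Cfsg.GolayPt) | T ∈ Cfsg.trios ∧ g • T = T}.ncard = 15 := by
  obtain ⟨hm, h8, hr, c2, c3⟩ := rep_counts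
  have h0 : (fixSet g).card = 0 := Finset.card_eq_zero.2
    (Finset.eq_empty_iff_forall_notMem.2 fun p hp => h₀ p (mem_fixSet.1 hp))
  obtain ⟨k, hk, e⟩ := rep_eq three_reps_nodup.1 three_reps_nodup.2 (classify_three hg h₃) hm (h0.trans h8.symm)
  exact ⟨ncard_fixed sextetList_spec (fun g _ h => smul_mem_sextets g.2 h) hr hk e c3,
    ncard_fixed trioList_spec (fun g _ h => smul_mem_trios g.2 h) hr hk e c2⟩

end Cfsg.Agent.S5603
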