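import Cfsg.Statements.S5607
import Cfsg.Agent.Lib.M24Module.CentBase
import Cfsg.Agent.Lib.M24Module.CentData
import Cfsg.Agent.Lib.M24Module.Enum

set_option autoImplicit false
open scoped Pointwise
open Cfsg

namespace Cfsg.Agent.S5607

open Cfsg.Agent.Golay.Basic Cfsg.Agent.Golay.Perm Cfsg.Agent.Golay.M24 Cfsg.Agent.Golay.Cert Cfsg.Agent.Golay.Orbit Cfsg.Agent.M24Module.ClassData Cfsg.Agent.M24Module.Classes Cfsg.Agent.M24Module.FixCount Cfsg.Agent.M24Module.ObjOrbit Cfsg.Agent.M24Module.Config Cfsg.Agent.M24Module.CentBase Cfsg.Agent.M24Module.CentData Cfsg.Agent.M24Module.Enum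
open scoped Pointwise
set_option maxRecDepth 10000

/-- The representative. -/
def rep : ℕ := twoReps.getD 1 0

theorem rep_facts' : rep ∈ twoReps ∧ pc (fixMask rep) = 0 ∧ tabOK rep = true ∧
    packTab (fun i => tabAt rep i) 24 = rep := by decide +kernel

theorem cent_facts :
    centTwoTabs.all tabOK = true ∧ chainOK centTwoTabs [] centTwoChain = true ∧
    chainProd centTwoChain = 7680 ∧
    (centTwoTabs.all fun x => (List.range 24).all fun i =>
      tabAt x (tabAt rep i) == tabAt rep (tabAt x i)) = true ∧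
    centTwoChain.head? = some (0, 16777215, (centTwoChain.headD (0, 0, [])).2.2) := by decide +kernel

theorem sextet_facts :
    sextetOK sextetTwo = true ∧ (sextetTwo.all fun m => imgTab rep m == m) = true ∧
    ((sextetList.filter fun l => l.all fun m => imgTab rep m == m).map listCode) = [listCode sextetTwo] ∧
    sextTwoTabs.all tabOK = true ∧
    (sextTwoTabs.all fun x => sextetTwo.all fun m => sextetTwo.contains (imgTab x m)) = true ∧
    conjTreeOK sextTwoTabs sextTwoTree rep 18 = true := by decide +kernel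

theorem unique {S : Finset (Finset Cfsg.GolayPt)} (hS : S ∈ Cfsg.sextets)
    (h : ∀ u ∈ S, tabPerm rep • u = u) : S = obj sextetTwo := by
  obtain ⟨hok, -, hu, -⟩ := sextet_facts
  obtain ⟨hlok, hnd, hmem⟩ := sextetList_spec
  have hr := rep_facts'.2.2.1
  have hl0 : listOK sextetTwo = true := by
    simp only [sextetOK, Bool.and_eq_true] at hok
    exact hok.1.1.1
  obtain ⟨l, hl, rfl⟩ := (hmem S).1 hS
  obtain ⟨l0, hl0m, e0⟩ := (hmem _).1 (obj_mem_sextets hok)
  have hll := hlok l hl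
  simp only [listOK, Bool.and_eq_true, List.all_eq_true, decide_eq_true_eq] at hll
  have hlf : l ∈ sextetList.filter fun l => l.all fun m => imgTab rep m == m := by
    rw [List.mem_filter, List.all_eq_true]
    refine ⟨hl, fun m hm => beq_iff_eq.2 ?_⟩
    have h' := h (maskSet m) (mem_obj.2 ⟨m, hm, rfl⟩)
    rw [← mask_maskSet (hll.1 m hm), imgTab_mask (isTab_tabPerm hr), h']
  have hc : listCode l = listCode sextetTwo := by
    have := List.mem_map_of_mem (f := listCode) hlf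
    rw [hu, List.mem_singleton] at this
    exact this
  have hc0 : listCode l0 = listCode sextetTwo := by
    rw [← objCode_obj (hlok l0 hl0m), e0, objCode_obj hl0]
  rw [List.inj_on_of_nodup_map hnd hl hl0m (hc.trans hc0.symm), e0]

/-- The centraliser. -/
def cz : Subgroup (Equiv.Perm Cfsg.GolayPt) := Cfsg.M24 ⊓ Subgroup.centralizer {tabPerm rep}

theorem mem_cz {g : Equiv.Perm Cfsg.GolayPt} :
    g ∈ cz ↔ g ∈ Cfsg.M24 ∧ g * tabPerm rep = tabPerm rep * g := by
  rw [cz, Subgroup.mem_inf, Subgroup.mem_centralizer_singleton_iff]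

theorem fix_sextet {c : Equiv.Perm Cfsg.GolayPt} (hc : c ∈ cz) : c • obj sextetTwo = obj sextetTwo := by
  obtain ⟨hM, hcom⟩ := mem_cz.1 hc
  obtain ⟨hok, hfix, -⟩ := sextet_facts
  simp only [List.all_eq_true, beq_iff_eq] at hfix
  refine unique (smul_mem_sextets hM (obj_mem_sextets hok)) fun u hu => ?_
  obtain ⟨v, hv, rfl⟩ := Finset.mem_smul_finset.1 hu
  obtain ⟨m, hm, rfl⟩ := mem_obj.1 hv
  rw [← mul_smul, ← hcom, mul_smul, smul_maskSet rep_facts'.2.2.1, hfix m hm]

theorem card_cz : Nat.card cz = 7680 := by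
  obtain ⟨hX, hch, hprod, hcomm, -⟩ := cent_facts
  obtain ⟨hok, -, -, hY, hYfix, htree⟩ := sextet_facts
  simp only [List.all_eq_true, List.mem_range, beq_iff_eq] at hcomm
  have hr := rep_facts'.2.2.1
  have h1 : 7680 ≤ Nat.card cz := hprod ▸ le_card_of_chain hX hch (K := cz) fun x hx => by
    have hx' : tabOK x = true := List.all_eq_true.1 hX x hx
    refine mem_cz.2 ⟨tabPerm_mem hx', Equiv.ext fun p => ix_injective ?_⟩
    rw [Equiv.Perm.mul_apply, Equiv.Perm.mul_apply, isTab_tabPerm hx', isTab_tabPerm hr,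
      isTab_tabPerm hr, isTab_tabPerm hx', hcomm x hx _ (ix_lt p)]
  have hrep : rep = permTab (tabPerm rep) :=
    rep_facts'.2.2.2.symm.trans (isTab_eq (isTab_tabPerm hr))
  obtain ⟨-, h18⟩ := le_ncard_conj hY (H := MulAction.stabilizer Cfsg.M24 (obj sextetTwo))
    (le_stabilizer_obj hY hYfix) hrep htree
  have h2 := card_cent_mul (H := MulAction.stabilizer Cfsg.M24 (obj sextetTwo)) (K := cz)
    (g₀ := tabPerm rep) (fun g => mem_cz) fun g hg => fix_sextet hg
  rw [card_stabilizer_sextet (obj_mem_sextets hok)] at h2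
  have h3 : 18 * Nat.card cz ≤ 138240 := h2 ▸ Nat.mul_le_mul_right _ h18
  omega

theorem transitive_cz (q : Cfsg.GolayPt) : ∃ c ∈ cz, c (pt 0) = q := by
  obtain ⟨hX, hch, -, hcomm, hhead⟩ := cent_facts
  simp only [List.all_eq_true, List.mem_range, beq_iff_eq] at hcomm
  have hr := rep_facts'.2.2.1
  obtain ⟨⟨b, T, ws⟩, rest, he⟩ : ∃ a l, centTwoChain = a :: l := List.exists_cons_of_ne_nil fun e => by
    rw [e] at hhead; simp at hhead
  rw [he, List.head?_cons, Option.some.injEq, Prod.mk.injEq, Prod.mk.injEq] at hhead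
  obtain ⟨rfl, rfl, -⟩ := hhead
  obtain ⟨g, hg, -, hgq⟩ := chain_trans hX (pre := []) (by simp) (he ▸ hch) (t := q)
    (by revert q; decide +kernel)
  refine ⟨g, (tabGroup_le_of fun x hx => ?_) hg, hgq⟩
  have hx' : tabOK x = true := List.all_eq_true.1 hX x hx
  refine mem_cz.2 ⟨tabPerm_mem hx', Equiv.ext fun p => ix_injective ?_⟩
  rw [Equiv.Perm.mul_apply, Equiv.Perm.mul_apply, isTab_tabPerm hx', isTab_tabPerm hr,
    isTab_tabPerm hr, isTab_tabPerm hx', hcomm x hx _ (ix_lt p)]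

/-- For a fixed-point-free involution t of the group of the length-24 code: its centraliser in that group has order 7680, is transitive on the 24 points, and is contained, together with t, in the stabiliser of some sextet. -/
theorem result (t : Equiv.Perm Cfsg.GolayPt) (ht : t ∈ Cfsg.M24) (h₂ : orderOf t = 2) (h₀ : ∀ p, t p ≠ p) : Nat.card {c : Equiv.Perm Cfsg.GolayPt // c ∈ Cfsg.M24 ∧ c * t = t * c} = 7680 ∧ (∀ p q : Cfsg.GolayPt, ∃ c ∈ Cfsg.M24, c * t = t * c ∧ c p = q) ∧ ∃ S ∈ Cfsg.sextets, t • S = S ∧ ∀ c ∈ Cfsg.M24, c * t = t * c → c • S = S := by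
  obtain ⟨hrm, hr0, hr, -⟩ := rep_facts'
  have h0 : (fixSet t).card = 0 := Finset.card_eq_zero.2
    (Finset.eq_empty_iff_forall_notMem.2 fun p hp => h₀ p (mem_fixSet.1 hp))
  obtain ⟨a, ha, e⟩ := rep_eq two_reps_nodup.1 two_reps_nodup.2 (classify_two ht h₂) hrm (h0.trans hr0.symm)
  have hiff : ∀ c, (c ∈ Cfsg.M24 ∧ c * t = t * c) ↔ a * c * a⁻¹ ∈ cz := fun c => by
    rw [mem_cz, ← e]
    constructor
    · rintro ⟨h1, h2⟩
      refine ⟨Cfsg.M24.mul_mem (Cfsg.M24.mul_mem ha h1) (Cfsg.M24.inv_mem ha), ?_⟩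
      calc a * c * a⁻¹ * (a * t * a⁻¹) = a * (c * t) * a⁻¹ := by group
        _ = a * (t * c) * a⁻¹ := by rw [h2]
        _ = a * t * a⁻¹ * (a * c * a⁻¹) := by group
    · rintro ⟨h1, h2⟩
      refine ⟨?_, ?_⟩
      · simpa [mul_assoc] using Cfsg.M24.mul_mem (Cfsg.M24.mul_mem (Cfsg.M24.inv_mem ha) h1) ha
      · calc c * t = a⁻¹ * (a * c * a⁻¹ * (a * t * a⁻¹)) * a := by group
          _ = a⁻¹ * (a * t * a⁻¹ * (a * c * a⁻¹)) * a := by rw [h2]
          _ = t * c := by group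
  refine ⟨?_, fun p q => ?_, a⁻¹ • obj sextetTwo, ?_, ?_, fun c hc hct => ?_⟩
  · rw [← card_cz]
    exact Nat.card_congr ((MulAut.conj a).toEquiv.subtypeEquiv hiff)
  · obtain ⟨u, hu, hup⟩ := transitive_cz (a p)
    obtain ⟨v, hv, hvq⟩ := transitive_cz (a q)
    have hw := (hiff (a⁻¹ * (v * u⁻¹) * a)).2 (by
      rw [show a * (a⁻¹ * (v * u⁻¹) * a) * a⁻¹ = v * u⁻¹ by group]
      exact cz.mul_mem hv (cz.inv_mem hu))
    refine ⟨_, hw.1, hw.2, ?_⟩
    have e1 : u⁻¹ (a p) = pt 0 := by rw [Equiv.Perm.inv_eq_iff_eq, hup]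
    rw [Equiv.Perm.mul_apply, Equiv.Perm.mul_apply, Equiv.Perm.mul_apply, e1, hvq,
      ← Equiv.Perm.mul_apply, inv_mul_cancel, Equiv.Perm.one_apply]
  · exact smul_mem_sextets (Cfsg.M24.inv_mem ha) (obj_mem_sextets sextet_facts.1)
  · have hmem : tabPerm rep ∈ cz := mem_cz.2 ⟨tabPerm_mem hr, rfl⟩
    have h := fix_sextet hmem
    rw [← e, mul_smul, mul_smul] at h
    exact eq_inv_smul_iff.2 h
  · have h := fix_sextet ((hiff c).1 ⟨hc, hct⟩)
    rw [mul_smul, mul_smul] at h
    exact eq_inv_smul_iff.2 h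

end Cfsg.Agent.S5607
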