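import Cfsg.Statements.S5608
import Cfsg.Agent.Lib.M24Module.FixCount
import Cfsg.Agent.S5600

set_option autoImplicit false
open scoped Pointwise
open Cfsg

namespace Cfsg.Agent.S5608

open Cfsg.Agent.Golay.Basic Cfsg.Agent.Golay.Design Cfsg.Agent.Golay.Perm Cfsg.Agent.Golay.M24 Cfsg.Agent.Golay.Cert Cfsg.Agent.M24Module.ClassData Cfsg.Agent.M24Module.Classes Cfsg.Agent.M24Module.FixCount
open scoped Pointwise
set_option maxRecDepth 10000

/-- The six fixed points of the first representative of order three. -/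
def sixPts : List ℕ := [5, 7, 11, 12, 16, 20]

/-- Elements inducing each fixed-point-free involution on the six points. -/
def pairTabs : List ℕ := [54012889236406101776444117417665266, 582282692410504815536877976728028790, 799709722889230961997194415096387017, 651248452361670123719227083775347850, 249367211267946600687968475485488758, 627060015146895686603994689433195977, 137089651351985866486836031403046095, 729694257103141433062256970107925711, 587469007581304272535462953607541967, 166696097341876834842040123321304694, 944323107374070777793977089371737226, 45968972565849604507384290429575922, 144174233325667854081903226358846921, 590062819167352133220619584390892682, 49739401324472678105458137142436594]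

/-- The possible image lists: injective, without fixed points. -/
def imageLists : List (List ℕ) :=
  [5, 7, 11, 12, 16, 20].foldl (fun acc i => acc.flatMap fun l =>
    (sixPts.filter fun v => v != i && !(l.contains v)).map fun v => l ++ [v]) [[]]

theorem checks :
    (threeReps.getD 0 0 ∈ threeReps ∧ tabOK (threeReps.getD 0 0) = true ∧
      fixMask (threeReps.getD 0 0) = mask (maskSet 1120416) ∧ pc 1120416 = 6 ∧
      (Cfsg.Agent.Golay.M24.octList.all fun m => !(m &&& 1120416 == 1120416)) = true) ∧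
    ((List.range 24).all fun i => Nat.testBit 1120416 i == sixPts.contains i) = true ∧
    pairTabs.all tabOK = true ∧
    (pairTabs.all fun k => (List.range 24).any fun i =>
      !(tabAt k (tabAt (threeReps.getD 0 0) i) == tabAt (threeReps.getD 0 0) (tabAt k i))) = true ∧
    (imageLists.all fun l => !(sixPts.all fun i => l.getD (sixPts.idxOf (l.getD (sixPts.idxOf i) 0)) 0 == i) ||
      pairTabs.any fun k => sixPts.all fun i => tabAt k i == l.getD (sixPts.idxOf i) 0) = true := by
  decide +kernel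

theorem imageLists_spec {v : ℕ → ℕ} (h1 : ∀ i ∈ sixPts, v i ∈ sixPts) (h2 : ∀ i ∈ sixPts, v i ≠ i)
    (h3 : ∀ i ∈ sixPts, ∀ j ∈ sixPts, i ≠ j → v i ≠ v j) :
    sixPts.map v ∈ imageLists := by
  simp only [imageLists, List.foldl_cons, List.foldl_nil, List.mem_flatMap, List.mem_map,
    List.mem_filter, List.mem_singleton, exists_eq_left, sixPts] at h1 h2 h3 ⊢
  refine ⟨_, ⟨_, ⟨_, ⟨_, ⟨_, ⟨v 5, ⟨h1 5 (by simp), ?_⟩, rfl⟩, v 7, ⟨h1 7 (by simp), ?_⟩, rfl⟩,
    v 11, ⟨h1 11 (by simp), ?_⟩, rfl⟩, v 12, ⟨h1 12 (by simp), ?_⟩, rfl⟩,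
    v 16, ⟨h1 16 (by simp), ?_⟩, rfl⟩, v 20, ⟨h1 20 (by simp), ?_⟩, rfl⟩
  all_goals simp [h2, h3]

theorem exists_fix_mod (s : Finset Cfsg.GolayPt) {g : Equiv.Perm Cfsg.GolayPt} {p : ℕ}
    [hp : Fact p.Prime] (hord : orderOf g = p) (hs : ∀ x, g x ∈ s ↔ x ∈ s) (hc : ¬ p ∣ s.card) :
    ∃ x ∈ s, g x = x := by
  have hc' : ¬ p ∣ Fintype.card s := by rw [Fintype.card_coe]; exact hc
  have hpow : g.subtypePerm hs ^ p ^ 1 = 1 := by
    refine Equiv.ext fun x => Subtype.ext ?_
    rw [pow_one, Equiv.Perm.subtypePerm_pow, ← hord]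
    simp [pow_orderOf_eq_one]
  obtain ⟨x, hx⟩ := Equiv.Perm.exists_fixed_point_of_prime hc' hpow
  exact ⟨x, x.2, congrArg Subtype.val hx⟩

theorem fix_inv {x s : Equiv.Perm Cfsg.GolayPt} (hc : Commute x s) (p : Cfsg.GolayPt) :
    x p ∈ fixSet s ↔ p ∈ fixSet s := by
  rw [mem_fixSet, mem_fixSet, ← Equiv.Perm.mul_apply, ← hc.eq, Equiv.Perm.mul_apply]
  exact x.injective.eq_iff

theorem no_fpf {x s : Equiv.Perm Cfsg.GolayPt} (hx : x ∈ Cfsg.M24) (hs : s ∈ Cfsg.M24)
    (h3 : orderOf x = 3) (h2 : orderOf s = 2) (hc : Commute x s) (h6 : (fixSet x).card = 6)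
    (h0 : fixSet s = ∅) : False := by
  classical
  obtain ⟨⟨hrm, hr, hrmask, hpc, hoct⟩, hbits, hks, hnc, hall⟩ := checks
  set r := threeReps.getD 0 0
  obtain ⟨a, ha, e⟩ := rep_eq three_reps_nodup.1 three_reps_nodup.2 (classify_three hx h3) hrm
    (by rw [hrmask, mask_maskSet (by decide +kernel), hpc, h6])
  set S := a * s * a⁻¹ with hS
  have hSM : S ∈ Cfsg.M24 := Cfsg.M24.mul_mem (Cfsg.M24.mul_mem ha hs) (Cfsg.M24.inv_mem ha)
  have hScomm : Commute (tabPerm r) S := by
    rw [← e, hS]; exact hc.map (MulAut.conj a).toMonoidHom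
  have hSfree : ∀ p, S p ≠ p := fun p hp => by
    have hm : p ∈ fixSet S := mem_fixSet.2 hp
    rw [hS, fixSet_conj, h0, Finset.smul_finset_empty] at hm
    exact absurd hm (Finset.notMem_empty p)
  have hSS : ∀ p, S (S p) = p := fun p => by
    have h' : S ^ 2 = 1 := by
      rw [hS, conj_pow, ← h2, pow_orderOf_eq_one]; simp
    rw [← Equiv.Perm.mul_apply, ← sq, h', Equiv.Perm.one_apply]
  have hF : fixSet (tabPerm r) = maskSet 1120416 :=
    mask_injective (by rw [fixSet_tab (isTab_tabPerm hr), hrmask])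
  simp only [List.all_eq_true, List.mem_range, beq_iff_eq] at hbits
  have hmem : ∀ i < 24, (pt i ∈ fixSet (tabPerm r) ↔ i ∈ sixPts) := fun i hi => by
    rw [hF, mem_maskSet, ix_pt hi, hbits i hi, List.contains_eq_mem, decide_eq_true_eq]
  have hlt : ∀ i ∈ sixPts, i < 24 := by decide
  let v : ℕ → ℕ := fun i => ix (S (pt i))
  have h1 : ∀ i ∈ sixPts, v i ∈ sixPts := fun i hi => by
    refine (hmem _ (ix_lt _)).1 ?_
    rw [pt_ix]
    exact (fix_inv hScomm.symm _).2 ((hmem i (hlt i hi)).2 hi)
  have h2' : ∀ i ∈ sixPts, v i ≠ i := fun i hi he => hSfree (pt i) (by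
    conv_rhs => rw [← he]
    rw [pt_ix])
  have h3' : ∀ i ∈ sixPts, ∀ j ∈ sixPts, i ≠ j → v i ≠ v j := fun i hi j hj hne he => hne (by
    rw [← ix_pt (hlt i hi), ← ix_pt (hlt j hj), S.injective (ix_injective he)])
  have hval : ∀ i ∈ sixPts, (sixPts.map v).getD (sixPts.idxOf i) 0 = v i := fun i hi => by
    rw [List.getD_eq_getElem _ _ (by simpa using List.idxOf_lt_length_iff.2 hi), List.getElem_map,
      List.getElem_idxOf]
  simp only [List.all_eq_true, Bool.or_eq_true, Bool.not_eq_true', List.any_eq_true, beq_iff_eq] at hall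
  rcases hall _ (imageLists_spec h1 h2' h3') with hbad | ⟨k, hk, hkv⟩
  · rw [List.all_eq_false] at hbad
    obtain ⟨i, hi, hne⟩ := hbad
    rw [hval i hi, hval _ (h1 i hi)] at hne
    refine hne (beq_iff_eq.2 ?_)
    show ix (S (pt (ix (S (pt i))))) = i
    rw [pt_ix, hSS, ix_pt (hlt i hi)]
  have hktab : tabOK k = true := List.all_eq_true.1 hks k hk
  set T := (tabPerm k)⁻¹ * S
  have hTfix : ∀ p ∈ fixSet (tabPerm r), T p = p := fun p hp => by
    rw [Equiv.Perm.mul_apply, Equiv.Perm.inv_eq_iff_eq]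
    apply ix_injective
    have hi := (hmem _ (ix_lt p)).1 (by rwa [pt_ix])
    rw [isTab_tabPerm hktab, hkv _ hi, hval _ hi]
    show ix (S p) = ix (S (pt (ix p)))
    rw [pt_ix]
  have hTM : T ∈ Cfsg.M24 := Cfsg.M24.mul_mem (Cfsg.M24.inv_mem (tabPerm_mem hktab)) hSM
  have hTr : Commute (tabPerm r) T := by
    let K : Subgroup Cfsg.M24 := ⨅ p ∈ fixSet (tabPerm r), MulAction.stabilizer Cfsg.M24 p
    have hmemK : ∀ {g : Cfsg.M24}, g ∈ K ↔ ∀ p ∈ fixSet (tabPerm r), (g : Equiv.Perm Cfsg.GolayPt) p = p :=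
      fun {g} => by simp only [K, Subgroup.mem_iInf]; exact Iff.rfl
    have hFc : (fixSet (tabPerm r)).card = 6 := by rw [hF, card_maskSet, hpc]
    have hcardK : Nat.card K = 3 := by
      have h := Cfsg.Agent.S5600.card_fix hFc
      rw [Cfsg.Agent.S5600.sixth, if_neg, Cfsg.Agent.S5600.card_fix_out] at h
      · rw [← h]
        exact Nat.card_congr
          { toFun := fun g => ⟨g.1.1, g.1.2, hmemK.1 g.2⟩
            invFun := fun g => ⟨⟨g.1, g.2.1⟩, hmemK.2 g.2.2⟩
            left_inv := fun _ => rfl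
            right_inv := fun _ => rfl }
      · rintro ⟨o, ho, hsub⟩
        rw [hF, subset_iff_mask, mask_maskSet (by decide +kernel)] at hsub
        simp only [List.all_eq_true, Bool.not_eq_true', beq_eq_false_iff_ne] at hoct
        exact hoct _ (mask_mem_octList ho) (by rwa [Nat.land_comm])
    haveI : Fact (Nat.Prime 3) := ⟨Nat.prime_three⟩
    haveI : IsCyclic K := isCyclic_of_prime_card hcardK
    letI : CommGroup K := IsCyclic.commGroup
    have hcm := mul_comm (⟨⟨tabPerm r, tabPerm_mem hr⟩, hmemK.2 fun p hp => mem_fixSet.1 hp⟩ : K)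
      ⟨⟨T, hTM⟩, hmemK.2 hTfix⟩
    exact congrArg (fun g : K => (g.1 : Equiv.Perm Cfsg.GolayPt)) hcm
  have hkr : Commute (tabPerm r) (tabPerm k) := by
    have := hScomm.mul_right hTr.inv_right
    rwa [show S * T⁻¹ = tabPerm k by rw [mul_inv_rev]; group] at this
  simp only [List.all_eq_true, List.any_eq_true, List.mem_range, Bool.not_eq_true',
    beq_eq_false_iff_ne] at hnc
  obtain ⟨i, hi, hne⟩ := hnc k hk
  refine hne ?_
  have := congrArg (fun g : Equiv.Perm Cfsg.GolayPt => ix (g (pt i))) hkr.eq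
  simp only [Equiv.Perm.mul_apply, isTab_tabPerm hr _, isTab_tabPerm hktab _, ix_pt hi] at this
  exact this.symm

/-- If an element of order 3 and an involution of the group of the length-24 code commute, then either the element of order 3 has exactly 6 fixed points and the involution exactly 8, or both are fixed-point-free. -/
theorem result (x s : Equiv.Perm Cfsg.GolayPt) (hx : x ∈ Cfsg.M24) (hs : s ∈ Cfsg.M24) (h₃ : orderOf x = 3) (h₂ : orderOf s = 2) (hc : Commute x s) : ((Finset.univ.filter fun p => x p = p).card = 6 ∧ (Finset.univ.filter fun p => s p = p).card = 8) ∨ ((Finset.univ.filter fun p => x p = p).card = 0 ∧ (Finset.univ.filter fun p => s p = p).card = 0) := by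
  classical
  rcases three_fix hx h₃ with h6 | h6
  · rcases two_fix hs h₂ with h | h
    · exact Or.inl ⟨h6, h.2⟩
    · exact (no_fpf hx hs h₃ h₂ hc h6 h).elim
  · rcases two_fix hs h₂ with h | h
    · haveI : Fact (Nat.Prime 3) := ⟨Nat.prime_three⟩
      obtain ⟨p, -, hp⟩ := exists_fix_mod (fixSet s) (p := 3) h₃ (fix_inv hc) (by rw [h.2]; decide)
      rw [← mem_fixSet, Finset.card_eq_zero.1 h6] at hp
      exact absurd hp (Finset.notMem_empty _)
    · exact Or.inr ⟨h6, Finset.card_eq_zero.2 h⟩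

end Cfsg.Agent.S5608
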