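import Cfsg.Statements.S5609
import Cfsg.Agent.Lib.M24Module.OctadFix

set_option autoImplicit false
open scoped Pointwise
open Cfsg

namespace Cfsg.Agent.S5609

open Cfsg.Agent.Golay.Basic Cfsg.Agent.Golay.Design Cfsg.Agent.Golay.M24 Cfsg.Agent.Golay.M24Data Cfsg.Agent.Golay.Trans Cfsg.Agent.Golay.Orbit Cfsg.Agent.M24Module.OctadFix
open scoped Pointwise
set_option maxRecDepth 10000

theorem pair_checks :
    (octList.all fun m => !(pc (m &&& baseOctad) == 4) ||
      octList.any fun y => y &&& baseOctad == 0 && y &&& m == 0) = true ∧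
    (octList.all fun m => !(pc (m &&& baseOctad) == 2) ||
      ((octList.all fun y => !(y &&& baseOctad == 0 && y &&& m == 0)) &&
        octList.any fun y => y &&& m == 0 && pc (y &&& baseOctad) == 4)) = true := by decide +kernel

theorem cards {o o' : Finset Cfsg.GolayPt} (ho : o ∈ Cfsg.octads) (ho' : o' ∈ Cfsg.octads)
    (hne : o ≠ o') : (o ∩ o').card = 0 ∨ (o ∩ o').card = 2 ∨ (o ∩ o').card = 4 := by
  have h := card_symmDiff_eq o o'
  rw [octad_card ho, octad_card ho'] at h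
  have hw := weights_supports (symmDiff_mem_supports ho.1 ho'.1)
  have h0 : (symmDiff o o').card ≠ 0 := fun e => hne (symmDiff_eq_bot.1 (Finset.card_eq_zero.1 e))
  omega

theorem transport_pair {o o' : Finset Cfsg.GolayPt} (ho : o ∈ Cfsg.octads) (ho' : o' ∈ Cfsg.octads) :
    ∃ a ∈ Cfsg.M24, a • o = o0 ∧ mask (a • o') ∈ octList ∧
      pc (mask (a • o') &&& baseOctad) = (o ∩ o').card := by
  obtain ⟨a, ha, (hao : a • o = o0)⟩ := exists_smul_octad ho
  refine ⟨a, ha, hao, mask_mem_octList (smul_mem_octads ha ho'), ?_⟩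
  rw [← mask_maskSet (show baseOctad < 2 ^ 24 by decide +kernel), ← card_inter_eq_pc,
    show maskSet baseOctad = a • o from hao.symm, inter_smul_card, Finset.inter_comm]

theorem disj_iff {a : Equiv.Perm Cfsg.GolayPt} (s t : Finset Cfsg.GolayPt) :
    mask (a • s) &&& mask (a • t) = 0 ↔ Disjoint s t := by
  rw [← disjoint_iff_mask, smul_finset_def, smul_finset_def, Finset.disjoint_image a.injective]

theorem back {a : Equiv.Perm Cfsg.GolayPt} (ha : a ∈ Cfsg.M24) {y : ℕ} (hy : y ∈ octList) :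
    ∃ u ∈ Cfsg.octads, mask (a • u) = y := by
  have hlt : y < 2 ^ 24 := of_decide_eq_true (forall_code (P := fun x => decide (x < 2 ^ 24))
    (by decide +kernel) (isCode_of_mem_codeList (List.mem_filter.1 hy).1))
  exact ⟨a⁻¹ • maskSet y, smul_mem_octads (Cfsg.M24.inv_mem ha) (maskSet_mem_octads hy),
    by rw [smul_inv_smul, mask_maskSet hlt]⟩

theorem exists_common {o o' : Finset Cfsg.GolayPt} (ho : o ∈ Cfsg.octads) (ho' : o' ∈ Cfsg.octads)
    (h : (o ∩ o').card = 4) : ∃ u ∈ Cfsg.octads, Disjoint o u ∧ Disjoint u o' := by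
  obtain ⟨a, ha, hao, hm, hk⟩ := transport_pair ho ho'
  have hc := pair_checks.1
  simp only [List.all_eq_true, Bool.or_eq_true, Bool.not_eq_true', beq_eq_false_iff_ne,
    List.any_eq_true, Bool.and_eq_true, beq_iff_eq] at hc
  obtain ⟨y, hy, h1, h2⟩ := (hc _ hm).resolve_left (fun e => e (hk.trans h))
  obtain ⟨u, hu, rfl⟩ := back ha hy
  refine ⟨u, hu, ((disj_iff (a := a) u o).1 ?_).symm, (disj_iff (a := a) u o').1 h2⟩
  rwa [hao, mask_maskSet (by decide +kernel)]

theorem two_props {o o' : Finset Cfsg.GolayPt} (ho : o ∈ Cfsg.octads) (ho' : o' ∈ Cfsg.octads)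
    (h : (o ∩ o').card = 2) : (¬ ∃ u ∈ Cfsg.octads, Disjoint o u ∧ Disjoint u o') ∧
      ∃ u ∈ Cfsg.octads, Disjoint u o' ∧ (o ∩ u).card = 4 := by
  obtain ⟨a, ha, hao, hm, hk⟩ := transport_pair ho ho'
  have hc := pair_checks.2
  simp only [List.all_eq_true, Bool.or_eq_true, Bool.not_eq_true', beq_eq_false_iff_ne,
    List.any_eq_true, Bool.and_eq_true, beq_iff_eq, Bool.and_eq_false_iff] at hc
  obtain ⟨h1, y, hy, h2, h3⟩ := (hc _ hm).resolve_left (fun e => e (hk.trans h))
  refine ⟨?_, ?_⟩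
  · rintro ⟨u, hu, d1, d2⟩
    rcases h1 _ (mask_mem_octList (smul_mem_octads ha hu)) with e | e
    · refine e ?_
      rw [← mask_maskSet (show baseOctad < 2 ^ 24 by decide +kernel),
        show maskSet baseOctad = a • o from hao.symm]
      exact (disj_iff u o).2 d1.symm
    · exact e ((disj_iff u o').2 d2)
  · obtain ⟨u, hu, rfl⟩ := back ha hy
    refine ⟨u, hu, (disj_iff u o').1 h2, ?_⟩
    rwa [← mask_maskSet (show baseOctad < 2 ^ 24 by decide +kernel), ← card_inter_eq_pc,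
      show maskSet baseOctad = a • o from hao.symm, inter_smul_card, Finset.inter_comm] at h3

theorem adj_iff (b c : Cfsg.octads) :
    (Cfsg.blockGraph Cfsg.octads).Adj b c ↔ Disjoint (b : Finset Cfsg.GolayPt) c := by
  rw [Cfsg.blockGraph, SimpleGraph.fromRel_adj]
  refine ⟨fun h => h.2.elim id fun d => d.symm, fun h => ⟨?_, Or.inl h⟩⟩
  intro e
  rw [e, disjoint_self, Finset.bot_eq_empty] at h
  have := octad_card c.2
  rw [h] at this
  simp at this

theorem dist_facts (b c : Cfsg.octads) (hne : b ≠ c) :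
    (Cfsg.blockGraph Cfsg.octads).Reachable b c ∧
    (((b : Finset Cfsg.GolayPt) ∩ c).card = 0 → (Cfsg.blockGraph Cfsg.octads).dist b c = 1) ∧
    (((b : Finset Cfsg.GolayPt) ∩ c).card = 4 → (Cfsg.blockGraph Cfsg.octads).dist b c = 2) ∧
    (((b : Finset Cfsg.GolayPt) ∩ c).card = 2 → (Cfsg.blockGraph Cfsg.octads).dist b c = 3) := by
  set G := Cfsg.blockGraph Cfsg.octads
  have hadj : ((b : Finset Cfsg.GolayPt) ∩ c).card = 0 → G.Adj b c := fun h =>
    (adj_iff b c).2 (Finset.disjoint_iff_inter_eq_empty.2 (Finset.card_eq_zero.1 h))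
  have hne1 : ((b : Finset Cfsg.GolayPt) ∩ c).card ≠ 0 → G.dist b c ≠ 1 := fun h e => by
    rw [SimpleGraph.dist_eq_one_iff_adj, adj_iff, Finset.disjoint_iff_inter_eq_empty] at e
    exact h (Finset.card_eq_zero.2 e)
  have w4 : ((b : Finset Cfsg.GolayPt) ∩ c).card = 4 → ∃ w : G.Walk b c, w.length = 2 := fun h => by
    obtain ⟨u, hu, d1, d2⟩ := exists_common b.2 c.2 h
    exact ⟨.cons ((adj_iff b ⟨u, hu⟩).2 d1) (.cons ((adj_iff ⟨u, hu⟩ c).2 d2) .nil), rfl⟩
  have w2 : ((b : Finset Cfsg.GolayPt) ∩ c).card = 2 → ∃ w : G.Walk b c, w.length = 3 := fun h => by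
    obtain ⟨-, u, hu, d2, h4⟩ := two_props b.2 c.2 h
    obtain ⟨v, hv, e1, e2⟩ := exists_common b.2 hu h4
    exact ⟨.cons ((adj_iff b ⟨v, hv⟩).2 e1) (.cons ((adj_iff ⟨v, hv⟩ ⟨u, hu⟩).2 e2)
      (.cons ((adj_iff ⟨u, hu⟩ c).2 d2) .nil)), rfl⟩
  have hr : G.Reachable b c := by
    rcases cards b.2 c.2 (fun e => hne (Subtype.ext e)) with h | h | h
    · exact (hadj h).reachable
    · exact let ⟨w, _⟩ := w2 h; w.reachable
    · exact let ⟨w, _⟩ := w4 h; w.reachable
  have h0 : G.dist b c ≠ 0 := fun e => hne (hr.dist_eq_zero_iff.1 e)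
  refine ⟨hr, fun h => SimpleGraph.dist_eq_one_iff_adj.2 (hadj h), fun h => ?_, fun h => ?_⟩
  · obtain ⟨w, hw⟩ := w4 h
    have := G.dist_le w
    have := hne1 (by omega)
    omega
  · obtain ⟨w, hw⟩ := w2 h
    have := G.dist_le w
    have := hne1 (by omega)
    have h2 : G.dist b c ≠ 2 := fun e => by
      obtain ⟨p, hp⟩ := hr.exists_walk_length_eq_dist
      rw [e] at hp
      have a1 : G.Adj b (p.getVert 1) := by
        have := p.adj_getVert_succ (i := 0) (by omega)
        rwa [p.getVert_zero] at this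
      have a2 : G.Adj (p.getVert 1) c := by
        have := p.adj_getVert_succ (i := 1) (by omega)
        rwa [show 1 + 1 = p.length by omega, p.getVert_length] at this
      exact (two_props b.2 c.2 h).1 ⟨_, (p.getVert 1).2, (adj_iff _ _).1 a1, (adj_iff _ _).1 a2⟩
    omega

/-- In the graph on the 759 octads of the length-24 code in which two octads are adjacent when they are disjoint, the graph is connected (of diameter 3) and two distinct octads are at distance 1, 2 or 3 exactly when they meet in 0, 4 or 2 points respectively. -/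
theorem result (o o' : Finset Cfsg.GolayPt) (ho : o ∈ Cfsg.octads) (ho' : o' ∈ Cfsg.octads) (hne : o ≠ o') : (Cfsg.blockGraph Cfsg.octads).Connected ∧ ((Cfsg.blockGraph Cfsg.octads).dist ⟨o, ho⟩ ⟨o', ho'⟩ = 1 ↔ (o ∩ o').card = 0) ∧ ((Cfsg.blockGraph Cfsg.octads).dist ⟨o, ho⟩ ⟨o', ho'⟩ = 2 ↔ (o ∩ o').card = 4) ∧ ((Cfsg.blockGraph Cfsg.octads).dist ⟨o, ho⟩ ⟨o', ho'⟩ = 3 ↔ (o ∩ o').card = 2) := by
  have hconn : (Cfsg.blockGraph Cfsg.octads).Connected :=
    { preconnected := fun b c => by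
        by_cases h : b = c
        · subst h; rfl
        · exact (dist_facts b c h).1
      nonempty := ⟨⟨o, ho⟩⟩ }
  obtain ⟨-, h1, h2, h3⟩ := dist_facts ⟨o, ho⟩ ⟨o', ho'⟩ (fun e => hne (congrArg Subtype.val e))
  refine ⟨hconn, ?_⟩
  rcases cards ho ho' hne with h | h | h
  · rw [h1 h, h]; decide
  · rw [h3 h, h]; decide
  · rw [h2 h, h]; decide

end Cfsg.Agent.S5609
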