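import Cfsg.Statements.S5610
import Cfsg.Agent.Lib.M24Module.Orbits

set_option autoImplicit false
open scoped Pointwise
open Cfsg

namespace Cfsg.Agent.S5610

open Cfsg.Agent.Golay.Basic Cfsg.Agent.Golay.M24 Cfsg.Agent.Golay.Trans Cfsg.Agent.M24Module.ObjOrbit Cfsg.Agent.M24Module.Config Cfsg.Agent.M24Module.Orbits Cfsg.Agent.M24Module.OrbitCerts
open scoped Pointwise
set_option maxRecDepth 10000

theorem octSext_ok : treesOK actList listOK listCode octSextTabs octSextCert [35, 840, 896] = true := by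
  decide +kernel

/-- The stabiliser of an octad in the group of the length-24 code has exactly three orbits on the 3795 trios, of sizes 15, 420 and 3360, and exactly three orbits on the 1771 sextets, of sizes 35, 840 and 896. -/
theorem result (o : Finset Cfsg.GolayPt) (ho : o ∈ Cfsg.octads) : (∃ X₁ ∈ Cfsg.trios, ∃ X₂ ∈ Cfsg.trios, ∃ X₃ ∈ Cfsg.trios, (MulAction.orbit ↥(MulAction.stabilizer Cfsg.M24 o) X₁).ncard = 15 ∧ (MulAction.orbit ↥(MulAction.stabilizer Cfsg.M24 o) X₂).ncard = 420 ∧ (MulAction.orbit ↥(MulAction.stabilizer Cfsg.M24 o) X₃).ncard = 3360 ∧ Cfsg.trios = MulAction.orbit ↥(MulAction.stabilizer Cfsg.M24 o) X₁ ∪ MulAction.orbit ↥(MulAction.stabilizer Cfsg.M24 o) X₂ ∪ MulAction.orbit ↥(MulAction.stabilizer Cfsg.M24 o) X₃) ∧ (∃ Y₁ ∈ Cfsg.sextets, ∃ Y₂ ∈ Cfsg.sextets, ∃ Y₃ ∈ Cfsg.sextets, (MulAction.orbit ↥(MulAction.stabilizer Cfsg.M24 o) Y₁).ncard = 35 ∧ (MulAction.orbit ↥(MulAction.stabilizer Cfsg.M24 o) Y₂).ncard = 840 ∧ (MulAction.orbit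 ↥(MulAction.stabilizer Cfsg.M24 o) Y₃).ncard = 896 ∧ Cfsg.sextets = MulAction.orbit ↥(MulAction.stabilizer Cfsg.M24 o) Y₁ ∪ MulAction.orbit ↥(MulAction.stabilizer Cfsg.M24 o) Y₂ ∪ MulAction.orbit ↥(MulAction.stabilizer Cfsg.M24 o) Y₃) := by
  obtain ⟨a, ha, hao⟩ := exists_smul_octad ho
  have hH0 : MulAction.stabilizer Cfsg.M24 (obj [5279]) =
      MulAction.stabilizer Cfsg.M24 ((⟨a, ha⟩ : Cfsg.M24) • o) := by
    rw [show obj [5279] = {maskSet 5279} from rfl, stabilizer_singleton,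
      show (⟨a, ha⟩ : Cfsg.M24) • o = maskSet 5279 from hao]
  constructor
  · have r : ∀ rc ∈ octTrioCert, obj rc.1 ∈ Cfsg.trios :=
      fun rc hrc => obj_mem_trios (by revert rc; decide +kernel)
    have h := orbits_pair (V := [5279]) (by decide +kernel) (X := octTrioTabs) (by decide +kernel)
      (by decide +kernel) octTrio_orbits (Ω := Cfsg.trios)
      (fun g x hx => smul_mem_trios g.2 hx) r (by decide +kernel)
      Cfsg.Agent.Golay.Sextet.trios_ncard (by decide +kernel)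
    obtain ⟨X, hX, hn, hu⟩ := orbits_at _ hH0 (fun g x hx => smul_mem_trios g.2 hx) r
      ⟨fun i hi => (h.1 i hi).2, h.2⟩
    exact ⟨X ⟨0, by decide⟩, hX _, X ⟨1, by decide⟩, hX _, X ⟨2, by decide⟩, hX _, hn _, hn _, hn _,
      Set.ext fun x => (hu x).trans (by simp [octTrioCert, Fin.exists_fin_succ, or_assoc])⟩
  · have r : ∀ rc ∈ octSextCert, obj rc.1 ∈ Cfsg.sextets :=
      fun rc hrc => obj_mem_sextets (by revert rc; decide +kernel)
    have h := orbits_pair (V := [5279]) (by decide +kernel) (X := octSextTabs) (by decide +kernel)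
      (by decide +kernel) octSext_ok (Ω := Cfsg.sextets)
      (fun g x hx => smul_mem_sextets g.2 hx) r (by decide +kernel)
      Cfsg.Agent.Golay.Sextet.sextets_ncard (by decide +kernel)
    obtain ⟨X, hX, hn, hu⟩ := orbits_at _ hH0 (fun g x hx => smul_mem_sextets g.2 hx) r
      ⟨fun i hi => (h.1 i hi).2, h.2⟩
    exact ⟨X ⟨0, by decide⟩, hX _, X ⟨1, by decide⟩, hX _, X ⟨2, by decide⟩, hX _, hn _, hn _, hn _,
      Set.ext fun x => (hu x).trans (by simp [octSextCert, Fin.exists_fin_succ, or_assoc])⟩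

end Cfsg.Agent.S5610
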