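import Cfsg.Statements.S5611
import Cfsg.Agent.Lib.M24Module.Orbits

set_option autoImplicit false
open scoped Pointwise
open Cfsg

namespace Cfsg.Agent.S5611

open Cfsg.Agent.Golay.Basic Cfsg.Agent.Golay.M24 Cfsg.Agent.Golay.Trans Cfsg.Agent.M24Module.ObjOrbit Cfsg.Agent.M24Module.Config Cfsg.Agent.M24Module.Orbits Cfsg.Agent.M24Module.OrbitCerts
open scoped Pointwise
set_option maxRecDepth 10000

theorem sextOct_ok : treesOK actList listOK listCode sextOctTabs sextOctCert [15, 360, 384] = true := by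
  decide +kernel

theorem sextTrio_ok :
    treesOK actList listOK listCode sextTrioTabs sextTrioCert [15, 180, 720, 2880] = true := by
  decide +kernel

/-- The stabiliser of a sextet in the group of the length-24 code has exactly three orbits on the 759 octads, of sizes 15, 360 and 384, and exactly four orbits on the 3795 trios, of sizes 15, 180, 720 and 2880. -/
theorem result (S : Finset (Finset Cfsg.GolayPt)) (hS : S ∈ Cfsg.sextets) : (∃ X₁ ∈ Cfsg.octads, ∃ X₂ ∈ Cfsg.octads, ∃ X₃ ∈ Cfsg.octads, (MulAction.orbit ↥(MulAction.stabilizer Cfsg.M24 S) X₁).ncard = 15 ∧ (MulAction.orbit ↥(MulAction.stabilizer Cfsg.M24 S) X₂).ncard = 360 ∧ (MulAction.orbit ↥(MulAction.stabilizer Cfsg.M24 S) X₃).ncard = 384 ∧ Cfsg.octads = MulAction.orbit ↥(MulAction.stabilizer Cfsg.M24 S) X₁ ∪ MulAction.orbit ↥(MulAction.stabilizer Cfsg.M24 S) X₂ ∪ MulAction.orbit ↥(MulAction.stabilizer Cfsg.M24 S) X₃) ∧ (∃ Y₁ ∈ Cfsg.trios, ∃ Y₂ ∈ Cfsg.trios, ∃ Y₃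 ∈ Cfsg.trios, ∃ Y₄ ∈ Cfsg.trios, (MulAction.orbit ↥(MulAction.stabilizer Cfsg.M24 S) Y₁).ncard = 15 ∧ (MulAction.orbit ↥(MulAction.stabilizer Cfsg.M24 S) Y₂).ncard = 180 ∧ (MulAction.orbit ↥(MulAction.stabilizer Cfsg.M24 S) Y₃).ncard = 720 ∧ (MulAction.orbit ↥(MulAction.stabilizer Cfsg.M24 S) Y₄).ncard = 2880 ∧ Cfsg.trios = MulAction.orbit ↥(MulAction.stabilizer Cfsg.M24 S) Y₁ ∪ MulAction.orbit ↥(MulAction.stabilizer Cfsg.M24 S) Y₂ ∪ MulAction.orbit ↥(MulAction.stabilizer Cfsg.M24 S) Y₃ ∪ MulAction.orbit ↥(MulAction.stabilizer Cfsg.M24 S) Y₄) := by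
  obtain ⟨a, haS⟩ := exists_smul_sextet hS
  have hH0 : MulAction.stabilizer Cfsg.M24 (obj sextet0) = MulAction.stabilizer Cfsg.M24 (a • S) := by
    rw [haS]
  constructor
  · have r : ∀ rc ∈ sextOctCert, obj rc.1 ∈ octConf := by
      intro rc hrc
      have h : ∀ rc ∈ sextOctCert, rc.1 = [rc.1.headD 0] ∧ isCode (rc.1.headD 0) = true ∧
          pc (rc.1.headD 0) = 8 ∧ rc.1.headD 0 < 2 ^ 24 := by decide +kernel
      obtain ⟨h1, h2, h3, h4⟩ := h rc hrc
      refine ⟨maskSet (rc.1.headD 0), mem_octads_iff.2 ⟨by rwa [mask_maskSet h4], by rwa [card_maskSet]⟩, ?_⟩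
      rw [h1]; rfl
    have h := orbits_pair (V := sextet0) (by decide +kernel) (X := sextOctTabs) (by decide +kernel)
      (by decide +kernel) sextOct_ok (Ω := octConf)
      (fun g x hx => smul_mem_octConf g hx) r (by decide +kernel)
      octConf_ncard (by decide +kernel)
    obtain ⟨X, hX, hn, hu⟩ := orbits_at _ hH0 (fun g x hx => smul_mem_octConf g hx) r
      ⟨fun i hi => (h.1 i hi).2, h.2⟩
    obtain ⟨Y, hY, hYn, hYu⟩ := octad_orbits hX hn hu
    exact ⟨Y ⟨0, by decide⟩, hY _, Y ⟨1, by decide⟩, hY _, Y ⟨2, by decide⟩, hY _, hYn _, hYn _, hYn _,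
      Set.ext fun x => (hYu x).trans (by simp [sextOctCert, Fin.exists_fin_succ, or_assoc])⟩
  · have r : ∀ rc ∈ sextTrioCert, obj rc.1 ∈ Cfsg.trios :=
      fun rc hrc => obj_mem_trios (by revert rc; decide +kernel)
    have h := orbits_pair (V := sextet0) (by decide +kernel) (X := sextTrioTabs) (by decide +kernel)
      (by decide +kernel) sextTrio_ok (Ω := Cfsg.trios)
      (fun g x hx => smul_mem_trios g.2 hx) r (by decide +kernel)
      Cfsg.Agent.Golay.Sextet.trios_ncard (by decide +kernel)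
    obtain ⟨X, hX, hn, hu⟩ := orbits_at _ hH0 (fun g x hx => smul_mem_trios g.2 hx) r
      ⟨fun i hi => (h.1 i hi).2, h.2⟩
    exact ⟨X ⟨0, by decide⟩, hX _, X ⟨1, by decide⟩, hX _, X ⟨2, by decide⟩, hX _, X ⟨3, by decide⟩, hX _,
      hn _, hn _, hn _, hn _,
      Set.ext fun x => (hu x).trans (by simp [sextTrioCert, Fin.exists_fin_succ, or_assoc])⟩

end Cfsg.Agent.S5611
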