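import Cfsg.Statements.S5612
import Cfsg.Agent.Lib.M24Module.Orbits

set_option autoImplicit false
open scoped Pointwise
open Cfsg

namespace Cfsg.Agent.S5612

open Cfsg.Agent.Golay.Basic Cfsg.Agent.Golay.M24 Cfsg.Agent.Golay.Trans Cfsg.Agent.M24Module.ObjOrbit Cfsg.Agent.M24Module.Config Cfsg.Agent.M24Module.Orbits Cfsg.Agent.M24Module.OrbitCerts
open scoped Pointwise
set_option maxRecDepth 10000

theorem trioOct_ok : treesOK actList listOK listCode trioOctTabs trioOctCert [3, 84, 672] = true := by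
  decide +kernel

theorem trioSext_ok :
    treesOK actList listOK listCode trioSextTabs trioSextCert [7, 84, 336, 1344] = true := by
  decide +kernel

/-- The stabiliser of a trio in the group of the length-24 code has exactly three orbits on the 759 octads, of sizes 3, 84 and 672, and exactly four orbits on the 1771 sextets, of sizes 7, 84, 336 and 1344. -/
theorem result (T : Finset (Finset Cfsg.GolayPt)) (hT : T ∈ Cfsg.trios) : (∃ X₁ ∈ Cfsg.octads, ∃ X₂ ∈ Cfsg.octads, ∃ X₃ ∈ Cfsg.octads, (MulAction.orbit ↥(MulAction.stabilizer Cfsg.M24 T) X₁).ncard = 3 ∧ (MulAction.orbit ↥(MulAction.stabilizer Cfsg.M24 T) X₂).ncard = 84 ∧ (MulAction.orbit ↥(MulAction.stabilizer Cfsg.M24 T) X₃).ncard = 672 ∧ Cfsg.octads = MulAction.orbit ↥(MulAction.stabilizer Cfsg.M24 T) X₁ ∪ MulAction.orbit ↥(MulAction.stabilizer Cfsg.M24 T) X₂ ∪ MulAction.orbit ↥(MulAction.stabilizer Cfsg.M24 T) X₃) ∧ (∃ Y₁ ∈ Cfsg.sextets, ∃ Y₂ ∈ Cfsg.sextets, ∃ Y₃ ∈ Cfsg.sextets,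 ∃ Y₄ ∈ Cfsg.sextets, (MulAction.orbit ↥(MulAction.stabilizer Cfsg.M24 T) Y₁).ncard = 7 ∧ (MulAction.orbit ↥(MulAction.stabilizer Cfsg.M24 T) Y₂).ncard = 84 ∧ (MulAction.orbit ↥(MulAction.stabilizer Cfsg.M24 T) Y₃).ncard = 336 ∧ (MulAction.orbit ↥(MulAction.stabilizer Cfsg.M24 T) Y₄).ncard = 1344 ∧ Cfsg.sextets = MulAction.orbit ↥(MulAction.stabilizer Cfsg.M24 T) Y₁ ∪ MulAction.orbit ↥(MulAction.stabilizer Cfsg.M24 T) Y₂ ∪ MulAction.orbit ↥(MulAction.stabilizer Cfsg.M24 T) Y₃ ∪ MulAction.orbit ↥(MulAction.stabilizer Cfsg.M24 T) Y₄) := by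
  obtain ⟨a, haS⟩ := exists_smul_trio hT
  have hH0 : MulAction.stabilizer Cfsg.M24 (obj trio0) = MulAction.stabilizer Cfsg.M24 (a • T) := by
    rw [haS]
  constructor
  · have r : ∀ rc ∈ trioOctCert, obj rc.1 ∈ octConf := by
      intro rc hrc
      have h : ∀ rc ∈ trioOctCert, rc.1 = [rc.1.headD 0] ∧ isCode (rc.1.headD 0) = true ∧
          pc (rc.1.headD 0) = 8 ∧ rc.1.headD 0 < 2 ^ 24 := by decide +kernel
      obtain ⟨h1, h2, h3, h4⟩ := h rc hrc
      refine ⟨maskSet (rc.1.headD 0), mem_octads_iff.2 ⟨by rwa [mask_maskSet h4], by rwa [card_maskSet]⟩, ?_⟩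
      rw [h1]; rfl
    have h := orbits_pair (V := trio0) (by decide +kernel) (X := trioOctTabs) (by decide +kernel)
      (by decide +kernel) trioOct_ok (Ω := octConf)
      (fun g x hx => smul_mem_octConf g hx) r (by decide +kernel)
      octConf_ncard (by decide +kernel)
    obtain ⟨X, hX, hn, hu⟩ := orbits_at _ hH0 (fun g x hx => smul_mem_octConf g hx) r
      ⟨fun i hi => (h.1 i hi).2, h.2⟩
    obtain ⟨Y, hY, hYn, hYu⟩ := octad_orbits hX hn hu
    exact ⟨Y ⟨0, by decide⟩, hY _, Y ⟨1, by decide⟩, hY _, Y ⟨2, by decide⟩, hY _, hYn _, hYn _, hYn _,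
      Set.ext fun x => (hYu x).trans (by simp [trioOctCert, Fin.exists_fin_succ, or_assoc])⟩
  · have r : ∀ rc ∈ trioSextCert, obj rc.1 ∈ Cfsg.sextets :=
      fun rc hrc => obj_mem_sextets (by revert rc; decide +kernel)
    have h := orbits_pair (V := trio0) (by decide +kernel) (X := trioSextTabs) (by decide +kernel)
      (by decide +kernel) trioSext_ok (Ω := Cfsg.sextets)
      (fun g x hx => smul_mem_sextets g.2 hx) r (by decide +kernel)
      Cfsg.Agent.Golay.Sextet.sextets_ncard (by decide +kernel)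
    obtain ⟨X, hX, hn, hu⟩ := orbits_at _ hH0 (fun g x hx => smul_mem_sextets g.2 hx) r
      ⟨fun i hi => (h.1 i hi).2, h.2⟩
    exact ⟨X ⟨0, by decide⟩, hX _, X ⟨1, by decide⟩, hX _, X ⟨2, by decide⟩, hX _, X ⟨3, by decide⟩, hX _,
      hn _, hn _, hn _, hn _,
      Set.ext fun x => (hu x).trans (by simp [trioSextCert, Fin.exists_fin_succ, or_assoc])⟩

end Cfsg.Agent.S5612
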