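import Cfsg.Statements.S5613
import Cfsg.Agent.Lib.M24Module.OctadFix

set_option autoImplicit false
open scoped Pointwise
open Cfsg

namespace Cfsg.Agent.S5613

open Cfsg.Agent.Golay.Basic Cfsg.Agent.Golay.M24Data Cfsg.Agent.M24Module.OctadFix
open scoped Pointwise

theorem joint {o o' : Finset Cfsg.GolayPt} (ho : o ∈ Cfsg.octads) (ho' : o' ∈ Cfsg.octads) {j n m : ℕ}
    (hj : (o ∩ o').card = j)
    (hn : (codeList.filter fun x => pc x == 8 && pc (x &&& baseOctad) == j).length = n) (hn0 : 0 < n)
    (hm : n * m = 322560) :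
    Nat.card ↥(MulAction.stabilizer Cfsg.M24 o ⊓ MulAction.stabilizer Cfsg.M24 o') = m := by
  have h := card_inf_stabilizer o o'
  rw [orbit_octad ho ho', hj, ncard_meeting ho hn, card_stabilizer_octad ho, ← hm] at h
  exact Nat.eq_of_mul_eq_mul_left hn0 h

/-- In the group of the length-24 code, the joint stabiliser of two octads has order 10752, 1152 or 720 according as the octads meet in 0, 4 or 2 points. -/
theorem result (o o' : Finset Cfsg.GolayPt) (ho : o ∈ Cfsg.octads) (ho' : o' ∈ Cfsg.octads) : ((o ∩ o').card = 0 → Nat.card ↥(MulAction.stabilizer Cfsg.M24 o ⊓ MulAction.stabilizer Cfsg.M24 o') = 10752) ∧ ((o ∩ o').card = 4 → Nat.card ↥(MulAction.stabilizer Cfsg.M24 o ⊓ MulAction.stabilizer Cfsg.M24 o') = 1152) ∧ ((o ∩ o').card = 2 → Nat.card ↥(MulAction.stabilizer Cfsg.M24 o ⊓ MulAction.stabilizer Cfsg.M24 o') = 720) := by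
  exact ⟨fun h => joint ho ho' h (n := 30) (by decide +kernel) (by norm_num) (by norm_num),
    fun h => joint ho ho' h (n := 280) (by decide +kernel) (by norm_num) (by norm_num),
    fun h => joint ho ho' h (n := 448) (by decide +kernel) (by norm_num) (by norm_num)⟩

end Cfsg.Agent.S5613
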