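import Cfsg.Statements.S5614
import Cfsg.Agent.Lib.M24Module.OctadFix

set_option autoImplicit false
open scoped Pointwise
open Cfsg

namespace Cfsg.Agent.S5614

open Cfsg.Agent.Golay.Basic Cfsg.Agent.Golay.Design Cfsg.Agent.Golay.M24Data Cfsg.Agent.M24Module.OctadFix
open scoped Pointwise

/-- In the group of the length-24 code, the joint stabiliser of two octads meeting in exactly two points is isomorphic to the symmetric group of degree 6. -/
theorem result (o o' : Finset Cfsg.GolayPt) (ho : o ∈ Cfsg.octads) (ho' : o' ∈ Cfsg.octads) (h₂ : (o ∩ o').card = 2) : Nonempty (↥(MulAction.stabilizer Cfsg.M24 o ⊓ MulAction.stabilizer Cfsg.M24 o') ≃* Equiv.Perm (Fin 6)) := by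
  have hcard : Nat.card ↥(MulAction.stabilizer Cfsg.M24 o ⊓ MulAction.stabilizer Cfsg.M24 o') = 720 := by
    have h := card_inf_stabilizer o o'
    rw [orbit_octad ho ho', h₂, ncard_meeting ho (n := 448) (by decide +kernel),
      card_stabilizer_octad ho] at h
    omega
  have hs : (o \ o').card = 6 := by
    have := Finset.card_sdiff_add_card_inter o o'
    rw [octad_card ho, h₂] at this
    omega
  refine nonempty_equiv_perm _ (o \ o') hs (fun g hg => inv_sdiff hg.1 hg.2) ?_ hcard
  intro g hg hfix
  exact Subtype.ext (eq_one_of_fix_two ho ho' h₂ Finset.sdiff_subset hs.ge g.2 hfix hg.2)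

end Cfsg.Agent.S5614
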