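import Cfsg.Statements.S5615
import Cfsg.Agent.Lib.M24Module.Config
import Cfsg.Agent.Lib.M24Module.OctadFix
import Cfsg.Agent.Lib.M24Module.TrioChainData

set_option autoImplicit false
open scoped Pointwise
open Cfsg

namespace Cfsg.Agent.S5615

open Cfsg.Agent.M24Module Cfsg.Agent.Golay.Basic Cfsg.Agent.Golay.Design Cfsg.Agent.Golay.Perm Cfsg.Agent.Golay.M24 Cfsg.Agent.Golay.M24Data Cfsg.Agent.Golay.Cert Cfsg.Agent.Golay.Trans Cfsg.Agent.Golay.Orbit Cfsg.Agent.M24Module.ObjOrbit Cfsg.Agent.M24Module.Config Cfsg.Agent.M24Module.TrioChainData Cfsg.Agent.M24Module.OctadFix Cfsg.Agent.M24Module.FixData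
open scoped Pointwise
set_option maxRecDepth 10000

theorem smul_in {g : Cfsg.M24} {o : Finset Cfsg.GolayPt} (hg : g • o = o)
    {T : Finset (Finset Cfsg.GolayPt)} : o ∈ g • T ↔ o ∈ T := by
  conv_lhs => rw [← hg]
  exact Finset.smul_mem_smul_finset_iff g

/-- The trios through the standard octad: fifteen, one orbit. -/
theorem through0 :
    {T | T ∈ Cfsg.trios ∧ maskSet 5279 ∈ T}.ncard = 15 ∧
    ∀ T ∈ Cfsg.trios, maskSet 5279 ∈ T →
      T ∈ MulAction.orbit (MulAction.stabilizer Cfsg.M24 (maskSet 5279)) (obj trio0) := by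
  have r : ∀ rc ∈ OrbitCerts.octTrioCert, obj rc.1 ∈ Cfsg.trios :=
    fun rc hrc => obj_mem_trios (by revert rc; decide +kernel)
  have h := orbits_pair (V := [5279]) (by decide +kernel) (X := OrbitCerts.octTrioTabs)
    (by decide +kernel) (by decide +kernel) octTrio_orbits (Ω := Cfsg.trios)
    (fun g x hx => smul_mem_trios g.2 hx) r (by decide +kernel)
    Cfsg.Agent.Golay.Sextet.trios_ncard (by decide +kernel)
  rw [show obj [5279] = {maskSet 5279} from rfl, stabilizer_singleton] at h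
  have h0 : ∀ i : Fin OrbitCerts.octTrioCert.length, listOK (OrbitCerts.octTrioCert[i.1]).1 = true ∧
      ((OrbitCerts.octTrioCert[i.1]).1.contains 5279 = true ↔ i.1 = 0) := by decide +kernel
  have hin : ∀ i (hi : i < OrbitCerts.octTrioCert.length),
      maskSet 5279 ∈ obj (OrbitCerts.octTrioCert[i]).1 ↔ i = 0 := by
    intro i hi
    obtain ⟨hl, hiff⟩ := h0 ⟨i, hi⟩
    rw [← hiff, mem_obj, List.contains_eq_mem, decide_eq_true_eq]
    refine ⟨fun ⟨m, hm, e⟩ => ?_, fun hm => ⟨_, hm, rfl⟩⟩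
    simp only [listOK, Bool.and_eq_true, List.all_eq_true, decide_eq_true_eq] at hl
    have hm' : m = 5279 := by
      rw [← mask_maskSet (hl.1 m hm), e, mask_maskSet (by decide +kernel)]
    exact hm' ▸ hm
  have hlen : 0 < OrbitCerts.octTrioCert.length := by decide
  have hz : (OrbitCerts.octTrioCert[0]'hlen).1 = trio0 := rfl
  have key : ∀ T, (T ∈ Cfsg.trios ∧ maskSet 5279 ∈ T) ↔
      T ∈ MulAction.orbit (MulAction.stabilizer Cfsg.M24 (maskSet 5279)) (obj trio0) := by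
    intro T
    constructor
    · rintro ⟨hT, ho⟩
      obtain ⟨i, hi, g, e⟩ := h.2 T hT
      have e' : (g : Cfsg.M24) • obj OrbitCerts.octTrioCert[i].1 = T := e
      rw [← e', smul_in g.2, hin i hi] at ho
      subst ho
      rw [← hz, ← e']
      exact ⟨g, rfl⟩
    · rintro ⟨g, rfl⟩
      refine ⟨smul_mem_trios g.1.2 trio0_mem, ?_⟩
      show maskSet 5279 ∈ (g : Cfsg.M24) • obj trio0
      rw [smul_in g.2, ← hz, hin 0 hlen]
  refine ⟨?_, fun T hT ho => (key T).1 ⟨hT, ho⟩⟩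
  rw [show {T | T ∈ Cfsg.trios ∧ maskSet 5279 ∈ T} = _ from Set.ext key, ← hz]
  exact (h.1 0 hlen).2

theorem pair_ok : treesOK actList listOK listCode pairGens pairCert [14] = true := by decide +kernel

/-- Second level transitivity. -/
theorem second {T T' : Finset (Finset Cfsg.GolayPt)}
    (hT : T ∈ Cfsg.trios ∧ maskSet 5279 ∈ T ∧ T ≠ obj trio0)
    (hT' : T' ∈ Cfsg.trios ∧ maskSet 5279 ∈ T' ∧ T' ≠ obj trio0) :
    ∃ g : Cfsg.M24, g • maskSet 5279 = maskSet 5279 ∧ g • obj trio0 = obj trio0 ∧ g • T = T' := by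
  have hH : ∀ g : Cfsg.M24, (g : Equiv.Perm Cfsg.GolayPt) ∈ tabGroup pairGens →
      g ∈ MulAction.stabilizer Cfsg.M24 (maskSet 5279) ⊓ MulAction.stabilizer Cfsg.M24 (obj trio0) := by
    intro g hg
    have h1 := le_stabilizer_obj (X := pairGens) (by decide +kernel) (v := [5279]) (by decide +kernel) g hg
    rw [show obj [5279] = {maskSet 5279} from rfl, stabilizer_singleton] at h1
    exact ⟨h1, le_stabilizer_obj (X := pairGens) (by decide +kernel) (by decide +kernel) g hg⟩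
  have hN : {U | U ∈ Cfsg.trios ∧ maskSet 5279 ∈ U ∧ U ≠ obj trio0}.ncard = 14 := by
    have e : {U | U ∈ Cfsg.trios ∧ maskSet 5279 ∈ U ∧ U ≠ obj trio0} =
        {U | U ∈ Cfsg.trios ∧ maskSet 5279 ∈ U} \ {obj trio0} := by
      ext U
      exact ⟨fun ⟨a, b, c⟩ => ⟨⟨a, b⟩, c⟩, fun ⟨⟨a, b⟩, c⟩ => ⟨a, b, c⟩⟩
    rw [e, Set.ncard_sdiff_singleton_of_mem
      (show obj trio0 ∈ {U | U ∈ Cfsg.trios ∧ maskSet 5279 ∈ U} from
        ⟨trio0_mem, mem_obj.2 ⟨5279, List.mem_cons_self, rfl⟩⟩), through0.1]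
  have hroots : ∀ rc ∈ pairCert,
      obj rc.1 ∈ {U | U ∈ Cfsg.trios ∧ maskSet 5279 ∈ U ∧ U ≠ obj trio0} := by
    intro rc hrc
    have hc : ∀ rc ∈ pairCert, trioOK rc.1 = true ∧ 5279 ∈ rc.1 ∧
        listCode rc.1 ≠ listCode trio0 ∧ listOK rc.1 = true ∧ listOK trio0 = true := by decide +kernel
    obtain ⟨h1, h2, h3, h4, h5⟩ := hc rc hrc
    refine ⟨obj_mem_trios h1, mem_obj.2 ⟨5279, h2, rfl⟩, fun e => h3 ?_⟩
    rw [← objCode_obj h4, ← objCode_obj h5, e]
  have h := orbits_of_cert (act := actList) obj (fun x hx s => smul_obj hx s) objCode listOK listCode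
    (fun _ hs => objCode_obj hs) _ (X := pairGens) (by decide +kernel) hH pairCert _ pair_ok
    {U | U ∈ Cfsg.trios ∧ maskSet 5279 ∈ U ∧ U ≠ obj trio0}
    (fun g hg x hx => ⟨smul_mem_trios g.2 hx.1, (smul_in hg.1).2 hx.2.1, fun e => hx.2.2 ?_⟩)
    hroots hN (fun _ => ()) (fun _ _ _ _ => rfl) (List.nodup_singleton _)
  · obtain ⟨i, hi, g1, e1⟩ := h.2 T hT
    obtain ⟨j, hj, g2, e2⟩ := h.2 T' hT'
    have hij : i = j := by
      have : pairCert.length = 1 := rfl
      omega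
    subst hij
    refine ⟨g2.1 * g1.1⁻¹, ?_, ?_, ?_⟩
    · exact (g2 * g1⁻¹).2.1
    · exact (g2 * g1⁻¹).2.2
    · rw [← e1, ← e2]
      show (g2.1 * g1.1⁻¹) • g1.1 • obj pairCert[i].1 = g2.1 • obj pairCert[i].1
      rw [mul_smul, inv_smul_smul]
  · have h2 : g⁻¹ • obj trio0 = obj trio0 := (inv_mem hg).2
    rw [← h2, ← e, inv_smul_smul]

theorem two_trans {o : Finset Cfsg.GolayPt} {a : Cfsg.M24} (hao : a • o = maskSet 5279)
    {T U : Finset (Finset Cfsg.GolayPt)} (hT : T ∈ Cfsg.trios) (hU : U ∈ Cfsg.trios)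
    (hoT : o ∈ T) (hoU : o ∈ U) (hne : T ≠ U) :
    ∃ b : Cfsg.M24, b • o = maskSet 5279 ∧ b • T = obj trio0 ∧
      (b • U ∈ Cfsg.trios ∧ maskSet 5279 ∈ b • U ∧ b • U ≠ obj trio0) := by
  obtain ⟨g, e⟩ := through0.2 (a • T) (smul_mem_trios a.2 hT)
    (hao ▸ Finset.smul_mem_smul_finset hoT)
  have e' : (g : Cfsg.M24) • obj trio0 = a • T := e
  have hbo : ((g : Cfsg.M24)⁻¹ * a) • o = maskSet 5279 := by
    rw [mul_smul, hao]; exact (inv_mem g.2)
  have hbT : ((g : Cfsg.M24)⁻¹ * a) • T = obj trio0 := by rw [mul_smul, ← e', inv_smul_smul]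
  generalize ((g : Cfsg.M24)⁻¹ * a) = b at hbo hbT
  refine ⟨b, hbo, hbT, smul_mem_trios b.2 hU,
    by rw [← hbo]; exact Finset.smul_mem_smul_finset hoU, fun e2 => hne ?_⟩
  rw [← hbT] at e2
  exact (MulAction.injective _ e2).symm

theorem count {o : Finset Cfsg.GolayPt} {a : Cfsg.M24} (hao : a • o = maskSet 5279) :
    {T | T ∈ Cfsg.trios ∧ o ∈ T}.ncard = 15 := by
  rw [← through0.1, ← Set.ncard_image_of_injective _ (MulAction.injective a)]
  congr 1
  ext T
  constructor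
  · rintro ⟨U, ⟨hU, ho⟩, rfl⟩
    exact ⟨smul_mem_trios a.2 hU, hao ▸ Finset.smul_mem_smul_finset ho⟩
  · rintro ⟨hT, ho⟩
    refine ⟨a⁻¹ • T, ⟨smul_mem_trios (a⁻¹).2 hT, ?_⟩, smul_inv_smul a T⟩
    have := Finset.smul_mem_smul_finset (a := a⁻¹) ho
    rwa [← hao, inv_smul_smul] at this

theorem lower {H : Subgroup Cfsg.M24} {X : List ℕ} (hX : X.all tabOK = true)
    (hXH : ∀ g : Cfsg.M24, (g : Equiv.Perm Cfsg.GolayPt) ∈ tabGroup X → g ∈ H)
    {r : List ℕ} {cert : List (ℕ × ℕ)} {n : ℕ}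
    (h : treesOK actList listOK listCode X [(r, cert)] [n] = true) :
    n * Nat.card ↥(H ⊓ MulAction.stabilizer Cfsg.M24 (obj r)) ≤ Nat.card H := by
  classical
  have horb : n ≤ (MulAction.orbit H (obj r)).ncard := by
    simp only [treesOK, List.map_cons, List.map_nil, List.all_cons, List.all_nil, Bool.and_true,
      List.flatten_cons, List.flatten_nil, List.append_nil, Bool.and_eq_true, List.all_eq_true,
      beq_iff_eq, List.cons.injEq, and_true] at h
    obtain ⟨⟨hok, hdist⟩, hlen⟩ := h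
    have hnd : ((orbitList actList X cert r).map obj).Nodup := by
      refine List.Nodup.of_map objCode ?_
      rw [List.map_map, List.map_congr_left (f := objCode ∘ obj) (g := listCode) fun s hs => objCode_obj (hok s hs)]
      exact Trie.nodup_of_distinct hdist
    rw [← hlen, ← List.length_map (f := obj), ← List.toFinset_card_of_nodup hnd, ← Set.ncard_coe_finset]
    refine Set.ncard_le_ncard (fun x hx => ?_) (Set.toFinite _)
    obtain ⟨s, hs, rfl⟩ := List.mem_map.1 (List.mem_toFinset.1 hx)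
    obtain ⟨g, hg, e⟩ := orbitList_rel hX obj (fun x hx s => smul_obj hx s) r cert s hs
    exact ⟨⟨⟨g, tabGroup_le_M24 hX hg⟩, hXH _ hg⟩, e⟩
  have hc : Nat.card ↥(H ⊓ MulAction.stabilizer Cfsg.M24 (obj r)) =
      Nat.card (MulAction.stabilizer H (obj r)) :=
    Nat.card_congr
      { toFun := fun g => ⟨⟨g.1, g.2.1⟩, g.2.2⟩
        invFun := fun g => ⟨g.1.1, g.1.2, g.2⟩
        left_inv := fun _ => rfl
        right_inv := fun _ => rfl }
  rw [hc, ← index_mul (G := H) (obj r)]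
  exact Nat.mul_le_mul_right _ horb

theorem chain_checks :
    (treesOK actList listOK listCode gens0 [(t0, cert0)] [15] = true ∧
     treesOK actList listOK listCode gens1 [(t1, cert1)] [14] = true ∧
     treesOK actList listOK listCode gens2 [(t2, cert2)] [12] = true ∧
     treesOK actList listOK listCode gens3 [(t3, cert3)] [8] = true) ∧
    ([t0, t1, t2, t3].all fun t => trioOK t && t.contains 5279) = true ∧
    (gens0 ++ gens1 ++ gens2 ++ gens3).all tabOK = true ∧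
    (fifteen.all fun t => trioOK t && t.contains 5279) = true ∧
    Trie.distinct (fifteen.map listCode) = true ∧ fifteen.length = 15 ∧
    ((fix16.all fun x => tabOK x) && fix16.all fun x => fifteen.all fun t =>
      t.all fun m => t.contains (imgTab x m)) = true := by
  decide +kernel

/-- The subgroup fixing the standard octad and every trio through it. -/
def kern : Subgroup Cfsg.M24 :=
  MulAction.stabilizer Cfsg.M24 (maskSet 5279) ⊓
    ⨅ T ∈ {T | T ∈ Cfsg.trios ∧ maskSet 5279 ∈ T}, MulAction.stabilizer Cfsg.M24 T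

theorem card_kern : Nat.card kern ≤ 16 := by
  obtain ⟨⟨h0, h1, h2, h3⟩, hts, hX, -⟩ := chain_checks
  simp only [List.all_append, Bool.and_eq_true] at hX
  simp only [List.all_cons, List.all_nil, Bool.and_true, Bool.and_eq_true, List.contains_eq_mem,
    decide_eq_true_eq] at hts
  let S : List ℕ → Subgroup Cfsg.M24 := fun t => MulAction.stabilizer Cfsg.M24 (obj t)
  let H0 : Subgroup Cfsg.M24 := MulAction.stabilizer Cfsg.M24 (obj [5279])
  have c0 : Nat.card H0 = 322560 := by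
    rw [show H0 = MulAction.stabilizer Cfsg.M24 (maskSet 5279) from stabilizer_singleton _]
    exact card_stabilizer_octad (mem_octads_iff.2 (by decide +kernel))
  have l0 := lower (H := H0) hX.1.1.1
    (fun g hg => le_stabilizer_obj hX.1.1.1 (by decide +kernel) g hg) h0
  have l1 := lower (H := H0 ⊓ S t0) hX.1.1.2
    (fun g hg => ⟨le_stabilizer_obj hX.1.1.2 (by decide +kernel) g hg,
      le_stabilizer_obj hX.1.1.2 (by decide +kernel) g hg⟩) h1
  have l2 := lower (H := H0 ⊓ S t0 ⊓ S t1) hX.1.2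
    (fun g hg => ⟨⟨le_stabilizer_obj hX.1.2 (by decide +kernel) g hg,
      le_stabilizer_obj hX.1.2 (by decide +kernel) g hg⟩,
      le_stabilizer_obj hX.1.2 (by decide +kernel) g hg⟩) h2
  have l3 := lower (H := H0 ⊓ S t0 ⊓ S t1 ⊓ S t2) hX.2
    (fun g hg => ⟨⟨⟨le_stabilizer_obj hX.2 (by decide +kernel) g hg,
      le_stabilizer_obj hX.2 (by decide +kernel) g hg⟩,
      le_stabilizer_obj hX.2 (by decide +kernel) g hg⟩,
      le_stabilizer_obj hX.2 (by decide +kernel) g hg⟩) h3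
  have hle : Nat.card kern ≤ Nat.card ↥(H0 ⊓ S t0 ⊓ S t1 ⊓ S t2 ⊓ S t3) := by
    refine Subgroup.card_le_of_le fun g hg => ?_
    have hmem : ∀ t, trioOK t = true → 5279 ∈ t → g ∈ S t := fun t ht h5 =>
      Subgroup.mem_iInf.1 (Subgroup.mem_iInf.1 hg.2 (obj t))
        ⟨obj_mem_trios ht, mem_obj.2 ⟨5279, h5, rfl⟩⟩
    refine ⟨⟨⟨⟨?_, hmem _ hts.1.1 hts.1.2⟩, hmem _ hts.2.1.1 hts.2.1.2⟩, hmem _ hts.2.2.1.1 hts.2.2.1.2⟩,
      hmem _ hts.2.2.2.1 hts.2.2.2.2⟩
    rw [show H0 = MulAction.stabilizer Cfsg.M24 (maskSet 5279) from stabilizer_singleton _]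
    exact hg.1
  simp only [S] at l1 l2 l3 hle
  omega

theorem fix_std {g : Cfsg.M24} (hg : g • maskSet 5279 = maskSet 5279) :
    (∀ T ∈ Cfsg.trios, maskSet 5279 ∈ T → g • T = T) ↔
      (g : Equiv.Perm Cfsg.GolayPt) ∈ fixers Cfsg.M24 (basePre 6) := by
  classical
  obtain ⟨-, -, -, h15, hd, hl, hfix⟩ := chain_checks
  simp only [Bool.and_eq_true, List.all_eq_true, List.contains_eq_mem, decide_eq_true_eq] at hfix h15
  have hall : ∀ T, T ∈ Cfsg.trios ∧ maskSet 5279 ∈ T → ∃ t ∈ fifteen, obj t = T := by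
    intro T hT
    have hok : ∀ t ∈ fifteen, listOK t = true := fun t ht => by
      have := (h15 t ht).1
      simp only [trioOK, Bool.and_eq_true] at this
      exact this.1.1.1
    have hnd : (fifteen.map obj).Nodup := by
      refine List.Nodup.of_map objCode ?_
      rw [List.map_map, List.map_congr_left (f := objCode ∘ obj) (g := listCode) fun s hs => objCode_obj (hok s hs)]
      exact Trie.nodup_of_distinct hd
    have he : ((fifteen.map obj).toFinset : Set (Finset (Finset Cfsg.GolayPt))) =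
        {T | T ∈ Cfsg.trios ∧ maskSet 5279 ∈ T} := by
      refine Set.eq_of_subset_of_ncard_le ?_ ?_ (Set.toFinite _)
      · intro U hU
        obtain ⟨t, ht, rfl⟩ := List.mem_map.1 (List.mem_toFinset.1 hU)
        exact ⟨obj_mem_trios (h15 t ht).1, mem_obj.2 ⟨5279, (h15 t ht).2, rfl⟩⟩
      · rw [through0.1, Set.ncard_coe_finset, List.toFinset_card_of_nodup hnd, List.length_map, hl]
    have : T ∈ ((fifteen.map obj).toFinset : Set (Finset (Finset Cfsg.GolayPt))) := he.symm ▸ hT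
    exact List.mem_map.1 (List.mem_toFinset.1 this)
  have hsuff : ∀ g' : Cfsg.M24, (g' : Equiv.Perm Cfsg.GolayPt) ∈ fixers Cfsg.M24 (basePre 6) →
      g' ∈ kern := by
    intro g' h6
    obtain ⟨x, hx, hxt⟩ := exists_fix16 h6
    have ho5 : g' • maskSet 5279 = maskSet 5279 :=
      baseOctad_fixed (show (g' : Equiv.Perm Cfsg.GolayPt) ∈ fixers Cfsg.M24 (basePre 5) from
        ⟨g'.2, fun y hy => h6.2 y (List.mem_cons_of_mem _ hy)⟩)
    refine ⟨ho5, Subgroup.mem_iInf.2 fun T => Subgroup.mem_iInf.2 fun hT => ?_⟩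
    obtain ⟨t, ht, rfl⟩ := hall T hT
    have hx' : tabOK x = true := hfix.1 x hx
    rw [MulAction.mem_stabilizer_iff, coe_smul, show (g' : Equiv.Perm Cfsg.GolayPt) = tabPerm x from
      hxt.unique (isTab_tabPerm hx'), smul_obj hx']
    refine Finset.eq_of_subset_of_card_le (fun u hu => ?_) (le_of_eq ?_)
    · obtain ⟨m', hm', rfl⟩ := mem_obj.1 hu
      obtain ⟨m, hm, rfl⟩ := List.mem_map.1 hm'
      exact mem_obj.2 ⟨_, hfix.2 x hx t ht m hm, rfl⟩
    · rw [← smul_obj hx', Finset.card_smul_finset]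
  refine ⟨fun h => ?_, fun h6 T hT ho => ?_⟩
  · let K : Subgroup Cfsg.M24 := (fixers Cfsg.M24 (basePre 6)).comap Cfsg.M24.subtype
    have hK : Nat.card K = 16 := by
      rw [card_of_mem_iff (K := fixers Cfsg.M24 (basePre 6)) (fun _ => Iff.rfl) (fixers_le _ _)]
      exact card_fixers_basePre 6 (by norm_num)
    have heq : K = kern := Subgroup.eq_of_le_of_card_ge hsuff (card_kern.trans hK.ge)
    have hgk : g ∈ kern :=
      ⟨hg, Subgroup.mem_iInf.2 fun T => Subgroup.mem_iInf.2 fun hT => h T hT.1 hT.2⟩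
    rw [← heq] at hgk
    exact hgk
  · exact Subgroup.mem_iInf.1 (Subgroup.mem_iInf.1 (hsuff g h6).2 T) ⟨hT, ho⟩

/-- An octad of the length-24 code lies in exactly 15 trios; the stabiliser of the octad in the code's group acts doubly transitively on these 15 trios, and the kernel of this action is the pointwise stabiliser of the octad. -/
theorem result (o : Finset Cfsg.GolayPt) (ho : o ∈ Cfsg.octads) : {T : Finset (Finset Cfsg.GolayPt) | T ∈ Cfsg.trios ∧ o ∈ T}.ncard = 15 ∧ (∀ T₁ T₂ T₁' T₂' : Finset (Finset Cfsg.GolayPt), T₁ ∈ Cfsg.trios → T₂ ∈ Cfsg.trios → T₁' ∈ Cfsg.trios → T₂' ∈ Cfsg.trios → o ∈ T₁ → o ∈ T₂ → o ∈ T₁' → o ∈ T₂' → T₁ ≠ T₂ → T₁' ≠ T₂' → ∃ g ∈ Cfsg.M24, g • o = o ∧ g • T₁ = T₁' ∧ g • T₂ = T₂') ∧ ∀ g ∈ Cfsg.M24, g • o = o → ((∀ T ∈ Cfsg.trios, o ∈ T → g • T = T) ↔ ∀ p ∈ o, g p = p) := by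
  obtain ⟨a₀, ha, hao⟩ := exists_smul_octad ho
  have hao' : (⟨a₀, ha⟩ : Cfsg.M24) • o = maskSet 5279 := hao
  refine ⟨count hao', fun T₁ T₂ T₁' T₂' h1 h2 h1' h2' o1 o2 o1' o2' n n' => ?_, fun g hg hgo => ?_⟩
  · obtain ⟨b, bo, b1, b2⟩ := two_trans hao' h1 h2 o1 o2 n
    obtain ⟨c, co, c1, c2⟩ := two_trans hao' h1' h2' o1' o2' n'
    obtain ⟨k, ko, k1, k2⟩ := second b2 c2
    refine ⟨(c⁻¹ * k * b : Cfsg.M24), SetLike.coe_mem _, ?_, ?_, ?_⟩
    · show (c⁻¹ * k * b) • o = o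
      rw [mul_smul, mul_smul, bo, ko, ← co, inv_smul_smul]
    · show (c⁻¹ * k * b) • T₁ = T₁'
      rw [mul_smul, mul_smul, b1, k1, ← c1, inv_smul_smul]
    · show (c⁻¹ * k * b) • T₂ = T₂'
      rw [mul_smul, mul_smul, k2, inv_smul_smul]
  · set a : Cfsg.M24 := ⟨a₀, ha⟩ with hadef
    set G : Cfsg.M24 := ⟨g, hg⟩ with hG
    have hG' : (a * G * a⁻¹) • maskSet 5279 = maskSet 5279 := by
      rw [← hao', mul_smul, mul_smul, inv_smul_smul, show G • o = o from hgo]
    have h := fix_std hG'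
    constructor
    · intro hall p hp
      have h6 : ((a * G * a⁻¹ : Cfsg.M24) : Equiv.Perm Cfsg.GolayPt) ∈ fixers Cfsg.M24 (basePre 6) := by
        refine h.1 fun T hT hoT => ?_
        have hoT' : o ∈ a⁻¹ • T := by
          have := Finset.smul_mem_smul_finset (a := a⁻¹) hoT
          rwa [← hao', inv_smul_smul] at this
        rw [mul_smul, mul_smul, show G • a⁻¹ • T = a⁻¹ • T from hall _ (smul_mem_trios (a⁻¹).2 hT) hoT',
          smul_inv_smul]
      have := (fix_octad_of_fixers6 h6).1 (a₀ p) (by rw [← hao]; exact (mem_smul_iff a₀ o p).2 hp)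
      simpa [hadef, hG] using this
    · intro hfix T hT hoT
      have h6 : ((a * G * a⁻¹ : Cfsg.M24) : Equiv.Perm Cfsg.GolayPt) ∈ fixers Cfsg.M24 (basePre 6) := by
        refine ⟨SetLike.coe_mem _, fun x hx => ?_⟩
        have hxo : a₀⁻¹ x ∈ o := by
          have hb : ∀ y ∈ basePre 6, y ∈ maskSet baseOctad := by decide +kernel
          have h4 := hb x hx
          rw [← hao, ← (show a₀ (a₀⁻¹ x) = x by simp), mem_smul_iff] at h4
          exact h4
        show (a₀ * g * a₀⁻¹) x = x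
        rw [Equiv.Perm.mul_apply, Equiv.Perm.mul_apply, hfix _ hxo]
        simp
      have := h.2 h6 (a • T) (smul_mem_trios a.2 hT) (hao' ▸ Finset.smul_mem_smul_finset hoT)
      rw [mul_smul, mul_smul, inv_smul_smul] at this
      exact MulAction.injective a this

end Cfsg.Agent.S5615
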