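import Cfsg.Statements.S5616
import Cfsg.Agent.Lib.M24Module.Orbits

set_option autoImplicit false
open scoped Pointwise
open Cfsg

namespace Cfsg.Agent.S5616

open Cfsg.Agent.Golay.Basic Cfsg.Agent.Golay.M24 Cfsg.Agent.Golay.Trans Cfsg.Agent.Golay.Orbit Cfsg.Agent.M24Module.ObjOrbit Cfsg.Agent.M24Module.Config Cfsg.Agent.M24Module.Orbits Cfsg.Agent.M24Module.OrbitCerts
open scoped Pointwise
set_option maxRecDepth 10000

theorem triSext_ok : treesOK actList listOK listCode triSextTabs triSextCert [21, 630, 1120] = true := by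
  decide +kernel

/-- Number of parts meeting a set. -/
def meet (Y : Finset Cfsg.GolayPt) (S : Finset (Finset Cfsg.GolayPt)) : ℕ :=
  (S.filter fun t => (t ∩ Y).Nonempty).card

theorem meet_smul (g : Equiv.Perm Cfsg.GolayPt) (Y : Finset Cfsg.GolayPt)
    (S : Finset (Finset Cfsg.GolayPt)) : meet (g • Y) (g • S) = meet Y S := by
  have e : (g • S).filter (fun t => (t ∩ g • Y).Nonempty) =
      g • S.filter (fun t => (t ∩ Y).Nonempty) := by
    ext t
    simp only [Finset.mem_filter, Finset.mem_smul_finset]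
    constructor
    · rintro ⟨⟨u, hu, rfl⟩, h⟩
      refine ⟨u, ⟨hu, ?_⟩, rfl⟩
      rwa [← Finset.card_pos, inter_smul_card, Finset.card_pos] at h
    · rintro ⟨u, ⟨hu, h⟩, rfl⟩
      refine ⟨⟨u, hu, rfl⟩, ?_⟩
      rwa [← Finset.card_pos, inter_smul_card, Finset.card_pos]
  rw [meet, e, Finset.card_smul_finset, meet]

theorem key {Y : Finset Cfsg.GolayPt} (hY : Y.card = 3) :
    {S | S ∈ Cfsg.sextets ∧ meet Y S = 1}.ncard = 21 ∧
    {S | S ∈ Cfsg.sextets ∧ meet Y S = 2}.ncard = 630 ∧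
    {S | S ∈ Cfsg.sextets ∧ meet Y S = 3}.ncard = 1120 ∧
    ∀ S S' : Finset (Finset Cfsg.GolayPt), S ∈ Cfsg.sextets → S' ∈ Cfsg.sextets →
      meet Y S = meet Y S' → ∃ g ∈ Cfsg.M24, g • Y = Y ∧ g • S = S' := by
  have hsmall : ∀ T : Finset Cfsg.GolayPt, T = maskSet 7 →
      (triSextCert.map fun rc => meet T (obj rc.1)) = [1, 2, 3] := by
    rintro T rfl; decide +kernel
  obtain ⟨a, ha, e⟩ := Cfsg.Agent.Golay.SetOrbit.exists_smul_small hY (by omega)
  replace e : (⟨a, ha⟩ : Cfsg.M24) • Y = maskSet 7 := e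
  generalize (⟨a, ha⟩ : Cfsg.M24) = b at e
  have hfix : ∀ g : Cfsg.M24, g ∈ MulAction.stabilizer Cfsg.M24 (maskSet 7) →
      ∀ x, meet (maskSet 7) (g • x) = meet (maskSet 7) x := by
    intro g hg x
    conv_lhs => rw [← show g • maskSet 7 = maskSet 7 from hg]
    exact meet_smul _ _ _
  have r : ∀ rc ∈ triSextCert, obj rc.1 ∈ Cfsg.sextets :=
    fun rc hrc => obj_mem_sextets (by revert rc; decide +kernel)
  have h := orbits_of_cert (act := actList) obj (fun x hx s => smul_obj hx s) objCode listOK listCode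
    (fun _ hs => objCode_obj hs) (MulAction.stabilizer Cfsg.M24 (maskSet 7)) (X := triSextTabs)
    (by decide +kernel) (fun g hg => by
      have h7 := le_stabilizer_obj (X := triSextTabs) (by decide +kernel) (v := [7]) (by decide +kernel) g hg
      rwa [show obj [7] = {maskSet 7} from rfl, stabilizer_singleton] at h7)
    triSextCert _ triSext_ok Cfsg.sextets (fun g _ x hx => smul_mem_sextets g.2 hx) r
    Cfsg.Agent.Golay.Sextet.sextets_ncard (meet (maskSet 7)) (fun g hg x _ => hfix g hg x)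
    (by rw [hsmall _ rfl]; decide)
  have hroot : ∀ i (hi : i < triSextCert.length), meet (maskSet 7) (obj triSextCert[i].1) = i + 1 := by
    intro i hi
    have := List.getElem_map (fun rc => meet (maskSet 7) (obj rc.1)) (l := triSextCert) (i := i)
      (h := by simpa using hi)
    rw [← this]
    simp only [hsmall _ rfl]
    have h3 : i < 3 := hi
    interval_cases i <;> rfl
  have hm : ∀ x, meet (maskSet 7) (b • x) = meet Y x := fun x => by
    rw [← e]; exact meet_smul _ _ _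
  have hcount : ∀ i (hi : i < triSextCert.length),
      {S | S ∈ Cfsg.sextets ∧ meet Y S = i + 1}.ncard = [21, 630, 1120].getD i 0 := by
    intro i hi
    rw [← (h.1 i hi).2, (h.1 i hi).1, hroot i hi]
    have himg : (fun x => b • x) '' {S | S ∈ Cfsg.sextets ∧ meet Y S = i + 1} =
        {x | x ∈ Cfsg.sextets ∧ meet (maskSet 7) x = i + 1} := by
      ext x
      constructor
      · rintro ⟨S, ⟨h1, h2⟩, rfl⟩
        exact ⟨smul_mem_sextets b.2 h1, by rw [hm, h2]⟩
      · rintro ⟨h1, h2⟩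
        refine ⟨b⁻¹ • x, ⟨smul_mem_sextets (b⁻¹).2 h1, ?_⟩, smul_inv_smul b x⟩
        rw [← hm, smul_inv_smul, h2]
    rw [← himg, Set.ncard_image_of_injective _ (MulAction.injective b)]
  refine ⟨hcount 0 (by decide), hcount 1 (by decide), hcount 2 (by decide),
    fun S S' hS hS' heq => ?_⟩
  obtain ⟨i, hi, hSi⟩ := h.2 (b • S) (smul_mem_sextets b.2 hS)
  obtain ⟨j, hj, hSj⟩ := h.2 (b • S') (smul_mem_sextets b.2 hS')
  have hi' := (h.1 i hi).1 ▸ hSi
  have hj' := (h.1 j hj).1 ▸ hSj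
  have hij : i = j := by
    have h1 := hi'.2
    have h2 := hj'.2
    rw [hm, hroot i hi] at h1
    rw [hm, hroot j hj] at h2
    omega
  subst hij
  obtain ⟨g1, hg1⟩ := hSi
  obtain ⟨g2, hg2⟩ := hSj
  refine ⟨(b⁻¹ * (g2.1 * g1.1⁻¹) * b : Cfsg.M24), SetLike.coe_mem _, ?_, ?_⟩
  · show (b⁻¹ * (g2.1 * g1.1⁻¹) * b) • Y = Y
    rw [mul_smul, mul_smul, mul_smul, e,
      MulAction.mem_stabilizer_iff.1 (inv_mem g1.2), MulAction.mem_stabilizer_iff.1 g2.2, ← e,
      inv_smul_smul]
  · show (b⁻¹ * (g2.1 * g1.1⁻¹) * b) • S = S'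
    rw [mul_smul, mul_smul, mul_smul, inv_smul_eq_iff]
    change g2.1 • g1.1⁻¹ • b • S = b • S'
    rw [← hg1, ← hg2]
    show g2.1 • g1.1⁻¹ • g1.1 • obj triSextCert[i].1 = g2.1 • obj triSextCert[i].1
    rw [inv_smul_smul]

/-- Let Y be a set of 3 of the 24 points. The sextets of the length-24 code whose tetrads meeting Y number 1, 2 or 3 are respectively 21, 630 and 1120 in number, and two sextets with the same number of tetrads meeting Y are conjugate under the setwise stabiliser of Y in the code's group. -/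
theorem result (Y : Finset Cfsg.GolayPt) (hY : Y.card = 3) : {S : Finset (Finset Cfsg.GolayPt) | S ∈ Cfsg.sextets ∧ (S.filter fun t => (t ∩ Y).Nonempty).card = 1}.ncard = 21 ∧ {S : Finset (Finset Cfsg.GolayPt) | S ∈ Cfsg.sextets ∧ (S.filter fun t => (t ∩ Y).Nonempty).card = 2}.ncard = 630 ∧ {S : Finset (Finset Cfsg.GolayPt) | S ∈ Cfsg.sextets ∧ (S.filter fun t => (t ∩ Y).Nonempty).card = 3}.ncard = 1120 ∧ ∀ S S' : Finset (Finset Cfsg.GolayPt), S ∈ Cfsg.sextets → S' ∈ Cfsg.sextets → (S.filter fun t => (t ∩ Y).Nonempty).card = (S'.filter fun t => (t ∩ Y).Nonempty).card → ∃ g ∈ Cfsg.M24, g • Y = Y ∧ g • S = S' := by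
  exact key hY

end Cfsg.Agent.S5616
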