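import Cfsg.Statements.S5617
import Cfsg.Agent.Lib.M24Module.Orbits

set_option autoImplicit false
open scoped Pointwise
open Cfsg

namespace Cfsg.Agent.S5617

open Cfsg.Agent.Golay.Basic Cfsg.Agent.Golay.M24 Cfsg.Agent.Golay.Trans Cfsg.Agent.Golay.M24Data Cfsg.Agent.M24Module.ObjOrbit Cfsg.Agent.M24Module.Config Cfsg.Agent.M24Module.Orbits Cfsg.Agent.M24Module.OrbitCerts
open scoped Pointwise
set_option maxRecDepth 10000

theorem dodSext_ok : treesOK actList listOK listCode dodSextTabs dodSextCert [396, 495, 880] = true := by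
  decide +kernel

theorem smul_compl' (g : Equiv.Perm Cfsg.GolayPt) (d : Finset Cfsg.GolayPt) :
    g • (Finset.univ \ d) = Finset.univ \ g • d := by
  rw [Finset.smul_finset_sdiff, Finset.smul_finset_univ]

theorem pair_to_std {d : Finset Cfsg.GolayPt} (hd : d ∈ Cfsg.dodecads) :
    ∃ a : Cfsg.M24, a • ({d, Finset.univ \ d} : Finset (Finset Cfsg.GolayPt)) =
      obj [baseDodecad, 16611456] := by
  obtain ⟨a, ha, e⟩ := dodecads_transitive hd baseDodecad_mem
  refine ⟨⟨a, ha⟩, ?_⟩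
  rw [coe_smul]
  have h1 : a • ({d, Finset.univ \ d} : Finset (Finset Cfsg.GolayPt)) =
      {a • d, a • (Finset.univ \ d)} := by
    rw [Finset.smul_finset_insert, singleton_smul]
  rw [h1, smul_compl', e]
  decide +kernel

/-- The setwise stabiliser, in the group of the length-24 code, of a complementary pair of dodecads has exactly three orbits on the 1771 sextets, of sizes 396, 495 and 880. -/
theorem result (d : Finset Cfsg.GolayPt) (hd : d ∈ Cfsg.dodecads) : ∃ X₁ ∈ Cfsg.sextets, ∃ X₂ ∈ Cfsg.sextets, ∃ X₃ ∈ Cfsg.sextets, (MulAction.orbit ↥(MulAction.stabilizer Cfsg.M24 ({d, Finset.univ \ d} : Finset (Finset Cfsg.GolayPt))) X₁).ncard = 396 ∧ (MulAction.orbit ↥(MulAction.stabilizer Cfsg.M24 ({d, Finset.univ \ d} : Finset (Finset Cfsg.GolayPt))) X₂).ncard = 495 ∧ (MulAction.orbit ↥(MulAction.stabilizer Cfsg.M24 ({d, Finset.univ \ d} : Finset (Finset Cfsg.GolayPt))) X₃).ncard = 880 ∧ Cfsg.sextets = MulAction.orbit ↥(MulAction.stabilizer Cfsg.M24 ({d,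 Finset.univ \ d} : Finset (Finset Cfsg.GolayPt))) X₁ ∪ MulAction.orbit ↥(MulAction.stabilizer Cfsg.M24 ({d, Finset.univ \ d} : Finset (Finset Cfsg.GolayPt))) X₂ ∪ MulAction.orbit ↥(MulAction.stabilizer Cfsg.M24 ({d, Finset.univ \ d} : Finset (Finset Cfsg.GolayPt))) X₃ := by
  obtain ⟨a, haS⟩ := pair_to_std hd
  have hH0 : MulAction.stabilizer Cfsg.M24 (obj [baseDodecad, 16611456]) =
      MulAction.stabilizer Cfsg.M24 (a • ({d, Finset.univ \ d} : Finset (Finset Cfsg.GolayPt))) := by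
    rw [haS]
  have r : ∀ rc ∈ dodSextCert, obj rc.1 ∈ Cfsg.sextets :=
    fun rc hrc => obj_mem_sextets (by revert rc; decide +kernel)
  have h := orbits_pair (V := [baseDodecad, 16611456]) (by decide +kernel) (X := dodSextTabs)
    (by decide +kernel) (by decide +kernel) dodSext_ok (Ω := Cfsg.sextets)
    (fun g x hx => smul_mem_sextets g.2 hx) r (by decide +kernel)
    Cfsg.Agent.Golay.Sextet.sextets_ncard (by decide +kernel)
  obtain ⟨X, hX, hn, hu⟩ := orbits_at _ hH0 (fun g x hx => smul_mem_sextets g.2 hx) r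
    ⟨fun i hi => (h.1 i hi).2, h.2⟩
  exact ⟨X ⟨0, by decide⟩, hX _, X ⟨1, by decide⟩, hX _, X ⟨2, by decide⟩, hX _, hn _, hn _, hn _,
    Set.ext fun x => (hu x).trans (by simp [dodSextCert, Fin.exists_fin_succ, or_assoc])⟩

end Cfsg.Agent.S5617
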