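import Cfsg.Statements.S5618
import Cfsg.Agent.Lib.M24Module.OctadFix

set_option autoImplicit false
open scoped Pointwise
open Cfsg

namespace Cfsg.Agent.S5618

open Cfsg.Agent.Golay.Basic Cfsg.Agent.Golay.Design Cfsg.Agent.Golay.M24 Cfsg.Agent.M24Module.OctadFix Cfsg.Agent.Golay.Trans
open scoped Pointwise

theorem other_octad {o d : Finset Cfsg.GolayPt} (ho : o ∈ Cfsg.octads) (hd : d ∈ Cfsg.dodecads)
    (h6 : (o ∩ d).card = 6) :
    symmDiff o d ∈ Cfsg.octads ∧ (symmDiff o d ∩ d).card = 6 ∧ d \ (o ∩ d) = symmDiff o d ∩ d := by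
  have he : d \ (o ∩ d) = symmDiff o d ∩ d := by
    ext x
    simp only [Finset.mem_sdiff, Finset.mem_inter, Finset.mem_symmDiff]
    tauto
  have hcode := symmDiff_mem_supports ho.1 hd.1
  have hc := card_symmDiff_eq o d
  rw [octad_card ho, hd.2, h6] at hc
  refine ⟨⟨hcode, by omega⟩, ?_, he⟩
  rw [← he, Finset.card_sdiff_of_subset Finset.inter_subset_right, hd.2, h6]

theorem octad_fixed {o d C : Finset Cfsg.GolayPt} (ho : o ∈ Cfsg.octads) (hC : o ∩ d = C)
    (h6 : C.card = 6) {g : Cfsg.M24} (hgC : g • C = C) : g • o = o := by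
  refine octads_eq_of_subset (s := C) (by omega) (smul_mem_octads g.2 ho) ho ?_
    (hC ▸ Finset.inter_subset_left)
  calc C = g • C := hgC.symm
    _ ⊆ g • o := Finset.smul_finset_subset_smul_finset (hC ▸ Finset.inter_subset_left)

/-- For a dodecad d of the length-24 code and a hexad C on it (a 6-point intersection of d with an octad): the joint stabiliser of d and C in the code's group is isomorphic to the symmetric group of degree 6, and it acts faithfully both on the six points of C and on the six points of d outside C. -/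
theorem result (d : Finset Cfsg.GolayPt) (hd : d ∈ Cfsg.dodecads) (C : Finset Cfsg.GolayPt) (hC : C ∈ Cfsg.hexadsOn d) : Nonempty (↥(MulAction.stabilizer Cfsg.M24 d ⊓ MulAction.stabilizer Cfsg.M24 C) ≃* Equiv.Perm (Fin 6)) ∧ (∀ g ∈ MulAction.stabilizer Cfsg.M24 d ⊓ MulAction.stabilizer Cfsg.M24 C, (∀ p ∈ C, ((g : ↥Cfsg.M24) : Equiv.Perm Cfsg.GolayPt) p = p) → g = 1) ∧ ∀ g ∈ MulAction.stabilizer Cfsg.M24 d ⊓ MulAction.stabilizer Cfsg.M24 C, (∀ p ∈ d \ C, ((g : ↥Cfsg.M24) : Equiv.Perm Cfsg.GolayPt) p = p) → g = 1 := by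
  obtain ⟨h6, o, ho, hC⟩ := hC
  have hCd : C ⊆ d := hC ▸ Finset.inter_subset_right
  obtain ⟨ho2, h62, he⟩ := other_octad ho hd (by rw [hC, h6])
  rw [hC] at he
  have heq : MulAction.stabilizer Cfsg.M24 d ⊓ MulAction.stabilizer Cfsg.M24 C =
      MulAction.stabilizer Cfsg.M24 d ⊓ MulAction.stabilizer Cfsg.M24 o := by
    ext g
    simp only [Subgroup.mem_inf, MulAction.mem_stabilizer_iff]
    refine and_congr_right fun hgd => ⟨octad_fixed ho hC h6, fun hgo => ?_⟩
    rw [← hC]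
    show (g : Equiv.Perm Cfsg.GolayPt) • (o ∩ d) = o ∩ d
    rw [Finset.smul_finset_inter]
    exact congrArg₂ (· ∩ ·) hgo hgd
  have hcard : Nat.card ↥(MulAction.stabilizer Cfsg.M24 d ⊓ MulAction.stabilizer Cfsg.M24 C) = 720 := by
    have h := card_inf_stabilizer d o
    rw [ncard_orbit_hexad ho hd (by rw [hC, h6]), card_stabilizer_dodecad hd] at h
    rw [heq]
    omega
  have hfix1 : ∀ g ∈ MulAction.stabilizer Cfsg.M24 d ⊓ MulAction.stabilizer Cfsg.M24 C,
      (∀ p ∈ C, ((g : ↥Cfsg.M24) : Equiv.Perm Cfsg.GolayPt) p = p) → g = 1 := fun g hg hfix =>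
    Subtype.ext (eq_one_of_fix_six ho hd (by rw [hC, h6]) (hC ▸ Finset.inter_subset_left) h6.ge g.2 hfix hg.1)
  refine ⟨nonempty_equiv_perm _ C h6 (fun g hg p => ?_) hfix1 hcard, hfix1, fun g hg hfix => ?_⟩
  · conv_lhs => rw [← show (g : Equiv.Perm Cfsg.GolayPt) • C = C from hg.2]
    exact mem_smul_iff _ _ _
  · refine Subtype.ext (eq_one_of_fix_six ho2 hd h62 (he ▸ Finset.inter_subset_left) ?_ g.2 hfix hg.1)
    rw [he, h62]

end Cfsg.Agent.S5618
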