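import Cfsg.Statements.S5619
import Cfsg.Agent.Lib.M24Module.Classes
import Cfsg.Agent.Lib.M24Module.NineData
import Cfsg.Agent.Lib.Golay.Small

set_option autoImplicit false
open scoped Pointwise
open Cfsg

namespace Cfsg.Agent.S5619

open Cfsg.Agent.Golay.Basic Cfsg.Agent.Golay.Design Cfsg.Agent.Golay.Perm Cfsg.Agent.Golay.M24 Cfsg.Agent.Golay.M24Data Cfsg.Agent.Golay.Cert Cfsg.Agent.Golay.Trans Cfsg.Agent.Golay.Orbit Cfsg.Agent.Golay.Small Cfsg.Agent.M24Module.NineData Cfsg.Agent.M24Module.Classes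
open scoped Pointwise
set_option maxRecDepth 10000

theorem nine_checks :
    (nineTabs.all fun x => tabOK x && imgTab x baseDodecad == baseDodecad &&
      ([0, 1, 2].all fun i => tabAt x i == i) && packTab (fun i => tabAt x i) 24 == x) = true ∧
    nineTabs.Nodup ∧ nineTabs.length = 72 ∧
    (nineTabs.all fun x => ((List.range 24).any fun i => !(powAt x 9 i == i)) ||
      (List.range 24).all fun i => powAt x 3 i == i) = true ∧
    (nineTabs.filter fun x => (List.range 24).all fun i => powAt x 3 i == i).length = 9 ∧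
    (nineTabs.contains quatA && nineTabs.contains quatB &&
      ((List.range 24).all fun i => powAt quatA 4 i == i) &&
      ((List.range 24).all fun i => powAt quatB 2 i == powAt quatA 2 i) &&
      ((List.range 24).all fun i => tabAt quatB (tabAt quatA i) == powAt quatA 3 (tabAt quatB i))) = true ∧
    (((List.range 4).map fun k => packTab (fun i => powAt quatA k i) 24) ++
      ((List.range 4).map fun k => packTab (fun i => tabAt quatB (powAt quatA k i)) 24)).Nodup := by
  decide +kernel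

/-- The subgroup at standard position. -/
def W : Subgroup (Equiv.Perm Cfsg.GolayPt) := fixers M12K [pt 2, pt 1, pt 0]

theorem card_W : Nat.card W = 72 := by
  classical
  have step : ∀ (l : List Cfsg.GolayPt) (b : Cfsg.GolayPt), (b :: l).Nodup → l.length ≤ 4 →
      (∀ x ∈ b :: l, x ∈ d0) →
      Nat.card (fixers M12K l) = (12 - l.length) * Nat.card (fixers M12K (b :: l)) := by
    intro l b hnd hlen hin
    have hl : l.Nodup := (List.nodup_cons.1 hnd).2
    have hbl : b ∉ l := (List.nodup_cons.1 hnd).1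
    have hT : (d0 \ l.toFinset).card = 12 - l.length := by
      rw [Finset.card_sdiff_of_subset (fun x hx => hin x (List.mem_cons_of_mem _ (List.mem_toFinset.1 hx))),
        List.toFinset_card_of_nodup hl, baseDodecad_mem.2]
    rw [← hT]
    refine card_fixers_step M12K l b _ (fun g hg => Finset.mem_sdiff.2
      ⟨M12K_maps hg.1 (hin b List.mem_cons_self), fun hm => ?_⟩) fun t ht => ?_
    · have hm' := List.mem_toFinset.1 hm
      exact hbl (by rwa [g.injective (hg.2 _ hm')] at hm')
    · obtain ⟨ht1, ht2⟩ := Finset.mem_sdiff.1 ht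
      have ht2' : t ∉ l := fun h => ht2 (List.mem_toFinset.2 h)
      obtain ⟨u, hu, hul⟩ := M12K_exists_tuple (b :: l) (by simp; omega) hnd hin
      obtain ⟨v, hv, hvl⟩ := M12K_exists_tuple (t :: l) (by simp; omega) (List.nodup_cons.2 ⟨ht2', hl⟩)
        (fun x hx => (List.mem_cons.1 hx).elim (fun e => e ▸ ht1) fun h => hin x (List.mem_cons_of_mem _ h))
      have hmap : ∀ L : List ℕ, L.map (fun i => u (pt i)) = b :: l →
          L.map (fun i => v (pt i)) = t :: l → (b :: l).map (v * u⁻¹) = t :: l := by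
        intro L h1 h2
        rw [← h1, ← h2, List.map_map]
        exact List.map_congr_left fun i _ => by simp
      have hlen' : (b :: l).length = (t :: l).length := rfl
      have h3 := hmap _ hul (by rw [hlen']; exact hvl)
      rw [List.map_cons] at h3
      injection h3 with e1 e2
      refine ⟨v * u⁻¹, ⟨M12K.mul_mem hv (M12K.inv_mem hu), fun x hx => ?_⟩, e1⟩
      have e2' : l.map (v * u⁻¹) = l.map id := by rw [List.map_id, e2]
      exact List.map_inj_left.1 e2' x hx
  have h0 := step [] (pt 0) (by simp) (by simp) (by simp; decide +kernel)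
  have h1 := step [pt 0] (pt 1) (by decide) (by simp) (by decide +kernel)
  have h2 := step [pt 1, pt 0] (pt 2) (by decide) (by simp) (by decide +kernel)
  rw [fixers_nil, card_M12K] at h0
  rw [h1, h2] at h0
  rw [W]
  simp only [List.length_cons, List.length_nil] at h0
  omega

theorem pow_mod_natCast {G : Type*} [Group G] {A : G} (h4 : A ^ 4 = 1) (k : ℕ) :
    A ^ k = A ^ (k % (2 * 2)) := by
  conv_lhs => rw [← Nat.div_add_mod k 4, pow_add, pow_mul, h4, one_pow, one_mul]

theorem packCongr : ∀ (n : ℕ) (f f' : ℕ → ℕ), (∀ i < n, f i = f' i) → packTab f n = packTab f' n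
  | 0, _, _, _ => rfl
  | n + 1, f, f', h => by
    simp only [packTab]
    rw [h 0 (Nat.succ_pos n), packCongr n (fun i => f (i + 1)) (fun i => f' (i + 1))
      (fun i hi => h (i + 1) (by omega))]

/-- Every element has one of the tables. -/
theorem exists_tab {g : Equiv.Perm Cfsg.GolayPt} (hg : g ∈ W) : ∃ x ∈ nineTabs, g = tabPerm x := by
  classical
  obtain ⟨h, hnd, hlen, -⟩ := nine_checks
  simp only [List.all_eq_true, Bool.and_eq_true, beq_iff_eq] at h
  have hmem : ∀ x ∈ nineTabs, tabPerm x ∈ W := fun x hx => by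
    obtain ⟨⟨⟨ht, hd⟩, hfix⟩, -⟩ := h x hx
    refine ⟨mem_M12K.2 ⟨tabPerm_mem ht, mask_injective ?_⟩, fun p hp => ix_injective ?_⟩
    · rw [show d0 = maskSet baseDodecad from rfl, ← imgTab_mask (isTab_tabPerm ht),
        mask_maskSet (by decide +kernel), hd]
    · rw [isTab_tabPerm ht]
      refine hfix _ ?_
      revert hp
      revert p
      decide +kernel
  have hinj : ∀ x ∈ nineTabs, ∀ y ∈ nineTabs, tabPerm x = tabPerm y → x = y := fun x hx y hy e => by
    obtain ⟨⟨⟨htx, -⟩, -⟩, hex⟩ := h x hx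
    obtain ⟨⟨⟨hty, -⟩, -⟩, hey⟩ := h y hy
    rw [← hex, ← hey]
    refine packCongr 24 _ _ fun i hi => ?_
    rw [← ix_pt hi, ← isTab_tabPerm htx, ← isTab_tabPerm hty, e]
  have heq : ((nineTabs.map tabPerm).toFinset : Set (Equiv.Perm Cfsg.GolayPt)) = (W : Set (Equiv.Perm Cfsg.GolayPt)) := by
    refine Set.eq_of_subset_of_ncard_le (fun g hg => ?_) ?_ (Set.toFinite _)
    · obtain ⟨x, hx, rfl⟩ := List.mem_map.1 (List.mem_toFinset.1 hg)
      exact hmem x hx
    · rw [Set.ncard_coe_finset, List.toFinset_card_of_nodup (hnd.map_on hinj), List.length_map, hlen,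
        ← card_W]
      exact le_of_eq (Nat.card_coe_set_eq _).symm
  have hg' : g ∈ ((nineTabs.map tabPerm).toFinset : Set (Equiv.Perm Cfsg.GolayPt)) := heq.symm ▸ hg
  obtain ⟨x, hx, e⟩ := List.mem_map.1 (List.mem_toFinset.1 hg')
  exact ⟨x, hx, e.symm⟩

theorem cube_of_nine {g : Equiv.Perm Cfsg.GolayPt} (hg : g ∈ W) (h9 : g ^ 9 = 1) : g ^ 3 = 1 := by
  obtain ⟨h, -, -, hall, -⟩ := nine_checks
  simp only [List.all_eq_true, Bool.and_eq_true, beq_iff_eq, Bool.or_eq_true, List.any_eq_true,
    List.mem_range, Bool.not_eq_true', beq_eq_false_iff_ne] at h hall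
  obtain ⟨x, hx, rfl⟩ := exists_tab hg
  have ht := isTab_tabPerm (h x hx).1.1.1
  rcases hall x hx with ⟨i, hi, hne⟩ | h3
  · refine absurd ?_ hne
    have := ix_pow ht 9 (pt i)
    rw [h9, Equiv.Perm.one_apply, ix_pt hi] at this
    exact this.symm
  · exact Equiv.ext fun p => ix_injective (by rw [ix_pow ht, h3 _ (ix_lt p), Equiv.Perm.one_apply])

theorem ncard_cube : {g : W | g ^ 3 = 1}.ncard ≤ 9 := by
  classical
  obtain ⟨h, -, -, -, hcount, -⟩ := nine_checks
  simp only [List.all_eq_true, Bool.and_eq_true, beq_iff_eq] at h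
  rw [← hcount, ← Set.ncard_image_of_injective _ Subtype.val_injective]
  refine (Set.ncard_le_ncard (t := (((nineTabs.filter fun x =>
    (List.range 24).all fun i => powAt x 3 i == i).map tabPerm).toFinset :
      Set (Equiv.Perm Cfsg.GolayPt))) ?_ (Set.toFinite _)).trans ?_
  · rintro _ ⟨⟨g, hg⟩, h3, rfl⟩
    obtain ⟨x, hx, rfl⟩ := exists_tab hg
    have h3' : tabPerm x ^ 3 = 1 := congrArg Subtype.val h3
    refine List.mem_toFinset.2 (List.mem_map.2 ⟨x, List.mem_filter.2 ⟨hx, ?_⟩, rfl⟩)
    simp only [List.all_eq_true, List.mem_range, beq_iff_eq]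
    intro i hi
    have := ix_pow (isTab_tabPerm (h x hx).1.1.1) 3 (pt i)
    rw [h3', Equiv.Perm.one_apply, ix_pt hi] at this
    exact this.symm
  · rw [Set.ncard_coe_finset]
    exact (List.toFinset_card_le _).trans (le_of_eq (List.length_map _))

/-- The map from the quaternion group given by two elements. -/
def quatFun {G : Type*} [Group G] (A B : G) : QuaternionGroup 2 → G
  | .a i => A ^ i.val
  | .xa i => B * A ^ i.val

theorem pow_val {G : Type*} [Group G] {A : G} (h4 : A ^ 4 = 1) (i : ZMod (2 * 2)) (k : ℕ)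
    (hk : (k : ZMod (2 * 2)) = i) : A ^ i.val = A ^ k := by
  subst hk
  rw [ZMod.val_natCast]
  exact (pow_mod_natCast h4 k).symm

theorem quat_mul {G : Type*} [Group G] {A B : G} (h4 : A ^ 4 = 1) (hB : B ^ 2 = A ^ 2)
    (hr : B * A = A ^ 3 * B) (x y : QuaternionGroup 2) :
    quatFun A B (x * y) = quatFun A B x * quatFun A B y := by
  have hcomm : ∀ n : ℕ, A ^ n * B = B * A ^ (3 * n) := by
    intro n
    induction n with
    | zero => simp
    | succ n ih =>
      have h1 : A * B = B * A ^ 3 := by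
        have e9 : A ^ 9 = A := by rw [show 9 = 4 + 4 + 1 from rfl, pow_add, pow_add, h4, one_mul, one_mul, pow_one]
        calc A * B = A ^ 9 * B := by rw [e9]
          _ = A ^ 6 * (A ^ 3 * B) := by rw [← mul_assoc, ← pow_add]
          _ = A ^ 6 * (B * A) := by rw [hr]
          _ = A ^ 3 * (A ^ 3 * B) * A := by rw [show 6 = 3 + 3 from rfl, pow_add]; group
          _ = A ^ 3 * (B * A) * A := by rw [hr]
          _ = A ^ 3 * B * A * A := by group
          _ = B * A * A * A := by rw [hr]
          _ = B * A ^ 3 := by simp [pow_succ, mul_assoc]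
      calc A ^ (n + 1) * B = A * (A ^ n * B) := by rw [pow_succ']; group
        _ = A * B * A ^ (3 * n) := by rw [ih]; group
        _ = B * A ^ (3 * (n + 1)) := by rw [h1, mul_assoc, ← pow_add]; ring_nf
  rcases x with i | i <;> rcases y with j | j
  · rw [QuaternionGroup.a_mul_a]
    simp only [quatFun]
    rw [pow_val h4 (i + j) (i.val + j.val) (by simp), pow_add]
  · rw [QuaternionGroup.a_mul_xa]
    simp only [quatFun]
    rw [← mul_assoc, hcomm, mul_assoc, ← pow_add,
      pow_val h4 (j - i) (3 * i.val + j.val) (by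
        have : ∀ i j : ZMod (2 * 2), 3 * i + j = j - i := by decide
        simp [this])]
  · rw [QuaternionGroup.xa_mul_a]
    simp only [quatFun]
    rw [mul_assoc, ← pow_add, pow_val h4 (i + j) (i.val + j.val) (by simp)]
  · rw [QuaternionGroup.xa_mul_xa]
    simp only [quatFun]
    have hk : ((2 + (3 * i.val + j.val) : ℕ) : ZMod (2 * 2)) = ((2 : ℕ) : ZMod (2 * 2)) + j - i := by
      have : ∀ i j : ZMod (2 * 2), ((2 : ℕ) : ZMod (2 * 2)) + (3 * i + j) = ((2 : ℕ) : ZMod (2 * 2)) + j - i := by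
        decide
      rw [Nat.cast_add, Nat.cast_add, Nat.cast_mul, ZMod.natCast_val, ZMod.natCast_val]
      simpa using this i j
    rw [pow_val h4 _ _ hk, mul_assoc B, ← mul_assoc (A ^ i.val), hcomm, ← mul_assoc, ← mul_assoc, ← sq B,
      hB, mul_assoc, ← pow_add, ← pow_add]

/-- The map from the quaternion group, at standard position. -/
theorem quat_hom : ∃ φ : QuaternionGroup 2 →* W, Function.Injective φ := by
  obtain ⟨h, -, -, -, -, hq, hdist⟩ := nine_checks
  simp only [List.all_eq_true, Bool.and_eq_true, beq_iff_eq, List.contains_eq_mem, decide_eq_true_eq,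
    List.mem_range] at h hq
  obtain ⟨⟨⟨⟨hA, hB⟩, h4⟩, h2⟩, hrel⟩ := hq
  have memW : ∀ x ∈ nineTabs, tabPerm x ∈ W := fun x hx => by
    obtain ⟨⟨⟨ht, hd⟩, hfix⟩, -⟩ := h x hx
    refine ⟨mem_M12K.2 ⟨tabPerm_mem ht, mask_injective ?_⟩, fun p hp => ix_injective ?_⟩
    · rw [show d0 = maskSet baseDodecad from rfl, ← imgTab_mask (isTab_tabPerm ht),
        mask_maskSet (by decide +kernel), hd]
    · rw [isTab_tabPerm ht]
      refine hfix _ ?_
      revert hp
      revert p
      decide +kernel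
  have tA := isTab_tabPerm (h _ hA).1.1.1
  have tB := isTab_tabPerm (h _ hB).1.1.1
  let A : W := ⟨tabPerm quatA, memW _ hA⟩
  let B : W := ⟨tabPerm quatB, memW _ hB⟩
  have e4 : A ^ 4 = 1 := Subtype.ext (Equiv.ext fun p => ix_injective (by
    show ix ((tabPerm quatA ^ 4) p) = ix p
    rw [ix_pow tA, h4 _ (ix_lt p)]))
  have e2 : B ^ 2 = A ^ 2 := Subtype.ext (Equiv.ext fun p => ix_injective (by
    show ix ((tabPerm quatB ^ 2) p) = ix ((tabPerm quatA ^ 2) p)
    rw [ix_pow tA, ix_pow tB, h2 _ (ix_lt p)]))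
  have er : B * A = A ^ 3 * B := Subtype.ext (Equiv.ext fun p => ix_injective (by
    show ix (tabPerm quatB (tabPerm quatA p)) = ix ((tabPerm quatA ^ 3) (tabPerm quatB p))
    rw [ix_pow tA, tB, tB, tA, hrel _ (ix_lt p)]))
  refine ⟨MonoidHom.mk' (quatFun A B) (quat_mul e4 e2 er), ?_⟩
  let code : QuaternionGroup 2 → ℕ := fun
    | .a i => packTab (fun n => powAt quatA i.val n) 24
    | .xa i => packTab (fun n => tabAt quatB (powAt quatA i.val n)) 24
  have hcode : ∀ q, code q = packTab (fun n => ix (((quatFun A B q : W) :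
      Equiv.Perm Cfsg.GolayPt) (pt n))) 24 := by
    intro q
    rcases q with i | i
    · refine packCongr 24 _ _ fun n hn => ?_
      show powAt quatA i.val n = ix ((tabPerm quatA ^ i.val) (pt n))
      rw [ix_pow tA, ix_pt hn]
    · refine packCongr 24 _ _ fun n hn => ?_
      show tabAt quatB (powAt quatA i.val n) = ix (tabPerm quatB ((tabPerm quatA ^ i.val) (pt n)))
      rw [tB, ix_pow tA, ix_pt hn]
  have hinj : Function.Injective code := by
    have hlt : ∀ i : ZMod (2 * 2), i.val < 4 := fun i => ZMod.val_lt i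
    let pos : QuaternionGroup 2 → ℕ := fun
      | .a i => i.val
      | .xa i => 4 + i.val
    have hpos : ∀ q, pos q < 8 := fun q => by
      rcases q with i | i <;> have := hlt i <;> simp only [pos] <;> omega
    have hget : ∀ q, (((List.range 4).map fun k => packTab (fun i => powAt quatA k i) 24) ++
      ((List.range 4).map fun k => packTab (fun i => tabAt quatB (powAt quatA k i)) 24))[pos q]'(by
        simp; exact hpos q) = code q := by
      intro q
      rcases q with i | i <;> simp [pos, code, List.getElem_append, hlt i]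
    intro x y e
    rw [← hget x, ← hget y, hdist.getElem_inj_iff] at e
    rcases x with i | i <;> rcases y with j | j <;> simp only [pos] at e
    · rw [ZMod.val_injective _ e]
    · have := hlt i; omega
    · have := hlt j; omega
    · rw [ZMod.val_injective _ (Nat.add_left_cancel e)]
  intro x y e
  refine hinj ?_
  rw [hcode, hcode]
  have e' : quatFun A B x = quatFun A B y := e
  rw [e']

/-- The conclusions for any group of that shape. -/
theorem structure72 {G : Type*} [Group G] [Finite G] (e : G ≃* W) :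
    (∀ Q : Sylow 3 G, (Q : Subgroup G).Normal ∧ Nat.card Q = 9 ∧ ∀ x ∈ (Q : Subgroup G), x ^ 3 = 1) ∧
    ∀ P : Sylow 2 G, Nonempty (P ≃* QuaternionGroup 2) := by
  classical
  haveI : Fact (Nat.Prime 3) := ⟨Nat.prime_three⟩
  haveI : Fact (Nat.Prime 2) := ⟨Nat.prime_two⟩
  have hG : Nat.card G = 72 := (Nat.card_congr e.toEquiv).trans card_W
  refine ⟨fun Q => ?_, fun P => ?_⟩
  · have hc : Nat.card Q = 9 := by
      rw [Sylow.card_eq_multiplicity, hG, show (72 : ℕ) = 3 ^ 2 * 8 by norm_num,
        Nat.factorization_mul (by norm_num) (by norm_num), Finsupp.add_apply,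
        Nat.prime_three.factorization_pow, Finsupp.single_eq_same,
        Nat.factorization_eq_zero_of_not_dvd (show ¬ 3 ∣ 8 by norm_num)]
      rfl
    have hcube : ∀ x ∈ (Q : Subgroup G), x ^ 3 = 1 := fun x hx => by
      have h9 : x ^ 9 = 1 := by
        have := pow_card_eq_one' (x := (⟨x, hx⟩ : (Q : Subgroup G)))
        rw [show Nat.card (Q : Subgroup G) = 9 from hc] at this
        exact congrArg Subtype.val this
      have h' : (e x) ^ 9 = 1 := by rw [← map_pow, h9, map_one]
      have h3 : (e x) ^ 3 = 1 := Subtype.ext (cube_of_nine (e x).2 (congrArg Subtype.val h'))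
      exact e.injective (by rw [map_pow, h3, map_one])
    have heq : ((Q : Subgroup G) : Set G) = {x | x ^ 3 = 1} := by
      refine Set.eq_of_subset_of_ncard_le hcube ?_ (Set.toFinite _)
      rw [← Nat.card_coe_set_eq ((Q : Subgroup G) : Set G), show Nat.card ((Q : Subgroup G) : Set G) = 9 from hc]
      refine le_trans ?_ ncard_cube
      rw [← Set.ncard_image_of_injective _ e.injective]
      refine Set.ncard_le_ncard ?_ (Set.toFinite _)
      rintro _ ⟨x, hx, rfl⟩
      show (e x) ^ 3 = 1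
      rw [← map_pow, show x ^ 3 = 1 from hx, map_one]
    refine ⟨⟨fun x hx g => ?_⟩, hc, hcube⟩
    have : g * x * g⁻¹ ∈ ((Q : Subgroup G) : Set G) := by
      rw [heq, Set.mem_setOf_eq, conj_pow, hcube x hx, mul_one, mul_inv_cancel]
    exact this
  · obtain ⟨φ, hφ⟩ := quat_hom
    let ψ : QuaternionGroup 2 →* G := e.symm.toMonoidHom.comp φ
    have hψ : Function.Injective ψ := e.symm.injective.comp hφ
    have hcard : Nat.card ψ.range = 2 ^ (Nat.card G).factorization 2 := by
      rw [← Nat.card_congr (MonoidHom.ofInjective hψ).toEquiv, Nat.card_eq_fintype_card,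
        QuaternionGroup.card, hG, show (72 : ℕ) = 2 ^ 3 * 9 by norm_num,
        Nat.factorization_mul (by norm_num) (by norm_num), Finsupp.add_apply,
        Nat.prime_two.factorization_pow, Finsupp.single_eq_same,
        Nat.factorization_eq_zero_of_not_dvd (show ¬ 2 ∣ 9 by norm_num)]
      rfl
    exact ⟨(P.equiv (Sylow.ofCard ψ.range hcard)).trans (MonoidHom.ofInjective hψ).symm⟩

theorem to_std {d : Finset Cfsg.GolayPt} (hd : d ∈ Cfsg.dodecads) {p q r : Cfsg.GolayPt}
    (hp : p ∈ d) (hq : q ∈ d) (hr : r ∈ d) (hpq : p ≠ q) (hpr : p ≠ r) (hqr : q ≠ r) :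
    ∃ a ∈ Cfsg.M24, a • d = d0 ∧ a p = pt 0 ∧ a q = pt 1 ∧ a r = pt 2 := by
  obtain ⟨b, hb, hbd⟩ := exists_smul_dodecad hd
  have hbd' : b⁻¹ • d = d0 := by rw [← hbd, inv_smul_smul]
  have hin : ∀ x ∈ d, b⁻¹ x ∈ d0 := fun x hx => hbd' ▸ (mem_smul_iff b⁻¹ d x).2 hx
  obtain ⟨k, hk, e⟩ := M12K_exists_tuple [b⁻¹ p, b⁻¹ q, b⁻¹ r] (by simp)
    (by simp [hpq, hpr, hqr]) (by
      intro x hx
      simp only [List.mem_cons, List.not_mem_nil, or_false] at hx
      rcases hx with rfl | rfl | rfl <;> apply hin <;> assumption)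
  have e' : [0, 1, 2].map (fun i => k (pt i)) = [b⁻¹ p, b⁻¹ q, b⁻¹ r] := e
  simp only [List.map_cons, List.map_nil, List.cons.injEq, and_true] at e'
  obtain ⟨e0, e1, e2⟩ := e'
  refine ⟨k⁻¹ * b⁻¹, Cfsg.M24.mul_mem (Cfsg.M24.inv_mem (mem_M12K.1 hk).1) (Cfsg.M24.inv_mem hb), ?_, ?_, ?_, ?_⟩
  · rw [mul_smul, hbd', inv_smul_eq_iff, (mem_M12K.1 hk).2]
  · rw [Equiv.Perm.mul_apply, ← e0, ← Equiv.Perm.mul_apply, inv_mul_cancel, Equiv.Perm.one_apply]
  · rw [Equiv.Perm.mul_apply, ← e1, ← Equiv.Perm.mul_apply, inv_mul_cancel, Equiv.Perm.one_apply]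
  · rw [Equiv.Perm.mul_apply, ← e2, ← Equiv.Perm.mul_apply, inv_mul_cancel, Equiv.Perm.one_apply]

/-- In the group of the length-24 code, the subgroup fixing a dodecad setwise and three of its points individually (a group of order 72) has a normal Sylow 3-subgroup that is elementary abelian of order 9, and its Sylow 2-subgroups are quaternion of order 8. -/
theorem result (d : Finset Cfsg.GolayPt) (hd : d ∈ Cfsg.dodecads) (p q r : Cfsg.GolayPt) (hp : p ∈ d) (hq : q ∈ d) (hr : r ∈ d) (hpq : p ≠ q) (hpr : p ≠ r) (hqr : q ≠ r) : (∀ Q : Sylow 3 ↥(MulAction.stabilizer Cfsg.M24 d ⊓ MulAction.stabilizer Cfsg.M24 p ⊓ MulAction.stabilizer Cfsg.M24 q ⊓ MulAction.stabilizer Cfsg.M24 r), (Q : Subgroup ↥(MulAction.stabilizer Cfsg.M24 d ⊓ MulAction.stabilizer Cfsg.M24 p ⊓ MulAction.stabilizer Cfsg.M24 q ⊓ MulAction.stabilizer Cfsg.M24 r)).Normal ∧ Nat.card ↥Q = 9 ∧ ∀ x ∈ (Q : Subgroup ↥(MulAction.stabilizer Cfsg.M24 d ⊓ MulAction.stabilizer Cfsg.M24 p ⊓ MulAction.stabilizer Cfsg.M24 q ⊓ MulAction.stabilizer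 Cfsg.M24 r)), x ^ 3 = 1) ∧ ∀ P : Sylow 2 ↥(MulAction.stabilizer Cfsg.M24 d ⊓ MulAction.stabilizer Cfsg.M24 p ⊓ MulAction.stabilizer Cfsg.M24 q ⊓ MulAction.stabilizer Cfsg.M24 r), Nonempty (↥P ≃* QuaternionGroup 2) := by
  obtain ⟨a, ha, had, hap, haq, har⟩ := to_std hd hp hq hr hpq hpr hqr
  refine structure72 (equivOfConj ha (fun g hg => hg.1.1) fun g => ?_)
  show (((g • d = d ∧ g • p = p) ∧ g • q = q) ∧ g • r = r) ↔ _ ∈ M12K ∧ ∀ x ∈ [pt 2, pt 1, pt 0], _
  rw [conj_mem_M12K ha had]
  have key : ∀ x z, a x = z → ((g • x = x) ↔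
      (a * (g : Equiv.Perm Cfsg.GolayPt) * a⁻¹) z = z) := fun x z hz => by
    subst hz
    simp only [Equiv.Perm.mul_apply, show a⁻¹ (a x) = x from a.symm_apply_apply x]
    exact a.injective.eq_iff.symm
  simp only [List.mem_cons, List.not_mem_nil, or_false, forall_eq_or_imp, forall_eq]
  rw [key p _ hap, key q _ haq, key r _ har]
  tauto

end Cfsg.Agent.S5619
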