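import Cfsg.Statements.S5620
import Cfsg.Agent.Lib.Golay.Small

set_option autoImplicit false
open scoped Pointwise
open Cfsg

namespace Cfsg.Agent.S5620

open Cfsg.Agent.Golay.Basic Cfsg.Agent.Golay.Design Cfsg.Agent.Golay.Perm Cfsg.Agent.Golay.M24 Cfsg.Agent.Golay.M24Data Cfsg.Agent.Golay.Cert Cfsg.Agent.Golay.Trans Cfsg.Agent.Golay.Small Cfsg.Agent.Golay.SmallData
open scoped Pointwise
set_option maxRecDepth 10000

theorem square_mem : Cfsg.Spor.squareDodecad ∈ Cfsg.dodecads :=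
  mem_dodecads_iff.2 (by decide +kernel)

theorem compl_mem : Finset.univ \ Cfsg.Spor.squareDodecad ∈ Cfsg.dodecads :=
  mem_dodecads_iff.2 (by decide +kernel)

theorem moves : ((List.range 24).all fun i => baseDodecad.testBit i ||
    m11Tabs.any fun x => !(tabAt x i == i)) = true := by decide +kernel

theorem m11_moves {y : Cfsg.GolayPt} (hy : y ∉ Cfsg.Spor.squareDodecad) :
    ∃ m ∈ Cfsg.Spor.M11, m y ≠ y := by
  obtain ⟨a, ha, had, hap⟩ := exists_conj_dodecad_point square_mem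
    (show (some 0 : Cfsg.GolayPt) ∈ Cfsg.Spor.squareDodecad by decide +kernel)
  have hy' : a y ∉ maskSet baseDodecad := by
    rw [show maskSet baseDodecad = a • Cfsg.Spor.squareDodecad from had.symm, mem_smul_iff]; exact hy
  have hm := moves
  simp only [List.all_eq_true, List.mem_range, Bool.or_eq_true, List.any_eq_true, Bool.not_eq_true',
    beq_eq_false_iff_ne] at hm
  rcases hm (ix (a y)) (ix_lt _) with h | ⟨x, hx, hne⟩
  · exact absurd (mem_maskSet.2 h) hy'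
  have htab : tabOK x = true := List.all_eq_true.1 m11Tabs_ok x hx
  have hK : tabPerm x ∈ M11K := m11_eq ▸ Subgroup.subset_closure ⟨x, hx, rfl⟩
  let g : Cfsg.M24 := ⟨a⁻¹ * tabPerm x * a,
    Cfsg.M24.mul_mem (Cfsg.M24.mul_mem (Cfsg.M24.inv_mem ha) (tabPerm_mem htab)) ha⟩
  have hg := (mem_M11K_conj ha had hap g).2 (by
    show a * (a⁻¹ * tabPerm x * a) * a⁻¹ ∈ M11K
    rwa [show a * (a⁻¹ * tabPerm x * a) * a⁻¹ = tabPerm x by group])
  refine ⟨a⁻¹ * tabPerm x * a, ⟨⟨g.2, hg.1⟩, hg.2⟩, fun e => hne ?_⟩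
  rw [Equiv.Perm.mul_apply, Equiv.Perm.mul_apply, Equiv.Perm.inv_eq_iff_eq] at e
  rw [← isTab_tabPerm htab, e]

theorem outer : ∃ g ∈ Cfsg.M24, g • Cfsg.Spor.squareDodecad = Finset.univ \ Cfsg.Spor.squareDodecad ∧
    MulAut.conj g • Cfsg.Spor.M11 =
      Cfsg.Spor.M12 ⊓ MulAction.stabilizer (Equiv.Perm Cfsg.GolayPt) (none : Cfsg.GolayPt) := by
  obtain ⟨a, ha, had, hap⟩ := exists_conj_dodecad_point square_mem
    (show (some 0 : Cfsg.GolayPt) ∈ Cfsg.Spor.squareDodecad by decide +kernel)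
  obtain ⟨b, hb, hbd, hbp⟩ := exists_conj_dodecad_point compl_mem
    (show (none : Cfsg.GolayPt) ∈ Finset.univ \ Cfsg.Spor.squareDodecad by decide +kernel)
  set g := b⁻¹ * a with hgdef
  have hgM : g ∈ Cfsg.M24 := Cfsg.M24.mul_mem (Cfsg.M24.inv_mem hb) ha
  have hgd : g • Cfsg.Spor.squareDodecad = Finset.univ \ Cfsg.Spor.squareDodecad := by
    rw [hgdef, mul_smul, had, ← hbd, inv_smul_smul]
  have hgp : g (some 0) = none := by
    rw [hgdef, Equiv.Perm.mul_apply, hap, Equiv.Perm.inv_eq_iff_eq, hbp]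
  refine ⟨g, hgM, hgd, ?_⟩
  ext x
  rw [Subgroup.mem_pointwise_smul_iff_inv_smul_mem, MulAut.smul_def, ← map_inv, MulAut.conj_apply,
    inv_inv]
  have hgd' : ∀ y : Equiv.Perm Cfsg.GolayPt,
      (g⁻¹ * y * g) • Cfsg.Spor.squareDodecad = Cfsg.Spor.squareDodecad ↔
      y • Cfsg.Spor.squareDodecad = Cfsg.Spor.squareDodecad := fun y => by
    rw [mul_smul, mul_smul, hgd, inv_smul_eq_iff, hgd, Finset.smul_finset_sdiff,
      Finset.smul_finset_univ]
    refine ⟨fun h => ?_, fun h => by rw [h]⟩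
    rw [← Finset.compl_eq_univ_sdiff, ← Finset.compl_eq_univ_sdiff] at h
    exact compl_injective h
  constructor
  · rintro ⟨⟨h1, h2⟩, h3⟩
    refine ⟨⟨?_, (hgd' x).1 h2⟩, ?_⟩
    · simpa [mul_assoc] using Cfsg.M24.mul_mem (Cfsg.M24.mul_mem hgM h1) (Cfsg.M24.inv_mem hgM)
    · have h3' : (g⁻¹ * x * g) (some 0) = some 0 := h3
      rw [Equiv.Perm.mul_apply, Equiv.Perm.mul_apply, hgp, Equiv.Perm.inv_eq_iff_eq, hgp] at h3'
      exact h3'
  · rintro ⟨⟨h1, h2⟩, h3⟩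
    refine ⟨⟨Cfsg.M24.mul_mem (Cfsg.M24.mul_mem (Cfsg.M24.inv_mem hgM) h1) hgM, (hgd' x).2 h2⟩, ?_⟩
    show (g⁻¹ * x * g) (some 0) = some 0
    rw [Equiv.Perm.mul_apply, Equiv.Perm.mul_apply, hgp, Equiv.Perm.inv_eq_iff_eq, hgp]
    exact h3

/-- Inside the stabiliser of the dodecad of squares (a Mathieu group of degree 12), the stabiliser of the residue 0 (a point of the dodecad) and the stabiliser of the extra point (a point outside the dodecad) are isomorphic but not conjugate; conjugation by a suitable element of the code's group that maps the dodecad of squares onto its complement carries the first onto the second. -/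
theorem result : Nonempty (↥(Cfsg.Spor.M12 ⊓ MulAction.stabilizer (Equiv.Perm Cfsg.GolayPt) (none : Cfsg.GolayPt)) ≃* ↥Cfsg.Spor.M11) ∧ (¬ ∃ k ∈ Cfsg.Spor.M12, MulAut.conj k • Cfsg.Spor.M11 = Cfsg.Spor.M12 ⊓ MulAction.stabilizer (Equiv.Perm Cfsg.GolayPt) (none : Cfsg.GolayPt)) ∧ ∃ g ∈ Cfsg.M24, g • Cfsg.Spor.squareDodecad = Finset.univ \ Cfsg.Spor.squareDodecad ∧ MulAut.conj g • Cfsg.Spor.M11 = Cfsg.Spor.M12 ⊓ MulAction.stabilizer (Equiv.Perm Cfsg.GolayPt) (none : Cfsg.GolayPt) := by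
  obtain ⟨g, hg, hgd, hge⟩ := outer
  refine ⟨?_, ?_, g, hg, hgd, hge⟩
  · rw [← hge]
    exact ⟨((MulAut.conj g).subgroupMap Cfsg.Spor.M11).symm⟩
  · rintro ⟨k, hk, hke⟩
    have hy : k⁻¹ none ∉ Cfsg.Spor.squareDodecad := fun h => by
      have h2 : k • Cfsg.Spor.squareDodecad = Cfsg.Spor.squareDodecad := hk.2
      have := (mem_smul_iff k Cfsg.Spor.squareDodecad (k⁻¹ none)).2 h
      rw [h2, ← Equiv.Perm.mul_apply, mul_inv_cancel, Equiv.Perm.one_apply] at this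
      revert this
      decide +kernel
    obtain ⟨m, hm, hmy⟩ := m11_moves hy
    have h : k * m * k⁻¹ ∈ MulAut.conj k • Cfsg.Spor.M11 :=
      Subgroup.smul_mem_pointwise_smul m (MulAut.conj k) Cfsg.Spor.M11 hm
    rw [hke] at h
    refine hmy ?_
    have h2 : (k * m * k⁻¹) none = none := h.2
    rw [Equiv.Perm.mul_apply, Equiv.Perm.mul_apply] at h2
    exact k.injective (by rw [h2, ← Equiv.Perm.mul_apply, mul_inv_cancel, Equiv.Perm.one_apply])

end Cfsg.Agent.S5620
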