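import Cfsg.Statements.S5623
import Cfsg.Agent.Lib.ThreeTransp.CodeCover

set_option autoImplicit false
open Cfsg

namespace Cfsg.Agent.S5623

open Cfsg.Agent.ThreeTransp

/-- Let C be a self-dual binary code of length 24 with minimum weight at least 8 (a 12-dimensional subspace of the 24-dimensional space over the field with two elements, any two of whose words have dot product zero, with no non-zero word of weight below 8 — an abstract extended binary Golay code). Then every coset w + C of C in the ambient space contains either exactly one word of weight at most 4, which then has weight at most 3, or exactly six words of weight at most 4, all of weight exactly 4 and with pairwise disjoint supports (a sextet). -/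
theorem result (C : Submodule (ZMod 2) (Fin 24 → ZMod 2)) (hdim : Module.finrank (ZMod 2) C = 12) (horth : ∀ v ∈ C, ∀ w ∈ C, ∑ i, v i * w i = 0) (hmin : ∀ w ∈ C, w ≠ 0 → 8 ≤ hammingNorm w) (w : Fin 24 → ZMod 2) : (∃ u : Fin 24 → ZMod 2, {u : Fin 24 → ZMod 2 | u - w ∈ C ∧ hammingNorm u ≤ 4} = {u} ∧ hammingNorm u ≤ 3) ∨ ({u : Fin 24 → ZMod 2 | u - w ∈ C ∧ hammingNorm u ≤ 4}.ncard = 6 ∧ ∀ u ∈ {u : Fin 24 → ZMod 2 | u - w ∈ C ∧ hammingNorm u ≤ 4}, hammingNorm u = 4 ∧ ∀ u' ∈ {u : Fin 24 → ZMod 2 | u - w ∈ C ∧ hammingNorm u ≤ 4}, u ≠ u' → Disjoint (Finset.univ.filter fun i => u i ≠ 0) (Finset.univ.filter fun i => u' i ≠ 0)) := by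
  classical
  have h : CodeCover.Hyp C := ⟨hdim, horth, hmin⟩
  have hw' : ∀ u : Fin 24 → ZMod 2, CodeCover.word (CodeCover.supp u) = u := CodeCover.word_supp
  have hsmall : ∀ S : Finset (Fin 24), S.card ≤ 3 → CodeCover.word S - w ∈ C →
      {u : Fin 24 → ZMod 2 | u - w ∈ C ∧ hammingNorm u ≤ 4} = {CodeCover.word S} := by
    intro S hS hc
    refine Set.eq_singleton_iff_unique_mem.2 ⟨⟨hc, by rw [CodeCover.norm_word]; omega⟩, ?_⟩
    rintro u ⟨hu, hn⟩
    have hd : CodeCover.word (CodeCover.supp u) - CodeCover.word S ∈ C := by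
      have := sub_mem hu hc
      rwa [sub_sub_sub_cancel_right, ← hw' u] at this
    rw [CodeCover.norm_eq] at hn
    rw [← hw' u, CodeCover.same_small h hd (by omega)]
  by_cases hex : ∃ S : Finset (Fin 24), S.card ≤ 3 ∧ CodeCover.word S - w ∈ C
  · obtain ⟨S, hS, hc⟩ := hex
    exact Or.inl ⟨_, hsmall S hS hc, by rw [CodeCover.norm_word]; omega⟩
  · refine Or.inr ?_
    have h6 := (CodeCover.cover h w).resolve_left hex
    have key : ∀ u, u - w ∈ C → hammingNorm u ≤ 4 → (CodeCover.supp u).card = 4 := by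
      intro u hu hn
      rw [CodeCover.norm_eq] at hn
      by_contra h4
      exact hex ⟨CodeCover.supp u, by omega, by rwa [hw']⟩
    have heq : {u : Fin 24 → ZMod 2 | u - w ∈ C ∧ hammingNorm u ≤ 4} = CodeCover.word ''
        (({T ∈ Finset.powersetCard 4 (Finset.univ : Finset (Fin 24)) |
          CodeCover.word T - w ∈ C} : Finset _) : Set (Finset (Fin 24))) := by
      ext u
      simp only [Set.mem_setOf_eq, Set.mem_image, Finset.mem_coe, Finset.mem_filter,
        Finset.mem_powersetCard]
      constructor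
      · rintro ⟨hu, hn⟩
        exact ⟨CodeCover.supp u, ⟨⟨Finset.subset_univ _, key u hu hn⟩, by rwa [hw']⟩, hw' u⟩
      · rintro ⟨T, ⟨⟨-, hT⟩, hc⟩, rfl⟩
        exact ⟨hc, by rw [CodeCover.norm_word, hT]⟩
    refine ⟨?_, ?_⟩
    · rw [heq, Set.ncard_image_of_injective _ CodeCover.word_injective, Set.ncard_coe_finset, h6]
    · rintro u ⟨hu, hn⟩
      refine ⟨by rw [CodeCover.norm_eq, key u hu hn], ?_⟩
      rintro u' ⟨hu', hn'⟩ hne
      show Disjoint (CodeCover.supp u) (CodeCover.supp u')
      refine CodeCover.same_four h ?_ (key u hu hn) (key u' hu' hn')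
        (fun e => hne ?_)
      · rw [hw', hw']
        have := sub_mem hu hu'
        rwa [sub_sub_sub_cancel_right] at this
      · rw [← hw' u, e, hw']

end Cfsg.Agent.S5623
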