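import Cfsg.Statements.S5625
import Cfsg.Agent.Lib.ThreeTransp.Steiner

set_option autoImplicit false
open Cfsg

namespace Cfsg.Agent.S5625

open Cfsg.Agent.ThreeTransp

/-- In any Steiner system S(5, 8, 24) and for any set Y of three points, the blocks meeting Y in exactly 3, 2, 1 and 0 points number 21, 168, 360 and 210 respectively (so there are 759 blocks in all). -/
theorem result (α : Type*) [Fintype α] [DecidableEq α] (hα : Fintype.card α = 24) (B : Set (Finset α)) (hB : Cfsg.IsSteinerSystem 5 8 B) (Y : Finset α) (hY : Y.card = 3) : {b : Finset α | b ∈ B ∧ (b ∩ Y).card = 3}.ncard = 21 ∧ {b : Finset α | b ∈ B ∧ (b ∩ Y).card = 2}.ncard = 168 ∧ {b : Finset α | b ∈ B ∧ (b ∩ Y).card = 1}.ncard = 360 ∧ {b : Finset α | b ∈ B ∧ (b ∩ Y).card = 0}.ncard = 210 := by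
  classical
  lift B to Finset (Finset α) using Set.toFinite B
  have m := fun k hk => Steiner.moment hB hα Y k hk
  have m0 := m 0 (by omega)
  have m1 := m 1 (by omega)
  have m2 := m 2 (by omega)
  have m3 := m 3 (by omega)
  rw [hY] at m0 m1 m2 m3
  simp only [Finset.sum_range_succ, Finset.sum_range_zero] at m0 m1 m2 m3
  norm_num [Nat.choose, Steiner.lam] at m0 m1 m2 m3
  have e : ∀ j, {b : Finset α | b ∈ (B : Set (Finset α)) ∧ (b ∩ Y).card = j}.ncard =
      {b ∈ B | (b ∩ Y).card = j}.card := by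
    intro j
    rw [← Set.ncard_coe_finset]
    congr 1
    ext b
    simp
  rw [e, e, e, e]
  simp only [Finset.card_eq_zero] at m0 ⊢
  omega

end Cfsg.Agent.S5625
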