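import Cfsg.Statements.S5626
import Cfsg.Agent.Lib.PlaneFour.Coord

set_option autoImplicit false
open Cfsg

namespace Cfsg.Agent.S5626

/-- Uniqueness of the projective plane of order 4: any two Steiner systems S(2, 5, 21) (21 points, lines of 5 points, two points on exactly one line) are isomorphic. -/
theorem result {α β : Type*} [Fintype α] [DecidableEq α] [Fintype β] [DecidableEq β] (hα : Fintype.card α = 21) (hβ : Fintype.card β = 21) {L : Set (Finset α)} {L' : Set (Finset β)} (hL : Cfsg.IsSteinerSystem 2 5 L) (hL' : Cfsg.IsSteinerSystem 2 5 L') : Cfsg.SetSystemIso L L' := by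
  obtain ⟨e, he⟩ := Cfsg.Agent.PlaneFour.Coord.exists_std hL hα
  obtain ⟨f, hf⟩ := Cfsg.Agent.PlaneFour.Coord.exists_std hL' hβ
  refine ⟨e.symm.trans f, Set.ext fun b => ⟨?_, fun hb => ?_⟩⟩
  · rintro ⟨a, ha, rfl⟩
    have h1 : a.image e.symm ∈ Cfsg.Agent.PlaneFour.Coord.stdSets := by
      rw [← he]; simpa [Finset.image_image] using ha
    have h2 := (hf _).2 h1
    rw [Finset.image_image] at h2
    exact h2
  · refine ⟨(b.image f.symm).image e, ?_, ?_⟩
    · rw [he, ← hf]; simpa [Finset.image_image] using hb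
    · simp [Finset.image_image, Function.comp_def]

end Cfsg.Agent.S5626
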