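import Cfsg.Statements.S5632
import Cfsg.Agent.Lib.Forms.Max.Linear
-- import your own Cfsg.Agent.* helpers here

set_option autoImplicit false
open Cfsg

namespace Cfsg.Agent.S5632



/-- For a finite field F and subspaces 0 < W < U of F^n with dim W + dim U = n, the elements of SL_n(F) stabilising both W and U form a subgroup that is not maximal in SL_n(F): some subgroup lies strictly between it and SL_n(F). -/
theorem result {F : Type*} [Field F] [Fintype F] (n : ℕ) (W U : Submodule F (Fin n → F)) (hW0 : W ≠ ⊥) (hWU : W < U) (hdim : Module.finrank F W + Module.finrank F U = n) : ∃ K : Subgroup (Matrix.GeneralLinearGroup (Fin n) F), Cfsg.Geo.subspaceStabilizer W ⊓ Cfsg.Geo.subspaceStabilizer U ⊓ Cfsg.Geo.specialLinear (Fin n) F < K ∧ K < Cfsg.Geo.specialLinear (Fin n) F := by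
  have hW1 : W ≠ ⊤ := fun h => not_top_lt (h ▸ hWU)
  obtain ⟨v, hv⟩ : ∃ v, v ∉ U := by
    by_contra h
    push Not at h
    have hU : U = ⊤ := eq_top_iff.2 fun x _ => h x
    rw [hU, finrank_top, Module.finrank_fin_fun] at hdim
    exact hW0 (Submodule.finrank_eq_zero.1 (by omega))
  obtain ⟨g, hg, hgU⟩ := Forms.Max.exists_sl_stab_not_stab (W := W) (U := U) hv (by
    intro hle
    refine hWU.not_ge fun x hx => ?_
    obtain ⟨w, hw, z, hz, rfl⟩ := Submodule.mem_sup.1 (hle hx)
    obtain ⟨c, rfl⟩ := Submodule.mem_span_singleton.1 hz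
    rcases eq_or_ne c 0 with rfl | hc
    · simpa using hw
    · refine absurd ?_ hv
      have := U.smul_mem c⁻¹ (U.sub_mem hx (hWU.le hw))
      simpa [smul_smul, inv_mul_cancel₀ hc] using this)
  refine Forms.Max.exists_between (K := Cfsg.Geo.subspaceStabilizer W ⊓ Cfsg.Geo.specialLinear (Fin n) F)
    (le_inf (inf_le_left.trans inf_le_left) inf_le_right) ⟨g, hg, fun h => hgU h.1.2⟩ inf_le_right ?_
  by_contra h
  push Not at h
  exact Aschbacher.not_SL_le_subspace hW0 hW1 fun x hx => (h x hx).1

end Cfsg.Agent.S5632
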