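import Cfsg.Statements.S5633
import Cfsg.Agent.Lib.Forms.Max.Linear
-- import your own Cfsg.Agent.* helpers here

set_option autoImplicit false
open Cfsg

namespace Cfsg.Agent.S5633



/-- For a finite field F and complementary non-zero subspaces W ⊕ U = F^n with dim W < dim U, the elements of SL_n(F) stabilising both W and U form a subgroup that is not maximal in SL_n(F): some subgroup lies strictly between it and SL_n(F). -/
theorem result {F : Type*} [Field F] [Fintype F] (n : ℕ) (W U : Submodule F (Fin n → F)) (hW0 : W ≠ ⊥) (hWU : W ⊓ U = ⊥) (hWU' : W ⊔ U = ⊤) (hdim : Module.finrank F W < Module.finrank F U) : ∃ K : Subgroup (Matrix.GeneralLinearGroup (Fin n) F), Cfsg.Geo.subspaceStabilizer W ⊓ Cfsg.Geo.subspaceStabilizer U ⊓ Cfsg.Geo.specialLinear (Fin n) F < K ∧ K < Cfsg.Geo.specialLinear (Fin n) F := by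
  have hU0 : U ≠ ⊥ := fun h => by rw [h, finrank_bot] at hdim; omega
  obtain ⟨v, hvW, hv0⟩ := Submodule.exists_mem_ne_zero_of_ne_bot hW0
  have hv : v ∉ U := fun h => hv0 ((Submodule.mem_bot F).1 (hWU ▸ ⟨hvW, h⟩))
  have hW1 : W ≠ ⊤ := fun h => hU0 (by rw [h, top_inf_eq] at hWU; exact hWU)
  obtain ⟨g, hg, hgU⟩ := Forms.Max.exists_sl_stab_not_stab (W := W) (U := U) hv (by
    intro hle
    obtain ⟨u, hu, hu0⟩ := Submodule.exists_mem_ne_zero_of_ne_bot hU0
    have h1 : Submodule.span F {v} ≤ W := (Submodule.span_singleton_le_iff_mem v W).2 hvW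
    exact hu0 ((Submodule.mem_bot F).1 (hWU ▸ ⟨(sup_le le_rfl h1) (hle hu), hu⟩)))
  refine Forms.Max.exists_between (K := Cfsg.Geo.subspaceStabilizer W ⊓ Cfsg.Geo.specialLinear (Fin n) F)
    (le_inf (inf_le_left.trans inf_le_left) inf_le_right) ⟨g, hg, fun h => hgU h.1.2⟩ inf_le_right ?_
  by_contra h
  push Not at h
  exact Aschbacher.not_SL_le_subspace hW0 hW1 fun x hx => (h x hx).1

end Cfsg.Agent.S5633
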