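import Cfsg.Statements.S5635
import Cfsg.Agent.Lib.Forms.Max.LinearBlocks
-- import your own Cfsg.Agent.* helpers here

set_option autoImplicit false
open Cfsg

namespace Cfsg.Agent.S5635

/-- For a finite field F with q elements and n ≥ 13, let D be a decomposition of F^n into t ≥ 2 independent subspaces of equal dimension m spanning F^n, where m = 1 and q ≤ 4, or m = 2 and q = 2. Then the elements of SL_n(F) permuting the members of D form a subgroup that is not maximal: some subgroup lies strictly between it and SL_n(F). -/
theorem result {F : Type*} [Field F] [Fintype F] (n : ℕ) (hn : 13 ≤ n) {t : ℕ} (m : ℕ) (D : Fin t → Submodule F (Fin n → F)) (hD : Cfsg.Geo.IsMDecomposition m D) (h : (m = 1 ∧ Fintype.card F ≤ 4) ∨ (m = 2 ∧ Fintype.card F = 2)) : ∃ K : Subgroup (Matrix.GeneralLinearGroup (Fin n) F), Cfsg.Geo.decompositionStabilizer D ⊓ Cfsg.Geo.specialLinear (Fin n) F < K ∧ K < Cfsg.Geo.specialLinear (Fin n) F := by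
  rcases h with ⟨rfl, hq⟩ | ⟨rfl, hq⟩
  swap
  · exact Forms.Max.LinearBlocks.planes_between hn hD hq
  have h1 := Fintype.one_lt_card (α := F)
  rcases (show Fintype.card F = 2 ∨ Fintype.card F = 3 ∨ Fintype.card F = 4 by omega) with h | h | h
  · refine Forms.Max.LinearBlocks.lines_between hn hD (RingHom.id F) (fun c hc => ?_) ?_
    · have e := FiniteField.pow_card_sub_one_eq_one c hc
      rw [h, pow_one] at e
      simp [e]
    · have h0 := FiniteField.cast_card_eq_zero F
      rw [h] at h0
      push_cast at h0
      linear_combination 3 * h0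
  · refine Forms.Max.LinearBlocks.lines_between hn hD (RingHom.id F) (fun c hc => ?_) ?_
    · have e := FiniteField.pow_card_sub_one_eq_one c hc
      rw [h, pow_two] at e
      simpa using e
    · have h0 := FiniteField.cast_card_eq_zero F
      rw [h] at h0
      push_cast at h0
      linear_combination 2 * h0
  · have h0 := FiniteField.cast_card_eq_zero F
    rw [h] at h0
    push_cast at h0
    have h2 : (2 : F) = 0 := mul_self_eq_zero.1 (by linear_combination h0)
    have : CharP F 2 := CharTwo.of_one_ne_zero_of_two_eq_zero one_ne_zero h2
    refine Forms.Max.LinearBlocks.lines_between hn hD (frobenius F 2) (fun c hc => ?_) ?_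
    · have e := FiniteField.pow_card_sub_one_eq_one c hc
      rw [h] at e
      rw [frobenius_def]
      linear_combination e
    · linear_combination 3 * h2

end Cfsg.Agent.S5635
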