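import Cfsg.Statements.S5639
import Cfsg.Agent.Lib.Forms.Max.SubfieldLinear
-- import your own Cfsg.Agent.* helpers here

set_option autoImplicit false
open Cfsg

namespace Cfsg.Agent.S5639

/-- For a finite field F, a subfield F₀ with |F| = |F₀| ^ r for a prime r, and n ≥ 13, the subfield group (the conjugate by any P of the product of GL_n(F₀) with the non-zero scalars of F, intersected with SL_n(F)) is a maximal subgroup of SL_n(F). -/
theorem result {F : Type*} [Field F] [Fintype F] (n : ℕ) (hn : 13 ≤ n) (F₀ : Subfield F) (r : ℕ) (hr : r.Prime) (hcard : Fintype.card F = Nat.card F₀ ^ r) (P : Matrix.GeneralLinearGroup (Fin n) F) : Cfsg.Geo.IsMaximalIn (Cfsg.Geo.specialLinear (Fin n) F) (Cfsg.Geo.subfieldSubgroup F₀ P ⊓ Cfsg.Geo.specialLinear (Fin n) F) := by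
  classical
  set e := MulAut.conj P with he
  set B := ((Matrix.GeneralLinearGroup.map (F₀.subtype : F₀ →+* F)).range ⊔ Cfsg.Geo.scalars (Fin n) F) with hB
  have hK : (Cfsg.Geo.specialLinear (Fin n) F).map e.toMonoidHom = Cfsg.Geo.specialLinear (Fin n) F :=
    by
    have hn : (Cfsg.Geo.specialLinear (Fin n) F).Normal := MonoidHom.normal_ker _
    ext g
    constructor
    · rintro ⟨x, hx, rfl⟩
      exact hn.conj_mem x hx P
    · intro hg
      exact ⟨P⁻¹ * g * P⁻¹⁻¹, hn.conj_mem g hg P⁻¹, by simp [he, mul_assoc]⟩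
  have key := Forms.Max.SubfieldLinear.subfield_maximal (ι := Fin n) (F := F) (by rw [Fintype.card_fin]; omega) F₀ hr hcard
    (B ⊓ Cfsg.Geo.specialLinear (Fin n) F) inf_le_right
    (fun g hg ⟨k, hk, hkg⟩ => by
      refine ⟨?_, hg⟩
      let A₀ : Matrix (Fin n) (Fin n) F₀ := fun i j => ⟨k * (g : Matrix (Fin n) (Fin n) F) i j, hkg i j⟩
      have hA : A₀.map F₀.subtype = k • (g : Matrix (Fin n) (Fin n) F) := rfl
      have hdet : A₀.det ≠ 0 := fun h => by
        have h' : (F₀.subtype : F₀ →+* F) A₀.det = 0 := by rw [h]; rfl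
        rw [RingHom.map_det, RingHom.mapMatrix_apply, hA, Matrix.det_smul] at h'
        rcases mul_eq_zero.1 h' with h0 | h0
        · exact hk (eq_zero_of_pow_eq_zero h0)
        · exact (g.isUnit.map Matrix.detMonoidHom).ne_zero h0
      let r₀ : Matrix.GeneralLinearGroup (Fin n) F₀ := Matrix.GeneralLinearGroup.mkOfDetNeZero A₀ hdet
      have hs : (Units.map (Matrix.scalar (Fin n) : F →+* Matrix (Fin n) (Fin n) F).toMonoidHom (Units.mk0 k⁻¹ (inv_ne_zero hk))) ∈ Cfsg.Geo.scalars (Fin n) F := ⟨_, rfl⟩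
      have hg' : g = (Matrix.GeneralLinearGroup.map (F₀.subtype : F₀ →+* F) r₀) * (Units.map (Matrix.scalar (Fin n) : F →+* Matrix (Fin n) (Fin n) F).toMonoidHom (Units.mk0 k⁻¹ (inv_ne_zero hk))) := by
        refine Units.ext ?_
        show (g : Matrix (Fin n) (Fin n) F) = A₀.map F₀.subtype * Matrix.scalar (Fin n) k⁻¹
        rw [hA]
        simp [Matrix.mul_diagonal, ← Matrix.ext_iff, hk, mul_assoc, mul_comm k]
      rw [hg']
      exact mul_mem (Subgroup.mem_sup_left ⟨r₀, rfl⟩) (Subgroup.mem_sup_right hs))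
    (fun g hg => by
      obtain ⟨x, ⟨r₀, rfl⟩, s, hs, rfl⟩ := Subgroup.mem_sup_of_normal_right.1 hg.1
      obtain ⟨c, hc⟩ := (Cfsg.Geo.mem_scalars_iff _).1 hs
      refine ⟨(c : F)⁻¹, inv_ne_zero c.ne_zero, fun i j => ?_⟩
      rw [Units.val_mul, hc, Matrix.mul_smul, Matrix.mul_one, Matrix.smul_apply, smul_eq_mul, inv_mul_cancel_left₀ c.ne_zero]
      exact ((r₀ : Matrix (Fin n) (Fin n) F₀) i j).2)
  have hmax := Forms.Max.SubfieldLinear.isMaximalIn_map e key
  rwa [Subgroup.map_inf _ _ _ e.injective, hK] at hmax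

end Cfsg.Agent.S5639
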