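import Cfsg.Statements.S5642
import Cfsg.Agent.Lib.Forms.Max.SympInLinear
-- import your own Cfsg.Agent.* helpers here

set_option autoImplicit false
open Cfsg

namespace Cfsg.Agent.S5642

/-- For a finite field F and n ≥ 13, let f be a non-degenerate symplectic form on F^n (so n is even). Then the elements of SL_n(F) that are similarities of f (f(gu, gv) = c f(u, v) for a non-zero scalar c depending on g) form a maximal subgroup of SL_n(F). -/
theorem result {F : Type*} [Field F] [Fintype F] (n : ℕ) (hn : 13 ≤ n) (f : (Fin n → F) → (Fin n → F) → F) (hf : Cfsg.Geo.IsSymplecticForm f) : Cfsg.Geo.IsMaximalIn (Cfsg.Geo.specialLinear (Fin n) F) (Cfsg.Geo.similarityGroup f ⊓ Cfsg.Geo.specialLinear (Fin n) F) := by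
  classical
  let B : LinearMap.BilinForm F (Fin n → F) := LinearMap.mk₂ F f
    hf.bilinear.add_left hf.bilinear.smul_left hf.bilinear.add_right hf.bilinear.smul_right
  have hn' : B.Nondegenerate :=
    ⟨fun v h => by
      by_contra h0
      obtain ⟨-, x, hx⟩ := hf.nondegenerate v h0
      exact hx (h x),
     fun v h => by
      by_contra h0
      obtain ⟨⟨x, hx⟩, -⟩ := hf.nondegenerate v h0
      exact hx (h x)⟩
  refine Forms.Max.symp_similarity_maximal (B := B) (fun v => hf.alternating v) hn'
    (by rw [Fintype.card_fin]; omega) _ inf_le_right fun g => ?_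
  exact ⟨fun h => ⟨h.2, h.1⟩, fun h => ⟨h.2, h.1⟩⟩

end Cfsg.Agent.S5642
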