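import Cfsg.Statements.S5643
import Cfsg.Agent.Lib.Forms.Max.UnitaryInLinear
-- import your own Cfsg.Agent.* helpers here

set_option autoImplicit false
open Cfsg

namespace Cfsg.Agent.S5643

/-- For a finite field F and n ≥ 13, let σ be a field automorphism of F of order two and f a non-degenerate unitary form on F^n with respect to σ. Then the elements of SL_n(F) that are similarities of f form a maximal subgroup of SL_n(F). -/
theorem result {F : Type*} [Field F] [Fintype F] (n : ℕ) (hn : 13 ≤ n) (σ : F ≃+* F) (f : (Fin n → F) → (Fin n → F) → F) (hf : Cfsg.Geo.IsUnitaryForm σ f) : Cfsg.Geo.IsMaximalIn (Cfsg.Geo.specialLinear (Fin n) F) (Cfsg.Geo.similarityGroup f ⊓ Cfsg.Geo.specialLinear (Fin n) F) := by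
  classical
  have hh : Cfsg.Agent.Forms.Max.UnitaryInLinear.Herm (σ : F →+* F) f :=
    { ne_id := fun e => hf.ne_refl (RingEquiv.ext fun a => RingHom.congr_fun e a)
      inv := hf.involutive
      add := hf.add_left
      smul := hf.smul_left
      herm := hf.herm
      nd := fun v hv => by
        by_contra h0
        obtain ⟨x, hx⟩ := (hf.nondegenerate v h0).2
        exact hx (hv x) }
  refine Cfsg.Agent.Forms.Max.UnitaryInLinear.similarity_maximal hh ?_ _ inf_le_right fun g => ?_
  · rw [Fintype.card_fin]; omega
  · exact ⟨fun h => ⟨h.2, h.1⟩, fun h => ⟨h.2, h.1⟩⟩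

end Cfsg.Agent.S5643
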