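import Cfsg.Statements.S5644
import Cfsg.Agent.Lib.Forms.Max.OrthInLinear
-- import your own Cfsg.Agent.* helpers here

set_option autoImplicit false
open Cfsg

namespace Cfsg.Agent.S5644

/-- For a finite field F of odd order and n ≥ 13, let Q be a non-degenerate quadratic form on F^n (its polar form is non-degenerate). Then the elements of SL_n(F) that are similarities of Q (Q(gv) = c Q(v) for a non-zero scalar c depending on g) form a maximal subgroup of SL_n(F). -/
theorem result {F : Type*} [Field F] [Fintype F] (n : ℕ) (hn : 13 ≤ n) (hodd : Odd (Fintype.card F)) (Q : (Fin n → F) → F) (hQ : Cfsg.Geo.IsNondegenerateQuadraticForm Q) : Cfsg.Geo.IsMaximalIn (Cfsg.Geo.specialLinear (Fin n) F) (Cfsg.Geo.quadSimilarityGroup Q ⊓ Cfsg.Geo.specialLinear (Fin n) F) := by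
  classical
  obtain ⟨R, rfl, hR⟩ := Cfsg.Agent.Forms.Max.Orth.exists_form hQ
  have h2 : (2 : F) ≠ 0 := Ring.two_ne_zero fun h => by
    have he := FiniteField.even_card_of_char_two (F := F) h
    rw [Nat.odd_iff] at hodd
    omega
  refine Cfsg.Agent.Forms.Max.OrthInLinear.similarity_maximal hR h2 ?_ _ inf_le_right fun g => ?_
  · rw [Fintype.card_fin]; omega
  · exact ⟨fun h => ⟨h.2, h.1⟩, fun h => ⟨h.2, h.1⟩⟩

end Cfsg.Agent.S5644
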