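import Cfsg.Statements.S5649
import Cfsg.Agent.Lib.Forms.Max.SympPair
import Cfsg.Agent.Lib.Forms.Max.PairMem
-- import your own Cfsg.Agent.* helpers here

set_option autoImplicit false
open Cfsg

namespace Cfsg.Agent.S5649

/-- For a finite field F of odd order and m ≥ 7, let D be a decomposition of F^(2m) into two complementary subspaces of dimension m on each of which the standard alternating form vanishes identically. Then the elements of Sp_2m(F) preserving or interchanging the two subspaces form a maximal subgroup of Sp_2m(F). -/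
theorem result {F : Type*} [Field F] [Fintype F] (m : ℕ) (hm : 7 ≤ m) (hodd : Odd (Fintype.card F)) (D : Fin 2 → Submodule F (Fin m ⊕ Fin m → F)) (hD : Cfsg.Geo.IsMDecomposition m D) (hts : ∀ i, Cfsg.Geo.IsTotallySingularFor (Cfsg.sympForm m F) (D i)) : Cfsg.Geo.IsMaximalIn (Cfsg.spGL m F) (Cfsg.Geo.decompositionStabilizer D ⊓ Cfsg.spGL m F) := by
  refine Agent.Forms.Max.SympPair.pair_maximal (fun h2 => ?_) (by omega) (hD.finrank_eq 0) (hD.finrank_eq 1)
    (Agent.Forms.Max.PairMem.isCompl hD) (fun x hx y hy => ?_) (fun x hx y hy => ?_) _ inf_le_right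
    (fun g hg h => ⟨(Agent.Forms.Max.PairMem.mem_iff D g).2 h, hg⟩)
    (fun g hg => (Agent.Forms.Max.PairMem.mem_iff D g).1 hg.1)
  · haveI : CharP F 2 := CharTwo.of_one_ne_zero_of_two_eq_zero one_ne_zero h2
    have h1 := FiniteField.even_card_iff_char_two.1 (ringChar.eq F 2)
    rw [Nat.odd_iff.1 hodd] at h1
    exact one_ne_zero h1
  · rw [Agent.Forms.SympStd.sympB_apply]; exact hts 0 x hx y hy
  · rw [Agent.Forms.SympStd.sympB_apply]; exact hts 1 x hx y hy

end Cfsg.Agent.S5649
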