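import Cfsg.Statements.S5652
import Cfsg.Agent.Lib.Forms.Max.QuadInSymp
-- import your own Cfsg.Agent.* helpers here

set_option autoImplicit false
open Cfsg

namespace Cfsg.Agent.S5652

/-- For a finite field F of characteristic two and m ≥ 7, let Q be a non-degenerate quadratic form on F^(2m) whose polar form is the standard alternating form. Then the elements of Sp_2m(F) that are similarities of Q (they are exactly the isometries of Q) form a maximal subgroup of Sp_2m(F). -/
theorem result {F : Type*} [Field F] [Fintype F] (m : ℕ) (hm : 7 ≤ m) (heven : ¬ Odd (Fintype.card F)) (Q : (Fin m ⊕ Fin m → F) → F) (hQ : Cfsg.Geo.IsNondegenerateQuadraticForm Q) (hpol : ∀ u v, QuadraticMap.polar Q u v = Cfsg.sympForm m F u v) : Cfsg.Geo.IsMaximalIn (Cfsg.spGL m F) (Cfsg.Geo.quadSimilarityGroup Q ⊓ Cfsg.spGL m F) := by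
  classical
  haveI : CharP F 2 := by
    have h2 : ringChar F = 2 := FiniteField.even_card_iff_char_two.2 (Nat.even_iff.1 (Nat.not_odd_iff_even.1 heven))
    exact ringChar.of_eq h2
  let Q' : QuadraticForm F (Fin m ⊕ Fin m → F) :=
    QuadraticMap.ofPolar Q (fun a v => by rw [hQ.smul, smul_eq_mul]; ring)
      hQ.polar_bilinear.add_left (fun c x y => hQ.polar_bilinear.smul_left c x y)
  refine Forms.Max.Symp.quad_sim_maximal (by omega) Q'
    (fun u v => by rw [Forms.SympStd.sympB_apply]; exact hpol u v) _ inf_le_right fun g => ?_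
  exact ⟨fun h => ⟨h.2, h.1⟩, fun h => ⟨h.2, h.1⟩⟩

end Cfsg.Agent.S5652
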