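import Cfsg.Statements.S5677
import Cfsg.Agent.Lib.Classical.OrthForms
import Cfsg.Agent.Lib.Forms.Max.OrthBlocks
-- import your own Cfsg.Agent.* helpers here

set_option autoImplicit false
open Cfsg

namespace Cfsg.Agent.S5677

/-- Let F be a finite field of odd order q, m ≥ 6, Q the standard quadratic form on F^(2m+1) and Ω the commutator subgroup of its isometry group. Let D be a decomposition of F^(2m+1) into t ≥ 2 pairwise orthogonal, pairwise Q-isometric subspaces of equal dimension k > 1 on which the polar form is non-degenerate. Unless q = 3 and k = 3, the elements of Ω permuting the members of D form a maximal subgroup of Ω. -/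
theorem result {F : Type*} [Field F] [Fintype F] (hodd : Odd (Fintype.card F)) (m : ℕ) (hm : 6 ≤ m) {t : ℕ} (k : ℕ) (hk : 1 < k) (D : Fin t → Submodule F (Unit ⊕ (Fin m ⊕ Fin m) → F)) (hD : Cfsg.Geo.IsOrthogonalMDecomposition (Cfsg.quadFormOdd m F) k D) (hex : ¬ (Fintype.card F = 3 ∧ k = 3)) : Cfsg.Geo.IsMaximalIn (Cfsg.Geo.omegaGL (Cfsg.quadFormOdd m F)) (Cfsg.Geo.decompositionStabilizer D ⊓ Cfsg.Geo.omegaGL (Cfsg.quadFormOdd m F)) := by
  have h2 := Classical.OrthForms.two_ne_zero_of_odd (F := F) hodd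
  rw [← Classical.OrthForms.oddQ_eq] at hD ⊢
  have hc := Forms.Max.OrthBlocks.card_eq hD
  have hkodd : Odd k := by
    have : Odd (t * k) := hc ▸ ⟨m, by simp; omega⟩
    exact (Nat.odd_mul.1 this).2
  have hk3 : 3 ≤ k := by rcases hkodd with ⟨r, rfl⟩; omega
  exact Forms.Max.OrthBlocks.maximal (Classical.OrthForms.oddQ_nondeg h2 m) hD hk3 (by simp; omega)
    (fun hk' => by
      have h1 := Fintype.one_lt_card (α := F)
      rcases hodd with ⟨r, hr⟩
      by_contra h5
      exact hex ⟨by omega, hk'⟩) h2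

end Cfsg.Agent.S5677
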