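import Cfsg.Statements.S5680
import Cfsg.Agent.Lib.Forms.Max.OrthExtField.Normalizer
import Cfsg.Agent.Lib.Classical.OrthForms

set_option autoImplicit false
open Cfsg

namespace Cfsg.Agent.S5680

/-- Let F be a finite field of odd order, m ≥ 6, Q the standard quadratic form on F^(2m+1) and Ω the commutator subgroup of its isometry group. Let K be a subfield of the algebra of (2m+1) × (2m+1) matrices over F containing the scalars, of prime degree r over F with r ≠ 2m + 1, whose elements are self-adjoint for the polar form of Q. Then the elements of Ω normalising K form a maximal subgroup of Ω. -/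
theorem result {F : Type*} [Field F] [Fintype F] (hodd : Odd (Fintype.card F)) (m : ℕ) (hm : 6 ≤ m) (r : ℕ) (hr : r.Prime) (hrn : 2 * m + 1 ≠ r) (K : Subalgebra F (Matrix (Unit ⊕ (Fin m ⊕ Fin m)) (Unit ⊕ (Fin m ⊕ Fin m)) F)) (hK : Cfsg.Geo.IsFieldSubalgebra r K) (hsa : Cfsg.Geo.IsSelfAdjointFor (QuadraticMap.polar (Cfsg.quadFormOdd m F)) K) : Cfsg.Geo.IsMaximalIn (Cfsg.Geo.omegaGL (Cfsg.quadFormOdd m F)) (Cfsg.Geo.subalgebraNormalizer K ⊓ Cfsg.Geo.omegaGL (Cfsg.quadFormOdd m F)) := by
  have h2 := Classical.OrthForms.two_ne_zero_of_odd hodd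
  have hR := Classical.OrthForms.oddQ_nondeg h2 m
  have hQ : Cfsg.Geo.IsNondegenerateQuadraticForm (Cfsg.quadFormOdd m F) := by
    rw [← Classical.OrthForms.oddQ_eq]
    refine ⟨fun c v => by rw [QuadraticMap.map_smul, smul_eq_mul, sq], ⟨fun x y v => QuadraticMap.polar_add_left _ _ _ _,
      fun c x v => QuadraticMap.polar_smul_left _ _ _ _, fun v x y => QuadraticMap.polar_add_right _ _ _ _,
      fun c v x => QuadraticMap.polar_smul_right _ _ _ _⟩, fun v hv => ⟨?_, ?_⟩⟩
    · by_contra hc
      push Not at hc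
      exact hv (hR.2 v hc)
    · by_contra hc
      push Not at hc
      exact hv (hR.1 v hc)
  have hn : Fintype.card (Unit ⊕ (Fin m ⊕ Fin m)) = 2 * m + 1 := by simp; omega
  refine Cfsg.Agent.Forms.Max.OrthExtField.maximal _ hQ hodd (by omega) r hr (fun d hd => ?_) K hK hsa
  rw [hn] at hd
  have hrodd : r % 2 = 1 := by
    rcases hr.eq_two_or_odd with rfl | h
    · omega
    · exact h
  have hr2 := hr.two_le
  have hdodd : d % 2 = 1 := by
    have h : (r * d) % 2 = 1 := by omega
    rw [Nat.mul_mod, hrodd, one_mul, Nat.mod_mod] at h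
    exact h
  have hd1 : d ≠ 1 := fun e => hrn (by rw [← hd, e, mul_one])
  by_cases h3 : d = 3
  · refine Or.inr (Or.inl ⟨h3, ?_⟩)
    subst h3
    omega
  · exact Or.inl ⟨by omega, Or.inl (by omega)⟩

end Cfsg.Agent.S5680
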