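import Cfsg.Statements.S5699
import Cfsg.Agent.Lib.Forms.Max.OrthNondegApply
import Cfsg.Agent.Lib.Forms.Max.PairMem
-- import your own Cfsg.Agent.* helpers here

set_option autoImplicit false
open Cfsg

namespace Cfsg.Agent.S5699

/-- Let F be a finite field with q elements, n ≥ 13 even, Q a non-degenerate quadratic form on F^n (of either type), and Ω the commutator subgroup of the isometry group of Q, viewed inside GL_n(F). Let D be a decomposition of F^n into two orthogonal subspaces of odd dimension n/2 on which the polar form is non-degenerate and which are not Q-isometric to each other. Then the elements of Ω permuting (necessarily fixing) the two subspaces form a maximal subgroup of Ω. -/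
theorem result {F : Type*} [Field F] [Fintype F] {n : ℕ} (hn : 13 ≤ n) (heven : Even n) (Q : (Fin n → F) → F) (hQ : Cfsg.Geo.IsNondegenerateQuadraticForm Q) (k : ℕ) (hk : 2 * k = n) (hko : Odd k) (D : Fin 2 → Submodule F (Fin n → F)) (hD : Cfsg.Geo.IsNondegenerateMDecomposition (QuadraticMap.polar Q) k D) (hni : ¬ Cfsg.Geo.AreIsometricFor Q (D 0) (D 1)) : Cfsg.Geo.IsMaximalIn (Cfsg.Geo.omegaGL Q) (Cfsg.Geo.decompositionStabilizer D ⊓ Cfsg.Geo.omegaGL Q) := by
  obtain ⟨R, rfl, hR⟩ := Agent.Forms.Max.Orth.exists_form hQ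
  have hd := hD.decomp
  have hdim := hd.finrank_eq
  have hperp : D 1 = Agent.Forms.Max.Orth.perp R (D 0) := by
    refine Submodule.eq_of_le_of_finrank_eq (fun x hx => Agent.Forms.Max.Orth.mem_perp.2 fun w hw =>
      hD.orthogonal 0 1 (by decide) w hw x hx) ?_
    have := Agent.Forms.Max.Orth.finrank_perp hR (D 0)
    rw [hdim 0, Fintype.card_fin] at this
    rw [hdim 1]
    omega
  have hiso : ∀ (g : Cfsg.isometryGroup F ⇑R) {A C : Submodule F (Fin n → F)},
      Agent.Forms.Max.img (g : GL (Fin n) F) A = C → Cfsg.Geo.AreIsometricFor (⇑R) A C := by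
    rintro g A _ rfl
    refine ⟨Submodule.equivMapOfInjective _ (fun x y h => Agent.Forms.Max.mulVec_inj (g : GL (Fin n) F)
      ((Matrix.toLin'_apply _ _).symm.trans (h.trans (Matrix.toLin'_apply _ _)))) A, fun w => ?_⟩
    show R (Matrix.toLin' ((g : GL (Fin n) F) : Matrix (Fin n) (Fin n) F) (w : Fin n → F)) = R w
    rw [Matrix.toLin'_apply]
    exact Agent.Forms.QuadStd.iso_mulVec g (w : Fin n → F)
  have heq : Cfsg.Geo.decompositionStabilizer D ⊓ Cfsg.Geo.omegaGL ⇑R =
      Cfsg.Geo.subspaceStabilizer (D 0) ⊓ Cfsg.Geo.omegaGL ⇑R := by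
    ext x
    refine and_congr_left fun hx => ?_
    obtain ⟨g, -, rfl⟩ := Subgroup.mem_map.1 hx
    refine (Agent.Forms.Max.PairMem.mem_iff D _).trans ⟨?_, fun h => ?_⟩
    · rintro (⟨h0, -⟩ | ⟨h0, -⟩)
      · exact Agent.Forms.Max.stab_of_forall fun v hv => h0 ▸ Agent.Forms.Max.mulVec_mem_img hv
      · exact absurd (hiso g h0) hni
    · have key : ∀ {A : Submodule F (Fin n → F)},
          (Subgroup.subtype _ g) ∈ Cfsg.Geo.subspaceStabilizer A →
          Agent.Forms.Max.img (Subgroup.subtype _ g) A = A := fun {A} hA =>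
        Submodule.eq_of_le_of_finrank_eq (fun v hv => by
          obtain ⟨a, ha, rfl⟩ := Agent.Forms.Max.mem_img.1 hv
          exact Agent.Forms.Max.map_of_stab hA ha) (Agent.Forms.Max.finrank_img _ A)
      refine Or.inl ⟨key h, key ?_⟩
      have hm := (Agent.Forms.Max.Orth.stab_perp hR (D 0)).le ⟨h, hx⟩
      rw [hperp]
      exact hm.1
  rw [heq]
  have hk0 : k ≠ 0 := hd.pos.ne'
  refine Agent.Forms.Max.Orth.nondeg_maximal' hR (by simp; omega)
    (fun e => hk0 (by rw [← hdim 0, e, finrank_bot]))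
    (fun e => by have := hdim 0; rw [e, finrank_top, Module.finrank_fintype_fun_eq_card, Fintype.card_fin] at this; omega)
    (hD.nondegenerate 0) (fun _ g => ?_) fun P h2 _ _ hP _ => ?_
  · by_contra hc
    push Not at hc
    obtain ⟨e, he⟩ := hiso g (A := D 1) (C := D 0) (Submodule.eq_of_le_of_finrank_eq (fun v hv => by
      obtain ⟨a, ha, rfl⟩ := Agent.Forms.Max.mem_img.1 hv
      rw [← Agent.Forms.Reflections.act_apply]
      exact hc a (hperp ▸ ha)) (by rw [Agent.Forms.Max.finrank_img, hdim, hdim]))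
    exact hni ⟨e.symm, fun w => by rw [← he, LinearEquiv.apply_symm_apply]⟩
  · rcases hP with rfl | rfl
    · rw [hdim 0] at h2; omega
    · rw [← hperp, hdim 1] at h2; omega

end Cfsg.Agent.S5699
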