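import Cfsg.Statements.S5700
import Cfsg.Agent.Lib.Forms.Max.OrthExt
import Cfsg.Agent.Lib.Forms.Max.QuadExt
-- import your own Cfsg.Agent.* helpers here

set_option autoImplicit false
open Cfsg
open scoped Matrix

namespace Cfsg.Agent.S5700

/-- Let F be a finite field with q elements, n ≥ 13 even, Q a non-degenerate quadratic form on F^n (of either type), and Ω the commutator subgroup of the isometry group of Q, viewed inside GL_n(F). Let K be a subfield of the algebra of n × n matrices over F containing the scalars, of degree 2 over F, closed under adjoints for the polar form of Q but not consisting of self-adjoint elements, and such that every k in K rescales Q (Q(k v) = c Q(v) for a constant c depending on k). Then the elements of Ω normalising K form a maximal subgroup of Ω. -/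
theorem result {F : Type*} [Field F] [Fintype F] {n : ℕ} (hn : 13 ≤ n) (heven : Even n) (Q : (Fin n → F) → F) (hQ : Cfsg.Geo.IsNondegenerateQuadraticForm Q) (K : Subalgebra F (Matrix (Fin n) (Fin n) F)) (hK : Cfsg.Geo.IsFieldSubalgebra 2 K) (hac : Cfsg.Geo.IsAdjointClosedFor (QuadraticMap.polar Q) K) (hnsa : ¬ Cfsg.Geo.IsSelfAdjointFor (QuadraticMap.polar Q) K) (hsc : ∀ k ∈ K, ∃ c : F, ∀ v : (Fin n → F), Q (Matrix.mulVec k v) = c * Q v) : Cfsg.Geo.IsMaximalIn (Cfsg.Geo.omegaGL Q) (Cfsg.Geo.subalgebraNormalizer K ⊓ Cfsg.Geo.omegaGL Q) := by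
  classical
  obtain ⟨R, rfl, hR⟩ := Agent.Forms.Max.Orth.exists_form hQ
  haveI : Nonempty (Fin n) := ⟨⟨0, by omega⟩⟩
  obtain ⟨θ, a, N, hθ, hsq, hne, hirr, hspan⟩ := Agent.Forms.Max.QuadExt.exists_gen hK
  have hext : ∀ A C : Matrix (Fin n) (Fin n) F,
      (∀ u v, QuadraticMap.polar (⇑R) u (A *ᵥ v) = QuadraticMap.polar (⇑R) u (C *ᵥ v)) → A = C := fun A C h =>
    Matrix.ext_of_mulVec_single fun i => sub_eq_zero.1 (hR.2 _ fun u => by
      show QuadraticMap.polar (⇑R) u _ = 0
      rw [QuadraticMap.polar_sub_right, h, sub_self])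
  obtain ⟨k', hk', hadj⟩ := hac θ hθ
  have hk'sq : k' * k' = a • k' - N • (1 : Matrix (Fin n) (Fin n) F) := hext _ _ fun u v => by
    rw [← Matrix.mulVec_mulVec, ← hadj, ← hadj, Matrix.mulVec_mulVec, hsq]
    simp only [Matrix.sub_mulVec, Matrix.smul_mulVec, Matrix.one_mulVec, QuadraticMap.polar_sub_left,
      QuadraticMap.polar_sub_right, QuadraticMap.polar_smul_left, QuadraticMap.polar_smul_right, hadj]
  have hbar : k' = a • (1 : Matrix (Fin n) (Fin n) F) - θ := by
    have hprod : (k' - θ) * (k' - (a • (1 : Matrix (Fin n) (Fin n) F) - θ)) = 0 := by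
      simp only [Matrix.mul_sub, Matrix.sub_mul, Matrix.mul_smul, Matrix.mul_one, hk'sq, hK.comm k' hk' θ hθ, hsq]
      module
    have hne' : k' - θ ≠ 0 := fun e => hnsa fun k hk u v => by
      obtain ⟨s, t, rfl⟩ := hspan k hk
      simp only [Matrix.add_mulVec, Matrix.smul_mulVec, Matrix.one_mulVec, QuadraticMap.polar_add_left,
        QuadraticMap.polar_add_right, QuadraticMap.polar_smul_left, QuadraticMap.polar_smul_right, hadj, sub_eq_zero.1 e]
    obtain ⟨y, -, hy⟩ := hK.inv _ (K.sub_mem hk' hθ) hne'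
    refine sub_eq_zero.1 ?_
    calc k' - (a • (1 : Matrix (Fin n) (Fin n) F) - θ)
        = (y * (k' - θ)) * (k' - (a • (1 : Matrix (Fin n) (Fin n) F) - θ)) := by
          rw [mul_eq_one_comm.1 hy, Matrix.one_mul]
      _ = 0 := by rw [Matrix.mul_assoc, hprod, Matrix.mul_zero]
  have hadj' : ∀ u v, QuadraticMap.polar (⇑R) (θ *ᵥ u) v =
      a * QuadraticMap.polar (⇑R) u v - QuadraticMap.polar (⇑R) u (θ *ᵥ v) := fun u v => by
    rw [hadj, hbar, Matrix.sub_mulVec, Matrix.smul_mulVec, Matrix.one_mulVec, QuadraticMap.polar_sub_right,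
      QuadraticMap.polar_smul_right, smul_eq_mul]
  obtain ⟨u₀, v₀, huv⟩ : ∃ u v, QuadraticMap.polar (⇑R) u v ≠ 0 := by
    by_contra hc
    push Not at hc
    have := hR.1 (Pi.single (Classical.arbitrary (Fin n)) 1) (hc _)
    simpa using congrFun this (Classical.arbitrary (Fin n))
  have hscale : ∀ (k : Matrix (Fin n) (Fin n) F), k ∈ K → ∀ d : F,
      (∀ u v, QuadraticMap.polar (⇑R) (k *ᵥ u) (k *ᵥ v) = d * QuadraticMap.polar (⇑R) u v) →
      ∀ x, R (k *ᵥ x) = d * R x := by
    intro k hk d hd x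
    obtain ⟨c, hc⟩ := hsc k hk
    have h1 := hd u₀ v₀
    simp only [QuadraticMap.polar, ← Matrix.mulVec_add, hc] at h1
    have : c = d := mul_right_cancel₀ huv (by rw [QuadraticMap.polar]; linear_combination h1)
    rw [hc, this]
  have hTB : ∀ u v, QuadraticMap.polar (⇑R) (θ *ᵥ u) (θ *ᵥ v) = N * QuadraticMap.polar (⇑R) u v := fun u v => by
    rw [hadj', Matrix.mulVec_mulVec, hsq, Matrix.sub_mulVec, Matrix.smul_mulVec, Matrix.smul_mulVec,
      Matrix.one_mulVec, QuadraticMap.polar_sub_right, QuadraticMap.polar_smul_right, QuadraticMap.polar_smul_right,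
      smul_eq_mul, smul_eq_mul]
    ring
  have hQT := hscale θ hθ N hTB
  have hxT : ∀ x, QuadraticMap.polar (⇑R) x (θ *ᵥ x) = a * R x := fun x => by
    have h1 := hscale (1 + θ) (K.add_mem K.one_mem hθ) (1 + a + N) (fun u v => by
      simp only [Matrix.add_mulVec, Matrix.one_mulVec, QuadraticMap.polar_add_left, QuadraticMap.polar_add_right, hTB]
      rw [hadj' u v]
      ring) x
    rw [Matrix.add_mulVec, Matrix.one_mulVec, Agent.Classical.Orth.map_add', hQT] at h1
    linear_combination h1
  let D : Agent.Forms.Max.OrthExt.Data R :=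
    { T := Matrix.toLin' θ, a := a, N := N, hQ := hR, hn := by rw [Fintype.card_fin]; rcases heven with ⟨l, rfl⟩; omega
      hirr := hirr
      hTT := fun x => by
        simp only [Matrix.toLin'_apply, Matrix.mulVec_mulVec, hsq, Matrix.sub_mulVec, Matrix.smul_mulVec, Matrix.one_mulVec]
      hadj := fun x y => by simp only [Matrix.toLin'_apply, hadj']
      hQT := fun x => by simp only [Matrix.toLin'_apply, hQT]
      hxT := fun x => by simp only [Matrix.toLin'_apply, hxT] }
  refine Agent.Forms.Max.OrthExt.extension_maximal D _ inf_le_right (fun g hg h => ⟨?_, hg⟩) fun g hg => ?_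
  · refine (Agent.Forms.Max.QuadExt.mem_normalizer hK hspan hθ hsq g).2 ?_
    simpa only [D, Matrix.toLin'_apply] using h
  · have := (Agent.Forms.Max.QuadExt.mem_normalizer hK hspan hθ hsq g).1 hg.1
    simpa only [D, Matrix.toLin'_apply] using this

end Cfsg.Agent.S5700
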