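import Cfsg.Statements.S5707
import Cfsg.Agent.Lib.Forms.Max.OrthPowerData
-- import your own Cfsg.Agent.* helpers here

set_option autoImplicit false
open Cfsg

namespace Cfsg.Agent.S5707

/-- Let F be a finite field with q elements, n ≥ 13 even, Q a non-degenerate quadratic form on F^n of plus type (some subspace of dimension n/2 is totally singular), and Ω the commutator subgroup of the isometry group of Q, viewed inside GL_n(F). Suppose q is even and that, through P and e, the polar form of Q is similar to the t-fold tensor power (t ≥ 2) of a non-degenerate symplectic form f₁ on F^k with k ≤ 4 and (q, k) ≠ (2, 2), Q vanishing on the images of all pure tensors. Then the elements of Ω in the stabiliser of this decomposition form a subgroup that is not maximal: some subgroup lies strictly between it and Ω. -/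
theorem result {F : Type*} [Field F] [Fintype F] {n : ℕ} (hn : 13 ≤ n) (heven : Even n) (Q : (Fin n → F) → F) (hQ : Cfsg.Geo.IsNondegenerateQuadraticForm Q) (hplus : Cfsg.Geo.IsPlusTypeOn Q ⊤) (hchar : ¬ Odd (Fintype.card F)) (k t : ℕ) (ht : 2 ≤ t) (hk : k ≤ 4) (hex1 : ¬ (Fintype.card F = 2 ∧ k = 2)) (e : (Fin n) ≃ (Fin t → Fin k)) (P : Matrix.GeneralLinearGroup (Fin n) F) (f₁ : (Fin k → F) → (Fin k → F) → F) (hf₁ : Cfsg.Geo.IsSymplecticForm f₁) (hT : Cfsg.Geo.IsTensorPowerFormStructure id (QuadraticMap.polar Q) f₁ e P) (hpure : (∀ xs : Fin t → (Fin k → F), Q (Matrix.mulVec (P : Matrix (Fin n) (Fin n) F) ((fun a : Fin t → Fin k => ∏ i, xs i (a i)) ∘ e)) = 0)) : ∃ K : Subgroup (Matrix.GeneralLinearGroup (Fin n) F), Cfsg.Geo.tensorWreathSubgroup k t e P ⊓ Cfsg.Geo.omegaGL Q < K ∧ K < Cfsg.Geo.omegaGL Q := by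
  obtain ⟨R, rfl, hR⟩ := Forms.Max.Orth.exists_form hQ
  have h2 : (2 : F) = 0 := by
    by_contra h
    exact hchar (Aschbacher.odd_card_iff.2 h)
  obtain ⟨c, hc, hval⟩ := hT
  have hn' : n = k ^ t := by simpa using Fintype.card_congr e
  have hdot := Forms.Max.OrthPower.gram_dot hf₁.bilinear
  have hG : (Cfsg.Geo.gramMatrix f₁).transpose = Cfsg.Geo.gramMatrix f₁ := by
    ext a b
    show f₁ (Pi.single b 1) (Pi.single a 1) = f₁ (Pi.single a 1) (Pi.single b 1)
    rw [hf₁.skew (Pi.single b 1) (Pi.single a 1)]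
    linear_combination (-(f₁ (Pi.single a 1) (Pi.single b 1))) * h2
  have hGd : ∀ v, dotProduct v (Matrix.mulVec (Cfsg.Geo.gramMatrix f₁) v) = 0 := fun v => by
    rw [← hdot]; exact hf₁.alternating v
  have hk0 : 0 < k := by
    rcases Nat.eq_zero_or_pos k with h | h
    · rw [h, zero_pow (by omega)] at hn'; omega
    · exact h
  have hG0 : Cfsg.Geo.gramMatrix f₁ ≠ 0 := fun h0 => by
    obtain ⟨⟨w, hw⟩, -⟩ := hf₁.nondegenerate (Pi.single ⟨0, hk0⟩ 1)
      (fun h => one_ne_zero (α := F) (by simpa using congrFun h ⟨0, hk0⟩))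
    exact hw (by rw [hdot, h0, Matrix.zero_mulVec, dotProduct_zero])
  have hB : ∀ x y : (Fin t → Fin k) → F,
      QuadraticMap.polar R (Matrix.mulVec (P : Matrix (Fin n) (Fin n) F) (x ∘ e))
        (Matrix.mulVec (P : Matrix (Fin n) (Fin n) F) (y ∘ e)) =
      c * dotProduct x (Matrix.mulVec
        (Aschbacher.pureTensor fun _ => Cfsg.Geo.gramMatrix f₁) y) := fun x y => by
    rw [hval]
    simp [dotProduct, Matrix.mulVec, Aschbacher.pureTensor_apply, Finset.mul_sum, mul_assoc]
  have hι : 9 ≤ Fintype.card (Fin n) := by simp; omega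
  interval_cases k
  · rw [one_pow] at hn'; omega
  · have ht4 : 3 ≤ t := by
      by_contra h
      interval_cases t
      norm_num at hn'
      omega
    obtain ⟨l, hl0, hl1⟩ : ∃ l : F, l ≠ 0 ∧ l ≠ 1 := by
      classical
      by_contra h
      push Not at h
      have h3 := Finset.card_le_card (show (Finset.univ : Finset F) ⊆ {0, 1} from fun l _ => by
        by_cases hl : l = 0
        · simp [hl]
        · simp [h l hl])
      have h4 := Finset.card_le_two (a := (0 : F)) (b := 1)
      have h5 := Fintype.one_lt_card (α := F)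
      rw [Finset.card_univ] at h3
      exact hex1 ⟨by omega, rfl⟩
    exact Forms.Max.OrthPower.power_between h2 hR hι e P ht hG hGd hG0 hc hB hpure
      (Forms.Max.OrthPower.slotData_two h2 ht4 hl0 hl1 hG hGd)
  · exfalso
    set G := Cfsg.Geo.gramMatrix f₁
    have d0 : G 0 0 = 0 := by simpa using hGd (Pi.single 0 1)
    have d1 : G 1 1 = 0 := by simpa using hGd (Pi.single 1 1)
    have d2 : G 2 2 = 0 := by simpa using hGd (Pi.single 2 1)
    have s01 : G 1 0 = G 0 1 := congrFun (congrFun hG 0) 1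
    have s02 : G 2 0 = G 0 2 := congrFun (congrFun hG 0) 2
    have s12 : G 2 1 = G 1 2 := congrFun (congrFun hG 1) 2
    by_cases hv : (![G 1 2, G 0 2, G 0 1] : Fin 3 → F) = 0
    · refine hG0 ?_
      have v0 : G 1 2 = 0 := by simpa using congrFun hv 0
      have v1 : G 0 2 = 0 := by simpa using congrFun hv 1
      have v2 : G 0 1 = 0 := by simpa using congrFun hv 2
      ext a b
      fin_cases a <;> fin_cases b <;> simp [d0, d1, d2, s01, s02, s12, v0, v1, v2]
    · obtain ⟨-, w, hw⟩ := hf₁.nondegenerate _ hv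
      refine hw ?_
      rw [hdot]
      simp [dotProduct, Matrix.mulVec, Fin.sum_univ_three, d0, d1, d2, s01, s02, s12]
      linear_combination (G 0 2 * G 0 1 * w 0 + G 1 2 * G 0 1 * w 1 + G 1 2 * G 0 2 * w 2) * h2
  · obtain ⟨C, hC⟩ := Forms.Max.OrthPower.exists_anti_basis h2 hf₁
    exact Forms.Max.OrthPower.power_between h2 hR hι e P ht hG hGd hG0 hc hB hpure
      (Forms.Max.OrthPower.slotData_four h2 t C hC)

end Cfsg.Agent.S5707
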