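import Cfsg.Statements.S5712
import Cfsg.Agent.Lib.Cores.Basic
import Cfsg.Agent.Lib.Forms.Max.TwoRoot.Classify
import Cfsg.Agent.Lib.Forms.Max.TwoRoot.Radical
import Cfsg.Agent.Lib.Forms.Max.TwoRoot.Small.Main

set_option autoImplicit false
open Cfsg

namespace Cfsg.Agent.S5712

open Matrix Cfsg.Agent.Aschbacher Cfsg.Agent.Forms.SympStd Cfsg.Agent.Forms.Max

theorem form_eq {F : Type*} [Field F] [CharP F 2] (n : ℕ) :
    (fun u v : (Fin n ⊕ Fin n → F) => ∑ i : Fin n, (u (Sum.inl i) * v (Sum.inr i) + u (Sum.inr i) * v (Sum.inl i))) =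
      Cfsg.sympForm n F := by
  funext u v
  rw [sympForm_eq]
  simp [Finset.sum_add_distrib, CharTwo.sub_eq_add, CharTwo.neg_eq, add_comm]

theorem main {F : Type*} [Field F] [Fintype F] [CharP F 2] {m : ℕ} (S : TwoRoot.Setup F m) :
    S.L = Cfsg.spGL m F ∨
    (∃ Q : QuadraticForm F (Fin m ⊕ Fin m → F), (∀ u v, QuadraticMap.polar ⇑Q u v = sympB m F u v) ∧
      (S.L = Cfsg.isometryGroup F ⇑Q ∨
        ∀ g : GL (Fin m ⊕ Fin m) F, g ∈ S.L ↔ (g ∈ Cfsg.isometryGroup F ⇑Q ∧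
          Even ((g : Matrix (Fin m ⊕ Fin m) (Fin m ⊕ Fin m) F) - 1).rank))) ∨
    (Fintype.card F = 2 ∧ m = 2 ∧
      (Nonempty (↥S.L ≃* ↥(alternatingGroup (Fin 6))) ∨ Nonempty (↥S.L ≃* Equiv.Perm (Fin 5)))) := by
  by_cases hT : S.HasTrv S.a
  · exact Or.inl (TwoRoot.Setup.eq_spGL_of_hasTrv hT)
  by_cases hq : 2 < Fintype.card F ∨ 3 ≤ m
  · exact Or.inr (Or.inl (TwoRoot.Setup.classify_general hT hq))
  push Not at hq
  have hF : Fintype.card F = 2 := le_antisymm hq.1 Fintype.one_lt_card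
  obtain rfl : m = 2 := le_antisymm (Nat.le_of_lt_succ hq.2) S.hm
  rcases TwoRoot.Setup.small_cases (S := S) hF with h | h | h
  exacts [Or.inl h, Or.inr (Or.inl h), Or.inr (Or.inr ⟨hF, rfl, h⟩)]

/-- Let F be a finite field of characteristic two, n ≥ 2, V = F^{2n} with the non-degenerate alternating form f(u, v) = Σ (u_i v_{n+i} + u_{n+i} v_i), and G the group of invertible matrices preserving f. Let a ≠ 0 be a vector, H its stabilizer in G, and X a subgroup of O₂(H) of order |F|^{2n−2} no element of which is a transvection (no element g has g − 1 of rank one). If L is a subgroup of G containing X that acts irreducibly on V (no proper non-zero L-invariant subspace), then L = G, or, for some quadratic form Q on V whose polar form is f, L is the isometry group of Q or its subgroup of the isometries g for which g − 1 has even rank, or |F| = 2, n = 2 and L is isomorphic to the alternating group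 of degree 6 or to the symmetric group of degree 5. -/
theorem result {F : Type*} [Field F] [Fintype F] [CharP F 2] {n : ℕ} (hn : 2 ≤ n) (a : (Fin n ⊕ Fin n → F)) (ha : a ≠ 0)
    (X : Subgroup (GL (Fin n ⊕ Fin n) F)) (hXG : X ≤ Cfsg.preserving (Units.coeHom (Matrix (Fin n ⊕ Fin n) (Fin n ⊕ Fin n) F)) (fun u v : (Fin n ⊕ Fin n → F) => ∑ i : Fin n, (u (Sum.inl i) * v (Sum.inr i) + u (Sum.inr i) * v (Sum.inl i))))
    (hXO : ∀ H : Subgroup (GL (Fin n ⊕ Fin n) F),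
      (∀ g : GL (Fin n ⊕ Fin n) F, g ∈ H ↔ (g ∈ Cfsg.preserving (Units.coeHom (Matrix (Fin n ⊕ Fin n) (Fin n ⊕ Fin n) F)) (fun u v : (Fin n ⊕ Fin n → F) => ∑ i : Fin n, (u (Sum.inl i) * v (Sum.inr i) + u (Sum.inr i) * v (Sum.inl i))) ∧ Matrix.mulVec (g : Matrix (Fin n ⊕ Fin n) (Fin n ⊕ Fin n) F) a = a)) →
      X ≤ (Cfsg.pCore 2 ↥H).map H.subtype)
    (hcard : Nat.card ↥X = Fintype.card F ^ (2 * n - 2))
    (hntv : ∀ x ∈ X, ((x : Matrix (Fin n ⊕ Fin n) (Fin n ⊕ Fin n) F) - 1).rank ≠ 1)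
    (L : Subgroup (GL (Fin n ⊕ Fin n) F)) (hXL : X ≤ L) (hLG : L ≤ Cfsg.preserving (Units.coeHom (Matrix (Fin n ⊕ Fin n) (Fin n ⊕ Fin n) F)) (fun u v : (Fin n ⊕ Fin n → F) => ∑ i : Fin n, (u (Sum.inl i) * v (Sum.inr i) + u (Sum.inr i) * v (Sum.inl i))))
    (hirr : ∀ W : Submodule F (Fin n ⊕ Fin n → F), (∀ g ∈ L, ∀ w ∈ W, Matrix.mulVec (g : Matrix (Fin n ⊕ Fin n) (Fin n ⊕ Fin n) F) w ∈ W) → W = ⊥ ∨ W = ⊤) :
    L = Cfsg.preserving (Units.coeHom (Matrix (Fin n ⊕ Fin n) (Fin n ⊕ Fin n) F)) (fun u v : (Fin n ⊕ Fin n → F) => ∑ i : Fin n, (u (Sum.inl i) * v (Sum.inr i) + u (Sum.inr i) * v (Sum.inl i))) ∨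
    (∃ Q : QuadraticForm F (Fin n ⊕ Fin n → F), (∀ u v, QuadraticMap.polar ⇑Q u v = (fun u v : (Fin n ⊕ Fin n → F) => ∑ i : Fin n, (u (Sum.inl i) * v (Sum.inr i) + u (Sum.inr i) * v (Sum.inl i))) u v) ∧
      (L = Cfsg.isometryGroup F ⇑Q ∨
        ∀ g : GL (Fin n ⊕ Fin n) F, g ∈ L ↔ (g ∈ Cfsg.isometryGroup F ⇑Q ∧ Even ((g : Matrix (Fin n ⊕ Fin n) (Fin n ⊕ Fin n) F) - 1).rank))) ∨
    (Fintype.card F = 2 ∧ n = 2 ∧ (Nonempty (↥L ≃* ↥(alternatingGroup (Fin 6))) ∨ Nonempty (↥L ≃* Equiv.Perm (Fin 5)))) := by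
  have hf := form_eq (F := F) n
  have hpres : Cfsg.preserving (Units.coeHom (Matrix (Fin n ⊕ Fin n) (Fin n ⊕ Fin n) F))
      (fun u v : (Fin n ⊕ Fin n → F) => ∑ i : Fin n, (u (Sum.inl i) * v (Sum.inr i) + u (Sum.inr i) * v (Sum.inl i))) =
      Cfsg.spGL n F := by rw [hf]; rfl
  rw [hpres] at hXO hLG ⊢
  let H : Subgroup (GL (Fin n ⊕ Fin n) F) :=
    { carrier := {g | g ∈ Cfsg.spGL n F ∧ Matrix.mulVec (g : Matrix (Fin n ⊕ Fin n) (Fin n ⊕ Fin n) F) a = a}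
      one_mem' := ⟨one_mem _, by rw [Units.val_one, one_mulVec]⟩
      mul_mem' := fun {g g'} hg hg' => ⟨mul_mem hg.1 hg'.1, by rw [mulVec_mul_GL, hg'.2, hg.2]⟩
      inv_mem' := fun {g} hg => ⟨inv_mem hg.1, by
        conv_lhs => rw [← hg.2]
        exact inv_mulVec_cancel g a⟩ }
  have hH : ∀ g, g ∈ H ↔ g ∈ Cfsg.spGL n F ∧
      Matrix.mulVec (g : Matrix (Fin n ⊕ Fin n) (Fin n ⊕ Fin n) F) a = a := fun g => Iff.rfl
  haveI : (Cfsg.pCore 2 H).Normal := Cores.pCore_normal 2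
  have hlift := TwoRoot.lift_of_card hn ha hH (Cfsg.pCore 2 H) (Cores.pCore_isPGroup 2) (hXO H hH)
    hcard hntv
  let S : TwoRoot.Setup F n :=
    { L := L, a := a, le := hLG, ha := ha, irr := hirr, hm := hn
      lift := fun w hw => (hlift w hw).imp fun α h => hXL h }
  rcases main S with h | ⟨Q, hQ, h⟩ | h
  · exact Or.inl h
  · exact Or.inr (Or.inl ⟨Q, fun u v => by rw [hQ, sympB_apply, hf], h⟩)
  · exact Or.inr (Or.inr h)

end Cfsg.Agent.S5712
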