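import Cfsg.Statements.S5722
import Cfsg.Agent.Lib.CompLength.Main

set_option autoImplicit false
open Cfsg

namespace Cfsg.Agent.S5722

/-- If a finite group G acts faithfully on a finite set with n points and r orbits, then the composition length of G is at most 4(n − r)/3. Here the composition length is expressed through chains: the conclusion bounds the length l of every chain of subgroups 1 = H₀ < H₁ < ⋯ < H_l = G in which each term is normal in the next (the longest such chains are exactly the composition series). -/
theorem result {G Ω : Type*} [Group G] [Finite G] [MulAction G Ω] [FaithfulSMul G Ω] [Fintype Ω]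
    (l : ℕ) (H : Fin (l + 1) → Subgroup G) (h0 : H 0 = ⊥) (hl : H (Fin.last l) = ⊤)
    (hchain : ∀ i : Fin l, H i.castSucc < H i.succ ∧ ((H i.castSucc).subgroupOf (H i.succ)).Normal) :
    3 * l ≤ 4 * (Fintype.card Ω - Nat.card (Quotient (MulAction.orbitRel G Ω))) := by
  classical
  have hser : CompLength.Ser (⊤ : Subgroup G) l := by
    simpa [hl] using CompLength.Ser.of_chain H h0 hchain (Fin.last l)
  set n := Fintype.card Ω with hn
  let ψ : G →* Equiv.Perm (Fin n) :=
    (Fintype.equivFin Ω).permCongrHom.toMonoidHom.comp (MulAction.toPermHom G Ω)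
  have hψ : Function.Injective ψ :=
    (Fintype.equivFin Ω).permCongrHom.injective.comp MulAction.toPerm_injective
  have hser' := hser.map_top (MonoidHom.ofInjective hψ)
  have hb := CompLength.bound n ψ.range (Fin n) (Nat.card_fin n) l hser'
  have hr : Nat.card (Quotient (MulAction.orbitRel G Ω)) ≤
      Nat.card (Quotient (MulAction.orbitRel ψ.range (Fin n))) := by
    refine Nat.card_le_card_of_surjective
      (Quotient.lift (fun i => Quotient.mk _ ((Fintype.equivFin Ω).symm i)) ?_) ?_
    · rintro i j ⟨⟨_, g, rfl⟩, rfl⟩
      refine Quotient.sound ⟨g, ?_⟩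
      show g • _ = (Fintype.equivFin Ω).symm (ψ g j)
      simp [ψ, Equiv.permCongrHom]
    · intro q
      induction q using Quotient.inductionOn with
      | h x => exact ⟨Quotient.mk _ (Fintype.equivFin Ω x), by simp⟩
  omega

end Cfsg.Agent.S5722
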