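import Cfsg.Statements.S5726
import Mathlib
import Cfsg.Agent.S0007

set_option autoImplicit false
open Cfsg

namespace Cfsg.Agent.S5726

/-- If a finite group acts faithfully and transitively on a set with p^k elements, p a prime and k ≥ 1, then some element of order p fixes no point. -/
theorem result {G Ω : Type*} [Group G] [Finite G] [MulAction G Ω] [FaithfulSMul G Ω] [Fintype Ω] (htr : MulAction.IsPretransitive G Ω)
    (p k : ℕ) (hp : p.Prime) (hk : 1 ≤ k) (hΩ : Fintype.card Ω = p ^ k) :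
    ∃ g : G, orderOf g = p ∧ ∀ ω : Ω, g • ω ≠ ω := by
  haveI := Fact.mk hp
  obtain ⟨P⟩ : Nonempty (Sylow p G) := inferInstance
  have hPtr : ∀ a b : Ω, ∃ x ∈ (P : Subgroup G), x • a = b := by
    intro a b
    have hidx : (MulAction.stabilizer G a).index = p ^ k := by
      rw [MulAction.index_stabilizer_of_transitive, Nat.card_eq_fintype_card, hΩ]
    have hcop : (MulAction.stabilizer G a).index.Coprime (P : Subgroup G).index := by
      rw [hidx]
      exact (hp.coprime_iff_not_dvd.2 P.not_dvd_index).pow_left k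
    obtain ⟨g, rfl⟩ := MulAction.exists_smul_eq G a b
    obtain ⟨x, hx, y, hy, hxy⟩ :=
      (Cfsg.Agent.S0007.result (P : Subgroup G) (MulAction.stabilizer G a) hcop.symm).2 g
    exact ⟨x, hx, by rw [hxy, mul_smul, MulAction.mem_stabilizer_iff.1 hy]⟩
  haveI : Nonempty Ω := Fintype.card_pos_iff.1 (by rw [hΩ]; exact pow_pos hp.pos k)
  haveI : Nontrivial (P : Subgroup G) := by
    have h2 : 1 < Fintype.card Ω := by rw [hΩ]; exact Nat.one_lt_pow (by omega) hp.one_lt
    obtain ⟨a, b, hab⟩ := Fintype.one_lt_card_iff.1 h2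
    obtain ⟨x, hx, hxa⟩ := hPtr a b
    exact nontrivial_of_ne (⟨x, hx⟩ : (P : Subgroup G)) 1 (by
      rintro h
      have h1 : x = 1 := congrArg Subtype.val h
      exact hab (by rw [← hxa, h1, one_smul]))
  haveI := P.2.center_nontrivial
  obtain ⟨j, hj, hcard⟩ :=
    (P.2.to_subgroup (Subgroup.center (P : Subgroup G))).nontrivial_iff_card.1 this
  obtain ⟨z, hz⟩ := exists_prime_orderOf_dvd_card' (G := Subgroup.center (P : Subgroup G)) p
    (by rw [hcard]; exact dvd_pow_self p hj.ne')
  have hz' : orderOf ((z : (P : Subgroup G)) : G) = p := by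
    rw [Subgroup.orderOf_coe, Subgroup.orderOf_coe, hz]
  obtain ⟨a0⟩ := (inferInstance : Nonempty Ω)
  refine ⟨((z : (P : Subgroup G)) : G), hz', fun a ha => ?_⟩
  have h1 : ((z : (P : Subgroup G)) : G) = 1 := FaithfulSMul.eq_of_smul_eq_smul (α := Ω) fun b => by
    obtain ⟨x, hx, rfl⟩ := hPtr a b
    have hc : x * ((z : (P : Subgroup G)) : G) = ((z : (P : Subgroup G)) : G) * x :=
      congrArg Subtype.val (Subgroup.mem_center_iff.1 z.2 ⟨x, hx⟩)
    rw [one_smul, ← mul_smul, ← hc, mul_smul, ha]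
  rw [h1, orderOf_one] at hz'
  exact hp.one_lt.ne hz'

end Cfsg.Agent.S5726
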