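import Cfsg.Statements.S5727
import Mathlib
import Cfsg.Agent.S5726

set_option autoImplicit false
open Cfsg

namespace Cfsg.Agent.S5727

/-- If a finite group acts faithfully and transitively on a set with m·p elements, where p is a prime and 1 ≤ m ≤ p, then some element of order p fixes no point. -/
theorem result {G Ω : Type*} [Group G] [Finite G] [MulAction G Ω] [FaithfulSMul G Ω] [Fintype Ω] (htr : MulAction.IsPretransitive G Ω)
    (p m : ℕ) (hp : p.Prime) (hm : 1 ≤ m) (hmp : m ≤ p) (hΩ : Fintype.card Ω = m * p) :
    ∃ g : G, orderOf g = p ∧ ∀ ω : Ω, g • ω ≠ ω := by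
  haveI := Fact.mk hp
  classical
  by_cases hmeq : m = p
  · exact Cfsg.Agent.S5726.result htr p 2 hp one_le_two (by rw [hΩ, hmeq, sq])
  have hlt : m < p := lt_of_le_of_ne hmp hmeq
  obtain ⟨P⟩ : Nonempty (Sylow p G) := inferInstance
  have horb : ∀ a : Ω, (MulAction.stabilizer (P : Subgroup G) a).index = p := by
    intro a
    have hidx : (MulAction.stabilizer G a).index = m * p := by
      rw [MulAction.index_stabilizer_of_transitive, Nat.card_eq_fintype_card, hΩ]
    obtain ⟨j, hj⟩ := P.2.index (MulAction.stabilizer (P : Subgroup G) a)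
    rw [hj]
    have heq : MulAction.stabilizer (P : Subgroup G) a = (MulAction.stabilizer G a).subgroupOf P := rfl
    have hub : p ^ j ≤ m * p := by
      rw [← hj, MulAction.index_stabilizer, ← hΩ, ← Nat.card_eq_fintype_card, ← Set.ncard_univ]
      exact Set.ncard_le_ncard (Set.subset_univ _) (Set.toFinite _)
    have hdvd : p ∣ p ^ j * (P : Subgroup G).index := by
      rw [← hj, heq, ← Subgroup.inf_subgroupOf_right, ← Subgroup.relIndex,
        Subgroup.relIndex_mul_index inf_le_right]
      exact (hidx ▸ dvd_mul_left p m).trans (Subgroup.index_dvd_of_le inf_le_left)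
    have hpj : p ∣ p ^ j := (hp.dvd_mul.1 hdvd).resolve_right P.not_dvd_index
    rcases j with _ | _ | j
    · simp at hpj; omega
    · simp
    · exfalso
      have h1 : p ^ 2 ≤ p ^ (j + 1 + 1) := Nat.pow_le_pow_right hp.pos (by omega)
      have h2 : m * p < p * p := (Nat.mul_lt_mul_right hp.pos).2 hlt
      rw [sq] at h1
      omega
  have hnorm : ∀ a : Ω, (MulAction.stabilizer (P : Subgroup G) a).Normal := fun a => by
    refine Subgroup.normal_of_index_eq_minFac_card ?_
    rw [horb a]
    obtain ⟨j, hj⟩ := IsPGroup.iff_card.1 P.2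
    have hj0 : j ≠ 0 := by
      rintro rfl
      have h1 := (MulAction.stabilizer (P : Subgroup G) a).index_dvd_card
      rw [horb a, hj, pow_zero, Nat.dvd_one] at h1
      exact hp.one_lt.ne' h1
    rw [hj, Nat.pow_minFac hj0, hp.minFac_eq]
  -- the elements fixing a point lie in at most `m` subgroups of index `p`
  let Q := MulAction.orbitRel.Quotient (P : Subgroup G) Ω
  haveI : Fintype Q := Fintype.ofFinite _
  have hQ : Nat.card Q = m := by
    have h1 := Nat.card_congr (MulAction.selfEquivSigmaOrbits (P : Subgroup G) Ω)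
    rw [Nat.card_sigma, Finset.sum_congr rfl (fun (q : Q) _ => by
      rw [Nat.card_coe_set_eq, ← MulAction.index_stabilizer, horb q.out]),
      Finset.sum_const, smul_eq_mul, Nat.card_eq_fintype_card, hΩ, Finset.card_univ,
      ← Nat.card_eq_fintype_card] at h1
    exact (Nat.eq_of_mul_eq_mul_right hp.pos h1).symm
  haveI : Fintype (P : Subgroup G) := Fintype.ofFinite _
  let U : Finset (P : Subgroup G) :=
    Finset.univ.biUnion fun q : Q => Finset.univ.filter fun x : (P : Subgroup G) => x • q.out = q.out
  obtain ⟨x, hx⟩ : ∃ x : (P : Subgroup G), x ∉ U := by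
    by_contra! h
    have hU : U = Finset.univ := Finset.eq_univ_iff_forall.2 h
    have h1 : Nat.card (P : Subgroup G) * p ≤ m * Nat.card (P : Subgroup G) := by
      calc Nat.card (P : Subgroup G) * p = U.card * p := by
            rw [hU, Finset.card_univ, Nat.card_eq_fintype_card]
        _ ≤ (∑ q : Q, (Finset.univ.filter fun x : (P : Subgroup G) => x • q.out = q.out).card) * p :=
            Nat.mul_le_mul_right _ Finset.card_biUnion_le
        _ = ∑ _q : Q, Nat.card (P : Subgroup G) := by
            rw [Finset.sum_mul]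
            refine Finset.sum_congr rfl fun q _ => ?_
            rw [← Subgroup.card_mul_index (MulAction.stabilizer (P : Subgroup G) q.out), horb,
              Nat.card_eq_fintype_card (α := MulAction.stabilizer (P : Subgroup G) q.out),
              Fintype.card_subtype]
            simp only [MulAction.mem_stabilizer_iff]
        _ = m * Nat.card (P : Subgroup G) := by simp [← hQ, Nat.card_eq_fintype_card]
    rw [mul_comm m] at h1
    exact absurd (Nat.le_of_mul_le_mul_left h1 Nat.card_pos) (not_le.2 hlt)
  have hfree : ∀ a : Ω, x • a ≠ a := by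
    intro a ha
    refine hx (Finset.mem_biUnion.2 ⟨(Quotient.mk'' a : Q), Finset.mem_univ _,
      Finset.mem_filter.2 ⟨Finset.mem_univ _, ?_⟩⟩)
    obtain ⟨y, hy⟩ : (Quotient.mk'' a : Q).out ∈ MulAction.orbit (P : Subgroup G) a :=
      MulAction.orbitRel_apply.1 (Quotient.mk_out (s := MulAction.orbitRel (P : Subgroup G) Ω) a)
    have hmem : y⁻¹ * x * y ∈ MulAction.stabilizer (P : Subgroup G) a := by
      simpa using (hnorm a).conj_mem x ha y⁻¹
    simp only at hy
    rw [MulAction.mem_stabilizer_iff, mul_smul, mul_smul] at hmem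
    rw [← hy]
    exact inv_smul_eq_iff.1 hmem
  have hxp : x ^ p = 1 := by
    refine Subtype.ext (FaithfulSMul.eq_of_smul_eq_smul (α := Ω) fun a => ?_)
    haveI := hnorm a
    have := (MulAction.stabilizer (P : Subgroup G) a).pow_index_mem x
    rw [horb a] at this
    rw [MulAction.mem_stabilizer_iff] at this
    simpa [Subgroup.smul_def] using this
  refine ⟨(x : G), orderOf_eq_prime ?_ fun h => ?_, hfree⟩
  · rw [← Subgroup.coe_pow, hxp]; rfl
  · obtain ⟨a⟩ : Nonempty Ω := Fintype.card_pos_iff.1 (by rw [hΩ]; exact Nat.mul_pos hm hp.pos)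
    exact hfree a (by show (x : G) • a = a; rw [h, one_smul])

end Cfsg.Agent.S5727
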