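import Cfsg.Statements.S5728
-- import your own Cfsg.Agent.* helpers here

set_option autoImplicit false
open Cfsg

namespace Cfsg.Agent.S5728

/-- An elusive transitive action. Let p = 2^s − 1 be a prime and let F be the field with p² elements. Inside the group of affine maps x ↦ a·x + b of F (a ≠ 0), consider the subgroup of maps with both coefficients in the prime field. Then every element of prime order of the affine group is conjugate, within the affine group, to an element of that subgroup; equivalently, in the transitive action of the affine group on the cosets of that subgroup (of degree p(p + 1)) every element of prime order fixes a point. -/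
theorem result (p s : ℕ) [Fact p.Prime] (hs : p = 2 ^ s - 1)
    (g : Equiv.Perm (GaloisField p 2)) (hg : g ∈ Cfsg.affineGroup (GaloisField p 2)) (hord : (orderOf g).Prime) :
    ∃ x ∈ Cfsg.affineGroup (GaloisField p 2), ∃ a b : ZMod p, a ≠ 0 ∧
      ∀ y : GaloisField p 2, (x * g * x⁻¹) y = algebraMap (ZMod p) (GaloisField p 2) a * y + algebraMap (ZMod p) (GaloisField p 2) b := by
  classical
  have hp := (Fact.out : p.Prime)
  have hp2 : p ≠ 2 := fun h => by
    rcases s with _ | s <;> simp [pow_succ] at hs <;> omega
  obtain ⟨a, b, hab⟩ := hg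
  have mem : ∀ (c : (GaloisField p 2)ˣ) (d : (GaloisField p 2)), ∃ x ∈ Cfsg.affineGroup (GaloisField p 2), ∀ y, x y = (c : (GaloisField p 2)) * y + d := fun c d => by
    refine ⟨(Equiv.mulLeft₀ (c : (GaloisField p 2)) c.ne_zero).trans (Equiv.addRight d), ⟨c, d, fun y => rfl⟩, fun y => rfl⟩
  haveI : Fintype (GaloisField p 2) := Fintype.ofFinite (GaloisField p 2)
  rcases eq_or_ne (a : (GaloisField p 2)) 1 with ha | ha
  · have hb : b ≠ 0 := fun hb => hp.one_lt.ne' (absurd (by
      rw [show g = 1 from Equiv.ext fun y => by rw [hab, ha, hb, one_mul, add_zero]; rfl, orderOf_one]) hord.ne_one)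
    obtain ⟨x, hx, hxy⟩ := mem (Units.mk0 b hb)⁻¹ 0
    refine ⟨x, hx, 1, 1, one_ne_zero, fun y => ?_⟩
    obtain ⟨z, rfl⟩ := x.surjective y
    show x (g (x.symm (x z))) = _
    rw [Equiv.symm_apply_apply, hxy, hxy, hab, ha, Units.val_inv_eq_inv_val, Units.val_mk0, map_one]
    field_simp
    ring
  · have h1 : (1 : (GaloisField p 2)) - (a : (GaloisField p 2)) ≠ 0 := sub_ne_zero.mpr (Ne.symm ha)
    set y₀ := b / (1 - (a : (GaloisField p 2))) with hy₀
    have hfix : (a : (GaloisField p 2)) * y₀ + b = y₀ := by rw [hy₀]; field_simp; ring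
    obtain ⟨x, hx, hxy⟩ := mem 1 (-y₀)
    have hn : ∀ (n : ℕ) (y : (GaloisField p 2)), (g ^ n) (y₀ + y) = y₀ + (a : (GaloisField p 2)) ^ n * y := by
      intro n
      induction n with
      | zero => intro y; simp
      | succ n ih =>
        intro y
        rw [pow_succ', Equiv.Perm.coe_mul, Function.comp_apply, ih, hab, mul_add, add_right_comm, hfix, pow_succ]
        ring
    have har : (a : (GaloisField p 2)) ^ orderOf g = 1 := by
      have h := hn (orderOf g) 1
      rw [pow_orderOf_eq_one, mul_one] at h
      exact (add_left_cancel h).symm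
    have hcard : Fintype.card (GaloisField p 2) = p ^ 2 := by
      rw [← Nat.card_eq_fintype_card, GaloisField.card p 2 two_ne_zero]
    have har2 : (a : (GaloisField p 2)) ^ (p ^ 2 - 1) = 1 := by
      rw [← hcard]; exact FiniteField.pow_card_sub_one_eq_one _ a.ne_zero
    have hdvd : orderOf g ∣ p - 1 := by
      have h1 : orderOf (a : (GaloisField p 2)) = orderOf g := ((Nat.dvd_prime hord).mp (orderOf_dvd_of_pow_eq_one har)).resolve_left
        (fun h => ha (orderOf_eq_one_iff.mp h))
      have h2 : orderOf g ∣ (p + 1) * (p - 1) := by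
        rw [← Nat.sq_sub_sq, one_pow, ← h1]; exact orderOf_dvd_of_pow_eq_one har2
      rcases hord.dvd_mul.mp h2 with h | h
      · have hs1 : p + 1 = 2 ^ s := by
          have : 1 ≤ 2 ^ s := Nat.one_le_two_pow
          omega
        rw [hs1] at h
        have h22 := (Nat.prime_dvd_prime_iff_eq hord Nat.prime_two).mp (hord.dvd_of_dvd_pow h)
        rw [h22]
        obtain ⟨k, hk⟩ := hp.odd_of_ne_two hp2
        exact ⟨k, by omega⟩
      · exact h
    have hap : (a : (GaloisField p 2)) ^ p = a := by
      obtain ⟨k, hk⟩ := hdvd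
      have h' : (a : GaloisField p 2) ^ ((p - 1) + 1) = a := by
        rw [pow_succ, hk, pow_mul, har, one_pow, one_mul]
      rwa [Nat.sub_add_cancel hp.one_le] at h'
    obtain ⟨c, hc⟩ : ∃ c : ZMod p, algebraMap (ZMod p) (GaloisField p 2) c = (a : (GaloisField p 2)) := by
      let P : Polynomial (GaloisField p 2) := Polynomial.X ^ p - Polynomial.X
      have hP0 : P ≠ 0 := FiniteField.X_pow_card_sub_X_ne_zero _ hp.one_lt
      have hsub : (Finset.univ : Finset (ZMod p)).image (algebraMap (ZMod p) (GaloisField p 2)) ⊆ P.roots.toFinset := by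
        intro y hy
        obtain ⟨c, -, rfl⟩ := Finset.mem_image.mp hy
        rw [Multiset.mem_toFinset, Polynomial.mem_roots hP0]
        simp [P, ← map_pow, ZMod.pow_card]
      have hle : P.roots.toFinset.card ≤ ((Finset.univ : Finset (ZMod p)).image (algebraMap (ZMod p) (GaloisField p 2))).card := by
        rw [Finset.card_image_of_injective _ (algebraMap (ZMod p) (GaloisField p 2)).injective, Finset.card_univ, ZMod.card]
        exact (Multiset.toFinset_card_le _).trans ((Polynomial.card_roots' _).trans
          (FiniteField.X_pow_card_sub_X_natDegree_eq _ hp.one_lt).le)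
      have hmem : (a : GaloisField p 2) ∈ P.roots.toFinset := by
        rw [Multiset.mem_toFinset, Polynomial.mem_roots hP0]
        simp [P, hap]
      rw [← Finset.eq_of_subset_of_card_le hsub hle] at hmem
      obtain ⟨c, -, hc⟩ := Finset.mem_image.mp hmem
      exact ⟨c, hc⟩
    refine ⟨x, hx, c, 0, fun h0 => a.ne_zero (by rw [← hc, h0, map_zero]), fun y => ?_⟩
    obtain ⟨z, rfl⟩ := x.surjective y
    show x (g (x.symm (x z))) = _
    rw [Equiv.symm_apply_apply, hxy, hxy, hab, hc, Units.val_one, map_zero]
    linear_combination hfix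

end Cfsg.Agent.S5728
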