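import Cfsg.Statements.S5729
-- import your own Cfsg.Agent.* helpers here

set_option autoImplicit false
open Cfsg

namespace Cfsg.Agent.S5729

/-- Let a finite group G act faithfully and transitively on a set with n ≥ 3 points. Then either G is a Frobenius permutation group (Frobenius as a permutation group: transitive, some non-identity element fixes a point, and no non-identity element fixes two points) of order n(n − 1) and exactly |G|/n of its elements are derangements (fix no point), or the number of derangements is greater than |G|/n. -/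
theorem result {G Ω : Type*} [Group G] [Finite G] [MulAction G Ω] [FaithfulSMul G Ω] [Fintype Ω] (htr : MulAction.IsPretransitive G Ω) (hn : 3 ≤ Fintype.card Ω) :
    ((MulAction.IsPretransitive G Ω ∧ (∃ g : G, g ≠ 1 ∧ ∃ ω : Ω, g • ω = ω) ∧ ∀ g : G, g ≠ 1 → Nat.card (MulAction.fixedBy Ω g) ≤ 1) ∧ Nat.card G = Fintype.card Ω * (Fintype.card Ω - 1) ∧ Fintype.card Ω * Nat.card {g : G // ∀ ω : Ω, g • ω ≠ ω} = Nat.card G) ∨
    Nat.card G < Fintype.card Ω * Nat.card {g : G // ∀ ω : Ω, g • ω ≠ ω} := by
  classical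
  haveI : Fintype G := Fintype.ofFinite G
  set n := Fintype.card Ω with hn'
  set F : G → ℕ := fun g => Fintype.card (MulAction.fixedBy Ω g) with hF
  have hFn : ∀ g, F g ≤ n := fun g => Fintype.card_subtype_le _
  obtain ⟨a, b, hab⟩ := Fintype.exists_pair_of_one_lt_card (α := Ω) (by omega)
  have hs1 : ∑ g : G, F g = Fintype.card G := by
    rw [hF, MulAction.sum_card_fixedBy_eq_card_orbits_mul_card_group,
      Fintype.card_eq_one_iff.2 ⟨⟦a⟧, fun x => ?_⟩, one_mul]
    induction x using Quotient.inductionOn with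
    | h y => exact Quotient.sound (MulAction.orbitRel_apply.2 (MulAction.mem_orbit_iff.2 (htr.exists_smul_eq a y)))
  obtain ⟨r, hr, hs2⟩ : ∃ r, 2 ≤ r ∧ ∑ g : G, F g * F g = r * Fintype.card G := by
    refine ⟨_, ?_, Eq.trans (Finset.sum_congr rfl fun g _ => ?_)
      (MulAction.sum_card_fixedBy_eq_card_orbits_mul_card_group G (Ω × Ω))⟩
    · refine Fintype.one_lt_card_iff.2 ⟨⟦(a, a)⟧, ⟦(a, b)⟧, fun h => ?_⟩
      obtain ⟨g, hg⟩ := MulAction.mem_orbit_iff.1 (MulAction.orbitRel_apply.1 (Quotient.exact h))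
      exact hab ((smul_left_cancel_iff g).1 ((congrArg Prod.fst hg).trans (congrArg Prod.snd hg).symm))
    · rw [hF, ← Fintype.card_prod]
      exact Fintype.card_congr
        { toFun := fun x => ⟨(x.1.1, x.2.1), Prod.ext x.1.2 x.2.2⟩
          invFun := fun x => (⟨x.1.1, congrArg Prod.fst x.2⟩, ⟨x.1.2, congrArg Prod.snd x.2⟩)
          left_inv := fun x => rfl
          right_inv := fun x => rfl }
  set Der := Finset.univ.filter (fun g : G => F g = 0) with hDer
  have hD : Nat.card {g : G // ∀ ω : Ω, g • ω ≠ ω} = Der.card := by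
    rw [Nat.card_eq_fintype_card, Fintype.card_subtype, hDer]
    refine congrArg Finset.card (Finset.filter_congr fun g _ => ?_)
    simp [hF, Fintype.card_eq_zero_iff, isEmpty_subtype, MulAction.mem_fixedBy]
  rw [hD, Nat.card_eq_fintype_card (α := G)]
  set T : G → ℤ := fun g => (if F g = 0 then (n : ℤ) else 0) - ((F g : ℤ) - 1) * ((F g : ℤ) - n) with hT
  have hT0 : ∀ g, 0 ≤ T g := fun g => by
    by_cases h : F g = 0
    · simp [hT, h]
    · have h1 : (1 : ℤ) ≤ F g := by omega
      have h3 : (F g : ℤ) ≤ n := by exact_mod_cast hFn g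
      simp only [hT, h, if_false]
      nlinarith
  have hsum : ∑ g, T g = (n : ℤ) * Der.card - ((r : ℤ) - 1) * Fintype.card G := by
    have e1 : ∑ g, (if F g = 0 then (n : ℤ) else 0) = (n : ℤ) * Der.card := by
      rw [← Finset.sum_filter, ← hDer, Finset.sum_const, nsmul_eq_mul, mul_comm]
    have e2 : ∀ g, ((F g : ℤ) - 1) * ((F g : ℤ) - n) =
        ((F g * F g : ℕ) : ℤ) - ((n : ℤ) + 1) * (F g : ℤ) + n := fun g => by push_cast; ring
    simp only [hT, Finset.sum_sub_distrib, e1, e2, Finset.sum_add_distrib, Finset.sum_const,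
      Finset.card_univ, ← Finset.mul_sum, ← Nat.cast_sum, hs1, hs2, nsmul_eq_mul]
    push_cast
    ring
  have hG0 : 0 < Fintype.card G := Fintype.card_pos
  rcases lt_or_ge (Fintype.card G) (n * Der.card) with h | h
  · exact Or.inr h
  left
  have hge : (0 : ℤ) ≤ ∑ g, T g := Finset.sum_nonneg fun g _ => hT0 g
  have hh : ((n : ℤ) * Der.card) ≤ Fintype.card G := by exact_mod_cast h
  have hr2 : r = 2 := by
    by_contra hne
    have : (3 : ℤ) ≤ r := by omega
    nlinarith
  subst hr2
  norm_num at hsum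
  have heq : (n : ℤ) * Der.card = Fintype.card G := by linarith
  have hzero : ∀ g, T g = 0 := fun g =>
    (Finset.sum_eq_zero_iff_of_nonneg fun g _ => hT0 g).1 (by linarith) g (Finset.mem_univ g)
  have hF1 : F 1 = n := Fintype.card_congr
    { toFun := fun x => x.1, invFun := fun x => ⟨x, one_smul G x⟩, left_inv := fun x => rfl,
      right_inv := fun x => rfl }
  have hle : ∀ g : G, g ≠ 1 → F g ≤ 1 := fun g hg => by
    by_contra hc
    have h1 := hzero g
    simp only [hT, show F g ≠ 0 by omega, if_false] at h1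
    have h3 : (F g : ℤ) = n := by
      have : ((F g : ℤ) - 1) * ((F g : ℤ) - n) = 0 := by linarith
      rcases mul_eq_zero.1 this with h4 | h4 <;> omega
    refine hg (FaithfulSMul.eq_of_smul_eq_smul fun x : Ω => ?_)
    rw [one_smul]
    by_contra hx
    have := Fintype.card_subtype_lt (p := fun y => y ∈ MulAction.fixedBy Ω g) hx
    have e : F g = Fintype.card {y // y ∈ MulAction.fixedBy Ω g} := rfl
    omega
  have hrest : ∑ g ∈ Finset.univ.erase (1 : G), F g * F g = ∑ g ∈ Finset.univ.erase (1 : G), F g :=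
    Finset.sum_congr rfl fun g hg => by
      rcases Nat.le_one_iff_eq_zero_or_eq_one.1 (hle g (Finset.ne_of_mem_erase hg)) with h1 | h1 <;> rw [h1]
  have a1 := Finset.add_sum_erase _ F (Finset.mem_univ (1 : G))
  have a2 := Finset.add_sum_erase _ (fun g => F g * F g) (Finset.mem_univ (1 : G))
  rw [hs1, hF1] at a1
  simp only [hs2, hF1, hrest] at a2
  refine ⟨⟨htr, ?_, fun g hg => by rw [Nat.card_eq_fintype_card]; exact hle g hg⟩, ?_, by exact_mod_cast heq⟩
  · by_contra hc
    push Not at hc
    have : ∑ g ∈ Finset.univ.erase (1 : G), F g = 0 := Finset.sum_eq_zero fun g hg => by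
      simp [hF, Fintype.card_eq_zero_iff, isEmpty_subtype, MulAction.mem_fixedBy]
      exact hc g (Finset.ne_of_mem_erase hg)
    have h3 : 3 * n ≤ n * n := Nat.mul_le_mul_right n hn
    omega
  · rw [Nat.mul_sub, mul_one]
    omega

end Cfsg.Agent.S5729
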