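import Cfsg.Agent.Lib.Perm.DerangementTwo
import Cfsg.Statements.S5730
-- import your own Cfsg.Agent.* helpers here

set_option autoImplicit false
open Cfsg

namespace Cfsg.Agent.S5730

/-- Let a finite group G act faithfully and transitively on a set with n ≥ 7 points. Then either G is a Frobenius permutation group (Frobenius as a permutation group: transitive, some non-identity element fixes a point, and no non-identity element fixes two points) of order n(n − 1)/a with a ∈ {1, 2}, in which case exactly a|G|/n of its elements are derangements, or the number of derangements is at least 2|G|/n. (Equality does occur: PSL₃(2) acting on the 7 points of the Fano plane has exactly 2|G|/7 derangements.) -/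
theorem result {G Ω : Type*} [Group G] [Finite G] [MulAction G Ω] [FaithfulSMul G Ω] [Fintype Ω] (htr : MulAction.IsPretransitive G Ω) (hn : 7 ≤ Fintype.card Ω) :
    (∃ a : ℕ, (a = 1 ∨ a = 2) ∧ (MulAction.IsPretransitive G Ω ∧ (∃ g : G, g ≠ 1 ∧ ∃ ω : Ω, g • ω = ω) ∧ ∀ g : G, g ≠ 1 → Nat.card (MulAction.fixedBy Ω g) ≤ 1) ∧ a * Nat.card G = Fintype.card Ω * (Fintype.card Ω - 1) ∧ Fintype.card Ω * Nat.card {g : G // ∀ ω : Ω, g • ω ≠ ω} = a * Nat.card G) ∨
    2 * Nat.card G ≤ Fintype.card Ω * Nat.card {g : G // ∀ ω : Ω, g • ω ≠ ω} := by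
  classical
  open Cfsg.Agent.DerangementTwo in
  haveI : Fintype G := Fintype.ofFinite G
  haveI : Nonempty Ω := Fintype.card_pos_iff.1 (by omega)
  haveI := htr
  rw [natCard_der, Nat.card_eq_fintype_card]
  by_cases h2 : TwoTrans Ω G
  swap
  · exact Or.inr (bound_not_twoTrans h2)
  obtain ⟨a, b, hab⟩ := Fintype.exists_pair_of_one_lt_card (by omega : 1 < Fintype.card Ω)
  set Ks := Finset.univ.filter (fun g : G => g • a = a ∧ g • b = b) with hKs
  have hid := two_identity h2 hab
  rw [← hKs] at hid
  have hcard := card_eq h2 hab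
  rw [← hKs] at hcard
  have h1 : (1 : G) ∈ Ks := by simp [hKs]
  rcases Nat.lt_or_ge Ks.card 2 with hk | hk
  · left
    have hk1 : Ks.card = 1 := by
      have := Finset.card_pos.2 ⟨_, h1⟩
      omega
    have hK1 : Ks = {1} := by
      obtain ⟨x, hx⟩ := Finset.card_eq_one.1 hk1
      rw [hx] at h1 ⊢
      rw [Finset.mem_singleton.1 h1]
    refine ⟨1, Or.inl rfl, ⟨htr, ?_, ?_⟩, ?_, ?_⟩
    · obtain ⟨c, hca, hcb⟩ : ∃ c : Ω, c ≠ a ∧ c ≠ b := by
        by_contra h
        push Not at h
        have : (Finset.univ : Finset Ω) ⊆ {a, b} := fun w _ => by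
          rcases eq_or_ne w a with e | e
          · simp [e]
          · simp [h w e]
        have := (Finset.card_le_card this).trans Finset.card_le_two
        rw [Finset.card_univ] at this
        omega
      obtain ⟨g, hga, hgb⟩ := h2 a b a c hab hca.symm
      exact ⟨g, fun e => hcb (by rw [← hgb, e, one_smul]), a, hga⟩
    · intro g hg
      by_contra hlt
      rw [not_le, Nat.card_eq_fintype_card, Fintype.one_lt_card_iff] at hlt
      obtain ⟨⟨c, hc⟩, ⟨d, hd⟩, hcd⟩ := hlt
      obtain ⟨u, hu1, hu2⟩ := h2 a b c d hab (fun e => hcd (Subtype.ext e))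
      have hm : u⁻¹ * g * u ∈ Ks := by
        rw [MulAction.mem_fixedBy] at hc hd
        simp only [hKs, Finset.mem_filter, Finset.mem_univ, true_and, mul_smul, hu1, hu2, hc, hd]
        exact ⟨by rw [← hu1, inv_smul_smul], by rw [← hu2, inv_smul_smul]⟩
      rw [hK1, Finset.mem_singleton] at hm
      apply hg
      calc g = u * (u⁻¹ * g * u) * u⁻¹ := by group
        _ = 1 := by rw [hm]; group
    · rw [one_mul, hcard, hk1, mul_one]
    · rw [one_mul]
      rw [hK1, Finset.sum_singleton, fx_one, sub_self, zero_div, mul_zero, add_zero] at hid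
      exact_mod_cast hid
  · right
    have hkey := key h2 hn hab (by rwa [← hKs])
    rw [← hKs] at hkey
    have hc : (Fintype.card G : ℚ) =
        (Fintype.card Ω : ℚ) * ((Fintype.card Ω : ℚ) - 1) * (Ks.card : ℚ) := by
      rw [hcard]
      push_cast [Nat.cast_sub (show 1 ≤ Fintype.card Ω by omega)]
      ring
    have hnq : (0 : ℚ) ≤ (Fintype.card Ω : ℚ) * ((Fintype.card Ω : ℚ) - 1) := by
      have : (1 : ℚ) ≤ Fintype.card Ω := by exact_mod_cast (show 1 ≤ Fintype.card Ω by omega)
      positivity
    have hle := mul_le_mul_of_nonneg_left hkey hnq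
    have : (2 : ℚ) * Fintype.card G ≤ (Fintype.card Ω : ℚ) * der G Ω := by
      rw [hid]
      linarith
    exact_mod_cast this

end Cfsg.Agent.S5730
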