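import Cfsg.Statements.S5738
-- import your own Cfsg.Agent.* helpers here

set_option autoImplicit false
open Cfsg

namespace Cfsg.Agent.S5738


/-- Let F ⊆ K be finite fields with |F| = q and [K : F] = n ≥ 2, so |K| = q^n. Regard K as an n-dimensional F-vector space; the multiplications by non-zero elements of K form a cyclic subgroup of GL_F(K) of order q^n − 1 acting regularly on the non-zero vectors (a Singer group). Its normaliser in GL_F(K) has order n·(q^n − 1). -/
theorem result {F K : Type*} [Field F] [Fintype F] [Field K] [Fintype K] [Algebra F K] (n : ℕ) (hn : 2 ≤ n) (hdim : Module.finrank F K = n) :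
    Nat.card (Subgroup.normalizer (((Units.map ((Algebra.lmul F K : K →ₐ[F] Module.End F K) : K →* Module.End F K)).range : Subgroup (Module.End F K)ˣ) : Set (Module.End F K)ˣ)) = n * (Fintype.card K - 1) := by
  classical
  let L : Kˣ →* (Module.End F K)ˣ := Units.map ((Algebra.lmul F K : K →ₐ[F] Module.End F K) : K →* Module.End F K)
  let S : (K ≃ₐ[F] K) → (Module.End F K)ˣ := fun σ => ⟨σ.toLinearMap, σ.symm.toLinearMap,
    LinearMap.ext fun x => σ.apply_symm_apply x, LinearMap.ext fun x => σ.symm_apply_apply x⟩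
  let f : Kˣ × (K ≃ₐ[F] K) → (Module.End F K)ˣ := fun q => L q.1 * S q.2
  have hf : Function.Injective f := by
    rintro ⟨c, σ⟩ ⟨d, τ⟩ h
    have h' : ∀ x, (c : K) * σ x = (d : K) * τ x := fun x => LinearMap.congr_fun (congrArg Units.val h) x
    have hcd : c = d := Units.ext (by simpa using h' 1)
    subst hcd
    exact Prod.ext rfl (AlgEquiv.ext fun x => mul_left_cancel₀ c.ne_zero (h' x))
  have hS : ∀ σ (a : Kˣ), S σ * L a * (S σ)⁻¹ = L (Units.map (σ : K →* K) a) := fun σ a =>
    Units.ext (LinearMap.ext fun x => by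
      show σ ((a : K) * σ.symm x) = σ (a : K) * x
      rw [map_mul, AlgEquiv.apply_symm_apply])
  have hrange : (Subgroup.normalizer (L.range : Set (Module.End F K)ˣ) : Set (Module.End F K)ˣ) = Set.range f := by
    refine Set.Subset.antisymm (fun φ hφ => ?_) ?_
    · have h1 : φ.1 1 ≠ 0 := fun h => one_ne_zero (α := K) (by
        have := congrArg φ⁻¹.1 h
        rwa [← Module.End.mul_apply, φ.inv_mul, Module.End.one_apply, map_zero] at this)
      let c := φ.1 1
      let ψ : Module.End F K := (Algebra.lmul F K c⁻¹) * φ.1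
      have hψ : ∀ x, ψ x = c⁻¹ * φ.1 x := fun x => rfl
      have hψ1 : ψ 1 = 1 := inv_mul_cancel₀ h1
      have hmul : ∀ a x : K, ψ (a * x) = ψ a * ψ x := fun a x => by
        rcases eq_or_ne a 0 with rfl | ha
        · rw [zero_mul, map_zero, zero_mul]
        obtain ⟨t, ht⟩ := (Subgroup.mem_normalizer_iff.mp hφ (L (Units.mk0 a ha))).mp ⟨_, rfl⟩
        have hta : ∀ y, φ.1 (a * y) = (t : K) * φ.1 y := fun y => by
          have h := LinearMap.congr_fun (congrArg Units.val ht) (φ.1 y)
          change (t : K) * φ.1 y = φ.1 (a * φ⁻¹.1 (φ.1 y)) at h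
          rw [← Module.End.mul_apply, φ.inv_mul, Module.End.one_apply] at h
          exact h.symm
        have hψa : ψ a = (t : K) := by
          have h2 := hta 1
          rw [mul_one] at h2
          rw [hψ, h2, mul_left_comm, show φ.1 1 = c from rfl, inv_mul_cancel₀ h1, mul_one]
        rw [hψa, hψ, hψ, hta]
        ring
      let σ₀ : K →ₐ[F] K := AlgHom.ofLinearMap ψ hψ1 hmul
      let σ : K ≃ₐ[F] K := AlgEquiv.ofBijective σ₀ σ₀.bijective
      refine ⟨(Units.mk0 c h1, σ), Units.ext (LinearMap.ext fun x => ?_)⟩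
      show c * (c⁻¹ * φ.1 x) = φ.1 x
      rw [mul_inv_cancel_left₀ h1]
    · rintro _ ⟨⟨c, σ⟩, rfl⟩
      refine mul_mem (Subgroup.le_normalizer ⟨c, rfl⟩) (Subgroup.mem_normalizer_iff.mpr fun y => ⟨?_, ?_⟩)
      · rintro ⟨a, rfl⟩
        exact ⟨_, (hS σ a).symm⟩
      · rintro ⟨a, ha⟩
        refine ⟨Units.map ((σ.symm : K ≃ₐ[F] K) : K →* K) a, ?_⟩
        refine (hS σ.symm a).symm.trans ?_
        rw [ha]
        show (S σ)⁻¹ * (S σ * y * (S σ)⁻¹) * (S σ)⁻¹⁻¹ = y
        group
  rw [← SetLike.coe_sort_coe, hrange, Nat.card_range_of_injective hf, Nat.card_prod, Nat.card_units, Nat.card_eq_fintype_card (α := K),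
    IsGalois.card_aut_eq_finrank, hdim, Nat.mul_comm]

end Cfsg.Agent.S5738
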