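import Cfsg.Statements.S5739
-- import your own Cfsg.Agent.* helpers here

set_option autoImplicit false
open Cfsg

namespace Cfsg.Agent.S5739

/-- Let F ⊆ K be finite fields with |F| = q and [K : F] = n ≥ 2, and let M ≤ GL_F(K) be the Singer group of multiplications by non-zero elements of K. If g ∈ GL_F(K) does not normalise M, then the order of M ∩ gMg⁻¹ divides q^r − 1 for some proper divisor r of n. In particular, when n is prime, that order divides q − 1. -/
theorem result {F K : Type*} [Field F] [Fintype F] [Field K] [Fintype K] [Algebra F K] (n : ℕ) (hn : 2 ≤ n) (hdim : Module.finrank F K = n)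
    (g : (Module.End F K)ˣ) (hg : ((Units.map ((Algebra.lmul F K : K →ₐ[F] Module.End F K) : K →* Module.End F K)).range).map (MulAut.conj g).toMonoidHom ≠ (Units.map ((Algebra.lmul F K : K →ₐ[F] Module.End F K) : K →* Module.End F K)).range) :
    ∃ r : ℕ, 1 ≤ r ∧ r ∣ n ∧ r < n ∧ Nat.card ↥(((Units.map ((Algebra.lmul F K : K →ₐ[F] Module.End F K) : K →* Module.End F K)).range).map (MulAut.conj g).toMonoidHom ⊓ (Units.map ((Algebra.lmul F K : K →ₐ[F] Module.End F K) : K →* Module.End F K)).range) ∣ Fintype.card F ^ r - 1 := by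
  classical
  set L : K →ₐ[F] Module.End F K := Algebra.lmul F K with hL
  set Lu : Kˣ →* (Module.End F K)ˣ := Units.map (L : K →* Module.End F K) with hLu
  have hLinj : Function.Injective Lu := fun a b h => Units.ext (Algebra.lmul_injective (congrArg Units.val h))
  set M := Lu.range with hM
  let ψ : K →ₐ[F] Module.End F K :=
    { toFun := fun a => (↑g⁻¹ : Module.End F K) * L a * (g : Module.End F K)
      map_one' := by simp
      map_mul' := fun a b => by
        simp only [map_mul, mul_assoc]
        rw [← mul_assoc (g : Module.End F K) (↑g⁻¹ : Module.End F K), Units.mul_inv, one_mul]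
      map_zero' := by simp
      map_add' := fun a b => by simp [mul_add, add_mul]
      commutes' := fun c => by
        rw [L.commutes, ← Algebra.commutes c (↑g⁻¹ : Module.End F K), mul_assoc, Units.inv_mul, mul_one] }
  have hψ : ∀ a, ψ a = (↑g⁻¹ : Module.End F K) * L a * (g : Module.End F K) := fun a => rfl
  let S₀ : Subalgebra F K := L.range.comap ψ
  let S : IntermediateField F K := S₀.toIntermediateField fun x hx => by
    rcases eq_or_ne x 0 with h | h
    · rw [h, inv_zero]; exact S₀.zero_mem
    · have h1 := FiniteField.pow_card_sub_one_eq_one x h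
      have hc := Fintype.one_lt_card (α := K)
      have : x⁻¹ = x ^ (Fintype.card K - 2) := inv_eq_of_mul_eq_one_right (by
        rw [← pow_succ', show Fintype.card K - 2 + 1 = Fintype.card K - 1 by omega, h1])
      rw [this]
      exact S₀.pow_mem hx _
  have hS : ∀ a : K, a ∈ S ↔ ∃ b, L b = (↑g⁻¹ : Module.End F K) * L a * (g : Module.End F K) :=
    fun a => Iff.rfl
  set r := Module.finrank F S with hr
  have hmul : r * Module.finrank S K = n := by rw [hr, Module.finrank_mul_finrank, hdim]
  have hrn : r ≠ n := fun h => by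
    refine hg ?_
    have hcard : Nat.card ↥(M.map (MulAut.conj g).toMonoidHom) = Nat.card ↥M :=
      Nat.card_congr (M.equivMapOfInjective _ (MulAut.conj g).injective).toEquiv.symm
    haveI : Finite ↥(M.map (MulAut.conj g).toMonoidHom) :=
      Finite.of_surjective (fun a : Kˣ => (⟨MulAut.conj g (Lu a), Lu a, ⟨a, rfl⟩, rfl⟩ :
        ↥(M.map (MulAut.conj g).toMonoidHom))) (by rintro ⟨_, _, ⟨a, rfl⟩, rfl⟩; exact ⟨a, rfl⟩)
    refine (Subgroup.eq_of_le_of_card_ge ?_ hcard.le).symm
    rintro _ ⟨a, rfl⟩
    have htop : S = ⊤ := IntermediateField.eq_of_le_of_finrank_eq le_top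
      (by rw [IntermediateField.finrank_top', hdim]; exact h)
    obtain ⟨b, hb⟩ := (hS a).1 (htop ▸ IntermediateField.mem_top)
    have hb0 : b ≠ 0 := fun h0 => by
      rw [h0, map_zero] at hb
      have h1 := congrArg (fun X => (g : Module.End F K) * X * (↑g⁻¹ : Module.End F K)) hb
      simp [← mul_assoc] at h1
      exact a.ne_zero (Algebra.lmul_injective (h1.symm.trans (map_zero L).symm))
    refine ⟨Lu (Units.mk0 b hb0), ⟨_, rfl⟩, Units.ext ?_⟩
    show (g : Module.End F K) * L b * (↑g⁻¹ : Module.End F K) = L a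
    rw [hb]
    simp [← mul_assoc]
  have hr0 : 1 ≤ r := by
    rcases Nat.eq_zero_or_pos r with h | h
    · rw [h, zero_mul] at hmul; omega
    · exact h
  refine ⟨r, hr0, ⟨_, hmul.symm⟩, lt_of_le_of_ne (Nat.le_of_dvd (by omega) ⟨_, hmul.symm⟩) hrn, ?_⟩
  let H : Subgroup Kˣ := S.toSubalgebra.toSubring.toSubmonoid.units
  have hH : M.map (MulAut.conj g).toMonoidHom ⊓ M = H.map Lu := by
    ext x
    constructor
    · rintro ⟨⟨_, ⟨b, rfl⟩, hb⟩, a, rfl⟩
      refine ⟨a, ?_, rfl⟩
      have hb' : (g : Module.End F K) * L b * (↑g⁻¹ : Module.End F K) = L a := congrArg Units.val hb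
      have ha : (a : K) ∈ S := (hS a).2 ⟨b, by rw [← hb']; simp [← mul_assoc]⟩
      exact ⟨ha, show ((a⁻¹ : Kˣ) : K) ∈ S by rw [Units.val_inv_eq_inv_val]; exact S.inv_mem ha⟩
    · rintro ⟨a, ⟨ha, -⟩, rfl⟩
      refine ⟨?_, a, rfl⟩
      obtain ⟨b, hb⟩ := (hS a).1 ha
      have hb0 : b ≠ 0 := fun h0 => by
        rw [h0, map_zero] at hb
        have h1 := congrArg (fun X => (g : Module.End F K) * X * (↑g⁻¹ : Module.End F K)) hb
        simp [← mul_assoc] at h1
        exact a.ne_zero (Algebra.lmul_injective (h1.symm.trans (map_zero L).symm))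
      refine ⟨Lu (Units.mk0 b hb0), ⟨_, rfl⟩, Units.ext ?_⟩
      show (g : Module.End F K) * L b * (↑g⁻¹ : Module.End F K) = L a
      rw [hb]
      simp [← mul_assoc]
  rw [hH, Subgroup.card_map_of_injective hLinj,
    Nat.card_congr (Submonoid.unitsEquivUnitsType S.toSubalgebra.toSubring.toSubmonoid).toEquiv]
  show Nat.card (↥S)ˣ ∣ _
  rw [Nat.card_units, Module.natCard_eq_pow_finrank (K := F) (V := S), Nat.card_eq_fintype_card]

end Cfsg.Agent.S5739
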