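import Cfsg.Statements.S5743
import Cfsg.Agent.Lib.Chevalley.Fold.F4
import Cfsg.Agent.Lib.Chevalley.Twist.AutE6
import Cfsg.Agent.Lib.Chevalley.Aut.OutCount
import Cfsg.Agent.SimpleFacts.ChevalleyGen
import Cfsg.Agent.SimpleFacts.DiagRegularCent

set_option autoImplicit false
open Cfsg

namespace Cfsg.Agent.S5743

open Cfsg.Lie Cfsg.Agent.Chevalley Cfsg.Agent.Chevalley.Table Cfsg.Agent.Chevalley.Cert
  Cfsg.Agent.Chevalley.Group Cfsg.Agent.Chevalley.FieldAut Cfsg.Agent.Chevalley.Borel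
  Cfsg.Agent.Chevalley.Twist Cfsg.Agent.Chevalley.Twist.E6 Cfsg.Agent.Chevalley.AutThm Cfsg.Agent.Chevalley.TorusCard

variable {F K : Type*} [Field F] [Field K] (f : F →+* K)

theorem map_xg' (r : ℕ) (t : F) :
    mapGL chevE6 f (xg hC r t) = xg hC r (f t) :=
  Units.ext (by rw [mapGL_coe, coe_xg, coe_xg, x_map])

theorem map_nL' (l : List ℕ) : mapGL chevE6 f (nL hC F l) = nL hC K l := by
  rw [nL, nL, map_list_prod, List.map_map]
  refine congrArg List.prod (List.map_congr_left fun i _ => ?_)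
  rw [Function.comp_apply, ng, ng, map_mul, map_mul, map_xg' f, map_xg' f, map_neg, map_inv₀,
    map_one]

theorem map_opr' (rt : ℕ → ℕ) (J : List ℕ) (g : ℕ → F) :
    mapGL chevE6 f (opr hC rt J g) = opr hC rt J fun i => f (g i) := by
  rw [opr, opr, map_list_prod, List.map_map]
  exact congrArg List.prod (List.map_congr_left fun i _ => map_xg' f _ _)

/-- The endomorphism of the field with two elements is the restriction of the twisted one. -/
theorem img_map {S' : Tw hC F} {S : Tw hC K} (hπ : ∀ i < chevE6.rank, S'.π i = S.π i)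
    (hhom : ∀ i < chevE6.rank, ∀ t, f (S'.hom i t) = S.hom i (f t)) {g : GL chevE6.Idx F}
    (hg : g ∈ Fx S') : mapGL chevE6 f g ∈ Fx S := by
  let m : chevE6.group F →* chevE6.group K :=
    ((mapGL chevE6 f).comp (chevE6.group F).subtype).codRestrict _ fun g => map_mem_group f g.2
  have key : ((chevE6.group K).subtype.comp m).comp S'.sig =
      ((chevE6.group K).subtype.comp S.sig).comp m := by
    refine SimpleFacts.ChevalleyGen.hom_ext hC _ _ fun y i t hi hy => ?_
    have aux : ∀ r < chevE6.nroots, (y : GL chevE6.Idx F) = xg hC r t →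
        f (S'.act r t) = S.act r (f t) → S'.ρ r = S.ρ r →
        mapGL chevE6 f (S'.sig y).1 = (S.sig (m y)).1 := by
      intro r hr e ha hρ
      rw [show y = ⟨xg hC r t, xg_mem_group hC hr t⟩ from Subtype.ext e, S'.sig_x r hr t,
        map_xg' f, ha, hρ, ← S.sig_x r hr (f t)]
      exact congrArg (fun z => ((S.sig z : chevE6.group K) : GL chevE6.Idx K))
        (Subtype.ext (map_xg' f r t).symm)
    have hp := hC.simple_lt hi
    rcases hy with hy | hy
    · refine aux _ hp (Units.ext (by rw [hy, coe_xg])) ?_ ?_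
      · rw [S'.act_simple i hi, S.act_simple i hi, hhom i hi]
      · rw [S'.ρ_simple i hi, S.ρ_simple i hi, hπ i hi]
    · refine aux _ (hC.neg_lt hp) (Units.ext (by rw [hy, coe_xg])) ?_ ?_
      · rw [S'.act_neg_simple i hi, S.act_neg_simple i hi, hhom i hi]
      · rw [S'.ρ_neg_simple i hi, S.ρ_neg_simple i hi, hπ i hi]
  obtain ⟨h, e⟩ := (mem_Fx S').1 hg
  have := DFunLike.congr_fun key ⟨g, h⟩
  simp only [MonoidHom.comp_apply, Subgroup.coe_subtype] at this
  refine (mem_Fx S).2 ⟨map_mem_group f h, ?_⟩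
  exact this.symm.trans (congrArg (mapGL chevE6 f) e)

/-- The diagonal elements. -/
noncomputable def dd (K : Type*) [Field K] : (Fin chevE6.rank → Kˣ) →* GL chevE6.Idx K where
  toFun c := dg chevE6 K (charOf Data.E6.tab formsE6 c)
  map_one' := by
    rw [show charOf Data.E6.tab formsE6 (1 : Fin chevE6.rank → Kˣ) = 1 from
      funext fun r => by simp [charOf]]
    exact dg_one
  map_mul' c c' := by rw [charOf_mul, dg_mul]

/-- An orbit-wise regular unipotent element. -/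
abbrev L₀ : List ℕ := [5, 0, 4, 2, 3, 1]

theorem L₀_ok : L₀.Nodup ∧ (∀ i ∈ L₀, i < chevE6.rank) ∧ ∀ i < chevE6.rank, i ∈ L₀ := by
  decide +kernel

/-- The word of the longest element. -/
abbrev top₀ : List ℕ := Fold.F4.top.flatMap fun a => Fold.F4.Js.getD a []

theorem top₀_ok : (∀ i ∈ top₀, i < chevE6.rank) ∧
    ∀ r < chevE6.nroots, 0 < Data.E6.tab.phi r → Data.E6.tab.phi (wL chevE6 top₀ r) < 0 := by
  decide +kernel

theorem regular_mem {S' : Tw hC F} (hπ : S'.π = nodePi L)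
    (hhom : ∀ i < chevE6.rank, ∀ t : F, S'.hom i t = t) :
    opr hC chevE6.simple L₀ (fun _ => (1 : F)) ∈ Fx S' ∧ nL hC F top₀ ∈ Fx S' := by
  have hO : ∀ a < 4, Orth hC (nodePi L) (Fold.F4.Js.getD a []) := fun a ha =>
    orth_of_chk hC (Fold.F4.orth_ok a ha)
  have hgen : ∀ (rt : ℕ → ℕ), Signed chevE6 rt → ∀ a < 4, ∀ v : F,
      opr hC rt (Fold.F4.Js.getD a []) (fun _ => v) ∈ Fx S' := fun rt hrt a ha v =>
    opr_fixed (hO a ha) hπ hrt fun i hi => (hhom i ((hO a ha).lt i hi) v).symm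
  constructor
  · have e : opr hC chevE6.simple L₀ (fun _ => (1 : F)) =
        opr hC chevE6.simple (Fold.F4.Js.getD 0 []) (fun _ => 1) *
          opr hC chevE6.simple (Fold.F4.Js.getD 1 []) (fun _ => 1) *
          opr hC chevE6.simple (Fold.F4.Js.getD 2 []) (fun _ => 1) *
          opr hC chevE6.simple (Fold.F4.Js.getD 3 []) (fun _ => 1) := by
      simp [opr, mul_assoc]
    rw [e]
    exact mul_mem (mul_mem (mul_mem (hgen _ (Or.inl rfl) 0 (by decide) 1)
      (hgen _ (Or.inl rfl) 1 (by decide) 1)) (hgen _ (Or.inl rfl) 2 (by decide) 1))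
      (hgen _ (Or.inl rfl) 3 (by decide) 1)
  · suffices key : ∀ l : List ℕ, (∀ a ∈ l, a < 4) →
        nL hC F (l.flatMap fun a => Fold.F4.Js.getD a []) ∈ Fx S' from key _ (by decide)
    intro l
    induction l with
    | nil => intro _; simpa [nL] using one_mem (Fx S')
    | cons a l ih =>
      intro hl
      have ha := hl a List.mem_cons_self
      rw [List.flatMap_cons, Weyl.nL_append]
      refine mul_mem ?_ (ih fun b hb => hl b (List.mem_cons_of_mem a hb))
      rw [← onr_one, onr_eq (hO a ha) (fun _ => (1 : F)) _ (orth_nodup (hO a ha)) fun _ h => h]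
      exact mul_mem (mul_mem (hgen _ (Or.inl rfl) a ha 1) (hgen _ (Or.inr rfl) a ha _))
        (hgen _ (Or.inl rfl) a ha 1)

/-- A normalising element induces an automorphism. -/
def conjAut {G : Type*} [Group G] {P : Subgroup G} {y : G}
    (h : P.map (MulAut.conj y).toMonoidHom = P) : P ≃* P :=
  ((MulAut.conj y).subgroupMap P).trans (MulEquiv.subgroupCongr h)

theorem coe_conjAut {G : Type*} [Group G] {P : Subgroup G} {y : G}
    (h : P.map (MulAut.conj y).toMonoidHom = P) (x : P) :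
    ((conjAut h x : P) : G) = y * (x : G) * y⁻¹ := rfl

theorem sq_inner {G G' : Type*} [Group G] [Group G'] {A : Subgroup G} {B : Subgroup G'} (e : A ≃* B)
    (hB : Nat.card (Cfsg.Out B) = 2) (φ : A ≃* A) : ∃ h : A, ∀ x, φ (φ x) = h * x * h⁻¹ := by
  obtain ⟨b, hb⟩ := Subgroup.sq_mem_of_index_two
    (show (Cfsg.Inn B).index = 2 from hB) ((e.symm.trans φ).trans e : MulAut B)
  refine ⟨e.symm b, fun x => e.injective ?_⟩
  have := DFunLike.congr_fun hb (e x)
  rw [sq, MulAut.mul_apply, MulAut.conj_apply] at this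
  simp only [MulEquiv.trans_apply, MulEquiv.symm_apply_apply] at this
  rw [← this]
  simp

/-- The weights of the Cartan cokernel on the parameters. -/
theorem adj_param (u : Kˣ) (hu : u ^ 3 = 1) {c : Fin chevE6.rank → Kˣ}
    (hc : c = fun i : Fin chevE6.rank =>
      if (i : ℕ) = 0 then u else if (i : ℕ) = 5 then u⁻¹ else 1) :
    matHom E6.adj c ⟨0, by decide +kernel⟩ = u ^ 2 := by
  subst hc
  have h4 : u ^ 4 = u := by rw [pow_succ u 3, hu, one_mul]
  rw [matHom_apply]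
  show ∏ i : Fin 6, (if (i : ℕ) = 0 then u else if (i : ℕ) = 5 then u⁻¹ else 1) ^
    (!![4, 3, 5, 6, 4, 2; 3, 6, 6, 9, 6, 3; 5, 6, 10, 12, 8, 4; 6, 9, 12, 18, 12, 6;
      4, 6, 8, 12, 10, 5; 2, 3, 4, 6, 5, 4] : Matrix (Fin 6) (Fin 6) ℤ) 0 i = _
  rw [Fin.prod_univ_six]
  simp
  rw [mul_inv_eq_iff_eq_mul, ← pow_add]

/-- The simple group ²E₆(2) (the twisted group of type E₆ over the field with 4 elements) contains at least three pairwise non-conjugate subgroups isomorphic to the Chevalley group F₄(2). -/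
theorem result {K : Type*} [Field K] [Fintype K] (hK : Fintype.card K = 4) :
    ∃ H : Fin 3 → Subgroup (Cfsg.Lie.twistedE6 K 2),
      (∀ i, Nonempty ((H i) ≃* Cfsg.Lie.chevF4.group (ZMod 2))) ∧
      (∀ i j, i ≠ j → ∀ g : (Cfsg.Lie.twistedE6 K 2), (H i).map (MulAut.conj g).toMonoidHom ≠ H j) := by
  classical
  haveI : Fact (Nat.Prime 2) := ⟨Nat.prime_two⟩
  haveI : CharP K 2 := charP_of_card_eq_prime_pow (f := 2) (by rw [hK]; norm_num)
  have hK' : Fintype.card K = 2 ^ 2 := by rw [hK]; norm_num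
  obtain ⟨X⟩ := E6.exists_setup Nat.prime_two.isPrimePow hK'
  obtain ⟨S', hπ', hhom', ⟨eP⟩⟩ := Fold.F4.exists_fold (F := ZMod 2)
  let f : ZMod 2 →+* K := ZMod.castHom dvd_rfl K
  have hFx : Fx X.S = twistedE6 K 2 := Fx_eq X.O X.gen
  have hπX : ∀ i, X.S.π i = nodePi L i := fun i => by rw [X.π_eq]
  have hinj : Function.Injective (mapGL chevE6 f) := fun a b h =>
    Units.ext (Matrix.map_injective f.injective (congrArg Units.val h))
  obtain ⟨P, hP⟩ : ∃ P, P = (Fx S').map (mapGL chevE6 f) := ⟨_, rfl⟩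
  have hPK : P ≤ twistedE6 K 2 := by
    rw [hP, Subgroup.map_le_iff_le_comap]
    intro g hg
    rw [Subgroup.mem_comap, ← hFx]
    refine img_map f (fun i _ => by rw [hπX, hπ']) (fun i hi t => ?_) hg
    rw [hhom' i hi, X.hom_eq i (by exact hi), ← map_pow, ZMod.pow_card]
  let eP' : P ≃* chevF4.group (ZMod 2) :=
    ((MulEquiv.subgroupCongr hP).trans (Subgroup.equivMapOfInjective (Fx S') _ hinj).symm).trans eP
  have hOut : Nat.card (Cfsg.Out (chevF4.group (ZMod 2))) = 2 := by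
    rw [AutThm.out_F4 2 1 (by simp [ZMod.card])]
    norm_num
  -- the parameters of the diagonal automorphisms
  obtain ⟨u, hu⟩ : ∃ u : Kˣ, u ≠ 1 := by
    haveI : Nontrivial Kˣ := Fintype.one_lt_card_iff_nontrivial.1
      (by rw [Fintype.card_units, hK]; norm_num)
    exact exists_ne 1
  have hu3 : u ^ 3 = 1 := by
    have := pow_card_eq_one (x := u)
    rwa [Fintype.card_units, hK] at this
  have hord : orderOf u = 3 := orderOf_eq_prime hu3 hu
  obtain ⟨c, hc⟩ : ∃ c : Fin chevE6.rank → Kˣ, c = fun i : Fin chevE6.rank =>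
      if (i : ℕ) = 0 then u else if (i : ℕ) = 5 then u⁻¹ else 1 := ⟨_, rfl⟩
  have hlt : ∀ j < chevE6.rank, nodePi L j < chevE6.rank := by decide +kernel
  have hinv : ∀ j < chevE6.rank, X.S.π (nodePi L j) = j := fun j hj => by
    rw [hπX]; revert j; decide +kernel
  have hcfix : c ∈ fixParam X.S (nodePi L) hlt := by
    have e2 : ∀ v : Kˣ, v ^ 3 = 1 → v ^ 2 = v⁻¹ := fun v hv =>
      eq_inv_of_mul_eq_one_left (by rw [← pow_succ, hv])
    refine (mem_fixParam X.S).2 fun j => ?_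
    rw [X.hom_eq _ (by exact hlt j j.2), ← Units.val_pow_eq_pow_val]
    congr 1
    rw [hc]
    dsimp only
    obtain ⟨j, hj⟩ := j
    have hj6 : j < 6 := hj
    have e3 : (u⁻¹) ^ 2 = u := by rw [e2 u⁻¹ (by rw [inv_pow, hu3, inv_one]), inv_inv]
    interval_cases j <;> simp [nodePi, L, e2 u hu3, e3]
  have hdK : ∀ e ∈ fixParam X.S (nodePi L) hlt, ∀ g ∈ twistedE6 K 2,
      MulAut.conj (dd K e) g ∈ twistedE6 K 2 := fun e he g hg =>
    dg_mem_K X.O X.gen X.π_eq (hOr X) (hdisj' X) X.fix setupE6 _ hlt hinv he hg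
  have hPd : ∀ n : ℕ, P.map (MulAut.conj (dd K (c ^ n))).toMonoidHom ≤ twistedE6 K 2 := by
    intro n
    rintro _ ⟨x, hx, rfl⟩
    exact hdK _ (pow_mem hcfix n) x (hPK hx)
  refine ⟨fun i => (P.map (MulAut.conj (dd K (c ^ (i : ℕ)))).toMonoidHom).subgroupOf _,
    fun i => ⟨(Subgroup.subgroupOfEquivOfLe (hPd i)).trans
      (((MulAut.conj (dd K (c ^ (i : ℕ)))).subgroupMap P).symm.trans eP')⟩,
    fun i j hij g hg => hij ?_⟩
  -- conjugacy gives a normalising element
  have hgl := congrArg (Subgroup.map (twistedE6 K 2).subtype) hg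
  rw [Subgroup.map_map, show ((twistedE6 K 2).subtype.comp (MulAut.conj g).toMonoidHom) =
      (MulAut.conj (g : GL chevE6.Idx K)).toMonoidHom.comp (twistedE6 K 2).subtype from rfl,
    ← Subgroup.map_map, Subgroup.subgroupOf_map_subtype, Subgroup.subgroupOf_map_subtype,
    inf_of_le_left (hPd i), inf_of_le_left (hPd j)] at hgl
  obtain ⟨e, he⟩ : ∃ e, e = (c ^ (j : ℕ))⁻¹ * c ^ (i : ℕ) := ⟨_, rfl⟩
  obtain ⟨g₁, hg₁⟩ : ∃ g₁, g₁ = MulAut.conj (dd K (c ^ (j : ℕ))⁻¹) (g : GL chevE6.Idx K) :=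
    ⟨_, rfl⟩
  have hg₁K : g₁ ∈ twistedE6 K 2 := hg₁ ▸ hdK _ (inv_mem (pow_mem hcfix _)) g g.2
  obtain ⟨y, hy⟩ : ∃ y, y = g₁ * dd K e := ⟨_, rfl⟩
  have hy' : y = (dd K (c ^ (j : ℕ)))⁻¹ * g * dd K (c ^ (i : ℕ)) := by
    rw [hy, hg₁, he, map_mul, map_inv, MulAut.conj_apply]
    group
  have hyP : P.map (MulAut.conj y).toMonoidHom = P := by
    have h1 := congrArg (Subgroup.map (MulAut.conj (dd K (c ^ (j : ℕ)))⁻¹).toMonoidHom) hgl
    simp only [Subgroup.map_map] at h1
    have hL : P.map (MulAut.conj y).toMonoidHom =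
        P.map ((MulAut.conj (dd K (c ^ (j : ℕ)))⁻¹).toMonoidHom.comp
          ((MulAut.conj (g : GL chevE6.Idx K)).toMonoidHom.comp
            (MulAut.conj (dd K (c ^ (i : ℕ)))).toMonoidHom)) := by
      congr 1
      refine MonoidHom.ext fun x => ?_
      simp [hy', mul_assoc]
    rw [hL, h1]
    conv_rhs => rw [← Subgroup.map_id P]
    congr 1
    refine MonoidHom.ext fun x => ?_
    simp [mul_assoc]
  -- its square is inner times a centralising element
  obtain ⟨h, hh⟩ : ∃ h : P, ∀ x, conjAut hyP (conjAut hyP x) = h * x * h⁻¹ :=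
    sq_inner eP' hOut (conjAut hyP)
  obtain ⟨g₂, hg₂⟩ : ∃ g₂, g₂ = (h : GL chevE6.Idx K)⁻¹ * (g₁ * MulAut.conj (dd K e) g₁) :=
    ⟨_, rfl⟩
  have hecfix : e ∈ fixParam X.S (nodePi L) hlt :=
    he ▸ mul_mem (inv_mem (pow_mem hcfix _)) (pow_mem hcfix _)
  have hg₂G : g₂ ∈ chevE6.group K := by
    have : g₂ ∈ twistedE6 K 2 :=
      hg₂ ▸ mul_mem (inv_mem (hPK h.2)) (mul_mem hg₁K (hdK e hecfix g₁ hg₁K))
    exact Fx_le_group X.S (hFx.symm ▸ this)
  have hz : ∀ x ∈ P, Commute (g₂ * dg chevE6 K (charOf Data.E6.tab formsE6 (e * e))) x := by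
    intro x hx
    have h1 := congrArg Subtype.val (hh ⟨x, hx⟩)
    simp only [coe_conjAut, Subgroup.coe_mul, Subgroup.coe_inv] at h1
    have e1 : g₂ * dg chevE6 K (charOf Data.E6.tab formsE6 (e * e)) =
        (h : GL chevE6.Idx K)⁻¹ * (y * y) := by
      show g₂ * dd K (e * e) = _
      rw [hg₂, hy, map_mul, MulAut.conj_apply]
      group
    rw [e1]
    show (h : GL chevE6.Idx K)⁻¹ * (y * y) * x = x * ((h : GL chevE6.Idx K)⁻¹ * (y * y))
    calc _ = (h : GL chevE6.Idx K)⁻¹ * (y * (y * x * y⁻¹) * y⁻¹) * (y * y) := by group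
      _ = _ := by rw [h1]; group
  obtain ⟨hr, hn⟩ := regular_mem hπ' hhom'
  obtain ⟨c', -, hc'⟩ := SimpleFacts.DiagRegularCent.eq_tor hC setupE6.cons
    (charOf_isRootCharacter (F := K) hC setupE6.int (e * e)) hg₂G (L₀ := L₀) (top := top₀)
    L₀_ok.1 (fun i => ⟨L₀_ok.2.1 i, L₀_ok.2.2 i⟩) top₀_ok.1 top₀_ok.2
    (hz _ (hP ▸ ⟨_, hr, by rw [map_opr']; simp⟩))
    (hz _ (hP ▸ ⟨_, hn, map_nL' f _⟩))
  -- the Cartan matrix misses the parameters
  have hmat : matHom (cartanMat chevE6) (fun j : Fin chevE6.rank => c' j) * (e * e) = 1 := by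
    funext j
    have := hc' j j.2
    rw [charOf_simple hC setupE6.coef setupE6.int (e * e) j] at this
    rw [Pi.mul_apply, Pi.one_apply, ← this]
    congr 1
  have h3 := congrFun (congrArg (matHom E6.adj) hmat) ⟨0, by decide +kernel⟩
  rw [map_mul, ← matHom_mul, E6.adj_ok, map_one, Pi.mul_apply, Pi.one_apply, matHom_apply,
    Finset.prod_eq_single (⟨0, by decide +kernel⟩ : Fin chevE6.rank)
      (fun i _ hne => by simp [Matrix.one_apply_ne hne.symm]) (by simp)] at h3
  have hcube : ∀ v : Kˣ, v ^ 3 = 1 := fun v => by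
    have := pow_card_eq_one (x := v)
    rwa [Fintype.card_units, hK] at this
  simp [zpow_natCast, hcube, he, adj_param u hu3 hc, ← pow_mul] at h3
  have h6 : u ^ (2 * (i : ℕ) + 2 * i) = u ^ (2 * (j : ℕ) + 2 * j) := by
    rw [pow_add, pow_add]
    rw [← mul_one (u ^ (2 * (j : ℕ)) * u ^ (2 * (j : ℕ))), ← h3]
    simp [mul_comm, mul_left_comm]
  rw [← pow_mod_orderOf u, hord, ← pow_mod_orderOf u (2 * (j : ℕ) + 2 * j), hord] at h6
  have h7 := pow_injOn_Iio_orderOf (x := u) (by simp [hord]; omega) (by simp [hord]; omega) h6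
  apply Fin.ext
  omega

end Cfsg.Agent.S5743
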