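import Cfsg.Statements.S5747
import Cfsg.Agent.Lib.PermBases.Irredundant
-- import your own Cfsg.Agent.* helpers here

set_option autoImplicit false
open Cfsg

namespace Cfsg.Agent.S5747

/-- Let a finite group G act on a finite set Ω. An irredundant base is a sequence of points ω₁, …, ω_t whose pointwise stabiliser is trivial and in which each ω_i is moved by some element fixing ω₁, …, ω_{i−1}. Then all irredundant bases have the same length if and only if every reordering of an irredundant base is again an irredundant base. -/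
theorem result {G Ω : Type*} [Group G] [Finite G] [MulAction G Ω] [Fintype Ω] :
    (∀ (t t' : ℕ) (f : Fin t → Ω) (f' : Fin t' → Ω), ((∀ g : G, (∀ i : Fin t, g • f i = f i) → g = 1) ∧ ∀ i : Fin t, ∃ g : G, (∀ j : Fin t, j < i → g • f j = f j) ∧ g • f i ≠ f i) → ((∀ g : G, (∀ i : Fin t', g • f' i = f' i) → g = 1) ∧ ∀ i : Fin t', ∃ g : G, (∀ j : Fin t', j < i → g • f' j = f' j) ∧ g • f' i ≠ f' i) → t = t') ↔
    (∀ (t : ℕ) (f : Fin t → Ω) (σ : Equiv.Perm (Fin t)), ((∀ g : G, (∀ i : Fin t, g • f i = f i) → g = 1) ∧ ∀ i : Fin t, ∃ g : G, (∀ j : Fin t, j < i → g • f j = f j) ∧ g • f i ≠ f i) → ((∀ g : G, (∀ i : Fin t, g • (f ∘ σ) i = (f ∘ σ) i) → g = 1) ∧ ∀ i : Fin t, ∃ g : G, (∀ j : Fin t, j < i → g • (f ∘ σ) j = (f ∘ σ) j) ∧ g • (f ∘ σ) i ≠ (f ∘ σ) i)) := by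
  classical
  constructor
  · intro hall t f σ hf
    have hb : PermBases.IsBase G (f ∘ σ) := fun g hg => hf.1 g fun i => by simpa using hg (σ.symm i)
    refine ⟨hb, fun i => ?_⟩
    by_contra hc
    push Not at hc
    obtain ⟨m', hm', f', hf'⟩ := PermBases.exists_irr_base_le t (f ∘ σ) hb
    have hm := hall t m' f f' hf hf'
    subst hm
    cases t with
    | zero => exact i.elim0
    | succ m =>
      obtain ⟨m'', hm'', f'', hf''⟩ := PermBases.exists_irr_base_le m ((f ∘ σ) ∘ i.succAbove) fun (g : G) hg => by
        have hrest : ∀ j, j ≠ i → g • (f ∘ σ) j = (f ∘ σ) j := fun j hj => by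
          obtain ⟨k, rfl⟩ := Fin.exists_succAbove_eq hj
          exact hg k
        exact hb g fun j => by
          rcases eq_or_ne j i with rfl | hj
          · exact hc g fun k hk => hrest k hk.ne
          · exact hrest j hj
      have := hall (m + 1) m'' f f'' hf hf''
      omega
  · intro hre
    have key : ∀ (t t' : ℕ) (f : Fin t → Ω) (f' : Fin t' → Ω), PermBases.IsBase G f ∧ PermBases.Irr G f →
        PermBases.IsBase G f' ∧ PermBases.Irr G f' → t ≤ t' := by
      intro t t' f f' hf hf'
      have hfaith : ∀ g : G, (∀ x : Ω, g • x = x) → g = 1 := fun g hg => hf.1 g fun i => hg _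
      have hI := PermBases.indep_of_irr hre hfaith hf.2 (S := Finset.univ.image f)
        (fun x hx => by simpa using hx)
      have h := PermBases.indep_card_le hre hfaith (J := Finset.univ.image f')
        (fun g hg => hf'.1 g fun i => hg _ (Finset.mem_image_of_mem _ (Finset.mem_univ i))) _ _ hI le_rfl
      rwa [Finset.card_image_of_injective _ hf.2.injective, Finset.card_image_of_injective _ hf'.2.injective,
        Finset.card_univ, Finset.card_univ, Fintype.card_fin, Fintype.card_fin] at h
    intro t t' f f' hf hf'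
    exact le_antisymm (key t t' f f' hf hf') (key t' t f' f hf' hf)

end Cfsg.Agent.S5747
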