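import Cfsg.Statements.S5752
import Cfsg.Agent.Lib.Perm.ThompsonWielandtBound

set_option autoImplicit false
open Cfsg
open Subgroup Cfsg.Agent.Components Cfsg.Agent.ThompsonWielandt

namespace Cfsg.Agent.S5752

/-- A form of the Thompson–Wielandt Theorem on primitive permutation groups. Let G be a finite group and M₁, M₂ two distinct conjugate maximal subgroups of G with trivial core in G; define two descending sequences of subgroups by A₀ = M₁, B₀ = M₂ and, for every i, A_{i+1} = the core in M₁ of A_i ∩ B_i and B_{i+1} = the core in M₂ of A_i ∩ B_i (the core in M of a subgroup Y ≤ M is the largest normal subgroup of M contained in Y). If A₂ and B₂ are both non-trivial, then for some prime p the subgroup generated by A₂ and B₂ is a p-group, and for each j the generalized Fitting subgroups of M_j and of its first core (A₁, resp. B₁) are their largest normal p-subgroups. -/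
theorem result {G : Type*} [Group G] [Finite G] (M₁ M₂ : Subgroup G) (hmax : IsCoatom M₁) (g : G)
    (hconj : M₂ = M₁.map (MulAut.conj g).toMonoidHom) (hne : M₁ ≠ M₂) (hcore : M₁.normalCore = ⊥)
    (A B : ℕ → Subgroup G) (hA0 : A 0 = M₁) (hB0 : B 0 = M₂)
    (hA : ∀ i, A (i + 1) = ((A i ⊓ B i).subgroupOf M₁).normalCore.map M₁.subtype)
    (hB : ∀ i, B (i + 1) = ((A i ⊓ B i).subgroupOf M₂).normalCore.map M₂.subtype) (hA2 : A 2 ≠ ⊥) (hB2 : B 2 ≠ ⊥) :
    ∃ p : ℕ, p.Prime ∧ IsPGroup p ↥(A 2 ⊔ B 2) ∧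
      Cfsg.generalizedFittingSubgroup ↥M₁ = Cfsg.pCore p ↥M₁ ∧ Cfsg.generalizedFittingSubgroup ↥(A 1) = Cfsg.pCore p ↥(A 1) ∧
      Cfsg.generalizedFittingSubgroup ↥M₂ = Cfsg.pCore p ↥M₂ ∧ Cfsg.generalizedFittingSubgroup ↥(B 1) = Cfsg.pCore p ↥(B 1) := by
  have eA1 : A 1 = cr M₁ (M₁ ⊓ M₂) := by rw [hA 0, hA0, hB0]; rfl
  have eB1 : B 1 = cr M₂ (M₁ ⊓ M₂) := by rw [hB 0, hA0, hB0]; rfl
  have eA2 : A 2 = cr M₁ (A 1 ⊓ B 1) := hA 1
  have eB2 : B 2 = cr M₂ (A 1 ⊓ B 1) := hB 1
  have nA : M₁ ≤ normalizer (A 2 : Set G) := by rw [eA2]; exact le_normalizer_cr _ _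
  have nB : M₂ ≤ normalizer (B 2 : Set G) := by rw [eB2]; exact le_normalizer_cr _ _
  have lA : A 2 ≤ cr M₂ (M₁ ⊓ M₂) := by rw [eA2, ← eB1]; exact (cr_le _ _).trans inf_le_right
  have lB : B 2 ≤ cr M₁ (M₁ ⊓ M₂) := by rw [eB2, ← eA1]; exact (cr_le _ _).trans inf_le_left
  obtain ⟨p, hp, h1, h2, hAp, hBp⟩ := pair_conj hmax hcore hconj hne hA2 nA lA hB2 nB lB
  have : Fact p.Prime := ⟨hp⟩
  have hsub : ∀ (M X : Subgroup G), Cfsg.generalizedFittingSubgroup M = Cfsg.pCore p M →
      Cfsg.generalizedFittingSubgroup (cr M X) = Cfsg.pCore p (cr M X) := by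
    intro M X hM
    set Y := (X.subgroupOf M).normalCore
    have hY : Cfsg.generalizedFittingSubgroup Y = Cfsg.pCore p Y := by
      refine le_antisymm (Cores.le_pCore ?_) ((Fitting.pCore_le_fitting p).trans Fitting.fitting_le_genFitting)
      refine (((hM ▸ Cores.pCore_isPGroup p : IsPGroup p (Cfsg.generalizedFittingSubgroup M))).to_le
        ((Fitting.map_genFitting_subtype_le (normalCore_normal _).isSubnormal).trans inf_le_left)).of_equiv
        (equivMapOfInjective _ _ Y.subtype_injective).symm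
    let e : Y ≃* cr M X := equivMapOfInjective Y M.subtype M.subtype_injective
    rw [← Fitting.genFitting_map_equiv e, hY, Cores.map_pCore_eq e p]
  refine ⟨p, hp, ?_, h1, eA1 ▸ hsub M₁ _ h1, h2, eB1 ▸ hsub M₂ _ h2⟩
  have hA1' : A 2 ≤ MaximalPair.core p M₁ := by
    refine le_core ((lA.trans (cr_le _ _)).trans inf_le_left) ?_ hAp
    exact (normal_subgroupOf_of_le_normalizer nA).isSubnormal
  have hB1' : B 2 ≤ MaximalPair.core p M₁ :=
    subnormal_le_core (M := M₂) nB (inf_comm M₁ M₂ ▸ lB) hBp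
  exact (MaximalPair.core_isPGroup p M₁).to_le (sup_le hA1' hB1')

end Cfsg.Agent.S5752
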