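import Cfsg.Statements.S5753
import Cfsg.Agent.Lib.BinaryAffine.Affine
import Cfsg.Agent.Lib.BinaryAffine.Field

set_option autoImplicit false
open Cfsg Cfsg.Agent.BinaryAffine

namespace Cfsg.Agent.S5753

/-- The binary primitive permutation groups of affine type (the known proof uses the classification of the finite simple groups). Let a finite group G act faithfully and primitively on a finite set Ω, with a non-trivial abelian normal subgroup, and suppose the action is binary: for every n ≥ 2 and all n-tuples I, J of points, if for every pair of positions some element of G carries the corresponding pair of entries of I to those of J, then a single element carries I to J. Then either Ω has a prime number of points and every point stabilizer has order at most 2, or Ω can be identified with a field E that is a quadratic extension of a subfield F in such a way that the permutations induced by G are exactly the maps x ↦ a·φ(x) + b with a ∈ E of norm 1 over F, φ an automorphism of E over F and b ∈ E (the affine group of the anisotropic plane orthogonal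 group). -/
theorem result {G Ω : Type*} [Group G] [Finite G] [MulAction G Ω] [FaithfulSMul G Ω] [Fintype Ω]
    (hprim : MulAction.IsPreprimitive G Ω)
    (haff : ∃ N : Subgroup G, N.Normal ∧ N ≠ ⊥ ∧ IsMulCommutative ↥N)
    (hbin : ∀ (n : ℕ) (I J : Fin n → Ω), 2 ≤ n →
      (∀ i j : Fin n, i ≠ j → ∃ g : G, g • I i = J i ∧ g • I j = J j) → ∃ g : G, ∀ i, g • I i = J i) :
    ((Fintype.card Ω).Prime ∧ ∀ ω : Ω, Nat.card ↥(MulAction.stabilizer G ω) ≤ 2) ∨
    (∃ (F E : Type) (_ : Field F) (_ : Fintype F) (_ : Field E) (_ : Fintype E) (_ : Algebra F E) (e : Ω ≃ E),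
        Module.finrank F E = 2 ∧
        ∀ σ : Equiv.Perm Ω, σ ∈ (MulAction.toPermHom G Ω).range ↔
          ∃ (a b : E) (φ : E ≃ₐ[F] E), Algebra.norm F a = 1 ∧ ∀ ω : Ω, e (σ ω) = a * φ (e ω) + b) := by
  classical
  obtain ⟨N₀, hN₀n, hN₀, hN₀c⟩ := haff
  obtain ⟨ω₀, p, hp, N, hNn, hNc, hNp, hreg, hVsize⟩ := exists_regular hprim N₀ hN₀n hN₀ hN₀c
  have := hNn
  have := hNc
  have hp' : Fact p.Prime := ⟨hp⟩
  have S : Setting (MulAction.stabilizer G ω₀) (Trans N) := setting ω₀ hbin p hNp hreg
  have hirr : Irr (MulAction.stabilizer G ω₀) (Trans N) := irr ω₀ hprim hreg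
  have : Nontrivial (Trans N) := hVsize
  have hcard : Nat.card (Trans N) = Fintype.card Ω :=
    (Nat.card_congr (Equiv.ofBijective _ hreg)).trans Nat.card_eq_fintype_card
  have := hprim.toIsPretransitive
  by_cases hcomm : ∀ r t : MulAction.stabilizer G ω₀, IsMax (Trans N) r → IsMax (Trans N) t → Commute r t
  · obtain ⟨h2, hpr⟩ := small_of_commute S hirr hcomm
    refine Or.inl ⟨hcard ▸ hpr, fun ω => ?_⟩
    obtain ⟨g, rfl⟩ := MulAction.exists_smul_eq G ω₀ ω
    rw [MulAction.stabilizer_smul_eq_stabilizer_map_conj,
      Nat.card_congr ((MulAction.stabilizer G ω₀).equivMapOfInjective _ (MulAut.conj g).injective).symm.toEquiv]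
    exact h2
  push Not at hcomm
  obtain ⟨r, t, hr, ht, hrt⟩ := hcomm
  let P : Pair (MulAction.stabilizer G ω₀) (Trans N) := ⟨S, r, t, hr, ht, hrt⟩
  have hpV := trans_exp p hNp
  obtain ⟨m, e, hm, hfwd, hback⟩ := P.exists_field p hpV (P.U_eq_top p hpV hirr)
  exact Or.inr (exists_affine ω₀ hprim hreg p m hm e hfwd hback)

end Cfsg.Agent.S5753
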