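import Cfsg.Statements.S5754
-- import your own Cfsg.Agent.* helpers here

set_option autoImplicit false
open Cfsg

namespace Cfsg.Agent.S5754

/-- Let V be a finite-dimensional vector space over a finite field F carrying an anisotropic quadratic form Q (Q(v) = 0 only for v = 0). Then the group of all maps v ↦ φ(v) + c, with φ an isometry of Q and c ∈ V, acts on V as a binary permutation group: given n ≥ 2 and two n-tuples u, u' of vectors such that every pair of corresponding entries of u is carried to that of u' by such a map, one such map carries u to u'. -/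
theorem result {F V : Type*} [Field F] [Finite F] [AddCommGroup V] [Module F V] [Module.Finite F V]
    (Q : QuadraticForm F V) (hQ : Q.Anisotropic) (n : ℕ) (hn : 2 ≤ n) (u u' : Fin n → V)
    (h2 : ∀ i j : Fin n, i ≠ j → ∃ (φ : Q.IsometryEquiv Q) (c : V), φ (u i) + c = u' i ∧ φ (u j) + c = u' j) :
    ∃ (φ : Q.IsometryEquiv Q) (c : V), ∀ i, φ (u i) + c = u' i := by
  classical
  let i₀ : Fin n := ⟨0, by omega⟩
  set a : Fin n → V := fun i => u i - u i₀ with ha
  set b : Fin n → V := fun i => u' i - u' i₀ with hb
  have hdiff : ∀ i j, Q (u i - u j) = Q (u' i - u' j) := fun i j => by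
    rcases eq_or_ne i j with rfl | hij
    · simp
    · obtain ⟨φ, c, h1, h3⟩ := h2 i j hij
      rw [← h1, ← h3, add_sub_add_right_eq_sub, ← map_sub, φ.map_app]
  have hB : ∀ x y, QuadraticMap.polar Q x y = Q x + Q y - Q (x - y) := fun x y => by
    have h := QuadraticMap.map_add Q (x - y) y
    rw [sub_add_cancel] at h
    rw [QuadraticMap.polar_sub_left, QuadraticMap.polar_self] at h
    linear_combination -h
  have hab : ∀ i j, QuadraticMap.polar Q (a i) (a j) = QuadraticMap.polar Q (b i) (b j) := fun i j => by
    rw [hB, hB]
    simp only [ha, hb, sub_sub_sub_cancel_right, hdiff]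
  have hab' : ∀ i, Q (a i) = Q (b i) := fun i => hdiff i i₀
  have key : ∀ s : Finset (Fin n), ∃ φ : Q.IsometryEquiv Q, ∀ i ∈ s, φ (a i) = b i := by
    intro s
    induction s using Finset.induction with
    | empty => exact ⟨QuadraticMap.IsometryEquiv.refl Q, by simp⟩
    | @insert i s hi ih =>
      obtain ⟨φ, hφ⟩ := ih
      have hpolar : ∀ x y, QuadraticMap.polar Q (φ x) (φ y) = QuadraticMap.polar Q x y := fun x y => by
        simp only [QuadraticMap.polar, ← map_add, φ.map_app]
      rcases eq_or_ne (φ (a i) - b i) 0 with h0 | h0
      · refine ⟨φ, fun j hj => ?_⟩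
        rcases Finset.mem_insert.1 hj with rfl | hj
        · exact sub_eq_zero.1 h0
        · exact hφ j hj
      · set d := φ (a i) - b i with hd
        have hq : Q d ≠ 0 := fun h => h0 (hQ d h)
        have hdd : QuadraticMap.polar Q d d = 2 * Q d := by simp [QuadraticMap.polar_self]
        let r : V →ₗ[F] V :=
          { toFun := fun x => x - ((Q d)⁻¹ * QuadraticMap.polar Q x d) • d
            map_add' := fun x y => by rw [QuadraticMap.polar_add_left]; module
            map_smul' := fun c x => by
              rw [QuadraticMap.polar_smul_left, RingHom.id_apply, smul_eq_mul]; module }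
        have hr : ∀ x, r x = x - ((Q d)⁻¹ * QuadraticMap.polar Q x d) • d := fun x => rfl
        have hrr : ∀ x, r (r x) = x := fun x => by
          rw [hr (r x), hr x, QuadraticMap.polar_sub_left, QuadraticMap.polar_smul_left, smul_eq_mul, hdd]
          match_scalars <;> field_simp <;> ring
        have hrQ : ∀ x, Q (r x) = Q x := fun x => by
          have h := QuadraticMap.map_add Q (r x) (((Q d)⁻¹ * QuadraticMap.polar Q x d) • d)
          rw [hr x, sub_add_cancel, QuadraticMap.polar_smul_right, QuadraticMap.polar_sub_left,
            QuadraticMap.polar_smul_left, QuadraticMap.map_smul, hdd, smul_eq_mul, smul_eq_mul,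
            smul_eq_mul] at h
          rw [hr x]
          linear_combination -h + ((Q d)⁻¹ * QuadraticMap.polar Q x d * QuadraticMap.polar Q x d) *
            inv_mul_cancel₀ hq
        let R : Q.IsometryEquiv Q :=
          { toLinearEquiv := LinearEquiv.ofLinearMap (R := F) (R₂ := F) r r (LinearMap.ext hrr) (LinearMap.ext hrr)
            map_app' := hrQ }
        refine ⟨φ.trans R, fun j hj => ?_⟩
        show r (φ (a j)) = b j
        rcases Finset.mem_insert.1 hj with rfl | hj
        · have hp : QuadraticMap.polar Q (φ (a j)) d = Q d := by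
            have h1 : Q d = Q (φ (a j)) + Q (b j) - QuadraticMap.polar Q (φ (a j)) (b j) := by
              rw [hB, hd]; ring
            rw [hd, QuadraticMap.polar_sub_right, ← hd, h1, φ.map_app, hab', QuadraticMap.polar_self,
              φ.map_app, hab', two_nsmul]
          rw [hr, hp, inv_mul_cancel₀ hq, one_smul, hd, sub_sub_cancel]
        · have hp : QuadraticMap.polar Q (φ (a j)) d = 0 := by
            rw [hd, QuadraticMap.polar_sub_right, hpolar, hab, hφ j hj, sub_self]
          rw [hr, hp, mul_zero, zero_smul, sub_zero, hφ j hj]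
  obtain ⟨φ, hφ⟩ := key Finset.univ
  refine ⟨φ, u' i₀ - φ (u i₀), fun i => ?_⟩
  have h := hφ i (Finset.mem_univ i)
  simp only [ha, hb, map_sub] at h
  rw [← add_sub_assoc, add_sub_right_comm, h, sub_add_cancel]

end Cfsg.Agent.S5754
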