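import Cfsg.Statements.S5778
import Cfsg.Agent.Aschbacher.Un.Lists.UThreeOrth
import Cfsg.Agent.Aschbacher.Un.Lists.UThreeHesse
import Cfsg.Agent.Aschbacher.Un.Lists.UThreeField
-- import your own Cfsg.Agent.* helpers here

set_option autoImplicit false
open Cfsg

namespace Cfsg.Agent.S5778

/-- Every maximal subgroup of SU_3(q), q ≥ 3, is of one of the listed geometric types or lies in the residual class. Let F be the field with q² elements, f the standard unitary form Σ u_i v_i^q on F^3, and H a maximal subgroup of SU_3(q) (the determinant-one isometries of f, inside GL_3(F)). Then H is the intersection with SU_3(q) of one of: the stabiliser of a non-zero subspace on which f vanishes; the stabiliser of a non-degenerate 1-space; for q ≠ 5, the stabiliser of a decomposition into three mutually orthogonal non-degenerate 1-spaces; for q ≠ 3, 5, the normaliser of an adjoint-closed degree-3 subfield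 of the matrix algebra; a subfield group of odd prime index whose F₀-structure carries f; for q odd, q ≥ 7, a subfield group of index 2 whose F₀-structure carries f; for q = p ≡ 2 mod 3 prime with p ≥ 11, the normaliser of an absolutely irreducible subgroup of order 27 with centre of order 3, exponent 3 and all characteristic abelian subgroups cyclic, contained in the similarity group of f — or else H lies in the residual class of the unitary case. -/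
theorem result {F : Type*} [Field F] [Fintype F] (q : ℕ) (hF : Fintype.card F = q ^ 2) (hq : 3 ≤ q) (H : Subgroup (Matrix.GeneralLinearGroup (Fin 3) F)) (hH : Cfsg.Geo.IsMaximalIn (Cfsg.GU 3 F q ⊓ Cfsg.Geo.specialLinear (Fin 3) F) H) :
    (∃ W : Submodule F (Fin 3 → F), W ≠ ⊥ ∧ Cfsg.Geo.IsTotallySingularFor (Cfsg.hermForm 3 F q) W ∧ H = Cfsg.Geo.subspaceStabilizer W ⊓ (Cfsg.GU 3 F q ⊓ Cfsg.Geo.specialLinear (Fin 3) F)) ∨
    (∃ W : Submodule F (Fin 3 → F), W ≠ ⊥ ∧ Cfsg.Geo.IsNondegenerateOn (Cfsg.hermForm 3 F q) W ∧ 2 * Module.finrank F W < 3 ∧ H = Cfsg.Geo.subspaceStabilizer W ⊓ (Cfsg.GU 3 F q ⊓ Cfsg.Geo.specialLinear (Fin 3) F)) ∨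
    (q ≠ 5 ∧ ∃ D : Fin 3 → Submodule F (Fin 3 → F), Cfsg.Geo.IsNondegenerateMDecomposition (Cfsg.hermForm 3 F q) 1 D ∧ H = Cfsg.Geo.decompositionStabilizer D ⊓ (Cfsg.GU 3 F q ⊓ Cfsg.Geo.specialLinear (Fin 3) F)) ∨
    (q ≠ 3 ∧ q ≠ 5 ∧ ∃ K : Subalgebra F (Matrix (Fin 3) (Fin 3) F), Cfsg.Geo.IsFieldSubalgebra 3 K ∧ Cfsg.Geo.IsAdjointClosedFor (Cfsg.hermForm 3 F q) K ∧ H = Cfsg.Geo.subalgebraNormalizer K ⊓ (Cfsg.GU 3 F q ⊓ Cfsg.Geo.specialLinear (Fin 3) F)) ∨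
    (∃ (F₀ : Subfield F) (r : ℕ) (P : Matrix.GeneralLinearGroup (Fin 3) F), r.Prime ∧ Odd r ∧ Fintype.card F = Nat.card F₀ ^ r ∧ Cfsg.Geo.IsFormRationalStructure (Cfsg.hermForm 3 F q) F₀ 1 P ∧ H = Cfsg.Geo.subfieldSubgroup F₀ P ⊓ (Cfsg.GU 3 F q ⊓ Cfsg.Geo.specialLinear (Fin 3) F)) ∨
    (Odd q ∧ 7 ≤ q ∧ ∃ (F₀ : Subfield F) (P : Matrix.GeneralLinearGroup (Fin 3) F), Fintype.card F = Nat.card F₀ ^ 2 ∧ Cfsg.Geo.IsFormRationalStructure (Cfsg.hermForm 3 F q) F₀ 1 P ∧ H = Cfsg.Geo.subfieldSubgroup F₀ P ⊓ (Cfsg.GU 3 F q ⊓ Cfsg.Geo.specialLinear (Fin 3) F)) ∨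
    (∃ (p : ℕ) (R : Subgroup (Matrix.GeneralLinearGroup (Fin 3) F)), p.Prime ∧ q = p ∧ p % 3 = 2 ∧ 11 ≤ p ∧ Cfsg.Geo.IsSymplecticTypeGroup 3 R ∧ Cfsg.Geo.ActsAbsolutelyIrreducibly (Cfsg.Geo.matrixSet R) ∧ R ≤ Cfsg.Geo.similarityGroup (Cfsg.hermForm 3 F q) ∧ Nat.card R = 27 ∧ Nat.card (Subgroup.center R) = 3 ∧ H = Cfsg.Geo.subgroupNormalizer R ⊓ (Cfsg.GU 3 F q ⊓ Cfsg.Geo.specialLinear (Fin 3) F)) ∨
    Cfsg.Geo.InUnitaryResidualClass H := by
  rcases Cfsg.Agent.Aschbacher.maximal_unGood hF (by norm_num) (by norm_num) (fun h => by omega) hH with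
    hres | ⟨M, -, hM, rfl⟩
  · exact (Or.inr (Or.inr (Or.inr (Or.inr (Or.inr (Or.inr (Or.inr hres)))))))
  rcases hM with ⟨W, h1, h2, rfl⟩ | ⟨W, h1, h2, h3, rfl⟩ | ⟨t, k, D, hD, htk, ht, hk2, rfl⟩ |
    ⟨k, D, hk, h2, h3, rfl⟩ | ⟨F₀, r, P, h1, h2, h3, h4, rfl⟩ | ⟨F₀, P, h1, h2, h3, rfl⟩ |
    ⟨F₀, P, ζ, he, h2, h3, h4, h5, h6, rfl⟩ | ⟨r, R, p, e, k, h1, h2, h3, h4, h5, h6, hn, rfl⟩ |
    ⟨r, K, hr, hodd, hdvd, h3, h4, rfl⟩ | ⟨n₁, n₂, e, P, f₁, f₂, h1, h2, hnn, hq2, h3, h4, h5, rfl⟩ |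
    ⟨k, t, e, P, f₁, hk, ht, hn9, hq3, h4, h5, rfl⟩
  · exact (Or.inl ⟨W, h1, h2, rfl⟩)
  · exact (Or.inr (Or.inl ⟨W, h1, h2, h3, rfl⟩))
  · have := hD.decomp.pos
    have hkn : k ≤ 1 := by nlinarith
    obtain rfl : k = 1 := by omega
    obtain rfl : t = 3 := by omega
    by_cases hq5 : q = 5
    · exact absurd hH (Cfsg.Agent.Aschbacher.UThree.not_maximal_mono hq5 hF hD)
    · exact (Or.inr (Or.inr (Or.inl ⟨hq5, D, hD, rfl⟩)))
  · omega
  · exact (Or.inr (Or.inr (Or.inr (Or.inr (Or.inl ⟨F₀, r, P, h1, h2, h3, h4, rfl⟩)))))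
  · by_cases hq5 : q = 5
    · exact absurd hH (Cfsg.Agent.Aschbacher.UThree.not_maximal_orth hq5 hF h2 h3)
    by_cases hq3 : q = 3
    · obtain ⟨D, hD, hle⟩ := Cfsg.Agent.Aschbacher.UThree.subfield_le_monomial hq3 hF h2 h3
      exact (Or.inr (Or.inr (Or.inl ⟨hq5, D, hD, Cfsg.Agent.Aschbacher.eq_inf_of_le_unMember hF le_rfl
        (by norm_num) (fun h => by omega) hH (Or.inr (Or.inr (Or.inl ⟨3, 1, D, hD, rfl⟩))) hle⟩)))
    · have h7 : 7 ≤ q := by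
        rcases h1 with ⟨j, rfl⟩
        omega
      exact (Or.inr (Or.inr (Or.inr (Or.inr (Or.inr (Or.inl ⟨h1, h7, F₀, P, h2, h3, rfl⟩))))))
  · exact absurd he (by decide)
  · obtain rfl : 3 = r := Cfsg.Agent.Aschbacher.eq_of_prime_dvd_pow h1.prime hn (by norm_num) (by norm_num)
    obtain rfl : k = 1 := (Nat.pow_eq_self_iff (by norm_num)).1 hn.symm
    obtain ⟨-, hz, -, hc⟩ := h6.resolve_right (fun h => absurd h.1 (by decide))
    rw [hz] at h5
    obtain ⟨hp, hqp, hmod⟩ := Cfsg.Agent.Aschbacher.unSymplectic_three hF h4 h5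
    subst hqp
    by_cases hq5 : q = 5
    · exact absurd hH (Cfsg.Agent.Aschbacher.UThree.not_maximal_hesse hq5 hF h1 h2 h3 (hc.trans (by norm_num)) hz)
    · have h11 : 11 ≤ q := by
        by_contra hlt
        interval_cases q <;> first | omega | norm_num at hp
      exact (Or.inr (Or.inr (Or.inr (Or.inr (Or.inr (Or.inr (Or.inl
        ⟨q, R, hp, rfl, hmod, h11, h1, h2, h3, hc.trans (by norm_num), hz, rfl⟩)))))))
  · have hrn : r ≤ 3 := Nat.le_of_dvd (by norm_num) hdvd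
    obtain rfl : r = 3 := by
      have := hr.two_le
      interval_cases r <;> simp_all (config := {decide := true})
    by_cases hq35 : q = 3 ∨ q = 5
    · exact absurd hH (Cfsg.Agent.Aschbacher.UThree.not_maximal_field_three hq35 hF h3 h4)
    · exact (Or.inr (Or.inr (Or.inr (Or.inl ⟨fun h => hq35 (Or.inl h), fun h => hq35 (Or.inr h), K, h3, h4, rfl⟩))))
  · exfalso
    have hn1 : n₁ ≤ 1 := by nlinarith
    omega
  · exact absurd hn9 (by norm_num)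

end Cfsg.Agent.S5778
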