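import Cfsg.Statements.S5779
import Cfsg.Agent.Lib.PSLThree.Residual.Assembly
import Cfsg.Agent.Lib.PSLThree.Residual.Even
import Cfsg.Agent.Lib.PSLThree.Even.ThinMain
import Cfsg.Agent.Lib.PSLThree.Trans.Main
import Cfsg.Agent.Lib.PSLThree.Two.Main
import Cfsg.Agent.Lib.PSLThree.Five.Main

set_option autoImplicit false
open Cfsg

namespace Cfsg.Agent.S5779

/-- The maximal subgroups of SU_3(q), q ≥ 3, in the residual class. Let F be the field with q² elements and H a maximal subgroup of SU_3(q) (determinant-one isometries of the standard unitary form on F^3) lying in the residual class of the unitary case. Then q = p is prime and the perfect socle preimage P of H satisfies one of: P modulo scalars is isomorphic to the simple group of order 168 (written PSL_3(2)) and p ≡ 3, 5 or 6 mod 7 with p ≠ 5; or P modulo scalars is isomorphic to A_6 and either p ≡ 11 or 14 mod 15 or p = 5; or P modulo scalars is isomorphic to A_7 and p = 5. -/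
theorem result {F : Type*} [Field F] [Fintype F] (q : ℕ) (hF : Fintype.card F = q ^ 2) (hq : 3 ≤ q) (H : Subgroup (Matrix.GeneralLinearGroup (Fin 3) F)) (hH : Cfsg.Geo.IsMaximalIn (Cfsg.GU 3 F q ⊓ Cfsg.Geo.specialLinear (Fin 3) F) H) (hS : Cfsg.Geo.InUnitaryResidualClass H) :
    ∃ P : Subgroup (Matrix.GeneralLinearGroup (Fin 3) F), Cfsg.Geo.IsResidualCore H P ∧ q.Prime ∧
    ((Nonempty ((P ⧸ (Cfsg.Geo.scalars (Fin 3) F).subgroupOf P) ≃* Matrix.ProjectiveSpecialLinearGroup (Fin 3) (ZMod 2)) ∧ q ≠ 5 ∧ (q % 7 = 3 ∨ q % 7 = 5 ∨ q % 7 = 6)) ∨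
     (Nonempty ((P ⧸ (Cfsg.Geo.scalars (Fin 3) F).subgroupOf P) ≃* alternatingGroup (Fin 6)) ∧ (q % 15 = 11 ∨ q % 15 = 14 ∨ q = 5)) ∨
     (Nonempty ((P ⧸ (Cfsg.Geo.scalars (Fin 3) F).subgroupOf P) ≃* alternatingGroup (Fin 7)) ∧ q = 5)) := by
  classical
  obtain ⟨p, hchar⟩ := CharP.exists F
  obtain ⟨α, hprime, hcard⟩ := FiniteField.card F p
  haveI : Fact p.Prime := ⟨hprime⟩
  exact Cfsg.Agent.PSLThree.Residual.unitary_class p α hcard
    (fun _ hp hC ht => Cfsg.Agent.PSLThree.Trans.trans_type p hp hC ht)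
    (fun _ hp hC hT S => Cfsg.Agent.PSLThree.Two.dihedral_sylow p α hp hcard hC hT S)
    (fun P hp hC => by subst hp; exact Cfsg.Agent.PSLThree.Residual.even_type hC (Cfsg.Agent.PSLThree.Even.thin_cases hC)) hF hq hH hS
    (fun _ h5 hP _ _ _ h7 e => by
      subst h5
      exact Cfsg.Agent.PSLThree.Five.not_maximal_five (hF.trans (by norm_num)) hH hP h7 e)

end Cfsg.Agent.S5779
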