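import Cfsg.Statements.S5886
import Cfsg.Agent.Lib.Forms.Max.LinExtField
-- import your own Cfsg.Agent.* helpers here

set_option autoImplicit false
open Cfsg
open scoped Matrix

namespace Cfsg.Agent.S5886

/-- Let F be a finite field, n a positive integer and r a prime that divides n with r < n. Let K be a subalgebra of the algebra of n × n matrices over F which is a field of degree r over F (commutative, every non-zero element invertible, of dimension r over F; it contains the scalars). Then the normaliser N of K in GL_n(F) — the invertible F-linear maps that are semilinear over the field K, a group of type ΓL_{n/r}(F_{q^r}) for |F| = q — is a maximal subgroup of GL_n(F), and N ∩ SL_n(F) is a maximal subgroup of SL_n(F). No lower bound on n is assumed. -/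
theorem result {F : Type*} [Field F]
    [Fintype F] (n r : ℕ) (hr : r.Prime) (hrn : r ∣ n) (hlt : r < n) (K : Subalgebra F (Matrix (Fin n) (Fin n) F))
    (hK : Cfsg.Geo.IsFieldSubalgebra r K) :
    IsCoatom (Cfsg.Geo.subalgebraNormalizer K) ∧
      Cfsg.Geo.IsMaximalIn (Cfsg.Geo.specialLinear (Fin n) F)
        (Cfsg.Geo.subalgebraNormalizer K ⊓ Cfsg.Geo.specialLinear (Fin n) F) := by
  classical
  haveI : Nonempty (Fin n) := ⟨⟨0, by have := hr.pos; omega⟩⟩
  have hfield : IsField K :=
    { exists_pair_ne := ⟨0, 1, zero_ne_one⟩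
      mul_comm := fun x y => Subtype.ext (hK.comm x.1 x.2 y.1 y.2)
      mul_inv_cancel := fun {x} hx => by
        obtain ⟨y, hy, e⟩ := hK.inv x.1 x.2 fun h => hx (Subtype.ext h)
        exact ⟨⟨y, hy⟩, Subtype.ext e⟩ }
  letI : Field K := hfield.toField
  haveI : FiniteDimensional F K := Module.finite_of_finrank_pos (by rw [hK.finrank_eq]; exact hr.pos)
  letI : Module K (Fin n → F) :=
    { smul := fun k x => (k : Matrix (Fin n) (Fin n) F) *ᵥ x
      one_smul := fun x => Matrix.one_mulVec x
      mul_smul := fun k k' x => (Matrix.mulVec_mulVec x _ _).symm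
      smul_zero := fun k => Matrix.mulVec_zero _
      smul_add := fun k x y => Matrix.mulVec_add _ x y
      add_smul := fun k k' x => Matrix.add_mulVec _ _ x
      zero_smul := fun x => Matrix.zero_mulVec x }
  haveI : IsScalarTower F K (Fin n → F) := ⟨fun s k x => Matrix.smul_mulVec s _ x⟩
  haveI : Finite K := Module.finite_of_finite F
  haveI : Fintype K := Fintype.ofFinite K
  have hdim : Module.finrank F K = r := hK.finrank_eq
  obtain ⟨χ, hχ⟩ : ∃ χ : K →ₗ[F] F, χ ≠ 0 := by
    let e := Module.finBasisOfFinrankEq F K hdim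
    refine ⟨e.coord ⟨0, hr.pos⟩, fun h => ?_⟩
    have := LinearMap.congr_fun h (e ⟨0, hr.pos⟩)
    simp at this
  have hd : ∀ w : Fin n → F, ∃ y, ∀ t : K, y ≠ t • w := by
    intro w
    by_contra hc
    push Not at hc
    have h1 : (⊤ : Submodule F (Fin n → F)) ≤
        LinearMap.range ((LinearMap.toSpanSingleton K (Fin n → F) w).restrictScalars F) := fun y _ => by
      obtain ⟨t, ht⟩ := hc y
      exact ⟨t, ht.symm⟩
    have h2 := (Submodule.finrank_mono h1).trans (LinearMap.finrank_range_le _)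
    rw [finrank_top, Module.finrank_fintype_fun_eq_card, Fintype.card_fin, hdim] at h2
    omega
  let D : Agent.Forms.Max.LinExtField.Data F (Fin n) K :=
    { χ := χ, hχ := hχ, hr := hdim.symm ▸ hr, hd := hd
      hne := ⟨Pi.single (Classical.arbitrary (Fin n)) 1, by simp⟩ }
  have hN : ∀ g : GL (Fin n) F, g ∈ Cfsg.Geo.subalgebraNormalizer K ↔
      ∀ k : K, ∃ k' : K, ∀ x, (g : Matrix (Fin n) (Fin n) F) *ᵥ (k • x) =
        k' • ((g : Matrix (Fin n) (Fin n) F) *ᵥ x) := by
    intro g
    constructor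
    · intro hg k
      refine ⟨⟨_, (hg k.1).1 k.2⟩, fun x => ?_⟩
      show (g : Matrix _ _ F) *ᵥ (k.1 *ᵥ x) = (_ * k.1 * _) *ᵥ ((g : Matrix _ _ F) *ᵥ x)
      rw [← Matrix.mulVec_mulVec, ← Matrix.mulVec_mulVec, Agent.Forms.Max.inv_mulVec_cancel]
    · intro h
      choose σ hσ using h
      have hconj : ∀ k : K, (g : Matrix (Fin n) (Fin n) F) * k.1 *
          ((g⁻¹ : GL (Fin n) F) : Matrix (Fin n) (Fin n) F) = (σ k).1 := fun k =>
        Matrix.ext_of_mulVec_single fun i => by
          rw [← Matrix.mulVec_mulVec, ← Matrix.mulVec_mulVec]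
          exact (hσ k _).trans (congrArg (fun x => (σ k).1 *ᵥ x) (Agent.Forms.Max.mulVec_inv_cancel g _))
      have hinj : Function.Injective σ := fun a b e => Subtype.ext ((Units.mul_right_inj g).1
        ((Units.mul_left_inj g⁻¹).1 (by rw [hconj, hconj, e])))
      refine fun z => ⟨fun hz => hconj ⟨z, hz⟩ ▸ (σ ⟨z, hz⟩).2, fun hz => ?_⟩
      obtain ⟨k, hk⟩ := Finite.injective_iff_surjective.1 hinj ⟨_, hz⟩
      have e := hconj k
      rw [hk] at e
      exact (Units.mul_right_inj g).1 ((Units.mul_left_inj g⁻¹).1 e) ▸ k.2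
  have hlin : ∀ g : GL (Fin n) F, (∀ (k : K) (x : Fin n → F), (g : Matrix (Fin n) (Fin n) F) *ᵥ (k • x) =
      k • ((g : Matrix (Fin n) (Fin n) F) *ᵥ x)) → g ∈ Cfsg.Geo.subalgebraNormalizer K :=
    fun g h => (hN g).2 fun k => ⟨k, h k⟩
  obtain ⟨g₀, hg₀, hg₀N⟩ := Agent.Forms.Max.LinExtField.exists_not_semilinear D
  constructor
  · refine ⟨fun e => hg₀N ((hN g₀).1 (e ▸ Subgroup.mem_top g₀)), fun M hM => ?_⟩
    obtain ⟨g, hgM, hg⟩ := SetLike.exists_of_lt hM
    have hSL := Agent.Forms.Max.LinExtField.sl_le D (M := M) (fun e he _ => hM.le (hlin e he)) hgM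
      fun h => hg ((hN g).2 h)
    refine (Subgroup.eq_top_iff' M).2 fun x => ?_
    obtain ⟨c, hc⟩ := FiniteField.norm_surjective F K (x : Matrix (Fin n) (Fin n) F).det
    have hdet : (x : Matrix (Fin n) (Fin n) F).det ≠ 0 := fun h0 => by
      have := congrArg Matrix.det (Units.mul_inv x)
      rw [Matrix.det_mul, h0, zero_mul, Matrix.det_one] at this
      exact zero_ne_one this
    have hc0 : c ≠ 0 := fun e => hdet (by rw [← hc, e, Algebra.norm_zero])
    obtain ⟨a, ha⟩ := D.hne
    obtain ⟨φ, -, hφ⟩ := Agent.Forms.Max.LinExtField.exists_fun (K := K) (u := (0 : Fin n → F)) (y := a)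
      fun t e => ha (by rw [e, smul_zero])
    obtain ⟨δ, -, hδK, hδd⟩ := Agent.Forms.Max.LinExtField.exists_dil (F := F) (u := a) (φ := (c - 1) • φ)
      (by rw [LinearMap.smul_apply, hφ, smul_eq_mul, mul_one, add_sub_cancel]; exact hc0)
    rw [LinearMap.smul_apply, hφ, smul_eq_mul, mul_one, add_sub_cancel, hc] at hδd
    have h1 : δ⁻¹ * x ∈ Cfsg.Geo.specialLinear (Fin n) F := Agent.Aschbacher.mem_specialLinear.2 (by
      have h2 := congrArg Matrix.det (Units.mul_inv δ)
      rw [Matrix.det_mul, hδd, Matrix.det_one] at h2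
      rw [Units.val_mul, Matrix.det_mul, mul_comm, h2])
    have := mul_mem (hM.le (hlin δ hδK)) (hSL h1)
    rwa [mul_inv_cancel_left] at this
  · refine Agent.Forms.Max.isMaximalIn_of inf_le_right (fun hle => hg₀N ((hN g₀).1 (hle hg₀).1))
      fun M hM hMK g hgM hg => ?_
    exact Agent.Forms.Max.LinExtField.sl_le D
      (fun e he hed => hM ⟨hlin e he, Agent.Aschbacher.mem_specialLinear.2 hed⟩) hgM
      fun h => hg ⟨(hN g).2 h, hMK hgM⟩

end Cfsg.Agent.S5886
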