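import Cfsg.Statements.S5784
import Cfsg.Agent.Aschbacher.Un.Lists.SU4
-- import your own Cfsg.Agent.* helpers here

set_option autoImplicit false
open Cfsg

namespace Cfsg.Agent.S5784

/-- Every maximal subgroup of SU_4(q) is of one of the listed geometric types or lies in the residual class. Let F be the field with q² elements, f the standard unitary form Σ u_i v_i^q on F^4, and H a maximal subgroup of SU_4(q) (inside GL_4(F)). Then H is the intersection with SU_4(q) of one of: the stabiliser of a non-zero subspace on which f vanishes; the stabiliser of a non-degenerate 1-space; for q ≠ 3, the stabiliser of a decomposition into four mutually orthogonal non-degenerate 1-spaces; for q ≥ 3, of a decomposition into two orthogonal non-degenerate 2-spaces; for q ≥ 4, of a decomposition into two totally isotropic 2-spaces; a subfield group of odd prime index whose F₀-structure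 carries f; a subfield group of index 2 whose F₀-structure carries ζ f, vanishing on pairs (u, u), for some non-zero ζ with ζ + ζ^q = 0; for q odd, a subfield group of index 2 whose F₀-structure carries f; for q = p ≡ 3 mod 4 prime, the normaliser of an absolutely irreducible symplectic-type 2-group of exponent 4, order 64 and centre of order 4 inside the similarity group of f — or else H lies in the residual class of the unitary case. -/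
theorem result {F : Type*} [Field F] [Fintype F] (q : ℕ) (hF : Fintype.card F = q ^ 2) (H : Subgroup (Matrix.GeneralLinearGroup (Fin 4) F)) (hH : Cfsg.Geo.IsMaximalIn (Cfsg.GU 4 F q ⊓ Cfsg.Geo.specialLinear (Fin 4) F) H) :
    (∃ W : Submodule F (Fin 4 → F), W ≠ ⊥ ∧ Cfsg.Geo.IsTotallySingularFor (Cfsg.hermForm 4 F q) W ∧ H = Cfsg.Geo.subspaceStabilizer W ⊓ (Cfsg.GU 4 F q ⊓ Cfsg.Geo.specialLinear (Fin 4) F)) ∨
    (∃ W : Submodule F (Fin 4 → F), W ≠ ⊥ ∧ Cfsg.Geo.IsNondegenerateOn (Cfsg.hermForm 4 F q) W ∧ 2 * Module.finrank F W < 4 ∧ H = Cfsg.Geo.subspaceStabilizer W ⊓ (Cfsg.GU 4 F q ⊓ Cfsg.Geo.specialLinear (Fin 4) F)) ∨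
    (q ≠ 3 ∧ ∃ D : Fin 4 → Submodule F (Fin 4 → F), Cfsg.Geo.IsNondegenerateMDecomposition (Cfsg.hermForm 4 F q) 1 D ∧ H = Cfsg.Geo.decompositionStabilizer D ⊓ (Cfsg.GU 4 F q ⊓ Cfsg.Geo.specialLinear (Fin 4) F)) ∨
    (3 ≤ q ∧ ∃ D : Fin 2 → Submodule F (Fin 4 → F), Cfsg.Geo.IsNondegenerateMDecomposition (Cfsg.hermForm 4 F q) 2 D ∧ H = Cfsg.Geo.decompositionStabilizer D ⊓ (Cfsg.GU 4 F q ⊓ Cfsg.Geo.specialLinear (Fin 4) F)) ∨
    (4 ≤ q ∧ ∃ D : Fin 2 → Submodule F (Fin 4 → F), Cfsg.Geo.IsMDecomposition 2 D ∧ (∀ i, Cfsg.Geo.IsTotallySingularFor (Cfsg.hermForm 4 F q) (D i)) ∧ H = Cfsg.Geo.decompositionStabilizer D ⊓ (Cfsg.GU 4 F q ⊓ Cfsg.Geo.specialLinear (Fin 4) F)) ∨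
    (∃ (F₀ : Subfield F) (r : ℕ) (P : Matrix.GeneralLinearGroup (Fin 4) F), r.Prime ∧ Odd r ∧ Fintype.card F = Nat.card F₀ ^ r ∧ Cfsg.Geo.IsFormRationalStructure (Cfsg.hermForm 4 F q) F₀ 1 P ∧ H = Cfsg.Geo.subfieldSubgroup F₀ P ⊓ (Cfsg.GU 4 F q ⊓ Cfsg.Geo.specialLinear (Fin 4) F)) ∨
    (∃ (F₀ : Subfield F) (P : Matrix.GeneralLinearGroup (Fin 4) F) (ζ : F), Fintype.card F = Nat.card F₀ ^ 2 ∧ ζ ≠ 0 ∧ ζ + ζ ^ q = 0 ∧ Cfsg.Geo.IsFormRationalStructure (Cfsg.hermForm 4 F q) F₀ ζ P ∧ (∀ u : Fin 4 → F, (∀ i, u i ∈ F₀) → (Cfsg.hermForm 4 F q) (Matrix.mulVec (P : Matrix (Fin 4) (Fin 4) F) u) (Matrix.mulVec (P : Matrix (Fin 4) (Fin 4) F) u) = 0) ∧ H = Cfsg.Geo.subfieldSubgroup F₀ P ⊓ (Cfsg.GU 4 F q ⊓ Cfsg.Geo.specialLinear (Fin 4) F)) ∨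
    (Odd q ∧ ∃ (F₀ : Subfield F) (P : Matrix.GeneralLinearGroup (Fin 4) F), Fintype.card F = Nat.card F₀ ^ 2 ∧ Cfsg.Geo.IsFormRationalStructure (Cfsg.hermForm 4 F q) F₀ 1 P ∧ H = Cfsg.Geo.subfieldSubgroup F₀ P ⊓ (Cfsg.GU 4 F q ⊓ Cfsg.Geo.specialLinear (Fin 4) F)) ∨
    (∃ (p : ℕ) (R : Subgroup (Matrix.GeneralLinearGroup (Fin 4) F)), p.Prime ∧ q = p ∧ p % 4 = 3 ∧ Cfsg.Geo.IsSymplecticTypeGroup 2 R ∧ Cfsg.Geo.ActsAbsolutelyIrreducibly (Cfsg.Geo.matrixSet R) ∧ R ≤ Cfsg.Geo.similarityGroup (Cfsg.hermForm 4 F q) ∧ Nat.card R = 64 ∧ Nat.card (Subgroup.center R) = 4 ∧ H = Cfsg.Geo.subgroupNormalizer R ⊓ (Cfsg.GU 4 F q ⊓ Cfsg.Geo.specialLinear (Fin 4) F)) ∨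
    Cfsg.Geo.InUnitaryResidualClass H := by
  rcases Cfsg.Agent.Aschbacher.maximal_unGood hF (by norm_num) (by norm_num) (fun h => absurd h.1 (by norm_num)) hH with
    hres | ⟨M, -, hM, rfl⟩
  · exact (Or.inr (Or.inr (Or.inr (Or.inr (Or.inr (Or.inr (Or.inr (Or.inr (Or.inr hres)))))))))
  rcases hM with ⟨W, h1, h2, rfl⟩ | ⟨W, h1, h2, h3, rfl⟩ | ⟨t, k, D, hD, htk, ht, hk2, rfl⟩ |
    ⟨k, D, hk, h2, h3, rfl⟩ | ⟨F₀, r, P, h1, h2, h3, h4, rfl⟩ | ⟨F₀, P, h1, h2, h3, rfl⟩ |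
    ⟨F₀, P, ζ, he, h2, h3, h4, h5, h6, rfl⟩ | ⟨r, R, p, e, k, h1, h2, h3, h4, h5, h6, hn, rfl⟩ |
    ⟨r, K, hr, hodd, hdvd, h3, h4, rfl⟩ | ⟨n₁, n₂, e, P, f₁, f₂, h1, h2, hnn, hq2, h3, h4, h5, rfl⟩ |
    ⟨k, t, e, P, f₁, hk, ht, hn9, hq3, h4, h5, rfl⟩
  · exact (Or.inl ⟨W, h1, h2, rfl⟩)
  · exact (Or.inr (Or.inl ⟨W, h1, h2, h3, rfl⟩))
  · have := hD.decomp.pos
    have hkn : k ≤ 2 := by nlinarith
    obtain ⟨rfl, rfl⟩ | ⟨rfl, rfl⟩ : (k = 1 ∧ t = 4) ∨ (k = 2 ∧ t = 2) := by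
      interval_cases k <;> omega
    · by_cases hq : q = 3
      · obtain ⟨p, R, hp, hqp, hmod, h1, h2, h3, hc, hz, hM', hle⟩ :=
          Cfsg.Agent.Aschbacher.monomial_le_symplectic_unitary hF hq hD
        exact (Or.inr (Or.inr (Or.inr (Or.inr (Or.inr (Or.inr (Or.inr (Or.inr (Or.inl ⟨p, R, hp, hqp, hmod, h1, h2, h3, hc, hz, Cfsg.Agent.Aschbacher.eq_inf_of_le_unMember hF (by norm_num) (by norm_num) (fun h => absurd h.1 (by norm_num)) hH hM' hle⟩)))))))))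
      · exact (Or.inr (Or.inr (Or.inl ⟨hq, D, hD, rfl⟩)))
    · exact (Or.inr (Or.inr (Or.inr (Or.inl ⟨hk2 rfl, D, hD, rfl⟩))))
  · obtain rfl : k = 2 := by omega
    by_cases hq : q ≤ 3
    · obtain ⟨F₀, P, ζ, g2, g3, g4, g5, g6, hle⟩ := Cfsg.Agent.Aschbacher.pair_le_subfield hF hq h2 h3
      have hM' : Cfsg.Agent.Aschbacher.IsUnMember 4 F q (Cfsg.Geo.subfieldSubgroup F₀ P) :=
        Or.inr (Or.inr (Or.inr (Or.inr (Or.inr (Or.inr (Or.inl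
          ⟨F₀, P, ζ, by decide, g2, g3, g4, g5, g6, rfl⟩))))))
      exact (Or.inr (Or.inr (Or.inr (Or.inr (Or.inr (Or.inr (Or.inl ⟨F₀, P, ζ, g2, g3, g4, g5, g6, Cfsg.Agent.Aschbacher.eq_inf_of_le_unMember hF (by norm_num) (by norm_num) (fun h => absurd h.1 (by norm_num)) hH hM' hle⟩)))))))
    · exact (Or.inr (Or.inr (Or.inr (Or.inr (Or.inl ⟨by omega, D, h2, h3, rfl⟩)))))
  · exact (Or.inr (Or.inr (Or.inr (Or.inr (Or.inr (Or.inl ⟨F₀, r, P, h1, h2, h3, h4, rfl⟩))))))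
  · exact (Or.inr (Or.inr (Or.inr (Or.inr (Or.inr (Or.inr (Or.inr (Or.inl ⟨h1, F₀, P, h2, h3, rfl⟩))))))))
  · exact (Or.inr (Or.inr (Or.inr (Or.inr (Or.inr (Or.inr (Or.inl ⟨F₀, P, ζ, h2, h3, h4, h5, h6, rfl⟩)))))))
  · obtain rfl : 2 = r := Cfsg.Agent.Aschbacher.eq_of_prime_dvd_pow h1.prime hn Nat.prime_two (by norm_num)
    obtain rfl : k = 2 := Nat.pow_right_injective le_rfl (hn.symm.trans (by norm_num : 4 = 2 ^ 2))
    obtain ⟨-, rfl, hz, hc⟩ := h6.resolve_left (fun h => absurd h.1 (by decide))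
    rw [hz] at h5
    obtain ⟨hp, hqp, hmod⟩ := Cfsg.Agent.Aschbacher.unSymplectic_two hF h5
    exact (Or.inr (Or.inr (Or.inr (Or.inr (Or.inr (Or.inr (Or.inr (Or.inr (Or.inl ⟨p, R, hp, hqp, hmod, h1, h2, h3, hc.trans (by norm_num), hz, rfl⟩)))))))))
  · exfalso
    have h2r : r ∣ 2 := hr.dvd_of_dvd_pow (show r ∣ 2 ^ 2 from hdvd)
    rw [(Nat.prime_dvd_prime_iff_eq hr Nat.prime_two).1 h2r] at hodd
    exact absurd hodd (by decide)
  · exfalso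
    have hn1 : n₁ ≤ 2 := by nlinarith
    interval_cases n₁ <;> omega
  · exact absurd hn9 (by norm_num)

end Cfsg.Agent.S5784
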