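import Cfsg.Statements.S5786
import Cfsg.Agent.Lib.Forms.Max.SympBlocks
import Cfsg.Agent.Lib.Forms.Max.SympExtNormalizer
import Cfsg.Agent.Lib.Forms.Max.SubfieldSympGeo
import Cfsg.Agent.Lib.Forms.Max.PairMem
import Cfsg.Agent.Lib.Forms.Max.SpFour.Pair
import Cfsg.Agent.Lib.Forms.Max.SpFour.ExtAdjoint
import Cfsg.Agent.Lib.Forms.Max.SpFour.Type4Max

set_option autoImplicit false
open Cfsg

namespace Cfsg.Agent.S5786

/-- Maximal subgroups of Sp_4(q) of geometric type, q odd. Let F be a finite field of odd order q, f the standard alternating form on F^4 (coordinates Fin 2 ⊕ Fin 2) and Sp_4(F) its isometry group inside GL_4(F). Each of the following, intersected with Sp_4(F), is a maximal subgroup of Sp_4(F): (1) the stabiliser of any non-zero totally isotropic subspace (totally isotropic 1-spaces and 2-spaces); (2) the stabiliser of any decomposition of F^4 into two mutually orthogonal non-degenerate 2-spaces; (3) for q ≥ 5, the stabiliser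 of any decomposition of F^4 into two totally isotropic 2-spaces; (4) the normaliser of any degree-2 subfield K of the matrix algebra whose elements are self-adjoint for f with f(k v, v) = 0 for all k in K and all v (f is the trace of an alternating form over K); (5) for q ≥ 5, the normaliser of any degree-2 subfield of the matrix algebra that is closed under adjoints but not self-adjoint (f is the trace of a multiple of a unitary form over K); (6) every subfield group for a subfield F₀ with |F| = |F₀|^r, r prime, whose F₀-structure carries a non-zero scalar multiple of f; (7) for q = p prime, the normaliser of any absolutely irreducible 2-group R of symplectic type and exponent 4, of order 32 with centre of order 2 and of minus type, consisting of isometries of f. -/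
theorem result {F : Type*} [Field F] [Fintype F] (hodd : Odd (Fintype.card F)) :
    (∀ W : Submodule F (Fin 2 ⊕ Fin 2 → F), W ≠ ⊥ → Cfsg.Geo.IsTotallySingularFor (Cfsg.sympForm 2 F) W → Cfsg.Geo.IsMaximalIn (Cfsg.spGL 2 F) (Cfsg.Geo.subspaceStabilizer W ⊓ Cfsg.spGL 2 F)) ∧
    (∀ D : Fin 2 → Submodule F (Fin 2 ⊕ Fin 2 → F), Cfsg.Geo.IsNondegenerateMDecomposition (Cfsg.sympForm 2 F) 2 D → Cfsg.Geo.IsMaximalIn (Cfsg.spGL 2 F) (Cfsg.Geo.decompositionStabilizer D ⊓ Cfsg.spGL 2 F)) ∧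
    (5 ≤ Fintype.card F → ∀ D : Fin 2 → Submodule F (Fin 2 ⊕ Fin 2 → F), Cfsg.Geo.IsMDecomposition 2 D → (∀ i, Cfsg.Geo.IsTotallySingularFor (Cfsg.sympForm 2 F) (D i)) → Cfsg.Geo.IsMaximalIn (Cfsg.spGL 2 F) (Cfsg.Geo.decompositionStabilizer D ⊓ Cfsg.spGL 2 F)) ∧
    (∀ K : Subalgebra F (Matrix (Fin 2 ⊕ Fin 2) (Fin 2 ⊕ Fin 2) F), Cfsg.Geo.IsFieldSubalgebra 2 K → Cfsg.Geo.IsSelfAdjointFor (Cfsg.sympForm 2 F) K → (∀ k ∈ K, ∀ v : (Fin 2 ⊕ Fin 2 → F), (Cfsg.sympForm 2 F) (Matrix.mulVec k v) v = 0) → Cfsg.Geo.IsMaximalIn (Cfsg.spGL 2 F) (Cfsg.Geo.subalgebraNormalizer K ⊓ Cfsg.spGL 2 F)) ∧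
    (5 ≤ Fintype.card F → ∀ K : Subalgebra F (Matrix (Fin 2 ⊕ Fin 2) (Fin 2 ⊕ Fin 2) F), Cfsg.Geo.IsFieldSubalgebra 2 K → Cfsg.Geo.IsAdjointClosedFor (Cfsg.sympForm 2 F) K → ¬ Cfsg.Geo.IsSelfAdjointFor (Cfsg.sympForm 2 F) K → Cfsg.Geo.IsMaximalIn (Cfsg.spGL 2 F) (Cfsg.Geo.subalgebraNormalizer K ⊓ Cfsg.spGL 2 F)) ∧
    (∀ (F₀ : Subfield F) (r : ℕ) (P : Matrix.GeneralLinearGroup (Fin 2 ⊕ Fin 2) F) (ζ : F), r.Prime → Fintype.card F = Nat.card F₀ ^ r → ζ ≠ 0 → Cfsg.Geo.IsFormRationalStructure (Cfsg.sympForm 2 F) F₀ ζ P → Cfsg.Geo.IsMaximalIn (Cfsg.spGL 2 F) (Cfsg.Geo.subfieldSubgroup F₀ P ⊓ Cfsg.spGL 2 F)) ∧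
    (∀ (p : ℕ) (R : Subgroup (Matrix.GeneralLinearGroup (Fin 2 ⊕ Fin 2) F)), p.Prime → Fintype.card F = p → Cfsg.Geo.IsSymplecticTypeGroup 2 R → Cfsg.Geo.ActsAbsolutelyIrreducibly (Cfsg.Geo.matrixSet R) → R ≤ Cfsg.spGL 2 F → Nat.card R = 32 → Nat.card (Subgroup.center R) = 2 → Cfsg.Geo.IsOfMinusType 2 R → Cfsg.Geo.IsMaximalIn (Cfsg.spGL 2 F) (Cfsg.Geo.subgroupNormalizer R ⊓ Cfsg.spGL 2 F)) := by
  classical
  have h2 : (2 : F) ≠ 0 := Agent.Classical.OrthForms.two_ne_zero_of_odd hodd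
  have ht : ∃ t : F, t ≠ 0 ∧ t ≠ 1 := ⟨-1, neg_ne_zero.2 one_ne_zero, fun h => h2 (by linear_combination -h)⟩
  refine ⟨fun W hW0 hW => ?_, fun D hD => ?_, fun h5 D hD hts => ?_, fun K hK hsa halt =>
    Agent.Forms.Max.SympExtNormalizer.maximal 2 (Or.inr ⟨by omega, ht⟩) 2 Nat.prime_two K hK hsa halt,
    fun h5 K hK hac hnsa => Agent.Forms.Max.SpFour.adjoint_maximal h5 hodd K hK hac hnsa,
    fun F₀ r P ζ hr hc hζ hP => Agent.Forms.Max.SubfieldSympGeo.maximal 2 le_rfl F₀ r hr hc P ζ hζ hP,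
    fun p R hp hc hRs hRi hRf hR32 hRZ hRm => Agent.Forms.Max.SpFour.type4_maximal (hc ▸ hp)
      (Agent.SympType4.mkData h2 hRs hRi hRf (hR32.trans (by norm_num)) hRZ hRm)⟩
  · refine Agent.Forms.Max.Symp.singular_maximal W hW0 (fun u hu v hv => ?_) fun h => ?_
    · rw [Agent.Forms.SympStd.sympB_apply]; exact hW u hu v hv
    · subst h
      have := hW (Pi.single (Sum.inr 0) 1) trivial (Pi.single (Sum.inl 0) 1) trivial
      rw [Agent.Forms.SympStd.sympForm_inr_inl, if_pos rfl] at this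
      exact one_ne_zero this
  · have hd := hD.decomp
    refine Agent.Forms.Max.Symp.blocks_maximal hd.two_le hd.pos D hd.finrank_eq hd.indep hd.iSup_eq_top
      (fun i w hw hw0 => ?_) (fun i j hij u hu v hv => ?_) (fun h => ?_)
    · obtain ⟨-, x, hx, h⟩ := hD.nondegenerate i w hw hw0
      exact ⟨x, hx, by rwa [Agent.Forms.SympStd.sympB_apply]⟩
    · rw [Agent.Forms.SympStd.sympB_apply]
      exact hD.orthogonal i j hij u hu v hv
    · obtain ⟨k, hk⟩ := hodd
      omega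
  · have hμ : ∃ μ : F, μ ≠ 0 ∧ μ * μ ≠ 1 := by
      by_contra hcon
      push Not at hcon
      have h1 := Finset.card_le_card (show (Finset.univ : Finset F) ⊆ {0, 1, -1} from fun x _ => by
        by_cases hx : x = 0
        · simp [hx]
        · rcases mul_self_eq_one_iff.1 (hcon x hx) with h | h <;> simp [h])
      rw [Finset.card_univ] at h1
      have := h1.trans Finset.card_le_three
      omega
    refine Agent.Forms.Max.SpFour.pair_maximal h2 hμ (hD.finrank_eq 0) (hD.finrank_eq 1)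
      (Agent.Forms.Max.PairMem.isCompl hD) (fun x hx y hy => ?_) (fun x hx y hy => ?_) _ inf_le_right
      (fun g hg h => ⟨(Agent.Forms.Max.PairMem.mem_iff D g).2 h, hg⟩)
      (fun g hg => (Agent.Forms.Max.PairMem.mem_iff D g).1 hg.1)
    · rw [Agent.Forms.SympStd.sympB_apply]; exact hts 0 x hx y hy
    · rw [Agent.Forms.SympStd.sympB_apply]; exact hts 1 x hx y hy

end Cfsg.Agent.S5786
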