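import Cfsg.Statements.S5787
import Cfsg.Agent.Aschbacher.Sp.Lists.Exclusions
import Cfsg.Agent.Aschbacher.Sp.Lists.PairThree
import Cfsg.Agent.Aschbacher.Sp.Lists.UnitaryThree

set_option autoImplicit false
open Cfsg

namespace Cfsg.Agent.S5787

/-- Every maximal subgroup of Sp_4(q), q odd, is of one of the listed geometric types or lies in the residual class. Let F be a finite field of odd order q, f the standard alternating form on F^4 (coordinates Fin 2 ⊕ Fin 2), and H a maximal subgroup of the isometry group Sp_4(F) (inside GL_4(F)). Then H is the intersection with Sp_4(F) of one of: the stabiliser of a non-zero totally isotropic subspace; the stabiliser of a decomposition into two orthogonal non-degenerate 2-spaces; for q ≥ 5, of a decomposition into two totally isotropic 2-spaces; the normaliser of a degree-2 subfield K of the matrix algebra, self-adjoint with f(k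 v, v) = 0; for q ≥ 5, the normaliser of a degree-2 subfield closed under adjoints but not self-adjoint; a subfield group whose F₀-structure carries a non-zero multiple of f, |F| = |F₀|^r with r prime; for q = p prime, the normaliser of an absolutely irreducible symplectic-type 2-group of exponent 4, order 32, centre of order 2 and minus type inside the similarity group of f — or else H lies in the residual class of the symplectic case. -/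
theorem result {F : Type*} [Field F] [Fintype F] (hodd : Odd (Fintype.card F)) (H : Subgroup (Matrix.GeneralLinearGroup (Fin 2 ⊕ Fin 2) F)) (hH : Cfsg.Geo.IsMaximalIn (Cfsg.spGL 2 F) H) :
    (∃ W : Submodule F (Fin 2 ⊕ Fin 2 → F), W ≠ ⊥ ∧ Cfsg.Geo.IsTotallySingularFor (Cfsg.sympForm 2 F) W ∧ H = Cfsg.Geo.subspaceStabilizer W ⊓ Cfsg.spGL 2 F) ∨
    (∃ D : Fin 2 → Submodule F (Fin 2 ⊕ Fin 2 → F), Cfsg.Geo.IsNondegenerateMDecomposition (Cfsg.sympForm 2 F) 2 D ∧ H = Cfsg.Geo.decompositionStabilizer D ⊓ Cfsg.spGL 2 F) ∨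
    (5 ≤ Fintype.card F ∧ ∃ D : Fin 2 → Submodule F (Fin 2 ⊕ Fin 2 → F), Cfsg.Geo.IsMDecomposition 2 D ∧ (∀ i, Cfsg.Geo.IsTotallySingularFor (Cfsg.sympForm 2 F) (D i)) ∧ H = Cfsg.Geo.decompositionStabilizer D ⊓ Cfsg.spGL 2 F) ∨
    (∃ K : Subalgebra F (Matrix (Fin 2 ⊕ Fin 2) (Fin 2 ⊕ Fin 2) F), Cfsg.Geo.IsFieldSubalgebra 2 K ∧ Cfsg.Geo.IsSelfAdjointFor (Cfsg.sympForm 2 F) K ∧ (∀ k ∈ K, ∀ v : (Fin 2 ⊕ Fin 2 → F), (Cfsg.sympForm 2 F) (Matrix.mulVec k v) v = 0) ∧ H = Cfsg.Geo.subalgebraNormalizer K ⊓ Cfsg.spGL 2 F) ∨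
    (5 ≤ Fintype.card F ∧ ∃ K : Subalgebra F (Matrix (Fin 2 ⊕ Fin 2) (Fin 2 ⊕ Fin 2) F), Cfsg.Geo.IsFieldSubalgebra 2 K ∧ Cfsg.Geo.IsAdjointClosedFor (Cfsg.sympForm 2 F) K ∧ ¬ Cfsg.Geo.IsSelfAdjointFor (Cfsg.sympForm 2 F) K ∧ H = Cfsg.Geo.subalgebraNormalizer K ⊓ Cfsg.spGL 2 F) ∨
    (∃ (F₀ : Subfield F) (r : ℕ) (P : Matrix.GeneralLinearGroup (Fin 2 ⊕ Fin 2) F) (ζ : F), r.Prime ∧ Fintype.card F = Nat.card F₀ ^ r ∧ ζ ≠ 0 ∧ Cfsg.Geo.IsFormRationalStructure (Cfsg.sympForm 2 F) F₀ ζ P ∧ H = Cfsg.Geo.subfieldSubgroup F₀ P ⊓ Cfsg.spGL 2 F) ∨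
    (∃ (p : ℕ) (R : Subgroup (Matrix.GeneralLinearGroup (Fin 2 ⊕ Fin 2) F)), p.Prime ∧ Fintype.card F = p ∧ Cfsg.Geo.IsSymplecticTypeGroup 2 R ∧ Cfsg.Geo.ActsAbsolutelyIrreducibly (Cfsg.Geo.matrixSet R) ∧ R ≤ Cfsg.Geo.similarityGroup (Cfsg.sympForm 2 F) ∧ Nat.card R = 32 ∧ Nat.card (Subgroup.center R) = 2 ∧ Cfsg.Geo.IsOfMinusType 2 R ∧ H = Cfsg.Geo.subgroupNormalizer R ⊓ Cfsg.spGL 2 F) ∨
    Cfsg.Geo.InSymplecticResidualClass H := by
  open Cfsg.Agent.Aschbacher in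
  have hR : ∀ (R : Subgroup (Matrix.GeneralLinearGroup (Fin 2 ⊕ Fin 2) F)) (p k : ℕ), Cfsg.Geo.IsSymplecticTypeGroup 2 R →
      Cfsg.Geo.ActsAbsolutelyIrreducibly (Cfsg.Geo.matrixSet R) →
      R ≤ Cfsg.Geo.similarityGroup (Cfsg.sympForm 2 F) → p.Prime → Fintype.card F = p →
      Nat.card R = 2 ^ (1 + 2 * k) → Nat.card (Subgroup.center R) = 2 → Cfsg.Geo.IsOfMinusType k R →
      2 * 2 = 2 ^ k → H = Cfsg.Geo.subgroupNormalizer R ⊓ Cfsg.spGL 2 F →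
      ∃ (p : ℕ) (R : Subgroup (Matrix.GeneralLinearGroup (Fin 2 ⊕ Fin 2) F)), p.Prime ∧ Fintype.card F = p ∧
        Cfsg.Geo.IsSymplecticTypeGroup 2 R ∧ Cfsg.Geo.ActsAbsolutelyIrreducibly (Cfsg.Geo.matrixSet R) ∧
        R ≤ Cfsg.Geo.similarityGroup (Cfsg.sympForm 2 F) ∧ Nat.card R = 32 ∧
        Nat.card (Subgroup.center R) = 2 ∧ Cfsg.Geo.IsOfMinusType 2 R ∧
        H = Cfsg.Geo.subgroupNormalizer R ⊓ Cfsg.spGL 2 F := by
    intro R p k r1 r2 r3 r4 r6 r7 r8 r9 hk he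
    obtain rfl : k = 2 := (Nat.pow_right_injective le_rfl hk).symm
    exact ⟨p, R, r4, r6, r1, r2, r3, r7.trans (by norm_num), r8, r9, he⟩
  open Cfsg.Agent.Aschbacher in
  rcases spListed_or_residual (m := 2) le_rfl hH with h | h
  swap
  · exact Or.inr (Or.inr (Or.inr (Or.inr (Or.inr (Or.inr (Or.inr h))))))
  rcases h with ⟨W, h1, h2, he⟩ | ⟨W, h1, -, h3, ⟨j, hj⟩, -⟩ | ⟨t, k, D, h1, ht, hk, hc, -, -, he⟩ |
    ⟨D, -, h2, h3, he⟩ | ⟨F₀, r, P, ζ, h1, h2, h3, h4, he⟩ | ⟨R, p, k, r1, r2, r3, r4, -, r6, r7, r8, r9, hk, he⟩ |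
    ⟨Q, h1, -⟩ | ⟨r, K, h1, h2, h3, h4, h5, he⟩ | ⟨K, -, h2, h3, h4, he⟩ |
    ⟨n₁, n₂, e, P, f₁, f₂, -, h2, -, hc, ⟨j, hj⟩, -⟩ | ⟨k, t, e, P, f₁, -, h2, h3, hc, -⟩
  · exact Or.inl ⟨W, h1, h2, he⟩
  · exfalso
    refine h1 (Submodule.finrank_eq_zero.1 ?_)
    omega
  · obtain rfl : k = 2 := by nlinarith
    obtain rfl : t = 2 := by omega
    exact Or.inr (Or.inl ⟨D, h1, he⟩)
  · rcases five_le_or_three hodd with hq5 | hq3
    · exact Or.inr (Or.inr (Or.inl ⟨hq5, D, h2, h3, he⟩))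
    · obtain ⟨E, hE, hle⟩ := exists_decomposition_of_pair_three hq3 h2 h3
      refine Or.inr (Or.inl ⟨E, hE, eq_inf_of_le_spMember le_rfl hH ?_ (he ▸ hle)⟩)
      exact Or.inr (Or.inr (Or.inl ⟨2, 2, E, hE, rfl⟩))
  · exact Or.inr (Or.inr (Or.inr (Or.inr (Or.inr (Or.inl ⟨F₀, r, P, ζ, h1, h2, h3, h4, he⟩)))))
  · exact Or.inr (Or.inr (Or.inr (Or.inr (Or.inr (Or.inr (Or.inl
      (hR R p k r1 r2 r3 r4 r6 r7 r8 r9 hk he)))))))
  · exact absurd hodd h1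
  · obtain rfl : r = 2 := (Nat.prime_dvd_prime_iff_eq h1 Nat.prime_two).1 h2
    exact Or.inr (Or.inr (Or.inr (Or.inl ⟨K, h3, h4, h5, he⟩)))
  · rcases five_le_or_three hodd with hq5 | hq3
    · exact Or.inr (Or.inr (Or.inr (Or.inr (Or.inl ⟨hq5, K, h2, h3, h4, he⟩))))
    · obtain ⟨R, p, k, hM, r1, r2, r3, r4, -, r6, r7, r8, r9, hk, hle⟩ :=
        exists_symplecticType_of_unitary hq3 h2 h3 h4
      exact Or.inr (Or.inr (Or.inr (Or.inr (Or.inr (Or.inr (Or.inl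
        (hR R p k r1 r2 r3 r4 r6 r7 r8 r9 hk (eq_inf_of_le_spMember le_rfl hH hM (he ▸ hle)))))))))
  · exfalso
    subst hj
    rcases Nat.eq_zero_or_pos j with rfl | hj0
    · simp at hc
    · nlinarith [Nat.mul_le_mul hj0 h2]
  · exfalso
    have h8 : 2 ^ 3 ≤ k ^ t := le_trans (Nat.pow_le_pow_left h3 3) (Nat.pow_le_pow_right (by omega) h2)
    omega

end Cfsg.Agent.S5787
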