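import Cfsg.Statements.S5789
import Cfsg.Agent.Lib.Forms.Max.SympBlocks
import Cfsg.Agent.Lib.Forms.Max.QuadInSymp
import Cfsg.Agent.Lib.Forms.Max.SympExtNormalizer
import Cfsg.Agent.Lib.Forms.Max.SubfieldSympGeo

set_option autoImplicit false
open Cfsg

namespace Cfsg.Agent.S5789

/-- Maximal subgroups of Sp_4(q) of geometric type, q ≥ 4 even. Let F be a finite field of even order q ≥ 4, f the standard alternating form on F^4 (coordinates Fin 2 ⊕ Fin 2) and Sp_4(F) its isometry group inside GL_4(F). Each of the following, intersected with Sp_4(F), is a maximal subgroup of Sp_4(F): (1) the stabiliser of any non-zero totally isotropic subspace (totally isotropic 1-spaces and 2-spaces); (2) the stabiliser of any decomposition of F^4 into two mutually orthogonal non-degenerate 2-spaces; (3) the normaliser of any degree-2 subfield K of the matrix algebra whose elements are self-adjoint for f with f(k v, v) = 0 for all k in K and all v; (4) every subfield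 group for a subfield F₀ with |F| = |F₀|^r, r prime, whose F₀-structure carries a non-zero scalar multiple of f; (5) the similarity group of any non-degenerate quadratic form whose polar form is f (either Witt type); its intersection with Sp_4(F) is the orthogonal group of that form. -/
theorem result {F : Type*} [Field F] [Fintype F] (heven : ¬ Odd (Fintype.card F)) (h4 : 4 ≤ Fintype.card F) :
    (∀ W : Submodule F (Fin 2 ⊕ Fin 2 → F), W ≠ ⊥ → Cfsg.Geo.IsTotallySingularFor (Cfsg.sympForm 2 F) W → Cfsg.Geo.IsMaximalIn (Cfsg.spGL 2 F) (Cfsg.Geo.subspaceStabilizer W ⊓ Cfsg.spGL 2 F)) ∧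
    (∀ D : Fin 2 → Submodule F (Fin 2 ⊕ Fin 2 → F), Cfsg.Geo.IsNondegenerateMDecomposition (Cfsg.sympForm 2 F) 2 D → Cfsg.Geo.IsMaximalIn (Cfsg.spGL 2 F) (Cfsg.Geo.decompositionStabilizer D ⊓ Cfsg.spGL 2 F)) ∧
    (∀ K : Subalgebra F (Matrix (Fin 2 ⊕ Fin 2) (Fin 2 ⊕ Fin 2) F), Cfsg.Geo.IsFieldSubalgebra 2 K → Cfsg.Geo.IsSelfAdjointFor (Cfsg.sympForm 2 F) K → (∀ k ∈ K, ∀ v : (Fin 2 ⊕ Fin 2 → F), (Cfsg.sympForm 2 F) (Matrix.mulVec k v) v = 0) → Cfsg.Geo.IsMaximalIn (Cfsg.spGL 2 F) (Cfsg.Geo.subalgebraNormalizer K ⊓ Cfsg.spGL 2 F)) ∧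
    (∀ (F₀ : Subfield F) (r : ℕ) (P : Matrix.GeneralLinearGroup (Fin 2 ⊕ Fin 2) F) (ζ : F), r.Prime → Fintype.card F = Nat.card F₀ ^ r → ζ ≠ 0 → Cfsg.Geo.IsFormRationalStructure (Cfsg.sympForm 2 F) F₀ ζ P → Cfsg.Geo.IsMaximalIn (Cfsg.spGL 2 F) (Cfsg.Geo.subfieldSubgroup F₀ P ⊓ Cfsg.spGL 2 F)) ∧
    (∀ Q : (Fin 2 ⊕ Fin 2 → F) → F, Cfsg.Geo.IsNondegenerateQuadraticForm Q → (∀ u v : (Fin 2 ⊕ Fin 2 → F), QuadraticMap.polar Q u v = (Cfsg.sympForm 2 F) u v) → Cfsg.Geo.IsMaximalIn (Cfsg.spGL 2 F) (Cfsg.Geo.quadSimilarityGroup Q ⊓ Cfsg.spGL 2 F)) := by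
  classical
  have ht : ∃ t : F, t ≠ 0 ∧ t ≠ 1 := by
    by_contra h
    push Not at h
    have h1 := Finset.card_le_card (show (Finset.univ : Finset F) ⊆ {0, 1} from fun x _ => by
      by_cases hx : x = 0 <;> simp [hx, h x])
    rw [Finset.card_univ] at h1
    have := h1.trans Finset.card_le_two
    omega
  refine ⟨fun W hW0 hW => ?_, fun D hD => ?_, fun K hK hsa halt =>
    Agent.Forms.Max.SympExtNormalizer.maximal 2 (Or.inr ⟨by omega, ht⟩) 2 Nat.prime_two K hK hsa halt,
    fun F₀ r P ζ hr hc hζ hP => Agent.Forms.Max.SubfieldSympGeo.maximal 2 le_rfl F₀ r hr hc P ζ hζ hP,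
    fun Q hQ hpol => ?_⟩
  · refine Agent.Forms.Max.Symp.singular_maximal W hW0 (fun u hu v hv => ?_) fun h => ?_
    · rw [Agent.Forms.SympStd.sympB_apply]; exact hW u hu v hv
    · subst h
      have := hW (Pi.single (Sum.inr 0) 1) trivial (Pi.single (Sum.inl 0) 1) trivial
      rw [Agent.Forms.SympStd.sympForm_inr_inl, if_pos rfl] at this
      exact one_ne_zero this
  · have hd := hD.decomp
    refine Agent.Forms.Max.Symp.blocks_maximal hd.two_le hd.pos D hd.finrank_eq hd.indep hd.iSup_eq_top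
      (fun i w hw hw0 => ?_) (fun i j hij u hu v hv => ?_) (fun h => by omega)
    · obtain ⟨-, x, hx, h⟩ := hD.nondegenerate i w hw hw0
      exact ⟨x, hx, by rwa [Agent.Forms.SympStd.sympB_apply]⟩
    · rw [Agent.Forms.SympStd.sympB_apply]
      exact hD.orthogonal i j hij u hu v hv
  · haveI : CharP F 2 := by
      have h2 : ringChar F = 2 := FiniteField.even_card_iff_char_two.2 (Nat.even_iff.1 (Nat.not_odd_iff_even.1 heven))
      exact ringChar.of_eq h2
    let Q' : QuadraticForm F (Fin 2 ⊕ Fin 2 → F) :=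
      QuadraticMap.ofPolar Q (fun a v => by rw [hQ.smul, smul_eq_mul]; ring)
        hQ.polar_bilinear.add_left (fun c x y => hQ.polar_bilinear.smul_left c x y)
    refine Agent.Forms.Max.Symp.quad_sim_maximal le_rfl Q'
      (fun u v => by rw [Agent.Forms.SympStd.sympB_apply]; exact hpol u v) _ inf_le_right fun g => ?_
    exact ⟨fun h => ⟨h.2, h.1⟩, fun h => ⟨h.2, h.1⟩⟩

end Cfsg.Agent.S5789
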