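import Cfsg.Statements.S5796
import Cfsg.Agent.Aschbacher.Un.Lists.FieldFive
-- import your own Cfsg.Agent.* helpers here

set_option autoImplicit false
open Cfsg

namespace Cfsg.Agent.S5796

/-- Every maximal subgroup of SU_5(q) is of one of the listed geometric types or lies in the residual class. Let F be the field with q² elements (characteristic p), f the standard unitary form Σ u_i v_i^q on F^5, and H a maximal subgroup of SU_5(q) (inside GL_5(F)). Then H is the intersection with SU_5(q) of one of: the stabiliser of a non-zero totally isotropic subspace; the stabiliser of a non-degenerate 1-space or 2-space; the stabiliser of a decomposition into five mutually orthogonal non-degenerate 1-spaces; for q ≥ 3, the normaliser of an adjoint-closed degree-5 subfield of the matrix algebra; a subfield group of odd prime index whose F₀-structure carries f; for q odd, a subfield group of index 2 whose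 F₀-structure carries f; for q = p ≡ 4 mod 5 or q = p² with p ≡ 2, 3 mod 5, the normaliser of an absolutely irreducible 5-group of exponent 5, order 125 and centre of order 5 with all characteristic abelian subgroups cyclic inside the similarity group of f — or else H lies in the residual class of the unitary case. -/
theorem result {F : Type*} [Field F] [Fintype F] (q : ℕ) (hF : Fintype.card F = q ^ 2) (H : Subgroup (Matrix.GeneralLinearGroup (Fin 5) F)) (hH : Cfsg.Geo.IsMaximalIn (Cfsg.GU 5 F q ⊓ Cfsg.Geo.specialLinear (Fin 5) F) H) :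
    (∃ W : Submodule F (Fin 5 → F), W ≠ ⊥ ∧ Cfsg.Geo.IsTotallySingularFor (Cfsg.hermForm 5 F q) W ∧ H = Cfsg.Geo.subspaceStabilizer W ⊓ (Cfsg.GU 5 F q ⊓ Cfsg.Geo.specialLinear (Fin 5) F)) ∨
    (∃ W : Submodule F (Fin 5 → F), W ≠ ⊥ ∧ Cfsg.Geo.IsNondegenerateOn (Cfsg.hermForm 5 F q) W ∧ 2 * Module.finrank F W < 5 ∧ H = Cfsg.Geo.subspaceStabilizer W ⊓ (Cfsg.GU 5 F q ⊓ Cfsg.Geo.specialLinear (Fin 5) F)) ∨
    (∃ D : Fin 5 → Submodule F (Fin 5 → F), Cfsg.Geo.IsNondegenerateMDecomposition (Cfsg.hermForm 5 F q) 1 D ∧ H = Cfsg.Geo.decompositionStabilizer D ⊓ (Cfsg.GU 5 F q ⊓ Cfsg.Geo.specialLinear (Fin 5) F)) ∨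
    (3 ≤ q ∧ ∃ K : Subalgebra F (Matrix (Fin 5) (Fin 5) F), Cfsg.Geo.IsFieldSubalgebra 5 K ∧ Cfsg.Geo.IsAdjointClosedFor (Cfsg.hermForm 5 F q) K ∧ H = Cfsg.Geo.subalgebraNormalizer K ⊓ (Cfsg.GU 5 F q ⊓ Cfsg.Geo.specialLinear (Fin 5) F)) ∨
    (∃ (F₀ : Subfield F) (r : ℕ) (P : Matrix.GeneralLinearGroup (Fin 5) F), r.Prime ∧ Odd r ∧ Fintype.card F = Nat.card F₀ ^ r ∧ Cfsg.Geo.IsFormRationalStructure (Cfsg.hermForm 5 F q) F₀ 1 P ∧ H = Cfsg.Geo.subfieldSubgroup F₀ P ⊓ (Cfsg.GU 5 F q ⊓ Cfsg.Geo.specialLinear (Fin 5) F)) ∨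
    (Odd q ∧ ∃ (F₀ : Subfield F) (P : Matrix.GeneralLinearGroup (Fin 5) F), Fintype.card F = Nat.card F₀ ^ 2 ∧ Cfsg.Geo.IsFormRationalStructure (Cfsg.hermForm 5 F q) F₀ 1 P ∧ H = Cfsg.Geo.subfieldSubgroup F₀ P ⊓ (Cfsg.GU 5 F q ⊓ Cfsg.Geo.specialLinear (Fin 5) F)) ∨
    (∃ (p : ℕ) (R : Subgroup (Matrix.GeneralLinearGroup (Fin 5) F)), p.Prime ∧ CharP F p ∧ ((q = p ∧ p % 5 = 4) ∨ (q = p ^ 2 ∧ (p % 5 = 2 ∨ p % 5 = 3))) ∧ Cfsg.Geo.IsSymplecticTypeGroup 5 R ∧ Cfsg.Geo.ActsAbsolutelyIrreducibly (Cfsg.Geo.matrixSet R) ∧ R ≤ Cfsg.Geo.similarityGroup (Cfsg.hermForm 5 F q) ∧ Nat.card R = 125 ∧ Nat.card (Subgroup.center R) = 5 ∧ H = Cfsg.Geo.subgroupNormalizer R ⊓ (Cfsg.GU 5 F q ⊓ Cfsg.Geo.specialLinear (Fin 5) F)) ∨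
    Cfsg.Geo.InUnitaryResidualClass H := by
  rcases Cfsg.Agent.Aschbacher.maximal_unGood hF (by norm_num) (by norm_num) (fun h => absurd h.1 (by norm_num)) hH with
    hres | ⟨M, -, hM, rfl⟩
  · exact (Or.inr (Or.inr (Or.inr (Or.inr (Or.inr (Or.inr (Or.inr hres)))))))
  rcases hM with ⟨W, h1, h2, rfl⟩ | ⟨W, h1, h2, h3, rfl⟩ | ⟨t, k, D, hD, htk, ht, hk2, rfl⟩ |
    ⟨k, D, hk, h2, h3, rfl⟩ | ⟨F₀, r, P, h1, h2, h3, h4, rfl⟩ | ⟨F₀, P, h1, h2, h3, rfl⟩ |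
    ⟨F₀, P, ζ, he, h2, h3, h4, h5, h6, rfl⟩ | ⟨r, R, p, e, k, h1, h2, h3, h4, h5, h6, hn, rfl⟩ |
    ⟨r, K, hr, hodd, hdvd, h3, h4, rfl⟩ | ⟨n₁, n₂, e, P, f₁, f₂, h1, h2, hnn, hq2, h3, h4, h5, rfl⟩ |
    ⟨k, t, e, P, f₁, hk, ht, hn9, hq3, h4, h5, rfl⟩
  · exact (Or.inl ⟨W, h1, h2, rfl⟩)
  · exact (Or.inr (Or.inl ⟨W, h1, h2, h3, rfl⟩))
  · have := hD.decomp.pos
    have hkn : k ≤ 2 := by nlinarith
    have htn : t ≤ 5 := by nlinarith
    obtain ⟨rfl, rfl⟩ : k = 1 ∧ t = 5 := by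
      interval_cases k <;> omega
    exact (Or.inr (Or.inr (Or.inl ⟨D, hD, rfl⟩)))
  · omega
  · exact (Or.inr (Or.inr (Or.inr (Or.inr (Or.inl ⟨F₀, r, P, h1, h2, h3, h4, rfl⟩)))))
  · exact (Or.inr (Or.inr (Or.inr (Or.inr (Or.inr (Or.inl ⟨h1, F₀, P, h2, h3, rfl⟩))))))
  · exact absurd he (by decide)
  · obtain rfl : 5 = r := Cfsg.Agent.Aschbacher.eq_of_prime_dvd_pow h1.prime hn (by norm_num) (by norm_num)
    obtain rfl : k = 1 := Nat.pow_right_injective (le_refl 2 |>.trans (by norm_num)) (hn.symm.trans (by norm_num : 5 = 5 ^ 1))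
    obtain ⟨-, hz, -, hc⟩ := h6.resolve_right (fun h => absurd h.1 (by decide))
    rw [hz] at h5
    obtain ⟨hp, hchar, hmod⟩ := Cfsg.Agent.Aschbacher.unSymplectic_five hF h4 h5
    exact (Or.inr (Or.inr (Or.inr (Or.inr (Or.inr (Or.inr (Or.inl ⟨p, R, hp, hchar, hmod, h1, h2, h3, hc.trans (by norm_num), hz, rfl⟩)))))))
  · have hrn : r ≤ 5 := Nat.le_of_dvd (by norm_num) hdvd
    obtain rfl : r = 5 := by
      have := hr.two_le
      interval_cases r <;> simp_all (config := {decide := true})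
    by_cases hq : q = 2
    · subst hq
      exact absurd hH (Cfsg.Agent.Aschbacher.not_maximal_field_five hF h3 h4)
    · have hq2 : 2 ≤ q := Cfsg.Agent.Classical.UnitaryCount.one_lt_q hF
      exact (Or.inr (Or.inr (Or.inr (Or.inl ⟨by omega, K, h3, h4, rfl⟩))))
  · exfalso
    have hn1 : n₁ ≤ 2 := by nlinarith
    interval_cases n₁ <;> omega
  · exact absurd hn9 (by norm_num)

end Cfsg.Agent.S5796
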