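import Cfsg.Statements.S5813
import Cfsg.Agent.Lib.Classical.OrthForms
import Cfsg.Agent.Lib.Forms.Max.OrthSingular
import Cfsg.Agent.Lib.Forms.Max.OrthNondegApply
import Cfsg.Agent.Lib.Forms.Max.UnitFrame.Maximal
import Cfsg.Agent.Lib.Forms.Max.SubfieldOrth
import Cfsg.Agent.Lib.Forms.Max.SubfieldMem

set_option autoImplicit false
open Cfsg

namespace Cfsg.Agent.S5813

/-- Maximal subgroups of Ω_7(q) of geometric type, q odd. Let F be a finite field of odd order q, Q the standard quadratic form x₀² + Σ x_i y_i on F^7 (coordinates Unit ⊕ (Fin 3 ⊕ Fin 3)), and Ω = Ω_7(q) the commutator subgroup of its isometry group, inside GL_7(F). Each of the following, intersected with Ω, is a maximal subgroup of Ω: (1) the stabiliser of any non-zero subspace on which Q vanishes identically (totally singular 1-, 2- and 3-spaces); (2) the stabiliser of any non-zero even-dimensional subspace W on which the polar form of Q is non-degenerate (equivalently of its odd-dimensional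 orthogonal complement), except when q = 3 and W is a 2-space containing a non-zero singular vector (a plus-type plane); (3) for q = p prime, the stabiliser of any decomposition of F^7 into seven pairwise orthogonal, pairwise Q-isometric non-degenerate 1-spaces; (4) every subfield group for a subfield F₀ with |F| = |F₀|^r, r prime, whose F₀-structure carries Q. -/
theorem result {F : Type*} [Field F] [Fintype F] (hodd : Odd (Fintype.card F)) :
    (∀ W : Submodule F (Unit ⊕ (Fin 3 ⊕ Fin 3) → F), W ≠ ⊥ → Cfsg.Geo.IsTotallySingularQuad (Cfsg.quadFormOdd 3 F) W → Cfsg.Geo.IsMaximalIn (Cfsg.Geo.omegaGL (Cfsg.quadFormOdd 3 F)) (Cfsg.Geo.subspaceStabilizer W ⊓ Cfsg.Geo.omegaGL (Cfsg.quadFormOdd 3 F))) ∧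
    (∀ W : Submodule F (Unit ⊕ (Fin 3 ⊕ Fin 3) → F), W ≠ ⊥ → Even (Module.finrank F W) → Cfsg.Geo.IsNondegenerateOn (QuadraticMap.polar (Cfsg.quadFormOdd 3 F)) W → ¬ (Fintype.card F = 3 ∧ Module.finrank F W = 2 ∧ Cfsg.Geo.IsPlusTypeOn (Cfsg.quadFormOdd 3 F) W) → Cfsg.Geo.IsMaximalIn (Cfsg.Geo.omegaGL (Cfsg.quadFormOdd 3 F)) (Cfsg.Geo.subspaceStabilizer W ⊓ Cfsg.Geo.omegaGL (Cfsg.quadFormOdd 3 F))) ∧
    ((Fintype.card F).Prime → ∀ D : Fin 7 → Submodule F (Unit ⊕ (Fin 3 ⊕ Fin 3) → F), Cfsg.Geo.IsOrthogonalMDecomposition (Cfsg.quadFormOdd 3 F) 1 D → Cfsg.Geo.IsMaximalIn (Cfsg.Geo.omegaGL (Cfsg.quadFormOdd 3 F)) (Cfsg.Geo.decompositionStabilizer D ⊓ Cfsg.Geo.omegaGL (Cfsg.quadFormOdd 3 F))) ∧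
    (∀ (F₀ : Subfield F) (r : ℕ) (P : Matrix.GeneralLinearGroup (Unit ⊕ (Fin 3 ⊕ Fin 3)) F), r.Prime → Fintype.card F = Nat.card F₀ ^ r → Cfsg.Geo.IsQuadFormRationalStructure (Cfsg.quadFormOdd 3 F) F₀ P → Cfsg.Geo.IsMaximalIn (Cfsg.Geo.omegaGL (Cfsg.quadFormOdd 3 F)) (Cfsg.Geo.subfieldSubgroup F₀ P ⊓ Cfsg.Geo.omegaGL (Cfsg.quadFormOdd 3 F))) := by
  have h2 := Classical.OrthForms.two_ne_zero_of_odd (F := F) hodd
  have hQ := Classical.OrthForms.oddQ_nondeg h2 3
  refine ⟨fun W hW0 hW => ?_, fun W hW0 hev hW hex => ?_, fun hp D hD => ?_, fun F₀ r P hr hcard hP => ?_⟩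
  · rw [← Classical.OrthForms.oddQ_eq] at hW ⊢
    refine Forms.Max.Orth.singular_maximal hQ (by simp) hW (fun T _ _ => ?_) hW0
    simp
    omega
  · rw [← Classical.OrthForms.oddQ_eq] at hW hex ⊢
    obtain ⟨k, hk⟩ := hev
    have hW1 : W ≠ ⊤ := by
      rintro rfl
      rw [finrank_top, Module.finrank_fintype_fun_eq_card, Fintype.card_sum, Fintype.card_sum,
        Fintype.card_unit, Fintype.card_fin] at hk
      omega
    have hd := Forms.Max.Orth.finrank_perp hQ W
    simp only [Fintype.card_sum, Fintype.card_unit, Fintype.card_fin] at hd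
    refine Forms.Max.Orth.nondeg_maximal_of_card hQ (by simp) (fun h => absurd hodd (by rw [h]; decide)) hW0 hW1 hW
      (fun h => by simp only [Fintype.card_sum, Fintype.card_unit, Fintype.card_fin] at h; omega)
      fun P h2' _ hP hPW hq => ?_
    have h1 := Fintype.one_lt_card (α := F)
    obtain ⟨a, ha⟩ := hodd
    rcases hPW with rfl | rfl
    · exact hex ⟨by omega, h2', hP⟩
    · omega
  · rw [← Classical.OrthForms.oddQ_eq] at hD ⊢
    exact Forms.Max.UnitFrame.maximal hQ h2 hp hD (by simp)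
  · rw [← Classical.OrthForms.oddQ_eq] at hP ⊢
    exact Agent.Forms.Max.SubfieldOrth.subfield_maximal ⟨F₀, P, 1, r, hQ, by simp,
        hr, hcard, one_ne_zero, fun x hx => by simpa using hP x hx⟩ _
      inf_le_right
      (fun g hg h => ⟨(Agent.Forms.Max.SubfieldMem.mem_subfieldSubgroup F₀ P g).2 h, hg⟩)
      (fun g hg => (Agent.Forms.Max.SubfieldMem.mem_subfieldSubgroup F₀ P g).1 hg.1)

end Cfsg.Agent.S5813
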