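import Cfsg.Statements.S5816
import Cfsg.Agent.Lib.Forms.Max.LinearGeometric
import Cfsg.Agent.Lib.Forms.Max.LinearDecomp
import Cfsg.Agent.Lib.Forms.Max.Linear
import Cfsg.Agent.Lib.Forms.Max.Tensor.Maximal
import Cfsg.Agent.S5886
import Cfsg.Agent.Lib.Forms.Max.TwoGroup.Eight
import Cfsg.Agent.Lib.Forms.Max.TwoGroup.Dichotomy
-- import your own Cfsg.Agent.* helpers here

set_option autoImplicit false
open Cfsg

namespace Cfsg.Agent.S5816

/-- Maximal subgroups of SL_8(q) of geometric type, for a finite field F with q elements (any q); p denotes the characteristic. Each of the following subgroups of GL_8(F), intersected with SL_8(F), is a maximal subgroup of SL_8(F): (1) the stabiliser of any proper non-zero subspace of F^8; (2) for q ≥ 5, the stabiliser of any decomposition of F^8 into 8 independent 1-spaces; (3) for q ≥ 3, the stabiliser of any decomposition of F^8 into 4 independent 2-spaces; (4) the stabiliser of any decomposition of F^8 into 2 independent 4-spaces;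 (5) the normaliser of any degree-2 subfield of the 8 × 8 matrix algebra over F (a commutative subalgebra of dimension 2 in which every non-zero element is invertible); (6) for q ≥ 3, the stabiliser of any tensor decomposition F^8 = F^2 ⊗ F^4 (a conjugate of the Kronecker-product subgroup); (7) every subfield group (a conjugate of GL_8(F₀) times the scalars of F) for a subfield F₀ with |F| = |F₀|^r, r prime; (8) for q = p prime with p ≡ 1 mod 4, the normaliser of any absolutely irreducible 2-subgroup R of exponent 4 and order 2^(2+2m) with centre of order 4, all of whose characteristic abelian subgroups are cyclic, 4 dividing p − 1 (here |R| = 2^8); (9) for q odd, the group of similarities of any non-degenerate quadratic form on F^8 (either sign); (10) the group of similarities of any non-degenerate symplectic form on F^8; (11) the group of similarities of any non-degenerate unitary form on F^8 (these exist exactly when q is a square). -/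
theorem result {F : Type*} [Field F] [Fintype F] :
    (∀ W : Submodule F (Fin 8 → F), W ≠ ⊥ → W ≠ ⊤ → Cfsg.Geo.IsMaximalIn (Cfsg.Geo.specialLinear (Fin 8) F) (Cfsg.Geo.subspaceStabilizer W ⊓ Cfsg.Geo.specialLinear (Fin 8) F)) ∧
    (5 ≤ Fintype.card F → ∀ D : Fin 8 → Submodule F (Fin 8 → F), Cfsg.Geo.IsMDecomposition 1 D → Cfsg.Geo.IsMaximalIn (Cfsg.Geo.specialLinear (Fin 8) F) (Cfsg.Geo.decompositionStabilizer D ⊓ Cfsg.Geo.specialLinear (Fin 8) F)) ∧
    (3 ≤ Fintype.card F → ∀ D : Fin 4 → Submodule F (Fin 8 → F), Cfsg.Geo.IsMDecomposition 2 D → Cfsg.Geo.IsMaximalIn (Cfsg.Geo.specialLinear (Fin 8) F) (Cfsg.Geo.decompositionStabilizer D ⊓ Cfsg.Geo.specialLinear (Fin 8) F)) ∧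
    (∀ D : Fin 2 → Submodule F (Fin 8 → F), Cfsg.Geo.IsMDecomposition 4 D → Cfsg.Geo.IsMaximalIn (Cfsg.Geo.specialLinear (Fin 8) F) (Cfsg.Geo.decompositionStabilizer D ⊓ Cfsg.Geo.specialLinear (Fin 8) F)) ∧
    (∀ K : Subalgebra F (Matrix (Fin 8) (Fin 8) F), Cfsg.Geo.IsFieldSubalgebra 2 K → Cfsg.Geo.IsMaximalIn (Cfsg.Geo.specialLinear (Fin 8) F) (Cfsg.Geo.subalgebraNormalizer K ⊓ Cfsg.Geo.specialLinear (Fin 8) F)) ∧
    (3 ≤ Fintype.card F → ∀ (e : Fin 8 ≃ Fin 2 × Fin 4) (P : Matrix.GeneralLinearGroup (Fin 8) F), Cfsg.Geo.IsMaximalIn (Cfsg.Geo.specialLinear (Fin 8) F) (Cfsg.Geo.tensorProductSubgroup 2 4 e P ⊓ Cfsg.Geo.specialLinear (Fin 8) F)) ∧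
    (∀ (F₀ : Subfield F) (r : ℕ) (P : Matrix.GeneralLinearGroup (Fin 8) F), r.Prime → Fintype.card F = Nat.card F₀ ^ r → Cfsg.Geo.IsMaximalIn (Cfsg.Geo.specialLinear (Fin 8) F) (Cfsg.Geo.subfieldSubgroup F₀ P ⊓ Cfsg.Geo.specialLinear (Fin 8) F)) ∧
    ((∃ p : ℕ, p.Prime ∧ Fintype.card F = p ∧ (p % 4 = 1)) → ∀ R : Subgroup (Matrix.GeneralLinearGroup (Fin 8) F), Cfsg.Geo.IsLinearSymplecticTypeData 2 R → Cfsg.Geo.IsMaximalIn (Cfsg.Geo.specialLinear (Fin 8) F) (Cfsg.Geo.subgroupNormalizer R ⊓ Cfsg.Geo.specialLinear (Fin 8) F)) ∧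
    (Odd (Fintype.card F) → ∀ Q : (Fin 8 → F) → F, Cfsg.Geo.IsNondegenerateQuadraticForm Q → Cfsg.Geo.IsMaximalIn (Cfsg.Geo.specialLinear (Fin 8) F) (Cfsg.Geo.quadSimilarityGroup Q ⊓ Cfsg.Geo.specialLinear (Fin 8) F)) ∧
    (∀ f : (Fin 8 → F) → (Fin 8 → F) → F, Cfsg.Geo.IsSymplecticForm f → Cfsg.Geo.IsMaximalIn (Cfsg.Geo.specialLinear (Fin 8) F) (Cfsg.Geo.similarityGroup f ⊓ Cfsg.Geo.specialLinear (Fin 8) F)) ∧
    (∀ (σ : F ≃+* F) (f : (Fin 8 → F) → (Fin 8 → F) → F), Cfsg.Geo.IsUnitaryForm σ f → Cfsg.Geo.IsMaximalIn (Cfsg.Geo.specialLinear (Fin 8) F) (Cfsg.Geo.similarityGroup f ⊓ Cfsg.Geo.specialLinear (Fin 8) F)) := by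
  refine ⟨fun W h0 h1 => Cfsg.Agent.Forms.Max.sl_maximal W h0 h1, ?_, ?_, ?_, ?_, ?_, ?_, ?_, ?_, ?_, ?_⟩
  · exact fun hq D hD => Cfsg.Agent.Forms.Max.LinearDecomp.decomposition_maximal hD (by norm_num) (fun h => absurd h.2 (by omega)) (fun h => absurd h.1 (by norm_num))
  · exact fun hq D hD => Cfsg.Agent.Forms.Max.LinearDecomp.decomposition_maximal hD (by norm_num) (fun h => absurd h.1 (by norm_num)) (fun h => absurd h.2 (by omega))
  · exact fun D hD => Cfsg.Agent.Forms.Max.LinearDecomp.decomposition_maximal hD (by norm_num) (fun h => absurd h.1 (by norm_num)) (fun h => absurd h.1 (by norm_num))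
  · exact fun K hK => (Cfsg.Agent.S5886.result 8 2 (by norm_num) (by norm_num) (by norm_num) K hK).2
  · exact fun hq e P => Cfsg.Agent.Forms.Max.TensorMax.tensor_maximal (by norm_num) (by norm_num) (fun h => absurd h.2 (by omega)) e P
  · exact fun F₀ r P hr hc => Cfsg.Agent.Forms.Max.LinearGeometric.subfield_group_maximal 8 (by norm_num) F₀ r hr hc P
  · rintro ⟨p, hp, hFp, hp4⟩ R hR
    obtain ⟨p', e, -, -, h | ⟨-, -, hZ, -, m, hm⟩ | ⟨-, -, h, -⟩⟩ := hR.field
    · exact absurd h.1 (by decide)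
    · have h2 : (2 : F) ≠ 0 := fun h => by
        have : Fact p.Prime := ⟨hp⟩
        have : CharP F p := charP_of_card_eq_prime hFp
        have := Nat.le_of_dvd two_pos ((CharP.cast_eq_zero_iff F p 2).1 (by exact_mod_cast h))
        have := hp.two_le
        omega
      obtain ⟨S, -, -, hn, -⟩ := Cfsg.Agent.Forms.Max.TwoGroup.exists_sys_four h2 hR.symplecticType
        hR.absIrred hm hZ
      rw [Fintype.card_fin] at hn
      obtain rfl : m = 3 := Nat.pow_right_injective le_rfl (hn.symm.trans (show (8 : ℕ) = 2 ^ 3 by norm_num))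
      exact Cfsg.Agent.Forms.Max.TwoGroup.maximal_linear hp hFp hp4 le_rfl hR.symplecticType hR.absIrred hm hZ
        fun S hk hu => S.dich hk hu (by simp)
    · simp at h
  · exact fun ho Q hQ => Cfsg.Agent.Forms.Max.LinearGeometric.quad_group_maximal 8 (by norm_num) ho Q hQ
  · exact fun f hf => Cfsg.Agent.Forms.Max.LinearGeometric.symp_group_maximal 8 (by norm_num) f hf
  · exact fun σ f hf => Cfsg.Agent.Forms.Max.LinearGeometric.unitary_group_maximal 8 (by norm_num) σ f hf

end Cfsg.Agent.S5816
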