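import Cfsg.Statements.S5826
import Cfsg.Agent.Aschbacher.Ev.Lists

set_option autoImplicit false
open Cfsg
open Cfsg.Agent.Aschbacher (Irred)

namespace Cfsg.Agent.S5826

/-- Every maximal subgroup of Ω_8^-(q) is of one of the listed geometric types or lies in the residual class. Let F be a finite field with q elements, Q a non-degenerate quadratic form on F^8 of minus type (no totally singular 4-space), Ω the commutator subgroup of its isometry group, and H a maximal subgroup of Ω (inside GL_8(F)). Then H is the intersection with Ω of one of: the stabiliser of a non-zero totally singular subspace; for q odd, the stabiliser of a non-degenerate subspace of odd dimension; the stabiliser of a non-degenerate 2-space of minus type; for q ≥ 4, the stabiliser of a non-degenerate 2-space of plus type; the stabiliser of a non-degenerate 4-space; for q even, the stabiliser of the span of a non-singular vector; the normaliser of a degree-2 subfield of the matrix algebra; a subfield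 group of odd prime index whose F₀-structure carries a non-zero multiple of Q — or else H lies in the residual class of the orthogonal case (modulo scalars H is almost simple, with absolutely irreducible perfect socle preimage realisable over no proper subfield and fixing no non-degenerate unitary form). -/
theorem result {F : Type*} [Field F] [Fintype F] (Q : (Fin 8 → F) → F) (hQ : Cfsg.Geo.IsNondegenerateQuadraticForm Q) (hminus : ¬ Cfsg.Geo.IsPlusTypeOn Q ⊤) (H : Subgroup (Matrix.GeneralLinearGroup (Fin 8) F)) (hH : Cfsg.Geo.IsMaximalIn (Cfsg.Geo.omegaGL Q) H) :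
    (∃ W : Submodule F (Fin 8 → F), W ≠ ⊥ ∧ Cfsg.Geo.IsTotallySingularQuad Q W ∧ H = Cfsg.Geo.subspaceStabilizer W ⊓ Cfsg.Geo.omegaGL Q) ∨
    (Odd (Fintype.card F) ∧ ∃ W : Submodule F (Fin 8 → F), W ≠ ⊥ ∧ W ≠ ⊤ ∧ Odd (Module.finrank F W) ∧ Cfsg.Geo.IsNondegenerateOn (QuadraticMap.polar Q) W ∧ H = Cfsg.Geo.subspaceStabilizer W ⊓ Cfsg.Geo.omegaGL Q) ∨
    (∃ W : Submodule F (Fin 8 → F), Module.finrank F W = 2 ∧ Cfsg.Geo.IsNondegenerateOn (QuadraticMap.polar Q) W ∧ ¬ Cfsg.Geo.IsPlusTypeOn Q W ∧ H = Cfsg.Geo.subspaceStabilizer W ⊓ Cfsg.Geo.omegaGL Q) ∨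
    (4 ≤ Fintype.card F ∧ ∃ W : Submodule F (Fin 8 → F), Module.finrank F W = 2 ∧ Cfsg.Geo.IsNondegenerateOn (QuadraticMap.polar Q) W ∧ Cfsg.Geo.IsPlusTypeOn Q W ∧ H = Cfsg.Geo.subspaceStabilizer W ⊓ Cfsg.Geo.omegaGL Q) ∨
    (∃ W : Submodule F (Fin 8 → F), Module.finrank F W = 4 ∧ Cfsg.Geo.IsNondegenerateOn (QuadraticMap.polar Q) W ∧ H = Cfsg.Geo.subspaceStabilizer W ⊓ Cfsg.Geo.omegaGL Q) ∨
    (¬ Odd (Fintype.card F) ∧ ∃ v : (Fin 8 → F), Q v ≠ 0 ∧ H = Cfsg.Geo.subspaceStabilizer (Submodule.span F {v}) ⊓ Cfsg.Geo.omegaGL Q) ∨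
    (∃ K : Subalgebra F (Matrix (Fin 8) (Fin 8) F), Cfsg.Geo.IsFieldSubalgebra 2 K ∧ H = Cfsg.Geo.subalgebraNormalizer K ⊓ Cfsg.Geo.omegaGL Q) ∨
    (∃ (F₀ : Subfield F) (r : ℕ) (P : Matrix.GeneralLinearGroup (Fin 8) F) (ζ : F), r.Prime ∧ Odd r ∧ Fintype.card F = Nat.card F₀ ^ r ∧ ζ ≠ 0 ∧ Cfsg.Geo.IsQuadFormRationalStructure (fun v : Fin 8 → F => ζ * Q v) F₀ P ∧ H = Cfsg.Geo.subfieldSubgroup F₀ P ⊓ Cfsg.Geo.omegaGL Q) ∨
    Cfsg.Geo.InOrthogonalResidualClass H := by
  classical
  obtain ⟨R, rfl, hR⟩ := Forms.Max.Orth.exists_form hQ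
  obtain ⟨f⟩ := Aschbacher.Ev.exists_frame_ev hR (by simp) (fun _ => hminus)
  have h5 : 5 ≤ Fintype.card (Fin 8) := by simp
  by_cases hirr : Irred H
  · rcases Aschbacher.Ev.irred_items hR hH (by simp) (by decide) hirr with h | h | h | h | h | h
    · rcases h with ⟨t, k, D, htk, hD, hle⟩ | ⟨k, D, hk, hD, hts, hle⟩ | ⟨r, K, hr, hdvd, hK, -, hle⟩ |
        ⟨K, hK, hle⟩
      · refine absurd (Aschbacher.Ev.plus_of_even_parts hR (m := 4) (by simp) (by decide) hD ?_) hminus
        rw [Fintype.card_fin] at htk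
        have h2 := hD.decomp.decomp.two_le
        have htd : t ∣ 8 := ⟨k, htk⟩
        have htl := Nat.le_of_dvd (by norm_num) htd
        interval_cases t <;> revert htd <;> decide
      · exact absurd (Aschbacher.Ev.plus_of_pair hk hD hts) hminus
      · rw [Fintype.card_fin] at hdvd
        obtain rfl : r = 2 := (Nat.prime_dvd_prime_iff_eq hr Nat.prime_two).1
          (hr.dvd_of_dvd_pow (show r ∣ 2 ^ 3 by simpa using hdvd))
        exact Or.inr (Or.inr (Or.inr (Or.inr (Or.inr (Or.inr (Or.inl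
          ⟨K, hK, Aschbacher.Ev.eq_field hR f h5 hH le_rfl hK hle⟩))))))
      · exact Or.inr (Or.inr (Or.inr (Or.inr (Or.inr (Or.inr (Or.inl
          ⟨K, hK.1, Aschbacher.Ev.eq_field hR f h5 hH le_rfl hK.1 hle⟩))))))
    · obtain ⟨a, k, e, P, f₁, f₂, ha, hak, hae, hke, -, -, -, hvan, -, -⟩ := h
      have hc := Fintype.card_congr e
      simp only [Fintype.card_prod, Fintype.card_fin] at hc
      obtain rfl : a = 2 := by
        obtain ⟨i, rfl⟩ := hae
        obtain ⟨j, rfl⟩ := hke
        nlinarith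
      exact absurd (Aschbacher.Ev.plus_of_alt_two hR e P hvan) hminus
    · obtain ⟨a, k, e, -, -, -, -, ha, hak, -⟩ := h
      have hc := Fintype.card_congr e
      simp only [Fintype.card_prod, Fintype.card_fin] at hc
      nlinarith
    · obtain ⟨a, b, -, -, -, hp⟩ := h
      exact absurd (hp (by simp)) hminus
    · exact Or.inr (Or.inr (Or.inr (Or.inr (Or.inr (Or.inr (Or.inr (Or.inl
        (Aschbacher.Ev.eq_subfield_minus hR f h5 hH (m := 4) (by simp) hminus h))))))))
    · exact Or.inr (Or.inr (Or.inr (Or.inr (Or.inr (Or.inr (Or.inr (Or.inr h)))))))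
  · rcases Aschbacher.Ev.subspace_items hR f h5 hH (by simp) (by simp) hirr with h | ⟨W, -, hd, h5', -⟩
    · rcases h with h | ⟨ho, W, h0, h1, hod, -, hW, he⟩ | h | h | h | h
      · exact Or.inl h
      · exact Or.inr (Or.inl ⟨ho, W, h0, h1, hod, hW, he⟩)
      · exact Or.inr (Or.inr (Or.inl h))
      · exact Or.inr (Or.inr (Or.inr (Or.inl h)))
      · exact Or.inr (Or.inr (Or.inr (Or.inr (Or.inl h))))
      · exact Or.inr (Or.inr (Or.inr (Or.inr (Or.inr (Or.inl h)))))
    · rw [Fintype.card_fin] at hd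
      omega

end Cfsg.Agent.S5826
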