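import Cfsg.Statements.S5834
import Cfsg.Agent.Lib.Classical.OrthForms
import Cfsg.Agent.Lib.Forms.Max.OrthSingular
import Cfsg.Agent.Lib.Forms.Max.OrthNondegApply
import Cfsg.Agent.Lib.Forms.Max.UnitFrame.Maximal
import Cfsg.Agent.Lib.Forms.Max.OrthBlocks
import Cfsg.Agent.Lib.Forms.Max.OrthExtField.Normalizer
import Cfsg.Agent.Lib.Forms.Max.SubfieldOrth
import Cfsg.Agent.Lib.Forms.Max.SubfieldMem
import Cfsg.Agent.Lib.Forms.Max.NineTensor.Maximal

set_option autoImplicit false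
open Cfsg

namespace Cfsg.Agent.S5834

/-- Maximal subgroups of Ω_9(q) of geometric type, q odd. Let F be a finite field of odd order q, Q the standard quadratic form x₀² + Σ x_i y_i on F^9 (coordinates Unit ⊕ (Fin 4 ⊕ Fin 4)), and Ω = Ω_9(q) the commutator subgroup of its isometry group, inside GL_9(F). Each of the following, intersected with Ω, is a maximal subgroup of Ω: (1) the stabiliser of any non-zero subspace on which Q vanishes identically (totally singular 1- to 4-spaces); (2) the stabiliser of any non-zero even-dimensional subspace W (dimension 2, 4, 6 or 8) on which the polar form of Q is non-degenerate (equivalently of its odd-dimensional orthogonal complement), except when q = 3 and W is a 2-space containing a non-zero singular vector (a plus-type plane); (3) for q = p prime, the stabiliser of any decomposition of F^9 into nine pairwise orthogonal, pairwise Q-isometric non-degenerate 1-spaces; (4) for q ≥ 5, the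 stabiliser of any decomposition of F^9 into three pairwise orthogonal, pairwise Q-isometric non-degenerate 3-spaces; (5) the normaliser of any degree-3 subfield K of the matrix algebra whose elements are self-adjoint for the polar form of Q (Q is then the trace of a quadratic form over K); (6) every subfield group for a subfield F₀ with |F| = |F₀|^r, r prime, whose F₀-structure carries Q; (7) for q ≥ 5, the stabiliser of any decomposition of the polar form of Q as the tensor square of a non-degenerate symmetric bilinear form on F^3 up to a scalar (tensor-wreath subgroup). -/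
theorem result {F : Type*} [Field F] [Fintype F] (hodd : Odd (Fintype.card F)) :
    (∀ W : Submodule F (Unit ⊕ (Fin 4 ⊕ Fin 4) → F), W ≠ ⊥ → Cfsg.Geo.IsTotallySingularQuad (Cfsg.quadFormOdd 4 F) W → Cfsg.Geo.IsMaximalIn (Cfsg.Geo.omegaGL (Cfsg.quadFormOdd 4 F)) (Cfsg.Geo.subspaceStabilizer W ⊓ Cfsg.Geo.omegaGL (Cfsg.quadFormOdd 4 F))) ∧
    (∀ W : Submodule F (Unit ⊕ (Fin 4 ⊕ Fin 4) → F), W ≠ ⊥ → Even (Module.finrank F W) → Cfsg.Geo.IsNondegenerateOn (QuadraticMap.polar (Cfsg.quadFormOdd 4 F)) W → ¬ (Fintype.card F = 3 ∧ Module.finrank F W = 2 ∧ Cfsg.Geo.IsPlusTypeOn (Cfsg.quadFormOdd 4 F) W) → Cfsg.Geo.IsMaximalIn (Cfsg.Geo.omegaGL (Cfsg.quadFormOdd 4 F)) (Cfsg.Geo.subspaceStabilizer W ⊓ Cfsg.Geo.omegaGL (Cfsg.quadFormOdd 4 F))) ∧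
    ((Fintype.card F).Prime → ∀ D : Fin 9 → Submodule F (Unit ⊕ (Fin 4 ⊕ Fin 4) → F), Cfsg.Geo.IsOrthogonalMDecomposition (Cfsg.quadFormOdd 4 F) 1 D → Cfsg.Geo.IsMaximalIn (Cfsg.Geo.omegaGL (Cfsg.quadFormOdd 4 F)) (Cfsg.Geo.decompositionStabilizer D ⊓ Cfsg.Geo.omegaGL (Cfsg.quadFormOdd 4 F))) ∧
    (5 ≤ Fintype.card F → ∀ D : Fin 3 → Submodule F (Unit ⊕ (Fin 4 ⊕ Fin 4) → F), Cfsg.Geo.IsOrthogonalMDecomposition (Cfsg.quadFormOdd 4 F) 3 D → Cfsg.Geo.IsMaximalIn (Cfsg.Geo.omegaGL (Cfsg.quadFormOdd 4 F)) (Cfsg.Geo.decompositionStabilizer D ⊓ Cfsg.Geo.omegaGL (Cfsg.quadFormOdd 4 F))) ∧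
    (∀ K : Subalgebra F (Matrix (Unit ⊕ (Fin 4 ⊕ Fin 4)) (Unit ⊕ (Fin 4 ⊕ Fin 4)) F), Cfsg.Geo.IsFieldSubalgebra 3 K → Cfsg.Geo.IsSelfAdjointFor (QuadraticMap.polar (Cfsg.quadFormOdd 4 F)) K → Cfsg.Geo.IsMaximalIn (Cfsg.Geo.omegaGL (Cfsg.quadFormOdd 4 F)) (Cfsg.Geo.subalgebraNormalizer K ⊓ Cfsg.Geo.omegaGL (Cfsg.quadFormOdd 4 F))) ∧
    (∀ (F₀ : Subfield F) (r : ℕ) (P : Matrix.GeneralLinearGroup (Unit ⊕ (Fin 4 ⊕ Fin 4)) F), r.Prime → Fintype.card F = Nat.card F₀ ^ r → Cfsg.Geo.IsQuadFormRationalStructure (Cfsg.quadFormOdd 4 F) F₀ P → Cfsg.Geo.IsMaximalIn (Cfsg.Geo.omegaGL (Cfsg.quadFormOdd 4 F)) (Cfsg.Geo.subfieldSubgroup F₀ P ⊓ Cfsg.Geo.omegaGL (Cfsg.quadFormOdd 4 F))) ∧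
    (5 ≤ Fintype.card F → ∀ (e : (Unit ⊕ (Fin 4 ⊕ Fin 4)) ≃ (Fin 2 → Fin 3)) (P : Matrix.GeneralLinearGroup (Unit ⊕ (Fin 4 ⊕ Fin 4)) F) (f₁ : (Fin 3 → F) → (Fin 3 → F) → F), Cfsg.Geo.IsSymmetricForm f₁ → Cfsg.Geo.IsTensorPowerFormStructure id (QuadraticMap.polar (Cfsg.quadFormOdd 4 F)) f₁ e P → Cfsg.Geo.IsMaximalIn (Cfsg.Geo.omegaGL (Cfsg.quadFormOdd 4 F)) (Cfsg.Geo.tensorWreathSubgroup 3 2 e P ⊓ Cfsg.Geo.omegaGL (Cfsg.quadFormOdd 4 F))) := by
  have h2 := Classical.OrthForms.two_ne_zero_of_odd (F := F) hodd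
  have hQ := Classical.OrthForms.oddQ_nondeg h2 4
  have hcard : Fintype.card (Unit ⊕ (Fin 4 ⊕ Fin 4)) = 9 := by simp
  have hQ' : Cfsg.Geo.IsNondegenerateQuadraticForm ⇑(Classical.OrthForms.oddQ F 4) :=
    ⟨fun c v => by rw [QuadraticMap.map_smul, smul_eq_mul, sq],
      ⟨fun x y v => QuadraticMap.polar_add_left _ x y v, fun c x v => QuadraticMap.polar_smul_left _ c x v,
        fun v x y => QuadraticMap.polar_add_right _ v x y, fun c v x => QuadraticMap.polar_smul_right _ c v x⟩,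
      fun v hv => ⟨by
        by_contra h
        push Not at h
        exact hv (hQ.2 v h), by
        by_contra h
        push Not at h
        exact hv (hQ.1 v h)⟩⟩
  refine ⟨fun W hW0 hW => ?_, fun W hW0 hev hW hex => ?_, fun hp D hD => ?_, fun h5 D hD => ?_,
    fun K hK hsa => ?_, fun F₀ r P hr hq hP => ?_, fun h5 e P f₁ hf₁ hT => ?_⟩
  · rw [← Classical.OrthForms.oddQ_eq] at hW ⊢
    refine Forms.Max.Orth.singular_maximal hQ (by simp) hW (fun T _ _ => ?_) hW0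
    simp
    omega
  · rw [← Classical.OrthForms.oddQ_eq] at hW hex ⊢
    obtain ⟨k, hk⟩ := hev
    have hW1 : W ≠ ⊤ := by
      rintro rfl
      rw [finrank_top, Module.finrank_fintype_fun_eq_card, hcard] at hk
      omega
    have hd := Forms.Max.Orth.finrank_perp hQ W
    rw [hcard] at hd
    refine Forms.Max.Orth.nondeg_maximal' hQ hcard.ge hW0 hW1 hW (fun h => by rw [hcard] at h; omega)
      fun P h2' _ hP hPW hq => ?_
    have h1 := Fintype.one_lt_card (α := F)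
    obtain ⟨a, ha⟩ := hodd
    rcases hPW with rfl | rfl
    · exact hex ⟨by omega, h2', hP⟩
    · omega
  · rw [← Classical.OrthForms.oddQ_eq] at hD ⊢
    exact Forms.Max.UnitFrame.maximal hQ h2 hp hD (by simp)
  · rw [← Classical.OrthForms.oddQ_eq] at hD ⊢
    exact Forms.Max.OrthBlocks.maximal hQ hD le_rfl (by simp) (fun _ => h5) h2
  · rw [← Classical.OrthForms.oddQ_eq] at hsa ⊢
    refine Forms.Max.OrthExtField.maximal _ hQ' hodd (by simp) 3 Nat.prime_three (fun d hd => ?_) K hK hsa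
    rw [hcard] at hd
    exact Or.inr (Or.inl ⟨by omega, le_rfl⟩)
  · rw [← Classical.OrthForms.oddQ_eq] at hP ⊢
    exact Agent.Forms.Max.SubfieldOrth.subfield_maximal ⟨F₀, P, 1, r, hQ, by simp,
        hr, hq, one_ne_zero, fun x hx => by simpa using hP x hx⟩ _
      inf_le_right
      (fun g hg h => ⟨(Agent.Forms.Max.SubfieldMem.mem_subfieldSubgroup F₀ P g).2 h, hg⟩)
      (fun g hg => (Agent.Forms.Max.SubfieldMem.mem_subfieldSubgroup F₀ P g).1 hg.1)
  · rw [← Classical.OrthForms.oddQ_eq] at hT ⊢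
    exact Forms.Max.NineTensor.tensor_square_maximal h2 h5 _ e P f₁ hf₁ hT

end Cfsg.Agent.S5834
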