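import Cfsg.Statements.S5844
import Cfsg.Agent.Aschbacher.Sp.Lists.Main

set_option autoImplicit false
open Cfsg

namespace Cfsg.Agent.S5844

/-- Every maximal subgroup of Sp_10(q) is of one of the listed geometric types or lies in the residual class. Let F be a finite field with q elements (characteristic p), f the standard alternating form on F^10 (coordinates Fin 5 ⊕ Fin 5), and H a maximal subgroup of Sp_10(F) (inside GL_10(F)). Then H is the intersection with Sp_10(F) of one of: the stabiliser of a non-zero totally isotropic subspace; the stabiliser of a non-zero non-degenerate subspace of dimension less than 5; for q ≥ 3, the stabiliser of a decomposition into 5 mutually orthogonal non-degenerate 2-spaces; for q odd, of a decomposition into two totally isotropic 5-spaces; the normaliser of a degree-5 subfield K of the matrix algebra, self-adjoint with f(k v, v) = 0; for q odd, the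 normaliser of a degree-2 subfield closed under adjoints but not self-adjoint; for q odd, the stabiliser of a tensor decomposition of f into an alternating form on F^2 and a symmetric form on F^5; a subfield group (|F| = |F₀|^r, r prime) whose F₀-structure carries a non-zero multiple of f; for q even, the similarity group of a non-degenerate quadratic form polarising to f — or else H lies in the residual class of the symplectic case (modulo scalars H is almost simple, with absolutely irreducible perfect socle preimage realisable over no proper subfield and fixing no non-degenerate quadratic or unitary form). -/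
theorem result {F : Type*} [Field F] [Fintype F] (H : Subgroup (Matrix.GeneralLinearGroup (Fin 5 ⊕ Fin 5) F)) (hH : Cfsg.Geo.IsMaximalIn (Cfsg.spGL 5 F) H) :
    (∃ W : Submodule F (Fin 5 ⊕ Fin 5 → F), W ≠ ⊥ ∧ Cfsg.Geo.IsTotallySingularFor (Cfsg.sympForm 5 F) W ∧ H = Cfsg.Geo.subspaceStabilizer W ⊓ Cfsg.spGL 5 F) ∨
    (∃ W : Submodule F (Fin 5 ⊕ Fin 5 → F), W ≠ ⊥ ∧ Cfsg.Geo.IsNondegenerateOn (Cfsg.sympForm 5 F) W ∧ Module.finrank F W < 5 ∧ H = Cfsg.Geo.subspaceStabilizer W ⊓ Cfsg.spGL 5 F) ∨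
    (3 ≤ Fintype.card F ∧ ∃ D : Fin 5 → Submodule F (Fin 5 ⊕ Fin 5 → F), Cfsg.Geo.IsNondegenerateMDecomposition (Cfsg.sympForm 5 F) 2 D ∧ H = Cfsg.Geo.decompositionStabilizer D ⊓ Cfsg.spGL 5 F) ∨
    (Odd (Fintype.card F) ∧ ∃ D : Fin 2 → Submodule F (Fin 5 ⊕ Fin 5 → F), Cfsg.Geo.IsMDecomposition 5 D ∧ (∀ i, Cfsg.Geo.IsTotallySingularFor (Cfsg.sympForm 5 F) (D i)) ∧ H = Cfsg.Geo.decompositionStabilizer D ⊓ Cfsg.spGL 5 F) ∨
    (∃ K : Subalgebra F (Matrix (Fin 5 ⊕ Fin 5) (Fin 5 ⊕ Fin 5) F), Cfsg.Geo.IsFieldSubalgebra 5 K ∧ Cfsg.Geo.IsSelfAdjointFor (Cfsg.sympForm 5 F) K ∧ (∀ k ∈ K, ∀ v : (Fin 5 ⊕ Fin 5 → F), (Cfsg.sympForm 5 F) (Matrix.mulVec k v) v = 0) ∧ H = Cfsg.Geo.subalgebraNormalizer K ⊓ Cfsg.spGL 5 F) ∨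
    (Odd (Fintype.card F) ∧ ∃ K : Subalgebra F (Matrix (Fin 5 ⊕ Fin 5) (Fin 5 ⊕ Fin 5) F), Cfsg.Geo.IsFieldSubalgebra 2 K ∧ Cfsg.Geo.IsAdjointClosedFor (Cfsg.sympForm 5 F) K ∧ ¬ Cfsg.Geo.IsSelfAdjointFor (Cfsg.sympForm 5 F) K ∧ H = Cfsg.Geo.subalgebraNormalizer K ⊓ Cfsg.spGL 5 F) ∨
    (Odd (Fintype.card F) ∧ ∃ (e : (Fin 5 ⊕ Fin 5) ≃ Fin 2 × Fin 5) (P : Matrix.GeneralLinearGroup (Fin 5 ⊕ Fin 5) F) (f₁ : (Fin 2 → F) → (Fin 2 → F) → F) (f₂ : (Fin 5 → F) → (Fin 5 → F) → F), Cfsg.Geo.IsSymplecticForm f₁ ∧ Cfsg.Geo.IsSymmetricForm f₂ ∧ Cfsg.Geo.IsTensorFormStructure id (Cfsg.sympForm 5 F) f₁ f₂ e P ∧ H = Cfsg.Geo.tensorProductSubgroup 2 5 e P ⊓ Cfsg.spGL 5 F) ∨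
    (∃ (F₀ : Subfield F) (r : ℕ) (P : Matrix.GeneralLinearGroup (Fin 5 ⊕ Fin 5) F) (ζ : F), r.Prime ∧ Fintype.card F = Nat.card F₀ ^ r ∧ ζ ≠ 0 ∧ Cfsg.Geo.IsFormRationalStructure (Cfsg.sympForm 5 F) F₀ ζ P ∧ H = Cfsg.Geo.subfieldSubgroup F₀ P ⊓ Cfsg.spGL 5 F) ∨
    (¬ Odd (Fintype.card F) ∧ ∃ Q : (Fin 5 ⊕ Fin 5 → F) → F, Cfsg.Geo.IsNondegenerateQuadraticForm Q ∧ (∀ u v : (Fin 5 ⊕ Fin 5 → F), QuadraticMap.polar Q u v = (Cfsg.sympForm 5 F) u v) ∧ H = Cfsg.Geo.quadSimilarityGroup Q ⊓ Cfsg.spGL 5 F) ∨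
    Cfsg.Geo.InSymplecticResidualClass H := by
  open Cfsg.Agent.Aschbacher in
  rcases spListed_or_residual (m := 5) (by norm_num) hH with h | h
  swap
  · exact Or.inr (Or.inr (Or.inr (Or.inr (Or.inr (Or.inr (Or.inr (Or.inr (Or.inr h))))))))
  rcases h with ⟨W, h1, h2, he⟩ | ⟨W, h1, h2, h3, -, he⟩ | ⟨t, k, D, h1, ht, hk, hc, ⟨j, hj⟩, hq, he⟩ |
    ⟨D, h1, h2, h3, he⟩ | ⟨F₀, r, P, ζ, h1, h2, h3, h4, he⟩ | ⟨R, p, k, -, -, -, -, -, -, -, -, -, hk, -⟩ |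
    ⟨Q, h1, h2, h3, he⟩ | ⟨r, K, h1, h2, h3, h4, h5, he⟩ | ⟨K, h1, h2, h3, h4, he⟩ |
    ⟨n₁, n₂, e, P, f₁, f₂, h1, h2, h3, hc, ⟨j, hj⟩, h4, h5, h6, he⟩ | ⟨k, t, e, P, f₁, h1, h2, h3, hc, -⟩
  · exact Or.inl ⟨W, h1, h2, he⟩
  · exact Or.inr (Or.inl ⟨W, h1, h2, h3, he⟩)
  · obtain rfl : k = 2 := by
      subst hj
      have h5 : t * j = 5 := by nlinarith
      rcases (Nat.dvd_prime (by norm_num : Nat.Prime 5)).1 (Dvd.intro_left t h5) with h | h
      · omega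
      · subst h; omega
    obtain rfl : t = 5 := by omega
    exact Or.inr (Or.inr (Or.inl ⟨hq rfl, D, h1, he⟩))
  · exact Or.inr (Or.inr (Or.inr (Or.inl ⟨h1, D, h2, h3, he⟩)))
  · exact Or.inr (Or.inr (Or.inr (Or.inr (Or.inr (Or.inr (Or.inr (Or.inl
      ⟨F₀, r, P, ζ, h1, h2, h3, h4, he⟩)))))))
  · exfalso
    have h5 : (5 : ℕ) ∣ 2 ^ k := ⟨2, by omega⟩
    exact absurd ((by norm_num : Nat.Prime 5).dvd_of_dvd_pow h5) (by norm_num)
  · exact Or.inr (Or.inr (Or.inr (Or.inr (Or.inr (Or.inr (Or.inr (Or.inr (Or.inl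
      ⟨h1, Q, h2, h3, he⟩))))))))
  · obtain rfl : r = 5 := (Nat.prime_dvd_prime_iff_eq h1 (by norm_num)).1 h2
    exact Or.inr (Or.inr (Or.inr (Or.inr (Or.inl ⟨K, h3, h4, h5, he⟩))))
  · exact Or.inr (Or.inr (Or.inr (Or.inr (Or.inr (Or.inl ⟨h1, K, h2, h3, h4, he⟩)))))
  · obtain ⟨rfl, rfl⟩ : n₁ = 2 ∧ n₂ = 5 := by
      subst hj
      have h7 : j * n₂ = 5 := by nlinarith
      rcases (Nat.dvd_prime (by norm_num : Nat.Prime 5)).1 (Dvd.intro _ h7) with h | h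
      · subst h; omega
      · subst h; omega
    exact Or.inr (Or.inr (Or.inr (Or.inr (Or.inr (Or.inr (Or.inl
      ⟨h1, e, P, f₁, f₂, h4, h5, h6, he⟩))))))
  · exfalso
    have := Nat.pow_le_pow_left h3 t
    have h7 : 2 ^ 3 ≤ 2 ^ t := Nat.pow_le_pow_right (by norm_num) h2
    have hd : k ∣ 10 := (show k ^ t = 10 by omega) ▸ dvd_pow_self k (by omega)
    have h8 : k ^ 3 ≤ k ^ t := Nat.pow_le_pow_right (by omega) h2
    have h9 : k ≤ 2 := by
      by_contra h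
      have := Nat.pow_le_pow_left (show 3 ≤ k by omega) 3
      omega
    obtain rfl : k = 2 := by omega
    have h10 : (5 : ℕ) ∣ 2 ^ t := ⟨2, by omega⟩
    exact absurd ((by norm_num : Nat.Prime 5).dvd_of_dvd_pow h10) (by norm_num)

end Cfsg.Agent.S5844
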