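import Cfsg.Statements.S5871
import Cfsg.Agent.Aschbacher.Ev.TwelveLists
import Cfsg.Agent.Aschbacher.Sp.Tensor

set_option autoImplicit false
open Cfsg
open Cfsg.Agent.Aschbacher (Irred)

namespace Cfsg.Agent.S5871

/-- Every maximal subgroup of Ω_12^+(q) is of one of the listed geometric types or lies in the residual class. Let F be a finite field with q elements (characteristic p), Q a non-degenerate quadratic form on F^12 of plus type (Witt index 6: some totally singular 6-space), Ω the commutator subgroup of its isometry group, and H a maximal subgroup of Ω (inside GL_12(F)). Then H is the intersection with Ω of one of: the stabiliser of a non-zero totally singular subspace of dimension ≠ 5; for q odd, the stabiliser of a non-degenerate subspace of odd dimension; the stabiliser of a non-degenerate 2-space of minus type; for q ≥ 4, the stabiliser of a non-degenerate 2-space of plus type; the stabiliser of a non-degenerate 4-space; for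 q even, the stabiliser of the span of a non-singular vector; for q = p an odd prime, the stabiliser of a decomposition into 12 pairwise orthogonal, pairwise isometric non-degenerate 1-spaces; for q ≥ 7, the stabiliser of a decomposition into 6 pairwise orthogonal, pairwise isometric non-degenerate 2-spaces of plus type; for q ≠ 3, the stabiliser of a decomposition into 6 pairwise orthogonal, pairwise isometric non-degenerate 2-spaces of minus type; for q odd with q ≥ 5, the stabiliser of a decomposition into 4 pairwise orthogonal, pairwise isometric non-degenerate 3-spaces; for q ≥ 3, the stabiliser of a decomposition into 3 pairwise orthogonal, pairwise isometric non-degenerate 4-spaces; the stabiliser of a decomposition into 2 pairwise orthogonal, pairwise isometric non-degenerate 6-spaces; of a decomposition into two totally singular 6-spaces; the normaliser of a degree-2 subfield of the matrix algebra; the normaliser of a degree-3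 subfield of the matrix algebra; the normaliser of a degree-2 subfield K, adjoint-closed but not self-adjoint, acting by similarities of Q; for q ≥ 3, the stabiliser of a tensor decomposition of Q into alternating forms on F^2 and F^6 (Q vanishing on pure tensors); a subfield group (|F| = |F₀|^r, r prime) whose F₀-structure carries a non-zero multiple of Q — or else H lies in the residual class of the orthogonal case (modulo scalars H is almost simple, with absolutely irreducible perfect socle preimage realisable over no proper subfield and fixing no non-degenerate unitary form). -/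
theorem result {F : Type*} [Field F] [Fintype F] (Q : (Fin 12 → F) → F) (hQ : Cfsg.Geo.IsNondegenerateQuadraticForm Q) (hplus : Cfsg.Geo.IsPlusTypeOn Q ⊤) (H : Subgroup (Matrix.GeneralLinearGroup (Fin 12) F)) (hH : Cfsg.Geo.IsMaximalIn (Cfsg.Geo.omegaGL Q) H) :
    (∃ W : Submodule F (Fin 12 → F), W ≠ ⊥ ∧ Cfsg.Geo.IsTotallySingularQuad Q W ∧ Module.finrank F W ≠ 5 ∧ H = Cfsg.Geo.subspaceStabilizer W ⊓ Cfsg.Geo.omegaGL Q) ∨
    (Odd (Fintype.card F) ∧ ∃ W : Submodule F (Fin 12 → F), W ≠ ⊥ ∧ W ≠ ⊤ ∧ Odd (Module.finrank F W) ∧ 2 * Module.finrank F W ≠ 12 ∧ Cfsg.Geo.IsNondegenerateOn (QuadraticMap.polar Q) W ∧ H = Cfsg.Geo.subspaceStabilizer W ⊓ Cfsg.Geo.omegaGL Q) ∨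
    (∃ W : Submodule F (Fin 12 → F), Module.finrank F W = 2 ∧ Cfsg.Geo.IsNondegenerateOn (QuadraticMap.polar Q) W ∧ ¬ Cfsg.Geo.IsPlusTypeOn Q W ∧ H = Cfsg.Geo.subspaceStabilizer W ⊓ Cfsg.Geo.omegaGL Q) ∨
    (4 ≤ Fintype.card F ∧ ∃ W : Submodule F (Fin 12 → F), Module.finrank F W = 2 ∧ Cfsg.Geo.IsNondegenerateOn (QuadraticMap.polar Q) W ∧ Cfsg.Geo.IsPlusTypeOn Q W ∧ H = Cfsg.Geo.subspaceStabilizer W ⊓ Cfsg.Geo.omegaGL Q) ∨
    (∃ W : Submodule F (Fin 12 → F), Module.finrank F W = 4 ∧ Cfsg.Geo.IsNondegenerateOn (QuadraticMap.polar Q) W ∧ H = Cfsg.Geo.subspaceStabilizer W ⊓ Cfsg.Geo.omegaGL Q) ∨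
    (¬ Odd (Fintype.card F) ∧ ∃ v : (Fin 12 → F), Q v ≠ 0 ∧ H = Cfsg.Geo.subspaceStabilizer (Submodule.span F {v}) ⊓ Cfsg.Geo.omegaGL Q) ∨
    ((∃ p : ℕ, p.Prime ∧ Odd p ∧ Fintype.card F = p) ∧ ∃ D : Fin 12 → Submodule F (Fin 12 → F), Cfsg.Geo.IsOrthogonalMDecomposition Q 1 D ∧ H = Cfsg.Geo.decompositionStabilizer D ⊓ Cfsg.Geo.omegaGL Q) ∨
    (7 ≤ Fintype.card F ∧ ∃ D : Fin 6 → Submodule F (Fin 12 → F), Cfsg.Geo.IsOrthogonalMDecomposition Q 2 D ∧ (∀ i, Cfsg.Geo.IsPlusTypeOn Q (D i)) ∧ H = Cfsg.Geo.decompositionStabilizer D ⊓ Cfsg.Geo.omegaGL Q) ∨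
    (Fintype.card F ≠ 3 ∧ ∃ D : Fin 6 → Submodule F (Fin 12 → F), Cfsg.Geo.IsOrthogonalMDecomposition Q 2 D ∧ (∀ i, ¬ Cfsg.Geo.IsPlusTypeOn Q (D i)) ∧ H = Cfsg.Geo.decompositionStabilizer D ⊓ Cfsg.Geo.omegaGL Q) ∨
    (Odd (Fintype.card F) ∧ 5 ≤ Fintype.card F ∧ ∃ D : Fin 4 → Submodule F (Fin 12 → F), Cfsg.Geo.IsOrthogonalMDecomposition Q 3 D ∧ H = Cfsg.Geo.decompositionStabilizer D ⊓ Cfsg.Geo.omegaGL Q) ∨
    (3 ≤ Fintype.card F ∧ ∃ D : Fin 3 → Submodule F (Fin 12 → F), Cfsg.Geo.IsOrthogonalMDecomposition Q 4 D ∧ H = Cfsg.Geo.decompositionStabilizer D ⊓ Cfsg.Geo.omegaGL Q) ∨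
    (∃ D : Fin 2 → Submodule F (Fin 12 → F), Cfsg.Geo.IsOrthogonalMDecomposition Q 6 D ∧ H = Cfsg.Geo.decompositionStabilizer D ⊓ Cfsg.Geo.omegaGL Q) ∨
    (∃ D : Fin 2 → Submodule F (Fin 12 → F), Cfsg.Geo.IsMDecomposition 6 D ∧ (∀ i, Cfsg.Geo.IsTotallySingularQuad Q (D i)) ∧ H = Cfsg.Geo.decompositionStabilizer D ⊓ Cfsg.Geo.omegaGL Q) ∨
    (∃ K : Subalgebra F (Matrix (Fin 12) (Fin 12) F), Cfsg.Geo.IsFieldSubalgebra 2 K ∧ H = Cfsg.Geo.subalgebraNormalizer K ⊓ Cfsg.Geo.omegaGL Q) ∨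
    (∃ K : Subalgebra F (Matrix (Fin 12) (Fin 12) F), Cfsg.Geo.IsFieldSubalgebra 3 K ∧ H = Cfsg.Geo.subalgebraNormalizer K ⊓ Cfsg.Geo.omegaGL Q) ∨
    (∃ K : Subalgebra F (Matrix (Fin 12) (Fin 12) F), Cfsg.Geo.IsFieldSubalgebra 2 K ∧ Cfsg.Geo.IsAdjointClosedFor (QuadraticMap.polar Q) K ∧ ¬ Cfsg.Geo.IsSelfAdjointFor (QuadraticMap.polar Q) K ∧ (∀ k ∈ K, ∃ c : F, ∀ v : (Fin 12 → F), Q (Matrix.mulVec k v) = c * Q v) ∧ H = Cfsg.Geo.subalgebraNormalizer K ⊓ Cfsg.Geo.omegaGL Q) ∨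
    (3 ≤ Fintype.card F ∧ ∃ (e : Fin 12 ≃ Fin 2 × Fin 6) (P : Matrix.GeneralLinearGroup (Fin 12) F) (f₁ : (Fin 2 → F) → (Fin 2 → F) → F) (f₂ : (Fin 6 → F) → (Fin 6 → F) → F), Cfsg.Geo.IsSymplecticForm f₁ ∧ Cfsg.Geo.IsSymplecticForm f₂ ∧ Cfsg.Geo.IsTensorFormStructure id (QuadraticMap.polar Q) f₁ f₂ e P ∧ (∀ (x₁ : Fin 2 → F) (x₂ : Fin 6 → F), Q (Matrix.mulVec (P : Matrix (Fin 12) (Fin 12) F) ((fun a : Fin 2 × Fin 6 => x₁ a.1 * x₂ a.2) ∘ e)) = 0) ∧ H = Cfsg.Geo.tensorProductSubgroup 2 6 e P ⊓ Cfsg.Geo.omegaGL Q) ∨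
    (∃ (F₀ : Subfield F) (r : ℕ) (P : Matrix.GeneralLinearGroup (Fin 12) F) (ζ : F), r.Prime ∧ Fintype.card F = Nat.card F₀ ^ r ∧ ζ ≠ 0 ∧ Cfsg.Geo.IsQuadFormRationalStructure (fun v : Fin 12 → F => ζ * Q v) F₀ P ∧ H = Cfsg.Geo.subfieldSubgroup F₀ P ⊓ Cfsg.Geo.omegaGL Q) ∨
    Cfsg.Geo.InOrthogonalResidualClass H := by
  classical
  obtain ⟨R, rfl, hR⟩ := Forms.Max.Orth.exists_form hQ
  obtain ⟨f⟩ := Aschbacher.Ev.exists_frame_ev hR (by simp) (fun h => absurd h (by simp))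
  have h5 : 5 ≤ Fintype.card (Fin 12) := by simp
  have hI := Aschbacher.Ev.hI_of_max hR hH
  have hdiv : ∀ t : ℕ, t ∣ 12 → t = 1 ∨ t = 2 ∨ t = 3 ∨ t = 4 ∨ t = 6 ∨ t = 12 := fun t ht => by
    have := Nat.le_of_dvd (by norm_num) ht
    interval_cases t <;> revert ht <;> decide
  by_cases hirr : Irred H
  · rcases Aschbacher.Ev.irred_items hR hH (by simp) (by decide) hirr with h | h | h | h | h | h
    · rcases h with ⟨t, k, D, htk, hD, hle⟩ | ⟨k, D, hk, hD, hts, hle⟩ | ⟨r, K, hr, hdvd, hK, -, hle⟩ |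
        ⟨K, ⟨hK, hc, hns, hsim⟩, hle⟩
      · rw [Fintype.card_fin] at htk
        have h2 := hD.decomp.decomp.two_le
        by_cases hsmall : Aschbacher.Ev.TwelveSmall R H
        · rcases hsmall with hs | hs | hs | hs
          · exact Or.inr (Or.inr (Or.inr (Or.inr (Or.inr (Or.inr (Or.inl hs))))))
          · exact Or.inr (Or.inr (Or.inr (Or.inr (Or.inr (Or.inr (Or.inr (Or.inl hs)))))))
          · exact Or.inr (Or.inr (Or.inr (Or.inr (Or.inr (Or.inr (Or.inr (Or.inr (Or.inl hs))))))))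
          · exact Or.inr (Or.inr (Or.inr (Or.inr (Or.inr (Or.inr (Or.inr (Or.inr (Or.inr (Or.inr (Or.inr (Or.inr (Or.inr (Or.inr (Or.inr (Or.inr (Or.inr (Or.inl (Aschbacher.Ev.eq_subfield hR f h5 hH hs))))))))))))))))))
        rcases hdiv t ⟨k, htk⟩ with rfl | rfl | rfl | rfl | rfl | rfl
        · omega
        · obtain rfl : k = 6 := by omega
          exact Or.inr (Or.inr (Or.inr (Or.inr (Or.inr (Or.inr (Or.inr (Or.inr (Or.inr (Or.inr (Or.inr (Or.inl ⟨D, hD, Aschbacher.Ev.eq_decomposition hR f h5 hH hD.decomp hle⟩)))))))))))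
        · obtain rfl : k = 4 := by omega
          rcases Aschbacher.Ev.twelve_fours hR f hH hirr hplus hD hle with hs | ⟨hq, he⟩
          · exact absurd hs hsmall
          · exact Or.inr (Or.inr (Or.inr (Or.inr (Or.inr (Or.inr (Or.inr (Or.inr (Or.inr (Or.inr (Or.inl ⟨hq, D, hD, he⟩))))))))))
        · obtain rfl : k = 3 := by omega
          rcases Aschbacher.Ev.twelve_threes hR f hH hirr hD hle with hs | ⟨ho, hq, he⟩
          · exact absurd hs hsmall
          · exact Or.inr (Or.inr (Or.inr (Or.inr (Or.inr (Or.inr (Or.inr (Or.inr (Or.inr (Or.inl ⟨ho, hq, D, hD, he⟩)))))))))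
        · obtain rfl : k = 2 := by omega
          exact absurd (Aschbacher.Ev.twelve_planes hR f hH hirr hD hle) hsmall
        · obtain rfl : k = 1 := by omega
          exact absurd (Aschbacher.Ev.twelve_lines hR f hH hirr hD hle) hsmall
      · rw [Fintype.card_fin] at hk
        obtain rfl : k = 6 := by omega
        exact Or.inr (Or.inr (Or.inr (Or.inr (Or.inr (Or.inr (Or.inr (Or.inr (Or.inr (Or.inr (Or.inr (Or.inr (Or.inl ⟨D, hD, hts, Aschbacher.Ev.eq_pair hR f h5 hH hD (by norm_num) hle⟩))))))))))))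
      · rw [Fintype.card_fin] at hdvd
        have he := Aschbacher.Ev.eq_field hR f h5 hH hr.two_le hK hle
        rcases hdiv r hdvd with rfl | rfl | rfl | rfl | rfl | rfl
        · exact absurd hr (by norm_num)
        · exact Or.inr (Or.inr (Or.inr (Or.inr (Or.inr (Or.inr (Or.inr (Or.inr (Or.inr (Or.inr (Or.inr (Or.inr (Or.inr (Or.inl ⟨K, hK, he⟩)))))))))))))
        · exact Or.inr (Or.inr (Or.inr (Or.inr (Or.inr (Or.inr (Or.inr (Or.inr (Or.inr (Or.inr (Or.inr (Or.inr (Or.inr (Or.inr (Or.inl ⟨K, hK, he⟩))))))))))))))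
        all_goals exact absurd hr (by norm_num)
      · exact Or.inr (Or.inr (Or.inr (Or.inr (Or.inr (Or.inr (Or.inr (Or.inr (Or.inr (Or.inr (Or.inr (Or.inr (Or.inr (Or.inr (Or.inr (Or.inl ⟨K, hK, hc, hns, hsim, Aschbacher.Ev.eq_field hR f h5 hH le_rfl hK hle⟩)))))))))))))))
    · obtain ⟨a, k, e, P, f₁, f₂, ha, hak, ⟨i, rfl⟩, ⟨j, rfl⟩, h₁, h₂, hstr, hvan, hle, hq⟩ := h
      have hc := Fintype.card_congr e
      simp only [Fintype.card_prod, Fintype.card_fin] at hc
      have hi : i = 1 ∧ j = 3 := by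
        have h3 : i * j = 3 := by nlinarith
        have : i * i ≤ 3 := h3 ▸ Nat.mul_le_mul_left i (by omega)
        have : i = 1 := by nlinarith
        subst this
        omega
      obtain ⟨rfl, rfl⟩ := hi
      exact Or.inr (Or.inr (Or.inr (Or.inr (Or.inr (Or.inr (Or.inr (Or.inr (Or.inr (Or.inr (Or.inr (Or.inr (Or.inr (Or.inr (Or.inr (Or.inr (Or.inl ⟨hq (by norm_num), e, P, f₁, f₂, h₁, h₂, hstr, hvan, Aschbacher.Ev.eq_tensor hR f h5 hH le_rfl (by norm_num) hle⟩))))))))))))))))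
    · obtain ⟨a, k, e, P, G, S, h2, ha, hak, hG, hS, hGs, hSs, hpull, hle⟩ := h
      have hc := Fintype.card_congr e
      simp only [Fintype.card_prod, Fintype.card_fin] at hc
      obtain ⟨rfl, rfl⟩ : a = 3 ∧ k = 4 := by
        have : a * a ≤ 12 := hc ▸ Nat.mul_le_mul_left a hak
        obtain rfl : a = 3 := by nlinarith
        omega
      obtain ⟨e', P', f₁, f₂, h₁, h₂, hstr, hvan, hle'⟩ := Aschbacher.Ev.altTensor_of_sym_four hR h2 hI hirr
        (fun g hg => Aschbacher.Ev.det_omegaGL (hH.1.le hg)) e P hG hS hGs hSs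
        ((Aschbacher.Ev.plus_iff_sym_four hR h2 e P hG hS hSs hpull).1 hplus) hpull hle
      have hq : 3 ≤ Fintype.card F := by
        obtain ⟨j, hj⟩ := Aschbacher.odd_card_iff.2 h2
        have := Fintype.one_lt_card (α := F)
        omega
      exact Or.inr (Or.inr (Or.inr (Or.inr (Or.inr (Or.inr (Or.inr (Or.inr (Or.inr (Or.inr (Or.inr (Or.inr (Or.inr (Or.inr (Or.inr (Or.inr (Or.inl ⟨hq, e', P', f₁, f₂, h₁, h₂, hstr, hvan, Aschbacher.Ev.eq_tensor hR f h5 hH le_rfl (by norm_num) hle'⟩))))))))))))))))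
    · obtain ⟨a, b, ha, hb, hc, -⟩ := h
      rw [Fintype.card_fin] at hc
      exfalso
      have h1 : a ^ 2 ≤ 12 := hc ▸ Nat.pow_le_pow_right (by omega) hb
      have : a ≤ 3 := by nlinarith
      have : b ≤ 3 := by
        by_contra hb'
        have h1 : 2 ^ 4 ≤ a ^ b := (Nat.pow_le_pow_left ha 4).trans (Nat.pow_le_pow_right (by omega) (by omega))
        omega
      interval_cases a <;> interval_cases b <;> omega
    · exact Or.inr (Or.inr (Or.inr (Or.inr (Or.inr (Or.inr (Or.inr (Or.inr (Or.inr (Or.inr (Or.inr (Or.inr (Or.inr (Or.inr (Or.inr (Or.inr (Or.inr (Or.inl (Aschbacher.Ev.eq_subfield hR f h5 hH h))))))))))))))))))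
    · exact Or.inr (Or.inr (Or.inr (Or.inr (Or.inr (Or.inr (Or.inr (Or.inr (Or.inr (Or.inr (Or.inr (Or.inr (Or.inr (Or.inr (Or.inr (Or.inr (Or.inr (Or.inr (h))))))))))))))))))
  · rcases Aschbacher.Ev.subspace_items hR f h5 hH (by simp) (by simp) hirr with h | h
    · rcases h with h | h | h | h | h | h
      · obtain ⟨W, h0, hW, he⟩ := h
        obtain ⟨T, -, hT, hdT⟩ := id hplus
        rw [finrank_top, Module.finrank_fintype_fun_eq_card] at hdT
        refine Or.inl ⟨W, h0, hW, fun h4 => ?_, he⟩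
        exact Aschbacher.Ev.false_of_between hH (he.le.trans inf_le_left)
          (Forms.Max.Orth.singular_between hR (by simp) hW hT hdT (by rw [h4, Fintype.card_fin]))
      · obtain ⟨ho, W, h0, h1, hod, hne, hW, he⟩ := h
        exact Or.inr (Or.inl ⟨ho, W, h0, h1, hod, by simpa using hne, hW, he⟩)
      · exact Or.inr (Or.inr (Or.inl h))
      · exact Or.inr (Or.inr (Or.inr (Or.inl h)))
      · exact Or.inr (Or.inr (Or.inr (Or.inr (Or.inl h))))
      · exact Or.inr (Or.inr (Or.inr (Or.inr (Or.inr (Or.inl h)))))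
    · obtain ⟨k, D, hk, hD, -, hle⟩ := Aschbacher.Ev.exists_halves hR hH h
      rw [Fintype.card_fin] at hk
      obtain rfl : k = 6 := by omega
      exact Or.inr (Or.inr (Or.inr (Or.inr (Or.inr (Or.inr (Or.inr (Or.inr (Or.inr (Or.inr (Or.inr (Or.inl ⟨D, Aschbacher.Ev.halves_isometric hR (by decide) (by simp) hD hplus, Aschbacher.Ev.eq_decomposition hR f h5 hH hD hle⟩)))))))))))

end Cfsg.Agent.S5871
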