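import Cfsg.Statements.S5873
import Cfsg.Agent.Lib.Forms.Max.OrthLists
import Cfsg.Agent.Lib.Forms.Max.OrthExtField.Normalizer
import Cfsg.Agent.Lib.Forms.Max.OrthOrth.Maximal
import Cfsg.Agent.SimpleFacts.OrthDecomp.Maximal

set_option autoImplicit false
open Cfsg

namespace Cfsg.Agent.S5873

/-- Maximal subgroups of Ω_12^-(q) of geometric type (any q). Let F be a finite field with q elements (characteristic p), Q a non-degenerate quadratic form on F^12 (non-degenerate polar form) of minus type (Witt index 5: no totally singular 6-space), and Ω = Ω_12^-(q) the commutator subgroup of the isometry group of Q, inside GL_12(F). Each of the following, intersected with Ω, is a maximal subgroup of Ω: (1) the stabiliser of any non-zero subspace on which Q vanishes identically (totally singular subspaces, dimensions 1 to 5); (2) for q odd, the stabiliser of any subspace of odd dimension on which the polar form of Q is non-degenerate; (3) the stabiliser of any non-degenerate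 2-space of minus type (containing no non-zero singular vector); (4) for q ≥ 4, the stabiliser of any non-degenerate 2-space of plus type (containing a non-zero singular vector); (5) the stabiliser of any non-degenerate 4-space (either type); (6) the stabiliser of any non-degenerate 6-space (either type); (7) for q even, the stabiliser of the 1-space spanned by any non-singular vector v (Q(v) ≠ 0); (8) the stabiliser of any decomposition of F^12 into 3 pairwise orthogonal, pairwise Q-isometric non-degenerate 4-spaces of minus type; (9) for q odd, the normaliser of any degree-2 subfield K of the matrix algebra whose elements are self-adjoint for the polar form of Q (Q is then the trace of a quadratic form over K); (10) for q odd, the normaliser of any degree-3 subfield K of the matrix algebra whose elements are self-adjoint for the polar form of Q (Q is then the trace of a quadratic form over K); (11) for q odd with q ≥ 5, the stabiliser of any tensor decomposition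 F^12 = F^3 ⊗ F^4 in which the polar form of Q is the product of non-degenerate symmetric bilinear forms, the second of minus type, up to a scalar; (12) every subfield group for a subfield F₀ with |F| = |F₀|^r, r an odd prime, whose F₀-structure carries a non-zero scalar multiple of Q. -/
theorem result {F : Type*} [Field F] [Fintype F] (Q : (Fin 12 → F) → F) (hQ : Cfsg.Geo.IsNondegenerateQuadraticForm Q) (hminus : ¬ Cfsg.Geo.IsPlusTypeOn Q ⊤) :
    (∀ W : Submodule F (Fin 12 → F), W ≠ ⊥ → Cfsg.Geo.IsTotallySingularQuad Q W → Cfsg.Geo.IsMaximalIn (Cfsg.Geo.omegaGL Q) (Cfsg.Geo.subspaceStabilizer W ⊓ Cfsg.Geo.omegaGL Q)) ∧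
    (Odd (Fintype.card F) → ∀ W : Submodule F (Fin 12 → F), W ≠ ⊥ → W ≠ ⊤ → Odd (Module.finrank F W) → 2 * Module.finrank F W ≠ 12 → Cfsg.Geo.IsNondegenerateOn (QuadraticMap.polar Q) W → Cfsg.Geo.IsMaximalIn (Cfsg.Geo.omegaGL Q) (Cfsg.Geo.subspaceStabilizer W ⊓ Cfsg.Geo.omegaGL Q)) ∧
    (∀ W : Submodule F (Fin 12 → F), Module.finrank F W = 2 → Cfsg.Geo.IsNondegenerateOn (QuadraticMap.polar Q) W → ¬ Cfsg.Geo.IsPlusTypeOn Q W → Cfsg.Geo.IsMaximalIn (Cfsg.Geo.omegaGL Q) (Cfsg.Geo.subspaceStabilizer W ⊓ Cfsg.Geo.omegaGL Q)) ∧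
    (4 ≤ Fintype.card F → ∀ W : Submodule F (Fin 12 → F), Module.finrank F W = 2 → Cfsg.Geo.IsNondegenerateOn (QuadraticMap.polar Q) W → Cfsg.Geo.IsPlusTypeOn Q W → Cfsg.Geo.IsMaximalIn (Cfsg.Geo.omegaGL Q) (Cfsg.Geo.subspaceStabilizer W ⊓ Cfsg.Geo.omegaGL Q)) ∧
    (∀ W : Submodule F (Fin 12 → F), Module.finrank F W = 4 → Cfsg.Geo.IsNondegenerateOn (QuadraticMap.polar Q) W → Cfsg.Geo.IsMaximalIn (Cfsg.Geo.omegaGL Q) (Cfsg.Geo.subspaceStabilizer W ⊓ Cfsg.Geo.omegaGL Q)) ∧
    (∀ W : Submodule F (Fin 12 → F), Module.finrank F W = 6 → Cfsg.Geo.IsNondegenerateOn (QuadraticMap.polar Q) W → Cfsg.Geo.IsMaximalIn (Cfsg.Geo.omegaGL Q) (Cfsg.Geo.subspaceStabilizer W ⊓ Cfsg.Geo.omegaGL Q)) ∧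
    (¬ Odd (Fintype.card F) → ∀ v : (Fin 12 → F), Q v ≠ 0 → Cfsg.Geo.IsMaximalIn (Cfsg.Geo.omegaGL Q) (Cfsg.Geo.subspaceStabilizer (Submodule.span F {v}) ⊓ Cfsg.Geo.omegaGL Q)) ∧
    (∀ D : Fin 3 → Submodule F (Fin 12 → F), Cfsg.Geo.IsOrthogonalMDecomposition Q 4 D → (∀ i, ¬ Cfsg.Geo.IsPlusTypeOn Q (D i)) → Cfsg.Geo.IsMaximalIn (Cfsg.Geo.omegaGL Q) (Cfsg.Geo.decompositionStabilizer D ⊓ Cfsg.Geo.omegaGL Q)) ∧
    (Odd (Fintype.card F) → ∀ K : Subalgebra F (Matrix (Fin 12) (Fin 12) F), Cfsg.Geo.IsFieldSubalgebra 2 K → Cfsg.Geo.IsSelfAdjointFor (QuadraticMap.polar Q) K → Cfsg.Geo.IsMaximalIn (Cfsg.Geo.omegaGL Q) (Cfsg.Geo.subalgebraNormalizer K ⊓ Cfsg.Geo.omegaGL Q)) ∧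
    (Odd (Fintype.card F) → ∀ K : Subalgebra F (Matrix (Fin 12) (Fin 12) F), Cfsg.Geo.IsFieldSubalgebra 3 K → Cfsg.Geo.IsSelfAdjointFor (QuadraticMap.polar Q) K → Cfsg.Geo.IsMaximalIn (Cfsg.Geo.omegaGL Q) (Cfsg.Geo.subalgebraNormalizer K ⊓ Cfsg.Geo.omegaGL Q)) ∧
    (Odd (Fintype.card F) ∧ 5 ≤ Fintype.card F → ∀ (e : Fin 12 ≃ Fin 3 × Fin 4) (P : Matrix.GeneralLinearGroup (Fin 12) F) (f₁ : (Fin 3 → F) → (Fin 3 → F) → F) (f₂ : (Fin 4 → F) → (Fin 4 → F) → F), Cfsg.Geo.IsSymmetricForm f₁ → Cfsg.Geo.IsSymmetricForm f₂ → ¬ Cfsg.Geo.IsPlusTypeOn (fun v : Fin 4 → F => f₂ v v) ⊤ → Cfsg.Geo.IsTensorFormStructure id (QuadraticMap.polar Q) f₁ f₂ e P → Cfsg.Geo.IsMaximalIn (Cfsg.Geo.omegaGL Q) (Cfsg.Geo.tensorProductSubgroup 3 4 e P ⊓ Cfsg.Geo.omegaGL Q)) ∧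
    (∀ (F₀ : Subfield F) (r : ℕ) (P : Matrix.GeneralLinearGroup (Fin 12) F) (ζ : F), r.Prime → Odd r → Fintype.card F = Nat.card F₀ ^ r → ζ ≠ 0 → Cfsg.Geo.IsQuadFormRationalStructure (fun v : Fin 12 → F => ζ * Q v) F₀ P → Cfsg.Geo.IsMaximalIn (Cfsg.Geo.omegaGL Q) (Cfsg.Geo.subfieldSubgroup F₀ P ⊓ Cfsg.Geo.omegaGL Q)) := by
  obtain ⟨R, rfl, hR⟩ := Forms.Max.Orth.exists_form hQ
  have two : Odd (Fintype.card F) → (2 : F) ≠ 0 := Agent.Classical.OrthForms.two_ne_zero_of_odd
  have hno : ∀ T : Submodule F (Fin 12 → F), (∀ x ∈ T, R x = 0) → 2 * Module.finrank F T ≠ 12 :=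
    fun T hT hd => hminus ⟨T, le_top, hT, by
      rw [finrank_top, Module.finrank_fintype_fun_eq_card, Fintype.card_fin]; omega⟩
  refine ⟨fun W hW0 hW => ?_,
    fun _ W hW0 hW1 ho hhalf hW => Forms.Max.OrthLists.odd_dim hR (by norm_num) (by decide) hW0 hW1 ho hhalf hW,
    fun W hd hW hm => Forms.Max.OrthLists.small_space hR (by norm_num) 2 hd (by norm_num) (by norm_num)
      (by norm_num) hW (fun _ h => absurd h hm),
    fun h4 W hd hW _ => Forms.Max.OrthLists.small_space hR (by norm_num) 2 hd (by norm_num) (by norm_num)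
      (by norm_num) hW (fun _ _ => h4),
    fun W hd hW => Forms.Max.OrthLists.small_space hR (by norm_num) 4 hd (by norm_num) (by norm_num)
      (by norm_num) hW (fun h => absurd h (by norm_num)),
    fun W hd hW => ?_,
    fun hc v hv => Forms.Max.OrthLists.vector hR (by norm_num) hc hv,
    fun D hD hm => ?_,
    fun hodd K hK hsa => Forms.Max.OrthExtField.maximal ⇑R hQ hodd (by simp) 2 Nat.prime_two
      (fun d hd => Or.inl (by simp only [Fintype.card_fin] at hd; exact ⟨by omega, Or.inl (by omega)⟩)) K hK hsa,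
    fun hodd K hK hsa => Forms.Max.OrthExtField.maximal ⇑R hQ hodd (by simp) 3 Nat.prime_three
      (fun d hd => Or.inl (by simp only [Fintype.card_fin] at hd; exact ⟨by omega, Or.inr le_rfl⟩)) K hK hsa,
    fun ⟨hodd, h5⟩ e P f₁ f₂ hf₁ hf₂ hf₂m hT => ?_,
    fun F₀ r P ζ hr _ hcard hζ hP => Forms.Max.OrthLists.subfield hR (by norm_num) F₀ r P ζ hr hcard hζ hP⟩
  · refine Forms.Max.Orth.singular_maximal hR (by simp) hW (fun T hT hT' => absurd (by simpa using hT') (hno T hT)) hW0
  · have hWn : ∀ w ∈ W, w ≠ 0 → ∃ x ∈ W, QuadraticMap.polar (⇑R) w x ≠ 0 := fun w h h' => (hW w h h').2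
    refine Forms.Max.Orth.nondeg_maximal' hR (by simp) (fun e => by rw [e, finrank_bot] at hd; omega)
      (fun e => by rw [e, finrank_top, Module.finrank_fintype_fun_eq_card, Fintype.card_fin] at hd; omega) hW
      (fun _ g => ?_) fun P h2 _ _ hP _ => ?_
    · by_contra hc
      push Not at hc
      obtain ⟨T, hT, hTd⟩ := Forms.Max.Orth.plus_of_halves hR hWn (by simp [hd]) (by rw [hd]; decide) hc
      exact hno T hT (by simpa using hTd)
    · have hp := Forms.Max.Orth.finrank_perp hR W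
      rw [Fintype.card_fin, hd] at hp
      rcases hP with rfl | rfl <;> omega
  · by_cases hodd : Odd (Fintype.card F)
    · exact Forms.Max.OrthBlocks.maximal hR hD (by norm_num) (by simp) (by norm_num) (two hodd)
    · have h2 : (2 : F) = 0 := by
        by_contra h2
        refine hodd ?_
        rw [Nat.odd_iff]
        refine FiniteField.odd_card_of_char_ne_two fun hc => h2 ?_
        have : CharP F 2 := (ringChar.eq_iff).1 hc
        exact CharTwo.two_eq_zero
      exact SimpleFacts.OrthDecomp.maximal_even hR h2 hD le_rfl (by simp) (fun _ _ => hm)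
  · exact Forms.Max.OrthOrth.orth_tensor_maximal' R hR (two hodd) le_rfl (by norm_num) le_rfl (Or.inl h5) e P f₁ f₂
      hf₁ hf₂ (fun h => absurd h (by norm_num)) (fun _ => hf₂m) hT

end Cfsg.Agent.S5873
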