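import Cfsg.Statements.S5874
import Cfsg.Agent.Aschbacher.Ev.TwelveLists
import Cfsg.Agent.Aschbacher.Sp.Tensor

set_option autoImplicit false
open Cfsg
open Cfsg.Agent.Aschbacher (Irred)

namespace Cfsg.Agent.S5874

/-- Every maximal subgroup of Ω_12^-(q) is of one of the listed geometric types or lies in the residual class. Let F be a finite field with q elements (characteristic p), Q a non-degenerate quadratic form on F^12 of minus type (Witt index 5: no totally singular 6-space), Ω the commutator subgroup of its isometry group, and H a maximal subgroup of Ω (inside GL_12(F)). Then H is the intersection with Ω of one of: the stabiliser of a non-zero totally singular subspace; for q odd, the stabiliser of a non-degenerate subspace of odd dimension; the stabiliser of a non-degenerate 2-space of minus type; for q ≥ 4, the stabiliser of a non-degenerate 2-space of plus type; the stabiliser of a non-degenerate 4-space; the stabiliser of a non-degenerate 6-space;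 for q even, the stabiliser of the span of a non-singular vector; the stabiliser of a decomposition into 3 pairwise orthogonal, pairwise isometric non-degenerate 4-spaces of minus type; the normaliser of a degree-2 subfield of the matrix algebra; the normaliser of a degree-3 subfield of the matrix algebra; for q odd with q ≥ 5, the stabiliser of a tensor decomposition of the polar form into symmetric forms on F^3 and F^4 (minus type); a subfield group (|F| = |F₀|^r, r odd prime) whose F₀-structure carries a non-zero multiple of Q — or else H lies in the residual class of the orthogonal case (modulo scalars H is almost simple, with absolutely irreducible perfect socle preimage realisable over no proper subfield and fixing no non-degenerate unitary form). -/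
theorem result {F : Type*} [Field F] [Fintype F] (Q : (Fin 12 → F) → F) (hQ : Cfsg.Geo.IsNondegenerateQuadraticForm Q) (hminus : ¬ Cfsg.Geo.IsPlusTypeOn Q ⊤) (H : Subgroup (Matrix.GeneralLinearGroup (Fin 12) F)) (hH : Cfsg.Geo.IsMaximalIn (Cfsg.Geo.omegaGL Q) H) :
    (∃ W : Submodule F (Fin 12 → F), W ≠ ⊥ ∧ Cfsg.Geo.IsTotallySingularQuad Q W ∧ H = Cfsg.Geo.subspaceStabilizer W ⊓ Cfsg.Geo.omegaGL Q) ∨
    (Odd (Fintype.card F) ∧ ∃ W : Submodule F (Fin 12 → F), W ≠ ⊥ ∧ W ≠ ⊤ ∧ Odd (Module.finrank F W) ∧ 2 * Module.finrank F W ≠ 12 ∧ Cfsg.Geo.IsNondegenerateOn (QuadraticMap.polar Q) W ∧ H = Cfsg.Geo.subspaceStabilizer W ⊓ Cfsg.Geo.omegaGL Q) ∨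
    (∃ W : Submodule F (Fin 12 → F), Module.finrank F W = 2 ∧ Cfsg.Geo.IsNondegenerateOn (QuadraticMap.polar Q) W ∧ ¬ Cfsg.Geo.IsPlusTypeOn Q W ∧ H = Cfsg.Geo.subspaceStabilizer W ⊓ Cfsg.Geo.omegaGL Q) ∨
    (4 ≤ Fintype.card F ∧ ∃ W : Submodule F (Fin 12 → F), Module.finrank F W = 2 ∧ Cfsg.Geo.IsNondegenerateOn (QuadraticMap.polar Q) W ∧ Cfsg.Geo.IsPlusTypeOn Q W ∧ H = Cfsg.Geo.subspaceStabilizer W ⊓ Cfsg.Geo.omegaGL Q) ∨
    (∃ W : Submodule F (Fin 12 → F), Module.finrank F W = 4 ∧ Cfsg.Geo.IsNondegenerateOn (QuadraticMap.polar Q) W ∧ H = Cfsg.Geo.subspaceStabilizer W ⊓ Cfsg.Geo.omegaGL Q) ∨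
    (∃ W : Submodule F (Fin 12 → F), Module.finrank F W = 6 ∧ Cfsg.Geo.IsNondegenerateOn (QuadraticMap.polar Q) W ∧ H = Cfsg.Geo.subspaceStabilizer W ⊓ Cfsg.Geo.omegaGL Q) ∨
    (¬ Odd (Fintype.card F) ∧ ∃ v : (Fin 12 → F), Q v ≠ 0 ∧ H = Cfsg.Geo.subspaceStabilizer (Submodule.span F {v}) ⊓ Cfsg.Geo.omegaGL Q) ∨
    (∃ D : Fin 3 → Submodule F (Fin 12 → F), Cfsg.Geo.IsOrthogonalMDecomposition Q 4 D ∧ (∀ i, ¬ Cfsg.Geo.IsPlusTypeOn Q (D i)) ∧ H = Cfsg.Geo.decompositionStabilizer D ⊓ Cfsg.Geo.omegaGL Q) ∨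
    (∃ K : Subalgebra F (Matrix (Fin 12) (Fin 12) F), Cfsg.Geo.IsFieldSubalgebra 2 K ∧ H = Cfsg.Geo.subalgebraNormalizer K ⊓ Cfsg.Geo.omegaGL Q) ∨
    (∃ K : Subalgebra F (Matrix (Fin 12) (Fin 12) F), Cfsg.Geo.IsFieldSubalgebra 3 K ∧ H = Cfsg.Geo.subalgebraNormalizer K ⊓ Cfsg.Geo.omegaGL Q) ∨
    (Odd (Fintype.card F) ∧ 5 ≤ Fintype.card F ∧ ∃ (e : Fin 12 ≃ Fin 3 × Fin 4) (P : Matrix.GeneralLinearGroup (Fin 12) F) (f₁ : (Fin 3 → F) → (Fin 3 → F) → F) (f₂ : (Fin 4 → F) → (Fin 4 → F) → F), Cfsg.Geo.IsSymmetricForm f₁ ∧ Cfsg.Geo.IsSymmetricForm f₂ ∧ ¬ Cfsg.Geo.IsPlusTypeOn (fun v : Fin 4 → F => f₂ v v) ⊤ ∧ Cfsg.Geo.IsTensorFormStructure id (QuadraticMap.polar Q) f₁ f₂ e P ∧ H = Cfsg.Geo.tensorProductSubgroup 3 4 e P ⊓ Cfsg.Geo.omegaGL Q) ∨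
    (∃ (F₀ : Subfield F) (r : ℕ) (P : Matrix.GeneralLinearGroup (Fin 12) F) (ζ : F), r.Prime ∧ Odd r ∧ Fintype.card F = Nat.card F₀ ^ r ∧ ζ ≠ 0 ∧ Cfsg.Geo.IsQuadFormRationalStructure (fun v : Fin 12 → F => ζ * Q v) F₀ P ∧ H = Cfsg.Geo.subfieldSubgroup F₀ P ⊓ Cfsg.Geo.omegaGL Q) ∨
    Cfsg.Geo.InOrthogonalResidualClass H := by
  classical
  obtain ⟨R, rfl, hR⟩ := Forms.Max.Orth.exists_form hQ
  obtain ⟨f⟩ := Aschbacher.Ev.exists_frame_ev hR (by simp) (fun h => absurd h (by simp))
  have h5 : 5 ≤ Fintype.card (Fin 12) := by simp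
  have hI := Aschbacher.Ev.hI_of_max hR hH
  have hdiv : ∀ t : ℕ, t ∣ 12 → t = 1 ∨ t = 2 ∨ t = 3 ∨ t = 4 ∨ t = 6 ∨ t = 12 := fun t ht => by
    have := Nat.le_of_dvd (by norm_num) ht
    interval_cases t <;> revert ht <;> decide
  by_cases hirr : Irred H
  · by_cases hC : Aschbacher.Ev.CentreMember R H
    · rcases hC with ⟨t, k, D, htk, hD, hle⟩ | ⟨k, D, hk, hD, hts, hle⟩ | ⟨r, K, hr, hdvd, hK, -, hle⟩ |
        ⟨K, hK, hle⟩
      · rw [Fintype.card_fin] at htk
        have h2 := hD.decomp.decomp.two_le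
        have heven : ¬ Even t := fun he =>
          hminus (Aschbacher.Ev.plus_of_even_parts hR (m := 6) (by simp) (by decide) hD he)
        rcases hdiv t ⟨k, htk⟩ with rfl | rfl | rfl | rfl | rfl | rfl
        rotate_left 2
        · obtain rfl : k = 4 := by omega
          exact Or.inr (Or.inr (Or.inr (Or.inr (Or.inr (Or.inr (Or.inr (Or.inl ⟨D, hD, fun i hi => hminus ((Aschbacher.Ev.decomposition_plus_iff_of_odd hR (m := 2) hD (by decide) i).2 hi), Aschbacher.Ev.eq_decomposition hR f h5 hH hD.decomp hle⟩)))))))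
        all_goals first | omega | exact absurd (by decide) heven
      · exact absurd (Aschbacher.Ev.plus_of_pair hk hD hts) hminus
      · rw [Fintype.card_fin] at hdvd
        have he := Aschbacher.Ev.eq_field hR f h5 hH hr.two_le hK hle
        rcases hdiv r hdvd with rfl | rfl | rfl | rfl | rfl | rfl
        · exact absurd hr (by norm_num)
        · exact Or.inr (Or.inr (Or.inr (Or.inr (Or.inr (Or.inr (Or.inr (Or.inr (Or.inl ⟨K, hK, he⟩))))))))
        · exact Or.inr (Or.inr (Or.inr (Or.inr (Or.inr (Or.inr (Or.inr (Or.inr (Or.inr (Or.inl ⟨K, hK, he⟩)))))))))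
        all_goals exact absurd hr (by norm_num)
      · exact Or.inr (Or.inr (Or.inr (Or.inr (Or.inr (Or.inr (Or.inr (Or.inr (Or.inl ⟨K, hK.1, Aschbacher.Ev.eq_field hR f h5 hH le_rfl hK.1 hle⟩))))))))
    rcases Aschbacher.Ev.irred_items hR hH (by simp) (by decide) hirr with h | h | h | h | h | h
    · exact absurd h hC
    · obtain ⟨a, k, e, P, -, -, ha, hak, ⟨i, rfl⟩, ⟨j, rfl⟩, -, -, -, hvan, -, -⟩ := h
      have hc := Fintype.card_congr e
      simp only [Fintype.card_prod, Fintype.card_fin] at hc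
      obtain rfl : i = 1 := by
        have h3 : i * j = 3 := by nlinarith
        have : i * i ≤ 3 := h3 ▸ Nat.mul_le_mul_left i (by omega)
        nlinarith
      exact absurd (Aschbacher.Ev.plus_of_alt_two hR e P hvan) hminus
    · obtain ⟨a, k, e, P, G, S, h2, ha, hak, hG, hS, hGs, hSs, hpull, hle⟩ := h
      have hc := Fintype.card_congr e
      simp only [Fintype.card_prod, Fintype.card_fin] at hc
      obtain ⟨rfl, rfl⟩ : a = 3 ∧ k = 4 := by
        have : a * a ≤ 12 := hc ▸ Nat.mul_le_mul_left a hak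
        obtain rfl : a = 3 := by nlinarith
        omega
      by_cases h3 : Fintype.card F = 3
      · exact absurd (Aschbacher.Ev.centreMember_of_outcome hR hH (by simp) hirr
          (Aschbacher.Ev.centre_of_sym_three hR h3 hI hirr e P hG hS hGs hpull hle)) hC
      have ho := Aschbacher.odd_card_iff.2 h2
      have hq : 5 ≤ Fintype.card F := by
        obtain ⟨j, hj⟩ := ho
        have := Fintype.one_lt_card (α := F)
        omega
      exact Or.inr (Or.inr (Or.inr (Or.inr (Or.inr (Or.inr (Or.inr (Or.inr (Or.inr (Or.inr (Or.inl ⟨ho, hq, e, P, _, _, Aschbacher.isSymmetricForm_sesqForm hGs hG, Aschbacher.isSymmetricForm_sesqForm hSs hS, fun hp => hminus ((Aschbacher.Ev.plus_iff_sym_four hR h2 e P hG hS hSs hpull).2 hp), Aschbacher.Ev.isTensorFormStructure_of_pull hR e P hpull, Aschbacher.Ev.eq_tensor hR f h5 hH (by norm_num) (by norm_num) hle⟩))))))))))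
    · obtain ⟨a, b, ha, hb, hc, -⟩ := h
      rw [Fintype.card_fin] at hc
      exfalso
      have h1 : a ^ 2 ≤ 12 := hc ▸ Nat.pow_le_pow_right (by omega) hb
      have : a ≤ 3 := by nlinarith
      have : b ≤ 3 := by
        by_contra hb'
        have h1 : 2 ^ 4 ≤ a ^ b := (Nat.pow_le_pow_left ha 4).trans (Nat.pow_le_pow_right (by omega) (by omega))
        omega
      interval_cases a <;> interval_cases b <;> omega
    · exact Or.inr (Or.inr (Or.inr (Or.inr (Or.inr (Or.inr (Or.inr (Or.inr (Or.inr (Or.inr (Or.inr (Or.inl (Aschbacher.Ev.eq_subfield_minus hR f h5 hH (m := 6) (by simp) hminus h))))))))))))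
    · exact Or.inr (Or.inr (Or.inr (Or.inr (Or.inr (Or.inr (Or.inr (Or.inr (Or.inr (Or.inr (Or.inr (Or.inr (h))))))))))))
  · rcases Aschbacher.Ev.subspace_items hR f h5 hH (by simp) (by simp) hirr with h | h
    · rcases h with h | h | h | h | h | h
      · exact Or.inl h
      · obtain ⟨ho, W, h0, h1, hod, hne, hW, he⟩ := h
        exact Or.inr (Or.inl ⟨ho, W, h0, h1, hod, by simpa using hne, hW, he⟩)
      · exact Or.inr (Or.inr (Or.inl h))
      · exact Or.inr (Or.inr (Or.inr (Or.inl h)))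
      · exact Or.inr (Or.inr (Or.inr (Or.inr (Or.inl h))))
      · exact Or.inr (Or.inr (Or.inr (Or.inr (Or.inr (Or.inr (Or.inl h))))))
    · obtain ⟨W, hW, hd, -, -, hle⟩ := h
      rw [Fintype.card_fin] at hd
      have h0 : W ≠ ⊥ := fun h => by rw [h, finrank_bot] at hd; omega
      have h1 : W ≠ ⊤ := fun h => by
        rw [h, finrank_top, Module.finrank_fintype_fun_eq_card, Fintype.card_fin] at hd
        omega
      exact Or.inr (Or.inr (Or.inr (Or.inr (Or.inr (Or.inl ⟨W, by omega, hW.isNondegenerateOn, Aschbacher.Ev.eq_subspace hR f h5 hH h0 h1 hle⟩)))))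

end Cfsg.Agent.S5874
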