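import Cfsg.Statements.S5877
import Cfsg.Agent.ExtraEigen.Main

set_option autoImplicit false
open Cfsg
open scoped commutatorElement

namespace Cfsg.Agent.S5877

/-- Eigenspaces of elements normalising an absolutely irreducible extraspecial group. Let F be a finite field, r a prime, and R ≤ GL_n(F) an absolutely irreducible extraspecial r-group (an r-group whose centre equals its derived subgroup and has order r) of exponent r or 4. Let g ∈ GL_n(F) normalise the product of R with the scalar matrices, have prime order ϖ and not be scalar, and let W be the eigenspace of g for any c ∈ F (W may be the zero subspace). Then dim W ≤ 3n/4 if ϖ = 2, dim W ≤ 2n/3 if ϖ = 3, and dim W ≤ n/2 if ϖ > 3; moreover if ϖ = 3 and 3 does not divide n then dim W ≤ n/2. -/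
theorem result {F : Type*} [Field F] [Fintype F] {n r ϖ : ℕ} (R : Subgroup (Matrix.GeneralLinearGroup (Fin n) F)) (hr : r.Prime) (hR : IsPGroup r R) (hZ : Nat.card (Subgroup.center R) = r) (hext : commutator R = Subgroup.center R) (hexp : Monoid.exponent R = r ∨ Monoid.exponent R = 4) (hirr : Cfsg.Geo.ActsAbsolutelyIrreducibly (Cfsg.Geo.matrixSet R)) (g : Matrix.GeneralLinearGroup (Fin n) F) (hg : g ∈ Cfsg.Geo.subgroupNormalizer (R ⊔ Cfsg.Geo.scalars (Fin n) F)) (hϖ : ϖ.Prime) (hord : orderOf g = ϖ) (hns : g ∉ Cfsg.Geo.scalars (Fin n) F) (c : F) :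
    (ϖ = 2 → 4 * Module.finrank F (Module.End.eigenspace (Matrix.toLin' (g : Matrix (Fin n) (Fin n) F)) c) ≤ 3 * n) ∧
    (ϖ = 3 → 3 * Module.finrank F (Module.End.eigenspace (Matrix.toLin' (g : Matrix (Fin n) (Fin n) F)) c) ≤ 2 * n) ∧
    (3 < ϖ → 2 * Module.finrank F (Module.End.eigenspace (Matrix.toLin' (g : Matrix (Fin n) (Fin n) F)) c) ≤ n) ∧
    (ϖ = 3 → ¬ 3 ∣ n → 2 * Module.finrank F (Module.End.eigenspace (Matrix.toLin' (g : Matrix (Fin n) (Fin n) F)) c) ≤ n) := by
  obtain ⟨h1, h2⟩ := ExtraEigen5877.bounds R hr hR hZ hext hexp hirr g hg hϖ hord hns c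
  have he : ExtraEigen5877.act g = Matrix.toLin' (g : Matrix (Fin n) (Fin n) F) := rfl
  rw [he] at h1 h2
  set w := Module.finrank F (Module.End.eigenspace (Matrix.toLin' (g : Matrix (Fin n) (Fin n) F)) c)
  have hr2 := hr.two_le
  refine ⟨fun _ => ?_, fun h3 => ?_, fun h3 => ?_, fun h3 hn => ?_⟩
  · nlinarith
  · by_cases h : r = 2
    · have := h2 (h3 ▸ (by decide : Odd 3)) (Or.inl (by omega))
      omega
    · have h3r : 3 ≤ r := by omega
      nlinarith
  · refine h2 (hϖ.odd_of_ne_two (by omega)) ?_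
    by_cases h : r = ϖ
    · refine Or.inr ?_
      rcases Nat.lt_or_ge r 5 with h5 | h5
      · exfalso
        have : r = 4 := by omega
        exact absurd (this ▸ hr) (by norm_num)
      · exact h5
    · exact Or.inl h
  · refine h2 (h3 ▸ (by decide : Odd 3)) (Or.inl fun hr3 => hn ?_)
    rw [h3] at hr3
    subst hr3
    -- a non-trivial commutator of `R` is a primitive scalar, so its determinant gives `r ∣ n`
    have hnc : ∃ a ∈ R, ∃ b ∈ R, ⁅a, b⁆ ≠ 1 := by
      by_contra hcon
      push Not at hcon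
      have hb : commutator R = ⊥ := by
        rw [eq_bot_iff, _root_.commutator_def, Subgroup.commutator_le]
        intro a _ b _
        exact Subgroup.mem_bot.2 (Subtype.ext (hcon a a.2 b b.2))
      rw [hext] at hb
      rw [hb, Subgroup.card_bot] at hZ
      omega
    obtain ⟨a, ha, b, hb, hne⟩ := hnc
    have haN : a ∈ R ⊔ Cfsg.Geo.scalars (Fin n) F := Subgroup.mem_sup_left ha
    have hbN : b ∈ R ⊔ Cfsg.Geo.scalars (Fin n) F := Subgroup.mem_sup_left hb
    obtain ⟨l, hl, hlv⟩ := ExtraEigen5877.exists_root R hr hZ hext hirr haN hbN hne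
    have hm : (a : Matrix (Fin n) (Fin n) F) * (b : Matrix (Fin n) (Fin n) F) =
        l • ((b : Matrix (Fin n) (Fin n) F) * (a : Matrix (Fin n) (Fin n) F)) := by
      refine Matrix.toLin'.injective (LinearMap.ext fun v => ?_)
      rw [map_smul, Matrix.toLin'_mul, Matrix.toLin'_mul]
      exact hlv v
    have hd := congrArg Matrix.det hm
    rw [Matrix.det_smul, Matrix.det_mul, Matrix.det_mul, Fintype.card_fin, mul_comm (Matrix.det _)] at hd
    rw [← hl]
    refine orderOf_dvd_of_pow_eq_one ?_
    exact ((mul_eq_right₀ (mul_ne_zero (Matrix.GeneralLinearGroup.det_ne_zero b) (Matrix.GeneralLinearGroup.det_ne_zero a))).1 hd.symm)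

end Cfsg.Agent.S5877
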