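import Cfsg.Statements.S5883
import Cfsg.Agent.Lib.Fi23Solvable.Maximal
import Cfsg.Agent.Lib.Fi23Solvable.Derived

set_option autoImplicit false
open Cfsg

namespace Cfsg.Agent.S5883

/-- The constant 10 in the statement that H⁽¹⁰⁾ is perfect for every maximal subgroup H of a finite almost simple group cannot be lowered to 9: there exist a finite almost simple group G (with a non-abelian simple normal subgroup of trivial centralizer) and a maximal subgroup H of G whose ninth derived subgroup H⁽⁹⁾ is not perfect, i.e. H⁽¹⁰⁾ ≠ H⁽⁹⁾. (A solvable maximal subgroup of derived length 10 in the Fischer group Fi₂₃ is such an example.) -/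
theorem result :
    ∃ (G : Type) (_ : Group G) (_ : Finite G) (S H : Subgroup G), S.Normal ∧ IsSimpleGroup S ∧ ¬ IsMulCommutative S ∧
      Subgroup.centralizer (S : Set G) = ⊥ ∧ IsCoatom H ∧ derivedSeries H 10 ≠ derivedSeries H 9 := by
  haveI hs : IsSimpleGroup InvChar.Coset.Fi23G.GG := InvChar.Coset.Fi23G.simple
  have hc := InvChar.Coset.Fi23Out.center_GG
  have hcent : Subgroup.centralizer ((⊤ : Subgroup InvChar.Coset.Fi23G.GG) : Set InvChar.Coset.Fi23G.GG) = ⊥ := by
    rw [← hc, Subgroup.coe_top, Subgroup.centralizer_univ]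
  refine ⟨InvChar.Coset.Fi23G.GG, inferInstance, inferInstance, ⊤, Fi23Solvable.H, inferInstance, ?_, ?_, hcent,
    Fi23Solvable.coatom, Fi23Solvable.derived_ten_ne⟩
  · exact Subgroup.topEquiv.isSimpleGroup_congr.mpr hs
  · intro hcomm
    have hle : (⊤ : Subgroup InvChar.Coset.Fi23G.GG) ≤ Subgroup.center InvChar.Coset.Fi23G.GG := fun a _ =>
      Subgroup.mem_center_iff.mpr fun b =>
        congrArg Subtype.val (hcomm.is_comm.comm ⟨b, Subgroup.mem_top b⟩ ⟨a, Subgroup.mem_top a⟩)
    rw [hc] at hle
    exact not_subsingleton InvChar.Coset.Fi23G.GG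
      ⟨fun a b => (Subgroup.mem_bot.mp (hle (Subgroup.mem_top a))).trans
        (Subgroup.mem_bot.mp (hle (Subgroup.mem_top b))).symm⟩

end Cfsg.Agent.S5883
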