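import Cfsg.Statements.S5885
import Mathlib

set_option autoImplicit false
open Cfsg

namespace Cfsg.Agent.S5885

open MulAction Pointwise

theorem isCoatom_subgroupOf_iff' {G : Type*} [Group G] {H K : Subgroup G} (hHK : H ≤ K) :
    IsCoatom (H.subgroupOf K) ↔ H ≠ K ∧ ∀ L : Subgroup G, H ≤ L → L ≤ K → L = H ∨ L = K := by
  constructor
  · intro h
    refine ⟨fun e => h.1 (by subst e; simp), fun L h1 h2 => ?_⟩
    have h3 : H.subgroupOf K ≤ L.subgroupOf K := fun x hx => h1 hx
    rcases h.le_iff.1 h3 with h4 | h4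
    · exact Or.inr (le_antisymm h2 (Subgroup.subgroupOf_eq_top.1 h4))
    · rw [Subgroup.subgroupOf_inj, inf_eq_left.2 h2, inf_eq_left.2 hHK] at h4
      exact Or.inl h4
  · rintro ⟨h1, h2⟩
    refine ⟨fun e => h1 (le_antisymm hHK (Subgroup.subgroupOf_eq_top.1 e)), fun L hL => ?_⟩
    have h3 : H ≤ L.map K.subtype := by
      intro x hx
      exact ⟨⟨x, hHK hx⟩, hL.le hx, rfl⟩
    rcases h2 _ h3 (Subgroup.map_subtype_le L) with h4 | h4
    · refine absurd ?_ hL.ne
      apply Subgroup.map_injective K.subtype_injective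
      rw [Subgroup.map_subgroupOf_eq_of_le hHK, h4]
    · apply Subgroup.map_injective K.subtype_injective
      rw [h4, ← MonoidHom.range_eq_map, K.range_subtype]

/-- The theorem when all three-cycles fixing the base point are available. -/
theorem key {G Ω : Type*} [Group G] [MulAction G Ω] [Finite Ω] [IsPretransitive G Ω]
    (hodd : Odd (Nat.card Ω))
    (h3 : ∀ a b c : Ω, a ≠ b → a ≠ c → b ≠ c →
      ∃ g : G, g • a = b ∧ g • b = c ∧ g • c = a ∧
        ∀ x : Ω, x ≠ a → x ≠ b → x ≠ c → g • x = x)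
    (a : Ω) (H K L : Subgroup G) (hH : H = K ⊓ stabilizer G a)
    (hmax : IsCoatom (H.subgroupOf (stabilizer G a)))
    (hHL : H ≤ L) (hLK : L ≤ K) : L = H ∨ L = K := by
  classical
  have hHa : H ≤ stabilizer G a := hH ▸ inf_le_right
  have hmax' := (isCoatom_subgroupOf_iff' hHa).1 hmax
  set B : Set Ω := MulAction.orbit L a with hB
  set D : Set Ω := MulAction.orbit K a with hD
  have hBD : B ⊆ D := by
    rintro x ⟨l, rfl⟩
    exact ⟨⟨(l : G), hLK l.2⟩, rfl⟩
  have haB : a ∈ B := MulAction.mem_orbit_self a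
  by_cases hB1 : B ⊆ {a}
  · left
    refine le_antisymm (fun l hl => ?_) hHL
    rw [hH]
    exact ⟨hLK hl, hB1 ⟨⟨l, hl⟩, rfl⟩⟩
  by_cases hB2 : D ⊆ B
  · right
    refine le_antisymm hLK (fun k hk => ?_)
    obtain ⟨l, hl⟩ := hB2 ⟨⟨k, hk⟩, rfl⟩
    have h : (l : G)⁻¹ * k ∈ H := by
      rw [hH]
      refine ⟨K.mul_mem (K.inv_mem (hLK l.2)) hk, ?_⟩
      have hl' : (l : G) • a = k • a := hl
      show ((l : G)⁻¹ * k) • a = a
      rw [mul_smul, ← hl', inv_smul_smul]
    have := L.mul_mem l.2 (hHL h)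
    simpa using this
  obtain ⟨b, hbB, hba⟩ := Set.not_subset.1 hB1
  replace hba : b ≠ a := by simpa using hba
  obtain ⟨d, hdD, hdB⟩ := Set.not_subset.1 hB2
  have hsub : H ≤ stabilizer G a ⊓ stabilizer G B := by
    refine le_inf hHa (fun x hx => ?_)
    exact MulAction.smul_orbit (⟨x, hHL hx⟩ : L) a
  -- `B` is a block of `K`
  have hblock : ∀ k ∈ K, ∀ x : Ω, x ∈ B → k • x ∈ B → k ∈ L := by
    rintro k hk x ⟨l, rfl⟩ ⟨l', hl'⟩
    have hl'' : (l' : G) • a = k • (l : G) • a := hl'
    have h : (l' : G)⁻¹ * (k * l) ∈ H := by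
      rw [hH]
      refine ⟨K.mul_mem (K.inv_mem (hLK l'.2)) (K.mul_mem hk (hLK l.2)), ?_⟩
      show ((l' : G)⁻¹ * (k * l)) • a = a
      rw [mul_smul, mul_smul, ← hl'', inv_smul_smul]
    have h' := L.mul_mem (L.mul_mem l'.2 (hHL h)) (L.inv_mem l.2)
    simpa [mul_assoc] using h'
  have hLB : ∀ k ∈ L, ∀ x : Ω, x ∈ B → k • x ∈ B := by
    rintro k hk x ⟨l, rfl⟩
    exact ⟨⟨k, hk⟩ * l, mul_smul _ _ _⟩
  -- a third point outside `B` of a three-cycle moving `b`
  have hthird : ∃ e : Ω, e ∉ B ∧ e ≠ d := by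
    by_contra hc
    push Not at hc
    obtain ⟨⟨k, hk⟩, hkd⟩ := hdD
    replace hkd : k • a = d := hkd
    have h1 : k • b ∉ B := by
      intro h
      exact hdB (hkd ▸ hLB k (hblock k hk b hbB h) a haB)
    exact hba (smul_left_cancel k ((hc _ h1).trans hkd.symm))
  obtain ⟨e, heB, hed⟩ := hthird
  -- the setwise stabiliser of `B` in the point stabiliser is `H`
  have hstab : stabilizer G a ⊓ stabilizer G B = H := by
    rcases hmax'.2 _ hsub inf_le_left with h | h
    · exact h
    · exfalso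
      obtain ⟨g, h1, h2, h3', h4⟩ := h3 b d e (fun h => hdB (h ▸ hbB))
        (fun h => heB (h ▸ hbB)) (Ne.symm hed)
      have hga : g ∈ stabilizer G a := h4 a (Ne.symm hba) (fun h => hdB (h ▸ haB))
        (fun h => heB (h ▸ haB))
      rw [← h] at hga
      have : g • b ∈ g • B := Set.smul_mem_smul_set hbB
      rw [show g • B = B from hga.2, h1] at this
      exact hdB this
  -- every three-cycle outside `B` preserves `D` and lies in `K`
  have hcyc : ∀ x y z : Ω, x ∉ B → y ∉ B → z ∉ B → x ≠ y → x ≠ z → y ≠ z →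
      ∃ g ∈ K, g • x = y ∧ g • y = z ∧ g • z = x ∧
        ∀ w : Ω, w ≠ x → w ≠ y → w ≠ z → g • w = w := by
    intro x y z hx hy hz hxy hxz hyz
    obtain ⟨g, h1, h2, h3', h4⟩ := h3 x y z hxy hxz hyz
    have hfix : ∀ w ∈ B, g • w = w := fun w hw => h4 w (fun h => hx (h ▸ hw))
      (fun h => hy (h ▸ hw)) (fun h => hz (h ▸ hw))
    have hg : g ∈ stabilizer G a ⊓ stabilizer G B := by
      refine ⟨hfix a haB, ?_⟩
      show g • B = B
      ext w
      rw [Set.mem_smul_set_iff_inv_smul_mem]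
      constructor
      · intro hw
        have := hfix _ hw
        rw [smul_inv_smul] at this
        exact this ▸ hw
      · intro hw
        rw [inv_smul_eq_iff.2 (hfix w hw).symm]
        exact hw
    rw [hstab, hH] at hg
    exact ⟨g, hg.1, h1, h2, h3', h4⟩
  obtain ⟨⟨kd, hkd⟩, hkd'⟩ := hdD
  replace hkd' : kd • a = d := hkd'
  -- a second point of the block through `d`
  have hd'B : kd • b ∉ B := fun h => hdB (hkd' ▸ hLB kd (hblock kd hkd b hbB h) a haB)
  have hd'd : kd • b ≠ d := fun h => hba (smul_left_cancel kd (h.trans hkd'.symm))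
  set d' := kd • b with hd'
  have hblock' : ∀ k ∈ K, ∀ x : Ω, x ∈ kd • B → k • x ∈ kd • B → k • (kd • B) = kd • B := by
    intro k hk x hx hkx
    rw [Set.mem_smul_set_iff_inv_smul_mem] at hx hkx
    have h1 : (kd⁻¹ * k * kd) • (kd⁻¹ • x) = kd⁻¹ • k • x := by
      simp [mul_smul]
    have h2 := hblock _ (K.mul_mem (K.mul_mem (K.inv_mem hkd) hk) hkd) _ hx (h1 ▸ hkx)
    have h3' : (kd⁻¹ * k * kd) • B = B := MulAction.smul_orbit (⟨_, h2⟩ : L) a
    rw [mul_smul, mul_smul, inv_smul_eq_iff] at h3'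
    exact h3'
  have hdmem : d ∈ kd • B := hkd' ▸ Set.smul_mem_smul_set haB
  have hd'mem : d' ∈ kd • B := Set.smul_mem_smul_set hbB
  -- a point outside both blocks
  obtain ⟨z, hzB, hzB'⟩ : ∃ z : Ω, z ∉ B ∧ z ∉ kd • B := by
    by_contra hc
    push Not at hc
    have hdisj : Disjoint B (kd • B) := by
      rw [Set.disjoint_right]
      intro x hx hx'
      rw [Set.mem_smul_set_iff_inv_smul_mem] at hx
      exact hdB (hkd' ▸ hLB kd (hblock kd hkd _ hx (by rwa [smul_inv_smul])) a haB)
    have huniv : B ∪ kd • B = Set.univ :=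
      Set.eq_univ_of_forall fun x => (Classical.em (x ∈ B)).imp_right (hc x)
    have := Set.ncard_union_eq hdisj (Set.toFinite _) (Set.toFinite _)
    rw [huniv, Set.ncard_univ, Set.ncard_smul_set] at this
    rw [this] at hodd
    exact (Nat.not_even_iff_odd.2 hodd) ⟨_, rfl⟩
  -- the cycle `(d d' z)`
  have hzd : z ≠ d := fun h => hzB' (h ▸ hdmem)
  have hzd' : z ≠ d' := fun h => hzB' (h ▸ hd'mem)
  obtain ⟨g, hg, h1, h2, -, -⟩ :=
    hcyc d d' z hdB hd'B hzB (Ne.symm hd'd) (Ne.symm hzd) (Ne.symm hzd')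
  have h5 := hblock' g hg d hdmem (h1 ▸ hd'mem)
  have : g • d' ∈ g • (kd • B) := Set.smul_mem_smul_set hd'mem
  rw [h5, h2] at this
  exact absurd this hzB'


/-- Let n be an odd positive integer such that every primitive permutation group of degree n contains the alternating group (so the symmetric and alternating groups are the only primitive groups of degree n). Let G be a finite group, M a maximal subgroup of G of index n, and H a maximal subgroup of M. Then H is a second maximal subgroup of G: H is maximal in every maximal subgroup K of G containing H. -/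
theorem result {G : Type*} [Group G]
    [Finite G] (n : ℕ) (hodd : Odd n)
    (hA : ∀ P : Subgroup (Equiv.Perm (Fin n)), MulAction.IsPreprimitive P (Fin n) → alternatingGroup (Fin n) ≤ P)
    (M : Subgroup G) (hM : IsCoatom M) (hn : M.index = n) (H : Subgroup G) (hHM : H ≤ M)
    (hmax : IsCoatom (H.subgroupOf M)) (K : Subgroup G) (hK : IsCoatom K) (hHK : H ≤ K) :
    IsCoatom (H.subgroupOf K) := by
  classical
  have hHMne := (isCoatom_subgroupOf_iff' hHM).1 hmax
  by_cases hKM : K = M
  · subst hKM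
    exact hmax
  have hHeq : H = K ⊓ M := by
    rcases hHMne.2 (K ⊓ M) (le_inf hHK hHM) inf_le_right with h | h
    · exact h.symm
    · exfalso
      rcases hM.le_iff.1 (inf_eq_right.1 h) with h' | h'
      · exact hK.1 h'
      · exact hKM h'
  have hHKne : H ≠ K := by
    intro h
    have : K ≤ M := h ▸ hHM
    rcases hK.le_iff.1 this with h' | h'
    · exact hM.1 h'
    · exact hKM h'.symm
  refine (isCoatom_subgroupOf_iff' hHK).2 ⟨hHKne, fun L hHL hLK => ?_⟩
  -- the core of `M`
  set C : Subgroup G := M.normalCore with hC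
  have hCM : C ≤ M := M.normalCore_le
  by_cases hCH : C ≤ H
  swap
  · -- `M = H C`
    have hsup : H ⊔ C = M := by
      rcases hHMne.2 (H ⊔ C) le_sup_left (sup_le hHM hCM) with h | h
      · exact absurd (h ▸ le_sup_right) hCH
      · exact h
    have hML : M ≤ L ⊔ C := hsup ▸ sup_le_sup_right hHL C
    rcases hM.le_iff.1 hML with h | h
    · right
      refine le_antisymm hLK (fun k hk => ?_)
      have : k ∈ ((L ⊔ C : Subgroup G) : Set G) := by rw [h]; exact Subgroup.mem_top k
      rw [Subgroup.mul_normal] at this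
      obtain ⟨l, hl, c, hc, rfl⟩ := this
      refine L.mul_mem hl (hHL ?_)
      rw [hHeq]
      exact ⟨by simpa using K.mul_mem (K.inv_mem (hLK hl)) hk, hCM hc⟩
    · left
      refine le_antisymm ?_ hHL
      rw [hHeq]
      exact le_inf hLK (h ▸ le_sup_left)
  -- primitive action on the cosets of `M`
  have hker : (MulAction.toPermHom G (G ⧸ M)).ker ≤ H := M.normalCore_eq_ker ▸ hCH
  have hstabM : MulAction.stabilizer G ((1 : G) : G ⧸ M) = M := MulAction.stabilizer_quotient M
  haveI : Nontrivial (G ⧸ M) := by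
    rw [← Finite.one_lt_card_iff_nontrivial, ← Subgroup.index_eq_card]
    exact Subgroup.one_lt_index_of_ne_top hM.1
  haveI : MulAction.IsPreprimitive G (G ⧸ M) := by
    rw [← MulAction.isCoatom_stabilizer_iff_preprimitive G ((1 : G) : G ⧸ M), hstabM]
    exact hM
  let e : (G ⧸ M) ≃ Fin n := (Finite.equivFinOfCardEq (by rw [← hn, Subgroup.index_eq_card]))
  let ψ : G →* Equiv.Perm (Fin n) :=
    (e.permCongrHom.toMonoidHom).comp (MulAction.toPermHom G (G ⧸ M))
  have hψ : ∀ (g : G) (x : G ⧸ M), ψ g (e x) = e (g • x) := by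
    intro g x
    show e.permCongr (MulAction.toPerm g) (e x) = _
    simp [Equiv.permCongr_apply]
  let f : (G ⧸ M) →ₑ[ψ.rangeRestrict] Fin n :=
    { toFun := e, map_smul' := fun g x => (hψ g x).symm }
  haveI : MulAction.IsPreprimitive ψ.range (Fin n) :=
    MulAction.IsPreprimitive.of_surjective (f := f) e.surjective
  have hAlt := hA ψ.range inferInstance
  have h3 : ∀ a b c : G ⧸ M, a ≠ b → a ≠ c → b ≠ c →
      ∃ g : G, g • a = b ∧ g • b = c ∧ g • c = a ∧
        ∀ x : G ⧸ M, x ≠ a → x ≠ b → x ≠ c → g • x = x := by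
    intro a b c hab hac hbc
    have hs : Equiv.Perm.IsThreeCycle (Equiv.swap (e a) (e c) * Equiv.swap (e a) (e b)) :=
      Equiv.Perm.isThreeCycle_swap_mul_swap_same (e.injective.ne hac) (e.injective.ne hab)
        (e.injective.ne hbc.symm)
    obtain ⟨g, hg⟩ := hAlt hs.mem_alternatingGroup
    have hg' : ∀ x, e (g • x) = (Equiv.swap (e a) (e c) * Equiv.swap (e a) (e b)) (e x) :=
      fun x => by rw [← hψ, hg]
    have i1 := e.injective.ne hab
    have i2 := e.injective.ne hac
    have i3 := e.injective.ne hbc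
    refine ⟨g, e.injective ?_, e.injective ?_, e.injective ?_, fun x h1 h2 h3 => e.injective ?_⟩
    all_goals rw [hg']
    · simp [Equiv.swap_apply_def, i1, i2, i3, i1.symm, i2.symm, i3.symm]
    · simp [Equiv.swap_apply_def, i1, i2, i3, i1.symm, i2.symm, i3.symm]
    · simp [Equiv.swap_apply_def, i1, i2, i3, i1.symm, i2.symm, i3.symm]
    · simp [Equiv.swap_apply_def, e.injective.ne h1, e.injective.ne h2, e.injective.ne h3]
  refine key (by rwa [← Subgroup.index_eq_card, hn]) h3 ((1 : G) : G ⧸ M) H K L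
    (by rw [hstabM, hHeq]) (by rw [hstabM]; exact hmax) hHL hLK

end Cfsg.Agent.S5885
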