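import Cfsg.Statements.S5887
import Cfsg.Agent.Aschbacher.Lists.Proper
import Cfsg.Agent.Aschbacher.Ev.FieldDouble

set_option autoImplicit false
open Cfsg

namespace Cfsg.Agent.S5887

/-- An element centralising the image of a field which does not normalise a larger field. -/
theorem exists_element_aux {F : Type*} [Field F] [Fintype F] {n r s : ℕ} {E : Type*} [Field E] [Algebra F E]
    (φ : E →ₐ[F] Matrix (Fin n) (Fin n) F) {K : Subalgebra F (Matrix (Fin n) (Fin n) F)}
    (hK : Cfsg.Geo.IsFieldSubalgebra r K) (hle : φ.range ≤ K) (hE : Module.finrank F E = s) (hsr : s < r)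
    (hn : 2 * s < n) :
    ∃ T : GL (Fin n) F, T ∈ Cfsg.Geo.specialLinear (Fin n) F ∧ T ∈ Cfsg.Geo.subalgebraNormalizer φ.range ∧
      T ∉ Cfsg.Geo.subalgebraNormalizer K := by
  classical
  haveI : Nonempty (Fin n) := ⟨⟨0, by omega⟩⟩
  letI : Module E (Fin n → F) :=
    Module.compHom _ ((Matrix.toLinAlgEquiv' (R := F) (n := Fin n)).toAlgHom.comp φ).toRingHom
  have hsmul : ∀ (c : E) (x : Fin n → F), c • x = (φ c).mulVec x := fun c x => rfl
  haveI : IsScalarTower F E (Fin n → F) := ⟨fun a c x => by
    rw [hsmul, hsmul, map_smul]; exact Matrix.smul_mulVec a _ x⟩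
  obtain ⟨k, hk, hk'⟩ : ∃ k ∈ K, k ∉ φ.range := by
    by_contra h
    push Not at h
    have he : φ.range = K := le_antisymm hle h
    have h1 : Module.finrank F φ.range = s := by
      rw [← hE]
      exact (AlgEquiv.ofInjective φ φ.toRingHom.injective).toLinearEquiv.finrank_eq.symm
    rw [he, hK.finrank_eq] at h1
    omega
  set v : Fin n → F := Pi.single ⟨0, by omega⟩ 1 with hv
  have hv0 : v ≠ 0 := by simp [hv]
  have hkv : k.mulVec v ∉ Submodule.span E {v} := by
    intro h
    obtain ⟨c, hc⟩ := Submodule.mem_span_singleton.1 h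
    rw [hsmul] at hc
    have h0 : (k - φ c).mulVec v = 0 := by rw [Matrix.sub_mulVec, hc, sub_self]
    by_cases hz : k - φ c = 0
    · exact hk' ⟨c, (sub_eq_zero.1 hz).symm⟩
    · obtain ⟨y, -, hy⟩ := hK.inv _ (K.sub_mem hk (hle (show φ c ∈ φ.range from ⟨c, rfl⟩))) hz
      have h2 : (y * (k - φ c)).mulVec v = 0 := by rw [← Matrix.mulVec_mulVec, h0, Matrix.mulVec_zero]
      rw [mul_eq_one_comm.1 hy, Matrix.one_mulVec] at h2
      exact hv0 h2
  obtain ⟨ψ, hψk, hψ⟩ := Submodule.exists_dual_map_eq_bot_of_notMem hkv inferInstance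
  have hψv : ψ v = 0 := by
    have h1 : ψ v ∈ (Submodule.span E {v}).map ψ :=
      Submodule.mem_map_of_mem (Submodule.mem_span_singleton_self v)
    rw [hψ] at h1
    exact (Submodule.mem_bot E).1 h1
  let N₀ : (Fin n → F) →ₗ[F] (Fin n → F) :=
    { toFun := fun x => ψ x • v
      map_add' := fun x y => by rw [map_add, add_smul]
      map_smul' := fun a x => by rw [LinearMap.map_smul_of_tower, RingHom.id_apply, smul_assoc] }
  set N := LinearMap.toMatrix' N₀ with hN
  have hNx : ∀ x, N.mulVec x = ψ x • v := fun x => by rw [hN, LinearMap.toMatrix'_mulVec]; rfl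
  have hNN : N * N = 0 := by
    apply Matrix.toLin'.injective
    apply LinearMap.ext
    intro x
    rw [Matrix.toLin'_apply, ← Matrix.mulVec_mulVec, hNx, hNx, map_smul, hψv, smul_zero, zero_smul,
      map_zero, LinearMap.zero_apply]
  have hcomm : ∀ c ∈ φ.range, c * N = N * c := by
    rintro _ ⟨c, rfl⟩
    show φ c * N = N * φ c
    apply Matrix.toLin'.injective
    apply LinearMap.ext
    intro x
    rw [Matrix.toLin'_apply, Matrix.toLin'_apply, ← Matrix.mulVec_mulVec, ← Matrix.mulVec_mulVec, hNx,
      ← hsmul c, ← hsmul c, hNx, map_smul, smul_eq_mul, smul_smul]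
  let T : GL (Fin n) F := ⟨1 + N, 1 - N,
    by rw [add_mul, mul_sub, mul_sub, one_mul, mul_one, one_mul, hNN]; abel,
    by rw [sub_mul, mul_add, mul_add, one_mul, mul_one, one_mul, hNN]; abel⟩
  refine ⟨T, ?_, ?_, ?_⟩
  · rw [Cfsg.Agent.Aschbacher.mem_specialLinear]
    obtain ⟨p, hp⟩ := CharP.exists F
    obtain ⟨m, hp', -⟩ := FiniteField.card F p
    have := Fact.mk hp'
    have hpow : (1 + N) ^ p = 1 := by
      rw [add_pow_char_of_commute p (Commute.one_left N), one_pow]
      obtain ⟨j, hj⟩ : ∃ j, p = 2 + j := ⟨p - 2, by have := hp'.two_le; omega⟩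
      rw [hj, pow_add, pow_two, hNN, zero_mul, add_zero]
    have hd := congrArg Matrix.det hpow
    rw [Matrix.det_pow, Matrix.det_one] at hd
    apply frobenius_inj F p
    rw [map_one]
    exact hd
  · intro x
    constructor
    · intro hx
      have : (1 + N) * x * (1 - N) = x := by
        rw [show (1 + N) * x = x * (1 + N) by rw [add_mul, mul_add, hcomm x hx, one_mul, mul_one],
          mul_assoc, show (1 + N) * (1 - N) = (1 : Matrix (Fin n) (Fin n) F) from T.val_inv, mul_one]
      exact this.symm ▸ hx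
    · intro hx
      change (1 + N) * x * (1 - N) ∈ φ.range at hx
      set y := (1 + N) * x * (1 - N) with hy
      have e : x = (1 - N) * y * (1 + N) := by
        rw [hy, ← mul_assoc, ← mul_assoc, show (1 - N) * (1 + N) = (1 : Matrix (Fin n) (Fin n) F) from T.inv_val,
          one_mul, mul_assoc, show (1 - N) * (1 + N) = (1 : Matrix (Fin n) (Fin n) F) from T.inv_val, mul_one]
      rw [e, show (1 - N) * y = y * (1 - N) by rw [sub_mul, mul_sub, hcomm y hx, one_mul, mul_one],
        mul_assoc, show (1 - N) * (1 + N) = (1 : Matrix (Fin n) (Fin n) F) from T.inv_val, mul_one]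
      exact hx
  · intro hT
    have hd : (1 + N) * k * (1 - N) - k ∈ K := K.sub_mem ((hT k).1 hk) hk
    set d := (1 + N) * k * (1 - N) - k with hdef
    have hdx : ∀ x, d.mulVec x = ψ (k.mulVec x - k.mulVec (ψ x • v)) • v - k.mulVec (ψ x • v) := by
      intro x
      rw [hdef, Matrix.sub_mulVec, ← Matrix.mulVec_mulVec, ← Matrix.mulVec_mulVec, Matrix.add_mulVec,
        Matrix.one_mulVec, hNx, Matrix.sub_mulVec, Matrix.one_mulVec, hNx, Matrix.mulVec_sub]
      abel
    by_cases hd0 : d = 0
    · have h1 := hdx v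
      rw [hd0, Matrix.zero_mulVec, hψv, zero_smul, Matrix.mulVec_zero, sub_zero, sub_zero] at h1
      exact hψk (((smul_eq_zero.1 h1.symm).resolve_right hv0))
    · obtain ⟨y, -, hy⟩ := hK.inv _ hd hd0
      let W : Submodule F (Fin n → F) :=
        (Submodule.span E {v}).restrictScalars F ⊔
          ((Submodule.span E {v}).restrictScalars F).map (Matrix.toLin' k)
      have hfin : Module.finrank F ((Submodule.span E {v}).restrictScalars F) = s := by
        have h1 : Module.finrank F ((Submodule.span E {v}).restrictScalars F) =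
            Module.finrank F (Submodule.span E {v}) := rfl
        rw [h1, ← Module.finrank_mul_finrank F E (Submodule.span E {v}), finrank_span_singleton hv0,
          mul_one]
        exact hE
      have htop : (⊤ : Submodule F (Fin n → F)) ≤ W := by
        intro z _
        have hz : d.mulVec (y.mulVec z) = z := by rw [Matrix.mulVec_mulVec, hy, Matrix.one_mulVec]
        rw [← hz, hdx]
        refine Submodule.sub_mem_sup ?_ ?_
        · exact Submodule.smul_mem _ _ (Submodule.mem_span_singleton_self v)
        · exact Submodule.mem_map_of_mem (f := Matrix.toLin' k)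
            (Submodule.smul_mem (Submodule.span E {v}) _ (Submodule.mem_span_singleton_self v))
      have h1 := Submodule.finrank_mono htop
      have h2 := Submodule.finrank_add_le_finrank_add_finrank
        ((Submodule.span E {v}).restrictScalars F)
        (((Submodule.span E {v}).restrictScalars F).map (Matrix.toLin' k))
      have h3 := Submodule.finrank_map_le (Matrix.toLin' k) ((Submodule.span E {v}).restrictScalars F)
      rw [finrank_top, Module.finrank_fin_fun] at h1
      rw [hfin] at h2 h3
      simp only [W] at h1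
      omega

/-- Let F be a finite field, n a positive integer and r a composite number (r > 1, not prime) that divides n with r < n. Let K be a subalgebra of the algebra of n × n matrices over F which is a field of degree r over F (commutative, every non-zero element invertible, of dimension r over F). Then the normaliser N of K in GL_n(F) (a group of type ΓL_{n/r}(F_{q^r})) is not a maximal subgroup of GL_n(F), and N ∩ SL_n(F) is not a maximal subgroup of SL_n(F): both lie properly inside the normaliser of an intermediate subfield of prime degree over F. -/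
theorem result {F : Type*} [Field F]
    [Fintype F] (n r : ℕ) (hr1 : 1 < r) (hrp : ¬ r.Prime) (hrn : r ∣ n) (hlt : r < n)
    (K : Subalgebra F (Matrix (Fin n) (Fin n) F)) (hK : Cfsg.Geo.IsFieldSubalgebra r K) :
    ¬ IsCoatom (Cfsg.Geo.subalgebraNormalizer K) ∧
      ¬ Cfsg.Geo.IsMaximalIn (Cfsg.Geo.specialLinear (Fin n) F)
        (Cfsg.Geo.subalgebraNormalizer K ⊓ Cfsg.Geo.specialLinear (Fin n) F) := by
  classical
  obtain ⟨s, hs, hsr⟩ := Nat.exists_prime_and_dvd (n := r) (by omega)
  have hne : s ≠ r := fun h => hrp (h ▸ hs)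
  obtain ⟨j, hj⟩ := hsr
  obtain ⟨i, hi⟩ := hrn
  have hj2 : 2 ≤ j := by
    rcases j with _ | _ | j
    · omega
    · omega
    · omega
  have hi2 : 2 ≤ i := by
    rcases i with _ | _ | i
    · omega
    · omega
    · omega
  have hsltr : s < r := by
    rw [hj]; exact lt_mul_of_one_lt_right hs.pos hj2
  have hn4 : 4 * s ≤ n := by
    rw [hi, hj, show 4 * s = s * 2 * 2 by ring]
    exact Nat.mul_le_mul (Nat.mul_le_mul_left s hj2) hi2
  have := hs.two_le
  haveI : Nonempty (Fin n) := ⟨⟨0, by omega⟩⟩
  obtain ⟨K', hK', hmem⟩ := Aschbacher.Ev.exists_subfield_of_dvd K hK.comm hK.inv (s := s) hs.ne_zero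
    (by rw [hK.finrank_eq]; exact ⟨j, hj⟩)
  have hle : K' ≤ K := fun x hx => ((hmem x).1 hx).1
  have hNN : Cfsg.Geo.subalgebraNormalizer K ≤ Cfsg.Geo.subalgebraNormalizer K' := by
    intro g hg x
    rw [hmem, hmem]
    have hpow : ∀ m : ℕ, ((g : Matrix (Fin n) (Fin n) F) * x * ((g⁻¹ : GL (Fin n) F) : Matrix (Fin n) (Fin n) F)) ^ m =
        (g : Matrix (Fin n) (Fin n) F) * x ^ m * ((g⁻¹ : GL (Fin n) F) : Matrix (Fin n) (Fin n) F) := fun m => by
      induction m with
      | zero => simp
      | succ m ih =>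
        rw [pow_succ, ih, pow_succ]
        simp only [mul_assoc, Units.inv_mul_cancel_left]
    rw [hpow]
    refine and_congr (hg x) ⟨fun h => by rw [h], fun h => ?_⟩
    exact g.isUnit.mul_left_cancel ((g⁻¹).isUnit.mul_right_cancel h)
  have hF : IsField K' :=
    { exists_pair_ne := ⟨0, 1, zero_ne_one⟩
      mul_comm := fun a b => Subtype.ext (hK'.comm a a.2 b b.2)
      mul_inv_cancel := fun {a} ha => by
        obtain ⟨y, hy, h⟩ := hK'.inv a a.2 fun h => ha (Subtype.ext h)
        exact ⟨⟨y, hy⟩, Subtype.ext h⟩ }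
  letI : Field K' := hF.toField
  have hrange : K'.val.range = K' := Subalgebra.range_val K'
  obtain ⟨T, hT1, hT2, hT3⟩ := exists_element_aux (s := s) K'.val hK (hrange.le.trans hle) hK'.finrank_eq
    hsltr (by omega)
  rw [hrange] at hT2
  have hnot := Aschbacher.not_SL_le_field (F := F) (ι := Fin n) (by simp; omega) hs hK'
  refine ⟨fun hco => ?_, fun hmax => ?_⟩
  · refine hnot ?_
    rw [hco.2 _ (lt_of_le_not_ge hNN fun h => hT3 (h hT2))]
    exact le_top
  · rcases hmax.2 (Cfsg.Geo.subalgebraNormalizer K' ⊓ Cfsg.Geo.specialLinear (Fin n) F)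
      (inf_le_inf_right _ hNN) inf_le_right with h | h
    · exact hT3 ((h ▸ ⟨hT2, hT1⟩ : T ∈ Cfsg.Geo.subalgebraNormalizer K ⊓ Cfsg.Geo.specialLinear (Fin n) F).1)
    · exact hnot (h ▸ inf_le_left)

end Cfsg.Agent.S5887
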