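import Cfsg.Statements.S5890
import Cfsg.Agent.Lib.Forms.DicksonPGL.Types
import Cfsg.Agent.Lib.Forms.DicksonPGL.Coatoms
import Cfsg.Agent.Lib.Forms.DicksonDihedral
-- import your own Cfsg.Agent.* helpers here

set_option autoImplicit false
open Cfsg

namespace Cfsg.Agent.S5890

/-- Let F be a finite field with q ≥ 4 elements, let L ≤ PGL₂(F) be the image of SL₂(F) (a copy of PSL₂(F), of index gcd(2, q − 1)), and let M be a maximal subgroup of PGL₂(F) that does not contain L. Suppose q ∉ {7, 9, 11} and that q is not a prime congruent to ±11 or ±19 modulo 40. Then M ∩ L is a maximal subgroup of L. (For the excluded q there are maximal subgroups of PGL₂(q) — dihedral groups of order 12 and 16 at q = 7, of order 20 and 16 at q = 9, of order 20 at q = 11, and S₄ at the excluded primes — whose intersection with L is not maximal in L.) -/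
theorem result {F : Type*} [Field F]
    [Fintype F] (h4 : 4 ≤ Fintype.card F) (h7 : Fintype.card F ≠ 7) (h9 : Fintype.card F ≠ 9) (h11 : Fintype.card F ≠ 11)
    (h40 : (Fintype.card F).Prime → Fintype.card F % 40 ∉ ({11, 19, 21, 29} : Finset ℕ))
    (M : Subgroup (Matrix.ProjGenLinGroup (Fin 2) F)) (hM : IsCoatom M)
    (hML : ¬ (Matrix.ProjGenLinGroup.mk.comp Matrix.SpecialLinearGroup.toGL).range ≤ M) :
    IsCoatom ((M ⊓ (Matrix.ProjGenLinGroup.mk.comp Matrix.SpecialLinearGroup.toGL).range).subgroupOf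
      (Matrix.ProjGenLinGroup.mk.comp Matrix.SpecialLinearGroup.toGL).range) := by
  classical
  rw [Forms.DicksonPGL.L_eq] at hML ⊢
  obtain ⟨p, hp⟩ := CharP.exists F
  haveI := hp
  haveI : Fact p.Prime := ⟨CharP.char_is_prime F p⟩
  let toP := Matrix.ProjectiveSpecialLinearGroup.toPGL (n := Fin 2) (R := F)
  suffices hc : IsCoatom (M.comap toP) by
    let e := MonoidHom.ofInjective (f := toP) Matrix.ProjectiveSpecialLinearGroup.toPGL_injective
    have he : (M ⊓ Forms.DicksonPGL.L F).subgroupOf (Forms.DicksonPGL.L F) =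
        (M.comap toP).map e.toMonoidHom := by
      ext z
      constructor
      · rintro ⟨hzM, -⟩
        obtain ⟨x, hx⟩ := z.2
        refine ⟨x, ?_, Subtype.ext hx⟩
        show toP x ∈ M
        rw [show toP x = _ from hx]; exact hzM
      · rintro ⟨x, hx, rfl⟩
        exact ⟨hx, x, rfl⟩
    rw [he]
    exact (e.mapSubgroup.isCoatom_iff _).2 hc
  rcases Nat.even_or_odd (Fintype.card F) with heven | hodd
  · exact ((MulEquiv.ofBijective toP (Forms.DicksonPGL.toP_bijective heven)).comapSubgroup.isCoatom_iff M).2 hM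
  have hd := Forms.DicksonPGL.gcd_of_odd hodd
  have hoq : Fintype.card F % 2 = 1 := Nat.odd_iff.1 hodd
  have h := Forms.DicksonPGL.maxIn_pgl hM hML
  have hnL := Forms.DicksonPGL.not_le_L hM hML hodd
  rcases Forms.DicksonPGL.kind p h4 h with ⟨w, hw⟩ | ⟨X, hX, e⟩ |
      ⟨hqp, -, x, y, γ, a, b, fr, hxL, hyL, e, hiso⟩ | ⟨hle, -⟩ |
      ⟨K, iK, fK, f, γ, m, hm, hK, e⟩
  · rw [hw, inf_top_eq, Forms.DicksonPGL.comap_stabW]
    exact Forms.DicksonPGL.coatom_stab w
  · rw [inf_top_eq] at e
    obtain ⟨k, τ, hτ, hτc, hk, hcard, ⟨f'⟩, c, hc, y, hy, hoc, hyc⟩ := Forms.DicksonPGL.torus_psl hX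
    rw [hd] at hk
    have eC : M.comap toP ≃* DihedralGroup k :=
      (Forms.DicksonPGL.comapEquiv M).trans ((MulEquiv.subgroupCongr
        (show M ⊓ Forms.DicksonPGL.L F = Forms.DicksonPGL.torusN X ⊓ Forms.DicksonPGL.L F by rw [e])).trans f')
    have hMc : Nat.card M = 2 * τ := by
      have := (Forms.DicksonPGL.torusN_dihedral hX (G0 := ⊤) le_top).1
      rw [inf_top_eq, inf_top_eq] at this
      rw [e, this, hτc]
    have hk3 : 3 ≤ k := by
      by_contra hlt
      obtain rfl : k = 2 := by omega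
      exact Forms.DicksonPGL.no_four h hodd (by omega) eC (by omega)
    have hG := Forms.DicksonCor.gcd_mul_natCard (F := F)
    rw [hd] at hG
    refine Forms.DicksonDihedral.isCoatom_of p _ k (by
      rw [Nat.card_congr eC.toEquiv, DihedralGroup.nat_card]) hk3 ?_ h9 (by rw [hd]; omega) ?_
      (e ▸ hc) (e ▸ hy) hoc hyc
    · intro hpk
      obtain ⟨n, -, hn⟩ := FiniteField.card F p
      have hpq : p ∣ Fintype.card F := hn ▸ dvd_pow_self p n.pos.ne'
      have hp1 : 2 ≤ p := (Fact.out : p.Prime).two_le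
      have : p ∣ 1 := by
        rcases hτ with hτ | hτ
        · have := Nat.dvd_sub hpq (Dvd.dvd.mul_left hpk 2)
          rwa [show Fintype.card F - 2 * k = 1 by omega] at this
        · have := Nat.dvd_sub (Dvd.dvd.mul_left hpk 2) hpq
          rwa [show 2 * k - Fintype.card F = 1 by omega] at this
      have := Nat.le_of_dvd one_pos this
      omega
    · intro hk5
      have h5 : Fintype.card F = 5 := by omega
      rw [h5] at hG
      norm_num [-Nat.card_eq_fintype_card] at hG
      exact ⟨by omega, by omega⟩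
  · rw [inf_top_eq] at e
    obtain ⟨hcS, hcN⟩ := fr.card_inf_L hxL hyL
    have h2 : ¬ IsSquare (2 : F) := fun h2 => hnL (by
      have := Subgroup.eq_of_le_of_card_ge (inf_le_left : Forms.DicksonPGL.nFour x y ⊓
        Forms.DicksonPGL.L F ≤ Forms.DicksonPGL.nFour x y) (by rw [hcS h2, fr.natCard_top hxL hyL])
      rw [e, ← this]; exact inf_le_right)
    have h12 : Nat.card (M.comap toP) = 12 := by
      rw [Nat.card_congr (Forms.DicksonPGL.comapEquiv M).toEquiv, e]; exact hcN h2
    rw [FiniteField.isSquare_two_iff] at h2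
    have h40' := h40 hqp
    simp only [Finset.mem_insert, Finset.mem_singleton, not_or] at h40'
    haveI : Fact (Fintype.card F).Prime := ⟨hqp⟩
    rcases hiso with ⟨⟨e'⟩⟩ | ⟨⟨e'⟩⟩ | ⟨⟨e'⟩⟩
    · rw [Nat.card_congr e'.toEquiv, DihedralGroup.nat_card] at h12; norm_num at h12
    · exact Forms.DicksonPGL.coatom_alt4 (Fintype.card F) rfl (by omega) (by omega) (by omega) _ e'
    · rw [Nat.card_congr e'.toEquiv, Nat.card_perm, Nat.card_fin] at h12
      norm_num [Nat.factorial] at h12
  · exact absurd hle hnL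
  · rw [inf_top_eq] at e
    rcases hm.eq_two_or_odd' with rfl | ho
    · exact absurd (e ▸ Forms.DicksonPGL.sub_le_L f γ hK even_two) hnL
    · obtain ⟨g⟩ := Forms.DicksonPGL.sub_inf_L f γ hK ho
      have hKo : Odd (Fintype.card K) := (Nat.odd_pow_iff hm.ne_zero).1 (hK ▸ hodd)
      refine Forms.DicksonPGL.coatom_psl_sub (Fintype.card K) m rfl hK.symm hKo hm
        (fun e2 => by rw [e2] at ho; exact absurd ho (by decide)) _
        ((Forms.DicksonPGL.comapEquiv M).trans ((MulEquiv.subgroupCongr (by rw [e])).trans g))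

end Cfsg.Agent.S5890
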