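import Cfsg.Statements.S5891
import Cfsg.Agent.Lib.Forms.DicksonPGL.Types
-- import your own Cfsg.Agent.* helpers here

set_option autoImplicit false
open Cfsg

namespace Cfsg.Agent.S5891

/-- Let F be a finite field of odd order q > 3 and characteristic p, and let M be a maximal subgroup of PGL₂(F) not containing the image L of SL₂(F) (a copy of PSL₂(F) of index 2). Then one of the following holds: |M| = q(q − 1) (M is the stabiliser of a point of the projective line); q ≠ 5 and M is dihedral of order 2(q − 1); M is dihedral of order 2(q + 1); q = p ≡ ±3 (mod 8) and M ≅ S₄; or q = q₀^r for an odd prime r and M ≅ PGL₂(F₀) with |F₀| = q₀. -/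
theorem result {F : Type*} [Field F] [Fintype F]
    (hodd : Odd (Fintype.card F)) (h3 : 3 < Fintype.card F) (M : Subgroup (Matrix.ProjGenLinGroup (Fin 2) F)) (hM : IsCoatom M)
    (hML : ¬ (Matrix.ProjGenLinGroup.mk.comp Matrix.SpecialLinearGroup.toGL).range ≤ M) :
    Nat.card M = Fintype.card F * (Fintype.card F - 1) ∨
    (Fintype.card F ≠ 5 ∧ Nonempty (M ≃* DihedralGroup (Fintype.card F - 1))) ∨
    Nonempty (M ≃* DihedralGroup (Fintype.card F + 1)) ∨
    ((Fintype.card F).Prime ∧ (Fintype.card F % 8 = 3 ∨ Fintype.card F % 8 = 5) ∧ Nonempty (M ≃* Equiv.Perm (Fin 4))) ∨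
    (∃ (F₀ : Type) (_ : Field F₀) (_ : Fintype F₀) (r : ℕ), r.Prime ∧ Odd r ∧ Fintype.card F = Fintype.card F₀ ^ r ∧
        Nonempty (M ≃* Matrix.ProjGenLinGroup (Fin 2) F₀)) := by
  classical
  rw [Forms.DicksonPGL.L_eq] at hML
  obtain ⟨p, hp⟩ := CharP.exists F
  haveI := hp
  haveI : Fact p.Prime := ⟨CharP.char_is_prime F p⟩
  have hd := Forms.DicksonPGL.gcd_of_odd hodd
  have h4 : 4 ≤ Fintype.card F := by omega
  have hoq : Fintype.card F % 2 = 1 := Nat.odd_iff.1 hodd
  have h := Forms.DicksonPGL.maxIn_pgl hM hML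
  have hnL := Forms.DicksonPGL.not_le_L hM hML hodd
  rcases Forms.DicksonPGL.kind p h4 h with ⟨w, hw⟩ | ⟨X, hX, e⟩ |
      ⟨hqp, -, x, y, γ, a, b, fr, hxL, hyL, e, hiso⟩ | ⟨hle, -⟩ |
      ⟨K, iK, fK, f, γ, m, hm, hK, e⟩
  · left
    rw [hw, inf_top_eq, Forms.DicksonPGL.natCard_stabW]
  · obtain ⟨hc, ⟨f⟩, -⟩ := Forms.DicksonPGL.torusN_dihedral hX (G0 := ⊤) le_top
    rw [inf_top_eq (Forms.DicksonPGL.torus X)] at hc
    obtain ⟨k, τ, hτ, hτc, hk, -, ⟨f'⟩, -⟩ := Forms.DicksonPGL.torus_psl hX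
    rw [hd] at hk
    have eD : M ≃* DihedralGroup τ := ((MulEquiv.subgroupCongr e).trans f).trans
      (hτc ▸ (by rw [inf_top_eq]) : MulEquiv _ _)
    rcases hτ with rfl | rfl
    · refine Or.inr (Or.inl ⟨fun h5 => ?_, ⟨eD⟩⟩)
      obtain rfl : k = 2 := by omega
      refine Forms.DicksonPGL.no_four h hodd (by omega)
        ((Forms.DicksonPGL.comapEquiv M).trans ((MulEquiv.subgroupCongr
          (show M ⊓ Forms.DicksonPGL.L F = Forms.DicksonPGL.torusN X ⊓ Forms.DicksonPGL.L F by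
            rw [e, inf_top_eq])).trans f')) ?_
      rw [Nat.card_congr eD.toEquiv, DihedralGroup.nat_card, h5]; norm_num
    · exact Or.inr (Or.inr (Or.inl ⟨eD⟩))
  · rw [inf_top_eq] at e
    have hcM : Nat.card M = 24 := by rw [e, fr.natCard_top hxL hyL]
    obtain ⟨hcS, hcN⟩ := fr.card_inf_L hxL hyL
    have h2 : ¬ IsSquare (2 : F) := fun h2 => hnL (by
      have := Subgroup.eq_of_le_of_card_ge (inf_le_left : Forms.DicksonPGL.nFour x y ⊓
        Forms.DicksonPGL.L F ≤ Forms.DicksonPGL.nFour x y) (by rw [hcS h2, fr.natCard_top hxL hyL])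
      rw [e, ← this]; exact inf_le_right)
    have h12 : Nat.card (M.comap Matrix.ProjectiveSpecialLinearGroup.toPGL) = 12 := by
      rw [Nat.card_congr (Forms.DicksonPGL.comapEquiv M).toEquiv, e]; exact hcN h2
    rw [FiniteField.isSquare_two_iff] at h2
    refine Or.inr (Or.inr (Or.inr (Or.inl ⟨hqp, by omega, ?_⟩)))
    rcases hiso with ⟨⟨e'⟩⟩ | ⟨⟨e'⟩⟩ | ⟨⟨e'⟩⟩
    · rw [Nat.card_congr e'.toEquiv, DihedralGroup.nat_card] at h12; norm_num at h12
    · set H := (M ⊓ Forms.DicksonPGL.L F).subgroupOf M with hH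
      haveI : H.Normal := ⟨fun n hn g => ⟨(g * n * g⁻¹).2,
        Forms.DicksonPGL.L_normal.conj_mem _ hn.2 (g : _)⟩⟩
      let eH : H ≃* alternatingGroup (Fin 4) := ((Subgroup.subgroupOfEquivOfLe inf_le_left).trans
        (Forms.DicksonPGL.comapEquiv M).symm).trans e'
      obtain ⟨hx2, hy2, hcomm, -, -, -⟩ := fr.basic
      have hxM : x ∈ M := e.symm ▸ Forms.DicksonPGL.mem_nFour_of_maps (by
        rintro z (rfl | rfl | rfl)
        · left; group
        · right; left; rw [hcomm, mul_inv_cancel_right]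
        · right; right; rw [Set.mem_singleton_iff, mul_inv_eq_iff_eq_mul, mul_assoc, ← hcomm])
      have hyM : y ∈ M := e.symm ▸ Forms.DicksonPGL.mem_nFour_of_maps (by
        rintro z (rfl | rfl | rfl)
        · left; rw [← hcomm, mul_inv_cancel_right]
        · right; left; group
        · right; right; rw [Set.mem_singleton_iff, ← mul_assoc, ← hcomm, mul_inv_cancel_right])
      refine Forms.DicksonPGL.sym4_of hcM H eH fun g hg => ?_
      have hgH : g ∈ H := by
        have h1 : (g : Matrix.ProjGenLinGroup (Fin 2) F) * x * (g : Matrix.ProjGenLinGroup (Fin 2) F)⁻¹ = x :=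
          congrArg Subtype.val (hg ⟨⟨x, hxM⟩, hxM, hxL⟩)
        have h2 : (g : Matrix.ProjGenLinGroup (Fin 2) F) * y * (g : Matrix.ProjGenLinGroup (Fin 2) F)⁻¹ = y :=
          congrArg Subtype.val (hg ⟨⟨y, hyM⟩, hyM, hyL⟩)
        refine ⟨g.2, ?_⟩
        show (g : Matrix.ProjGenLinGroup (Fin 2) F) ∈ Forms.DicksonPGL.L F
        rcases fr.fix_both' h1 h2 with r | r | r | r <;> rw [r]
        exacts [one_mem _, hxL, hyL, mul_mem hxL hyL]
      have hz := Forms.DicksonPGL.alt4_center (eH ⟨g, hgH⟩) fun a => by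
        obtain ⟨a, rfl⟩ := eH.surjective a
        rw [← map_mul, ← map_mul]
        exact congrArg eH (Subtype.ext (mul_inv_eq_iff_eq_mul.1 (hg a)))
      exact congrArg Subtype.val (eH.map_eq_one_iff.1 hz)
    · rw [Nat.card_congr e'.toEquiv, Nat.card_perm, Nat.card_fin] at h12
      norm_num [Nat.factorial] at h12
  · exact absurd hle hnL
  · rw [inf_top_eq] at e
    rcases hm.eq_two_or_odd' with rfl | ho
    · exact absurd (e ▸ Forms.DicksonPGL.sub_le_L f γ hK even_two) hnL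
    · exact Or.inr (Or.inr (Or.inr (Or.inr ⟨K, iK, fK, m, hm, ho, hK.symm,
        ⟨(MulEquiv.subgroupCongr e).trans (Forms.DicksonPGL.subEquiv f γ)⟩⟩)))

end Cfsg.Agent.S5891
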