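import Cfsg.Statements.S5893
import Cfsg.Agent.Lib.Forms.DicksonPGL.Types
-- import your own Cfsg.Agent.* helpers here

set_option autoImplicit false
open Cfsg

namespace Cfsg.Agent.S5893

/-- Let F be a finite field of even order q ≥ 4 and let M be a maximal subgroup of PSL₂(F) (= SL₂(F) = PGL₂(F)). Then one of the following holds: |M| = q(q − 1) (the stabiliser of a point of the projective line, elementary abelian of order q extended by a cyclic group of order q − 1); M is dihedral of order 2(q − 1); M is dihedral of order 2(q + 1); or q = q₀^r for a prime r with q₀ ≠ 2 and M ≅ PSL₂(F₀) with |F₀| = q₀. -/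
theorem result {F : Type*} [Field F] [Fintype F]
    (heven : Even (Fintype.card F)) (h4 : 4 ≤ Fintype.card F) (M : Subgroup (Matrix.ProjectiveSpecialLinearGroup (Fin 2) F)) (hM : IsCoatom M) :
    Nat.card M = Fintype.card F * (Fintype.card F - 1) ∨
    Nonempty (M ≃* DihedralGroup (Fintype.card F - 1)) ∨
    Nonempty (M ≃* DihedralGroup (Fintype.card F + 1)) ∨
    (∃ (F₀ : Type) (_ : Field F₀) (_ : Fintype F₀) (r : ℕ), r.Prime ∧ Fintype.card F₀ ≠ 2 ∧
        Fintype.card F = Fintype.card F₀ ^ r ∧ Nonempty (M ≃* Matrix.ProjectiveSpecialLinearGroup (Fin 2) F₀)) := by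
  classical
  obtain ⟨p, hp⟩ := CharP.exists F
  haveI := hp
  haveI : Fact p.Prime := ⟨CharP.char_is_prime F p⟩
  have hd := Forms.DicksonPGL.gcd_of_even heven
  have hp2 : p = 2 := not_not.1 fun e =>
    Nat.not_even_iff_odd.2 ((Forms.DicksonPGL.odd_card_iff (F := F) p).2 e) heven
  have h := Forms.DicksonPGL.maxIn_psl hM
  set M' := M.map Matrix.ProjectiveSpecialLinearGroup.toPGL with hM'
  have eM : M ≃* M' := M.equivMapOfInjective _ Matrix.ProjectiveSpecialLinearGroup.toPGL_injective
  have hcomap : M'.comap Matrix.ProjectiveSpecialLinearGroup.toPGL = M :=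
    Subgroup.comap_map_eq_self_of_injective Matrix.ProjectiveSpecialLinearGroup.toPGL_injective M
  have htor : ∀ X, Forms.DicksonPGL.Semisimple X → M' = Forms.DicksonPGL.torusN X ⊓ Forms.DicksonPGL.L F →
      Nonempty (M ≃* DihedralGroup (Fintype.card F - 1)) ∨
        Nonempty (M ≃* DihedralGroup (Fintype.card F + 1)) := by
    intro X hX e
    obtain ⟨k, τ, hτ, -, hk, -, ⟨f⟩, -⟩ := Forms.DicksonPGL.torus_psl hX
    rw [hd, one_mul] at hk
    subst hk
    rcases hτ with rfl | rfl
    · exact Or.inl ⟨(eM.trans (MulEquiv.subgroupCongr e)).trans f⟩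
    · exact Or.inr ⟨(eM.trans (MulEquiv.subgroupCongr e)).trans f⟩
  rcases Forms.DicksonPGL.kind p h4 h with ⟨w, hw⟩ | ⟨X, hX, e⟩ | ⟨-, hp', -⟩ | ⟨-, hp', -⟩ |
      ⟨K, iK, fK, f, γ, m, hm, hK, e⟩
  · left
    rw [hw, Subgroup.comap_inf, Forms.DicksonPGL.comap_stabW] at hcomap
    rw [← hcomap, show (Forms.DicksonPGL.L F).comap Matrix.ProjectiveSpecialLinearGroup.toPGL = ⊤ from
      eq_top_iff.2 fun x _ => Forms.DicksonPGL.toP_mem_L x, inf_top_eq]
    simpa [hd] using Forms.DicksonPGL.natCard_stabilizer_psl w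
  · exact Or.inr ((htor X hX e).imp id Or.inl)
  · exact absurd hp2 hp'
  · exact absurd hp2 hp'
  · rw [inf_eq_left.2 (show Forms.DicksonPGL.sub f γ ≤ Forms.DicksonPGL.L F by
      rw [Forms.DicksonPGL.L_eq_top heven]; exact le_top)] at e
    rcases eq_or_ne (Fintype.card K) 2 with h2 | h2
    · have h6 : Nat.card M' = 6 := by rw [e, Forms.DicksonPGL.natCard_sub, h2]
      obtain ⟨X, hX, e'⟩ := Forms.DicksonPGL.torus_of_six p hp2 h4 h h.le h6
      exact Or.inr ((htor X hX e').imp id Or.inl)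
    · have hKe : Even (Fintype.card K) := by
        rw [← hK, Nat.even_pow] at heven; exact heven.1
      exact Or.inr (Or.inr (Or.inr ⟨K, iK, fK, m, hm, h2, hK.symm,
        ⟨((eM.trans (MulEquiv.subgroupCongr e)).trans (Forms.DicksonPGL.subEquiv f γ)).trans
          (Forms.DicksonPGL.pglEquiv hKe)⟩⟩))

end Cfsg.Agent.S5893
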