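import Cfsg.Statements.S5894
import Mathlib

set_option autoImplicit false
open Cfsg
open scoped Pointwise

namespace Cfsg.Agent.S5894

/-- For every m ≥ 2 the symmetric group on 2m letters has a maximal subgroup M of index 2m together with a maximal subgroup H of M that is not second maximal: some maximal subgroup K of the symmetric group contains H without H being maximal in K. (One may take M the stabiliser of a letter, H ≅ S_m × S_{m−1} inside it, and K ≅ S_m ≀ S₂ the stabiliser of a partition into two m-sets, with H < S_m × S_m < K.) So the prime-index hypothesis in the second-maximality criterion cannot be relaxed to any even index ≥ 4. -/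
theorem result (m : ℕ) (hm : 2 ≤ m) :
    ∃ M H K : Subgroup (Equiv.Perm (Fin (2 * m))), IsCoatom M ∧ M.index = 2 * m ∧ H ≤ M ∧ IsCoatom (H.subgroupOf M) ∧
      IsCoatom K ∧ H ≤ K ∧ ¬ IsCoatom (H.subgroupOf K) := by
  classical
  let x : Fin (2 * m) := ⟨2 * m - 1, by omega⟩
  let O : Set (Fin (2 * m)) := {i | i.val < m}
  let S := Equiv.Perm (Fin (2 * m))
  have hxO : x ∉ O := fun h => by simp only [O, x, Set.mem_setOf_eq] at h; omega
  -- a subgroup containing all transpositions fixing `x` contains the stabiliser of `x`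
  have gen : ∀ U : Subgroup S, (∀ a b, a ≠ x → b ≠ x → Equiv.swap a b ∈ U) →
      MulAction.stabilizer S x ≤ U := by
    intro U hU σ hσ
    have hσ' : σ x = x := hσ
    have hp : ∀ y, σ y ≠ x ↔ y ≠ x := fun y => by
      constructor <;> intro h h'
      · exact h (h' ▸ hσ')
      · exact h (σ.injective (h'.trans hσ'.symm))
    have hof : Equiv.Perm.ofSubtype (σ.subtypePerm (p := fun z => z ≠ x) hp) = σ :=
      Equiv.Perm.ofSubtype_subtypePerm (p := fun z => z ≠ x) hp fun y hy h => by subst h; exact hy hσ'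
    rw [← hof]
    induction (σ.subtypePerm (p := fun z => z ≠ x) hp) using Equiv.Perm.swap_induction_on with
    | one => simpa using U.one_mem
    | swap_mul f a b _ ih =>
      rw [map_mul, Equiv.Perm.ofSubtype_swap_eq]
      exact U.mul_mem (hU _ _ a.2 b.2) ih
  -- transpositions: gluing two classes
  have glue : ∀ (U : Subgroup S) (a b c : Fin (2 * m)), Equiv.swap a b ∈ U → Equiv.swap b c ∈ U →
      Equiv.swap a c ∈ U := by
    intro U a b c h1 h2
    by_cases hab : a = b
    · subst hab; exact h2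
    by_cases hac : a = c
    · rw [hac, Equiv.swap_self]; exact U.one_mem
    rw [Equiv.swap_comm a b] at h1
    by_cases hcb : c = b
    · rw [hcb, Equiv.swap_comm]; exact h1
    rw [← Equiv.swap_mul_swap_mul_swap (x := c) (y := b) (z := a) hcb (Ne.symm hac)]
    rw [Equiv.swap_comm b c] at h2
    exact U.mul_mem (U.mul_mem h1 h2) h1
  have join : ∀ (U : Subgroup S) (D : Set (Fin (2 * m))),
      (∀ a ∈ O, ∀ b ∈ O, Equiv.swap a b ∈ U) →
      (∀ a ∈ D, ∀ b ∈ D, a ∉ O → b ∉ O → Equiv.swap a b ∈ U) →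
      (∀ g ∈ U, ∀ a ∈ O, ∀ b ∈ O, g a ∈ O → g b ∈ D → g b ∉ O →
        ∀ c ∈ D, ∀ d ∈ D, Equiv.swap c d ∈ U) := by
    intro U D hO hD g hg a ha b hb hga hgbD hgb c hc d hd
    have hcross : Equiv.swap (g a) (g b) ∈ U := by
      rw [Equiv.swap_apply_apply]
      exact U.mul_mem (U.mul_mem hg (hO a ha b hb)) (U.inv_mem hg)
    have toA : ∀ e ∈ D, Equiv.swap (g a) e ∈ U := by
      intro e he
      by_cases heO : e ∈ O
      · exact hO _ hga _ heO
      · exact glue U _ _ _ hcross (hD _ hgbD _ he hgb heO)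
    exact glue U _ (g a) _ (by rw [Equiv.swap_comm]; exact toA c hc) (toA d hd)
  let M : Subgroup S := MulAction.stabilizer S x
  let L : Subgroup S := MulAction.stabilizer S O
  let K : Subgroup S :=
    { carrier := {σ | σ • O = O ∧ σ • Oᶜ = Oᶜ ∨ σ • O = Oᶜ ∧ σ • Oᶜ = O}
      one_mem' := Or.inl ⟨one_smul _ O, one_smul _ _⟩
      mul_mem' := by
        rintro a b ha hb
        simp only [Set.mem_setOf_eq, mul_smul] at ha hb ⊢
        rcases ha with ⟨a1, a2⟩ | ⟨a1, a2⟩ <;> rcases hb with ⟨b1, b2⟩ | ⟨b1, b2⟩ <;>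
          rw [b1, b2, a1, a2] <;> simp
      inv_mem' := by
        intro a ha
        simp only [Set.mem_setOf_eq, inv_smul_eq_iff] at ha ⊢
        rcases ha with ⟨a1, a2⟩ | ⟨a1, a2⟩
        · exact Or.inl ⟨a1.symm, a2.symm⟩
        · exact Or.inr ⟨a2.symm, a1.symm⟩ }
  have hLswap : ∀ a b, (a ∈ O ↔ b ∈ O) → Equiv.swap a b ∈ L := by
    intro a b h
    refine Set.eq_of_subset_of_ncard_le ?_ (Set.ncard_smul_set _ _).ge
    rintro _ ⟨y, hy, rfl⟩
    show Equiv.swap a b y ∈ O
    rcases eq_or_ne y a with rfl | h1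
    · rw [Equiv.swap_apply_left]; exact h.1 hy
    rcases eq_or_ne y b with rfl | h2
    · rw [Equiv.swap_apply_right]; exact h.2 hy
    · rwa [Equiv.swap_apply_of_ne_of_ne h1 h2]
  have hLK : L ≤ K := fun σ hσ =>
    Or.inl ⟨hσ, by rw [Set.smul_set_compl, MulAction.mem_stabilizer_iff.1 hσ]⟩
  have hOcard : O.ncard = m := by
    have : O = (fun i : Fin m => (⟨i.val, by omega⟩ : Fin (2 * m))) '' Set.univ := by
      ext i
      simp only [O, Set.mem_setOf_eq, Set.image_univ, Set.mem_range]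
      exact ⟨fun h => ⟨⟨i.val, h⟩, rfl⟩, fun ⟨j, hj⟩ => hj ▸ j.2⟩
    rw [this, Set.ncard_image_of_injective _ (fun a b h => Fin.ext (Fin.mk.inj h)), Set.ncard_univ,
      Nat.card_eq_fintype_card, Fintype.card_fin]
  have hOc : Oᶜ.ncard = m := by
    have := Set.ncard_add_ncard_compl O
    rw [hOcard, Nat.card_eq_fintype_card, Fintype.card_fin] at this
    omega
  obtain ⟨y, hy, hyx⟩ : ∃ y ∉ O, y ≠ x :=
    Set.exists_ne_of_one_lt_ncard (s := Oᶜ) (by omega) x
  let a0 : Fin (2 * m) := ⟨0, by omega⟩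
  let a1 : Fin (2 * m) := ⟨1, by omega⟩
  have ha0 : a0 ∈ O := by simp only [O, a0, Set.mem_setOf_eq]; omega
  have ha1 : a1 ∈ O := by simp only [O, a1, Set.mem_setOf_eq]; omega
  -- `M` is maximal of index `2 m`
  have hMidx : M.index = 2 * m := by
    rw [MulAction.index_stabilizer_of_transitive, Nat.card_eq_fintype_card, Fintype.card_fin]
  have hMne : M ≠ ⊤ := fun h => by
    rw [h, Subgroup.index_top] at hMidx; omega
  have hMmax : IsCoatom M := by
    refine ⟨hMne, fun U hU => top_le_iff.1 ?_⟩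
    obtain ⟨g, hg, hgM⟩ := SetLike.exists_of_lt hU
    have hgx : g x ≠ x := hgM
    have hMsw : ∀ a b, a ≠ x → b ≠ x → Equiv.swap a b ∈ U := fun a b ha hb =>
      hU.le (show Equiv.swap a b • x = x from Equiv.swap_apply_of_ne_of_ne ha.symm hb.symm)
    have hall : ∀ a b, Equiv.swap a b ∈ U := by
      -- `x` and `g x` are joined
      obtain ⟨b, hb1, hb2⟩ : ∃ b, b ≠ g x ∧ b ≠ x := by
        by_contra! h
        have h1 : (Finset.univ : Finset (Fin (2 * m))) ⊆ {g x, x} := fun b _ => by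
          by_cases hb : b = g x
          · simp [hb]
          · simp [h b hb]
        have h2 := (Finset.card_le_card h1).trans Finset.card_le_two
        rw [Finset.card_univ, Fintype.card_fin] at h2
        omega
      have hx1 : Equiv.swap x (g x) ∈ U ∨ Equiv.swap x (g⁻¹ b) ∈ U := by
        left
        have hsw := U.mul_mem (U.mul_mem (U.inv_mem hg) (hMsw (g x) b hgx hb2)) hg
        have he : g⁻¹ * Equiv.swap (g x) b * g = Equiv.swap x (g⁻¹ b) := by
          conv_rhs => rw [show x = g⁻¹ (g x) from (Equiv.symm_apply_apply g x).symm, Equiv.swap_apply_apply]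
          simp
        rw [he] at hsw
        refine glue U _ (g⁻¹ b) _ hsw (hMsw _ _ (fun h => ?_) hgx)
        exact hb1 (by rw [← h]; exact (Equiv.apply_symm_apply g b).symm)
      have hx2 : ∀ a, Equiv.swap x a ∈ U := by
        intro a
        by_cases ha : a = x
        · rw [ha, Equiv.swap_self]; exact U.one_mem
        rcases hx1 with h | h
        · exact glue U _ _ _ h (hMsw _ _ hgx ha)
        · refine glue U _ _ _ h (hMsw _ _ (fun h' => ?_) ha)
          exact hb1 (by rw [← h']; exact (Equiv.apply_symm_apply g b).symm)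
      intro a b
      exact glue U _ x _ (by rw [Equiv.swap_comm]; exact hx2 a) (hx2 b)
    intro σ hσ
    clear hσ
    induction σ using Equiv.Perm.swap_induction_on with
    | one => exact U.one_mem
    | swap_mul f a b _ ih => exact U.mul_mem (hall a b) ih
  refine ⟨M, M ⊓ L, K, hMmax, hMidx, inf_le_left, ?_, ?_, inf_le_right.trans hLK, ?_⟩
  · -- `M ⊓ L` is maximal in `M`
    refine ⟨fun h => ?_, fun U hU => ?_⟩
    · have h1 : M ≤ M ⊓ L := Subgroup.subgroupOf_eq_top.1 h
      have h2 : Equiv.swap a0 y • O = O := (h1 (show Equiv.swap a0 y • x = x from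
        Equiv.swap_apply_of_ne_of_ne (fun h => hxO (h ▸ ha0)) hyx.symm)).2
      exact hy (h2 ▸ (⟨a0, ha0, Equiv.swap_apply_left a0 y⟩ : y ∈ Equiv.swap a0 y • O))
    · obtain ⟨⟨g, hgM⟩, hgU, hgH⟩ := SetLike.exists_of_lt hU
      have hgx : g x = x := hgM
      have hgO : g • O ≠ O := fun h => hgH ⟨hgM, h⟩
      obtain ⟨b, hb, hgb⟩ : ∃ b ∈ O, g b ∉ O := by
        by_contra! h
        exact hgO (Set.eq_of_subset_of_ncard_le (by rintro _ ⟨z, hz, rfl⟩; exact h z hz)
          (Set.ncard_smul_set _ _).ge)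
      obtain ⟨a, ha, hga⟩ : ∃ a ∈ O, g a ∈ O := by
        by_contra! h
        have h1 : g • O ⊆ Oᶜ \ {x} := by
          rintro _ ⟨z, hz, rfl⟩
          exact ⟨h z hz, fun h' => hxO (g.injective ((Set.mem_singleton_iff.1 h').trans hgx.symm) ▸ hz)⟩
        have h2 := Set.ncard_le_ncard h1 (Set.toFinite _)
        rw [Set.ncard_smul_set, hOcard, Set.ncard_diff_singleton_of_mem (show x ∈ Oᶜ from hxO), hOc] at h2
        omega
      have hMsw : ∀ a b, a ≠ x → b ≠ x → (a ∈ O ↔ b ∈ O) → Equiv.swap a b ∈ U.map M.subtype := by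
        intro a b ha hb h
        have hmem : Equiv.swap a b ∈ M :=
          show Equiv.swap a b • x = x from Equiv.swap_apply_of_ne_of_ne ha.symm hb.symm
        exact ⟨⟨_, hmem⟩, hU.le ⟨hmem, hLswap a b h⟩, rfl⟩
      have hne : ∀ z ∈ O, z ≠ x := fun z hz h => hxO (h ▸ hz)
      have hfull := gen (U.map M.subtype) fun c d hc hd =>
        join (U.map M.subtype) {z | z ≠ x} (fun a ha b hb => hMsw a b (hne a ha) (hne b hb) (by simp [ha, hb]))
          (fun a ha b hb h1 h2 => hMsw a b ha hb (by simp [h1, h2])) g ⟨⟨g, hgM⟩, hgU, rfl⟩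
          a ha b hb hga (fun h => hne b hb (g.injective (h.trans hgx.symm))) hgb c hc d hd
      refine top_le_iff.1 fun u _ => ?_
      obtain ⟨u', hu', he⟩ := hfull u.2
      exact (Subtype.ext he : u' = u) ▸ hu'
  · -- `K` is maximal
    refine ⟨fun h => ?_, fun U hU => ?_⟩
    · have h1 : Equiv.swap a0 y ∈ K := h ▸ Subgroup.mem_top _
      have h2 : y ∈ Equiv.swap a0 y • O := ⟨a0, ha0, Equiv.swap_apply_left a0 y⟩
      have h3 : a1 ∈ Equiv.swap a0 y • O :=
        ⟨a1, ha1, Equiv.swap_apply_of_ne_of_ne (by simp [a0, a1, Fin.ext_iff]) (fun h => hy (h ▸ ha1))⟩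
      rcases h1 with ⟨h1, -⟩ | ⟨h1, -⟩
      · exact hy (h1 ▸ h2)
      · exact (h1 ▸ h3 : a1 ∈ Oᶜ) ha1
    · obtain ⟨g, hg, hgK⟩ := SetLike.exists_of_lt hU
      obtain ⟨b, hb, hgb⟩ : ∃ b ∈ O, g b ∉ O := by
        by_contra! h
        have : g • O = O := Set.eq_of_subset_of_ncard_le (by rintro _ ⟨z, hz, rfl⟩; exact h z hz)
          (Set.ncard_smul_set _ _).ge
        exact hgK (Or.inl ⟨this, by rw [Set.smul_set_compl, this]⟩)
      obtain ⟨a, ha, hga⟩ : ∃ a ∈ O, g a ∈ O := by
        by_contra! h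
        have : g • O = Oᶜ := Set.eq_of_subset_of_ncard_le (by rintro _ ⟨z, hz, rfl⟩; exact h z hz)
          (by rw [Set.ncard_smul_set, hOcard, hOc])
        exact hgK (Or.inr ⟨this, by rw [Set.smul_set_compl, this, compl_compl]⟩)
      refine top_le_iff.1 fun σ hσ => ?_
      clear hσ
      induction σ using Equiv.Perm.swap_induction_on with
      | one => exact U.one_mem
      | swap_mul f c d _ ih =>
        exact U.mul_mem (join U Set.univ (fun a ha b hb => hU.le (hLK (hLswap a b (by simp [ha, hb]))))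
          (fun a _ b _ h1 h2 => hU.le (hLK (hLswap a b (by simp [h1, h2])))) g hg a ha b hb hga trivial hgb
          c trivial d trivial) ih
  · -- `M ⊓ L` is not maximal in `K`
    intro h
    obtain ⟨-, h2⟩ := h
    have hlt : (M ⊓ L).subgroupOf K < L.subgroupOf K := by
      refine lt_of_le_of_ne (Subgroup.comap_mono inf_le_right) fun he => ?_
      have hs : Equiv.swap y x ∈ L := hLswap y x (by simp [hy, hxO])
      have h3 : (⟨_, hLK hs⟩ : K) ∈ (M ⊓ L).subgroupOf K := he ▸ hs
      have h4 : Equiv.swap y x • x = x := h3.1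
      exact hyx ((Equiv.swap_apply_right y x).symm.trans h4)
    have htop : L.subgroupOf K = ⊤ := h2 _ hlt
    obtain ⟨e⟩ : Nonempty (O ≃ ↥Oᶜ) := ⟨Fintype.equivOfCardEq (by
      rw [← Nat.card_eq_fintype_card, ← Nat.card_eq_fintype_card, Nat.card_coe_set_eq, Nat.card_coe_set_eq,
        hOcard, hOc])⟩
    let σ : S := (Equiv.Set.sumCompl O).symm.trans
      ((e.sumCongr e.symm).trans ((Equiv.sumComm _ _).trans (Equiv.Set.sumCompl O)))
    have h1 : σ • O = Oᶜ := by
      refine Set.eq_of_subset_of_ncard_le ?_ (by rw [Set.ncard_smul_set, hOcard, hOc])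
      rintro _ ⟨z, hz, rfl⟩
      have : σ z = (e ⟨z, hz⟩ : Fin (2 * m)) := by
        simp [σ, S, Equiv.Set.sumCompl_symm_apply_of_mem hz]
      show σ z ∈ Oᶜ
      rw [this]
      exact (e ⟨z, hz⟩).2
    have hσK : σ ∈ K := Or.inr ⟨h1, by rw [Set.smul_set_compl, h1, compl_compl]⟩
    have h3 : σ • O = O := (Subgroup.subgroupOf_eq_top.1 htop) hσK
    exact (h3.symm.trans h1 ▸ ha0 : a0 ∈ Oᶜ) ha0

end Cfsg.Agent.S5894
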