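import Cfsg.Statements.S5895
-- import your own Cfsg.Agent.* helpers here

set_option autoImplicit false
set_option linter.style.haveILetI false
open Cfsg

namespace Cfsg.Agent.S5895

section
variable {K V : Type} [Field K] [AddCommGroup V] [Module K V] [FiniteDimensional K V]

theorem exists_equiv_of_independent {k : ℕ} {v w : Fin k → V} (hv : LinearIndependent K v)
    (hw : LinearIndependent K w) : ∃ e : V ≃ₗ[K] V, ∀ i, e (v i) = w i := by
  obtain ⟨P', hP⟩ := Submodule.exists_isCompl (Submodule.span K (Set.range v))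
  obtain ⟨Q', hQ⟩ := Submodule.exists_isCompl (Submodule.span K (Set.range w))
  let e1 := (Module.Basis.span hv).equiv (Module.Basis.span hw) (Equiv.refl _)
  have hfin : Module.finrank K P' = Module.finrank K Q' := by
    have h1 := Submodule.finrank_add_eq_of_isCompl hP
    have h2 := Submodule.finrank_add_eq_of_isCompl hQ
    rw [finrank_span_eq_card hv] at h1
    rw [finrank_span_eq_card hw] at h2
    omega
  let e2 := LinearEquiv.ofFinrankEq P' Q' hfin
  refine ⟨((Submodule.prodEquivOfIsCompl _ _ hP).symm.trans (e1.prodCongr e2)).trans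
    (Submodule.prodEquivOfIsCompl _ _ hQ), fun i => ?_⟩
  have hm : v i ∈ Submodule.span K (Set.range v) := Submodule.subset_span ⟨i, rfl⟩
  rw [show v i = ((⟨v i, hm⟩ : Submodule.span K (Set.range v)) : V) from rfl, LinearEquiv.trans_apply,
    LinearEquiv.trans_apply, Submodule.prodEquivOfIsCompl_symm_apply_left]
  have h3 : (⟨v i, hm⟩ : Submodule.span K (Set.range v)) = Module.Basis.span hv i :=
    (Module.Basis.span_apply hv i).symm
  rw [h3, LinearEquiv.prodCongr_apply, map_zero, Submodule.coe_prodEquivOfIsCompl']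
  simp only [e1, Module.Basis.equiv_apply, Equiv.refl_apply, ZeroMemClass.coe_zero, add_zero]
  rw [Module.Basis.span_apply]

/-- The stabiliser of a line. -/
def lineStab (a : V) : Subgroup (V ≃ₗ[K] V) where
  carrier := {e | ∀ x, x ∈ Submodule.span K {a} ↔ e x ∈ Submodule.span K {a}}
  one_mem' := fun x => Iff.rfl
  mul_mem' := fun {e f} he hf x => (hf x).trans (he (f x))
  inv_mem' := fun {e} he x => by
    have h := he (e.symm x)
    rw [e.apply_symm_apply] at h
    exact h.symm

omit [FiniteDimensional K V] in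
theorem mem_lineStab_of_apply {a : V} (ha : a ≠ 0) {e : V ≃ₗ[K] V} (he : e a ∈ Submodule.span K {a}) :
    e ∈ lineStab a := by
  obtain ⟨c, hc⟩ := Submodule.mem_span_singleton.1 he
  have hc0 : c ≠ 0 := fun h => ha (e.injective (by rw [← hc, h, zero_smul, map_zero]))
  intro x
  simp only [Submodule.mem_span_singleton]
  constructor
  · rintro ⟨r, rfl⟩
    exact ⟨r * c, by rw [map_smul, ← hc, smul_smul]⟩
  · rintro ⟨r, hr⟩
    refine ⟨r / c, e.injective ?_⟩
    rw [map_smul, ← hc, smul_smul, div_mul_cancel₀ r hc0, hr]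

theorem isCoatom_lineStab (h2 : 2 ≤ Module.finrank K V) {a : V} (ha : a ≠ 0) :
    IsCoatom (lineStab (K := K) a) := by
  have hex : ∃ b, b ∉ Submodule.span K {a} := by
    by_contra h
    push Not at h
    have : Submodule.span K {a} = ⊤ := eq_top_iff.2 fun x _ => h x
    have h1 := finrank_span_singleton (K := K) ha
    rw [this, finrank_top] at h1
    omega
  have hind : ∀ b : V, b ∉ Submodule.span K {a} → LinearIndependent K ![a, b] := fun b hb => by
    rw [LinearIndependent.pair_iff]
    intro s t hst
    by_cases ht : t = 0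
    · subst ht
      exact ⟨(smul_eq_zero.1 (by simpa using hst)).resolve_right ha, rfl⟩
    · refine absurd (Submodule.mem_span_singleton.2 ⟨-s / t, ?_⟩) hb
      rw [add_eq_zero_iff_eq_neg] at hst
      rw [neg_div, neg_smul, div_eq_inv_mul, mul_smul, hst, smul_neg, neg_neg, inv_smul_smul₀ ht]
  constructor
  · intro htop
    obtain ⟨b, hb⟩ := hex
    have hba : b ≠ 0 := fun h => hb (h ▸ zero_mem _)
    obtain ⟨e, he⟩ := exists_equiv_of_independent (K := K) (v := ![a]) (w := ![b])
      (linearIndependent_unique_iff.2 ha) (linearIndependent_unique_iff.2 hba)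
    have h1 : e ∈ lineStab (K := K) a := htop ▸ Subgroup.mem_top e
    have h2 := (h1 a).1 (Submodule.mem_span_singleton_self a)
    rw [show e a = b from he 0] at h2
    exact hb h2
  · intro J hJ
    obtain ⟨g, hgJ, hg⟩ := SetLike.exists_of_lt hJ
    have hga : g a ∉ Submodule.span K {a} := fun h => hg (mem_lineStab_of_apply ha h)
    refine eq_top_iff.2 fun h _ => ?_
    by_cases hh : h a ∈ Submodule.span K {a}
    · exact hJ.le (mem_lineStab_of_apply ha hh)
    obtain ⟨e, he⟩ := exists_equiv_of_independent (hind _ hga) (hind _ hh)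
    have hes : e ∈ lineStab (K := K) a :=
      mem_lineStab_of_apply ha (by rw [show e a = a from he 0]; exact Submodule.mem_span_singleton_self a)
    have h3 : (e * g)⁻¹ * h ∈ lineStab (K := K) a := by
      refine mem_lineStab_of_apply ha ?_
      show (e * g).symm (h a) ∈ _
      rw [show h a = (e * g) a from (he 1).symm, LinearEquiv.symm_apply_apply]
      exact Submodule.mem_span_singleton_self a
    have h4 := mul_mem (mul_mem (hJ.le hes) hgJ) (hJ.le h3)
    rwa [mul_inv_cancel_left] at h4

/-- The natural action on the additive group. -/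
def autHom : (V ≃ₗ[K] V) →* MulAut (Multiplicative V) where
  toFun e := e.toAddEquiv.toMultiplicative
  map_one' := rfl
  map_mul' _ _ := rfl

theorem affine_example [Finite K] (h2 : 2 ≤ Module.finrank K V) :
    ∃ (M H J : Subgroup (Multiplicative V ⋊[autHom (K := K) (V := V)] (V ≃ₗ[K] V))),
      IsCoatom M ∧ M.index = Nat.card V ∧ H ≤ M ∧ IsCoatom (H.subgroupOf M) ∧ IsCoatom J ∧ H ≤ J ∧
        ¬ IsCoatom (H.subgroupOf J) := by
  obtain ⟨a, ha⟩ : ∃ a : V, a ≠ 0 := by
    haveI : Nontrivial V := Module.nontrivial_of_finrank_pos (R := K) (by omega)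
    exact exists_ne 0
  let φ : (V ≃ₗ[K] V) →* MulAut (Multiplicative V) := autHom
  let inr' : (V ≃ₗ[K] V) →* Multiplicative V ⋊[φ] (V ≃ₗ[K] V) := SemidirectProduct.inr
  let rh : Multiplicative V ⋊[φ] (V ≃ₗ[K] V) →* (V ≃ₗ[K] V) := SemidirectProduct.rightHom
  let S : Subgroup (V ≃ₗ[K] V) := lineStab a
  have hS : IsCoatom S := isCoatom_lineStab h2 ha
  have hinj : Function.Injective inr' := SemidirectProduct.inr_injective
  refine ⟨inr'.range, S.map inr', S.comap rh, ?_, ?_, Subgroup.map_le_range _ _, ?_, ?_, ?_, ?_⟩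
  · -- maximality of the point stabiliser
    constructor
    · intro h
      have h1 : SemidirectProduct.inl (φ := φ) (Multiplicative.ofAdd a) ∈ inr'.range :=
        h ▸ Subgroup.mem_top _
      obtain ⟨e, he⟩ := h1
      have h := congrArg SemidirectProduct.left he
      simp only [inr', SemidirectProduct.left_inr, SemidirectProduct.left_inl] at h
      exact ha (Multiplicative.ofAdd.injective (h.symm.trans ofAdd_zero.symm))
    · intro J hJ
      obtain ⟨x, hxJ, hx⟩ := SetLike.exists_of_lt hJ
      have hv : x.left ≠ 1 := fun h => hx ⟨x.right, SemidirectProduct.ext h.symm rfl⟩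
      have hxl : SemidirectProduct.inl (φ := φ) x.left ∈ J := by
        have h1 := mul_mem hxJ (inv_mem (hJ.le (⟨x.right, rfl⟩ : inr' x.right ∈ inr'.range)))
        rwa [show x * (inr' x.right)⁻¹ = SemidirectProduct.inl (φ := φ) x.left by
          rw [mul_inv_eq_iff_eq_mul]; exact (SemidirectProduct.inl_left_mul_inr_right x).symm] at h1
      refine eq_top_iff.2 fun y _ => ?_
      rw [← SemidirectProduct.inl_left_mul_inr_right y]
      refine mul_mem ?_ (hJ.le ⟨y.right, rfl⟩)
      by_cases hy : y.left = 1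
      · rw [hy, map_one]; exact one_mem J
      obtain ⟨e, he⟩ := exists_equiv_of_independent (K := K) (v := ![Multiplicative.toAdd x.left])
        (w := ![Multiplicative.toAdd y.left]) (linearIndependent_unique_iff.2 hv) (linearIndependent_unique_iff.2 hy)
      have h1 : φ e x.left = y.left := he 0
      rw [← h1, SemidirectProduct.inl_aut]
      exact mul_mem (mul_mem (hJ.le ⟨e, rfl⟩) hxl) (hJ.le ⟨e⁻¹, rfl⟩)
  · haveI : Finite V := Module.finite_of_finite K
    haveI : Finite (V ≃ₗ[K] V) := Finite.of_injective _ DFunLike.coe_injective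
    have h1 := Subgroup.card_mul_index inr'.range
    rw [SemidirectProduct.card, ← Nat.card_congr (MonoidHom.ofInjective hinj).toEquiv,
      Nat.card_congr (Multiplicative.toAdd (α := V)), mul_comm (Nat.card V)] at h1
    exact Nat.eq_of_mul_eq_mul_left Nat.card_pos h1
  · constructor
    · intro h
      rw [Subgroup.subgroupOf_eq_top] at h
      refine hS.1 (eq_top_iff.2 fun e _ => ?_)
      obtain ⟨e', he', hee⟩ := h ⟨e, rfl⟩
      exact hinj hee ▸ he'
    · intro J hJ
      have h1 : S < J.comap inr'.rangeRestrict := by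
        obtain ⟨x, hxJ, hx⟩ := SetLike.exists_of_lt hJ
        refine lt_of_le_of_ne (fun e he => hJ.le (show inr'.rangeRestrict e ∈ _ from ⟨e, he, rfl⟩)) fun h => hx ?_
        obtain ⟨e, rfl⟩ := inr'.rangeRestrict_surjective x
        exact ⟨e, h ▸ hxJ, rfl⟩
      rw [eq_top_iff]
      rintro x -
      obtain ⟨e, rfl⟩ := inr'.rangeRestrict_surjective x
      exact (hS.2 _ h1 ▸ Subgroup.mem_top e : e ∈ J.comap inr'.rangeRestrict)
  · exact Subgroup.isCoatom_comap_of_surjective SemidirectProduct.rightHom_surjective hS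
  · rintro _ ⟨e, he, rfl⟩
    exact (SemidirectProduct.rightHom_inr (φ := φ) e).symm ▸ he
  · intro hc
    let W : Subgroup (Multiplicative V ⋊[φ] (V ≃ₗ[K] V)) :=
      { carrier := {x | x.right ∈ S ∧ Multiplicative.toAdd x.left ∈ Submodule.span K {a}}
        one_mem' := ⟨one_mem S, zero_mem _⟩
        mul_mem' := fun {x y} hx hy => ⟨mul_mem hx.1 hy.1, add_mem hx.2 ((hx.1 _).1 hy.2)⟩
        inv_mem' := fun {x} hx => ⟨inv_mem hx.1, ((inv_mem hx.1 : x.right⁻¹ ∈ S) _).1 (neg_mem hx.2)⟩ }
    have h1 : (S.map inr').subgroupOf (S.comap rh) < W.subgroupOf (S.comap rh) := by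
      refine lt_of_le_of_ne (fun x hx => ?_) fun h => ?_
      · obtain ⟨e, he, hex⟩ := hx
        show (x : Multiplicative V ⋊[φ] (V ≃ₗ[K] V)) ∈ W
        rw [show (x : Multiplicative V ⋊[φ] (V ≃ₗ[K] V)) = inr' e from hex.symm]
        exact ⟨he, zero_mem _⟩
      · have hm : (⟨SemidirectProduct.inl (Multiplicative.ofAdd a), one_mem S⟩ : S.comap rh) ∈
            W.subgroupOf (S.comap rh) := ⟨one_mem S, Submodule.mem_span_singleton_self a⟩
        rw [← h] at hm
        obtain ⟨e, -, he⟩ := hm
        have h := congrArg SemidirectProduct.left he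
        simp only [inr', SemidirectProduct.left_inr, SemidirectProduct.left_inl, Subgroup.subtype_apply] at h
        exact ha (Multiplicative.ofAdd.injective (h.symm.trans ofAdd_zero.symm))
    have h3 := hc.2 _ h1
    rw [Subgroup.subgroupOf_eq_top] at h3
    refine (isCoatom_lineStab (K := K) h2 ha).1 (eq_top_iff.2 fun e _ => ?_)
    have h4 : ∀ v : V, v ∈ Submodule.span K {a} := fun v =>
      (h3 (show SemidirectProduct.inl (φ := φ) (Multiplicative.ofAdd v) ∈ S.comap rh from one_mem S)).2
    exact fun x => ⟨fun _ => h4 _, fun _ => h4 _⟩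

end

/-- For every prime p and every d ≥ 2 there is a finite group G with a maximal subgroup M of index p^d and a maximal subgroup H of M that is not second maximal in G: some maximal subgroup K of G contains H without H being maximal in K. (One may take G the affine group V ⋊ GL(V) of V = 𝔽_p^d, M = GL(V), H the stabiliser in M of a line W of V, and K = V ⋊ H, with H < W ⋊ H < K.) So the prime-index hypothesis in the second-maximality criterion cannot be relaxed to prime-power index. -/
theorem result (p d : ℕ) (hp : p.Prime)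
    (hd : 2 ≤ d) :
    ∃ (G : Type) (_ : Group G) (_ : Finite G) (M H K : Subgroup G), IsCoatom M ∧ M.index = p ^ d ∧ H ≤ M ∧
      IsCoatom (H.subgroupOf M) ∧ IsCoatom K ∧ H ≤ K ∧ ¬ IsCoatom (H.subgroupOf K) := by
  haveI : Fact p.Prime := ⟨hp⟩
  haveI : Finite (Multiplicative (Fin d → ZMod p) ⋊[autHom (K := ZMod p) (V := Fin d → ZMod p)]
      ((Fin d → ZMod p) ≃ₗ[ZMod p] (Fin d → ZMod p))) := by
    haveI : Finite ((Fin d → ZMod p) ≃ₗ[ZMod p] (Fin d → ZMod p)) :=
      Finite.of_injective _ DFunLike.coe_injective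
    exact Finite.of_equiv _ SemidirectProduct.equivProd.symm
  obtain ⟨M, H, J, h1, h2, h3, h4, h5, h6, h7⟩ := affine_example (K := ZMod p) (V := Fin d → ZMod p)
    (by rwa [Module.finrank_fin_fun])
  exact ⟨_, inferInstance, inferInstance, M, H, J, h1, by simpa using h2, h3, h4, h5, h6, h7⟩

end Cfsg.Agent.S5895
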