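import Cfsg.Statements.S5902
import Mathlib

set_option autoImplicit false
open Cfsg

namespace Cfsg.Agent.S5902

/-- Let G be a finite group, X a subgroup whose own subgroup lattice is complemented, and suppose X lies in exactly one maximal subgroup M of G. Then every subgroup H of G not contained in the normal core of M has a complement in the subgroup lattice of G (some C with H ⊔ C = G and H ⊓ C = 1); in particular the subgroup lattice of G modulo the normal core of M is complemented. -/
theorem result {G : Type*} [Group G] [Finite G] (X M : Subgroup G)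
    (hK : ComplementedLattice (Subgroup X))
    (hM : IsCoatom M) (hXM : X ≤ M) (huniq : ∀ M' : Subgroup G, IsCoatom M' → X ≤ M' → M' = M) :
    (∀ H : Subgroup G, ¬ H ≤ M.normalCore → ∃ C : Subgroup G, H ⊔ C = ⊤ ∧ H ⊓ C = ⊥) ∧
    ComplementedLattice (Subgroup (G ⧸ M.normalCore)) := by
  have hconj : ∀ (g : G) (H : Subgroup G), (∃ C : Subgroup G,
      H.map (MulAut.conj g).toMonoidHom ⊔ C = ⊤ ∧ H.map (MulAut.conj g).toMonoidHom ⊓ C = ⊥) →
      ∃ C : Subgroup G, H ⊔ C = ⊤ ∧ H ⊓ C = ⊥ := by
    rintro g H ⟨C, h1, h2⟩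
    refine ⟨C.comap (MulAut.conj g).toMonoidHom, ?_, ?_⟩
    · have := congrArg (Subgroup.comap (MulAut.conj g).toMonoidHom) h1
      rwa [← Subgroup.comap_sup_eq _ _ _ (MulAut.conj g).surjective, Subgroup.comap_top,
        Subgroup.comap_map_eq_self_of_injective (MulAut.conj g).injective] at this
    · have := congrArg (Subgroup.comap (MulAut.conj g).toMonoidHom) h2
      rwa [Subgroup.comap_inf, Subgroup.comap_map_eq_self_of_injective (MulAut.conj g).injective,
        MonoidHom.comap_bot, (MonoidHom.ker_eq_bot_iff (f := (MulAut.conj g).toMonoidHom)).2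
          (MulAut.conj g).injective] at this
  have main : ∀ H : Subgroup G, ¬ H ≤ M → ∃ C : Subgroup G, H ⊔ C = ⊤ ∧ H ⊓ C = ⊥ := by
    intro H hH
    obtain ⟨Y, hY⟩ := exists_isCompl (H.subgroupOf X)
    refine ⟨Y.map X.subtype, ?_, ?_⟩
    · by_contra hne
      obtain ⟨M', hM', hle⟩ := (eq_top_or_exists_le_coatom (H ⊔ Y.map X.subtype)).resolve_left hne
      have hXle : X ≤ M' := by
        have := congrArg (Subgroup.map X.subtype) hY.sup_eq_top
        rw [Subgroup.map_sup, ← MonoidHom.range_eq_map, Subgroup.range_subtype,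
          Subgroup.subgroupOf_map_subtype] at this
        rw [← this]
        exact le_trans (sup_le_sup_right inf_le_left _) hle
      exact hH ((huniq M' hM' hXle) ▸ le_sup_left.trans hle)
    · rw [Subgroup.eq_bot_iff_forall]
      rintro x ⟨hxH, y, hy, rfl⟩
      have : y ∈ H.subgroupOf X ⊓ Y := ⟨hxH, hy⟩
      rw [hY.inf_eq_bot, Subgroup.mem_bot] at this
      simp [this]
  have hall : ∀ H : Subgroup G, ¬ H ≤ M.normalCore → ∃ C : Subgroup G, H ⊔ C = ⊤ ∧ H ⊓ C = ⊥ := by
    intro H hH
    obtain ⟨h, hh, hhn⟩ := SetLike.not_le_iff_exists.1 hH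
    change ¬ ∀ b : G, b * h * b⁻¹ ∈ M at hhn
    push Not at hhn
    obtain ⟨b, hb⟩ := hhn
    refine hconj b H (main _ fun hle => hb (hle ?_))
    exact Subgroup.mem_map.2 ⟨h, hh, by simp⟩
  refine ⟨hall, ⟨fun K => ?_⟩⟩
  by_cases hK1 : K.comap (QuotientGroup.mk' M.normalCore) ≤ M.normalCore
  · refine ⟨⊤, ?_⟩
    have : K = ⊥ := by
      rw [← Subgroup.map_comap_eq_self_of_surjective (QuotientGroup.mk'_surjective M.normalCore) K,
        Subgroup.map_eq_bot_iff, QuotientGroup.ker_mk']
      exact hK1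
    rw [this]; exact isCompl_bot_top
  · obtain ⟨C, h1, h2⟩ := hall _ hK1
    refine ⟨C.map (QuotientGroup.mk' M.normalCore), IsCompl.of_eq ?_ ?_⟩
    · rw [Subgroup.eq_bot_iff_forall]
      rintro x ⟨hxK, c, hc, rfl⟩
      have : c ∈ K.comap (QuotientGroup.mk' M.normalCore) ⊓ C := ⟨hxK, hc⟩
      rw [h2, Subgroup.mem_bot] at this
      simp [this]
    · have := congrArg (Subgroup.map (QuotientGroup.mk' M.normalCore)) h1
      rwa [Subgroup.map_sup, Subgroup.map_comap_eq_self_of_surjective (QuotientGroup.mk'_surjective _),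
        ← MonoidHom.range_eq_map, MonoidHom.range_eq_top.2 (QuotientGroup.mk'_surjective _)] at this

end Cfsg.Agent.S5902
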