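import Cfsg.Statements.S5903
import Mathlib
import Cfsg.Agent.S5901

set_option autoImplicit false
open Cfsg

namespace Cfsg.Agent.S5903

/-- Let G be a finite simple group, X a subgroup lying in exactly one maximal subgroup M of G, and N a subgroup of prime order with N ≤ X that is central in M. If the subgroup lattice of X/N is complemented, then the subgroup lattice of G is complemented. -/
theorem result {G : Type*} [Group G] [Finite G] [IsSimpleGroup G] (X M N : Subgroup G)
    (hM : IsCoatom M) (hXM : X ≤ M) (huniq : ∀ M' : Subgroup G, IsCoatom M' → X ≤ M' → M' = M)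
    (hNX : N ≤ X) (hN : (Nat.card N).Prime) (hcen : ∀ n ∈ N, ∀ m ∈ M, m * n = n * m)
    [(N.subgroupOf X).Normal] (hK : ComplementedLattice (Subgroup (X ⧸ N.subgroupOf X))) :
    ComplementedLattice (Subgroup G) := by
  classical
  refine ⟨fun H => ?_⟩
  by_cases hHb : H = ⊥
  · exact ⟨⊤, hHb ▸ isCompl_bot_top⟩
  by_cases hHt : H = ⊤
  · exact ⟨⊥, hHt ▸ isCompl_top_bot⟩
  -- some conjugate of `H` is outside `M` and meets `N` trivially
  obtain ⟨g, hgM, hgN⟩ : ∃ g : G, ¬ H.map (MulAut.conj g).toMonoidHom ≤ M ∧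
      ¬ N ≤ H.map (MulAut.conj g).toMonoidHom := by
    by_contra! hcon
    have hgen : ∀ g : G, ∀ n ∈ N, g⁻¹ * n * g ∈ Subgroup.normalizer (H : Set G) := by
      intro g n hn
      by_cases hg : H.map (MulAut.conj g).toMonoidHom ≤ M
      · -- `n` centralizes the conjugate
        have hc : ∀ h ∈ H, (g⁻¹ * n * g) * h = h * (g⁻¹ * n * g) := by
          intro h hh
          have hm : g * h * g⁻¹ ∈ M := hg (Subgroup.mem_map.2 ⟨h, hh, by simp⟩)
          calc g⁻¹ * n * g * h = g⁻¹ * (n * (g * h * g⁻¹)) * g := by group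
            _ = g⁻¹ * ((g * h * g⁻¹) * n) * g := by rw [hcen n hn _ hm]
            _ = h * (g⁻¹ * n * g) := by group
        refine Subgroup.centralizer_le_normalizer _ ?_
        exact Subgroup.mem_centralizer_iff.2 fun h hh => (hc h hh).symm
      · obtain ⟨h, hh, e⟩ := Subgroup.mem_map.1 (hcon g hg hn)
        refine Subgroup.le_normalizer ?_
        have : g⁻¹ * n * g = h := by
          rw [← e]
          simp [mul_assoc]
        rw [this]; exact hh
    have htop : Subgroup.normalClosure (N : Set G) = ⊤ := by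
      refine (IsSimpleGroup.eq_bot_or_eq_top_of_normal _ Subgroup.normalClosure_normal).resolve_left fun h => ?_
      have : N = ⊥ := le_bot_iff.1 (h ▸ Subgroup.subset_normalClosure)
      rw [this, Subgroup.card_bot] at hN
      exact Nat.not_prime_one hN
    have : Subgroup.normalizer (H : Set G) = ⊤ := top_le_iff.1 (htop ▸ by
      rw [Subgroup.normalClosure, Subgroup.closure_le]
      intro x hx
      obtain ⟨n, hn, hnx⟩ := Group.mem_conjugatesOfSet_iff.1 hx
      obtain ⟨c, rfl⟩ := isConj_iff.1 hnx
      simpa using hgen c⁻¹ n hn)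
    rcases IsSimpleGroup.eq_bot_or_eq_top_of_normal H (Subgroup.normalizer_eq_top_iff.1 this) with h | h
    · exact hHb h
    · exact hHt h
  have hXtop : X ≠ ⊤ := fun h => hM.1 (top_le_iff.1 (h ▸ hXM))
  have hint : ∀ Y : Subgroup G, N ≤ Y → Y ≤ X → ∃ C : Subgroup G, N ≤ C ∧ C ≤ X ∧ Y ⊔ C = X ∧ Y ⊓ C = N := by
    intro Y hNY hYX
    obtain ⟨D, hD⟩ := exists_isCompl ((Y.subgroupOf X).map (QuotientGroup.mk' (N.subgroupOf X)))
    have hker : N.subgroupOf X ≤ Y.subgroupOf X := Subgroup.comap_mono hNY
    have e1 : (Y.subgroupOf X) ⊔ D.comap (QuotientGroup.mk' (N.subgroupOf X)) = ⊤ := by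
      have := congrArg (Subgroup.comap (QuotientGroup.mk' (N.subgroupOf X))) hD.sup_eq_top
      rw [← Subgroup.comap_sup_eq _ _ _ (QuotientGroup.mk'_surjective _), Subgroup.comap_map_eq_self
        (by rwa [QuotientGroup.ker_mk']), Subgroup.comap_top] at this
      exact this
    have e2 : (Y.subgroupOf X) ⊓ D.comap (QuotientGroup.mk' (N.subgroupOf X)) = N.subgroupOf X := by
      have := congrArg (Subgroup.comap (QuotientGroup.mk' (N.subgroupOf X))) hD.inf_eq_bot
      rw [Subgroup.comap_inf, Subgroup.comap_map_eq_self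
        (by rwa [QuotientGroup.ker_mk']), MonoidHom.comap_bot, QuotientGroup.ker_mk'] at this
      exact this
    refine ⟨(D.comap (QuotientGroup.mk' (N.subgroupOf X))).map X.subtype, ?_, Subgroup.map_subtype_le _, ?_, ?_⟩
    · have := Subgroup.map_mono (f := X.subtype) (e2.ge.trans inf_le_right)
      rwa [Subgroup.subgroupOf_map_subtype, inf_eq_left.2 hNX] at this
    · have := congrArg (Subgroup.map X.subtype) e1
      rwa [Subgroup.map_sup, Subgroup.subgroupOf_map_subtype, inf_eq_left.2 hYX, ← MonoidHom.range_eq_map,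
        Subgroup.range_subtype] at this
    · have := congrArg (Subgroup.map X.subtype) e2
      rwa [Subgroup.map_inf_eq _ _ _ (Subgroup.subtype_injective X), Subgroup.subgroupOf_map_subtype,
        Subgroup.subgroupOf_map_subtype, inf_eq_left.2 hYX, inf_eq_left.2 hNX] at this
  have hinf : H.map (MulAut.conj g).toMonoidHom ⊓ N = ⊥ := by
    haveI : Fact (Nat.card N).Prime := ⟨hN⟩
    rcases ((H.map (MulAut.conj g).toMonoidHom).subgroupOf N).eq_bot_or_eq_top_of_prime_card with h | h
    · exact disjoint_iff.1 (Subgroup.subgroupOf_eq_bot.1 h)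
    · exact absurd (Subgroup.subgroupOf_eq_top.1 h) hgN
  obtain ⟨C, h1, h2⟩ := Cfsg.Agent.S5901.result N X M hNX hXtop hint hM hXM huniq _ hgM hinf
  refine ⟨C.comap (MulAut.conj g).toMonoidHom, IsCompl.of_eq ?_ ?_⟩
  · have := congrArg (Subgroup.comap (MulAut.conj g).toMonoidHom) h2
    rwa [Subgroup.comap_inf, Subgroup.comap_map_eq_self_of_injective (MulAut.conj g).injective,
      MonoidHom.comap_bot, (MonoidHom.ker_eq_bot_iff (f := (MulAut.conj g).toMonoidHom)).2
        (MulAut.conj g).injective] at this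
  · have := congrArg (Subgroup.comap (MulAut.conj g).toMonoidHom) h1
    rwa [← Subgroup.comap_sup_eq _ _ _ (MulAut.conj g).surjective, Subgroup.comap_top,
      Subgroup.comap_map_eq_self_of_injective (MulAut.conj g).injective] at this

end Cfsg.Agent.S5903
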