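import Cfsg.Statements.S5904
import Mathlib

set_option autoImplicit false
open scoped Pointwise
open Cfsg

namespace Cfsg.Agent.S5904

/-- Let Ω be a finite set with more than two elements and O ⊆ Ω a subset with exactly as many elements as its complement. Then the setwise stabilizer of O in the symmetric group on Ω is not a maximal subgroup (it is properly contained in the stabilizer of the partition {O, Ω ∖ O}, which is proper). -/
theorem result {Ω : Type*} [Fintype Ω] [DecidableEq Ω] (hΩ : 2 < Fintype.card Ω)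
    (O : Set Ω) (hO : Nat.card O = Nat.card ↥Oᶜ) :
    ¬ IsCoatom (MulAction.stabilizer (Equiv.Perm Ω) O) := by
  classical
  intro hmax
  -- the stabilizer of the partition into the two halves
  let W : Subgroup (Equiv.Perm Ω) :=
    { carrier := {σ | σ • O = O ∧ σ • Oᶜ = Oᶜ ∨ σ • O = Oᶜ ∧ σ • Oᶜ = O}
      one_mem' := Or.inl ⟨one_smul _ O, one_smul _ _⟩
      mul_mem' := by
        rintro a b ha hb
        simp only [Set.mem_setOf_eq, mul_smul] at ha hb ⊢
        rcases ha with ⟨a1, a2⟩ | ⟨a1, a2⟩ <;> rcases hb with ⟨b1, b2⟩ | ⟨b1, b2⟩ <;>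
          rw [b1, b2, a1, a2] <;> simp
      inv_mem' := by
        intro a ha
        simp only [Set.mem_setOf_eq, inv_smul_eq_iff] at ha ⊢
        rcases ha with ⟨a1, a2⟩ | ⟨a1, a2⟩
        · exact Or.inl ⟨a1.symm, a2.symm⟩
        · exact Or.inr ⟨a2.symm, a1.symm⟩ }
  have hsum : Nat.card O + Nat.card ↥Oᶜ = Fintype.card Ω := by
    rw [Nat.card_coe_set_eq, Nat.card_coe_set_eq, Set.ncard_add_ncard_compl O, Nat.card_eq_fintype_card]
  obtain ⟨a, ha, a', ha', haa'⟩ : ∃ a ∈ O, ∃ a' ∈ O, a ≠ a' := by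
    refine (Set.one_lt_ncard_iff_nontrivial.1 ?_ : O.Nontrivial)
    rw [← Nat.card_coe_set_eq]; omega
  obtain ⟨b, hb⟩ : (Oᶜ).Nonempty := by
    apply Set.nonempty_of_ncard_ne_zero
    rw [← Nat.card_coe_set_eq]; omega
  have hle : MulAction.stabilizer (Equiv.Perm Ω) O ≤ W := fun σ hσ =>
    Or.inl ⟨hσ, by rw [Set.smul_set_compl, MulAction.mem_stabilizer_iff.1 hσ]⟩
  have hne : (O ≠ Oᶜ) := fun h => (h ▸ ha : a ∈ Oᶜ) ha
  -- an element of `W` interchanging the halves
  have hswap : ∃ σ ∈ W, σ • O = Oᶜ := by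
    obtain ⟨e⟩ : Nonempty (O ≃ ↥Oᶜ) := ⟨Fintype.equivOfCardEq (by
      rw [← Nat.card_eq_fintype_card, ← Nat.card_eq_fintype_card, hO])⟩
    let σ : Equiv.Perm Ω := (Equiv.Set.sumCompl O).symm.trans
      ((e.sumCongr e.symm).trans ((Equiv.sumComm _ _).trans (Equiv.Set.sumCompl O)))
    have h1 : σ • O = Oᶜ := by
      refine Set.eq_of_subset_of_ncard_le ?_ ?_
      · rintro _ ⟨x, hx, rfl⟩
        have : σ x = (e ⟨x, hx⟩ : Ω) := by
          simp [σ, Equiv.Set.sumCompl_symm_apply_of_mem hx]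
        show σ x ∈ Oᶜ
        rw [this]
        exact (e ⟨x, hx⟩).2
      · rw [Set.ncard_smul_set, ← Nat.card_coe_set_eq, ← Nat.card_coe_set_eq, hO]
    exact ⟨σ, Or.inr ⟨h1, by rw [Set.smul_set_compl, h1, compl_compl]⟩, h1⟩
  obtain ⟨σ, hσW, hσ⟩ := hswap
  have hlt : MulAction.stabilizer (Equiv.Perm Ω) O < W := lt_of_le_of_ne hle fun h => by
    rw [← h, MulAction.mem_stabilizer_iff, hσ] at hσW
    exact hne hσW.symm
  have htop : Equiv.swap a b ∈ W := by rw [hmax.2 W hlt]; trivial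
  have hb' : b ∈ Equiv.swap a b • O := ⟨a, ha, by simp⟩
  have ha'' : a' ∈ Equiv.swap a b • O :=
    ⟨a', ha', by simp [Equiv.swap_apply_of_ne_of_ne haa'.symm (fun h : a' = b => hb (h ▸ ha'))]⟩
  rcases htop with ⟨h, -⟩ | ⟨h, -⟩
  · exact hb (h ▸ hb')
  · exact (h ▸ ha'' : a' ∈ Oᶜ) ha'

end Cfsg.Agent.S5904
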