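import Cfsg.Statements.S5908
import Cfsg.Agent.S0827
-- import your own Cfsg.Agent.* helpers here

set_option autoImplicit false
open Cfsg

namespace Cfsg.Agent.S5908

/-- The subgroup lattice of PSU₃(2) (the solvable group of order 72, realised over the field with 4 elements) is not complemented: some subgroup H has no subgroup X with H ⊔ X = ⊤ and H ⊓ X = ⊥. -/
theorem result {F : Type*} [Field F] [Fintype F] (hF : Fintype.card F = 4) :
    ¬ ComplementedLattice (Subgroup (Cfsg.PSU 3 F 2)) := by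
  classical
  intro hC
  haveI := hC
  obtain ⟨N, hN, -, -, ⟨e⟩⟩ := Cfsg.Agent.S0827.result hF
  let π : Cfsg.PSU 3 F 2 →* QuaternionGroup 2 := e.toMonoidHom.comp (QuotientGroup.mk' N)
  have hπ : Function.Surjective π := e.surjective.comp (QuotientGroup.mk'_surjective N)
  obtain ⟨z, hz⟩ : ∃ z : QuaternionGroup 2, z = QuaternionGroup.a 2 := ⟨_, rfl⟩
  have hz1 : z ≠ 1 := by rw [hz]; decide
  have hsq : ∀ q : QuaternionGroup 2, q * q = 1 ∨ q * q = z := by rw [hz]; decide
  have hinv : ∀ q : QuaternionGroup 2, q * q = 1 → q = 1 ∨ q = z := by rw [hz]; decide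
  let H := (Subgroup.zpowers z).comap π
  obtain ⟨X, hX⟩ := exists_isCompl H
  have hzX : z ∉ X.map π := by
    rintro ⟨x, hx, hxz⟩
    have hmem : x ∈ H ⊓ X := ⟨show π x ∈ Subgroup.zpowers z by
      rw [hxz]; exact Subgroup.mem_zpowers z, hx⟩
    rw [hX.inf_eq_bot, Subgroup.mem_bot] at hmem
    exact hz1 (by rw [← hxz, hmem, map_one])
  have hXbot : X.map π = ⊥ := by
    rw [eq_bot_iff]
    intro q hq
    rw [Subgroup.mem_bot]
    rcases hsq q with h | h
    · rcases hinv q h with h' | h'
      · exact h'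
      · exact absurd (h' ▸ hq) hzX
    · exact absurd (h ▸ (X.map π).mul_mem hq hq) hzX
  have htop := congrArg (Subgroup.map π) hX.sup_eq_top
  rw [Subgroup.map_sup, hXbot, sup_bot_eq, Subgroup.map_top_of_surjective π hπ,
    Subgroup.map_comap_eq_self_of_surjective hπ] at htop
  have h1 : QuaternionGroup.xa 0 ∈ Subgroup.zpowers z := by rw [htop]; trivial
  have h4 : ∀ q ∈ Subgroup.zpowers z, q * q = 1 := by
    rintro q ⟨i, rfl⟩
    rw [← zpow_add, ← two_mul, zpow_mul, zpow_two, show z * z = 1 by rw [hz]; decide, one_zpow]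
  exact absurd (h4 _ h1) (by decide)

end Cfsg.Agent.S5908
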