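import Cfsg.Statements.S5910
import Cfsg.Agent.Lib.Perm.UniformPartition
-- import your own Cfsg.Agent.* helpers here

set_option autoImplicit false
open Cfsg

namespace Cfsg.Agent.S5910

open Cfsg.Agent.Perm.UniformPartition

/-- The affine operation `x + y + z` on the eight vectors. -/
def xor3 (x y z : Fin 8) : Fin 8 := Fin.ofNat 8 ((x.val ^^^ y.val) ^^^ z.val)

/-- The permutations respecting `xor3`: the affine group. -/
def affGroup : Subgroup (Equiv.Perm (Fin 8)) where
  carrier := {g | ∀ x y z, g (xor3 x y z) = xor3 (g x) (g y) (g z)}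
  one_mem' := fun _ _ _ => rfl
  mul_mem' := fun {g h} hg hh x y z => by
    rw [Equiv.Perm.mul_apply, hh, hg]
    rfl
  inv_mem' := fun {g} hg x y z => g.injective (by
    rw [hg]
    simp)

/-- A permutation of the four pairs with flips inside. -/
def mk (σ : Equiv.Perm (Fin 4)) (τ : Fin 4 → Equiv.Perm (Fin 2)) : Equiv.Perm (Fin 8) :=
  (finProdFinEquiv (m := 4) (n := 2)).symm.trans
    (((Equiv.prodCongrRight τ).trans (Equiv.prodCongr σ (Equiv.refl _))).trans finProdFinEquiv)

theorem even_mk_affine : ∀ (σ : Equiv.Perm (Fin 4)) (τ : Fin 4 → Equiv.Perm (Fin 2)),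
    Equiv.Perm.sign (mk σ τ) = 1 →
      ∀ x y z, mk σ τ (xor3 x y z) = xor3 (mk σ τ x) (mk σ τ y) (mk σ τ z) := by
  decide +kernel

/-- An affine map not preserving the pairs. -/
def extra : Equiv.Perm (Fin 8) := Equiv.swap 1 2 * Equiv.swap 5 6

theorem extra_affine : ∀ x y z, extra (xor3 x y z) = xor3 (extra x) (extra y) (extra z) := by
  decide +kernel

theorem extra_even : Equiv.Perm.sign extra = 1 := by decide +kernel

theorem extra_pairs : ((extra 0).val / 2 ≠ (extra 1).val / 2) := by decide +kernel

/-- A three-cycle. -/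
def cyc : Equiv.Perm (Fin 8) := Equiv.swap 1 2 * Equiv.swap 1 4

theorem cyc_even : Equiv.Perm.sign cyc = 1 := by decide +kernel

theorem cyc_not_affine : ¬ ∀ x y z, cyc (xor3 x y z) = xor3 (cyc x) (cyc y) (cyc z) := by
  decide +kernel


/-- Let Ω be a set with 8 elements and f : Ω → Fin 4 a labelling whose four fibres all have size 2 (a partition of the 8 points into 4 pairs). Then the group of even permutations preserving this partition, (S₂ ≀ S₄) ∩ A₈, is not a maximal subgroup of the alternating group A₈ (it lies in a subgroup isomorphic to the affine group AGL₃(2)). -/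
theorem result {Ω : Type*} [Fintype Ω] [DecidableEq Ω] (h8 : Fintype.card Ω = 8)
    (f : Ω → Fin 4) (hf : ∀ i : Fin 4, Nat.card {x : Ω // f x = i} = 2) :
    ¬ IsCoatom ((Subgroup.closure {g : Equiv.Perm Ω | ∀ x y : Ω, f x = f y ↔ f (g x) = f (g y)} ⊓ alternatingGroup Ω).subgroupOf (alternatingGroup Ω)) := by
  classical
  obtain ⟨e, he⟩ := exists_coord f 2 hf
  rw [closure_eq_stab]
  let ε : Ω ≃ Fin 8 := e.trans finProdFinEquiv
  have hfε : ∀ x, (f x).val = (ε x).val / 2 := by
    intro x
    rw [← he x]
    show _ = (((e x).2 : ℕ) + 2 * ((e x).1 : ℕ)) / 2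
    omega
  intro hmax
  let φ : Equiv.Perm Ω ≃* Equiv.Perm (Fin 8) := ε.permCongrHom
  have hsign : ∀ g, Equiv.Perm.sign (φ g) = Equiv.Perm.sign g := fun g =>
    Equiv.Perm.sign_permCongr ε g
  -- every even stabilising permutation is affine
  have hle : stab f ⊓ alternatingGroup Ω ≤ affGroup.comap φ.toMonoidHom := by
    rintro g ⟨hg, hgA⟩
    have hblock : ∀ (i : Fin 4) (j : Fin 2), f (g (e.symm (i, j))) = f (g (e.symm (i, 0))) :=
      fun i j => (hg _ _).1 (by rw [← he, ← he, e.apply_symm_apply, e.apply_symm_apply])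
    have hσ : Function.Bijective fun i : Fin 4 => f (g (e.symm (i, 0))) := by
      refine Finite.injective_iff_bijective.1 fun i j hij => ?_
      have := (hg _ _).2 hij
      rwa [← he, ← he, e.apply_symm_apply, e.apply_symm_apply] at this
    have hτ : ∀ i : Fin 4, Function.Bijective fun j : Fin 2 => (e (g (e.symm (i, j)))).2 := by
      intro i
      refine Finite.injective_iff_bijective.1 fun j k hjk => ?_
      have h1 : e (g (e.symm (i, j))) = e (g (e.symm (i, k))) :=
        Prod.ext (by rw [he, he, hblock i j, hblock i k]) hjk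
      exact (Prod.ext_iff.1 (e.symm.injective (g.injective (e.injective h1)))).2
    have hmk : φ g = mk (Equiv.ofBijective _ hσ) (fun i => Equiv.ofBijective _ (hτ i)) := by
      refine Equiv.ext fun z => ?_
      obtain ⟨⟨i, j⟩, rfl⟩ := (finProdFinEquiv (m := 4) (n := 2)).surjective z
      show finProdFinEquiv (e (g (e.symm (finProdFinEquiv.symm (finProdFinEquiv (i, j)))))) = _
      simp only [mk, Equiv.trans_apply, Equiv.symm_apply_apply, prodCongrRight_apply',
        Equiv.prodCongr_apply, Prod.map, Equiv.ofBijective_apply, Equiv.refl_apply]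
      exact congrArg finProdFinEquiv (Prod.ext ((he _).trans (hblock i j)) rfl)
    show ∀ x y z, φ g (xor3 x y z) = xor3 (φ g x) (φ g y) (φ g z)
    rw [hmk]
    exact even_mk_affine _ _ (by rw [← hmk, hsign]; exact hgA)
  set A := alternatingGroup Ω
  set M : Subgroup A := (affGroup.comap φ.toMonoidHom).subgroupOf A
  have hxA : φ.symm extra ∈ A := by
    show Equiv.Perm.sign (φ.symm extra) = 1
    rw [← hsign, φ.apply_symm_apply, extra_even]
  have hcA : φ.symm cyc ∈ A := by
    show Equiv.Perm.sign (φ.symm cyc) = 1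
    rw [← hsign, φ.apply_symm_apply, cyc_even]
  have hlt : (stab f ⊓ A).subgroupOf A < M := by
    refine lt_of_le_of_ne (fun g hg => hle hg) fun heq => ?_
    have hmem : (⟨φ.symm extra, hxA⟩ : A) ∈ (stab f ⊓ A).subgroupOf A := by
      rw [heq]
      show ∀ x y z, φ (φ.symm extra) (xor3 x y z) =
        xor3 (φ (φ.symm extra) x) (φ (φ.symm extra) y) (φ (φ.symm extra) z)
      rw [φ.apply_symm_apply]
      exact extra_affine
    have h := (hmem.1 (ε.symm 0) (ε.symm 1)).1
      (Fin.ext (by rw [hfε, hfε, ε.apply_symm_apply, ε.apply_symm_apply]; decide))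
    apply extra_pairs
    have h' := congrArg Fin.val h
    rw [hfε, hfε] at h'
    have hext : ∀ z, ε ((φ.symm extra) (ε.symm z)) = extra z := fun z => by
      show φ (φ.symm extra) z = extra z
      rw [φ.apply_symm_apply]
    have h'' : (ε ((φ.symm extra) (ε.symm 0))).val / 2 =
        (ε ((φ.symm extra) (ε.symm 1))).val / 2 := h'
    rwa [hext, hext] at h''
  have htop : M ≠ ⊤ := by
    intro h
    apply cyc_not_affine
    have hmem : (⟨φ.symm cyc, hcA⟩ : A) ∈ M := by rw [h]; trivial
    have := hmem
    intro x y z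
    have h' : ∀ x y z, φ (φ.symm cyc) (xor3 x y z) =
        xor3 (φ (φ.symm cyc) x) (φ (φ.symm cyc) y) (φ (φ.symm cyc) z) := this
    simpa using h' x y z
  exact htop (hmax.2 M hlt)

end Cfsg.Agent.S5910
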