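import Cfsg.Statements.S5912
import Cfsg.Agent.Lib.Perm.IndexSix
-- import your own Cfsg.Agent.* helpers here

set_option autoImplicit false
open Cfsg

namespace Cfsg.Agent.S5912

/-- The symmetric group on a 6-element set Ω has exactly two conjugacy classes of subgroups of index 6: there are two non-conjugate subgroups of index 6 (a point stabilizer and a transitive subgroup isomorphic to S₅), and every subgroup of index 6 is conjugate to one of them. -/
theorem result {Ω : Type*} [Fintype Ω] [DecidableEq Ω] (h6 : Fintype.card Ω = 6) :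
    ∃ H₁ H₂ : Subgroup (Equiv.Perm Ω), H₁.index = 6 ∧ H₂.index = 6 ∧
      (¬ ∃ g : Equiv.Perm Ω, Subgroup.map (MulAut.conj g).toMonoidHom H₁ = H₂) ∧
      ∀ H : Subgroup (Equiv.Perm Ω), H.index = 6 →
        ∃ g : Equiv.Perm Ω, Subgroup.map (MulAut.conj g).toMonoidHom H₁ = H ∨ Subgroup.map (MulAut.conj g).toMonoidHom H₂ = H := by
  obtain ⟨H₂, hH₂, ht⟩ := Cfsg.Agent.Perm.IndexSix.exists_transitive h6
  obtain ⟨a⟩ : Nonempty Ω := Fintype.card_pos_iff.1 (by omega)
  refine ⟨MulAction.stabilizer (Equiv.Perm Ω) a, H₂, ?_, hH₂, ?_, fun H hH => ?_⟩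
  · rw [MulAction.index_stabilizer_of_transitive, Nat.card_eq_fintype_card, h6]
  · rintro ⟨g, hg⟩
    rw [Cfsg.Agent.Perm.IndexSix.stabilizer_map_conj] at hg
    exact Cfsg.Agent.Perm.IndexSix.not_conj_stabilizer h6 ht _ hg.symm
  · rcases Cfsg.Agent.Perm.IndexSix.two_classes h6 hH₂ ht hH with ⟨z, rfl⟩ | ⟨g, hg⟩
    · exact ⟨Equiv.swap a z, Or.inl (by rw [Cfsg.Agent.Perm.IndexSix.stabilizer_map_conj, Equiv.swap_apply_left])⟩
    · exact ⟨g, Or.inr hg⟩

end Cfsg.Agent.S5912
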