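import Cfsg.Statements.S5913
import Mathlib

set_option autoImplicit false
open Cfsg

namespace Cfsg.Agent.S5913

/-- Let S be a non-abelian simple group and n a natural number. Every normal subgroup N of the direct power S^n (functions Fin n → S) is a subproduct: there is a set T of coordinates such that N consists exactly of the elements whose coordinates outside T are trivial. In particular the minimal normal subgroups of S^n are its n factors. -/
theorem result {S : Type*} [Group S] [IsSimpleGroup S] (hS : ¬ IsMulCommutative S) (n : ℕ)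
    (N : Subgroup (Fin n → S)) [N.Normal] :
    ∃ T : Finset (Fin n), ∀ x : Fin n → S, x ∈ N ↔ ∀ i, i ∉ T → x i = 1 := by
  classical
  refine ⟨Finset.univ.filter fun i => ∃ x ∈ N, x i ≠ 1, fun x => ⟨fun hx i hi => ?_, fun hx => ?_⟩⟩
  · by_contra h
    exact hi (Finset.mem_filter.2 ⟨Finset.mem_univ i, x, hx, h⟩)
  have hcentre : Subgroup.center S = ⊥ := by
    rcases IsSimpleGroup.eq_bot_or_eq_top_of_normal (Subgroup.center S) inferInstance with h | h
    · exact h
    · exact absurd (isMulCommutative_iff.2 fun a b =>
        (Subgroup.mem_center_iff.1 (h ▸ Subgroup.mem_top b)) a) hS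
  have key : ∀ i : Fin n, (∃ y ∈ N, y i ≠ 1) → ∀ s : S, Pi.mulSingle i s ∈ N := by
    rintro i ⟨y, hy, hyi⟩ s
    let e : S →* (Fin n → S) := MonoidHom.mulSingle (fun _ => S) i
    rcases IsSimpleGroup.eq_bot_or_eq_top_of_normal (N.comap e) inferInstance with h | h
    · exfalso
      have hnc : y i ∉ Subgroup.center S := by simp [hcentre, hyi]
      rw [Subgroup.mem_center_iff] at hnc
      push Not at hnc
      obtain ⟨t, ht⟩ := hnc
      have hmem : y * (e t * y⁻¹ * (e t)⁻¹) ∈ N :=
        N.mul_mem hy (Subgroup.Normal.conj_mem ‹N.Normal› _ (N.inv_mem hy) _)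
      have he : y * (e t * y⁻¹ * (e t)⁻¹) = e (y i * (t * (y i)⁻¹ * t⁻¹)) := by
        funext j
        by_cases hj : j = i
        · subst hj; simp [e]
        · simp [e, Pi.mulSingle_eq_of_ne hj]
      rw [he] at hmem
      have : y i * (t * (y i)⁻¹ * t⁻¹) ∈ N.comap e := hmem
      rw [h, Subgroup.mem_bot] at this
      exact ht (by
        calc t * y i = (y i * (t * (y i)⁻¹ * t⁻¹))⁻¹ * (y i * t) := by group
          _ = y i * t := by rw [this]; simp)
    · exact (h ▸ Subgroup.mem_top s : s ∈ N.comap e)
  have hall : ∀ i, Pi.mulSingle i (x i) ∈ N := by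
    intro i
    by_cases h : ∃ y ∈ N, y i ≠ 1
    · exact key i h _
    · have : x i = 1 := hx i (by simp only [Finset.mem_filter]; exact fun hh => h hh.2)
      simp [this, N.one_mem]
  exact Subgroup.pi_mem_of_mulSingle_mem x hall

end Cfsg.Agent.S5913
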