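import Cfsg.Statements.S5914
import Cfsg.Agent.Lib.Perm.CharSimple
-- import your own Cfsg.Agent.* helpers here

set_option autoImplicit false
set_option linter.style.haveILetI false
open Cfsg

namespace Cfsg.Agent.S5914

open Cfsg.Agent.Perm.CharSimple in
/-- In a power of a simple group a nontrivial characteristic subgroup is everything. -/
theorem pi_charSimple {S : Type} [Group S] [IsSimpleGroup S] {n : ℕ} (H : Subgroup (Fin n → S))
    (hH : H.Characteristic) : H = ⊥ ∨ H = ⊤ := by
  classical
  refine or_iff_not_imp_left.2 fun hne => ?_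
  have hchar : ∀ φ : (Fin n → S) ≃* (Fin n → S), ∀ x ∈ H, φ x ∈ H := fun φ x hx => by
    have := Subgroup.characteristic_iff_le_comap.1 hH φ hx
    exact this
  have hn : H.Normal := @Subgroup.normal_of_characteristic _ _ H hH
  obtain ⟨x, hx, hx1⟩ : ∃ x ∈ H, x ≠ 1 := by
    by_contra h
    push Not at h
    exact hne ((Subgroup.eq_bot_iff_forall _).2 h)
  -- one full factor
  have hfull : ∀ j s, s ≠ 1 → Pi.mulSingle j s ∈ H → ∀ u, Pi.mulSingle j u ∈ H := by
    intro j s hs hsH u
    have h1 : (H.comap (MonoidHom.mulSingle (fun _ : Fin n => S) j)).Normal := hn.comap _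
    rcases h1.eq_bot_or_eq_top with h | h
    · exact absurd ((Subgroup.eq_bot_iff_forall _).1 h s hsH) hs
    · exact (h ▸ Subgroup.mem_top u : u ∈ H.comap (MonoidHom.mulSingle (fun _ : Fin n => S) j))
  obtain ⟨j, s, hs, hsH⟩ : ∃ j s, s ≠ 1 ∧ Pi.mulSingle j s ∈ H := by
    obtain ⟨i, hi⟩ : ∃ i, x i ≠ 1 := Function.ne_iff.1 hx1
    by_cases hc : ∀ u : S, u * x i = x i * u
    · -- the factors are commutative
      by_cases hall : ∀ k, k = i
      · refine ⟨i, x i, hi, ?_⟩
        have : Pi.mulSingle i (x i) = x := funext fun k => by rw [hall k]; simp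
        rwa [this]
      push Not at hall
      obtain ⟨k, hk⟩ := hall
      have hcomm : ∀ u v : S, u * v = v * u := by
        have hcen : Subgroup.center S = ⊤ :=
          (Subgroup.normal_of_characteristic (Subgroup.center S)).eq_bot_or_eq_top.resolve_left fun h =>
            hi ((Subgroup.eq_bot_iff_forall _).1 h _ (Subgroup.mem_center_iff.2 hc))
        exact fun u v => Subgroup.mem_center_iff.1 (hcen ▸ Subgroup.mem_top v) u
      let φ : (Fin n → S) ≃* (Fin n → S) :=
        { toFun := fun y => y * Pi.mulSingle k (y i)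
          invFun := fun y => y * Pi.mulSingle k (y i)⁻¹
          left_inv := fun y => by simp [Pi.mulSingle_eq_of_ne (Ne.symm hk), mul_assoc, ← Pi.mulSingle_mul]
          right_inv := fun y => by simp [Pi.mulSingle_eq_of_ne (Ne.symm hk), mul_assoc, ← Pi.mulSingle_mul]
          map_mul' := fun y z => funext fun l => by
            by_cases hl : l = k
            · subst hl
              simp only [Pi.mul_apply, Pi.mulSingle_eq_same]
              rw [mul_assoc, mul_assoc, ← mul_assoc (z l), hcomm (z l) (y i), mul_assoc (y i)]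
            · simp [hl] }
      refine ⟨k, x i, hi, ?_⟩
      have h2 : φ x = x * Pi.mulSingle k (x i) := rfl
      have h3 := mul_mem (inv_mem hx) (h2 ▸ hchar φ x hx)
      rwa [inv_mul_cancel_left] at h3
    · push Not at hc
      obtain ⟨u, hu⟩ := hc
      refine ⟨i, u * x i * u⁻¹ * (x i)⁻¹, fun h => hu ?_, ?_⟩
      · rw [mul_inv_eq_one, mul_inv_eq_iff_eq_mul] at h
        exact h
      · have h1 := mul_mem (hn.conj_mem x hx (Pi.mulSingle i u)) (inv_mem hx)
        convert h1 using 1
        funext k
        by_cases hk : k = i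
        · subst hk; simp
        · simp [hk]
  rw [eq_top_iff]
  rintro y -
  have hall : ∀ k, Pi.mulSingle k (y k) ∈ H := by
    intro k
    let φ : (Fin n → S) ≃* (Fin n → S) :=
      { toFun := fun z l => z (Equiv.swap j k l)
        invFun := fun z l => z (Equiv.swap j k l)
        left_inv := fun z => by funext l; simp
        right_inv := fun z => by funext l; simp
        map_mul' := fun z w => rfl }
    have h1 := hchar φ _ (hfull j s hs hsH (y k))
    convert h1 using 1
    funext l
    show _ = (Pi.mulSingle j (y k) : Fin n → S) (Equiv.swap j k l)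
    by_cases hl : l = k
    · subst hl; simp
    · rw [Pi.mulSingle_eq_of_ne hl, Pi.mulSingle_eq_of_ne]
      intro h
      exact hl ((Equiv.swap j k).injective (h.trans (Equiv.swap_apply_right j k).symm))
  rw [← Finset.noncommProd_mulSingle y]
  exact Subgroup.noncommProd_mem _ _ fun k _ => hall k

/-- A non-trivial finite group G is characteristically simple (its only characteristic subgroups are 1 and G) if and only if G is isomorphic to a direct power S^n (n ≥ 1) of some simple group S (possibly cyclic of prime order). -/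
theorem result {G : Type*} [Group G] [Finite G] [Nontrivial G] :
    (∀ H : Subgroup G, H.Characteristic → H = ⊥ ∨ H = ⊤) ↔
    ∃ (S : Type) (_ : Group S) (_ : IsSimpleGroup S) (n : ℕ), 1 ≤ n ∧ Nonempty (G ≃* (Fin n → S)) := by
  constructor
  · intro h
    obtain ⟨m, V, hm, hV, hinj, hind, hsup, hsimple, hconj⟩ :=
      Cfsg.Agent.Perm.CharSimple.exists_decomposition_of_invariant (MonoidHom.id (MulAut G)) (fun K _ hinv =>
        h K (Subgroup.characteristic_iff_map_eq.2 fun φ => hinv φ))
    have := hsimple ⟨0, hm⟩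
    obtain ⟨T, ⟨ε⟩⟩ : ∃ T : Type, Nonempty (T ≃ V ⟨0, hm⟩) :=
      ⟨Fin (Nat.card (V ⟨0, hm⟩)), ⟨(Finite.equivFin _).symm⟩⟩
    letI : Group T := ε.group
    let E : T ≃* V ⟨0, hm⟩ := ε.mulEquiv
    refine ⟨T, inferInstance, E.isSimpleGroup, m, hm,
      Cfsg.Agent.Perm.CharSimple.nonempty_mulEquiv_pi V hV hinj hind hsup fun i => ?_⟩
    obtain ⟨φ, hφ⟩ := hconj i ⟨0, hm⟩
    exact ⟨((Subgroup.equivMapOfInjective (V i) _ (MulEquiv.injective φ)).trans
      (MulEquiv.subgroupCongr hφ)).trans E.symm⟩
  · rintro ⟨S, _, _, n, hn, ⟨e⟩⟩ H hH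
    have h1 : (H.map e.toMonoidHom).Characteristic := Subgroup.characteristic_iff_map_le.2 fun φ => by
      rintro _ ⟨_, ⟨a, ha, rfl⟩, rfl⟩
      have := Subgroup.characteristic_iff_map_le.1 hH ((e.trans φ).trans e.symm) ⟨a, ha, rfl⟩
      exact ⟨_, this, by simp⟩
    rcases pi_charSimple _ h1 with h | h
    · exact Or.inl ((Subgroup.map_eq_bot_iff_of_injective H e.injective).1 h)
    · refine Or.inr (Subgroup.map_injective (f := e.toMonoidHom) e.injective ?_)
      rw [h, Subgroup.map_top_of_surjective _ e.surjective]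

end Cfsg.Agent.S5914
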