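import Cfsg.Statements.S5938
import Cfsg.Agent.Lib.Forms.DicksonMax
import Cfsg.Agent.S0803
-- import your own Cfsg.Agent.* helpers here

set_option autoImplicit false
open Cfsg

namespace Cfsg.Agent.S5938



/-- Let p be a prime with p ≡ ±1 (mod 8) and F a field with p elements. Then PSL_2(F) has a maximal subgroup isomorphic to the symmetric group S_4. -/
theorem result {F : Type*} [Field F] [Fintype F] (p : ℕ) [Fact p.Prime] (hF : Fintype.card F = p) (hp : p % 8 = 1 ∨ p % 8 = 7) : ∃ H : Subgroup (Matrix.ProjectiveSpecialLinearGroup (Fin 2) F), IsCoatom H ∧ Nonempty (H ≃* Equiv.Perm (Fin 4)) := by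
  classical
  haveI : CharP F p := charP_of_card_eq_prime hF
  have hp : p.Prime := Fact.out
  have hG := Forms.DicksonCor.gcd_mul_natCard (F := F)
  have hd : Nat.gcd 2 (Fintype.card F - 1) = 2 := by
    rw [hF]; exact Nat.gcd_eq_left (Nat.dvd_of_mod_eq_zero (by omega))
  rw [hd, hF] at hG
  set N := Nat.card (Matrix.ProjectiveSpecialLinearGroup (Fin 2) F) with hN
  obtain ⟨H, ⟨e⟩⟩ := (S0803.result hF).2 (by
    have : p ^ 2 % 16 = (p % 16) ^ 2 % 16 := Nat.pow_mod p 2 16
    have h16 : p % 16 = 1 ∨ p % 16 = 7 ∨ p % 16 = 9 ∨ p % 16 = 15 := by omega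
    rcases h16 with h | h | h | h <;> rw [this, h] <;> norm_num)
  have h24 : Nat.card H = 24 := by rw [Nat.card_congr e.toEquiv, Nat.card_perm, Nat.card_fin]; rfl
  have h7 : 7 ≤ p := by have := hp.two_le; omega
  refine ⟨H, Forms.DicksonMax.coatom_of H ?_ fun M hMt hM => ?_, ⟨e⟩⟩
  · rw [h24, ← hN]
    intro e0
    have : 7 * (6 * 8) ≤ p * ((p - 1) * (p + 1)) := Nat.mul_le_mul h7 (Nat.mul_le_mul (by omega) (by omega))
    omega
  have hlt := Forms.DicksonMax.lt_card hM
  have hdvd := Subgroup.card_dvd_of_le hM.le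
  rw [h24] at hlt hdvd
  obtain ⟨u, v, hu, hv, hu', hv', hne⟩ := Forms.DicksonMax.transfer H e Forms.DicksonMax.sym4_not_comm
  have hpH : ¬ p ∣ Nat.card H := by
    rw [h24]
    intro h
    rcases (hp.dvd_mul (m := 2 ^ 3) (n := 3)).1 h with h | h
    · have := Nat.le_of_dvd (by norm_num) (hp.dvd_of_dvd_pow h); omega
    · have := Nat.le_of_dvd (by norm_num) h; omega
  rcases Forms.DicksonMax.overgroup_of_coprime p H M hM.le hpH Nat.prime_three (by norm_num) hu hv hu' hv' hne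
      with ⟨⟨e'⟩⟩ | ⟨⟨e'⟩⟩ | ⟨⟨e'⟩⟩ | h
  · rw [Nat.card_congr e'.toEquiv, nat_card_alternatingGroup, Nat.card_fin] at hlt
    norm_num [Nat.factorial] at hlt
  · rw [Nat.card_congr e'.toEquiv, Nat.card_perm, Nat.card_fin] at hlt
    norm_num [Nat.factorial] at hlt
  · rw [Nat.card_congr e'.toEquiv, nat_card_alternatingGroup, Nat.card_fin] at hdvd
    norm_num [Nat.factorial] at hdvd
  · obtain ⟨K, iK, fK, m, hm, h⟩ := h
    obtain ⟨hm2, -⟩ := Forms.DicksonCor.subfield_bound M hMt K m hm h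
    rw [hF] at hm
    have : m = 1 := ((Nat.Prime.pow_eq_iff hp).1 hm).2
    omega

end Cfsg.Agent.S5938
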