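import Cfsg.Statements.S5939
import Cfsg.Agent.Lib.Forms.DicksonMax
import Cfsg.Agent.S0804
-- import your own Cfsg.Agent.* helpers here

set_option autoImplicit false
open Cfsg

namespace Cfsg.Agent.S5939



/-- Let p be a prime and F a finite field of characteristic p such that either F has p elements and p ≡ ±1 (mod 10), or F has p² elements and p ≡ ±3 (mod 10). Then PSL_2(F) has a maximal subgroup isomorphic to the alternating group A_5. -/
theorem result {F : Type*} [Field F] [Fintype F] (p : ℕ) [Fact p.Prime] [CharP F p] (h : (Fintype.card F = p ∧ (p % 10 = 1 ∨ p % 10 = 9)) ∨ (Fintype.card F = p ^ 2 ∧ (p % 10 = 3 ∨ p % 10 = 7))) : ∃ H : Subgroup (Matrix.ProjectiveSpecialLinearGroup (Fin 2) F), IsCoatom H ∧ Nonempty (H ≃* alternatingGroup (Fin 5)) := by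
  classical
  have hp : p.Prime := Fact.out
  have h7 : 9 ≤ Fintype.card F ∧ p ≠ 2 ∧ p ≠ 5 ∧ 3 ≤ p := by
    have h2 := hp.two_le
    rcases h with ⟨h1, h2'⟩ | ⟨h1, h2'⟩
    · have hp9 : p ≠ 9 := fun e => by rw [e] at hp; norm_num at hp
      refine ⟨?_, by omega, by omega, by omega⟩
      have : p ≠ 1 := hp.ne_one
      omega
    · refine ⟨?_, by omega, by omega, by omega⟩
      rw [h1]
      calc 9 = 3 ^ 2 := rfl
        _ ≤ p ^ 2 := Nat.pow_le_pow_left (by omega) 2
  obtain ⟨h9, hp2, hp5, hp3⟩ := h7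
  have h5dvd : 5 ∣ Fintype.card F * (Fintype.card F ^ 2 - 1) := by
    refine dvd_mul_of_dvd_right (Nat.dvd_of_mod_eq_zero ?_) _
    have h55 : Fintype.card F % 5 = 1 ∨ Fintype.card F % 5 = 4 := by
      rcases h with ⟨h1, h2⟩ | ⟨h1, h2⟩
      · omega
      · rw [h1, Nat.pow_mod]
        have : p % 5 = 2 ∨ p % 5 = 3 := by omega
        rcases this with e | e <;> rw [e] <;> norm_num
    have hp1 : 1 ≤ Fintype.card F ^ 2 := Nat.one_le_pow _ _ Fintype.card_pos
    have : Fintype.card F ^ 2 % 5 = (Fintype.card F % 5) ^ 2 % 5 := Nat.pow_mod _ 2 5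
    rcases h55 with e | e <;> rw [e] at this <;> norm_num at this <;> omega
  obtain ⟨H, ⟨e⟩⟩ := (S0804.result rfl).2 h5dvd
  have h60 : Nat.card H = 60 := by
    rw [Nat.card_congr e.toEquiv, nat_card_alternatingGroup, Nat.card_fin]; rfl
  refine ⟨H, Forms.DicksonMax.coatom_of H ?_ fun M hMt hM => ?_, ⟨e⟩⟩
  · rw [h60]
    intro e0
    have hG := Forms.DicksonCor.gcd_mul_natCard (F := F)
    rw [← e0] at hG
    have := Nat.mul_le_mul_right 60 (Nat.le_of_dvd (by norm_num) (Nat.gcd_dvd_left 2 (Fintype.card F - 1)))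
    have : 9 * (8 * 10) ≤ Fintype.card F * ((Fintype.card F - 1) * (Fintype.card F + 1)) :=
      Nat.mul_le_mul h9 (Nat.mul_le_mul (by omega) (by omega))
    omega
  have hlt := Forms.DicksonMax.lt_card hM
  have hdvd := Subgroup.card_dvd_of_le hM.le
  rw [h60] at hlt hdvd
  obtain ⟨u, v, hu, hv, hu', hv', hne⟩ := Forms.DicksonMax.transfer H e Forms.DicksonMax.alt5_not_comm
  have hov := if hp33 : p = 3 then
      Forms.DicksonMax.overgroup_of_modular p hp2 H M hM.le hu hv (by rw [hp33]; exact hu') (by rw [hp33]; exact hv') hne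
    else
      Forms.DicksonMax.overgroup_of_coprime p H M hM.le (by
        rw [h60]
        intro h'
        rcases (hp.dvd_mul (m := 2 ^ 2) (n := 3 * 5)).1 h' with h' | h'
        · exact hp2 ((Nat.prime_dvd_prime_iff_eq hp Nat.prime_two).1 (hp.dvd_of_dvd_pow h'))
        · rcases hp.dvd_mul.1 h' with h' | h'
          · exact hp33 ((Nat.prime_dvd_prime_iff_eq hp Nat.prime_three).1 h')
          · exact hp5 ((Nat.prime_dvd_prime_iff_eq hp (by norm_num)).1 h'))
        Nat.prime_three (by norm_num) hu hv hu' hv' hne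
  rcases hov with ⟨⟨e'⟩⟩ | ⟨⟨e'⟩⟩ | ⟨⟨e'⟩⟩ | ⟨K, iK, fK, m, hm, hMK⟩
  · rw [Nat.card_congr e'.toEquiv, nat_card_alternatingGroup, Nat.card_fin] at hlt
    norm_num [Nat.factorial] at hlt
  · rw [Nat.card_congr e'.toEquiv, Nat.card_perm, Nat.card_fin] at hlt
    norm_num [Nat.factorial] at hlt
  · rw [Nat.card_congr e'.toEquiv, nat_card_alternatingGroup, Nat.card_fin] at hlt
    norm_num [Nat.factorial] at hlt
  · obtain ⟨hm2, hcard⟩ := Forms.DicksonCor.subfield_bound M hMt K m hm hMK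
    rcases h with ⟨h1, -⟩ | ⟨h1, h2⟩
    · rw [h1] at hm
      have : m = 1 := ((Nat.Prime.pow_eq_iff hp).1 hm).2
      omega
    · rw [h1] at hm
      obtain ⟨r, hKc⟩ := CharP.exists K
      haveI := hKc
      haveI : Fact r.Prime := ⟨CharP.char_is_prime K r⟩
      obtain ⟨s, -, hs⟩ := FiniteField.card K r
      rw [hs, ← pow_mul] at hm
      have hrp : r = p := (Nat.prime_dvd_prime_iff_eq Fact.out hp).1
        ((Fact.out : r.Prime).dvd_of_dvd_pow (hm ▸ dvd_pow_self r (Nat.mul_pos s.pos (by omega)).ne'))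
      subst hrp
      have hsm : (s : ℕ) * m = 2 := Nat.pow_right_injective hp.two_le hm
      have hs1 : (s : ℕ) = 1 := by
        have : (s : ℕ) * 2 ≤ (s : ℕ) * m := Nat.mul_le_mul_left _ hm2
        have := s.pos
        omega
      rw [hs1, pow_one] at hs
      -- the order divides `r (r² - 1)`
      have hK := Classical.SmallIso.natCard_pslTwo K
      rw [Classical.GL2.natCard_SL_two, hs] at hK
      have hMd : 60 ∣ r * ((r - 1) * (r + 1)) := by
        rcases hMK with hMK | hMK <;> obtain ⟨e'⟩ := hMK <;> rw [Nat.card_congr e'.toEquiv] at hdvd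
        · exact hK ▸ Dvd.dvd.mul_left hdvd _
        · rwa [Classical.Linear.natCard_PGL, Classical.GL2.natCard_SL_two, hs] at hdvd
      have h5 : 5 ∣ r * ((r - 1) * (r + 1)) := dvd_trans (by norm_num) hMd
      rcases (Nat.Prime.dvd_mul (by norm_num : Nat.Prime 5)).1 h5 with h5 | h5
      · omega
      · rcases (Nat.Prime.dvd_mul (by norm_num : Nat.Prime 5)).1 h5 with h5 | h5 <;> omega

end Cfsg.Agent.S5939
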