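import Cfsg.Statements.S5940
import Cfsg.Agent.Lib.Forms.DicksonMax
import Cfsg.Agent.S0802
-- import your own Cfsg.Agent.* helpers here

set_option autoImplicit false
open Cfsg

namespace Cfsg.Agent.S5940



/-- Let p ≥ 5 be a prime with p ≡ ±3 (mod 8) and p ≢ ±1 (mod 10), and F a field with p elements. Then PSL_2(F) has a maximal subgroup isomorphic to the alternating group A_4. -/
theorem result {F : Type*} [Field F] [Fintype F] (p : ℕ) [Fact p.Prime] (hF : Fintype.card F = p) (h5 : 5 ≤ p) (h8 : p % 8 = 3 ∨ p % 8 = 5) (h10 : p % 10 ≠ 1 ∧ p % 10 ≠ 9) : ∃ H : Subgroup (Matrix.ProjectiveSpecialLinearGroup (Fin 2) F), IsCoatom H ∧ Nonempty (H ≃* alternatingGroup (Fin 4)) := by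
  classical
  haveI : CharP F p := charP_of_card_eq_prime hF
  have hp : p.Prime := Fact.out
  have hG := Forms.DicksonCor.gcd_mul_natCard (F := F)
  have hd : Nat.gcd 2 (Fintype.card F - 1) = 2 := by
    rw [hF]; exact Nat.gcd_eq_left (Nat.dvd_of_mod_eq_zero (by omega))
  rw [hd, hF] at hG
  set N := Nat.card (Matrix.ProjectiveSpecialLinearGroup (Fin 2) F) with hN
  obtain ⟨H, ⟨e⟩⟩ := (S0802.result p 1 (by rw [hF, pow_one])).2 (fun h => by omega)
  have h12 : Nat.card H = 12 := by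
    rw [Nat.card_congr e.toEquiv, nat_card_alternatingGroup, Nat.card_fin]; rfl
  refine ⟨H, Forms.DicksonMax.coatom_of H ?_ fun M hMt hM => ?_, ⟨e⟩⟩
  · rw [h12, ← hN]
    intro e0
    have : 5 * (4 * 6) ≤ p * ((p - 1) * (p + 1)) := Nat.mul_le_mul h5 (Nat.mul_le_mul (by omega) (by omega))
    omega
  have hlt := Forms.DicksonMax.lt_card hM
  rw [h12] at hlt
  have hMG : Nat.card M ∣ N := M.card_subgroup_dvd_card
  obtain ⟨u, v, hu, hv, hu', hv', hne⟩ := Forms.DicksonMax.transfer H e Forms.DicksonMax.alt4_not_comm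
  have hpH : ¬ p ∣ Nat.card H := by
    rw [h12]
    intro h
    rcases (hp.dvd_mul (m := 2 ^ 2) (n := 3)).1 h with h | h
    · have := Nat.le_of_dvd (by norm_num) (hp.dvd_of_dvd_pow h); omega
    · have := Nat.le_of_dvd (by norm_num) h; omega
  have hpp : p * ((p - 1) * (p + 1)) = p * (p ^ 2 - 1) := by
    rw [mul_comm (p - 1), ← Nat.sq_sub_sq, one_pow]
  rcases Forms.DicksonMax.overgroup_of_coprime p H M hM.le hpH Nat.prime_three (by norm_num) hu hv hu' hv' hne
      with ⟨⟨e'⟩⟩ | ⟨⟨e'⟩⟩ | ⟨⟨e'⟩⟩ | h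
  · rw [Nat.card_congr e'.toEquiv, nat_card_alternatingGroup, Nat.card_fin] at hlt
    norm_num [Nat.factorial] at hlt
  · rw [Nat.card_congr e'.toEquiv, Nat.card_perm, Nat.card_fin] at hMG
    obtain ⟨t, ht⟩ := hMG
    norm_num [Nat.factorial] at ht
    rw [ht, hpp] at hG
    have hcop : Nat.Coprime 16 p := by
      refine Nat.Coprime.pow_left 4 (Nat.prime_two.coprime_iff_not_dvd.2 ?_)
      omega
    have h16 : 16 ∣ p ^ 2 - 1 := hcop.dvd_of_dvd_mul_left ⟨3 * t, by omega⟩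
    have : p ^ 2 % 16 = (p % 16) ^ 2 % 16 := Nat.pow_mod p 2 16
    have hp1 : 1 ≤ p ^ 2 := Nat.one_le_pow _ _ hp.pos
    have h16' : p % 16 = 3 ∨ p % 16 = 5 ∨ p % 16 = 11 ∨ p % 16 = 13 := by omega
    rcases h16' with h | h | h | h <;> rw [h] at this <;> norm_num at this <;> omega
  · have h60 : Nat.card M = 60 := by
      rw [Nat.card_congr e'.toEquiv, nat_card_alternatingGroup, Nat.card_fin]; rfl
    rcases eq_or_ne p 5 with rfl | hp5
    · exact hMt (M.eq_top_of_card_eq (by rw [h60, ← hN]; omega))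
    · obtain ⟨t, ht⟩ := hMG
      rw [h60] at ht
      rw [ht, hpp] at hG
      have hcop : Nat.Coprime 5 p := (Nat.coprime_primes (by norm_num) hp).2 hp5.symm
      have h5' : 5 ∣ p ^ 2 - 1 := hcop.dvd_of_dvd_mul_left ⟨24 * t, by omega⟩
      have : p ^ 2 % 5 = (p % 5) ^ 2 % 5 := Nat.pow_mod p 2 5
      have hp1 : 1 ≤ p ^ 2 := Nat.one_le_pow _ _ hp.pos
      have h55 : p % 5 = 2 ∨ p % 5 = 3 := by
        have : p % 5 ≠ 0 := fun h0 => hp5
          ((Nat.prime_dvd_prime_iff_eq (by norm_num) hp).1 (Nat.dvd_of_mod_eq_zero h0)).symm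
        have : p % 2 = 1 := by omega
        omega
      rcases h55 with h | h <;> rw [h] at this <;> norm_num at this <;> omega
  · obtain ⟨K, iK, fK, m, hm, h⟩ := h
    obtain ⟨hm2, -⟩ := Forms.DicksonCor.subfield_bound M hMt K m hm h
    rw [hF] at hm
    have : m = 1 := ((Nat.Prime.pow_eq_iff hp).1 hm).2
    omega

end Cfsg.Agent.S5940
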