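import Cfsg.Statements.S5941
import Cfsg.Agent.Lib.Forms.DicksonMax
import Cfsg.Agent.S0805
-- import your own Cfsg.Agent.* helpers here

set_option autoImplicit false
open Cfsg

namespace Cfsg.Agent.S5941



/-- Let K and F be finite fields of odd characteristic with #F = (#K)². Then PSL_2(F) has a maximal subgroup isomorphic to PGL_2(K). -/
theorem result {F K : Type*} [Field F] [Fintype F] [Field K] [Fintype K] (q : ℕ) (hK : Fintype.card K = q) (hF : Fintype.card F = q ^ 2) (hq : Odd q) : ∃ H : Subgroup (Matrix.ProjectiveSpecialLinearGroup (Fin 2) F), IsCoatom H ∧ Nonempty (H ≃* Matrix.ProjGenLinGroup (Fin 2) K) := by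
  classical
  obtain ⟨p, hFp⟩ := CharP.exists F
  haveI := hFp
  haveI hp : Fact p.Prime := ⟨CharP.char_is_prime F p⟩
  obtain ⟨n, -, hn⟩ := FiniteField.card F p
  have hq1 : 2 ≤ q := hK ▸ Fintype.one_lt_card
  obtain ⟨a, -, ha⟩ := (Nat.dvd_prime_pow hp.out).1
    ((dvd_pow_self q two_ne_zero).trans (dvd_of_eq (hF.symm.trans hn)))
  haveI : CharP K p := charP_of_card_eq_prime_pow (hK.trans ha)
  have hp2 : p ≠ 2 := fun e => by
    subst e
    have ha0 : a ≠ 0 := fun e => by rw [e, pow_zero] at ha; omega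
    exact Nat.not_even_iff_odd.2 hq (ha ▸ Nat.even_pow.2 ⟨even_two, ha0⟩)
  have hc3 : 3 ≤ q := by
    obtain ⟨t, ht⟩ := hq
    omega
  have hbig : ∀ t, t ≤ q → t * ((t - 1) * (t + 1)) ≤ q * ((q - 1) * (q + 1)) := fun t ht =>
    Nat.mul_le_mul ht (Nat.mul_le_mul (by omega) (by omega))
  obtain ⟨H, ⟨e⟩⟩ := (S0805.result (K := K) hF hq.pow 2 (by norm_num) (by rw [hK])).2.2 even_two
  have hH : Nat.card H = q * ((q - 1) * (q + 1)) := by
    rw [Nat.card_congr e.toEquiv, Classical.Linear.natCard_PGL, Classical.GL2.natCard_SL_two, hK]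
  obtain ⟨u, v, hu, hv, hu', hv', hne⟩ := Forms.DicksonMax.transfer H e (by
    obtain ⟨u, v, hu, hv, hne⟩ := Forms.DicksonMax.psl_not_comm K p
    refine ⟨Matrix.ProjectiveSpecialLinearGroup.toPGL u, Matrix.ProjectiveSpecialLinearGroup.toPGL v,
      by rw [← map_pow, hu, map_one], by rw [← map_pow, hv, map_one], fun h => hne ?_⟩
    exact Matrix.ProjectiveSpecialLinearGroup.toPGL_injective (by rw [map_mul, map_mul]; exact h))
  refine ⟨H, Forms.DicksonMax.coatom_of H ?_ fun M hMt hM => ?_, ⟨e⟩⟩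
  · intro e0
    have hG := Forms.DicksonCor.gcd_mul_natCard (F := F)
    rw [← e0, hH, hF] at hG
    have h1 : Nat.gcd 2 (q ^ 2 - 1) ≤ 2 := Nat.gcd_le_left _ (by norm_num)
    have h2 : 3 * q ≤ q ^ 2 := by rw [pow_two]; exact Nat.mul_le_mul_right q hc3
    have h3 : 0 < q * ((q - 1) * (q + 1)) := Nat.mul_pos (by omega) (Nat.mul_pos (by omega) (by omega))
    have h4 : 3 * (q * ((q - 1) * (q + 1))) ≤ q ^ 2 * ((q ^ 2 - 1) * (q ^ 2 + 1)) := by
      rw [← mul_assoc]
      exact Nat.mul_le_mul h2 (Nat.mul_le_mul (by omega) (by omega))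
    have h5 := Nat.mul_le_mul_right (q * ((q - 1) * (q + 1))) h1
    omega
  have hlt := Forms.DicksonMax.lt_card hM
  have hdvd := Subgroup.card_dvd_of_le hM.le
  rw [hH] at hlt hdvd
  have h24 : 24 ≤ q * ((q - 1) * (q + 1)) := hbig 3 hc3
  rcases Forms.DicksonMax.overgroup_of_modular p hp2 H M hM.le hu hv hu' hv' hne
      with ⟨⟨e'⟩⟩ | ⟨⟨e'⟩⟩ | ⟨⟨e'⟩⟩ | h
  · rw [Nat.card_congr e'.toEquiv, nat_card_alternatingGroup, Nat.card_fin] at hlt
    norm_num [Nat.factorial] at hlt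
    omega
  · rw [Nat.card_congr e'.toEquiv, Nat.card_perm, Nat.card_fin] at hlt
    norm_num [Nat.factorial] at hlt
    omega
  · rw [Nat.card_congr e'.toEquiv, nat_card_alternatingGroup, Nat.card_fin] at hlt hdvd
    rcases Nat.lt_or_ge q 5 with h | h
    · have h3 : q = 3 := by obtain ⟨t, ht⟩ := hq; omega
      subst h3
      norm_num [Nat.factorial] at hdvd
    · have := hbig 5 h
      norm_num [Nat.factorial] at hlt
      omega
  · obtain ⟨K', iK, fK, m, hm, h⟩ := h
    obtain ⟨h1, -⟩ := Forms.DicksonMax.subfield_same p Nat.prime_two hF hq1 hM.le hMt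
      (by rw [hH]; exact dvd_mul_left _ _) K' m hm h
    have := (Forms.DicksonCor.subfield_bound M hMt K' m hm h).2
    rw [h1] at this
    omega

end Cfsg.Agent.S5941
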