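import Cfsg.Statements.S5942
import Cfsg.Agent.Lib.Forms.DicksonMax
import Cfsg.Agent.S0805
-- import your own Cfsg.Agent.* helpers here

set_option autoImplicit false
open Cfsg

namespace Cfsg.Agent.S5942



/-- Let K and F be finite fields of odd characteristic with #F = (#K)^r for an odd prime r. Then PSL_2(F) has a maximal subgroup isomorphic to PSL_2(K). -/
theorem result {F K : Type*} [Field F] [Fintype F] [Field K] [Fintype K] (q r : ℕ) (hK : Fintype.card K = q) (hF : Fintype.card F = q ^ r) (hq : Odd q) (hr : r.Prime) (hr2 : r ≠ 2) : ∃ H : Subgroup (Matrix.ProjectiveSpecialLinearGroup (Fin 2) F), IsCoatom H ∧ Nonempty (H ≃* Matrix.ProjectiveSpecialLinearGroup (Fin 2) K) := by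
  classical
  obtain ⟨p, hFp⟩ := CharP.exists F
  haveI := hFp
  haveI hp : Fact p.Prime := ⟨CharP.char_is_prime F p⟩
  obtain ⟨n, -, hn⟩ := FiniteField.card F p
  have hq1 : 2 ≤ q := hK ▸ Fintype.one_lt_card
  obtain ⟨a, -, ha⟩ := (Nat.dvd_prime_pow hp.out).1
    ((dvd_pow_self q hr.ne_zero).trans (dvd_of_eq (hF.symm.trans hn)))
  haveI : CharP K p := charP_of_card_eq_prime_pow (hK.trans ha)
  have hp2 : p ≠ 2 := fun e => by
    subst e
    have ha0 : a ≠ 0 := fun e => by rw [e, pow_zero] at ha; omega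
    exact Nat.not_even_iff_odd.2 hq (ha ▸ Nat.even_pow.2 ⟨even_two, ha0⟩)
  have hc3 : 3 ≤ q := by
    obtain ⟨t, ht⟩ := hq
    omega
  have hbig : ∀ t, t ≤ q → t * ((t - 1) * (t + 1)) ≤ q * ((q - 1) * (q + 1)) := fun t ht =>
    Nat.mul_le_mul ht (Nat.mul_le_mul (by omega) (by omega))
  have hFo : Odd (q ^ r) := hq.pow
  obtain ⟨f⟩ := Forms.PslMap.nonempty_ringHom (K := K) (F := F) r (by rw [hK, hF])
  obtain ⟨H, ⟨e⟩⟩ := Forms.PslMap.exists_subgroup_psl f
  have hH : 2 * Nat.card H = q * ((q - 1) * (q + 1)) := by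
    have := Classical.SmallIso.natCard_pslTwo K
    rw [Classical.GL2.natCard_SL_two, hK, Nat.gcd_eq_left (show 2 ∣ q - 1 by
      obtain ⟨t, ht⟩ := hq; exact Nat.dvd_of_mod_eq_zero (by omega))] at this
    rw [Nat.card_congr e.toEquiv, this]
  obtain ⟨u, v, hu, hv, hu', hv', hne⟩ := Forms.DicksonMax.transfer H e
    (Forms.DicksonMax.psl_not_comm K p)
  have hG := Forms.DicksonCor.gcd_mul_natCard (F := F)
  rw [hF, Nat.gcd_eq_left (show 2 ∣ q ^ r - 1 by
    obtain ⟨t, ht⟩ := hFo; exact Nat.dvd_of_mod_eq_zero (by omega))] at hG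
  refine ⟨H, Forms.DicksonMax.coatom_of H ?_ fun M hMt hM => ?_, ⟨e⟩⟩
  · intro e0
    rw [← e0, hH] at hG
    have h2 : q < q ^ r := lt_self_pow₀ (by omega) hr.one_lt
    have h5 : q * ((q - 1) * (q + 1)) < q ^ r * ((q ^ r - 1) * (q ^ r + 1)) :=
      Nat.mul_lt_mul_of_lt_of_le h2 (Nat.mul_le_mul (by omega) (by omega))
        (Nat.mul_pos (by omega) (by omega))
    omega
  have hlt := Forms.DicksonMax.lt_card hM
  have hdvd := Subgroup.card_dvd_of_le hM.le
  have h24 : 24 ≤ q * ((q - 1) * (q + 1)) := hbig 3 hc3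
  have hMG : 2 * Nat.card M ∣ q ^ r * ((q ^ r - 1) * (q ^ r + 1)) :=
    hG ▸ Nat.mul_dvd_mul_left 2 M.card_subgroup_dvd_card
  have h3 : q = 3 → ¬ (24 ∣ Nat.card M) ∧ ¬ (60 ∣ Nat.card M) := by
    rintro rfl
    obtain ⟨j, hj⟩ := hr.odd_of_ne_two hr2
    have hsq : (3 ^ r - 1) * (3 ^ r + 1) = 9 ^ r - 1 := by
      rw [mul_comm, ← Nat.sq_sub_sq, one_pow, ← pow_mul, mul_comm, pow_mul]; norm_num
    rw [hsq] at hMG
    have hm80 : 9 ^ r % 80 = 9 := by
      rw [hj, pow_succ, pow_mul, Nat.mul_mod, Nat.pow_mod]; norm_num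
    constructor
    · intro h
      have h16 : 16 ∣ 3 ^ r * (9 ^ r - 1) :=
        (show 16 ∣ 2 * 24 by norm_num).trans ((Nat.mul_dvd_mul_left 2 h).trans hMG)
      have h16' : 16 ∣ 9 ^ r - 1 := (Nat.Coprime.pow 4 r (show Nat.Coprime 2 3 by norm_num)).dvd_of_dvd_mul_left
        (show 2 ^ 4 ∣ 3 ^ r * (9 ^ r - 1) by exact h16)
      generalize 9 ^ r = w at hm80 h16'
      omega
    · intro h
      have h5' : 5 ∣ 3 ^ r * (9 ^ r - 1) :=
        (show 5 ∣ 2 * 60 by norm_num).trans ((Nat.mul_dvd_mul_left 2 h).trans hMG)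
      have h5'' : 5 ∣ 9 ^ r - 1 :=
        (Nat.Coprime.pow_right r (show Nat.Coprime 5 3 by norm_num)).dvd_of_dvd_mul_left h5'
      generalize 9 ^ r = w at hm80 h5''
      omega
  rcases Forms.DicksonMax.overgroup_of_modular p hp2 H M hM.le hu hv hu' hv' hne
      with ⟨⟨e'⟩⟩ | ⟨⟨e'⟩⟩ | ⟨⟨e'⟩⟩ | h
  · rw [Nat.card_congr e'.toEquiv, nat_card_alternatingGroup, Nat.card_fin] at hlt
    norm_num [Nat.factorial, -Nat.card_eq_fintype_card] at hlt
    omega
  · rw [Nat.card_congr e'.toEquiv, Nat.card_perm, Nat.card_fin] at hlt h3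
    norm_num [Nat.factorial, -Nat.card_eq_fintype_card] at hlt h3
    have h5' : q = 3 := by
      by_contra hne3
      have := hbig 5 (by obtain ⟨t, ht⟩ := hq; omega)
      omega
    exact h3 h5'
  · rw [Nat.card_congr e'.toEquiv, nat_card_alternatingGroup, Nat.card_fin] at hlt h3
    norm_num [Nat.factorial, -Nat.card_eq_fintype_card] at hlt h3
    rcases Nat.lt_or_ge q 7 with h | h
    · obtain rfl | rfl : q = 3 ∨ q = 5 := by obtain ⟨t, ht⟩ := hq; omega
      · exact h3 rfl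
      · omega
    · have := hbig 7 h
      omega
  · obtain ⟨K', iK, fK, m, hm, h⟩ := h
    obtain ⟨h1, hmr⟩ := Forms.DicksonMax.subfield_same p hr hF hq1 hM.le hMt (by rw [hH]) K' m hm h
    rcases h with ⟨⟨e'⟩⟩ | h
    · have := Classical.SmallIso.natCard_pslTwo K'
      rw [Classical.GL2.natCard_SL_two, h1, Nat.gcd_eq_left (show 2 ∣ q - 1 by
        obtain ⟨t, ht⟩ := hq; exact Nat.dvd_of_mod_eq_zero (by omega)),
        ← Nat.card_congr e'.toEquiv] at this
      omega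
    · obtain ⟨j, hj⟩ := (S0805.result (K := K') hF hFo r hr.one_lt.le (by rw [h1])).2.1 ⟨M, h⟩
      exact Nat.not_even_iff_odd.2 (hr.odd_of_ne_two hr2) ⟨j, hj⟩

end Cfsg.Agent.S5942
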