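import Cfsg.Statements.S5943
import Cfsg.Agent.Lib.Forms.DicksonMax
import Cfsg.Agent.S0810
import Cfsg.Agent.Lib.Forms.PslMap
-- import your own Cfsg.Agent.* helpers here

set_option autoImplicit false
open Cfsg

namespace Cfsg.Agent.S5943



/-- Let K and F be finite fields of characteristic 2 with #K = q > 2 and #F = q^r for a prime r. Then PSL_2(F) has a maximal subgroup isomorphic to PSL_2(K) (which equals PGL_2(K) in characteristic 2). -/
theorem result {F K : Type*} [Field F] [Fintype F] [Field K] [Fintype K] (q r : ℕ) (hK : Fintype.card K = q) (hF : Fintype.card F = q ^ r) (hq : Even q) (hq2 : q ≠ 2) (hr : r.Prime) : ∃ H : Subgroup (Matrix.ProjectiveSpecialLinearGroup (Fin 2) F), IsCoatom H ∧ Nonempty (H ≃* Matrix.ProjectiveSpecialLinearGroup (Fin 2) K) := by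
  classical
  obtain ⟨p, hFp⟩ := CharP.exists F
  haveI := hFp
  haveI hp : Fact p.Prime := ⟨CharP.char_is_prime F p⟩
  obtain ⟨n, -, hn⟩ := FiniteField.card F p
  have hq1 : 2 ≤ q := hK ▸ Fintype.one_lt_card
  obtain ⟨a, -, ha⟩ := (Nat.dvd_prime_pow hp.out).1
    ((dvd_pow_self q hr.ne_zero).trans (dvd_of_eq (hF.symm.trans hn)))
  haveI : CharP K p := charP_of_card_eq_prime_pow (hK.trans ha)
  have hp2 : p = 2 := by
    have h2 : 2 ∣ p ^ a := ha ▸ even_iff_two_dvd.1 hq
    exact ((Nat.prime_dvd_prime_iff_eq Nat.prime_two hp.out).1 (Nat.prime_two.dvd_of_dvd_pow h2)).symm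
  have hq4 : 4 ≤ q := by obtain ⟨t, ht⟩ := hq; omega
  obtain ⟨f⟩ := Forms.PslMap.nonempty_ringHom (K := K) (F := F) r (by rw [hK, hF])
  obtain ⟨H, ⟨e⟩⟩ := Forms.PslMap.exists_subgroup_psl f
  have hH : Nat.card H = q * ((q - 1) * (q + 1)) := by
    have := Classical.SmallIso.natCard_pslTwo K
    rw [Classical.GL2.natCard_SL_two, hK, show Nat.gcd 2 (q - 1) = 1 from
      Nat.coprime_two_left.2 (Nat.Even.sub_odd (by omega) hq odd_one), one_mul] at this
    rw [Nat.card_congr e.toEquiv, this]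
  obtain ⟨u, v, hu, hv, hu', hv', hne⟩ := Forms.DicksonMax.transfer H e
    (Forms.DicksonMax.psl_not_comm K p)
  have h60 : 4 * ((4 - 1) * (4 + 1)) ≤ q * ((q - 1) * (q + 1)) :=
    Nat.mul_le_mul hq4 (Nat.mul_le_mul (by omega) (by omega))
  refine ⟨H, Forms.DicksonMax.coatom_of H ?_ fun M hMt hM => ?_, ⟨e⟩⟩
  · intro e0
    have hG := Forms.DicksonCor.gcd_mul_natCard (F := F)
    rw [← e0, hH, hF, show Nat.gcd 2 (q ^ r - 1) = 1 from
      Nat.coprime_two_left.2 (Nat.Even.sub_odd (Nat.one_le_pow _ _ (by omega))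
        (hq.pow_of_ne_zero hr.ne_zero) odd_one), one_mul] at hG
    have h2 : q < q ^ r := lt_self_pow₀ (by omega) hr.one_lt
    have h5 : q * ((q - 1) * (q + 1)) < q ^ r * ((q ^ r - 1) * (q ^ r + 1)) :=
      Nat.mul_lt_mul_of_lt_of_le h2 (Nat.mul_le_mul (by omega) (by omega))
        (Nat.mul_pos (by omega) (by omega))
    omega
  have hlt := Forms.DicksonMax.lt_card hM
  rw [hH] at hlt
  rcases Forms.DicksonList.classify p M with ⟨g, -, -, h⟩ | ⟨x, -, hfix⟩ |
      ⟨⟨e'⟩⟩ | ⟨⟨e'⟩⟩ | ⟨⟨e'⟩⟩ | h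
  · have hMs : Group.IsSolvable M := by
      rcases h with ⟨hc, -⟩ | ⟨⟨e'⟩⟩
      · haveI := hc
        exact Group.isSolvable_of_comm fun a b => IsCyclic.commGroup.mul_comm a b
      · haveI := Forms.DicksonSolvable.isSolvable_dihedral (orderOf g)
        exact Group.isSolvable_of_isSolvable_injective (f := e'.toMonoidHom) e'.injective
    refine S0810.not_solvable_psl (K := K) (by omega) ?_
    exact Group.isSolvable_of_isSolvable_injective (f := (Subgroup.inclusion hM.le).comp e.symm.toMonoidHom)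
      ((Subgroup.inclusion_injective hM.le).comp e.symm.injective)
  · exact hne (Forms.DicksonMax.comm_of_fix p (hfix u (hM.le hu)) (hfix v (hM.le hv)) hu' hv')
  · rw [Nat.card_congr e'.toEquiv, nat_card_alternatingGroup, Nat.card_fin] at hlt
    norm_num [Nat.factorial] at hlt
    omega
  · rw [Nat.card_congr e'.toEquiv, Nat.card_perm, Nat.card_fin] at hlt
    norm_num [Nat.factorial] at hlt
    omega
  · rw [Nat.card_congr e'.toEquiv, nat_card_alternatingGroup, Nat.card_fin] at hlt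
    norm_num [Nat.factorial] at hlt
    omega
  · obtain ⟨K', iK, fK, m, hm, h⟩ := h
    obtain ⟨h1, -⟩ := Forms.DicksonMax.subfield_same p hr hF (by omega) hM.le hMt
      (by rw [hH]; exact dvd_mul_left _ _) K' m hm h
    have := (Forms.DicksonCor.subfield_bound M hMt K' m hm h).2
    rw [h1] at this
    omega

end Cfsg.Agent.S5943
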