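import Cfsg.Statements.S5946
-- import your own Cfsg.Agent.* helpers here

set_option autoImplicit false
open Cfsg

namespace Cfsg.Agent.S5946


/-- Let F ⊆ K be finite fields with [K : F] = n ≥ 2 and regard K as an n-dimensional F-vector space. The Singer group M ≤ GL_F(K) of multiplications by the non-zero elements of K is self-centralizing: every F-linear automorphism of K commuting with all of M lies in M. -/
theorem result {F K : Type*} [Field F] [Fintype F] [Field K] [Fintype K] [Algebra F K] (n : ℕ) (hn : 2 ≤ n) (hdim : Module.finrank F K = n) :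
    Subgroup.centralizer (((Units.map ((Algebra.lmul F K : K →ₐ[F] Module.End F K) : K →* Module.End F K)).range : Subgroup (Module.End F K)ˣ) : Set (Module.End F K)ˣ) = (Units.map ((Algebra.lmul F K : K →ₐ[F] Module.End F K) : K →* Module.End F K)).range := by
  refine le_antisymm (fun φ hφ => ?_) ?_
  · have h1 : φ.1 1 ≠ 0 := fun h => one_ne_zero (α := K) (by
      have := congrArg φ⁻¹.1 h
      rwa [← Module.End.mul_apply, φ.inv_mul, Module.End.one_apply, map_zero] at this)
    refine ⟨Units.mk0 (φ.1 1) h1, Units.ext (LinearMap.ext fun x => ?_)⟩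
    show φ.1 1 * x = φ.1 x
    rcases eq_or_ne x 0 with rfl | hx
    · rw [mul_zero, map_zero]
    · have h := Subgroup.mem_centralizer_iff.mp hφ _ ⟨Units.mk0 x hx, rfl⟩
      have h' : x * φ.1 1 = φ.1 (x * 1) := LinearMap.congr_fun (congrArg Units.val h) 1
      rw [mul_comm, h', mul_one]
  · rintro _ ⟨a, rfl⟩
    refine Subgroup.mem_centralizer_iff.mpr ?_
    rintro _ ⟨b, rfl⟩
    rw [← map_mul, mul_comm, map_mul]

end Cfsg.Agent.S5946
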