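import Cfsg.Statements.S5947
import Cfsg.Agent.Lib.CharP.Zsigmondy

set_option autoImplicit false
open Cfsg

namespace Cfsg.Agent.S5947

/-- An element of prime order not dividing the order of `GL(W)` fixes `W` pointwise. -/
theorem fixes {F V : Type*} [Field F] [Fintype F] [AddCommGroup V] [Module F V] [FiniteDimensional F V]
    {r : ℕ} (hr : r.Prime) {x : (Module.End F V)ˣ} (hx : x ^ r = 1) {W : Submodule F V}
    (hinv : ∀ w ∈ W, (x : Module.End F V) w ∈ W)
    (hcop : ¬ r ∣ Nat.card (Matrix.GeneralLinearGroup (Fin (Module.finrank F W)) F)) :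
    ∀ w ∈ W, (x : Module.End F V) w = w := by
  classical
  have hinv' : ∀ w ∈ W, ((x ^ (r - 1) : (Module.End F V)ˣ) : Module.End F V) w ∈ W := by
    intro w hw
    induction (r - 1) with
    | zero => simpa using hw
    | succ j ih => rw [pow_succ', Units.val_mul, Module.End.mul_apply]; exact hinv _ ih
  have hx' : x * x ^ (r - 1) = 1 := by rw [← pow_succ', Nat.sub_add_cancel hr.one_le, hx]
  let u : (Module.End F W)ˣ :=
    ⟨(x : Module.End F V).restrict hinv, ((x ^ (r - 1) : (Module.End F V)ˣ) : Module.End F V).restrict hinv',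
      by
        refine LinearMap.ext fun w => Subtype.ext ?_
        show (x : Module.End F V) (((x ^ (r - 1) : (Module.End F V)ˣ) : Module.End F V) w) = w
        rw [← Module.End.mul_apply, ← Units.val_mul, hx']; rfl,
      by
        refine LinearMap.ext fun w => Subtype.ext ?_
        show ((x ^ (r - 1) : (Module.End F V)ˣ) : Module.End F V) ((x : Module.End F V) w) = w
        rw [← Module.End.mul_apply, ← Units.val_mul, (mul_eq_one_comm.1 hx')]; rfl⟩
  have hpow : ∀ (j : ℕ) (w : W), ((((u ^ j : (Module.End F W)ˣ) : Module.End F W) w : W) : V) =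
      ((x ^ j : (Module.End F V)ˣ) : Module.End F V) w := by
    intro j
    induction j with
    | zero => intro w; simp
    | succ j ih =>
      intro w
      rw [pow_succ', pow_succ', Units.val_mul, Units.val_mul, Module.End.mul_apply, Module.End.mul_apply]
      show (x : Module.End F V) _ = _
      exact congrArg _ (ih w)
  have hu : u ^ r = 1 := by
    refine Units.ext (LinearMap.ext fun w => Subtype.ext ?_)
    rw [hpow, hx]; simp
  let e : (Module.End F W)ˣ ≃* Matrix.GeneralLinearGroup (Fin (Module.finrank F W)) F :=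
    Units.mapEquiv (LinearMap.toMatrixAlgEquiv (Module.finBasis F W)).toMulEquiv
  have h1 : orderOf (e u) = 1 := by
    rcases hr.eq_one_or_self_of_dvd _ (orderOf_dvd_of_pow_eq_one (x := e u) (by rw [← map_pow, hu, map_one]))
      with h | h
    · exact h
    · exact absurd (h ▸ orderOf_dvd_natCard (e u)) hcop
  rw [orderOf_eq_one_iff] at h1
  have h2 : u = 1 := e.injective (by rw [h1, map_one])
  intro w hw
  have h3 := hpow 1 ⟨w, hw⟩
  rw [pow_one, pow_one, h2] at h3
  simpa using h3.symm

/-- A Mersenne exponent forces a prime. -/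
theorem prime_of_succ_eq_two_pow {q p a m : ℕ} (hp : p.Prime) (ha : 1 ≤ a) (hq : q = p ^ a) (hm : q + 1 = 2 ^ m) :
    q.Prime := by
  rcases Nat.even_or_odd a with ⟨b, hb⟩ | hodd
  · exfalso
    subst hq
    have hp2 := hp.two_le
    have h4 : 4 ≤ p ^ a := by
      calc 4 = 2 ^ 2 := rfl
        _ ≤ p ^ 2 := Nat.pow_le_pow_left hp2 2
        _ ≤ p ^ a := Nat.pow_le_pow_right hp.pos (by omega)
    rcases m with _ | _ | m
    · omega
    · omega
    · rcases hp.eq_two_or_odd' with rfl | ⟨j, hj⟩
      · have : 2 ∣ 2 ^ a := dvd_pow_self 2 (by omega)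
        have : 2 ∣ 2 ^ (m + 2) := dvd_pow_self 2 (by omega)
        omega
      · have h1 : p ^ a % 4 = 1 := by
          rw [hb, ← two_mul, pow_mul, Nat.pow_mod, Nat.pow_mod p 2 4]
          have : p % 4 = 1 ∨ p % 4 = 3 := by omega
          rcases this with h | h <;> rw [h] <;> simp
        have h2 : 2 ^ (m + 2) % 4 = 0 := by rw [pow_add]; simp
        omega
  · suffices a = 1 by rw [hq, this, pow_one]; exact hp
    subst hq
    by_contra hne
    obtain ⟨j, hj⟩ := hodd
    have hsum : ((p : ℤ) + 1) * (∑ i ∈ Finset.range a, (-1) ^ i * (p : ℤ) ^ i) = (p : ℤ) ^ a + 1 := by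
      have h1 := geom_sum_mul_neg (-(p : ℤ)) a
      have h2 : (-(p : ℤ)) ^ a = -((p : ℤ) ^ a) := Odd.neg_pow ⟨j, hj⟩ _
      rw [h2, sub_neg_eq_add, sub_neg_eq_add] at h1
      have h3 : ∀ i, (-(p : ℤ)) ^ i = (-1) ^ i * (p : ℤ) ^ i := fun i => neg_pow _ _
      simp only [h3] at h1
      linarith
    set s := ∑ i ∈ Finset.range a, (-1) ^ i * (p : ℤ) ^ i
    have hs : ((p : ℤ) + 1) * s = 2 ^ m := by rw [hsum]; exact_mod_cast hm
    have hp2 := hp.two_le
    have hspos : 0 < s := by
      have : (0 : ℤ) < ((p : ℤ) + 1) * s := by rw [hs]; positivity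
      exact pos_of_mul_pos_right this (by positivity)
    obtain ⟨k, -, hk⟩ := (Nat.dvd_prime_pow Nat.prime_two).1
      (show s.natAbs ∣ 2 ^ m by
        have h1 := congrArg Int.natAbs hs
        rw [Int.natAbs_mul, Int.natAbs_pow] at h1
        exact ⟨((p : ℤ) + 1).natAbs, by rw [mul_comm, h1]; rfl⟩)
    rcases hp.eq_two_or_odd' with rfl | ⟨i, hi⟩
    · have : 2 ∣ 2 ^ a := dvd_pow_self 2 (by omega)
      rcases m with _ | m
      · have := Nat.one_le_two_pow (n := a); omega
      · have : 2 ∣ 2 ^ (m + 1) := dvd_pow_self 2 (by omega)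
        omega
    have hs2 : (s : ZMod 2) = 1 := by
      simp only [s, Int.cast_sum, Int.cast_mul, Int.cast_pow, Int.cast_neg, Int.cast_one, Int.cast_natCast,
        show (p : ZMod 2) = 1 by rw [hi]; push_cast; rw [show (2 : ZMod 2) = 0 from rfl]; simp,
        show (-1 : ZMod 2) = 1 from rfl, one_pow, mul_one, Finset.sum_const, Finset.card_range]
      rw [hj, nsmul_one]; push_cast; rw [show (2 : ZMod 2) = 0 from rfl]; simp
    rcases k with _ | k
    · have hs1 : s = 1 := by rw [pow_zero] at hk; omega
      rw [hs1, mul_one] at hsum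
      have h3 : p ^ 2 ≤ p ^ a := Nat.pow_le_pow_right hp.pos (by omega)
      have h4 : (p : ℤ) ^ a = p := by linarith
      have h5 : p ^ a = p := by exact_mod_cast h4
      have : p * 2 ≤ p ^ 2 := by rw [pow_two]; exact Nat.mul_le_mul_left p hp2
      omega
    · have : (s : ZMod 2) = 0 := by
        rw [← Int.natAbs_of_nonneg hspos.le, hk, Int.cast_natCast, pow_succ, Nat.cast_mul]
        rw [show ((2 : ℕ) : ZMod 2) = 0 from rfl, mul_zero]
      rw [hs2] at this
      exact one_ne_zero this

/-- Let F ⊆ K be finite fields with |F| = q and [K : F] = n ≥ 2, regard K as an n-dimensional F-vector space, and let M ≤ GL_F(K) be the Singer group of multiplications by non-zero elements of K (cyclic of order q^n − 1). Assume (n, q) ≠ (6, 2), and that it is not the case that n = 2 with q a prime such that q + 1 is a power of 2. Then every abelian subgroup of GL_F(K) of order q^n − 1 is conjugate to M. -/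
theorem result {F K : Type*} [Field F] [Fintype F] [Field K] [Fintype K] [Algebra F K] (n : ℕ) (hn : 2 ≤ n) (hdim : Module.finrank F K = n)
    (hex1 : ¬ (n = 6 ∧ Fintype.card F = 2))
    (hex2 : ¬ (n = 2 ∧ (Fintype.card F).Prime ∧ ∃ a : ℕ, Fintype.card F + 1 = 2 ^ a))
    (U : Subgroup (Module.End F K)ˣ) (hU : IsMulCommutative U) (hcard : Nat.card U = Fintype.card K - 1) :
    ∃ g : (Module.End F K)ˣ, U.map (MulAut.conj g).toMonoidHom = (Units.map ((Algebra.lmul F K : K →ₐ[F] Module.End F K) : K →* Module.End F K)).range := by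
  classical
  haveI : FiniteDimensional F K := Module.Finite.of_finite
  obtain ⟨p, hpc⟩ := CharP.exists F
  obtain ⟨a, hp, hqa⟩ := FiniteField.card F p
  set q := Fintype.card F with hq
  have hq1 : 1 < q := Fintype.one_lt_card
  have hcK : Fintype.card K = q ^ n := by rw [Module.card_eq_pow_finrank (K := F) (V := K), hdim]
  obtain ⟨r, hr, hrd, hrk⟩ := CharP.Zsigmondy.zsigmondy hq1 (show 1 < n by omega)
    (fun h => hex1 ⟨h.2, h.1⟩)
    (fun h => hex2 ⟨h.1, prime_of_succ_eq_two_pow hp a.pos hqa h.2.choose_spec, h.2⟩)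
  haveI := Fact.mk hr
  haveI : Finite (Module.End F K) := Module.finite_of_finite F
  obtain ⟨x, hx⟩ := exists_prime_orderOf_dvd_card' (G := U) r (by rw [hcard, hcK]; exact hrd)
  have hxr : (x : (Module.End F K)ˣ) ^ r = 1 := by
    rw [← hx, ← Subgroup.orderOf_coe]; exact pow_orderOf_eq_one _
  have hx1 : (x : (Module.End F K)ˣ) ≠ 1 := fun h => hr.one_lt.ne' (by
    rw [← hx, ← Subgroup.orderOf_coe, h, orderOf_one])
  have hrq : ¬ r ∣ q := fun h => by
    have h1 : r ∣ q ^ n := dvd_pow h (by omega)
    have h2 := Nat.dvd_sub h1 hrd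
    rw [Nat.sub_sub_self (Nat.one_le_pow _ _ (by omega))] at h2
    exact hr.one_lt.ne' (Nat.dvd_one.1 h2)
  have hcop : ∀ W : Submodule F K, W ≠ ⊤ →
      ¬ r ∣ Nat.card (Matrix.GeneralLinearGroup (Fin (Module.finrank F W)) F) := by
    intro W hW hd
    have hlt : Module.finrank F W < n := hdim ▸ Submodule.finrank_lt hW
    rw [Matrix.card_GL_field, ← hq] at hd
    generalize hk : Module.finrank F W = k at hd hlt
    obtain ⟨⟨i, hik⟩, -, hi⟩ := (hr.prime.dvd_finset_prod_iff _).1 hd
    simp only at hi
    rw [show q ^ k - q ^ i = q ^ i * (q ^ (k - i) - 1) by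
      rw [Nat.mul_sub, ← pow_add, Nat.add_sub_cancel' hik.le, mul_one]] at hi
    rcases (hr.dvd_mul).1 hi with h | h
    · exact hrq (hr.dvd_of_dvd_pow h)
    · exact hrk (k - i) (by omega) (by omega) h
  set X := ((x : (Module.End F K)ˣ) : Module.End F K) with hX
  have hXr : X ^ r = 1 := by rw [hX, ← Units.val_pow_eq_pow_val, hxr]; rfl
  -- irreducibility
  have hirr : ∀ W : Submodule F K, (∀ w ∈ W, X w ∈ W) → W = ⊥ ∨ W = ⊤ := by
    intro W hW
    by_contra hcon
    push Not at hcon
    have hfix := fixes hr hxr hW (hcop W hcon.2)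
    have hker : ∀ w : K, X (X w - w) = X w - w := by
      obtain ⟨w₀, hw₀, hne⟩ := (Submodule.ne_bot_iff W).1 hcon.1
      let R : Submodule F K := LinearMap.range (X - 1)
      have hR : R ≠ ⊤ := fun h => by
        have hsurj : Function.Surjective (X - 1 : Module.End F K) := LinearMap.range_eq_top.1 h
        have hinj := (LinearMap.injective_iff_surjective (f := (X - 1 : Module.End F K))).2 hsurj
        exact hne (hinj (by simp [hX, hfix w₀ hw₀]))
      have hRinv : ∀ w ∈ R, X w ∈ R := by
        rintro _ ⟨z, rfl⟩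
        exact ⟨X z, by simp⟩
      exact fun w => fixes hr hxr hRinv (hcop R hR) _ ⟨w, by simp⟩
    have hpchar : p ≠ r := fun h => hrq (h ▸ hqa ▸ dvd_pow_self p a.ne_zero)
    have hlin : ∀ j : ℕ, ∀ w : K, (X ^ j) w = w + (j : F) • (X w - w) := by
      intro j
      induction j with
      | zero => intro w; simp
      | succ j ih =>
        intro w
        rw [pow_succ', Module.End.mul_apply, ih, map_add, map_smul, hker, Nat.cast_succ, add_smul, one_smul]
        abel
    refine hx1 (Units.ext (LinearMap.ext fun w => ?_))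
    have h1 := hlin r w
    rw [hXr, Module.End.one_apply] at h1
    have h2 : (r : F) • (X w - w) = 0 := by simpa using h1.symm
    have hr0 : (r : F) ≠ 0 := fun h => hpchar
      ((Nat.prime_dvd_prime_iff_eq hp hr).1 ((CharP.cast_eq_zero_iff F p r).1 h))
    simpa [sub_eq_zero, ← hX] using (smul_eq_zero.1 h2).resolve_left hr0
  -- the algebra of `U`
  let S : Set (Module.End F K) := (fun u : (Module.End F K)ˣ => (u : Module.End F K)) '' U
  let C := Algebra.adjoin F S
  haveI : IsMulCommutative C := Algebra.isMulCommutative_adjoin F (by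
    rintro _ ⟨u, hu, rfl⟩ _ ⟨v, hv, rfl⟩
    have h := congrArg (fun z : U => ((z : (Module.End F K)ˣ) : Module.End F K))
      (hU.is_comm.comm ⟨u, hu⟩ ⟨v, hv⟩)
    exact h)
  have hXC : X ∈ C := Algebra.subset_adjoin ⟨x, x.2, rfl⟩
  have hinj : ∀ c : C, c ≠ 0 → Function.Injective (c : Module.End F K) := by
    intro c hc
    rw [← LinearMap.ker_eq_bot]
    refine (hirr _ fun w hw => ?_).resolve_right fun h =>
      hc (Subtype.ext (LinearMap.ker_eq_top.1 h))
    rw [LinearMap.mem_ker] at hw ⊢
    have hcX : (c : Module.End F K) * X = X * (c : Module.End F K) :=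
      congrArg Subtype.val (IsMulCommutative.is_comm.comm c ⟨X, hXC⟩)
    rw [← Module.End.mul_apply, hcX, Module.End.mul_apply, hw, map_zero]
  letI : CommRing C := { (inferInstance : Ring C) with mul_comm := IsMulCommutative.is_comm.comm }
  haveI : Nontrivial C := ⟨⟨0, 1, fun h => by
    have := congrArg (fun z : C => (z : Module.End F K) 1) h
    simp at this⟩⟩
  haveI : NoZeroDivisors C := ⟨fun {b c} hbc => by
    by_contra hcon
    push Not at hcon
    have h1 : Function.Injective (((b * c : C) : Module.End F K)) := (hinj b hcon.1).comp (hinj c hcon.2)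
    rw [hbc] at h1
    exact zero_ne_one (h1 (a₁ := (0 : K)) (a₂ := 1) (by simp))⟩
  haveI : IsDomain C := NoZeroDivisors.to_isDomain C
  haveI : Finite (Module.End F K) := Module.finite_of_finite F
  haveI : Fintype C := Fintype.ofFinite C
  letI : Field C := (Finite.isField_of_domain C).toField
  have hev : Function.Injective (fun c : C => (c : Module.End F K) 1) := fun b c h => by
    by_contra hne
    have := hinj (b - c) (sub_ne_zero.2 hne)
    exact one_ne_zero (this (a₁ := (1 : K)) (a₂ := 0) (by simpa [sub_eq_zero] using h))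
  haveI : Fintype U := Fintype.ofFinite U
  let j : U → C := fun u => ⟨((u : (Module.End F K)ˣ) : Module.End F K), Algebra.subset_adjoin ⟨u, u.2, rfl⟩⟩
  have hj : Function.Injective j := fun u v h => Subtype.ext (Units.ext (congrArg Subtype.val h))
  have hj0 : ∀ u, j u ≠ 0 := fun u h => by
    have h1 := congrArg (fun z : C => (z : Module.End F K)) h
    exact (Units.isUnit (u : (Module.End F K)ˣ)).ne_zero h1
  have hC : Fintype.card C = Fintype.card K := by
    refine le_antisymm (Fintype.card_le_of_injective _ hev) ?_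
    have h1 : Fintype.card U ≤ Fintype.card {c : C // c ≠ 0} :=
      Fintype.card_le_of_injective (fun u => (⟨j u, hj0 u⟩ : {c : C // c ≠ 0})) fun u v h => hj (congrArg Subtype.val h)
    rw [Fintype.card_subtype_compl, Fintype.card_subtype_eq, ← Nat.card_eq_fintype_card, hcard] at h1
    have := Fintype.card_pos (α := C)
    have := Fintype.card_pos (α := K)
    omega
  have hfinC : Module.finrank F C = n := by
    have h1 : Fintype.card C = q ^ Module.finrank F C := Module.card_eq_pow_finrank
    rw [hC, hcK] at h1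
    exact (Nat.pow_right_injective hq1 h1).symm
  obtain ⟨σ⟩ := (FiniteField.nonempty_algHom_iff_finrank_dvd (F := F) (K := K) (L := C)).2
    (by rw [hdim, hfinC])
  let e₀ : K →ₗ[F] K :=
    { toFun := fun k => ((σ k : C) : Module.End F K) 1
      map_add' := fun k l => by simp
      map_smul' := fun c k => by simp }
  have he : Function.Injective e₀ := hev.comp σ.toRingHom.injective
  let e := LinearEquiv.ofInjectiveEndo e₀ he
  have hmul : ∀ k l : K, ((σ k : C) : Module.End F K) (e l) = e (k * l) := fun k l => by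
    show ((σ k : C) : Module.End F K) (((σ l : C) : Module.End F K) 1) = ((σ (k * l) : C) : Module.End F K) 1
    rw [map_mul]; rfl
  let g : (Module.End F K)ˣ := ⟨e.symm.toLinearMap, e.toLinearMap,
    LinearMap.ext fun z => e.symm_apply_apply z, LinearMap.ext fun z => e.apply_symm_apply z⟩
  refine ⟨g, ?_⟩
  have hL : ∀ u : Kˣ, g⁻¹ * Units.map ((Algebra.lmul F K : K →ₐ[F] Module.End F K) : K →* Module.End F K) u * g ∈ U := by
    intro u
    have hσu : σ u ≠ 0 := fun h => u.ne_zero (σ.toRingHom.injective (by simpa using h))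
    have hsurj : Function.Surjective (fun u : U => (⟨j u, hj0 u⟩ : {c : C // c ≠ 0})) :=
      ((Fintype.bijective_iff_injective_and_card _).2 ⟨fun u v h => hj (congrArg Subtype.val h), by
        rw [Fintype.card_subtype_compl, Fintype.card_subtype_eq, ← Nat.card_eq_fintype_card (α := U),
          hcard, hC]⟩).2
    obtain ⟨v, hv⟩ := hsurj ⟨σ u, hσu⟩
    have hv' : ((v : (Module.End F K)ˣ) : Module.End F K) = (σ u : C) :=
      congrArg (fun z : {c : C // c ≠ 0} => ((z.1 : C) : Module.End F K)) hv
    have : g⁻¹ * Units.map ((Algebra.lmul F K : K →ₐ[F] Module.End F K) : K →* Module.End F K) u * g = v := by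
      refine Units.ext (LinearMap.ext fun z => ?_)
      rw [hv']
      show e ((u : K) * e.symm z) = _
      rw [← hmul, e.apply_symm_apply]
    rw [this]
    exact v.2
  symm
  refine Subgroup.eq_of_le_of_card_ge ?_ ?_
  · rintro _ ⟨u, rfl⟩
    exact ⟨_, hL u, by simp [mul_assoc]⟩
  · have hinjL : Function.Injective (Units.map ((Algebra.lmul F K : K →ₐ[F] Module.End F K) : K →* Module.End F K)) :=
      Units.map_injective fun b c h => by simpa using congrArg (fun z : Module.End F K => z 1) h
    rw [Subgroup.card_map_of_injective (MulAut.conj g).injective, hcard,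
      ← Nat.card_congr (MonoidHom.ofInjective hinjL).toEquiv, Nat.card_eq_fintype_card, Fintype.card_units]

end Cfsg.Agent.S5947
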