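import Cfsg.Statements.S5952
-- import your own Cfsg.Agent.* helpers here

set_option autoImplicit false
open Cfsg

namespace Cfsg.Agent.S5952

section
variable {F V : Type*} [Field F] [AddCommGroup V] [Module F V] [FiniteDimensional F V]
variable {f : V →ₗ[F] V} {s a : ℕ} {E : Submodule F V} {U : Fin s → Submodule F V}

/-- The part spanned by `E` and the components indexed by `S`. -/
def part (E : Submodule F V) (U : Fin s → Submodule F V) (S : Finset (Fin s)) : Submodule F V :=
  E ⊔ ⨆ j ∈ S, U j

omit [FiniteDimensional F V] in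
lemma part_insert (S : Finset (Fin s)) (j : Fin s) : part E U (insert j S) = part E U S ⊔ U j := by
  rw [part, part, Finset.iSup_insert, sup_assoc, sup_comm (U j)]

omit [FiniteDimensional F V] in
lemma part_empty : part E U ∅ = E :=
  le_antisymm (sup_le le_rfl (iSup₂_le fun j hj => absurd hj (Finset.notMem_empty j))) le_sup_left

omit [FiniteDimensional F V] in
lemma part_inv (hE : E.map f ≤ E) (hU : ∀ j, (U j).map f ≤ U j) (S : Finset (Fin s)) :
    (part E U S).map f ≤ part E U S := by
  rw [part, Submodule.map_sup, Submodule.map_iSup]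
  simp only [Submodule.map_iSup]
  exact sup_le_sup hE (iSup₂_mono fun j _ => hU j)

theorem finrank_inf_part (hE : E.map f ≤ E) (hU : ∀ j, (U j).map f ≤ U j)
    (hdim : ∀ j, Module.finrank F (U j) = a)
    (hirr : ∀ j, ∀ W : Submodule F V, W ≤ U j → W.map f ≤ W → W = ⊥ ∨ W = U j)
    (hdisj : ∀ (S : Finset (Fin s)) j, j ∉ S → Disjoint (part E U S) (U j))
    {W : Submodule F V} (hW : W.map f ≤ W) (S : Finset (Fin s)) :
    ∃ t, Module.finrank F ↥(W ⊓ part E U S) = Module.finrank F ↥(W ⊓ E) + t * a := by
  classical
  induction S using Finset.induction_on with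
  | empty => exact ⟨0, by rw [part_empty, zero_mul, add_zero]⟩
  | @insert j S hj ih =>
    obtain ⟨t, ht⟩ := ih
    rw [part_insert]
    set P := part E U S with hP
    set B := W ⊓ (P ⊔ U j) with hB
    have hBinv : B.map f ≤ B := le_inf ((Submodule.map_mono inf_le_left).trans hW)
      ((Submodule.map_mono inf_le_right).trans (by
        rw [Submodule.map_sup]; exact sup_le_sup (part_inv hE hU S) (hU j)))
    have hC : ((B ⊔ P) ⊓ U j).map f ≤ (B ⊔ P) ⊓ U j := le_inf
      ((Submodule.map_mono inf_le_left).trans (by
        rw [Submodule.map_sup]; exact sup_le_sup hBinv (part_inv hE hU S)))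
      ((Submodule.map_mono inf_le_right).trans (hU j))
    have hmod : B ⊔ P = P ⊔ (B ⊔ P) ⊓ U j := by
      apply le_antisymm
      · rw [← inf_comm (U j), ← sup_inf_assoc_of_le (U j) (le_sup_right : P ≤ B ⊔ P)]
        exact le_inf (sup_le inf_le_right le_sup_left) le_rfl
      · exact sup_le le_sup_right inf_le_left
    have hsum := Submodule.finrank_sup_add_finrank_inf_eq B P
    have hBP : B ⊓ P = W ⊓ P := by
      rw [hB, inf_assoc, inf_eq_right.2 (le_sup_left : P ≤ P ⊔ U j)]
    rw [hBP, ht] at hsum
    rcases hirr j _ inf_le_right hC with h | h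
    · refine ⟨t, ?_⟩
      rw [hmod, h, sup_bot_eq] at hsum
      omega
    · refine ⟨t + 1, ?_⟩
      have h1 := Submodule.finrank_sup_add_finrank_inf_eq P (U j)
      rw [disjoint_iff.1 (hdisj S j hj), finrank_bot, hdim] at h1
      rw [hmod, h] at hsum
      rw [add_mul, one_mul]
      omega

end

/-- Which dimensions of invariant subspaces a semisimple linear map has. Let `V` be a finite-dimensional vector space over a field `F` and `f` an invertible semisimple linear map of `V`. Suppose `V` is the internal direct sum of the fixed space `C_V(f)` (the eigenspace for 1) and subspaces `U_1, …, U_s`, each `f`-invariant of dimension `a ≥ 1` on which `f` acts irreducibly (no `f`-invariant subspaces other than 0 and `U_j`). Let `0 < m < dim V` and `ℓ = m mod a`. Then `f` leaves some `m`-dimensional subspace invariant if and only if `dim C_V(f) ≥ m`, or `a ≤ m` and `dim C_V(f) ≥ ℓ`. -/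
theorem result {F V : Type*} [Field F] [AddCommGroup V] [Module F V]
    [FiniteDimensional F V] (f : V →ₗ[F] V) (hf : Function.Bijective f) (hss : Module.End.IsSemisimple f)
    {s a : ℕ} (ha : 1 ≤ a) (U : Fin s → Submodule F V)
    (hUinv : ∀ j, (U j).map f ≤ U j) (hUdim : ∀ j, Module.finrank F ↥(U j) = a)
    (hUirr : ∀ j, ∀ W : Submodule F V, W ≤ U j → W.map f ≤ W → W = ⊥ ∨ W = U j)
    (hdec : DirectSum.IsInternal (fun o : Option (Fin s) => o.elim (Module.End.eigenspace f 1) U))
    (m : ℕ) (hm : 0 < m) (hmV : m < Module.finrank F V) :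
    (∃ W : Submodule F V, Module.finrank F ↥W = m ∧ W.map f ≤ W) ↔
    (m ≤ Module.finrank F ↥(Module.End.eigenspace f 1) ∨
      (a ≤ m ∧ m % a ≤ Module.finrank F ↥(Module.End.eigenspace f 1))) := by
  classical
  set E := Module.End.eigenspace f 1 with hEdef
  have hE : E.map f ≤ E := by
    rintro _ ⟨x, hx, rfl⟩
    have h1 : f x = x := by simpa using Module.End.mem_eigenspace_iff.1 hx
    rw [h1]; exact hx
  have hind := hdec.submodule_iSupIndep
  have hdisj : ∀ (S : Finset (Fin s)) j, j ∉ S → Disjoint (part E U S) (U j) := by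
    intro S j hj
    have h1 : Disjoint (U j) (⨆ o ∈ ({o | o ≠ some j} : Set (Option (Fin s))),
        (fun o : Option (Fin s) => o.elim E U) o) :=
      hind.disjoint_biSup (x := some j) (by simp)
    refine (h1.mono_right (sup_le ?_ (iSup₂_le fun i hi => ?_))).symm
    · exact le_iSup₂_of_le none (by simp) le_rfl
    · exact le_iSup₂_of_le (some i) (by simp only [Set.mem_ofPred_eq, ne_eq, Option.some.injEq]; rintro rfl; exact hj hi) le_rfl
  have htop : part E U Finset.univ = ⊤ := by
    rw [← hdec.submodule_iSup_eq_top, iSup_option]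
    simp [part]
  have hsize : ∀ E' : Submodule F V, E' ≤ E → ∀ S : Finset (Fin s),
      Module.finrank F ↥(part E' U S) = Module.finrank F ↥E' + S.card * a := by
    intro E' hE' S
    induction S using Finset.induction_on with
    | empty => rw [part_empty, Finset.card_empty, zero_mul, add_zero]
    | @insert j S hj ih =>
      have h1 := Submodule.finrank_sup_add_finrank_inf_eq (part E' U S) (U j)
      have h0 : Disjoint (part E' U S) (U j) := (hdisj S j hj).mono_left (sup_le_sup_right hE' _)
      rw [disjoint_iff.1 h0, finrank_bot, hUdim, ih, ← part_insert] at h1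
      rw [Finset.card_insert_of_notMem hj, add_mul, one_mul]
      omega
  have hn : Module.finrank F V = Module.finrank F ↥E + s * a := by
    rw [← finrank_top (R := F) (M := V), ← htop, hsize E le_rfl, Finset.card_univ, Fintype.card_fin]
  constructor
  · rintro ⟨W, hWm, hW⟩
    obtain ⟨t, ht⟩ := finrank_inf_part hE hUinv hUdim hUirr hdisj hW Finset.univ
    rw [htop, inf_top_eq, hWm] at ht
    have hle : Module.finrank F ↥(W ⊓ E) ≤ Module.finrank F ↥E := Submodule.finrank_mono inf_le_right
    rcases Nat.eq_zero_or_pos t with rfl | htpos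
    · left; omega
    · refine Or.inr ⟨by nlinarith, ?_⟩
      rw [ht, Nat.add_mul_mod_self_right]
      exact (Nat.mod_le _ _).trans hle
  · intro h
    obtain ⟨j, hjs, hja, hje⟩ : ∃ j, j ≤ s ∧ j * a ≤ m ∧ m ≤ Module.finrank F ↥E + j * a := by
      rcases h with h | ⟨-, h⟩
      · exact ⟨0, by omega, by omega, by omega⟩
      · have h0 := Nat.div_add_mod' m a
        rcases Nat.le_total (m / a) s with h1 | h1
        · exact ⟨m / a, h1, by omega, by omega⟩
        · have := Nat.mul_le_mul_right a h1
          exact ⟨s, le_rfl, by omega, by omega⟩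
    obtain ⟨S, -, hS⟩ := Finset.exists_subset_card_eq (s := (Finset.univ : Finset (Fin s))) (n := j)
      (by simpa using hjs)
    let b := Module.finBasis F E
    have hk : m - j * a ≤ Module.finrank F ↥E := by omega
    let v : Fin (m - j * a) → V := fun i => (b (Fin.castLE hk i) : V)
    have hv : LinearIndependent F v :=
      (b.linearIndependent.map' E.subtype E.ker_subtype).comp _ (Fin.castLE_injective hk)
    set E' := Submodule.span F (Set.range v) with hE'
    have hle : E' ≤ E := by
      rw [hE', Submodule.span_le]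
      rintro _ ⟨i, rfl⟩
      exact (b (Fin.castLE hk i)).2
    refine ⟨part E' U S, ?_, part_inv ?_ hUinv S⟩
    · rw [hsize E' hle, hS, hE', finrank_span_eq_card hv, Fintype.card_fin]
      omega
    · rintro _ ⟨x, hx, rfl⟩
      have h1 : f x = x := by simpa using Module.End.mem_eigenspace_iff.1 (hle hx)
      rw [h1]; exact hx

end Cfsg.Agent.S5952
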