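import Cfsg.Statements.S5954
import Cfsg.Agent.Lib.Classical.IsoInvariant.HermMain
import Cfsg.Agent.Lib.Classical.IsoInvariant.HermCount
import Cfsg.Agent.Lib.Classical.IsoInvariant.HermUnipMain

set_option autoImplicit false
open scoped MatrixGroups
open Cfsg
open Cfsg.Agent.Classical Cfsg.Agent.Classical.IsoInvariant

namespace Cfsg.Agent.S5954

/-- Elements of prime order of PSU_n(q) with no fixed nondegenerate `m`-space. Here `T = PSU_n(q)` (`n ≥ 3`, `(n, q) ≠ (3, 2)`), realised through the matrices of determinant 1 over the field `F` with `q²` elements preserving the Hermitian form `h(u, v) = Σ u_i v_i^q`; an element of `T` of prime order `r` is such a matrix `x` with `x^r` scalar and `x` not scalar. For `r ≠ p` let `i` be the multiplicative order of `q` modulo `r`, `b = i/2` for `i` even and `b = i` for `i` odd, `c = i, i/2, 2i` according as `i ≡ 0, 2 (mod 4)` or `i` odd, and write `k = n mod c`, `ℓ = m mod b`, `ℓ' = m mod c`,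 `n' = ⌊n/b⌋`, `m' = ⌊m/b⌋`, `s = (r−1)/b`; `(a)_r` is the `r`-part of `a`. Let `1 ≤ m < n/2` and let `r` be a prime dividing the number of nondegenerate `m`-spaces. Then every element of `T` of order `r` fixes a nondegenerate `m`-space if and only if one of: (i) `r = p > 2` and every partition of `n` into parts of size at most `p` contains (as a sub-multiset) a partition of `m`; (ii) `r = p = 2` and (`n` is odd or `m` is even); (iii) `r = 2 ≠ p` and (`n` is odd, or `m` is even, or `(q+1)_2 ≥ (n)_2` and `q ≡ 3 (mod 4)`); (iv) `r ≠ p`, `r > 2`, and either `i ≠ 2`, `c ≤ m` and `k ≥ ℓ'`, or `i = 2` and (`r ∣ m` or `(q+1)_r ≥ (n)_r`). -/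
theorem result {F : Type*} [Field F] [Fintype F] {p : ℕ} [Fact p.Prime] [CharP F p] {q : ℕ} (hq : Fintype.card F = q ^ 2)
    (n m : ℕ) (hn : 3 ≤ n) (hT : (n, q) ≠ (3, 2)) (hm : 1 ≤ m) (hmn : 2 * m < n)
    (r : ℕ) [Fact r.Prime]
    (hrΩ : r ∣ Nat.card {W : Submodule F (Fin n → F) // Module.finrank F ↥W = m ∧ (∀ u ∈ W, u ≠ 0 → ∃ v ∈ W, Cfsg.hermForm n F q u v ≠ 0)})
    (i b c : ℕ) (hi : i = orderOf (q : ZMod r)) (hb : b = if Even i then i / 2 else i)
    (hc : c = if i % 4 = 0 then i else if i % 4 = 2 then i / 2 else 2 * i) :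
    (∀ x : Matrix.SpecialLinearGroup (Fin n) F, x ∈ Cfsg.SU n F q →
      (∃ z : F, ((x ^ r : Matrix.SpecialLinearGroup (Fin n) F) : Matrix (Fin n) (Fin n) F) = z • (1 : Matrix (Fin n) (Fin n) F)) →
      (∀ z : F, (x : Matrix (Fin n) (Fin n) F) ≠ z • (1 : Matrix (Fin n) (Fin n) F)) →
      ∃ W : Submodule F (Fin n → F), Module.finrank F ↥W = m ∧ (∀ u ∈ W, u ≠ 0 → ∃ v ∈ W, Cfsg.hermForm n F q u v ≠ 0) ∧
        W.map (Matrix.toLin' (x : Matrix (Fin n) (Fin n) F)) ≤ W) ↔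
    ((r = p ∧ 2 < p ∧ (∀ μ : Multiset ℕ, (∀ a ∈ μ, 0 < a ∧ a ≤ p) → μ.sum = n → ∃ ν : Multiset ℕ, ν ≤ μ ∧ ν.sum = m)) ∨
     (r = p ∧ p = 2 ∧ (Odd n ∨ Even m)) ∨
     (r = 2 ∧ p ≠ 2 ∧ (Odd n ∨ Even m ∨ (padicValNat 2 n ≤ padicValNat 2 (q + 1) ∧ q % 4 = 3))) ∨
     (r ≠ p ∧ 2 < r ∧ ((i ≠ 2 ∧ c ≤ m ∧ m % c ≤ n % c) ∨ (i = 2 ∧ (r ∣ m ∨ padicValNat r n ≤ padicValNat r (q + 1)))))) := by
  classical
  have hrP : r.Prime := Fact.out
  have hpP : p.Prime := Fact.out
  have hmn' : m ≤ n := by omega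
  refine Iff.trans ?_ (?_ : Herm.AllFix (n := n) (F := F) q r (Herm.FixND q m) ↔ _)
  · exact Herm.allFix_iff_sl (P := fun M => ∃ W : Submodule F (Fin n → F), Module.finrank F ↥W = m ∧
      (∀ u ∈ W, u ≠ 0 → ∃ v ∈ W, Cfsg.hermForm n F q u v ≠ 0) ∧ W.map (Matrix.toLin' M) ≤ W)
  rcases eq_or_ne r p with rfl | hrp
  · rw [Herm.allND_char hq r (by omega) hmn']
    rcases eq_or_ne r 2 with rfl | hr2
    · rw [Herm.partCond_two hmn']
      simp
    · have h2r : 2 < r := lt_of_le_of_ne hrP.two_le (Ne.symm hr2)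
      simp [hr2, h2r, Herm.PartCond]
  obtain h | ⟨a, ha1, ha2, hap⟩ := Herm.nd_of_dvd hq p hmn' hrΩ
  · exact absurd h hrp
  rcases eq_or_ne r 2 with rfl | hr2
  · have hp2 : p ≠ 2 := Ne.symm hrp
    have hqodd : Odd q := by
      have h1 : Fintype.card F % 2 = 1 := FiniteField.odd_card_of_char_ne_two (by rw [ringChar.eq F p]; exact hp2)
      rw [hq] at h1
      by_contra h
      obtain ⟨k, hk⟩ := (Nat.not_odd_iff_even.1 h).two_dvd
      rw [hk, mul_pow] at h1
      omega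
    rw [Herm.allND_two hq hqodd (by omega) hmn']
    have hne : ¬ (2 = p) := hrp
    simp only [hne, hp2, ne_eq, not_false_eq_true, true_and, false_and, false_or, lt_irrefl, and_false, or_false]
    constructor
    · rintro (h | h | ⟨h1, h2⟩)
      exacts [Or.inr (Or.inl h), Or.inl h, Or.inr (Or.inr ⟨h2, h1⟩)]
    · rintro (h | h | ⟨h1, h2⟩)
      exacts [Or.inr (Or.inl h), Or.inl h, Or.inr (Or.inr ⟨h2, h1⟩)]
  · have h2r : 2 < r := lt_of_le_of_ne hrP.two_le (Ne.symm hr2)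
    obtain ⟨hq0, hb0, hbdvd, hset, P, hPc, hP⟩ := Herm.setting (F := F) (p := p) hq hr2 hrp hi hb
    have hca : c ∣ a := (Herm.pow_eq_iff hr2 hq0 hi hc a).1 hap
    have hcc := Herm.c_eq hb hc
    have ht : 0 < (r - 1) / b := Nat.div_pos (Nat.le_of_dvd (by omega) hbdvd) hb0
    simp only [hr2, hrp, h2r, ne_eq, not_false_eq_true, true_and, false_and, false_or]
    rcases eq_or_ne i 2 with hi2 | hi2
    · have hb1 : b = 1 := by rw [hb, hi2]; simp
      have hd : r ∣ q + 1 := by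
        rw [← ZMod.natCast_eq_zero_iff, Nat.cast_succ]
        have h2 : (q : ZMod r) ^ 2 = 1 := by rw [← hi2, hi]; exact pow_orderOf_eq_one _
        rcases sq_eq_one_iff.1 h2 with h | h
        · rw [hi, h, orderOf_one] at hi2; omega
        · rw [h, neg_add_cancel]
      have hc1 : c = 1 := by rw [hc, hi2]; norm_num
      rw [Herm.allND_index_two hq hset hP hb1 (by rw [← hi, hi2]) hd (by omega) hmn']
      simp [hi2]
    · have hmu := Herm.mu_trivial (F := F) (p := p) hq hr2 hi hi2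
      have hc0 : 0 < c := by rw [hcc, Herm.csize]; split_ifs <;> omega
      rw [Herm.allND_main hq hset hP (Finset.card_pos.1 (by omega)) hmu (by omega) hmn', ← hi, ← hcc,
        Herm.allND_iff hc0 hmn' ⟨a, ha1, ha2, hca⟩]
      simp [hi2]

end Cfsg.Agent.S5954
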