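import Cfsg.Statements.S5955
import Cfsg.Agent.Lib.Classical.IsoInvariant.Symp
import Cfsg.Agent.Lib.Classical.IsoInvariant.SympTwo
import Cfsg.Agent.Lib.Forms.Elusive.Models

set_option autoImplicit false
open scoped MatrixGroups
open Cfsg

namespace Cfsg.Agent.S5955

open Cfsg.Agent.Forms Cfsg.Agent.Forms.Elusive Cfsg.Agent.Classical.IsoInvariant

/-- Elements of prime order of PSp_n(q) with no fixed totally isotropic `m`-space. Here `T = PSp_n(q)` with `n = 2d ≥ 4`, `(n, q) ≠ (4, 2)`, realised through the symplectic matrices over the field `F` with `q` elements (preserving the standard alternating form); an element of `T` of prime order `r` is such a matrix `x` with `x^r` scalar and `x` not scalar. For `r ≠ p` let `i` be the multiplicative order of `q` modulo `r`, `c = i` for `i` even and `c = 2i` for `i` odd, and write `k = n mod c`, `ℓ = m mod i`, `ℓ' = m mod c`, `n' = ⌊n/i⌋`, `m' = ⌊m/i⌋`, `t = (r−1)/i`. Let `1 ≤ m ≤ n/2` and let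 `r` be a prime dividing the number of totally isotropic `m`-spaces. Then every element of `T` of order `r` fixes a totally isotropic `m`-space if and only if either (i) `r = 2 ≠ p` and (`m` is even or `q ≡ 1 (mod 4)`); or (ii) `r ≠ p`, `r > 2`, `i ≤ m`, `k ≥ 2ℓ`, and (`i` is odd or `n' − 2m' ≥ t`). -/
theorem result {F : Type*} [Field F] [Fintype F] {p : ℕ} [Fact p.Prime] [CharP F p] {q : ℕ} (hq : Fintype.card F = q)
    (d m : ℕ) (hd : 2 ≤ d) (hT : (d, q) ≠ (2, 2)) (hm : 1 ≤ m) (hmd : m ≤ d)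
    (r : ℕ) [Fact r.Prime]
    (hrΩ : r ∣ Nat.card {W : Submodule F (Fin d ⊕ Fin d → F) // Module.finrank F ↥W = m ∧ (∀ u ∈ W, ∀ v ∈ W, Cfsg.sympForm d F u v = 0)})
    (i c : ℕ) (hi : i = orderOf (q : ZMod r)) (hc : c = if Even i then i else 2 * i) :
    (∀ x : ↥(Matrix.symplecticGroup (Fin d) F),
      (∃ z : F, ((x ^ r : ↥(Matrix.symplecticGroup (Fin d) F)) : Matrix (Fin d ⊕ Fin d) (Fin d ⊕ Fin d) F) = z • (1 : Matrix (Fin d ⊕ Fin d) (Fin d ⊕ Fin d) F)) →
      (∀ z : F, (x : Matrix (Fin d ⊕ Fin d) (Fin d ⊕ Fin d) F) ≠ z • (1 : Matrix (Fin d ⊕ Fin d) (Fin d ⊕ Fin d) F)) →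
      ∃ W : Submodule F (Fin d ⊕ Fin d → F), Module.finrank F ↥W = m ∧ (∀ u ∈ W, ∀ v ∈ W, Cfsg.sympForm d F u v = 0) ∧
        W.map (Matrix.toLin' (x : Matrix (Fin d ⊕ Fin d) (Fin d ⊕ Fin d) F)) ≤ W) ↔
    ((r = 2 ∧ p ≠ 2 ∧ (Even m ∨ q % 4 = 1)) ∨
     (r ≠ p ∧ 2 < r ∧ i ≤ m ∧ 2 * (m % i) ≤ (2 * d) % c ∧ (Odd i ∨ (r - 1) / i + 2 * (m / i) ≤ (2 * d) / i))) := by
  classical
  subst hq
  have hd0 : 0 < d := by omega
  have halt : (SympStd.sympB d F).IsAlt := SympStd.sympB_isAlt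
  have hnd : (SympStd.sympB d F).Nondegenerate := SympStd.sympB_nondegenerate
  have hiso : ∀ x : ↥(Matrix.symplecticGroup (Fin d) F), ∀ u v, SympStd.sympB d F
      (Matrix.toLin' (x : Matrix (Fin d ⊕ Fin d) (Fin d ⊕ Fin d) F) u)
      (Matrix.toLin' (x : Matrix (Fin d ⊕ Fin d) (Fin d ⊕ Fin d) F) v) = SympStd.sympB d F u v := fun x u v => by
    rw [Matrix.toLin'_apply, Matrix.toLin'_apply, SympStd.sympB_apply, SympStd.sympB_apply, SympStd.sympForm_mulVec]
  have hconv : ∀ W : Submodule F (Fin d ⊕ Fin d → F), IsoOn (SympStd.sympB d F) W ↔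
      ∀ u ∈ W, ∀ v ∈ W, Cfsg.sympForm d F u v = 0 := fun W => by
    simp only [IsoOn, SympStd.sympB_apply]
  have hpow : ∀ (x : ↥(Matrix.symplecticGroup (Fin d) F)) (z : F),
      ((x ^ r : ↥(Matrix.symplecticGroup (Fin d) F)) : Matrix (Fin d ⊕ Fin d) (Fin d ⊕ Fin d) F) =
        z • (1 : Matrix (Fin d ⊕ Fin d) (Fin d ⊕ Fin d) F) →
      ∀ v, ((Matrix.toLin' (x : Matrix (Fin d ⊕ Fin d) (Fin d ⊕ Fin d) F)) ^ r) v = z • v := fun x z hz v => by
    rw [← Matrix.toLin'_pow, ← SubmonoidClass.coe_pow, hz, Matrix.toLin'_apply, Matrix.smul_mulVec,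
      Matrix.one_mulVec]
  have hΩ' : r ∣ Nat.card {W : Submodule F (Fin d ⊕ Fin d → F) //
      Module.finrank F W = m ∧ ∀ u ∈ W, ∀ v ∈ W, SympStd.sympB d F u v = 0} := by
    simpa only [SympStd.sympB_apply] using hrΩ
  obtain ⟨hrp, j₀, hj₀, hdvd⟩ := exists_index_of_dvd hnd halt SympStd.finrank_vec hmd p hΩ'
  rw [← hi] at hdvd
  by_cases hr2 : r = 2
  · subst hr2
    have hp2 : p ≠ 2 := Ne.symm hrp
    have h2 : (2 : F) ≠ 0 := Ring.two_ne_zero (by rw [ringChar.eq F p]; exact hp2)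
    have hodd : Fintype.card F % 2 = 1 := FiniteField.odd_card_of_char_ne_two (by rw [ringChar.eq F p]; exact hp2)
    constructor
    · intro H
      refine Or.inl ⟨rfl, hp2, ?_⟩
      by_contra hcon
      push Not at hcon
      obtain ⟨hodd', hq4⟩ := hcon
      let x : ↥(Matrix.symplecticGroup (Fin d) F) := ⟨Matrix.J (Fin d) F, SymplecticGroup.J_mem (Fin d) F⟩
      have hx2 : ((x ^ 2 : ↥(Matrix.symplecticGroup (Fin d) F)) : Matrix (Fin d ⊕ Fin d) (Fin d ⊕ Fin d) F) =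
          (-1 : F) • (1 : Matrix (Fin d ⊕ Fin d) (Fin d ⊕ Fin d) F) := by
        rw [SubmonoidClass.coe_pow, sq, Matrix.J_squared, neg_smul, one_smul]
      have hns : ∀ z : F, (x : Matrix (Fin d ⊕ Fin d) (Fin d ⊕ Fin d) F) ≠
          z • (1 : Matrix (Fin d ⊕ Fin d) (Fin d ⊕ Fin d) F) := fun z hz => by
        have := congrFun (congrFun hz (Sum.inl ⟨0, hd0⟩)) (Sum.inr ⟨0, hd0⟩)
        simp [x, Matrix.J] at this
      obtain ⟨W, hWd, -, hWi⟩ := H x ⟨-1, hx2⟩ hns
      have hsq := hpow x (-1) hx2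
      have hev := Inv.even_finrank (a := (0 : F)) (N := (1 : F))
        (θ := (Matrix.toLin' (x : Matrix (Fin d ⊕ Fin d) (Fin d ⊕ Fin d) F)).restrict fun v hv =>
          hWi ⟨v, hv, rfl⟩) (fun v => Subtype.ext (by
          show (Matrix.toLin' (x : Matrix (Fin d ⊕ Fin d) (Fin d ⊕ Fin d) F))
            (Matrix.toLin' (x : Matrix (Fin d ⊕ Fin d) (Fin d ⊕ Fin d) F) (v : Fin d ⊕ Fin d → F)) = _
          rw [← Module.End.mul_apply, ← sq, hsq]
          simp)) fun s hs => hq4 (by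
        have h1 : s * s = -1 := by linear_combination hs
        have := FiniteField.isSquare_neg_one_iff.1 ⟨s, h1.symm⟩
        omega)
      exact hodd' (hWd ▸ hev)
    · rintro (⟨-, -, hcond⟩ | ⟨-, h, -⟩)
      swap
      · exact absurd h (by omega)
      intro x hz hns
      obtain ⟨z, hz⟩ := hz
      set T := Matrix.toLin' (x : Matrix (Fin d ⊕ Fin d) (Fin d ⊕ Fin d) F) with hTdef
      have hTT : ∀ v, T (T v) = z • v := fun v => by
        rw [← Module.End.mul_apply, ← sq, hpow x z hz]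
      obtain ⟨hzz, -⟩ := normalise (hiso x) (sympB_ne hd0) (hpow x z hz)
      obtain ⟨W, h1, h3, h4⟩ : ∃ W : Submodule F (Fin d ⊕ Fin d → F), Module.finrank F W = m ∧
          IsoOn (SympStd.sympB d F) W ∧ W.map T ≤ W := by
        rcases mul_self_eq_one_iff.1 hzz with rfl | rfl
        · exact exists_involution hnd halt (hiso x) h2 (fun v => by rw [hTT, one_smul]) SympStd.finrank_vec hmd
        · exact exists_order_four hnd halt (hiso x) h2 (fun v => by rw [hTT, neg_smul, one_smul])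
            SympStd.finrank_vec hmd hcond
      exact ⟨W, h1, (hconv W).1 h3, h4⟩
  · have hodd : Odd r := (Fact.out : r.Prime).odd_of_ne_two hr2
    have hr3 : 2 < r := by have := (Fact.out : r.Prime).two_le; omega
    constructor
    · intro H
      refine Or.inr ⟨hrp, hr3, necessary p hrp hr2 hi hc hm hj₀ hmd hdvd fun x hx hne => ?_⟩
      obtain ⟨W, h1, h2, h3⟩ := H x ⟨1, by rw [hx, OneMemClass.coe_one, one_smul]⟩ fun z hz => hne (by
        have hT : ∀ v, Matrix.toLin' (x : Matrix (Fin d ⊕ Fin d) (Fin d ⊕ Fin d) F) v = z • v := fun v => by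
          rw [hz, Matrix.toLin'_apply, Matrix.smul_mulVec, Matrix.one_mulVec]
        obtain ⟨hzz, -⟩ := normalise (r := 1) (hiso x) (sympB_ne hd0) (fun v => by rw [pow_one, hT])
        have h2 : ((x ^ r : ↥(Matrix.symplecticGroup (Fin d) F)) : Matrix (Fin d ⊕ Fin d) (Fin d ⊕ Fin d) F) = 1 := by
          rw [hx, OneMemClass.coe_one]
        rw [SubmonoidClass.coe_pow, hz, _root_.smul_pow, one_pow] at h2
        obtain ⟨k, hk⟩ := hodd
        rw [hk, pow_succ, pow_mul, sq, hzz, one_pow, one_mul, ← hz] at h2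
        exact Subtype.ext h2)
      exact ⟨W, h1, (hconv W).2 h2, h3⟩
    · rintro (⟨h, -⟩ | ⟨-, -, -, hk, ht⟩)
      · exact absurd h hr2
      intro x hx _
      obtain ⟨z, hz⟩ := hx
      set T := Matrix.toLin' (x : Matrix (Fin d ⊕ Fin d) (Fin d ⊕ Fin d) F) with hTdef
      obtain ⟨hzz, hg⟩ := normalise (hiso x) (sympB_ne hd0) (hpow x z hz)
      obtain ⟨W, h1, h2, h3⟩ := exists_invariant (g := z • T) hnd halt (fun u v => by
          simp only [LinearMap.smul_apply, map_smul, smul_eq_mul]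
          rw [hiso x, ← mul_assoc, hzz, one_mul]) hr2
        (natCast_prime_ne_zero p hrp) (hg hodd) hi hc SympStd.finrank_vec hmd hk ht
      refine ⟨W, h1, (hconv W).1 h2, ?_⟩
      rintro _ ⟨w, hw, rfl⟩
      have := W.smul_mem z (h3 ⟨w, hw, rfl⟩)
      rwa [LinearMap.smul_apply, smul_smul, hzz, one_smul] at this

end Cfsg.Agent.S5955
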