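import Cfsg.Statements.S5958
import Cfsg.Agent.Lib.Forms.Elusive.Linear
import Cfsg.Agent.Lib.Forms.Elusive.Grassmann
import Cfsg.Prelude.Def_GeometricClasses

set_option autoImplicit false
open scoped MatrixGroups
open Cfsg

namespace Cfsg.Agent.S5958

open Cfsg.Agent.Forms.Elusive Module Polynomial

section General

variable {F : Type*} [Field F] {V : Type*} [AddCommGroup V] [Module F V] [FiniteDimensional F V]

theorem finrank_sup_le {ι : Type*} (s : Finset ι) (D : ι → Submodule F V) :
    finrank F ↥(s.sup D) ≤ ∑ i ∈ s, finrank F (D i) := by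
  classical
  induction s using Finset.induction_on with
  | empty => simp
  | insert i s hi ih =>
    rw [Finset.sup_insert, Finset.sum_insert hi]
    have := Submodule.finrank_sup_add_finrank_inf_eq (D i) (s.sup D)
    omega

theorem finrank_finset_sup {ι : Type*} {D : ι → Submodule F V} (hD : iSupIndep D) (s : Finset ι) :
    finrank F ↥(s.sup D) = ∑ i ∈ s, finrank F (D i) := by
  classical
  induction s using Finset.induction_on with
  | empty => simp
  | insert i s hi ih =>
    rw [Finset.sup_insert, Finset.sum_insert hi, ← ih]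
    refine finrank_sup_of_disjoint ((hD i).mono_right (Finset.sup_le fun l hl => ?_))
    exact le_iSup₂_of_le l (fun e => hi (e ▸ hl)) le_rfl

theorem disjoint_finset_sup {ι : Type*} {D : ι → Submodule F V} (hD : iSupIndep D) {s s' : Finset ι}
    (h : Disjoint s s') : Disjoint (s.sup D) (s'.sup D) := by
  classical
  have h1 := Submodule.finrank_sup_add_finrank_inf_eq (s.sup D) (s'.sup D)
  rw [← Finset.sup_union, finrank_finset_sup hD, finrank_finset_sup hD, finrank_finset_sup hD,
    Finset.sum_union h] at h1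
  rw [disjoint_iff, ← Submodule.finrank_eq_zero]
  omega

theorem indep_of_dims {t : ℕ} (D : Fin t → Submodule F V) (a : ℕ) (hd : ∀ i, finrank F (D i) = a)
    (htop : iSup D = ⊤) (hn : finrank F V = t * a) : iSupIndep D := by
  classical
  refine iSupIndep_def.2 fun i => ?_
  have hle : (⨆ j, ⨆ _ : j ≠ i, D j) ≤ (Finset.univ.erase i).sup D :=
    iSup₂_le fun j hj => Finset.le_sup (f := D) (Finset.mem_erase.2 ⟨hj, Finset.mem_univ _⟩)
  refine Disjoint.mono_right hle ?_
  have h1 := Submodule.finrank_sup_add_finrank_inf_eq (D i) ((Finset.univ.erase i).sup D)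
  rw [← Finset.sup_insert, Finset.insert_erase (Finset.mem_univ i), Finset.sup_univ_eq_iSup, htop, finrank_top,
    hn, hd] at h1
  have h2 := finrank_sup_le (Finset.univ.erase i) D
  simp only [hd, Finset.sum_const, Finset.card_erase_of_mem (Finset.mem_univ i), Finset.card_univ, Fintype.card_fin,
    smul_eq_mul] at h2
  have ht : 0 < t := i.pos
  have h3 : (t - 1) * a + a = t * a := by
    rw [← Nat.succ_mul]; congr 1; omega
  rw [disjoint_iff, ← Submodule.finrank_eq_zero]
  omega

theorem map_eq {f : V →ₗ[F] V} (hf : Function.Injective f) {W : Submodule F V} (hW : W.map f ≤ W) : W.map f = W :=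
  Submodule.eq_of_le_of_finrank_eq hW (Submodule.equivMapOfInjective f hf W).finrank_eq.symm

theorem distribute (t b u : ℕ) (h : u ≤ t * b) : ∃ f : Fin t → ℕ, (∀ l, f l ≤ b) ∧ ∑ l, f l = u := by
  induction t generalizing u with
  | zero => exact ⟨Fin.elim0, fun l => l.elim0, by rw [zero_mul] at h; simp; omega⟩
  | succ t ih =>
    rw [Nat.succ_mul] at h
    obtain ⟨f, hf, hsum⟩ := ih (u - min u b) (by omega)
    refine ⟨Fin.cons (min u b) f, fun l => ?_, ?_⟩
    · induction l using Fin.cases with
      | zero => simp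
      | succ l => simpa using hf l
    · rw [Fin.sum_cons, hsum]; omega

theorem split {f : V →ₗ[F] V} (hss : Module.End.IsSemisimple f) {c : ℕ} :
    ∀ {t : ℕ} {W : Submodule F V}, Homog f c W → ∀ j : Fin t → ℕ, (∑ l, j l) * c = finrank F W →
      ∃ U : Fin t → Submodule F V, (∀ l, (U l).map f ≤ U l ∧ U l ≤ W ∧ finrank F (U l) = j l * c) ∧ iSup U = W := by
  intro t
  induction t with
  | zero =>
    intro W _ j hj
    refine ⟨Fin.elim0, fun l => l.elim0, ?_⟩
    rw [iSup_of_empty, eq_comm, ← Submodule.finrank_eq_zero, ← hj]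
    simp
  | succ t ih =>
    intro W h j hj
    rw [Fin.sum_univ_succ, add_mul] at hj
    obtain ⟨U₀, hU, hUW, hUd⟩ := h.exists_sub (j 0) (by omega)
    obtain ⟨Q, hQ, hQW, hdj, hsup, hsum⟩ := exists_compl hss hU h.inv hUW
    obtain ⟨U, hUs, hUsup⟩ := ih (h.mono hQ hQW) (fun l => j l.succ) (by omega)
    refine ⟨Fin.cons U₀ U, fun l => ?_, ?_⟩
    · induction l using Fin.cases with
      | zero => exact ⟨hU, hUW, hUd⟩
      | succ l =>
        simp only [Fin.cons_succ]
        exact ⟨(hUs l).1, (hUs l).2.1.trans hQW, (hUs l).2.2⟩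
    · rw [← hsup, ← hUsup]
      refine le_antisymm (iSup_le fun l => ?_) (sup_le ?_ (iSup_le fun l => ?_))
      · induction l using Fin.cases with
        | zero => exact le_sup_left
        | succ l => exact (le_iSup U l).trans le_sup_right
      · exact le_iSup (Fin.cons U₀ U : Fin (t + 1) → Submodule F V) 0
      · exact le_iSup (Fin.cons U₀ U : Fin (t + 1) → Submodule F V) l.succ

theorem span_orbit {f : V →ₗ[F] V} {a r : ℕ} {z : F} (hr : 0 < r) {U : Submodule F V} (hU : U.map f ≤ U)
    (hdvd : ∀ U' : Submodule F V, U'.map f ≤ U' → U' ≤ U → a ∣ finrank F U') (hUd : finrank F U = a)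
    (hfr : ∀ v, (f ^ r) v = z • v) {w : V} (hw : w ∈ U) (hw0 : w ≠ 0) :
    Submodule.span F (Set.range fun k : Fin r => (f ^ (k : ℕ)) w) = U := by
  set S := Submodule.span F (Set.range fun k : Fin r => (f ^ (k : ℕ)) w) with hS
  have hmem : ∀ k, (f ^ k) w ∈ U := by
    intro k
    induction k with
    | zero => simpa using hw
    | succ k ih => rw [pow_succ', Module.End.mul_apply]; exact hU ⟨_, ih, rfl⟩
  have hSU : S ≤ U := by
    rw [hS, Submodule.span_le]; rintro _ ⟨k, rfl⟩; exact hmem _
  have hinv : S.map f ≤ S := by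
    rw [hS, Submodule.map_span, Submodule.span_le]
    rintro _ ⟨_, ⟨k, rfl⟩, rfl⟩
    show f ((f ^ (k : ℕ)) w) ∈ _
    rw [← Module.End.mul_apply, ← pow_succ']
    rcases Nat.lt_or_ge ((k : ℕ) + 1) r with h | h
    · exact Submodule.subset_span ⟨⟨_, h⟩, rfl⟩
    · rw [show (k : ℕ) + 1 = r by omega, hfr]
      exact Submodule.smul_mem _ _ (Submodule.subset_span ⟨⟨0, hr⟩, by simp⟩)
  have hne : finrank F S ≠ 0 := by
    rw [Ne, Submodule.finrank_eq_zero]
    intro e
    refine hw0 ?_
    have : w ∈ S := Submodule.subset_span ⟨⟨0, hr⟩, by simp⟩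
    rwa [e, Submodule.mem_bot] at this
  refine Submodule.eq_of_le_of_finrank_le hSU ?_
  rw [hUd]
  exact Nat.le_of_dvd (Nat.pos_of_ne_zero hne) (hdvd S hinv hSU)

end General

variable {F : Type*} [Field F]

theorem exists_decomp_gen {n : ℕ} {ι : Type*} [Fintype ι] [DecidableEq ι] (b : Basis ι F (Fin n → F))
    (f : (Fin n → F) →ₗ[F] (Fin n → F)) (π : Equiv.Perm ι)
    (hf : ∀ i, ∃ c : F, c ≠ 0 ∧ f (b i) = c • b (π i)) (a t : ℕ) (ha : 0 < a) (ht : 2 ≤ t)
    (c : ι → Fin t) (hc : ∀ j, Nat.card {i // c i = j} = a) (σ : Equiv.Perm (Fin t)) (hcσ : ∀ i, c (π i) = σ (c i)) :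
    ∃ D : Fin t → Submodule F (Fin n → F), Cfsg.Geo.IsMDecomposition a D ∧
      ∃ σ : Equiv.Perm (Fin t), ∀ j, (D j).map f = D (σ j) := by
  classical
  let D : Fin t → Submodule F (Fin n → F) := fun j => Submodule.span F (b '' {i | c i = j})
  refine ⟨D, ⟨ht, ha, fun j => ?_, ?_, ?_⟩, σ, fun j => ?_⟩
  · show finrank F (Submodule.span F (b '' {i | c i = j})) = a
    rw [Set.image_eq_range]
    refine (finrank_span_eq_card (b.linearIndependent.comp _ Subtype.val_injective)).trans ?_
    rw [← hc j, Nat.card_eq_fintype_card]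
    rfl
  · refine iSupIndep_def.2 fun j => ?_
    refine Disjoint.mono_right ?_ (b.linearIndependent.disjoint_span_image
      (s := {i | c i = j}) (t := {i | c i ≠ j}) (Set.disjoint_left.2 fun i hi hi' => hi' hi))
    refine iSup₂_le fun l hl => Submodule.span_mono (Set.image_mono fun i hi => ?_)
    show c i ≠ j
    rw [show c i = l from hi]
    exact hl
  · rw [eq_top_iff, ← b.span_eq, Submodule.span_le]
    rintro _ ⟨i, rfl⟩
    exact (le_iSup D (c i)) (Submodule.subset_span ⟨i, rfl, rfl⟩)
  · refine le_antisymm ?_ ?_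
    · rw [Submodule.map_span, Submodule.span_le]
      rintro _ ⟨_, ⟨i, hi, rfl⟩, rfl⟩
      obtain ⟨z, -, hz⟩ := hf i
      rw [hz]
      exact Submodule.smul_mem _ _ (Submodule.subset_span ⟨π i, by
        show c (π i) = σ j; rw [hcσ, show c i = j from hi], rfl⟩)
    · rw [Submodule.span_le]
      rintro _ ⟨i, hi, rfl⟩
      obtain ⟨z, hz0, hz⟩ := hf (π.symm i)
      rw [Equiv.apply_symm_apply] at hz
      refine ⟨z⁻¹ • b (π.symm i), Submodule.smul_mem _ _ (Submodule.subset_span ⟨π.symm i, ?_, rfl⟩), ?_⟩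
      · show c (π.symm i) = j
        have h1 := hcσ (π.symm i)
        rw [Equiv.apply_symm_apply, show c i = σ j from hi] at h1
        exact (σ.injective h1).symm
      · rw [map_smul, hz, inv_smul_smul₀ hz0]

theorem val_succ {r : ℕ} [NeZero r] (hr : 2 ≤ r) (k : Fin r) : ((k + 1 : Fin r) : ℕ) = ((k : ℕ) + 1) % r := by
  rw [Fin.val_add, Fin.val_one', Nat.mod_eq_of_lt (show 1 < r by omega)]

/-- the `r`-th power is a scalar without root -/
theorem exists_of_not_pow [Fintype F] {n a t r : ℕ} [hr : Fact r.Prime] (hat : n = a * t) (ha : 0 < a) (ht : 2 ≤ t)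
    (hr0 : (r : F) ≠ 0) (f : (Fin n → F) →ₗ[F] (Fin n → F)) {z : F} (hz0 : z ≠ 0) (hf : ∀ v, (f ^ r) v = z • v)
    (hz : ∀ d : F, d ^ r ≠ z) :
    ∃ D : Fin t → Submodule F (Fin n → F), Cfsg.Geo.IsMDecomposition a D ∧
      ∃ σ : Equiv.Perm (Fin t), ∀ j, (D j).map f = D (σ j) := by
  classical
  haveI : NeZero r := ⟨hr.out.ne_zero⟩
  have hr2 := hr.out.two_le
  have hss : Module.End.IsSemisimple f := isSemisimple_of_pow hf hr0 hz0
  have hH := homog_of_not_pow hf hz
  have hrn : r ∣ n := by
    have := hH.dvd ⊤ le_top le_rfl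
    rwa [finrank_top, finrank_fin_fun] at this
  have hinj : Function.Injective f := fun u v e => by
    have := congrArg (f ^ (r - 1)) e
    rw [← Module.End.mul_apply, ← Module.End.mul_apply, ← pow_succ, Nat.sub_add_cancel hr.out.one_lt.le, hf, hf] at this
    exact smul_right_injective _ hz0 this
  by_cases hra : r ∣ a
  · obtain ⟨k, rfl⟩ := hra
    obtain ⟨U, hU, hsup⟩ := split hss hH (fun _ : Fin t => k)
      (by rw [finrank_top, finrank_fin_fun, hat]; simp; ring)
    have hd : ∀ l, finrank F (U l) = r * k := fun l => by rw [(hU l).2.2]; ring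
    exact ⟨U, ⟨ht, ha, hd, indep_of_dims U _ hd hsup (by rw [finrank_fin_fun, hat]; ring), hsup⟩, 1,
      fun j => map_eq hinj (hU j).1⟩
  · obtain ⟨m, rfl⟩ := (hr.out.dvd_mul.1 (hat ▸ hrn)).resolve_left hra
    obtain ⟨U, hU, hsup⟩ := split hss hH (fun _ : Fin (m * a) => 1)
      (by rw [finrank_top, finrank_fin_fun, hat]; simp; ring)
    have hne : ∀ l, U l ≠ ⊥ := fun l e => by
      have := (hU l).2.2
      rw [e, finrank_bot, one_mul] at this
      omega
    choose v hv hv0 using fun l => Submodule.exists_mem_ne_zero_of_ne_bot (hne l)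
    let w : Fin (m * a) × Fin r → (Fin n → F) := fun i => (f ^ (i.2 : ℕ)) (v i.1)
    have hspan : ⊤ ≤ Submodule.span F (Set.range w) := by
      rw [← hsup]
      refine iSup_le fun l => ?_
      rw [← span_orbit hr.out.pos (hU l).1 (fun U' h1 _ => hH.dvd U' h1 le_top)
        ((hU l).2.2.trans (one_mul r)) hf (hv l) (hv0 l)]
      exact Submodule.span_mono (by rintro _ ⟨k, rfl⟩; exact ⟨(l, k), rfl⟩)
    let b := basisOfTopLeSpanOfCardEqFinrank w hspan (by
      rw [finrank_fin_fun, Fintype.card_prod, Fintype.card_fin, Fintype.card_fin, hat]; ring)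
    have hb : ∀ i, b i = w i := fun i => by simp [b]
    let e : Fin m × Fin r ≃ Fin (r * m) := finProdFinEquiv.trans (finCongr (mul_comm m r))
    let d : Fin (m * a) ≃ Fin m × Fin a := finProdFinEquiv.symm
    refine exists_decomp_gen b f (Equiv.prodCongr (Equiv.refl _) (Equiv.addRight 1)) (fun i => ?_) a (r * m) ha ht
      (fun i => e ((d i.1).1, i.2)) (fun j => ?_)
      (e.symm.trans ((Equiv.prodCongr (Equiv.refl _) (Equiv.addRight 1)).trans e)) (fun i => ?_)
    · obtain ⟨l, k⟩ := i
      rw [hb, hb]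
      show ∃ c : F, c ≠ 0 ∧ f ((f ^ (k : ℕ)) (v l)) = c • (f ^ ((k + 1 : Fin r) : ℕ)) (v l)
      rw [val_succ hr2, ← Module.End.mul_apply, ← pow_succ']
      rcases Nat.lt_or_ge ((k : ℕ) + 1) r with h | h
      · exact ⟨1, one_ne_zero, by rw [Nat.mod_eq_of_lt h, one_smul]⟩
      · refine ⟨z, hz0, ?_⟩
        rw [show (k : ℕ) + 1 = r by omega, Nat.mod_self, hf, pow_zero, Module.End.one_apply]
    · rw [Nat.card_congr
        ({ toFun := fun i => (d i.1.1).2
           invFun := fun x => ⟨(d.symm ((e.symm j).1, x), (e.symm j).2), by simp⟩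
           left_inv := fun i => by
             obtain ⟨⟨l, k⟩, h⟩ := i
             refine Subtype.ext ?_
             have h1 : e.symm j = ((d l).1, k) := by rw [← h]; simp
             simp [h1]
           right_inv := fun x => by simp } : {i : Fin (m * a) × Fin r // e ((d i.1).1, i.2) = j} ≃ Fin a),
        Nat.card_fin]
    · simp

theorem shape_one [Fintype F] {n r c : ℕ} [hr : Fact r.Prime] (hn : 2 ≤ n) (hr0 : (r : F) ≠ 0)
    (hc : c = orderOf ((Fintype.card F : ℕ) : ZMod r)) (hcr : c = r - 1) (hle : n ≤ n % c * r)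
    (g : (Fin n → F) →ₗ[F] (Fin n → F)) (hg : ∀ v, (g ^ r) v = v) :
    ∃ D : Fin n → Submodule F (Fin n → F), Cfsg.Geo.IsMDecomposition 1 D ∧
      ∃ σ : Equiv.Perm (Fin n), ∀ j, (D j).map g = D (σ j) := by
  classical
  haveI : NeZero r := ⟨hr.out.ne_zero⟩
  have hr2 := hr.out.two_le
  have hss : Module.End.IsSemisimple g := isSemisimple_of_pow (c := 1) (fun v => by rw [hg, one_smul]) hr0 one_ne_zero
  obtain ⟨D, -, -, hd', hD, hsum⟩ := exists_free_part hr0 hg (W := ⊤) le_top
  rw [inf_top_eq, finrank_top, finrank_fin_fun] at hsum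
  rw [← hc] at hD
  obtain ⟨s, hs⟩ := hD.dvd D hD.inv le_rfl
  set e := finrank F (fixSp g) with he
  have hse : s ≤ e := by
    have hm : e % c = n % c := by rw [← hsum, hs, Nat.add_mul_mod_self_left]
    have h1 : c * (n / c) ≤ n % c * c := by
      have := Nat.mod_add_div n c
      rw [show r = c + 1 by omega, mul_add, mul_one] at hle
      omega
    have h2 : n / c ≤ n % c := by
      rw [mul_comm (n % c)] at h1
      exact Nat.le_of_mul_le_mul_left h1 hD.pos
    have h3 : s ≤ n / c := (Nat.le_div_iff_mul_le hD.pos).2 (by rw [mul_comm]; omega)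
    have h4 : e % c ≤ e := Nat.mod_le _ _
    omega
  obtain ⟨U, hU, hsup⟩ := split hss hD (fun _ : Fin s => 1) (by rw [hs]; simp [mul_comm])
  have hne : ∀ l, U l ≠ ⊥ := fun l e => by
    have := (hU l).2.2
    rw [e, finrank_bot, one_mul] at this
    have := hD.pos
    omega
  choose w hw hw0 using fun l => Submodule.exists_mem_ne_zero_of_ne_bot (hne l)
  let u := Module.finBasisOfFinrankEq F (fixSp g) he.symm
  let p : Fin s → (Fin n → F) := fun l => u (Fin.castLE hse l)
  let v : (Fin s × Fin r) ⊕ Fin (e - s) → (Fin n → F) :=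
    Sum.elim (fun i => (g ^ (i.2 : ℕ)) (w i.1 + p i.1)) fun i => u ⟨s + i, by omega⟩
  have hfix : ∀ l k, (g ^ k) (p l) = p l := by
    intro l k
    induction k with
    | zero => simp
    | succ k ih => rw [pow_succ', Module.End.mul_apply, ih]; exact mem_fixSp.1 (u _).2
  set T := Submodule.span F (Set.range v) with hT
  have hvT : ∀ l (k : Fin r), (g ^ (k : ℕ)) (w l) + p l ∈ T := fun l k => by
    have : v (Sum.inl (l, k)) ∈ T := Submodule.subset_span ⟨_, rfl⟩
    simpa [v, map_add, hfix] using this
  have hwD : ∀ l k, (g ^ k) (w l) ∈ U l := by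
    intro l k
    induction k with
    | zero => simpa using hw l
    | succ k ih => rw [pow_succ', Module.End.mul_apply]; exact (hU l).1 ⟨_, ih, rfl⟩
  have hsum0 : ∀ l, ∑ k ∈ Finset.range r, (g ^ k) (w l) = 0 := fun l => by
    refine Submodule.disjoint_def.1 hd' _ (mem_fixSp.2 ?_) (Submodule.sum_mem _ fun k _ => (hU l).2.1 (hwD l k))
    have h1 := Finset.sum_range_succ (fun k => (g ^ k) (w l)) r
    rw [Finset.sum_range_succ', hg, pow_zero, Module.End.one_apply] at h1
    rw [map_sum, ← add_right_cancel h1]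
    simp only [pow_succ', Module.End.mul_apply]
  have hpT : ∀ l, p l ∈ T := fun l => by
    have h1 : ∑ k : Fin r, ((g ^ (k : ℕ)) (w l) + p l) ∈ T := Submodule.sum_mem _ fun k _ => hvT l k
    rw [Finset.sum_add_distrib, Fin.sum_univ_eq_sum_range (fun k => (g ^ k) (w l)), hsum0, zero_add, Finset.sum_const,
      Finset.card_univ, Fintype.card_fin, ← Nat.cast_smul_eq_nsmul F, Submodule.smul_mem_iff _ hr0] at h1
    exact h1
  have hUT : ∀ l, U l ≤ T := fun l => by
    rw [← span_orbit (z := 1) hr.out.pos (hU l).1 (fun U' h1 h2 => hD.dvd U' h1 (h2.trans (hU l).2.1))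
      ((hU l).2.2.trans (one_mul c)) (fun x => by rw [hg, one_smul]) (hw l) (hw0 l), Submodule.span_le]
    rintro _ ⟨k, rfl⟩
    have h2 := T.sub_mem (hvT l k) (hpT l)
    rwa [add_sub_cancel_right] at h2
  have hfT : fixSp g ≤ T := fun x hx => by
    have h0 := Submodule.mem_map_of_mem (f := (fixSp g).subtype) (u.mem_span ⟨x, hx⟩)
    rw [Submodule.map_span] at h0
    refine (Submodule.span_le.2 ?_) h0
    rintro _ ⟨_, ⟨i, rfl⟩, rfl⟩
    by_cases h : (i : ℕ) < s
    · exact hpT ⟨i, h⟩
    · refine Submodule.subset_span ⟨Sum.inr ⟨i - s, by omega⟩, ?_⟩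
      show ((u ⟨s + ((i : ℕ) - s), _⟩ : fixSp g) : Fin n → F) = _
      congr 2
      exact Fin.ext (by simp; omega)
  have htop : ⊤ ≤ T := by
    have h1 : fixSp g ⊔ D ≤ T := sup_le hfT (hsup ▸ iSup_le hUT)
    refine le_of_eq_of_le (Eq.symm ?_) h1
    refine Submodule.eq_top_of_finrank_eq ?_
    rw [finrank_sup_of_disjoint hd', finrank_fin_fun]
    exact hsum
  have hcard : Fintype.card ((Fin s × Fin r) ⊕ Fin (e - s)) = n := by
    rw [Fintype.card_sum, Fintype.card_prod, Fintype.card_fin, Fintype.card_fin, Fintype.card_fin, ← hsum, hs,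
      show r = c + 1 by omega, mul_add, mul_one, mul_comm s c]
    omega
  let b := basisOfTopLeSpanOfCardEqFinrank v htop (by rw [hcard, finrank_fin_fun])
  have hb : ∀ i, b i = v i := fun i => by simp [b]
  let E := Fintype.equivFinOfCardEq hcard
  let π : Equiv.Perm ((Fin s × Fin r) ⊕ Fin (e - s)) :=
    Equiv.sumCongr (Equiv.prodCongr (Equiv.refl _) (Equiv.addRight 1)) (Equiv.refl _)
  refine exists_decomp_gen b g π (fun i => ?_) 1 n one_pos hn E (fun j => ?_) (E.symm.trans (π.trans E)) (fun i => ?_)
  · refine ⟨1, one_ne_zero, ?_⟩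
    rw [one_smul, hb, hb]
    rcases i with ⟨l, k⟩ | i
    · show g ((g ^ (k : ℕ)) (w l + p l)) = (g ^ ((k + 1 : Fin r) : ℕ)) (w l + p l)
      rw [val_succ hr2, ← Module.End.mul_apply, ← pow_succ']
      rcases Nat.lt_or_ge ((k : ℕ) + 1) r with h | h
      · rw [Nat.mod_eq_of_lt h]
      · rw [show (k : ℕ) + 1 = r by omega, Nat.mod_self, hg, pow_zero, Module.End.one_apply]
    · exact mem_fixSp.1 (u _).2
  · rw [Nat.card_eq_one_iff_unique]
    exact ⟨⟨fun x y => Subtype.ext (E.injective (x.2.trans y.2.symm))⟩, ⟨⟨E.symm j, by simp⟩⟩⟩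
  · simp [π]

theorem shape_many [Fintype F] {n a t r c : ℕ} [hr : Fact r.Prime] (hat : n = a * t) (ha : 0 < a) (ht : 2 ≤ t)
    (hr0 : (r : F) ≠ 0) (hc : c = orderOf ((Fintype.card F : ℕ) : ZMod r)) (hmod : n % c = t * (a % c))
    (g : (Fin n → F) →ₗ[F] (Fin n → F)) (hg : ∀ v, (g ^ r) v = v) :
    ∃ D : Fin t → Submodule F (Fin n → F), Cfsg.Geo.IsMDecomposition a D ∧
      ∃ σ : Equiv.Perm (Fin t), ∀ j, (D j).map g = D (σ j) := by
  classical
  have hss : Module.End.IsSemisimple g := isSemisimple_of_pow (c := 1) (fun v => by rw [hg, one_smul]) hr0 one_ne_zero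
  obtain ⟨D, -, -, hd', hD, hsum⟩ := exists_free_part hr0 hg (W := ⊤) le_top
  rw [inf_top_eq, finrank_top, finrank_fin_fun] at hsum
  rw [← hc] at hD
  obtain ⟨s, hs⟩ := hD.dvd D hD.inv le_rfl
  set e := finrank F (fixSp g) with he
  have hm : e % c = t * (a % c) := by rw [← hmod, ← hsum, hs, Nat.add_mul_mod_self_left]
  have he2 := Nat.mod_add_div e c
  have ha2 := Nat.mod_add_div a c
  have hus : e / c + s = t * (a / c) := by
    refine Nat.eq_of_mul_eq_mul_left hD.pos ?_
    have h5 : n = t * (a % c) + c * (t * (a / c)) := by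
      rw [hat]; conv_lhs => rw [← ha2]
      ring
    rw [mul_add]
    omega
  obtain ⟨φ, hφ, hφs⟩ := distribute t (a / c) (e / c) (by omega)
  obtain ⟨A, hA, hAsup⟩ := split hss (homog_of_fixed (W := fixSp g) fun v hv => mem_fixSp.1 hv)
    (fun l => a % c + φ l * c) (by
      rw [mul_one, Finset.sum_add_distrib, ← Finset.sum_mul, hφs, Finset.sum_const, Finset.card_univ, Fintype.card_fin,
        smul_eq_mul, mul_comm (e / c)]
      omega)
  obtain ⟨B, hB, hBsup⟩ := split hss hD (fun l => a / c - φ l) (by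
    have h6 : (∑ l, (a / c - φ l)) + ∑ l, φ l = t * (a / c) := by
      rw [← Finset.sum_add_distrib, Finset.sum_congr rfl fun l _ => Nat.sub_add_cancel (hφ l)]
      simp
    rw [hφs] at h6
    rw [show ∑ l, (a / c - φ l) = s by omega, hs, mul_comm])
  have hd : ∀ l, finrank F ↥(A l ⊔ B l) = a := fun l => by
    rw [finrank_sup_of_disjoint (hd'.mono (hA l).2.1 (hB l).2.1), (hA l).2.2, (hB l).2.2, mul_one, add_assoc,
      ← add_mul, Nat.add_sub_cancel' (hφ l), mul_comm]
    exact ha2
  have hsup : (⨆ l, A l ⊔ B l) = ⊤ := by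
    rw [iSup_sup_eq, hAsup, hBsup]
    refine Submodule.eq_top_of_finrank_eq ?_
    rw [finrank_sup_of_disjoint hd', finrank_fin_fun]
    exact hsum
  have hinj : Function.Injective g := fun u v e => by
    have := congrArg (g ^ (r - 1)) e
    rwa [← Module.End.mul_apply, ← Module.End.mul_apply, ← pow_succ, Nat.sub_add_cancel hr.out.one_lt.le, hg, hg] at this
  exact ⟨_, ⟨ht, ha, hd, indep_of_dims _ a hd hsup (by rw [finrank_fin_fun, hat, mul_comm]), hsup⟩, 1,
    fun j => map_eq hinj (inv_sup (hA j).1 (hB j).1)⟩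

/-- what an element of order `r` permuting a decomposition looks like -/
theorem analyse [Fintype F] {n a t r c : ℕ} [hr : Fact r.Prime] (hr0 : (r : F) ≠ 0)
    (hc : c = orderOf ((Fintype.card F : ℕ) : ZMod r)) (g : (Fin n → F) →ₗ[F] (Fin n → F)) (hg : ∀ v, (g ^ r) v = v)
    {D : Fin t → Submodule F (Fin n → F)} (hD : Cfsg.Geo.IsMDecomposition a D) (σ : Equiv.Perm (Fin t))
    (hσ : ∀ j, (D j).map g = D (σ j)) :
    (σ = 1 → t * (a % c) ≤ finrank F (fixSp g)) ∧
    (σ ≠ 1 → a ≤ finrank F (fixSp g) ∧ finrank F (fixSp g) + (r - 1) * a ≤ n) ∧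
    (a < c → (σ = 1 → finrank F (fixSp g) = n) ∧ t * a ≤ r * finrank F (fixSp g)) := by
  classical
  have hDinj : Function.Injective D := hD.indep.injective fun j e => by
    have := hD.finrank_eq j
    rw [e, finrank_bot] at this
    have := hD.pos
    omega
  have hpow : ∀ (k : ℕ) j, (D j).map (g ^ k) = D ((σ ^ k) j) := by
    intro k
    induction k with
    | zero => intro j; simp [Module.End.one_eq_id]
    | succ k ih =>
      intro j
      rw [pow_succ', pow_succ', Module.End.mul_eq_comp, Submodule.map_comp, ih, hσ, Equiv.Perm.mul_apply]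
  have hσr : σ ^ r = 1 := Equiv.ext fun j => hDinj (by
    rw [← hpow, show g ^ r = 1 from LinearMap.ext fun v => by rw [hg]; rfl, Module.End.one_eq_id, Submodule.map_id]
    rfl)
  set S : (Fin n → F) →ₗ[F] (Fin n → F) := ∑ k ∈ Finset.range r, g ^ k with hS
  have hSfix : ∀ v, S v ∈ fixSp g := fun v => by
    refine mem_fixSp.2 ?_
    have h1 := Finset.sum_range_succ (fun k => (g ^ k) v) r
    rw [Finset.sum_range_succ', hg, pow_zero, Module.End.one_apply] at h1
    simp only [hS, LinearMap.sum_apply, map_sum]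
    rw [← add_right_cancel h1]
    simp only [pow_succ', Module.End.mul_apply]
  have hlow : ∀ X : Submodule F (Fin n → F), (∀ v ∈ X, S v = 0 → v = 0) → finrank F X ≤ finrank F (fixSp g) := by
    intro X hX
    refine LinearMap.finrank_le_finrank_of_injective
      (f := LinearMap.codRestrict (fixSp g) (S ∘ₗ X.subtype) fun v => hSfix v) ?_
    refine (injective_iff_map_eq_zero _).2 fun v hv => Subtype.ext (hX v v.2 ?_)
    exact congrArg Subtype.val hv
  have hSsplit : ∀ v, S v = v + ∑ k ∈ Finset.range (r - 1), (g ^ (k + 1)) v := fun v => by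
    rw [hS, LinearMap.sum_apply]
    conv_lhs => rw [show r = r - 1 + 1 by have := hr.out.pos; omega, Finset.sum_range_succ']
    rw [pow_zero, Module.End.one_apply, add_comm]
  refine ⟨fun h1 => ?_, fun h1 => ?_, fun hac => ?_⟩
  · have hpart : ∀ j, a % c ≤ finrank F ↥(fixSp g ⊓ D j) := fun j => by
      obtain ⟨E, -, -, -, hE, hsum⟩ := exists_free_part hr0 hg (W := D j) (by rw [hσ, h1]; rfl)
      rw [← hc] at hE
      obtain ⟨k, hk⟩ := hE.dvd E hE.inv le_rfl
      rw [← hD.finrank_eq j, ← hsum, hk, Nat.add_mul_mod_self_left]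
      exact Nat.mod_le _ _
    have hind : iSupIndep fun j => fixSp g ⊓ D j := hD.indep.mono fun j => inf_le_right
    refine le_trans ?_ (Submodule.finrank_mono (show Finset.univ.sup (fun j => fixSp g ⊓ D j) ≤ fixSp g from
      Finset.sup_le fun j _ => inf_le_left))
    rw [finrank_finset_sup hind]
    refine le_trans ?_ (Finset.sum_le_sum fun j _ => hpart j)
    simp
  · obtain ⟨j, hj⟩ : ∃ j, σ j ≠ j := by
      by_contra hh
      push Not at hh
      exact h1 (Equiv.ext hh)
    have hper : Function.minimalPeriod σ j = r := by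
      have hp : Function.IsPeriodicPt σ r j := by
        show σ^[r] j = j
        rw [← Equiv.Perm.coe_pow, hσr]; rfl
      rcases (Nat.dvd_prime hr.out).1 hp.minimalPeriod_dvd with h | h
      · exact absurd (Function.minimalPeriod_eq_one_iff_isFixedPt.1 h) hj
      · exact h
    have hdist : ∀ k l, k < r → l < r → (σ ^ k) j = (σ ^ l) j → k = l := fun k l hk hl e => by
      rw [Equiv.Perm.coe_pow, Equiv.Perm.coe_pow] at e
      exact Function.iterate_injOn_Iio_minimalPeriod (by rw [hper]; exact hk) (by rw [hper]; exact hl) e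
    let J : Finset ℕ → Finset (Fin t) := fun s => s.image fun k => (σ ^ k) j
    have hJd : ∀ s s' : Finset ℕ, Disjoint s s' → (∀ k ∈ s, k < r) → (∀ k ∈ s', k < r) →
        Disjoint ((J s).sup D) ((J s').sup D) := fun s s' hd hs hs' => by
      refine disjoint_finset_sup hD.indep (Finset.disjoint_left.2 fun x hx hx' => ?_)
      obtain ⟨k, hk, rfl⟩ := Finset.mem_image.1 hx
      obtain ⟨l, hl, e⟩ := Finset.mem_image.1 hx'
      exact Finset.disjoint_left.1 hd hk (hdist l k (hs' l hl) (hs k hk) e ▸ hl)
    have hJk : ∀ (k : ℕ) (s : Finset ℕ), k ∈ s → D ((σ ^ k) j) ≤ (J s).sup D := fun k s hk =>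
      Finset.le_sup (f := D) (Finset.mem_image.2 ⟨k, hk, rfl⟩)
    refine ⟨?_, ?_⟩
    · rw [← hD.finrank_eq j]
      refine hlow _ fun v hv hSv => ?_
      rw [hSsplit] at hSv
      have h2 : v ∈ (J {0}).sup D := hJk 0 {0} (by simp) (by simpa using hv)
      refine Submodule.disjoint_def.1 (hJd {0} (Finset.Ico 1 r) (by simp) (by simp [hr.out.pos]) (by simp)) v h2 ?_
      rw [eq_neg_of_add_eq_zero_left hSv]
      refine Submodule.neg_mem _ (Submodule.sum_mem _ fun k hk => ?_)
      rw [Finset.mem_range] at hk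
      exact hJk (k + 1) _ (by simp; omega) (hpow (k + 1) j ▸ ⟨v, hv, rfl⟩)
    · set X := (J (Finset.Ico 1 r)).sup D with hX
      have hXd : finrank F X = (r - 1) * a := by
        rw [hX, finrank_finset_sup hD.indep, Finset.sum_congr rfl fun i _ => hD.finrank_eq i, Finset.sum_const,
          smul_eq_mul, Finset.card_image_of_injOn (fun k hk l hl e => hdist k l (Finset.mem_Ico.1 hk).2
            (Finset.mem_Ico.1 hl).2 e), Nat.card_Ico]
      have key : ∀ m, m < r → ∀ v ∈ (J (Finset.Ico 1 (m + 1))).sup D, g v = v → v = 0 := by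
        intro m
        induction m with
        | zero => intro _ v hv _; simpa [J] using hv
        | succ m ih =>
          intro hm v hv hgv
          have hsplit : (J (Finset.Ico 1 (m + 2))).sup D ≤ (J (Finset.Ico 1 (m + 1))).sup D ⊔ D ((σ ^ (m + 1)) j) := by
            refine Finset.sup_le fun x hx => ?_
            obtain ⟨k, hk, rfl⟩ := Finset.mem_image.1 hx
            rw [Finset.mem_Ico] at hk
            by_cases hkm : k = m + 1
            · rw [hkm]; exact le_sup_right
            · exact (hJk k _ (by simp; omega)).trans le_sup_left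
          obtain ⟨y, hy, w, hw, rfl⟩ := Submodule.mem_sup.1 (hsplit hv)
          have hgy : g y ∈ (J (Finset.Ico 1 (m + 2))).sup D := by
            have h3 : ((J (Finset.Ico 1 (m + 1))).sup D).map g ≤ (J (Finset.Ico 1 (m + 2))).sup D := by
              rw [Submodule.map_le_iff_le_comap]
              refine Finset.sup_le fun x hx => ?_
              obtain ⟨k, hk, rfl⟩ := Finset.mem_image.1 hx
              rw [Finset.mem_Ico] at hk
              rw [← Submodule.map_le_iff_le_comap, hσ, ← Equiv.Perm.mul_apply, ← pow_succ']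
              exact hJk _ _ (by simp; omega)
            exact h3 ⟨y, hy, rfl⟩
          have hgw : g w ∈ (J (Finset.Ico 1 (m + 2))).sup D := by
            have := Submodule.sub_mem _ hv hgy
            rwa [← hgv, map_add, add_sub_cancel_left] at this
          have hm2 : (σ ^ ((m + 2) % r)) j = σ ((σ ^ (m + 1)) j) := by
            rw [← Equiv.Perm.mul_apply, ← pow_succ', ← pow_eq_pow_mod _ hσr]
          have hw0 : g w = 0 := by
            refine Submodule.disjoint_def.1 (hJd {(m + 2) % r} (Finset.Ico 1 (m + 2)) ?_ ?_ ?_) _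
              (hJk ((m + 2) % r) _ (by simp) (by rw [hm2, ← hσ]; exact ⟨w, hw, rfl⟩)) hgw
            · rcases Nat.lt_or_ge (m + 2) r with h | h
              · simp [Nat.mod_eq_of_lt h]
              · simp [show m + 2 = r by omega]
            · simp [Nat.mod_lt _ hr.out.pos]
            · intro k hk; rw [Finset.mem_Ico] at hk; omega
          have hw1 : w = 0 := by
            have := congrArg (g ^ (r - 1)) hw0
            rwa [← Module.End.mul_apply, ← pow_succ, Nat.sub_add_cancel hr.out.one_lt.le, hg, map_zero] at this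
          subst hw1
          rw [add_zero] at hgv ⊢
          exact ih (by omega) y hy hgv
      have hd : Disjoint (fixSp g) X := by
        rw [Submodule.disjoint_def]
        intro v hv hvX
        refine key (r - 1) (by have := hr.out.pos; omega) v ?_ (mem_fixSp.1 hv)
        rwa [Nat.sub_add_cancel hr.out.one_lt.le]
      have := finrank_sup_of_disjoint hd
      rw [hXd] at this
      have h4 := Submodule.finrank_le (fixSp g ⊔ X)
      rw [finrank_fin_fun] at h4
      omega
  · have hfixed : ∀ j, σ j = j → D j ≤ fixSp g := fun j hj => by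
      obtain ⟨E, hEW, -, -, hE, hsum⟩ := exists_free_part hr0 hg (W := D j) (by rw [hσ, hj])
      rw [← hc] at hE
      obtain ⟨k, hk⟩ := hE.dvd E hE.inv le_rfl
      rw [hD.finrank_eq, hk] at hsum
      have hk0 : k = 0 := by
        rcases k with _ | k
        · rfl
        · rw [mul_add, mul_one] at hsum; omega
      subst hk0
      have : fixSp g ⊓ D j = D j := Submodule.eq_of_le_of_finrank_eq inf_le_right (by rw [hD.finrank_eq]; omega)
      exact inf_eq_right.1 this
    constructor
    · intro h1
      have : fixSp g = ⊤ := by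
        rw [eq_top_iff, ← hD.iSup_eq_top]
        exact iSup_le fun j => hfixed j (by rw [h1]; rfl)
      rw [this, finrank_top, finrank_fin_fun]
    · -- orbit representatives
      let R := Finset.univ.filter fun j : Fin t => ∀ k < r, j ≤ (σ ^ k) j
      let Rf := R.filter fun j => σ j = j
      let Rm := R.filter fun j => σ j ≠ j
      have hcount : t ≤ r * R.card := by
        have hsurj : Function.Surjective (fun i : Fin r × R => (σ ^ (i.1 : ℕ)) i.2) := by
          intro l
          obtain ⟨k, hk, hmin⟩ := (Finset.range r).exists_min_image (fun k => (σ ^ k) l)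
            ⟨0, Finset.mem_range.2 hr.out.pos⟩
          rw [Finset.mem_range] at hk
          refine ⟨(⟨(r - k) % r, Nat.mod_lt _ hr.out.pos⟩, ⟨(σ ^ k) l, Finset.mem_filter.2 ⟨Finset.mem_univ _, fun m _ => ?_⟩⟩), ?_⟩
          · rw [← Equiv.Perm.mul_apply, ← pow_add, pow_eq_pow_mod (m + k) hσr]
            exact hmin _ (Finset.mem_range.2 (Nat.mod_lt _ hr.out.pos))
          · show (σ ^ ((r - k) % r)) ((σ ^ k) l) = l
            rw [← pow_eq_pow_mod _ hσr, ← Equiv.Perm.mul_apply, ← pow_add, Nat.sub_add_cancel hk.le, hσr]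
            rfl
        have := Fintype.card_le_of_surjective _ hsurj
        simpa using this
      refine le_trans (Nat.mul_le_mul_right a hcount) ?_
      rw [mul_assoc]
      refine Nat.mul_le_mul_left r ?_
      have : finrank F ↥(R.sup D) = R.card * a := by
        rw [finrank_finset_sup hD.indep, Finset.sum_congr rfl fun i _ => hD.finrank_eq i, Finset.sum_const, smul_eq_mul]
      rw [← this]
      refine hlow _ fun v hv hSv => ?_
      have hRsplit : R.sup D ≤ Rf.sup D ⊔ Rm.sup D := by
        refine Finset.sup_le fun j hj => ?_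
        by_cases h : σ j = j
        · exact (Finset.le_sup (f := D) (show j ∈ Rf from Finset.mem_filter.2 ⟨hj, h⟩)).trans le_sup_left
        · exact (Finset.le_sup (f := D) (show j ∈ Rm from Finset.mem_filter.2 ⟨hj, h⟩)).trans le_sup_right
      obtain ⟨x, hx, y, hy, rfl⟩ := Submodule.mem_sup.1 (hRsplit hv)
      have hxfix : x ∈ fixSp g := (Finset.sup_le fun j hj => hfixed j (Finset.mem_filter.1 hj).2) hx
      have hxk : ∀ k, (g ^ k) x = x := by
        intro k
        induction k with
        | zero => simp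
        | succ k ih => rw [pow_succ', Module.End.mul_apply, ih]; exact mem_fixSp.1 hxfix
      have hSx : S x = (r : F) • x := by
        rw [hS, LinearMap.sum_apply, Finset.sum_congr rfl fun k _ => hxk k, Finset.sum_const, Finset.card_range,
          Nat.cast_smul_eq_nsmul]
      rw [map_add, hSx, hSsplit y, ← add_assoc] at hSv
      let N := Finset.univ.filter fun j : Fin t => j ∉ R
      have hN : ∑ k ∈ Finset.range (r - 1), (g ^ (k + 1)) y ∈ N.sup D := by
        refine Submodule.sum_mem _ fun k hk => ?_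
        rw [Finset.mem_range] at hk
        have h3 : (Rm.sup D).map (g ^ (k + 1)) ≤ N.sup D := by
          rw [Submodule.map_le_iff_le_comap]
          refine Finset.sup_le fun j hj => ?_
          rw [← Submodule.map_le_iff_le_comap, hpow]
          refine Finset.le_sup (f := D) (Finset.mem_filter.2 ⟨Finset.mem_univ _, fun hjR => ?_⟩)
          obtain ⟨hjr, hjm⟩ := Finset.mem_filter.1 hj
          have h4 := (Finset.mem_filter.1 hjr).2 (k + 1) (by omega)
          have h5 := (Finset.mem_filter.1 hjR).2 (r - (k + 1)) (by omega)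
          rw [← Equiv.Perm.mul_apply, ← pow_add, Nat.sub_add_cancel (show k + 1 ≤ r by omega), hσr] at h5
          have h6 : (σ ^ (k + 1)) j = j := le_antisymm h5 h4
          have hper : Function.minimalPeriod σ j ∣ r := by
            refine Function.IsPeriodicPt.minimalPeriod_dvd ?_
            show σ^[r] j = j
            rw [← Equiv.Perm.coe_pow, hσr]; rfl
          have hper2 : Function.minimalPeriod σ j ∣ k + 1 := by
            refine Function.IsPeriodicPt.minimalPeriod_dvd ?_
            show σ^[k + 1] j = j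
            rw [← Equiv.Perm.coe_pow]; exact h6
          rcases (Nat.dvd_prime hr.out).1 hper with h | h
          · exact hjm (Function.minimalPeriod_eq_one_iff_isFixedPt.1 h)
          · rw [h] at hper2
            have := Nat.le_of_dvd (by omega) hper2
            omega
        exact h3 ⟨y, hy, rfl⟩
      have hRN : Disjoint (R.sup D) (N.sup D) :=
        disjoint_finset_sup hD.indep (Finset.disjoint_left.2 fun j hj hj' => (Finset.mem_filter.1 hj').2 hj)
      have hxy : (r : F) • x + y = 0 := by
        refine Submodule.disjoint_def.1 hRN _ (add_mem (Submodule.smul_mem _ _ ?_) ?_) ?_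
        · exact (show Rf.sup D ≤ R.sup D from Finset.sup_mono (Finset.filter_subset _ _)) hx
        · exact (show Rm.sup D ≤ R.sup D from Finset.sup_mono (Finset.filter_subset _ _)) hy
        · rw [eq_neg_of_add_eq_zero_left hSv]; exact Submodule.neg_mem _ hN
      have hfm : Disjoint (Rf.sup D) (Rm.sup D) :=
        disjoint_finset_sup hD.indep (Finset.disjoint_left.2 fun j hj hj' =>
          (Finset.mem_filter.1 hj').2 (Finset.mem_filter.1 hj).2)
      have hy0 : y = 0 := Submodule.disjoint_def.1 hfm y (by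
        rw [eq_neg_of_add_eq_zero_right hxy]; exact Submodule.neg_mem _ (Submodule.smul_mem _ _ hx)) hy
      subst hy0
      rw [add_zero] at hxy ⊢
      exact (smul_eq_zero.1 hxy).resolve_left hr0

theorem exists_decomposition {n a t : ℕ} (hat : n = a * t) (ha : 0 < a) (ht : 2 ≤ t) :
    Nonempty {D : Fin t → Submodule F (Fin n → F) // Cfsg.Geo.IsMDecomposition a D} := by
  classical
  let e : Fin n ≃ Fin t × Fin a := ((finCongr (hat.trans (mul_comm a t))).trans finProdFinEquiv.symm)
  obtain ⟨D, hD, -⟩ := exists_decomp_gen (Pi.basisFun F (Fin n)) LinearMap.id 1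
    (fun i => ⟨1, one_ne_zero, by simp⟩) a t ha ht (fun i => (e i).1)
    (fun j => by
      rw [Nat.card_congr
        ({ toFun := fun i => (e i.1).2
           invFun := fun x => ⟨e.symm (j, x), by simp⟩
           left_inv := fun i => by
             obtain ⟨l, h⟩ := i
             refine Subtype.ext ?_
             have h1 : e l = (j, (e l).2) := Prod.ext h rfl
             exact e.symm_apply_eq.2 h1.symm
           right_inv := fun x => by simp } : {i : Fin n // (e i).1 = j} ≃ Fin a), Nat.card_fin])
    1 (fun i => rfl)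
  exact ⟨⟨D, hD⟩⟩

/-- the decompositions form one orbit of the general linear group -/
theorem order_le [Fintype F] (p : ℕ) [Fact p.Prime] [CharP F p] {n a t r : ℕ} [hr : Fact r.Prime] (hrp : r ≠ p) (ht : 0 < t)
    (hne : Nonempty {D : Fin t → Submodule F (Fin n → F) // Cfsg.Geo.IsMDecomposition a D})
    (hΩ : r ∣ Nat.card {D : Fin t → Submodule F (Fin n → F) // Cfsg.Geo.IsMDecomposition a D} / Nat.factorial t) :
    orderOf ((Fintype.card F : ℕ) : ZMod r) ≤ n := by
  classical
  set Ω := {D : Fin t → Submodule F (Fin n → F) // Cfsg.Geo.IsMDecomposition a D}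
  haveI : Finite (Submodule F (Fin n → F)) := inferInstance
  haveI : Fintype (Submodule F (Fin n → F)) := Fintype.ofFinite _
  -- the symmetric group acts freely
  have hfac : Nat.factorial t ∣ Nat.card Ω := by
    letI : MulAction (Equiv.Perm (Fin t)) Ω :=
      { smul := fun σ D => ⟨D.1 ∘ σ.symm, D.2.two_le, D.2.pos, fun i => D.2.finrank_eq _,
          D.2.indep.comp σ.symm.injective, (σ.symm.surjective.iSup_comp _).trans D.2.iSup_eq_top⟩
        one_smul := fun D => Subtype.ext rfl
        mul_smul := fun σ τ D => Subtype.ext rfl }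
    have hstab : ∀ D : Ω, MulAction.stabilizer (Equiv.Perm (Fin t)) D = ⊥ := fun D => by
      rw [Subgroup.eq_bot_iff_forall]
      intro σ hσ
      have h1 : D.1 ∘ σ.symm = D.1 := congrArg Subtype.val hσ
      have hinj : Function.Injective D.1 := D.2.indep.injective fun j e => by
        have := D.2.finrank_eq j
        rw [e, finrank_bot] at this
        have := D.2.pos
        omega
      have h2 : σ.symm = 1 := Equiv.ext fun i => hinj (congrFun h1 i)
      rw [← inv_inj, inv_one]
      exact h2
    rw [Nat.card_congr (MulAction.selfEquivSigmaOrbitsQuotientStabilizer (Equiv.Perm (Fin t)) Ω), Nat.card_sigma]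
    refine Finset.dvd_sum fun ω _ => dvd_of_eq ?_
    rw [hstab, ← Subgroup.index_eq_card, Subgroup.index_bot, Nat.card_perm, Nat.card_fin]
  have h1 : r ∣ Nat.card Ω := by
    rw [← Nat.div_mul_cancel hfac]
    exact hΩ.mul_right _
  have h2 : Nat.card Ω ∣ Nat.card (GL (Fin n) F) := by
    obtain ⟨D₀⟩ : Nonempty Ω := hne
    letI : MulAction (GL (Fin n) F) (Fin t → Submodule F (Fin n → F)) :=
      { smul := fun g D j => (D j).map (Matrix.toLin' (g : Matrix (Fin n) (Fin n) F))
        one_smul := fun D => funext fun j => by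
          show (D j).map (Matrix.toLin' ((1 : GL (Fin n) F) : Matrix (Fin n) (Fin n) F)) = D j
          rw [Units.val_one, Matrix.toLin'_one, Submodule.map_id]
        mul_smul := fun g h D => funext fun j => by
          show (D j).map (Matrix.toLin' ((g * h : GL (Fin n) F) : Matrix (Fin n) (Fin n) F)) = _
          rw [Units.val_mul, Matrix.toLin'_mul, Submodule.map_comp]; rfl }
    have horb : MulAction.orbit (GL (Fin n) F) D₀.1 = {D | Cfsg.Geo.IsMDecomposition a D} := by
      refine Set.ext fun D => ⟨?_, fun hD => ?_⟩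
      · rintro ⟨g, rfl⟩
        have hd : ∀ i, finrank F ((D₀.1 i).map (Matrix.toLin' (g : Matrix (Fin n) (Fin n) F))) = a := fun i => by
          rw [← (Submodule.equivMapOfInjective _ (Matrix.mulVec_injective_of_isUnit g.isUnit) _).finrank_eq]
          exact D₀.2.finrank_eq i
        have htop : (⨆ i, (D₀.1 i).map (Matrix.toLin' (g : Matrix (Fin n) (Fin n) F))) = ⊤ := by
          rw [← Submodule.map_iSup, D₀.2.iSup_eq_top, Submodule.map_top, LinearMap.range_eq_top]
          exact Matrix.mulVec_surjective_iff_isUnit.2 g.isUnit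
        refine ⟨D₀.2.two_le, D₀.2.pos, hd, indep_of_dims _ a hd htop ?_, htop⟩
        rw [← finrank_top, ← D₀.2.iSup_eq_top, ← Finset.sup_univ_eq_iSup, finrank_finset_sup D₀.2.indep,
          Finset.sum_congr rfl fun i _ => D₀.2.finrank_eq i]
        simp
      · have I₀ := DirectSum.isInternal_submodule_of_iSupIndep_of_iSup_eq_top D₀.2.indep D₀.2.iSup_eq_top
        have I := DirectSum.isInternal_submodule_of_iSupIndep_of_iSup_eq_top hD.indep hD.iSup_eq_top
        let B₀ := I₀.collectedBasis fun i => Module.finBasisOfFinrankEq F (D₀.1 i) (D₀.2.finrank_eq i)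
        let B := I.collectedBasis fun i => Module.finBasisOfFinrankEq F (D i) (hD.finrank_eq i)
        let E := B₀.equiv B (Equiv.refl _)
        refine ⟨Matrix.GeneralLinearGroup.toLin.symm (LinearMap.GeneralLinearGroup.ofLinearEquiv E), funext fun j => ?_⟩
        show (D₀.1 j).map (Matrix.toLin' _) = D j
        refine Submodule.eq_of_le_of_finrank_eq ?_ ?_
        · rintro _ ⟨v, hv, rfl⟩
          have hcoe : ∀ v, Matrix.toLin' ((Matrix.GeneralLinearGroup.toLin.symm
              (LinearMap.GeneralLinearGroup.ofLinearEquiv E) : GL (Fin n) F) : Matrix (Fin n) (Fin n) F) v = E v := fun v => by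
            show Matrix.toLin' (LinearMap.toMatrix' (E : (Fin n → F) →ₗ[F] (Fin n → F))) v = E v
            rw [Matrix.toLin'_toMatrix']; rfl
          rw [hcoe]
          have h0 := Submodule.mem_map_of_mem (f := (D₀.1 j).subtype)
            ((Module.finBasisOfFinrankEq F (D₀.1 j) (D₀.2.finrank_eq j)).mem_span ⟨v, hv⟩)
          rw [Submodule.map_span] at h0
          have h3 := Submodule.mem_map_of_mem (f := (E : (Fin n → F) →ₗ[F] (Fin n → F))) h0
          rw [Submodule.map_span] at h3
          refine (Submodule.span_le.2 ?_) h3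
          rintro _ ⟨_, ⟨_, ⟨k, rfl⟩, rfl⟩, rfl⟩
          show E ((Module.finBasisOfFinrankEq F (D₀.1 j) _ k : D₀.1 j) : Fin n → F) ∈ D j
          rw [show ((Module.finBasisOfFinrankEq F (D₀.1 j) (D₀.2.finrank_eq j) k : D₀.1 j) : Fin n → F) = B₀ ⟨j, k⟩ by
            simp [B₀], Basis.equiv_apply]
          exact I.collectedBasis_mem (fun i => Module.finBasisOfFinrankEq F (D i) (hD.finrank_eq i)) ⟨j, k⟩
        · rw [hD.finrank_eq, ← (Submodule.equivMapOfInjective _ (Matrix.mulVec_injective_of_isUnit
            (Matrix.GeneralLinearGroup.toLin.symm (LinearMap.GeneralLinearGroup.ofLinearEquiv E)).isUnit) _).finrank_eq,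
            D₀.2.finrank_eq]
    have h3 := MulAction.index_stabilizer (GL (Fin n) F) D₀.1
    rw [horb] at h3
    exact ⟨_, ((Subgroup.index_mul_card (MulAction.stabilizer (GL (Fin n) F) D₀.1)).symm.trans
      (by rw [h3]; rfl))⟩
  have h4 := h1.trans h2
  rw [Matrix.card_GL_field] at h4
  obtain ⟨i, -, hi⟩ := (hr.out.prime.dvd_finsetProd_iff _).1 h4
  have hin : (i : ℕ) ≤ n := i.2.le
  rw [show Fintype.card F ^ n - Fintype.card F ^ (i : ℕ) = Fintype.card F ^ (i : ℕ) * (Fintype.card F ^ (n - i) - 1) by
    rw [Nat.mul_sub, ← pow_add, mul_one, Nat.add_sub_cancel' hin]] at hi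
  have h5 : r ∣ Fintype.card F ^ (n - i) - 1 := (hr.out.dvd_mul.1 hi).resolve_left fun h => hrp
    ((charP_eq_of_cast_eq_zero p r).1 ((ZMod.natCast_eq_zero_iff _ _).2 (hr.out.dvd_of_dvd_pow h)))
  have h6 := Nat.le_of_dvd (by have := i.2; omega) (order_dvd_of_dvd_pow_sub_one h5)
  omega


/-- Elements of odd prime order of PSL_n(q) and imprimitive subgroups. Here `T = PSL_n(F)` for a field `F` with `q = p^f` elements (`n ≥ 2`, `(n, q) ≠ (2, 2), (2, 3)`), `n = a·t` with `t ≥ 2`, and Ω is the set of direct-sum decompositions of `F^n` into `t` subspaces of dimension `a` (unordered; their number is the number of ordered ones divided by `t!`), whose stabilizers are the imprimitive subgroups of type GL_a(q) ≀ S_t (maximal except in some small cases; maximality is not assumed); an element of `T` of prime order `r` (a matrix `x` of determinant 1 with `x^r` scalar, `x` not scalar) fixes a point of Ω when it permutes the summands of some such decomposition. Let `r ≠ p` be an odd prime dividing the number of such decompositions,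 let `c` be the multiplicative order of `q` modulo `r`, and write `k = n mod c`, `ℓ = a mod c`. Then every element of `T` of order `r` stabilizes such a decomposition if and only if either `a = 1`, `c = r − 1 > 1` and `n ≤ k·r`, or `c ≤ a` and `k = t·ℓ`. -/
theorem result {F : Type*} [Field F] [Fintype F] {p : ℕ} [Fact p.Prime] [CharP F p] {q : ℕ} (hq : Fintype.card F = q)
    (n a t : ℕ) (hn : 2 ≤ n) (hT : (n, q) ≠ (2, 2) ∧ (n, q) ≠ (2, 3)) (hat : n = a * t) (ha : 1 ≤ a) (ht : 2 ≤ t)
    (r : ℕ) [Fact r.Prime] (hr2 : r ≠ 2) (hrp : r ≠ p) (hΩ : r ∣ Nat.card {D : Fin t → Submodule F (Fin n → F) // Cfsg.Geo.IsMDecomposition a D} / Nat.factorial t)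
    (c : ℕ) (hc : c = orderOf (q : ZMod r)) :
    (∀ x : Matrix.SpecialLinearGroup (Fin n) F,
      (∃ z : F, ((x ^ r : Matrix.SpecialLinearGroup (Fin n) F) : Matrix (Fin n) (Fin n) F) = z • (1 : Matrix (Fin n) (Fin n) F)) →
      (∀ z : F, (x : Matrix (Fin n) (Fin n) F) ≠ z • (1 : Matrix (Fin n) (Fin n) F)) →
      ∃ D : Fin t → Submodule F (Fin n → F), Cfsg.Geo.IsMDecomposition a D ∧
        ∃ σ : Equiv.Perm (Fin t), ∀ j, (D j).map (Matrix.toLin' (x : Matrix (Fin n) (Fin n) F)) = D (σ j)) ↔
    ((a = 1 ∧ 1 < c ∧ c = r - 1 ∧ n ≤ (n % c) * r) ∨ (c ≤ a ∧ n % c = t * (a % c))) := by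
  classical
  subst hq
  haveI : Nonempty (Fin n) := ⟨⟨0, by omega⟩⟩
  have hr0 : (r : F) ≠ 0 := natCast_prime_ne_zero p hrp
  have hr3 : 3 ≤ r := by have := (Fact.out : r.Prime).two_le; omega
  have hc0 : 0 < c := hc ▸ order_pos p hrp
  have hcn : c ≤ n := hc ▸ order_le p hrp (by omega) (exists_decomposition hat ha ht) hΩ
  have hcr : c ≤ r - 1 := hc ▸ Nat.le_of_dvd (by omega) (ZMod.orderOf_dvd_card_sub_one
    (fun e => hrp ((charP_eq_of_cast_eq_zero p r).1 e)))
  constructor
  · intro hall
    by_cases hc1 : c = 1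
    · exact Or.inr ⟨by omega, by rw [hc1, Nat.mod_one, Nat.mod_one, mul_zero]⟩
    have hd : ¬ r ∣ Fintype.card F - 1 := fun e => hc1 (hc.trans ((order_one_iff r).2 e))
    -- elements without scalar part
    have test : ∀ A : Matrix (Fin n) (Fin n) F, (∀ v, ((Matrix.toLin' A) ^ r) v = v) → A.det ^ r = 1 →
        finrank F (fixSp (Matrix.toLin' A)) < n →
        ∃ D : Fin t → Submodule F (Fin n → F), Cfsg.Geo.IsMDecomposition a D ∧
          ∃ σ : Equiv.Perm (Fin t), ∀ j, (D j).map (Matrix.toLin' A) = D (σ j) := by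
      intro A hA hdet hfix
      refine hall ⟨A, eq_one_of_pow_eq_one hd hdet⟩ ⟨1, ?_⟩ fun y hy => ?_
      · refine (Matrix.SpecialLinearGroup.coe_pow _ r).trans ?_
        refine Matrix.toLin'.injective (LinearMap.ext fun v => ?_)
        rw [Matrix.toLin'_pow, one_smul, Matrix.toLin'_one]
        exact hA v
      · change A = y • 1 at hy
        have h1 := hA (Pi.single ⟨0, by omega⟩ 1)
        rw [hy, map_smul, Matrix.toLin'_one, ← Module.End.one_eq_id, _root_.smul_pow, one_pow,
          LinearMap.smul_apply, Module.End.one_apply] at h1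
        have hy1 : y = 1 := eq_one_of_pow_eq_one hd (by simpa using congrFun h1 ⟨0, by omega⟩)
        subst hy1
        rw [one_smul] at hy
        have : fixSp (Matrix.toLin' A) = ⊤ := by
          refine eq_top_iff.2 fun v _ => mem_fixSp.2 ?_
          rw [hy, Matrix.toLin'_one, LinearMap.id_apply]
        rw [this, finrank_top, finrank_fin_fun] at hfix
        omega
    obtain ⟨A, hA, hAdet, hAfix⟩ := exists_model_free (F := F) n r hr0 (n % c) (n / c)
      (by rw [← hc, mul_comm, Nat.mod_add_div])
    have hlt : n % c < c := Nat.mod_lt _ hc0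
    obtain ⟨D, hD, σ, hσ⟩ := test A hA hAdet (by omega)
    obtain ⟨h1, h2, h3⟩ := analyse hr0 hc _ hA hD σ hσ
    rcases Nat.lt_or_ge a c with hac | hca
    · left
      obtain ⟨h4, h5⟩ := h3 hac
      -- one block
      obtain ⟨B, hB, hBdet, hBfix⟩ := exists_model_free (F := F) c r hr0 0 1 (by rw [← hc]; omega)
      let g' : (Fin (n - c) → F) × (Fin c → F) →ₗ[F] (Fin (n - c) → F) × (Fin c → F) :=
        LinearMap.prodMap LinearMap.id (Matrix.toLin' B)
      have hg'pow : ∀ (l : ℕ) v, (g' ^ l) v = (v.1, ((Matrix.toLin' B) ^ l) v.2) := by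
        intro l
        induction l with
        | zero => intro v; simp
        | succ l ih => intro v; rw [pow_succ', Module.End.mul_apply, ih, pow_succ', Module.End.mul_apply]; rfl
      obtain ⟨L, A', hA', hA'det⟩ := exists_transport (V := (Fin (n - c) → F) × (Fin c → F)) (n := n)
        (by rw [finrank_prod, finrank_fin_fun, finrank_fin_fun]; omega) g'
      have hA'r : ∀ v, ((Matrix.toLin' A') ^ r) v = v := fun v => L.injective (by
        rw [pow_transport L hA', hg'pow, hB])
      have hfixed : ∀ w : Fin (n - c) → F, L.symm (w, 0) ∈ fixSp (Matrix.toLin' A') := fun w => by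
        refine mem_fixSp.2 (L.injective ?_)
        rw [hA', L.apply_symm_apply]
        exact Prod.ext rfl (map_zero (Matrix.toLin' B))
      have hge : n - c ≤ finrank F (fixSp (Matrix.toLin' A')) := by
        let ψ : (Fin (n - c) → F) →ₗ[F] fixSp (Matrix.toLin' A') :=
          LinearMap.codRestrict _ (L.symm.toLinearMap ∘ₗ LinearMap.inl F _ _) hfixed
        refine le_of_eq_of_le (finrank_fin_fun F).symm (LinearMap.finrank_le_finrank_of_injective (f := ψ) ?_)
        exact fun u v e => congrArg Prod.fst (L.symm.injective (congrArg Subtype.val e))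
      have hlt' : finrank F (fixSp (Matrix.toLin' A')) < n := by
        by_contra hh
        have htop : fixSp (Matrix.toLin' A') = ⊤ := Submodule.eq_top_of_finrank_eq (le_antisymm
          (Submodule.finrank_le _) (by rw [finrank_fin_fun]; omega))
        have hBtop : fixSp (Matrix.toLin' B) = ⊤ := eq_top_iff.2 fun v _ => mem_fixSp.2 (by
          have h6 := mem_fixSp.1 (show L.symm (0, v) ∈ fixSp (Matrix.toLin' A') from htop ▸ Submodule.mem_top)
          have h7 := congrArg L h6
          rw [hA', L.apply_symm_apply] at h7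
          exact congrArg Prod.snd h7)
        rw [hBtop, finrank_top, finrank_fin_fun] at hBfix
        omega
      obtain ⟨D', hD', σ', hσ'⟩ := test A' hA'r (by
        rw [hA'det, ← map_pow, show g' ^ r = 1 from LinearMap.ext fun v => by rw [hg'pow, hB]; rfl, map_one]) hlt'
      obtain ⟨-, h2', h3'⟩ := analyse hr0 hc _ hA'r hD' σ' hσ'
      have hσne : σ' ≠ 1 := fun e => by have := (h3' hac).1 e; omega
      obtain ⟨-, h7⟩ := h2' hσne
      have h8 : (r - 1) * a ≤ c := by omega
      have ha1 : a = 1 := by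
        by_contra ha1
        have : (r - 1) * 2 ≤ (r - 1) * a := Nat.mul_le_mul_left _ (by omega)
        omega
      subst ha1
      refine ⟨rfl, by omega, by omega, ?_⟩
      calc n = t * 1 := by rw [hat, one_mul, mul_one]
        _ ≤ r * finrank F (fixSp (Matrix.toLin' A)) := h5
        _ ≤ r * (n % c) := Nat.mul_le_mul_left r hAfix
        _ = n % c * r := mul_comm _ _
    · right
      refine ⟨hca, ?_⟩
      have hσ1 : σ = 1 := by
        by_contra hne
        have := (h2 hne).1
        omega
      have h4 : t * (a % c) ≤ n % c := (h1 hσ1).trans hAfix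
      have h5 : n % c = (t * (a % c)) % c := by
        rw [hat, mul_comm a t, Nat.mul_mod t a, Nat.mul_mod t (a % c), Nat.mod_mod]
      rw [h5, Nat.mod_eq_of_lt (by omega)]
  · intro hcase x ⟨z, hz⟩ _
    set f := Matrix.toLin' (x : Matrix (Fin n) (Fin n) F) with hfdef
    have hf : ∀ v, (f ^ r) v = z • v := fun v => by
      rw [hfdef, ← Matrix.toLin'_pow, ← Matrix.SpecialLinearGroup.coe_pow, hz, map_smul, Matrix.toLin'_one]
      rfl
    have hz0 : z ≠ 0 := by
      rintro rfl
      have hdet := congrArg Matrix.det hz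
      rw [(x ^ r).2, zero_smul, Matrix.det_zero] at hdet
      exact one_ne_zero hdet
    by_cases hroot : ∃ d : F, d ^ r = z
    · obtain ⟨d, hd⟩ := hroot
      have hd0 : d ≠ 0 := fun e => hz0 (by rw [← hd, e, zero_pow (Fact.out : r.Prime).ne_zero])
      have hg : ∀ v, ((d⁻¹ • f) ^ r) v = v := fun v => by
        rw [_root_.smul_pow, LinearMap.smul_apply, hf, smul_smul, inv_pow, hd, inv_mul_cancel₀ hz0, one_smul]
      have hres : ∃ D : Fin t → Submodule F (Fin n → F), Cfsg.Geo.IsMDecomposition a D ∧
          ∃ σ : Equiv.Perm (Fin t), ∀ j, (D j).map (d⁻¹ • f) = D (σ j) := by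
        rcases hcase with ⟨ha1, -, hcr1, hle⟩ | ⟨-, hmod⟩
        · subst ha1
          obtain rfl : n = t := by rw [hat, one_mul]
          exact shape_one hn hr0 hc hcr1 hle _ hg
        · exact shape_many hat ha ht hr0 hc hmod _ hg
      obtain ⟨D, hD, σ, hσ⟩ := hres
      exact ⟨D, hD, σ, fun j => by rw [← hσ j, Submodule.map_smul _ _ _ (inv_ne_zero hd0)]⟩
    · push Not at hroot
      exact exists_of_not_pow hat ha ht hr0 f hz0 hf hroot

end Cfsg.Agent.S5958
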