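import Cfsg.Statements.S5961
import Cfsg.Agent.Lib.Forms.Elusive.SympPieces
import Cfsg.Agent.Lib.Forms.Elusive.SympDerange
import Cfsg.Agent.S5958

set_option autoImplicit false
open scoped MatrixGroups
open Cfsg

namespace Cfsg.Agent.S5961

open Cfsg.Agent.Forms Cfsg.Agent.Forms.Elusive Module Matrix

variable {F : Type*} [Field F]

local notation "V" d => (Fin d ⊕ Fin d → F)

/-- a nontrivial element of order `r` has a free part of dimension divisible by `c` -/
theorem free_dim [Fintype F] {m r : ℕ} [hr : Fact r.Prime] (hr2 : r ≠ 2) (hr0 : (r : F) ≠ 0) {i c : ℕ}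
    (hi : i = orderOf ((Fintype.card F : ℕ) : ZMod r)) (hc : c = if Even i then i else 2 * i)
    {g : (V m) →ₗ[F] (V m)} (hiso : ∀ u v, SympStd.sympB m F (g u) (g v) = SympStd.sympB m F u v) (hg : g ^ r = 1) :
    ∃ s : ℕ, finrank F (fixSp g) + c * s = 2 * m := by
  have hnd : NdOn (SympStd.sympB m F) ⊤ := fun v _ hv => by
    by_contra hcon
    push Not at hcon
    exact hv (SympStd.sympB_nondegenerate.1 v fun u => hcon u trivial)
  obtain ⟨-, -, hsum, hDnd, hDi, hfree⟩ := Pieces.fix_split SympStd.sympB_isAlt hiso hr0 hg hnd le_top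
  have hinj : Function.Injective g := fun u v e => by
    have := congrArg (g ^ (r - 1)) e
    rwa [← Module.End.mul_apply, ← Module.End.mul_apply, ← pow_succ, Nat.sub_add_cancel hr.out.one_lt.le, hg] at this
  have hi0 : 0 < i := by
    obtain ⟨p, hp⟩ := CharP.exists F
    haveI := hp
    haveI : Fact p.Prime := ⟨CharP.char_is_prime F p⟩
    exact hi ▸ order_pos p fun e => hr0 (e ▸ CharP.cast_eq_zero F p)
  obtain ⟨s, hs⟩ := Pieces.dvd_finrank SympStd.sympB_isAlt hiso hinj
    (show 0 < c by rw [hc]; split_ifs <;> omega) (Pieces.hasPiece_free SympStd.sympB_isAlt hiso hr2 hr0 hg hfree hi hc)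
    hDnd hDi
  refine ⟨s, ?_⟩
  rw [finrank_top, SympStd.finrank_vec] at hsum
  have e : finrank F ↥(fixSp g ⊓ ⊤) = finrank F (fixSp g) := by rw [inf_top_eq]
  omega

theorem iso_of_sp {m : ℕ} (x : symplecticGroup (Fin m) F) (u v : V m) :
    SympStd.sympB m F (Matrix.toLin' (x : Matrix (Fin m ⊕ Fin m) (Fin m ⊕ Fin m) F) u)
      (Matrix.toLin' (x : Matrix (Fin m ⊕ Fin m) (Fin m ⊕ Fin m) F) v) = SympStd.sympB m F u v := by
  simp only [Matrix.toLin'_apply, SympStd.sympB_apply, SympStd.sympForm_mulVec]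

/-- copies of a fixed-point-free element, completed by the identity -/
theorem exists_model [Fintype F] (p : ℕ) [Fact p.Prime] [CharP F p] {r : ℕ} [hr : Fact r.Prime]
    (hrp : r ≠ p) (hr2 : r ≠ 2) {i c : ℕ} (hi : i = orderOf ((Fintype.card F : ℕ) : ZMod r))
    (hc : c = if Even i then i else 2 * i) {d s e : ℕ} (hce : c = 2 * e) (hse : s * e ≤ d) :
    ∃ x : symplecticGroup (Fin d) F,
      (∀ v, ((Matrix.toLin' (x : Matrix (Fin d ⊕ Fin d) (Fin d ⊕ Fin d) F)) ^ r) v = v) ∧
      finrank F (fixSp (Matrix.toLin' (x : Matrix (Fin d ⊕ Fin d) (Fin d ⊕ Fin d) F))) = 2 * (d - s * e) := by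
  classical
  have hr0 : (r : F) ≠ 0 := natCast_prime_ne_zero p hrp
  have hi0 : 0 < i := hi ▸ order_pos p hrp
  have he0 : 0 < e := by rw [hc] at hce; split_ifs at hce <;> omega
  have hq : ((Fintype.card F : ZMod r)) ^ (2 * e) = 1 := by
    rw [← hce, hc]
    split_ifs
    · rw [hi, pow_orderOf_eq_one]
    · rw [mul_comm, pow_mul, hi, pow_orderOf_eq_one, one_pow]
  have hdvd : r ∣ Fintype.card F ^ (2 * e) - 1 := by
    rw [← Nat.modEq_iff_dvd' (Nat.one_le_pow _ _ Fintype.card_pos), ← ZMod.natCast_eq_natCast_iff,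
      Nat.cast_pow, Nat.cast_one]
    exact hq.symm
  have hrc : r ∣ Nat.card (symplecticGroup (Fin e) F) := by
    rw [← Subgroup.card_top, ← Classical.Symplectic.stabLow_zero, Classical.Symplectic.natCard_stabLow_step he0,
      Nat.sub_zero]
    exact (hdvd.mul_right _).mul_right _
  obtain ⟨b, hb⟩ := exists_prime_orderOf_dvd_card' r hrc
  set T := Matrix.toLin' (b : Matrix (Fin e ⊕ Fin e) (Fin e ⊕ Fin e) F) with hT
  have hTr : T ^ r = 1 := by
    rw [hT, ← Matrix.toLin'_pow, ← SubmonoidClass.coe_pow, show b ^ r = 1 by rw [← hb, pow_orderOf_eq_one]]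
    exact Matrix.toLin'_one
  have hTfix : ∀ v, T v = v → v = 0 := by
    intro v hv
    obtain ⟨k, hk⟩ := free_dim hr2 hr0 hi hc (iso_of_sp b) hTr
    have hne : finrank F (fixSp T) < 2 * e := by
      by_contra hh
      have htop : fixSp T = ⊤ := Submodule.eq_top_of_finrank_eq (le_antisymm (Submodule.finrank_le _)
        (by rw [SympStd.finrank_vec]; omega))
      have h1 : b = 1 := SympStd.sp_ext fun w => by
        rw [← Matrix.toLin'_apply, ← hT, mem_fixSp.1 (htop ▸ Submodule.mem_top : w ∈ fixSp T)]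
        exact (Matrix.one_mulVec w).symm
      rw [h1, orderOf_one] at hb
      exact hr.out.one_lt.ne hb
    rw [← hT, hce] at hk
    have h0 : finrank F (fixSp T) = 0 := by
      rcases k with _ | k
      · rw [mul_zero] at hk; omega
      · rw [mul_add, mul_one] at hk; omega
    have : v ∈ fixSp T := mem_fixSp.2 hv
    rwa [Submodule.finrank_eq_zero.1 h0, Submodule.mem_bot] at this
  set rest := d - s * e with hrest
  have hcard : Fintype.card ((Fin s × Fin e) ⊕ Fin rest) = Fintype.card (Fin d) := by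
    simp only [Fintype.card_sum, Fintype.card_prod, Fintype.card_fin]; omega
  let φ : Fin d ≃ (Fin s × Fin e) ⊕ Fin rest := (Fintype.equivOfCardEq hcard).symm
  -- blocks and remaining coordinates
  let blk : (V d) → Fin s → (V e) := fun v k => Sum.elim (fun l => v (Sum.inl (φ.symm (Sum.inl (k, l)))))
    (fun l => v (Sum.inr (φ.symm (Sum.inl (k, l)))))
  let cl : (((Fin s × Fin e) ⊕ Fin rest) → F) → ((Fin s × Fin e) ⊕ Fin rest → F) → (V d) := fun a b =>
    Sum.elim (a ∘ φ) (b ∘ φ)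
  let G : (V d) →ₗ[F] (V d) :=
    { toFun := fun v => cl
        (Sum.elim (fun kl => T (blk v kl.1) (Sum.inl kl.2)) fun l => v (Sum.inl (φ.symm (Sum.inr l))))
        (Sum.elim (fun kl => T (blk v kl.1) (Sum.inr kl.2)) fun l => v (Sum.inr (φ.symm (Sum.inr l))))
      map_add' := fun u v => by
        have hb' : ∀ k, blk (u + v) k = blk u k + blk v k := fun k => by
          funext x; rcases x with x | x <;> rfl
        funext x
        rcases x with x | x <;> simp only [cl, Sum.elim_inl, Sum.elim_inr, Function.comp_apply, Pi.add_apply] <;>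
          rcases φ x with ⟨k, l⟩ | l <;> simp [hb']
      map_smul' := fun z v => by
        have hb' : ∀ k, blk (z • v) k = z • blk v k := fun k => by
          funext x; rcases x with x | x <;> rfl
        funext x
        rcases x with x | x <;> simp only [cl, Sum.elim_inl, Sum.elim_inr, Function.comp_apply, Pi.smul_apply] <;>
          rcases φ x with ⟨k, l⟩ | l <;> simp [hb'] }
  have hblk : ∀ v k, blk (G v) k = T (blk v k) := fun v k => by
    funext x
    rcases x with x | x <;> simp [blk, G, cl]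
  have hres : ∀ v l, G v (Sum.inl (φ.symm (Sum.inr l))) = v (Sum.inl (φ.symm (Sum.inr l))) ∧
      G v (Sum.inr (φ.symm (Sum.inr l))) = v (Sum.inr (φ.symm (Sum.inr l))) := fun v l => by
    simp [G, cl]
  have hext : ∀ u v : V d, (∀ k, blk u k = blk v k) → (∀ l, u (Sum.inl (φ.symm (Sum.inr l))) = v (Sum.inl (φ.symm (Sum.inr l)))) →
      (∀ l, u (Sum.inr (φ.symm (Sum.inr l))) = v (Sum.inr (φ.symm (Sum.inr l)))) → u = v := by
    intro u v h1 h2 h3
    funext x
    rcases x with x | x <;> obtain ⟨y, rfl⟩ := φ.symm.surjective x <;> rcases y with ⟨k, l⟩ | l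
    · exact congrFun (h1 k) (Sum.inl l)
    · exact h2 l
    · exact congrFun (h1 k) (Sum.inr l)
    · exact h3 l
  have hform : ∀ u v : V d, Cfsg.sympForm d F u v = (∑ k, Cfsg.sympForm e F (blk u k) (blk v k)) +
      ∑ l, (u (Sum.inr (φ.symm (Sum.inr l))) * v (Sum.inl (φ.symm (Sum.inr l))) -
        u (Sum.inl (φ.symm (Sum.inr l))) * v (Sum.inr (φ.symm (Sum.inr l)))) := fun u v => by
    simp only [SympStd.sympForm_eq]
    rw [← φ.symm.sum_comp, Fintype.sum_sum_type, Fintype.sum_prod_type]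
    rfl
  have hG : ∀ u v, Cfsg.sympForm d F (G u) (G v) = Cfsg.sympForm d F u v := fun u v => by
    rw [hform, hform]
    congr 1
    · refine Finset.sum_congr rfl fun k _ => ?_
      rw [hblk, hblk, hT, Matrix.toLin'_apply, Matrix.toLin'_apply, SympStd.sympForm_mulVec]
    · refine Finset.sum_congr rfl fun l _ => ?_
      rw [(hres u l).1, (hres u l).2, (hres v l).1, (hres v l).2]
  have hpow : ∀ (n : ℕ) v, (∀ k, blk ((G ^ n) v) k = (T ^ n) (blk v k)) ∧
      (∀ l, (G ^ n) v (Sum.inl (φ.symm (Sum.inr l))) = v (Sum.inl (φ.symm (Sum.inr l)))) ∧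
      (∀ l, (G ^ n) v (Sum.inr (φ.symm (Sum.inr l))) = v (Sum.inr (φ.symm (Sum.inr l)))) := by
    intro n
    induction n with
    | zero => intro v; simp
    | succ n ih =>
      intro v
      obtain ⟨h1, h2, h3⟩ := ih v
      rw [pow_succ', Module.End.mul_apply]
      refine ⟨fun k => ?_, fun l => ?_, fun l => ?_⟩
      · rw [hblk, h1, pow_succ', Module.End.mul_apply]
      · rw [(hres _ l).1, h2]
      · rw [(hres _ l).2, h3]
  have hmem : LinearMap.toMatrix' G ∈ symplecticGroup (Fin d) F := SympStd.mem_sp_iff.2 fun u v => by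
    simp only [← Matrix.toLin'_apply, Matrix.toLin'_toMatrix']
    exact hG u v
  have hxG : Matrix.toLin' ((⟨_, hmem⟩ : symplecticGroup (Fin d) F) : Matrix (Fin d ⊕ Fin d) (Fin d ⊕ Fin d) F) = G :=
    Matrix.toLin'_toMatrix' G
  refine ⟨⟨_, hmem⟩, fun v => ?_, ?_⟩
  · rw [hxG]
    refine hext _ _ (fun k => ?_) (hpow r v).2.1 (hpow r v).2.2
    rw [(hpow r v).1, hTr]; rfl
  · rw [hxG]
    have hb0 : ∀ v ∈ fixSp G, ∀ k, blk v k = 0 := fun v hv k => hTfix _ (by rw [← hblk, mem_fixSp.1 hv])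
    let E : fixSp G ≃ₗ[F] (Fin rest ⊕ Fin rest → F) :=
      { toFun := fun v => Sum.elim (fun l => (v : V d) (Sum.inl (φ.symm (Sum.inr l))))
          (fun l => (v : V d) (Sum.inr (φ.symm (Sum.inr l))))
        map_add' := fun u v => by funext x; rcases x with x | x <;> rfl
        map_smul' := fun z v => by funext x; rcases x with x | x <;> rfl
        invFun := fun w => ⟨cl (Sum.elim 0 fun l => w (Sum.inl l)) (Sum.elim 0 fun l => w (Sum.inr l)), by
          refine mem_fixSp.2 (hext _ _ (fun k => ?_) (fun l => (hres _ l).1) (fun l => (hres _ l).2))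
          rw [hblk]
          have h0 : blk (cl (Sum.elim 0 fun l => w (Sum.inl l)) (Sum.elim 0 fun l => w (Sum.inr l))) k = 0 := by
            funext x; rcases x with x | x <;> simp [blk, cl]
          rw [h0, map_zero]⟩
        left_inv := fun v => by
          refine Subtype.ext (hext _ _ (fun k => ?_) (fun l => ?_) (fun l => ?_))
          · rw [hb0 v v.2 k]
            funext x; rcases x with x | x <;> simp [blk, cl]
          · simp [cl]
          · simp [cl]
        right_inv := fun w => by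
          funext x; rcases x with x | x <;> simp [cl] }
    rw [E.finrank_eq, SympStd.finrank_vec]

/-- decompositions of `F ^ (2 d)` seen over `Fin (2 d)` -/
theorem analyse_sum [Fintype F] {d a t r i : ℕ} [hr : Fact r.Prime] (hr0 : (r : F) ≠ 0)
    (hi : i = orderOf ((Fintype.card F : ℕ) : ZMod r)) (g : (V d) →ₗ[F] (V d)) (hg : ∀ v, (g ^ r) v = v)
    {D : Fin t → Submodule F (V d)} (hD : Cfsg.Geo.IsMDecomposition a D) (σ : Equiv.Perm (Fin t))
    (hσ : ∀ j, (D j).map g = D (σ j)) (hne : σ ≠ 1) :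
    a ≤ finrank F (fixSp g) ∧ finrank F (fixSp g) + (r - 1) * a ≤ 2 * d := by
  let L : (V d) ≃ₗ[F] (Fin (2 * d) → F) := LinearEquiv.funCongrLeft F F
    ((finCongr (two_mul d)).trans finSumFinEquiv.symm)
  let g' : (Fin (2 * d) → F) →ₗ[F] (Fin (2 * d) → F) := L.toLinearMap ∘ₗ g ∘ₗ L.symm.toLinearMap
  have hpow : ∀ (n : ℕ) v, (g' ^ n) v = L ((g ^ n) (L.symm v)) := by
    intro n
    induction n with
    | zero => intro v; simp
    | succ n ih => intro v; rw [pow_succ', Module.End.mul_apply, ih, pow_succ', Module.End.mul_apply]; simp [g']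
  have hD' : Cfsg.Geo.IsMDecomposition a fun j => (D j).map (L : (V d) →ₗ[F] (Fin (2 * d) → F)) := by
    have hd : ∀ j, finrank F ((D j).map (L : (V d) →ₗ[F] (Fin (2 * d) → F))) = a := fun j => by
      rw [LinearEquiv.finrank_map_eq, hD.finrank_eq]
    have htop : (⨆ j, (D j).map (L : (V d) →ₗ[F] (Fin (2 * d) → F))) = ⊤ := by
      rw [← Submodule.map_iSup, hD.iSup_eq_top, Submodule.map_top, LinearMap.range_eq_top]
      exact L.surjective
    refine ⟨hD.two_le, hD.pos, hd, S5958.indep_of_dims _ a hd htop ?_, htop⟩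
    rw [finrank_fin_fun, ← SympStd.finrank_vec (F := F) (m := d), ← finrank_top, ← hD.iSup_eq_top,
      ← Finset.sup_univ_eq_iSup, S5958.finrank_finset_sup hD.indep, Finset.sum_congr rfl fun j _ => hD.finrank_eq j]
    simp
  obtain ⟨-, h2, -⟩ := S5958.analyse hr0 hi g' (fun v => by rw [hpow, hg, L.apply_symm_apply]) hD' σ fun j => by
    rw [← Submodule.map_comp, ← hσ j, ← Submodule.map_comp]
    congr 1
    exact LinearMap.ext fun v => by simp [g']
  have hfix : fixSp g' = (fixSp g).map (L : (V d) →ₗ[F] (Fin (2 * d) → F)) := by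
    ext v
    rw [mem_fixSp, Submodule.mem_map]
    constructor
    · intro hv
      refine ⟨L.symm v, mem_fixSp.2 (L.injective ?_), L.apply_symm_apply v⟩
      rw [L.apply_symm_apply]
      exact hv
    · rintro ⟨w, hw, rfl⟩
      show L (g (L.symm (L w))) = L w
      rw [L.symm_apply_apply, mem_fixSp.1 hw]
  have h3 := h2 hne
  rw [hfix, LinearEquiv.finrank_map_eq] at h3
  exact h3

theorem exists_sorted_basis {d a t b : ℕ} (hab : a = 2 * b) {D : Fin t → Submodule F (V d)}
    (hD : Cfsg.Geo.IsMDecomposition a D ∧ (∀ j, ∀ u ∈ D j, u ≠ 0 → ∃ v ∈ D j, Cfsg.sympForm d F u v ≠ 0) ∧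
      (∀ j j', j ≠ j' → ∀ u ∈ D j, ∀ v ∈ D j', Cfsg.sympForm d F u v = 0)) :
    ∃ B : Basis ((Fin t × Fin b) ⊕ (Fin t × Fin b)) F (V d),
      (∀ x y, SympStd.sympB d F (B (Sum.inl x)) (B (Sum.inr y)) = if x = y then 1 else 0) ∧
      (∀ x y, SympStd.sympB d F (B (Sum.inl x)) (B (Sum.inl y)) = 0) ∧
      (∀ x y, SympStd.sympB d F (B (Sum.inr x)) (B (Sum.inr y)) = 0) ∧
      ∀ j, Submodule.span F (B '' {z | Sum.elim Prod.fst Prod.fst z = j}) = D j := by
  classical
  have hfam : ∀ j, ∃ e f : Fin b → (V d), Bases.IsSympFamily (SympStd.sympB d F) (D j) e f := by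
    intro j
    obtain ⟨k, e, f, h⟩ := Bases.exists_sympFamily (SympStd.sympB d F) SympStd.sympB_isAlt (D j) fun u hu h => by
      by_contra h0
      obtain ⟨v, hv, huv⟩ := hD.2.1 j u hu h0
      exact huv (by rw [← SympStd.sympB_apply]; exact h v hv)
    have := h.finrank_eq
    rw [hD.1.finrank_eq] at this
    obtain rfl : k = b := by omega
    exact ⟨e, f, h⟩
  choose e f hef using hfam
  let E : Fin t × Fin b → (V d) := fun x => e x.1 x.2
  let G : Fin t × Fin b → (V d) := fun x => f x.1 x.2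
  have ho : ∀ j j', j ≠ j' → ∀ u ∈ D j, ∀ v ∈ D j', SympStd.sympB d F u v = 0 := fun j j' h u hu v hv => by
    rw [SympStd.sympB_apply]; exact hD.2.2 j j' h u hu v hv
  have hF : Bases.IsSympFamily (SympStd.sympB d F) ⊤ E G := by
    refine ⟨fun _ => trivial, fun _ => trivial, fun x y => ?_, fun x y => ?_, fun x y => ?_, ?_⟩
    · obtain ⟨j, l⟩ := x; obtain ⟨j', l'⟩ := y
      by_cases h : j = j'
      · subst h; simp [E, G, (hef j).ef]
      · rw [if_neg fun e => h (congrArg Prod.fst e)]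
        exact ho j j' h _ ((hef j).e_mem l) _ ((hef j').f_mem l')
    · obtain ⟨j, l⟩ := x; obtain ⟨j', l'⟩ := y
      by_cases h : j = j'
      · subst h; exact (hef j).ee l l'
      · exact ho j j' h _ ((hef j).e_mem l) _ ((hef j').e_mem l')
    · obtain ⟨j, l⟩ := x; obtain ⟨j', l'⟩ := y
      by_cases h : j = j'
      · subst h; exact (hef j).ff l l'
      · exact ho j j' h _ ((hef j).f_mem l) _ ((hef j').f_mem l')
    · rw [← hD.1.iSup_eq_top]
      refine iSup_le fun j => (hef j).span.trans (Submodule.span_mono ?_)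
      rintro _ ⟨l | l, rfl⟩
      · exact ⟨Sum.inl (j, l), rfl⟩
      · exact ⟨Sum.inr (j, l), rfl⟩
  let B := Basis.mk hF.linearIndependent hF.span
  refine ⟨B, fun x y => by simp [B, hF.ef], fun x y => by simp [B, hF.ee], fun x y => by simp [B, hF.ff], fun j => ?_⟩
  refine le_antisymm (Submodule.span_le.2 ?_) ((hef j).span.trans (Submodule.span_mono ?_))
  · rintro _ ⟨z, hz, rfl⟩
    rcases z with ⟨j', l⟩ | ⟨j', l⟩ <;> (obtain rfl : j' = j := hz)
    · simpa [B, E] using (hef j').e_mem l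
    · simpa [B, G] using (hef j').f_mem l
  · rintro _ ⟨l | l, rfl⟩
    · exact ⟨Sum.inl (j, l), rfl, by simp [B, E]⟩
    · exact ⟨Sum.inr (j, l), rfl, by simp [B, G]⟩

/-- the number of decompositions divides the order of the symplectic group -/
theorem dvd_card [Fintype F] {d a t r : ℕ} [hr : Fact r.Prime] (hae : Even a)
    (hΩ : r ∣ Nat.card {D : Fin t → Submodule F (V d) // (Cfsg.Geo.IsMDecomposition a D ∧ (∀ j, ∀ u ∈ D j, u ≠ 0 → ∃ v ∈ D j, Cfsg.sympForm d F u v ≠ 0) ∧
          (∀ j j', j ≠ j' → ∀ u ∈ D j, ∀ v ∈ D j', Cfsg.sympForm d F u v = 0))} / Nat.factorial t)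
    (hne : Nonempty {D : Fin t → Submodule F (V d) // (Cfsg.Geo.IsMDecomposition a D ∧ (∀ j, ∀ u ∈ D j, u ≠ 0 → ∃ v ∈ D j, Cfsg.sympForm d F u v ≠ 0) ∧
          (∀ j j', j ≠ j' → ∀ u ∈ D j, ∀ v ∈ D j', Cfsg.sympForm d F u v = 0))}) :
    r ∣ Nat.card (symplecticGroup (Fin d) F) := by
  classical
  set Ω := {D : Fin t → Submodule F (V d) // (Cfsg.Geo.IsMDecomposition a D ∧ (∀ j, ∀ u ∈ D j, u ≠ 0 → ∃ v ∈ D j, Cfsg.sympForm d F u v ≠ 0) ∧
          (∀ j j', j ≠ j' → ∀ u ∈ D j, ∀ v ∈ D j', Cfsg.sympForm d F u v = 0))}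
  haveI : Fintype (Submodule F (V d)) := Fintype.ofFinite _
  have hfac : Nat.factorial t ∣ Nat.card Ω := by
    letI : MulAction (Equiv.Perm (Fin t)) Ω :=
      { smul := fun σ D => ⟨D.1 ∘ σ.symm, ⟨D.2.1.two_le, D.2.1.pos, fun i => D.2.1.finrank_eq _,
          D.2.1.indep.comp σ.symm.injective, (σ.symm.surjective.iSup_comp _).trans D.2.1.iSup_eq_top⟩,
          fun j => D.2.2.1 _, fun j j' h => D.2.2.2 _ _ fun e => h (σ.symm.injective e)⟩
        one_smul := fun D => Subtype.ext rfl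
        mul_smul := fun σ τ D => Subtype.ext rfl }
    have hstab : ∀ D : Ω, MulAction.stabilizer (Equiv.Perm (Fin t)) D = ⊥ := fun D => by
      rw [Subgroup.eq_bot_iff_forall]
      intro σ hσ
      have h1 : D.1 ∘ σ.symm = D.1 := congrArg Subtype.val hσ
      have hinj : Function.Injective D.1 := D.2.1.indep.injective fun j e => by
        have := D.2.1.finrank_eq j
        rw [e, finrank_bot] at this
        have := D.2.1.pos
        omega
      have h2 : σ.symm = 1 := Equiv.ext fun i => hinj (congrFun h1 i)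
      rw [← _root_.inv_inj, inv_one]
      exact h2
    rw [Nat.card_congr (MulAction.selfEquivSigmaOrbitsQuotientStabilizer (Equiv.Perm (Fin t)) Ω), Nat.card_sigma]
    refine Finset.dvd_sum fun ω _ => dvd_of_eq ?_
    rw [hstab, ← Subgroup.index_eq_card, Subgroup.index_bot, Nat.card_perm, Nat.card_fin]
  have h1 : r ∣ Nat.card Ω := by
    rw [← Nat.div_mul_cancel hfac]
    exact hΩ.mul_right _
  obtain ⟨b, hb⟩ := hae
  obtain ⟨D₀⟩ := hne
  letI : MulAction (symplecticGroup (Fin d) F) (Fin t → Submodule F (V d)) :=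
    { smul := fun g D j => (D j).map (Matrix.toLin' (g : Matrix (Fin d ⊕ Fin d) (Fin d ⊕ Fin d) F))
      one_smul := fun D => funext fun j => by
        show (D j).map (Matrix.toLin' ((1 : symplecticGroup (Fin d) F) : Matrix (Fin d ⊕ Fin d) (Fin d ⊕ Fin d) F)) = D j
        rw [OneMemClass.coe_one, Matrix.toLin'_one, Submodule.map_id]
      mul_smul := fun g h D => funext fun j => by
        show (D j).map (Matrix.toLin' ((g * h : symplecticGroup (Fin d) F) : Matrix (Fin d ⊕ Fin d) (Fin d ⊕ Fin d) F)) = _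
        rw [MulMemClass.coe_mul, Matrix.toLin'_mul, Submodule.map_comp]; rfl }
  have hinjg : ∀ g : symplecticGroup (Fin d) F,
      Function.Injective (Matrix.toLin' (g : Matrix (Fin d ⊕ Fin d) (Fin d ⊕ Fin d) F)) := fun g u v e => by
    have := congrArg (((g⁻¹ : symplecticGroup (Fin d) F) : Matrix (Fin d ⊕ Fin d) (Fin d ⊕ Fin d) F) *ᵥ ·) e
    simp only [Matrix.toLin'_apply, Matrix.mulVec_mulVec, ← MulMemClass.coe_mul, inv_mul_cancel, OneMemClass.coe_one, Matrix.one_mulVec] at this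
    exact this
  have horb : MulAction.orbit (symplecticGroup (Fin d) F) D₀.1 =
      {D | (Cfsg.Geo.IsMDecomposition a D ∧ (∀ j, ∀ u ∈ D j, u ≠ 0 → ∃ v ∈ D j, Cfsg.sympForm d F u v ≠ 0) ∧
          (∀ j j', j ≠ j' → ∀ u ∈ D j, ∀ v ∈ D j', Cfsg.sympForm d F u v = 0))} := by
    refine Set.ext fun D => ⟨?_, fun hD => ?_⟩
    · rintro ⟨g, rfl⟩
      set L := Matrix.toLin' (g : Matrix (Fin d ⊕ Fin d) (Fin d ⊕ Fin d) F) with hL
      have hd : ∀ j, finrank F ((D₀.1 j).map L) = a := fun j => by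
        rw [← (Submodule.equivMapOfInjective _ (hinjg g) _).finrank_eq]; exact D₀.2.1.finrank_eq j
      have htop : (⨆ j, (D₀.1 j).map L) = ⊤ := by
        rw [← Submodule.map_iSup, D₀.2.1.iSup_eq_top, Submodule.map_top, LinearMap.range_eq_top]
        exact LinearMap.injective_iff_surjective.1 (hinjg g)
      have hLf : ∀ u v, Cfsg.sympForm d F (L u) (L v) = Cfsg.sympForm d F u v := fun u v => by
        rw [hL, Matrix.toLin'_apply, Matrix.toLin'_apply, SympStd.sympForm_mulVec]
      refine ⟨⟨D₀.2.1.two_le, D₀.2.1.pos, hd, S5958.indep_of_dims _ a hd htop ?_, htop⟩, ?_, ?_⟩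
      · rw [← finrank_top, ← D₀.2.1.iSup_eq_top, ← Finset.sup_univ_eq_iSup, S5958.finrank_finset_sup D₀.2.1.indep,
          Finset.sum_congr rfl fun j _ => D₀.2.1.finrank_eq j]
        simp
      · rintro j _ ⟨u, hu, rfl⟩ hu0
        obtain ⟨v, hv, huv⟩ := D₀.2.2.1 j u hu fun e => hu0 (by rw [e, map_zero])
        exact ⟨L v, ⟨v, hv, rfl⟩, by rwa [hLf]⟩
      · rintro j j' hne _ ⟨u, hu, rfl⟩ _ ⟨v, hv, rfl⟩
        rw [hLf]; exact D₀.2.2.2 j j' hne u hu v hv
    · obtain ⟨B₀, a1, a2, a3, a4⟩ := exists_sorted_basis (show a = 2 * b by omega) D₀.2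
      obtain ⟨B, b1, b2, b3, b4⟩ := exists_sorted_basis (show a = 2 * b by omega) hD
      let E := B₀.equiv B (Equiv.refl _)
      have hE : ∀ z, E (B₀ z) = B z := fun z => by simp [E, Basis.equiv_apply]
      have halt : (SympStd.sympB d F).IsAlt := SympStd.sympB_isAlt
      have hEiso : ∀ u v, SympStd.sympB d F (E u) (E v) = SympStd.sympB d F u v := by
        have h : (SympStd.sympB d F).compl₁₂ (E : (V d) →ₗ[F] (V d)) (E : (V d) →ₗ[F] (V d)) = SympStd.sympB d F := by
          refine LinearMap.ext_basis B₀ B₀ fun x y => ?_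
          rw [LinearMap.compl₁₂_apply, LinearEquiv.coe_coe, hE, hE]
          rcases x with x | x <;> rcases y with y | y
          · rw [b2, a2]
          · rw [b1, a1]
          · rw [← LinearMap.IsAlt.neg halt (B (Sum.inl y)) (B (Sum.inr x)), b1,
              ← LinearMap.IsAlt.neg halt (B₀ (Sum.inl y)) (B₀ (Sum.inr x)), a1]
          · rw [b3, a3]
        exact fun u v => LinearMap.congr_fun₂ h u v
      refine ⟨SympStd.ofEquiv E fun u v => by rw [← SympStd.sympB_apply, ← SympStd.sympB_apply, hEiso], funext fun j => ?_⟩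
      show (D₀.1 j).map _ = D j
      rw [← a4 j, ← b4 j, Submodule.map_span, ← Set.image_comp]
      congr 1
      refine Set.image_congr fun z _ => ?_
      rw [Function.comp_apply, Matrix.toLin'_apply, SympStd.ofEquiv_mulVec, hE]
  have h3 := MulAction.index_stabilizer (symplecticGroup (Fin d) F) D₀.1
  rw [horb] at h3
  refine h1.trans ⟨_, ((Subgroup.index_mul_card (MulAction.stabilizer (symplecticGroup (Fin d) F) D₀.1)).symm.trans
    (by rw [h3]; rfl))⟩

/-- pieces of the right shapes -/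
theorem exists_decomp_of_shape [Fintype F] {d a t r : ℕ} [hr : Fact r.Prime] (hr2 : r ≠ 2) (hr0 : (r : F) ≠ 0)
    (hat : 2 * d = a * t) (ha : 0 < a) (hae : Even a) (ht : 2 ≤ t) {i c : ℕ}
    (hi : i = orderOf ((Fintype.card F : ℕ) : ZMod r)) (hc : c = if Even i then i else 2 * i) (hc0 : 0 < c)
    (hmod : (2 * d) % c = t * (a % c)) (g : (V d) →ₗ[F] (V d))
    (hiso : ∀ u v, SympStd.sympB d F (g u) (g v) = SympStd.sympB d F u v) (hg : g ^ r = 1) :
    ∃ D : Fin t → Submodule F (V d), (Cfsg.Geo.IsMDecomposition a D ∧ (∀ j, ∀ u ∈ D j, u ≠ 0 → ∃ v ∈ D j, Cfsg.sympForm d F u v ≠ 0) ∧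
          (∀ j j', j ≠ j' → ∀ u ∈ D j, ∀ v ∈ D j', Cfsg.sympForm d F u v = 0)) ∧
        ∃ σ : Equiv.Perm (Fin t), ∀ j, (D j).map g = D (σ j) := by
  classical
  have halt : (SympStd.sympB d F).IsAlt := SympStd.sympB_isAlt
  have hinj : Function.Injective g := fun u v e => by
    have := congrArg (g ^ (r - 1)) e
    rwa [← Module.End.mul_apply, ← Module.End.mul_apply, ← pow_succ, Nat.sub_add_cancel hr.out.one_lt.le, hg] at this
  have hnd : NdOn (SympStd.sympB d F) ⊤ := fun v _ hv => by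
    by_contra hcon
    push Not at hcon
    exact hv (SympStd.sympB_nondegenerate.1 v fun u => hcon u trivial)
  obtain ⟨hFnd, hsup, hsum, hWnd, hWi, hfree⟩ := Pieces.fix_split halt hiso hr0 hg hnd le_top
  rw [inf_top_eq] at hFnd hsup hsum hWnd hWi hfree
  rw [finrank_top, SympStd.finrank_vec] at hsum
  have hpf := Pieces.hasPiece_free halt hiso hr2 hr0 hg hfree hi hc
  obtain ⟨s, hs⟩ := Pieces.dvd_finrank halt hiso hinj hc0 hpf hWnd hWi
  rw [hs] at hsum
  set e := finrank F (fixSp g) with he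
  have hm : e % c = t * (a % c) := by rw [← hmod, ← hsum, Nat.add_mul_mod_self_left]
  have he2 := Nat.mod_add_div e c
  have ha2 := Nat.mod_add_div a c
  have hus : e / c + s = t * (a / c) := by
    refine Nat.eq_of_mul_eq_mul_left hc0 ?_
    have h5 : 2 * d = t * (a % c) + c * (t * (a / c)) := by
      rw [hat]; conv_lhs => rw [← ha2]
      ring
    rw [mul_add]
    omega
  obtain ⟨w, hw⟩ : 2 ∣ c := by
    rw [hc]
    split_ifs with h
    · exact even_iff_two_dvd.1 h
    · exact dvd_mul_right _ _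
  obtain ⟨b, hb⟩ := hae
  obtain ⟨u, hu⟩ : 2 ∣ a % c := (Nat.dvd_mod_iff ⟨w, hw⟩).2 ⟨b, by omega⟩
  obtain ⟨φ, hφ, hφs⟩ := S5958.distribute t (a / c) (e / c) (by omega)
  obtain ⟨A, hA, hAo, hAsup⟩ := Pieces.exists_family halt hiso hinj two_pos (Pieces.hasPiece_fixed halt) hFnd
    (fixSp_inv g) (fun l => u + φ l * w) (by
      rw [Finset.sum_add_distrib, ← Finset.sum_mul, hφs, Finset.sum_const, Finset.card_univ, Fintype.card_fin,
        smul_eq_mul, ← he]
      calc (t * u + e / c * w) * 2 = t * (2 * u) + 2 * w * (e / c) := by ring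
        _ = e := by rw [← hu, ← hw, ← hm]; exact he2)
  obtain ⟨B, hB, hBo, hBsup⟩ := Pieces.exists_family halt hiso hinj hc0 hpf hWnd hWi (fun l => a / c - φ l) (by
    have h6 : (∑ l, (a / c - φ l)) + ∑ l, φ l = t * (a / c) := by
      rw [← Finset.sum_add_distrib, Finset.sum_congr rfl fun l _ => Nat.sub_add_cancel (hφ l)]
      simp
    rw [hφs] at h6
    rw [show ∑ l, (a / c - φ l) = s by omega, hs, mul_comm])
  have hAB : ∀ l l', Pieces.OrthTo (SympStd.sympB d F) (A l) (B l') := fun l l' x hx y hy =>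
    (mem_perp.1 ((hB l').1 hy)).2 x ((hA l).1 hx)
  have hd : ∀ l, finrank F ↥(A l ⊔ B l) = a := fun l => by
    rw [finrank_sup_of_disjoint (Pieces.nd_sup halt (hA l).2.1 (hB l).2.1 (hAB l l)).2, (hA l).2.2.2, (hB l).2.2.2]
    calc (u + φ l * w) * 2 + (a / c - φ l) * c = 2 * u + (φ l + (a / c - φ l)) * c := by rw [hw]; ring
      _ = a := by rw [Nat.add_sub_cancel' (hφ l), ← hu, mul_comm]; exact ha2
  have htop : (⨆ l, A l ⊔ B l) = ⊤ := by rw [iSup_sup_eq, hAsup, hBsup, hsup]
  refine ⟨fun l => A l ⊔ B l, ⟨⟨ht, ha, hd, S5958.indep_of_dims _ a hd htop (by rw [SympStd.finrank_vec, hat, mul_comm]),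
    htop⟩, fun l x hx hx0 => ?_, fun l l' hne x hx y hy => ?_⟩, 1, fun l => ?_⟩
  · obtain ⟨y, hy, hxy⟩ := (Pieces.nd_sup halt (hA l).2.1 (hB l).2.1 (hAB l l)).1 x hx hx0
    exact ⟨y, hy, by rwa [← SympStd.sympB_apply]⟩
  · obtain ⟨x₁, hx₁, x₂, hx₂, rfl⟩ := Submodule.mem_sup.1 hx
    obtain ⟨y₁, hy₁, y₂, hy₂, rfl⟩ := Submodule.mem_sup.1 hy
    rw [← SympStd.sympB_apply]
    simp only [map_add, LinearMap.add_apply, hAo l l' hne x₁ hx₁ y₁ hy₁, hBo l l' hne x₂ hx₂ y₂ hy₂,
      hAB l l' x₁ hx₁ y₂ hy₂, ((hAB l' l).symm halt) x₂ hx₂ y₁ hy₁, add_zero]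
  · exact Pieces.map_eq_of_inv hinj (inv_sup (hA l).2.2.1 (hB l).2.2.1)


/-- Elements of odd prime order of PSp_n(q) and imprimitive subgroups. Here `T = PSp_n(q)`, `n = 2d ≥ 4`, `(n, q) ≠ (4, 2)`, realised through the symplectic matrices over the field `F` with `q` elements and the standard alternating form; `n = a·t` with `a` even and `t ≥ 2`, and Ω is the (nonempty) set of orthogonal decompositions of `F^n` into `t` nondegenerate subspaces of dimension `a` (unordered; counted as ordered ones divided by `t!`), whose stabilizers are the imprimitive subgroups of type Sp_a(q) ≀ S_t (maximality is not assumed); an element of `T` of prime order `r` (a symplectic matrix `x` with `x^r` scalar, `x` not scalar) fixes a point of Ω when it permutes the summands of some such decomposition. Let `r ≠ p` be an odd prime dividing the number of such decompositions, let `i` be the multiplicative order of `q` modulo `r`, `c = i` if `i` is even and `c = 2i` if `i` is odd, and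 write `k = n mod c`, `ℓ = a mod c`. Then every element of `T` of order `r` stabilizes such a decomposition if and only if `c ≤ a` and `k = t·ℓ`. -/
theorem result {F : Type*} [Field F] [Fintype F] {p : ℕ} [Fact p.Prime] [CharP F p] {q : ℕ} (hq : Fintype.card F = q)
    (d : ℕ) (hd : 2 ≤ d) (hT : (d, q) ≠ (2, 2))
    (a t : ℕ) (hat : 2 * d = a * t) (ha : 2 ≤ a) (hae : Even a) (ht : 2 ≤ t)
    (r : ℕ) [Fact r.Prime] (hr2 : r ≠ 2) (hrp : r ≠ p) (hΩ : r ∣ Nat.card {D : Fin t → Submodule F (Fin d ⊕ Fin d → F) // (Cfsg.Geo.IsMDecomposition a D ∧ (∀ j, ∀ u ∈ D j, u ≠ 0 → ∃ v ∈ D j, Cfsg.sympForm d F u v ≠ 0) ∧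
          (∀ j j', j ≠ j' → ∀ u ∈ D j, ∀ v ∈ D j', Cfsg.sympForm d F u v = 0))} / Nat.factorial t)
    (i c : ℕ) (hi : i = orderOf (q : ZMod r)) (hc : c = if Even i then i else 2 * i) :
    (∀ x : ↥(Matrix.symplecticGroup (Fin d) F),
      (∃ z : F, ((x ^ r : ↥(Matrix.symplecticGroup (Fin d) F)) : Matrix (Fin d ⊕ Fin d) (Fin d ⊕ Fin d) F) = z • (1 : Matrix (Fin d ⊕ Fin d) (Fin d ⊕ Fin d) F)) →
      (∀ z : F, (x : Matrix (Fin d ⊕ Fin d) (Fin d ⊕ Fin d) F) ≠ z • (1 : Matrix (Fin d ⊕ Fin d) (Fin d ⊕ Fin d) F)) →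
      ∃ D : Fin t → Submodule F (Fin d ⊕ Fin d → F), (Cfsg.Geo.IsMDecomposition a D ∧ (∀ j, ∀ u ∈ D j, u ≠ 0 → ∃ v ∈ D j, Cfsg.sympForm d F u v ≠ 0) ∧
          (∀ j j', j ≠ j' → ∀ u ∈ D j, ∀ v ∈ D j', Cfsg.sympForm d F u v = 0)) ∧
        ∃ σ : Equiv.Perm (Fin t), ∀ j, (D j).map (Matrix.toLin' (x : Matrix (Fin d ⊕ Fin d) (Fin d ⊕ Fin d) F)) = D (σ j)) ↔
    (c ≤ a ∧ (2 * d) % c = t * (a % c)) := by
  classical
  subst hq
  have hr0 : (r : F) ≠ 0 := natCast_prime_ne_zero p hrp
  have hr3 : 3 ≤ r := by have := (Fact.out : r.Prime).two_le; omega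
  have hodd : Odd r := (Fact.out : r.Prime).odd_of_ne_two hr2
  have hi0 : 0 < i := hi ▸ order_pos p hrp
  have hc0 : 0 < c := by rw [hc]; split_ifs <;> omega
  have hir : i ∣ r - 1 := hi ▸ ZMod.orderOf_dvd_card_sub_one
    (fun e => hrp ((charP_eq_of_cast_eq_zero p r).1 e))
  have hcr : c ≤ r - 1 := by
    refine Nat.le_of_dvd (by omega) ?_
    rw [hc]
    split_ifs with h
    · exact hir
    · exact (Nat.prime_two.coprime_iff_not_dvd.2 fun e => h (even_iff_two_dvd.2 e)).mul_dvd_of_dvd_of_dvd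
        (by obtain ⟨m, hm⟩ := hodd; exact ⟨m, by omega⟩) hir
  obtain ⟨e, hce⟩ : 2 ∣ c := by
    rw [hc]
    split_ifs with h
    · exact even_iff_two_dvd.1 h
    · exact dvd_mul_right _ _
  constructor
  · intro hall
    have hne : Nonempty {D : Fin t → Submodule F (Fin d ⊕ Fin d → F) // (Cfsg.Geo.IsMDecomposition a D ∧ (∀ j, ∀ u ∈ D j, u ≠ 0 → ∃ v ∈ D j, Cfsg.sympForm d F u v ≠ 0) ∧
          (∀ j j', j ≠ j' → ∀ u ∈ D j, ∀ v ∈ D j', Cfsg.sympForm d F u v = 0))} := by
      obtain ⟨D, hD, -⟩ := exists_symp_decomp (B := SympStd.sympB d F) (x := LinearMap.id)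
        SympStd.sympB_isAlt SympStd.sympB_nondegenerate (fun u v => rfl) (z := 1)
        (fun v => (one_smul F v).symm) a t (by simp; omega) (by omega) hae ht
      exact ⟨⟨D, by simpa only [SympStd.sympB_apply] using hD⟩⟩
    obtain ⟨b, hb⟩ := exists_prime_orderOf_dvd_card' r (dvd_card hae hΩ hne)
    have hbr : (Matrix.toLin' (b : Matrix (Fin d ⊕ Fin d) (Fin d ⊕ Fin d) F)) ^ r = 1 := by
      rw [← Matrix.toLin'_pow, ← SubmonoidClass.coe_pow, show b ^ r = 1 by rw [← hb, pow_orderOf_eq_one]]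
      exact Matrix.toLin'_one
    have hcn : e ≤ d := by
      obtain ⟨s, hs⟩ := free_dim hr2 hr0 hi hc (iso_of_sp b) hbr
      rcases s with _ | s
      · exfalso
        rw [mul_zero, add_zero] at hs
        have htop := Submodule.eq_top_of_finrank_eq (hs.trans (SympStd.finrank_vec (F := F) (m := d)).symm)
        have h1 : b = 1 := SympStd.sp_ext fun w => by
          rw [← Matrix.toLin'_apply, mem_fixSp.1 (htop ▸ Submodule.mem_top)]
          exact (Matrix.one_mulVec w).symm
        rw [h1, orderOf_one] at hb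
        exact (Fact.out : r.Prime).one_lt.ne hb
      · rw [mul_add, mul_one] at hs; omega
    have test : ∀ x : symplecticGroup (Fin d) F,
        (∀ v, ((Matrix.toLin' (x : Matrix (Fin d ⊕ Fin d) (Fin d ⊕ Fin d) F)) ^ r) v = v) →
        finrank F (fixSp (Matrix.toLin' (x : Matrix (Fin d ⊕ Fin d) (Fin d ⊕ Fin d) F))) < 2 * d →
        ∃ D : Fin t → Submodule F (Fin d ⊕ Fin d → F), (Cfsg.Geo.IsMDecomposition a D ∧ (∀ j, ∀ u ∈ D j, u ≠ 0 → ∃ v ∈ D j, Cfsg.sympForm d F u v ≠ 0) ∧
          (∀ j j', j ≠ j' → ∀ u ∈ D j, ∀ v ∈ D j', Cfsg.sympForm d F u v = 0)) ∧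
        ∃ σ : Equiv.Perm (Fin t), ∀ j, (D j).map (Matrix.toLin' (x : Matrix (Fin d ⊕ Fin d) (Fin d ⊕ Fin d) F)) = D (σ j) := by
      intro x hx hfix
      refine hall x ⟨1, ?_⟩ fun z hz => ?_
      · refine (SubmonoidClass.coe_pow x r).trans ?_
        refine Matrix.toLin'.injective (LinearMap.ext fun v => ?_)
        rw [Matrix.toLin'_pow, one_smul, Matrix.toLin'_one]
        exact hx v
      · have hz' : ∀ v, Matrix.toLin' (x : Matrix (Fin d ⊕ Fin d) (Fin d ⊕ Fin d) F) v = z • v := fun v => by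
          rw [Matrix.toLin'_apply, hz, Matrix.smul_mulVec, Matrix.one_mulVec]
        let i₀ : Fin d := ⟨0, by omega⟩
        have hz2 : z * z = 1 := by
          have h1 := iso_of_sp x (Pi.single (Sum.inr i₀) 1) (Pi.single (Sum.inl i₀) 1)
          simp only [hz', map_smul, LinearMap.smul_apply, SympStd.sympB_apply, SympStd.sympForm_inr_inl,
            if_true, smul_eq_mul, mul_one] at h1
          exact h1
        have hzr : z ^ r = 1 := by
          have h1 := hx (Pi.single (Sum.inr i₀) 1)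
          rw [show Matrix.toLin' (x : Matrix (Fin d ⊕ Fin d) (Fin d ⊕ Fin d) F) = z • 1 from LinearMap.ext hz',
            _root_.smul_pow, one_pow, LinearMap.smul_apply, Module.End.one_apply] at h1
          simpa using congrFun h1 (Sum.inr i₀)
        have hz1 : z = 1 := by
          obtain ⟨m, hm⟩ := hodd
          rw [hm, pow_succ, pow_mul, pow_two, hz2, one_pow, one_mul] at hzr
          exact hzr
        have htop : fixSp (Matrix.toLin' (x : Matrix (Fin d ⊕ Fin d) (Fin d ⊕ Fin d) F)) = ⊤ :=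
          eq_top_iff.2 fun v _ => mem_fixSp.2 (by rw [hz', hz1, one_smul])
        rw [htop, finrank_top, SympStd.finrank_vec] at hfix
        omega
    obtain ⟨x, hx, hxfix⟩ := exists_model p hrp hr2 hi hc (d := d) (s := d / e) hce (Nat.div_mul_le_self _ _)
    have hmod : 2 * (d - d / e * e) = (2 * d) % c := by
      rw [hce, Nat.mul_mod_mul_left]
      have := Nat.mod_add_div d e
      rw [mul_comm e] at this
      omega
    rw [hmod] at hxfix
    have hlt := Nat.mod_lt (2 * d) hc0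
    obtain ⟨D, hD, σ, hσ⟩ := test x hx (by omega)
    have hxr : (Matrix.toLin' (x : Matrix (Fin d ⊕ Fin d) (Fin d ⊕ Fin d) F)) ^ r = 1 :=
      LinearMap.ext fun v => by rw [hx]; rfl
    -- the invariant parts
    have hfixed : ∀ (y : symplecticGroup (Fin d) F) (hy : (Matrix.toLin' (y : Matrix (Fin d ⊕ Fin d) (Fin d ⊕ Fin d) F)) ^ r = 1)
        (D : Fin t → Submodule F (Fin d ⊕ Fin d → F)), (Cfsg.Geo.IsMDecomposition a D ∧ (∀ j, ∀ u ∈ D j, u ≠ 0 → ∃ v ∈ D j, Cfsg.sympForm d F u v ≠ 0) ∧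
          (∀ j j', j ≠ j' → ∀ u ∈ D j, ∀ v ∈ D j', Cfsg.sympForm d F u v = 0)) →
        ∀ j, (D j).map (Matrix.toLin' (y : Matrix (Fin d ⊕ Fin d) (Fin d ⊕ Fin d) F)) = D j →
        ∃ k, finrank F ↥(fixSp (Matrix.toLin' (y : Matrix (Fin d ⊕ Fin d) (Fin d ⊕ Fin d) F)) ⊓ D j) + c * k = a := by
      intro y hy D hD j hj
      set g := Matrix.toLin' (y : Matrix (Fin d ⊕ Fin d) (Fin d ⊕ Fin d) F)
      have hinj : Function.Injective g := fun u v e => by
        have := congrArg (g ^ (r - 1)) e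
        rwa [← Module.End.mul_apply, ← Module.End.mul_apply, ← pow_succ,
          Nat.sub_add_cancel (Fact.out : r.Prime).one_lt.le, hy] at this
      obtain ⟨-, -, hsum, hWnd, hWi, hfree⟩ := Pieces.fix_split SympStd.sympB_isAlt (iso_of_sp y) hr0 hy
        (W := D j) (fun v hv hv0 => by simpa only [SympStd.sympB_apply] using hD.2.1 j v hv hv0) hj.le
      obtain ⟨k, hk⟩ := Pieces.dvd_finrank SympStd.sympB_isAlt (iso_of_sp y) hinj hc0
        (Pieces.hasPiece_free SympStd.sympB_isAlt (iso_of_sp y) hr2 hr0 hy hfree hi hc) hWnd hWi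
      exact ⟨k, by rw [← hk, hsum, hD.1.finrank_eq]⟩
    rcases Nat.lt_or_ge a c with hac | hca
    · exfalso
      obtain ⟨y, hy, hyfix⟩ := exists_model p hrp hr2 hi hc (d := d) (s := 1) hce (by omega)
      obtain ⟨D', hD', σ', hσ'⟩ := test y hy (by rw [hyfix]; omega)
      have hyr : (Matrix.toLin' (y : Matrix (Fin d ⊕ Fin d) (Fin d ⊕ Fin d) F)) ^ r = 1 :=
        LinearMap.ext fun v => by rw [hy]; rfl
      by_cases h1 : σ' = 1
      · have hall' : ∀ j, D' j ≤ fixSp (Matrix.toLin' (y : Matrix (Fin d ⊕ Fin d) (Fin d ⊕ Fin d) F)) := fun j => by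
          obtain ⟨k, hk⟩ := hfixed y hyr D' hD' j (by rw [hσ', h1]; rfl)
          have hk0 : k = 0 := by
            rcases k with _ | k
            · rfl
            · rw [mul_add, mul_one] at hk; omega
          rw [hk0, mul_zero, add_zero, ← hD'.1.finrank_eq j] at hk
          exact inf_eq_right.1 (Submodule.eq_of_le_of_finrank_eq inf_le_right hk)
        have htop : fixSp (Matrix.toLin' (y : Matrix (Fin d ⊕ Fin d) (Fin d ⊕ Fin d) F)) = ⊤ := by
          rw [eq_top_iff, ← hD'.1.iSup_eq_top]; exact iSup_le hall'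
        rw [htop, finrank_top, SympStd.finrank_vec] at hyfix
        omega
      · obtain ⟨-, h7⟩ := analyse_sum hr0 hi _ hy hD'.1 σ' hσ' h1
        have : (r - 1) * 2 ≤ (r - 1) * a := Nat.mul_le_mul_left _ ha
        rw [hyfix] at h7
        omega
    · refine ⟨hca, ?_⟩
      have hσ1 : σ = 1 := by
        by_contra h1
        have := (analyse_sum hr0 hi _ hx hD.1 σ hσ h1).1
        omega
      have hpart : ∀ j, a % c ≤ finrank F ↥(fixSp (Matrix.toLin' (x : Matrix (Fin d ⊕ Fin d) (Fin d ⊕ Fin d) F)) ⊓ D j) :=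
        fun j => by
        obtain ⟨k, hk⟩ := hfixed x hxr D hD j (by rw [hσ, hσ1]; rfl)
        rw [← hk, Nat.add_mul_mod_self_left]
        exact Nat.mod_le _ _
      have h4 : t * (a % c) ≤ (2 * d) % c := by
        rw [← hxfix]
        refine le_trans ?_ (Submodule.finrank_mono (show Finset.univ.sup (fun j =>
          fixSp (Matrix.toLin' (x : Matrix (Fin d ⊕ Fin d) (Fin d ⊕ Fin d) F)) ⊓ D j) ≤ _ from
          Finset.sup_le fun j _ => inf_le_left))
        rw [S5958.finrank_finset_sup (hD.1.indep.mono fun j => inf_le_right)]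
        refine le_trans ?_ (Finset.sum_le_sum fun j _ => hpart j)
        simp
      have h5 : (2 * d) % c = (t * (a % c)) % c := by
        rw [hat, mul_comm a t, Nat.mul_mod t a, Nat.mul_mod t (a % c), Nat.mod_mod]
      rw [h5, Nat.mod_eq_of_lt (by omega)]
  · rintro ⟨-, hmod⟩ x ⟨z, hz⟩ _
    set f := Matrix.toLin' (x : Matrix (Fin d ⊕ Fin d) (Fin d ⊕ Fin d) F) with hfdef
    have hf : ∀ v, (f ^ r) v = z • v := fun v => by
      rw [hfdef, ← Matrix.toLin'_pow, ← SubmonoidClass.coe_pow, hz, map_smul, Matrix.toLin'_one]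
      rfl
    let i₀ : Fin d := ⟨0, by omega⟩
    have hz2 : z * z = 1 := by
      have h1 := iso_of_sp (x ^ r) (Pi.single (Sum.inr i₀) 1) (Pi.single (Sum.inl i₀) 1)
      simp only [hz, map_smul, LinearMap.smul_apply, Matrix.toLin'_one, LinearMap.id_apply, SympStd.sympB_apply,
        SympStd.sympForm_inr_inl, if_true, smul_eq_mul, mul_one] at h1
      exact h1
    have hzr : z ^ r = z := by
      obtain ⟨m, hm⟩ := hodd
      rw [hm, pow_succ, pow_mul, pow_two, hz2, one_pow, one_mul]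
    have hg : (z • f) ^ r = 1 := LinearMap.ext fun v => by
      rw [_root_.smul_pow, hzr, LinearMap.smul_apply, hf, smul_smul, hz2, one_smul]; rfl
    have hiso : ∀ u v, SympStd.sympB d F ((z • f) u) ((z • f) v) = SympStd.sympB d F u v := fun u v => by
      simp only [LinearMap.smul_apply, map_smul, smul_eq_mul]
      rw [hfdef, iso_of_sp, ← mul_assoc, hz2, one_mul]
    obtain ⟨D, hD, σ, hσ⟩ := exists_decomp_of_shape hr2 hr0 hat (by omega) hae ht hi hc hc0 hmod _ hiso hg
    exact ⟨D, hD, σ, fun j => by rw [← hσ j, Submodule.map_smul _ _ _ (left_ne_zero_of_mul_eq_one hz2)]⟩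

end Cfsg.Agent.S5961
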