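import Cfsg.Statements.S5956
import Cfsg.Agent.Lib.Forms.Elusive.SympUnipotent
import Cfsg.Agent.Lib.Forms.Elusive.OrthUnipotent
import Cfsg.Agent.Lib.Forms.Elusive.Monomial
import Cfsg.Agent.S2582
import Cfsg.Agent.S5961

set_option autoImplicit false
open scoped MatrixGroups
open Cfsg

namespace Cfsg.Agent.S5956

open Cfsg.Agent.Forms Cfsg.Agent.Forms.Elusive Cfsg.Agent.Classical Module Matrix
open Cfsg.Agent.Classical.JordanChains (Idx Chains ChainsOn parts)

variable {F : Type*} [Field F]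

local notation "V" d => (Fin d ⊕ Fin d → F)

theorem ndTop {d : ℕ} : NdOn (SympStd.sympB d F) (⊤ : Submodule F (V d)) := fun v _ hv => by
  by_contra hcon
  push Not at hcon
  exact hv (SympStd.sympB_nondegenerate.1 v fun u => hcon u trivial)

theorem ndOn_iff {d : ℕ} {W : Submodule F (V d)} :
    NdOn (SympStd.sympB d F) W ↔ ∀ u ∈ W, u ≠ 0 → ∃ v ∈ W, Cfsg.sympForm d F u v ≠ 0 := by
  simp only [NdOn, SympStd.sympB_apply]

theorem exists_nd [Fintype F] {d k : ℕ} (hk : k ≤ d) :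
    ∃ W : Submodule F (V d), NdOn (SympStd.sympB d F) W ∧ finrank F W = 2 * k := by
  have htop : fixSp (LinearMap.id : (V d) →ₗ[F] (V d)) = ⊤ := eq_top_iff.2 fun v _ => mem_fixSp.2 rfl
  obtain ⟨U, -, hU, -, hd⟩ := Pieces.exists_multi (g := LinearMap.id) SympStd.sympB_isAlt
    (fun u v => rfl) Function.injective_id two_pos (W := ⊤)
    (htop ▸ Pieces.hasPiece_fixed SympStd.sympB_isAlt) ndTop (by simp) k
    (by rw [finrank_top, SympStd.finrank_vec]; omega)
  exact ⟨U, hU, by omega⟩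

/-- a basis adapted to a nondegenerate subspace -/
theorem exists_adapted {d k : ℕ} {W : Submodule F (V d)} (hW : NdOn (SympStd.sympB d F) W)
    (hk : finrank F W = 2 * k) :
    ∃ b : Basis ((Fin k ⊕ Fin (d - k)) ⊕ (Fin k ⊕ Fin (d - k))) F (V d),
      (∀ i j, SympStd.sympB d F (b (Sum.inl i)) (b (Sum.inr j)) = if i = j then 1 else 0) ∧
      (∀ i j, SympStd.sympB d F (b (Sum.inl i)) (b (Sum.inl j)) = 0) ∧
      (∀ i j, SympStd.sympB d F (b (Sum.inr i)) (b (Sum.inr j)) = 0) ∧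
      Submodule.span F (b '' {z | (Sum.elim id id z).isLeft}) = W := by
  classical
  have halt : (SympStd.sympB d F).IsAlt := SympStd.sympB_isAlt
  obtain ⟨hsup, hdisj, hsum, hRnd, hort⟩ := Pieces.nd_split halt ndTop hW le_top
  rw [finrank_top, SympStd.finrank_vec, hk] at hsum
  have hfam : ∀ {U : Submodule F (V d)} {l : ℕ}, NdOn (SympStd.sympB d F) U → finrank F U = 2 * l →
      ∃ e f : Fin l → (V d), Bases.IsSympFamily (SympStd.sympB d F) U e f := by
    intro U l hU hl
    obtain ⟨l', e, f, h⟩ := Bases.exists_sympFamily (SympStd.sympB d F) halt U fun u hu h => by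
      by_contra h0
      obtain ⟨v, hv, huv⟩ := hU u hu h0
      exact huv (h v hv)
    have := h.finrank_eq
    obtain rfl : l' = l := by omega
    exact ⟨e, f, h⟩
  obtain ⟨e, f, hef⟩ := hfam hW hk
  obtain ⟨e', f', hef'⟩ := hfam hRnd (show _ = 2 * (d - k) by omega)
  set R := ⊤ ⊓ (SympStd.sympB d F).orthogonal W with hR
  have hsym := Pieces.OrthTo.symm halt hort
  have hF : Bases.IsSympFamily (SympStd.sympB d F) ⊤ (Sum.elim e e') (Sum.elim f f') := by
    refine ⟨fun _ => trivial, fun _ => trivial, ?_, ?_, ?_, ?_⟩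
    · rintro (i | i) (j | j)
      · simp [hef.ef]
      · simp [hort _ (hef.e_mem i) _ (hef'.f_mem j)]
      · simp [hsym _ (hef'.e_mem i) _ (hef.f_mem j)]
      · simp [hef'.ef]
    · rintro (i | i) (j | j)
      · simp [hef.ee]
      · simp [hort _ (hef.e_mem i) _ (hef'.e_mem j)]
      · simp [hsym _ (hef'.e_mem i) _ (hef.e_mem j)]
      · simp [hef'.ee]
    · rintro (i | i) (j | j)
      · simp [hef.ff]
      · simp [hort _ (hef.f_mem i) _ (hef'.f_mem j)]
      · simp [hsym _ (hef'.f_mem i) _ (hef.f_mem j)]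
      · simp [hef'.ff]
    · rw [← hsup]
      refine sup_le (hef.span.trans (Submodule.span_mono ?_)) (hef'.span.trans (Submodule.span_mono ?_))
      · rintro _ ⟨i | i, rfl⟩
        · exact ⟨Sum.inl (Sum.inl i), rfl⟩
        · exact ⟨Sum.inr (Sum.inl i), rfl⟩
      · rintro _ ⟨i | i, rfl⟩
        · exact ⟨Sum.inl (Sum.inr i), rfl⟩
        · exact ⟨Sum.inr (Sum.inr i), rfl⟩
  refine ⟨Basis.mk hF.linearIndependent hF.span, fun i j => by simp [hF.ef], fun i j => by simp [hF.ee],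
    fun i j => by simp [hF.ff], le_antisymm (Submodule.span_le.2 ?_) (hef.span.trans (Submodule.span_mono ?_))⟩
  · rintro _ ⟨z, hz, rfl⟩
    rcases z with (i | i) | (i | i) <;> simp at hz
    · simpa using hef.e_mem i
    · simpa using hef.f_mem i
  · rintro _ ⟨i | i, rfl⟩
    · exact ⟨Sum.inl (Sum.inl i), rfl, by simp⟩
    · exact ⟨Sum.inr (Sum.inl i), rfl, by simp⟩

/-- the number of nondegenerate subspaces divides a product -/
theorem card_dvd [Fintype F] {d k : ℕ} (hk : k ≤ d) :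
    Nat.card {W : Submodule F (V d) // finrank F ↥W = 2 * k ∧ (∀ u ∈ W, u ≠ 0 → ∃ v ∈ W, Cfsg.sympForm d F u v ≠ 0)} ∣
      ∏ j ∈ Finset.range k, ((Fintype.card F ^ (2 * (d - j)) - 1) * Fintype.card F ^ (2 * (d - j) - 1)) := by
  classical
  let G := symplecticGroup (Fin d) F
  let L : G → ((V d) →ₗ[F] (V d)) := fun g => Matrix.toLin' (g : Matrix (Fin d ⊕ Fin d) (Fin d ⊕ Fin d) F)
  have hcard : Nat.card G = (∏ j ∈ Finset.range k, ((Fintype.card F ^ (2 * (d - j)) - 1) * Fintype.card F ^ (2 * (d - j) - 1))) *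
      Nat.card (Classical.Symplectic.stabLow k : Subgroup (symplecticGroup (Fin d) F)) := by
    clear L
    induction k with
    | zero => rw [Classical.Symplectic.stabLow_zero, Subgroup.card_top]; simp [G]
    | succ k ih =>
      rw [ih (by omega), Classical.Symplectic.natCard_stabLow_step (show k < d by omega), Finset.prod_range_succ]
      ring
  letI : MulAction G (Submodule F (V d)) :=
    { smul := fun g W => W.map (L g)
      one_smul := fun W => by
        show W.map (L 1) = W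
        simp only [L]
        rw [OneMemClass.coe_one, Matrix.toLin'_one, Submodule.map_id]
      mul_smul := fun g h W => by
        show W.map (L (g * h)) = (W.map (L h)).map (L g)
        simp only [L]
        rw [MulMemClass.coe_mul, Matrix.toLin'_mul, Submodule.map_comp] }
  let W₀ : Submodule F (V d) := Submodule.span F
    {x | ∃ i : Fin d, (i : ℕ) < k ∧ (x = Pi.single (Sum.inl i) 1 ∨ x = Pi.single (Sum.inr i) 1)}
  obtain ⟨W₁, hW₁, hW₁d⟩ := exists_nd (F := F) hk
  have hinj : ∀ g : G, Function.Injective (L g) := fun g u v e => by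
    have := congrArg (L g⁻¹) e
    simp only [L, Matrix.toLin'_apply, Matrix.mulVec_mulVec, ← MulMemClass.coe_mul] at this
    rwa [inv_mul_cancel g, OneMemClass.coe_one, Matrix.one_mulVec, Matrix.one_mulVec] at this
  have horb : ∀ W : Submodule F (V d), NdOn (SympStd.sympB d F) W → finrank F W = 2 * k →
      MulAction.orbit G W = {U : Submodule F (V d) | finrank F ↥U = 2 * k ∧ (∀ u ∈ U, u ≠ 0 → ∃ v ∈ U, Cfsg.sympForm d F u v ≠ 0)} := by
    intro W hW hWd
    refine Set.ext fun U => ⟨?_, fun hU => ?_⟩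
    · rintro ⟨g, rfl⟩
      refine ⟨(Submodule.equivMapOfInjective _ (hinj g) W).finrank_eq.symm.trans hWd, ?_⟩
      rintro _ ⟨u, hu, rfl⟩ hu0
      obtain ⟨v, hv, huv⟩ := hW u hu fun e => hu0 (by rw [e, map_zero])
      refine ⟨L g v, ⟨v, hv, rfl⟩, ?_⟩
      simp only [L, Matrix.toLin'_apply]
      rwa [SympStd.sympForm_mulVec, ← SympStd.sympB_apply]
    · obtain ⟨b₀, a1, a2, a3, a4⟩ := exists_adapted hW hWd
      obtain ⟨b, b1, b2, b3, b4⟩ := exists_adapted (ndOn_iff.2 hU.2) hU.1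
      have halt : (SympStd.sympB d F).IsAlt := SympStd.sympB_isAlt
      let E := b₀.equiv b (Equiv.refl _)
      have hE : ∀ z, E (b₀ z) = b z := fun z => by simp [E, Basis.equiv_apply]
      have hEiso : ∀ u v, SympStd.sympB d F (E u) (E v) = SympStd.sympB d F u v := by
        have h : (SympStd.sympB d F).compl₁₂ (E : (V d) →ₗ[F] (V d)) (E : (V d) →ₗ[F] (V d)) = SympStd.sympB d F := by
          refine LinearMap.ext_basis b₀ b₀ fun x y => ?_
          rw [LinearMap.compl₁₂_apply, LinearEquiv.coe_coe, hE, hE]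
          rcases x with x | x <;> rcases y with y | y
          · rw [b2, a2]
          · rw [b1, a1]
          · rw [← LinearMap.IsAlt.neg halt (b (Sum.inl y)) (b (Sum.inr x)), b1,
              ← LinearMap.IsAlt.neg halt (b₀ (Sum.inl y)) (b₀ (Sum.inr x)), a1]
          · rw [b3, a3]
        exact fun u v => LinearMap.congr_fun₂ h u v
      refine ⟨SympStd.ofEquiv E fun u v => by rw [← SympStd.sympB_apply, ← SympStd.sympB_apply, hEiso], ?_⟩
      show W.map _ = U
      rw [← a4, ← b4, Submodule.map_span, ← Set.image_comp]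
      congr 1
      refine Set.image_congr fun z _ => ?_
      simp only [L, Function.comp_apply, Matrix.toLin'_apply, SympStd.ofEquiv_mulVec, hE]
  have hle : (Classical.Symplectic.stabLow k : Subgroup (symplecticGroup (Fin d) F)) ≤ MulAction.stabilizer G W₀ := by
    intro g hg
    show W₀.map (L g) = W₀
    simp only [W₀, Submodule.map_span]
    congr 1
    refine (Set.image_congr fun x hx => ?_).trans (Set.image_id _)
    obtain ⟨i, hi, rfl | rfl⟩ := hx <;> simp only [L, Matrix.toLin'_apply, id]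
    · exact (hg i hi).1
    · exact (hg i hi).2
  have hW₀ : finrank F W₀ = 2 * k ∧ NdOn (SympStd.sympB d F) W₀ := by
    let emb : Fin k ⊕ Fin k → Fin d ⊕ Fin d := Sum.map (Fin.castLE hk) (Fin.castLE hk)
    have hrange : W₀ = Submodule.span F (Set.range fun a => (Pi.single (emb a) 1 : V d)) := by
      refine congrArg (Submodule.span F) (Set.ext fun x => ⟨?_, ?_⟩)
      · rintro ⟨i, hi, rfl | rfl⟩
        · exact ⟨Sum.inl ⟨i, hi⟩, rfl⟩
        · exact ⟨Sum.inr ⟨i, hi⟩, rfl⟩
      · rintro ⟨a | a, rfl⟩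
        · exact ⟨Fin.castLE hk a, a.2, Or.inl rfl⟩
        · exact ⟨Fin.castLE hk a, a.2, Or.inr rfl⟩
    have hei : Function.Injective emb := (Fin.castLE_injective hk).sumMap (Fin.castLE_injective hk)
    have hli : LinearIndependent F fun a => (Pi.single (emb a) 1 : V d) := by
      simpa [Function.comp_def] using ((Pi.basisFun F (Fin d ⊕ Fin d)).linearIndependent.comp emb hei)
    refine ⟨?_, fun y hy hy0 => ?_⟩
    · rw [hrange, finrank_span_eq_card hli, Fintype.card_sum, Fintype.card_fin]; omega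
    · rw [hrange] at hy ⊢
      obtain ⟨c, rfl⟩ := (Submodule.mem_span_range_iff_exists_fun F).1 hy
      obtain ⟨a, ha⟩ : ∃ a, c a ≠ 0 := by
        by_contra h
        push Not at h
        exact hy0 (by simp [h])
      refine ⟨Pi.single (emb a.swap) 1, Submodule.subset_span ⟨a.swap, rfl⟩, ?_⟩
      rw [map_sum, LinearMap.sum_apply, Finset.sum_eq_single a]
      · rcases a with a | a <;> simp [emb, SympStd.sympB_apply, SympStd.sympForm_inl_inr, SympStd.sympForm_inr_inl, ha]
      · intro b _ hb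
        rcases a with a | a <;> rcases b with b | b <;>
          simp [emb, SympStd.sympB_apply, SympStd.sympForm_inl_inr, SympStd.sympForm_inr_inl, SympStd.sympForm_inl_inl,
            SympStd.sympForm_inr_inr, (Fin.castLE_injective hk).eq_iff] <;>
          (intro e; subst e; exact absurd rfl hb)
      · simp
  have h1 := MulAction.index_stabilizer G W₀
  rw [horb W₀ hW₀.2 hW₀.1] at h1
  obtain ⟨a, ha⟩ := Subgroup.card_dvd_of_le hle
  have h2 := Subgroup.index_mul_card (MulAction.stabilizer G W₀)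
  rw [h1, ha, hcard] at h2
  refine ⟨a, Nat.eq_of_mul_eq_mul_right
    (Nat.card_pos : 0 < Nat.card (Classical.Symplectic.stabLow k : Subgroup (symplecticGroup (Fin d) F))) ?_⟩
  rw [← h2, ← Nat.card_coe_set_eq, ← mul_assoc, mul_right_comm]
  rfl

theorem dvd_pow_iff [Fintype F] {r i c a : ℕ} [hr : Fact r.Prime]
    (hi : i = orderOf ((Fintype.card F : ℕ) : ZMod r)) (hc : c = if Even i then i else 2 * i) :
    r ∣ Fintype.card F ^ (2 * a) - 1 ↔ c ∣ 2 * a := by
  rw [← Nat.modEq_iff_dvd' (Nat.one_le_pow _ _ Fintype.card_pos), ← ZMod.natCast_eq_natCast_iff,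
    Nat.cast_pow, Nat.cast_one, eq_comm, ← orderOf_dvd_iff_pow_eq_one, ← hi, hc]
  split_ifs with he
  · exact Iff.rfl
  · exact ⟨fun h => Nat.mul_dvd_mul_left 2 ((Nat.Coprime.dvd_mul_left
      (Nat.coprime_two_right.2 (Nat.not_even_iff_odd.1 he))).1 h), fun h => (Dvd.intro_left 2 rfl).trans h⟩

theorem dvd_factor [Fintype F] (p : ℕ) [Fact p.Prime] [CharP F p] {r i c d k : ℕ} [hr : Fact r.Prime] (hrp : r ≠ p)
    (hi : i = orderOf ((Fintype.card F : ℕ) : ZMod r)) (hc : c = if Even i then i else 2 * i) (hk : k ≤ d)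
    (hΩ : r ∣ Nat.card {W : Submodule F (V d) // finrank F ↥W = 2 * k ∧ (∀ u ∈ W, u ≠ 0 → ∃ v ∈ W, Cfsg.sympForm d F u v ≠ 0)}) :
    ∃ j < k, c ∣ 2 * (d - j) := by
  obtain ⟨j, hj, hdvd⟩ := (Prime.dvd_finsetProd_iff hr.out.prime _).1 (hΩ.trans (card_dvd hk))
  refine ⟨j, Finset.mem_range.1 hj, (dvd_pow_iff hi hc).1 ((hr.out.dvd_mul.1 hdvd).resolve_right fun h => hrp ?_)⟩
  obtain ⟨n, -, hn⟩ := FiniteField.card F p
  have h' := hr.out.dvd_of_dvd_pow h
  rw [hn] at h'
  exact (Nat.prime_dvd_prime_iff_eq hr.out Fact.out).1 (hr.out.dvd_of_dvd_pow h')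

/-- the normalised element -/
theorem sq_scalar {d r : ℕ} (hd : 0 < d) (x : symplecticGroup (Fin d) F) {z : F}
    (hx : ((x ^ r : symplecticGroup (Fin d) F) : Matrix (Fin d ⊕ Fin d) (Fin d ⊕ Fin d) F) = z • (1 : Matrix (Fin d ⊕ Fin d) (Fin d ⊕ Fin d) F)) :
    z * z = 1 ∧ ∀ v, ((Matrix.toLin' (x : Matrix (Fin d ⊕ Fin d) (Fin d ⊕ Fin d) F)) ^ r) v = z • v := by
  have h2 : ∀ v, ((Matrix.toLin' (x : Matrix (Fin d ⊕ Fin d) (Fin d ⊕ Fin d) F)) ^ r) v = z • v := fun v => by
    rw [← Matrix.toLin'_pow, ← SubmonoidClass.coe_pow, hx, Matrix.toLin'_apply, Matrix.smul_mulVec, Matrix.one_mulVec]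
  refine ⟨?_, h2⟩
  have h3 := SympStd.sympForm_mulVec (x ^ r) (Pi.single (Sum.inl ⟨0, hd⟩) 1) (Pi.single (Sum.inr ⟨0, hd⟩) 1)
  rw [hx, Matrix.smul_mulVec, Matrix.smul_mulVec, Matrix.one_mulVec, Matrix.one_mulVec, ← SympStd.sympB_apply,
    map_smul, map_smul, LinearMap.smul_apply, smul_eq_mul, smul_eq_mul, SympStd.sympB_apply,
    SympStd.sympForm_inl_inr, if_pos rfl] at h3
  have h4 : (z * z - 1) * (-1 : F) = 0 := by linear_combination h3
  exact sub_eq_zero.1 ((mul_eq_zero.1 h4).resolve_right (by simp))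

theorem normalised {d r : ℕ} (hd : 0 < d) (hr : Odd r) (x : symplecticGroup (Fin d) F) {z : F}
    (hx : ((x ^ r : symplecticGroup (Fin d) F) : Matrix (Fin d ⊕ Fin d) (Fin d ⊕ Fin d) F) = z • (1 : Matrix (Fin d ⊕ Fin d) (Fin d ⊕ Fin d) F)) :
    ∃ g : (V d) →ₗ[F] (V d), g ^ r = 1 ∧ (∀ u v, SympStd.sympB d F (g u) (g v) = SympStd.sympB d F u v) ∧
      (∀ W : Submodule F (V d), W.map g ≤ W → W.map (Matrix.toLin' (x : Matrix (Fin d ⊕ Fin d) (Fin d ⊕ Fin d) F)) ≤ W) := by
  obtain ⟨hz, hpow⟩ := sq_scalar hd x hx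
  set T := Matrix.toLin' (x : Matrix (Fin d ⊕ Fin d) (Fin d ⊕ Fin d) F) with hT
  refine ⟨z • T, LinearMap.ext fun v => ?_, fun u v => ?_, fun W hW => ?_⟩
  · rw [_root_.smul_pow, LinearMap.smul_apply, hpow, smul_smul, Module.End.one_apply]
    obtain ⟨k, rfl⟩ := hr
    rw [pow_succ, pow_mul, sq, hz, one_pow, one_mul, hz, one_smul]
  · simp only [LinearMap.smul_apply, map_smul, smul_eq_mul]
    rw [hT, S5961.iso_of_sp, ← mul_assoc, hz, one_mul]
  · rintro _ ⟨w, hw, rfl⟩
    have := W.smul_mem z (hW ⟨w, hw, rfl⟩)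
    rwa [LinearMap.smul_apply, smul_smul, hz, one_smul] at this

/-- a nondegenerate invariant plane -/
theorem hasPiece_invol (h2 : (2 : F) ≠ 0) {d : ℕ} {T : (V d) →ₗ[F] (V d)}
    (hiso : ∀ u v, SympStd.sympB d F (T u) (T v) = SympStd.sympB d F u v) {z : F} (hz : z = 1 ∨ z = -1)
    (hT : ∀ v, T (T v) = z • v) (W : Submodule F (V d)) : Pieces.HasPiece (SympStd.sympB d F) T 2 W := by
  intro W' _ hnd hinv hne
  have halt : (SympStd.sympB d F).IsAlt := SympStd.sympB_isAlt
  obtain ⟨v, hv, hv0⟩ := Submodule.exists_mem_ne_zero_of_ne_bot hne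
  have mk : ∀ a b, a ∈ W' → b ∈ W' → SympStd.sympB d F a b ≠ 0 →
      (∀ y ∈ ({a, b} : Set (V d)), T y ∈ Submodule.span F ({a, b} : Set (V d))) →
      ∃ P : Submodule F (V d), P ≤ W' ∧ NdOn (SympStd.sympB d F) P ∧ P.map T ≤ P ∧ finrank F P = 2 := by
    intro a b ha hb hab hT'
    obtain ⟨h1, h2', h3, -⟩ := plane_split halt ha hb hab
    refine ⟨_, h3, h2', ?_, h1⟩
    rw [Submodule.map_span, Submodule.span_le]
    rintro _ ⟨y, hy, rfl⟩
    exact hT' y hy
  rcases hz with rfl | rfl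
  · simp only [one_smul] at hT
    have heig : ∀ e : F, e * e = 1 → ∀ u ∈ W', u ≠ 0 → T u = e • u →
        ∃ P : Submodule F (V d), P ≤ W' ∧ NdOn (SympStd.sympB d F) P ∧ P.map T ≤ P ∧ finrank F P = 2 := by
      intro e he u hu hu0 hTu
      obtain ⟨w, hw, huw⟩ := hnd u hu hu0
      refine mk u (w + e • T w) hu (W'.add_mem hw (W'.smul_mem _ (hinv ⟨w, hw, rfl⟩))) ?_ ?_
      · have h1 : SympStd.sympB d F u (T w) = e * SympStd.sympB d F u w := by
          rw [← hiso u (T w), hTu, hT, map_smul, LinearMap.smul_apply, smul_eq_mul]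
        rw [map_add, map_smul, smul_eq_mul, h1, ← mul_assoc, he, one_mul, ← two_mul]
        exact mul_ne_zero h2 huw
      · rintro y (rfl | rfl)
        · rw [hTu]; exact Submodule.smul_mem _ _ (Submodule.subset_span (Set.mem_insert _ _))
        · rw [show T (w + e • T w) = e • (w + e • T w) by
            rw [map_add, map_smul, hT, smul_add, smul_smul, he, one_smul, add_comm]]
          exact Submodule.smul_mem _ _ (Submodule.subset_span (Set.mem_insert_of_mem _ rfl))
    by_cases hp : v + T v = 0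
    · refine heig (-1) (by ring) v hv hv0 ?_
      rw [neg_one_smul]; exact eq_neg_of_add_eq_zero_right hp
    · exact heig 1 (by ring) (v + T v) (W'.add_mem hv (hinv ⟨v, hv, rfl⟩)) hp (by rw [map_add, hT, one_smul, add_comm])
  · obtain ⟨w, hw, hww⟩ : ∃ w ∈ W', SympStd.sympB d F w (T w) ≠ 0 := by
      by_contra hcon
      push Not at hcon
      obtain ⟨u, hu, huv⟩ := hnd (T v) (hinv ⟨v, hv, rfl⟩) (fun e => hv0 (by
        have := congrArg T e
        rw [hT, map_zero, neg_one_smul, neg_eq_zero] at this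
        exact this))
      have h1 : SympStd.sympB d F v (T u) = SympStd.sympB d F u (T v) := by
        rw [← hiso u (T v), hT, neg_one_smul, map_neg, ← LinearMap.IsAlt.neg halt (T u) v]
      have h0 := hcon (u + v) (W'.add_mem hu hv)
      simp only [map_add, LinearMap.add_apply, hcon u hu, hcon v hv, zero_add, add_zero, h1] at h0
      refine huv ?_
      rw [← LinearMap.IsAlt.neg halt u (T v)]
      rw [(mul_eq_zero.1 (show (2 : F) * SympStd.sympB d F u (T v) = 0 by linear_combination h0)).resolve_left h2, neg_zero]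
    refine mk w (T w) hw (hinv ⟨w, hw, rfl⟩) hww ?_
    rintro y (rfl | rfl)
    · exact Submodule.subset_span (Set.mem_insert_of_mem _ rfl)
    · rw [hT]; exact Submodule.smul_mem _ _ (Submodule.subset_span (Set.mem_insert _ _))

/-! ### involutions in characteristic two -/

section two

variable [CharP F 2]

theorem inv_two {d : ℕ} {T : (V d) →ₗ[F] (V d)} (hT : ∀ v : (V d), T (T v) = v) (hiso : ∀ u v, SympStd.sympB d F (T u) (T v) = SympStd.sympB d F u v) :
    JordanForms.Inv (σ := RingHom.id F) (SympStd.sympB d F) (T - 1) := fun u v => by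
  simp only [LinearMap.sub_apply, Module.End.one_apply, add_sub_cancel]; exact hiso u v

/-- a plane or a quadrangle -/
theorem piece_two {d : ℕ} {T : (V d) →ₗ[F] (V d)} (hT : ∀ v : (V d), T (T v) = v) (hiso : ∀ u v, SympStd.sympB d F (T u) (T v) = SympStd.sympB d F u v)
    {W : Submodule F (V d)} (hW : W.map T ≤ W) (hnd : NdOn (SympStd.sympB d F) W) (hne : W ≠ ⊥) :
    ∃ P : Submodule F (V d), P ≤ W ∧ NdOn (SympStd.sympB d F) P ∧ P.map T ≤ P ∧ (finrank F P = 2 ∨ finrank F P = 4) := by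
  have halt : (SympStd.sympB d F).IsAlt := SympStd.sympB_isAlt
  have hN : ∀ {U : Submodule F (V d)}, U.map T ≤ U → U.map (T - 1) ≤ U := fun {U} hU => by
    rintro _ ⟨y, hy, rfl⟩; exact U.sub_mem (hU ⟨y, hy, rfl⟩) hy
  have hT' : ∀ {U : Submodule F (V d)}, U.map (T - 1) ≤ U → U.map T ≤ U := fun {U} hU => by
    rintro _ ⟨y, hy, rfl⟩
    simpa using U.add_mem (hU ⟨y, hy, rfl⟩) hy
  have htwo : ∀ u : V d, u + u = 0 := fun u => funext fun a => CharTwo.add_self_eq_zero (u a)
  have hkill : ∀ u : (V d), (((T - 1 : (V d) →ₗ[F] (V d))) ^ 2) u = 0 := fun u => by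
    rw [sq, Module.End.mul_apply]
    simp only [LinearMap.sub_apply, Module.End.one_apply, map_sub, hT]
    rw [show u - T u - (T u - u) = (u + u) - (T u + T u) by abel, htwo, htwo, sub_zero]
  by_cases hdiag : ∃ w ∈ W, SympStd.sympB d F w ((T - 1) w) ≠ 0
  · obtain ⟨w, hw, hw0⟩ := hdiag
    obtain ⟨P, hPW, hPN, hPnd, d', v', hch, hparts⟩ := SympUnipotent.exists_block halt (inv_two hT hiso)
      (hN hW) one_le_two (fun _ : Fin 1 => w) (fun _ => hw) (fun _ => hkill w) fun c hc => by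
        have h1 := hc 0
        simp only [Fin.sum_univ_one, show (2 : ℕ) - 1 = 1 from rfl, pow_one] at h1
        funext l
        rw [Fin.fin_one_eq_zero l]
        exact (mul_eq_zero.1 h1).resolve_right hw0
    refine ⟨P, hPW, hPnd, hT' hPN, Or.inl ?_⟩
    rw [SympUnipotent.finrank_of_chainsOn hch hPN, hparts]; rfl
  push Not at hdiag
  by_cases hfix : ∀ w ∈ W, T w = w
  · obtain ⟨u, hu, hu0⟩ := Submodule.exists_mem_ne_zero_of_ne_bot hne
    obtain ⟨w, hw, huw⟩ := hnd u hu hu0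
    obtain ⟨h1, h2, h3, -⟩ := plane_split halt hu hw huw
    refine ⟨_, h3, h2, ?_, Or.inl h1⟩
    rintro _ ⟨y, hy, rfl⟩
    rw [hfix y (h3 hy)]; exact hy
  push Not at hfix
  obtain ⟨v, hv, hTv⟩ := hfix
  obtain ⟨w, hw, hvw⟩ := hnd ((T - 1) v) (hN hW ⟨v, hv, rfl⟩) (sub_ne_zero.2 hTv)
  obtain ⟨P, hPW, hPN, hPnd, d', v', hch, hparts⟩ := SympUnipotent.exists_block halt (inv_two hT hiso)
    (hN hW) one_le_two ![v, w] (by intro l; fin_cases l <;> simp [hv, hw]) (fun l => hkill _) fun c hc => by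
      have h0 := hc 0
      have h1 := hc 1
      simp only [Fin.sum_univ_two, Matrix.cons_val_zero, Matrix.cons_val_one, show (2 : ℕ) - 1 = 1 from rfl,
        pow_one, hdiag v hv, hdiag w hw, mul_zero, zero_add, add_zero] at h0 h1
      have hwv : SympStd.sympB d F w ((T - 1) v) ≠ 0 := fun e => hvw (by
        rw [← LinearMap.IsAlt.neg halt w, e, neg_zero])
      have hvw' : SympStd.sympB d F v ((T - 1) w) ≠ 0 := fun e => hvw (by
        have hs := (inv_two hT hiso).shift 1 0 v w (hkill w)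
        simp only [pow_one, pow_zero, Module.End.one_apply, Nat.add_zero, e, mul_zero] at hs
        exact hs)
      funext l
      fin_cases l
      · exact (mul_eq_zero.1 h1).resolve_right hvw'
      · exact (mul_eq_zero.1 h0).resolve_right hwv
  refine ⟨P, hPW, hPnd, hT' hPN, Or.inr ?_⟩
  rw [SympUnipotent.finrank_of_chainsOn hch hPN, hparts]; rfl

theorem split_two {d : ℕ} {T : (V d) →ₗ[F] (V d)} (hT : ∀ v : (V d), T (T v) = v) (hiso : ∀ u v, SympStd.sympB d F (T u) (T v) = SympStd.sympB d F u v)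
    {W P : Submodule F (V d)} (hW : W.map T ≤ W) (hnd : NdOn (SympStd.sympB d F) W) (hPW : P ≤ W)
    (hP : NdOn (SympStd.sympB d F) P) (hPi : P.map T ≤ P) :
    ∃ R : Submodule F (V d), R ≤ W ∧ R.map T ≤ R ∧ NdOn (SympStd.sympB d F) R ∧
      finrank F P + finrank F R = finrank F W ∧ ∀ U ≤ R, NdOn (SympStd.sympB d F) U → U.map T ≤ U →
        ∃ U' : Submodule F (V d), U' ≤ W ∧ NdOn (SympStd.sympB d F) U' ∧ U'.map T ≤ U' ∧
          finrank F U' = finrank F P + finrank F U := by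
  have halt : (SympStd.sympB d F).IsAlt := SympStd.sympB_isAlt
  have hinj : Function.Injective T := fun u v e => by rw [← hT u, e, hT]
  obtain ⟨-, -, hsum, hRnd, hort⟩ := Pieces.nd_split halt hnd hP hPW
  refine ⟨_, inf_le_left, Pieces.perp_inv' hiso hinj hW hPi, hRnd, hsum, fun U hU hUnd hUi => ?_⟩
  obtain ⟨h1, h2⟩ := Pieces.nd_sup halt hP hUnd fun a ha b hb => hort a ha b (hU hb)
  exact ⟨P ⊔ U, sup_le hPW (hU.trans inf_le_left), h1, by rw [Submodule.map_sup]; exact sup_le_sup hPi hUi,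
    finrank_sup_of_disjoint h2⟩

theorem plane_two {d : ℕ} {T : (V d) →ₗ[F] (V d)} (hT : ∀ v : (V d), T (T v) = v) (hiso : ∀ u v, SympStd.sympB d F (T u) (T v) = SympStd.sympB d F u v) :
    ∀ (n : ℕ) (W : Submodule F (V d)), finrank F W = n → W.map T ≤ W → NdOn (SympStd.sympB d F) W →
      4 ∣ n ∨ ∃ P : Submodule F (V d), P ≤ W ∧ NdOn (SympStd.sympB d F) P ∧ P.map T ≤ P ∧ finrank F P = 2 := by
  intro n
  induction n using Nat.strong_induction_on with
  | _ n ih =>
    intro W hn hW hnd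
    by_cases hne : W = ⊥
    · left; rw [← hn, hne, finrank_bot]; exact dvd_zero 4
    obtain ⟨P, hPW, hPnd, hPi, h2 | h4⟩ := piece_two hT hiso hW hnd hne
    · exact Or.inr ⟨P, hPW, hPnd, hPi, h2⟩
    · obtain ⟨R, hRW, hRi, hRnd, hsum, -⟩ := split_two hT hiso hW hnd hPW hPnd hPi
      rcases ih _ (by omega) R rfl hRi hRnd with h | ⟨P', h1, h2, h3, h5⟩
      · left; omega
      · exact Or.inr ⟨P', h1.trans hRW, h2, h3, h5⟩

theorem select_two {d : ℕ} {T : (V d) →ₗ[F] (V d)} (hT : ∀ v : (V d), T (T v) = v) (hiso : ∀ u v, SympStd.sympB d F (T u) (T v) = SympStd.sympB d F u v) :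
    ∀ (k : ℕ) (W : Submodule F (V d)), W.map T ≤ W → NdOn (SympStd.sympB d F) W → 2 * k ≤ finrank F W →
      (k % 2 = 0 ∨ finrank F W % 4 = 2) →
      ∃ U : Submodule F (V d), U ≤ W ∧ NdOn (SympStd.sympB d F) U ∧ U.map T ≤ U ∧ finrank F U = 2 * k := by
  intro k
  induction k using Nat.strong_induction_on with
  | _ k ih =>
    intro W hW hnd hk hcase
    by_cases hk0 : k = 0
    · exact ⟨⊥, bot_le, fun y hy hy0 => absurd ((Submodule.mem_bot F).1 hy) hy0, by simp, by simp [hk0]⟩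
    by_cases hkodd : k % 2 = 1
    · obtain h | ⟨P, hPW, hPnd, hPi, hP2⟩ := plane_two hT hiso _ W rfl hW hnd
      · omega
      obtain ⟨R, hRW, hRi, hRnd, hsum, hglue⟩ := split_two hT hiso hW hnd hPW hPnd hPi
      obtain ⟨U, hU, hUnd, hUi, hUd⟩ := ih (k - 1) (by omega) R hRi hRnd (by omega) (Or.inl (by omega))
      obtain ⟨U', a1, a2, a3, a4⟩ := hglue U hU hUnd hUi
      exact ⟨U', a1, a2, a3, by omega⟩
    · obtain ⟨Q, hQW, hQnd, hQi, hQ4⟩ : ∃ Q : Submodule F (V d), Q ≤ W ∧ NdOn (SympStd.sympB d F) Q ∧ Q.map T ≤ Q ∧ finrank F Q = 4 := by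
        obtain ⟨P, hPW, hPnd, hPi, h2 | h4⟩ := piece_two hT hiso hW hnd (fun e => by rw [e, finrank_bot] at hk; omega)
        · obtain ⟨R, hRW, hRi, hRnd, hsum, hglue⟩ := split_two hT hiso hW hnd hPW hPnd hPi
          obtain ⟨P', hP'R, hP'nd, hP'i, h2' | h4'⟩ := piece_two hT hiso hRi hRnd (fun e => by rw [e, finrank_bot] at hsum; omega)
          · obtain ⟨U', a1, a2, a3, a4⟩ := hglue P' hP'R hP'nd hP'i
            exact ⟨U', a1, a2, a3, by omega⟩
          · exact ⟨P', hP'R.trans hRW, hP'nd, hP'i, h4'⟩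
        · exact ⟨P, hPW, hPnd, hPi, h4⟩
      obtain ⟨R, hRW, hRi, hRnd, hsum, hglue⟩ := split_two hT hiso hW hnd hQW hQnd hQi
      obtain ⟨U, hU, hUnd, hUi, hUd⟩ := ih (k - 2) (by omega) R hRi hRnd (by omega) (Or.inl (by omega))
      obtain ⟨U', a1, a2, a3, a4⟩ := hglue U hU hUnd hUi
      exact ⟨U', a1, a2, a3, by omega⟩

/-- an involution all of whose invariant nondegenerate subspaces have dimension divisible by four -/
theorem exists_pure {d : ℕ} (hd : Even d) (hd0 : 0 < d) :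
    ∃ x : symplecticGroup (Fin d) F,
      ((x ^ 2 : symplecticGroup (Fin d) F) : Matrix (Fin d ⊕ Fin d) (Fin d ⊕ Fin d) F) = 1 ∧
      (∀ z : F, (x : Matrix (Fin d ⊕ Fin d) (Fin d ⊕ Fin d) F) ≠ z • (1 : Matrix (Fin d ⊕ Fin d) (Fin d ⊕ Fin d) F)) ∧
      ∀ W : Submodule F (V d), NdOn (SympStd.sympB d F) W →
        W.map (Matrix.toLin' (x : Matrix (Fin d ⊕ Fin d) (Fin d ⊕ Fin d) F)) ≤ W → 4 ∣ finrank F W := by
  classical
  have hd2 := Nat.even_iff.1 hd
  let σ : Fin d → Fin d := fun j => ⟨flip2 j, by unfold flip2; split_ifs <;> omega⟩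
  have hσ : ∀ j, σ (σ j) = j := fun j => Fin.ext (flip2_flip2 _)
  have hσne : ∀ j, σ j ≠ j := fun j e => by
    have : flip2 (j : ℕ) = j := congrArg Fin.val e
    unfold flip2 at this; split_ifs at this <;> omega
  let N : (V d) →ₗ[F] (V d) :=
    { toFun := fun u => Sum.elim (fun j => u (Sum.inr (σ j))) 0
      map_add' := fun a b => by funext a; rcases a with a | a <;> simp
      map_smul' := fun c a => by funext a; rcases a with a | a <;> simp }
  have hNN : ∀ u, N (N u) = 0 := fun u => by funext a; rcases a with a | a <;> simp [N]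
  have hBN : ∀ u v, SympStd.sympB d F (N u) v = -∑ j, u (Sum.inr (σ j)) * v (Sum.inr j) := fun u v => by
    rw [SympStd.sympB_apply, SympStd.sympForm_eq, ← Finset.sum_neg_distrib]
    refine Finset.sum_congr rfl fun j _ => ?_
    simp [N]
  have hsymN : ∀ u v, SympStd.sympB d F (N u) v = SympStd.sympB d F (N v) u := fun u v => by
    rw [hBN, hBN]
    congr 1
    refine Finset.sum_nbij' σ σ (fun _ _ => Finset.mem_univ _) (fun _ _ => Finset.mem_univ _)
      (fun j _ => hσ j) (fun j _ => hσ j) fun j _ => ?_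
    rw [hσ]; ring
  have hself : ∀ u, SympStd.sympB d F (N u) u = 0 := fun u => by
    rw [hBN, neg_eq_zero]
    refine Finset.sum_involution (fun j _ => σ j) (fun j _ => ?_) (fun j _ _ => hσne j)
      (fun j _ => Finset.mem_univ _) (fun j _ => hσ j)
    rw [hσ, mul_comm (u (Sum.inr j))]
    exact CharTwo.add_self_eq_zero _
  have hNNB : ∀ u v, SympStd.sympB d F (N u) (N v) = 0 := fun u v => by rw [hBN]; simp [N]
  have halt : (SympStd.sympB d F).IsAlt := SympStd.sympB_isAlt
  set T := LinearMap.id + N with hT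
  have hiso : ∀ u v, SympStd.sympB d F (T u) (T v) = SympStd.sympB d F u v := fun u v => by
    simp only [hT, LinearMap.add_apply, LinearMap.id_apply, map_add, hNNB, add_zero]
    rw [← LinearMap.IsAlt.neg halt (N v) u, hsymN v u]
    ring
  have hTT : ∀ v, T (T v) = v := fun v => by
    simp only [hT, LinearMap.add_apply, LinearMap.id_apply, map_add, hNN, add_zero]
    funext a
    simp only [Pi.add_apply]
    linear_combination CharTwo.add_self_eq_zero (N v a)
  have hmem : LinearMap.toMatrix' T ∈ symplecticGroup (Fin d) F := SympStd.mem_sp_iff.2 fun u v => by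
    simp only [← Matrix.toLin'_apply, Matrix.toLin'_toMatrix', ← SympStd.sympB_apply]
    exact hiso u v
  refine ⟨⟨_, hmem⟩, ?_, fun z hz => ?_, fun W hW hinv => ?_⟩
  · refine Matrix.toLin'.injective (LinearMap.ext fun v => ?_)
    rw [SubmonoidClass.coe_pow, Matrix.toLin'_pow, Matrix.toLin'_one]
    show ((Matrix.toLin' (LinearMap.toMatrix' T)) ^ 2) v = v
    rw [Matrix.toLin'_toMatrix', sq, Module.End.mul_apply, hTT]
  · have h1 : T (Pi.single (Sum.inr ⟨0, hd0⟩) 1) = z • Pi.single (Sum.inr ⟨0, hd0⟩) 1 := by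
      have h := congrArg (fun M => Matrix.toLin' M (Pi.single (Sum.inr ⟨0, hd0⟩) 1)) hz
      simpa [Matrix.toLin'_toMatrix'] using h
    have h2 := congrFun h1 (Sum.inl (σ ⟨0, hd0⟩))
    simp [hT, N, hσ] at h2
  · rw [Matrix.toLin'_toMatrix'] at hinv
    have hNW : ∀ w ∈ W, N w ∈ W := fun w hw => by
      have := W.sub_mem (hinv ⟨w, hw, rfl⟩) hw
      simpa [hT] using this
    set K := W ⊓ LinearMap.ker N with hK
    obtain ⟨C', hC'⟩ := Submodule.exists_isCompl K
    set C := C' ⊓ W with hC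
    have hdisj : K ⊓ C = ⊥ := by rw [hC, ← inf_assoc, hC'.inf_eq_bot, bot_inf_eq]
    have hsup : K ⊔ C = W := by
      rw [hC, ← sup_inf_assoc_of_le _ (inf_le_left : K ≤ W), hC'.sup_eq_top, top_inf_eq]
    have hker : ∀ u ∈ LinearMap.ker N, ∀ v, SympStd.sympB d F (N v) u = 0 := fun u hu v => by
      rw [hsymN, LinearMap.mem_ker.1 hu, map_zero, LinearMap.zero_apply]
    set w : LinearMap.BilinForm F C := LinearMap.compl₁₂ (SympStd.sympB d F) (N ∘ₗ C.subtype) C.subtype with hw'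
    have hsep : ∀ a : C, (∀ b : C, w a b = 0) → a = 0 := fun a ha => by
      have hNa : N (a : V d) = 0 := by
        by_contra h0
        obtain ⟨y, hy, hne⟩ := hW _ (hNW _ (Submodule.mem_inf.1 a.2).2) h0
        obtain ⟨k, hk, c, hc, rfl⟩ := Submodule.mem_sup.1 (hsup.symm ▸ hy : y ∈ K ⊔ C)
        refine hne ?_
        rw [map_add, hker k (Submodule.mem_inf.1 hk).2, zero_add]
        exact ha ⟨c, hc⟩
      have : (a : V d) ∈ K ⊓ C := ⟨⟨(Submodule.mem_inf.1 a.2).2, hNa⟩, a.2⟩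
      rw [hdisj] at this
      exact Subtype.ext ((Submodule.mem_bot F).1 this)
    have hwalt : w.IsAlt := fun a => hself _
    obtain ⟨e, he⟩ := Bases.even_finrank_of_alt w hwalt
      ⟨hsep, fun b hb => hsep b fun a => by rw [← LinearMap.IsAlt.neg hwalt, hb, neg_zero]⟩
    have h1 := Submodule.finrank_sup_add_finrank_inf_eq K C
    rw [hsup, hdisj, finrank_bot, add_zero] at h1
    have himg : (C.map N) ≤ K := by
      rintro _ ⟨c, hc, rfl⟩
      exact ⟨hNW _ (Submodule.mem_inf.1 hc).2, hNN c⟩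
    have hinjN : Function.Injective (N.domRestrict C) := (injective_iff_map_eq_zero _).2 fun a ha => hsep a fun b => by
      show SympStd.sympB d F (N (a : V d)) b = 0
      rw [show N (a : V d) = 0 from ha, map_zero, LinearMap.zero_apply]
    have h2 := Submodule.finrank_mono himg
    have h3 := LinearMap.finrank_range_of_inj hinjN
    rw [LinearMap.range_domRestrict] at h3
    have hCK : finrank F K ≤ finrank F C := by
      let φ : K →ₗ[F] Module.Dual F C :=
        { toFun := fun u => (SympStd.sympB d F (u : V d)).domRestrict C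
          map_add' := fun a b => by ext; simp
          map_smul' := fun c a => by ext; simp }
      have hφ : Function.Injective φ := (injective_iff_map_eq_zero _).2 fun u hu => by
        refine Subtype.ext ?_
        by_contra h0
        obtain ⟨y, hy, hne⟩ := hW _ (Submodule.mem_inf.1 u.2).1 h0
        obtain ⟨k, hk, c, hc, rfl⟩ := Submodule.mem_sup.1 (hsup.symm ▸ hy : y ∈ K ⊔ C)
        refine hne ?_
        have hkk : SympStd.sympB d F (u : V d) k = 0 := by
          have hzero : ∀ v ∈ LinearMap.ker N, ∀ j, v (Sum.inr j) = 0 := fun v hv j => by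
            have := congrFun (LinearMap.mem_ker.1 hv) (Sum.inl (σ j))
            simpa [N, hσ] using this
          rw [SympStd.sympB_apply, SympStd.sympForm_eq]
          refine Finset.sum_eq_zero fun j _ => ?_
          rw [hzero _ (Submodule.mem_inf.1 u.2).2 j, hzero _ (Submodule.mem_inf.1 hk).2 j]
          ring
        rw [map_add, hkk, zero_add]
        exact LinearMap.congr_fun hu ⟨c, hc⟩
      have := LinearMap.finrank_le_finrank_of_injective hφ
      rwa [Subspace.dual_finrank_eq] at this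
    exact ⟨e, by omega⟩

end two

/-- the partition condition -/
theorem parts_necessary [Fintype F] (p : ℕ) [hp : Fact p.Prime] [CharP F p] (hp2 : 2 < p) {d m : ℕ} (hm : m ≤ 2 * d) (hme : Even m)
    (H : ∀ x : ↥(Matrix.symplecticGroup (Fin d) F),
      (∃ z : F, ((x ^ p : ↥(Matrix.symplecticGroup (Fin d) F)) : Matrix (Fin d ⊕ Fin d) (Fin d ⊕ Fin d) F) = z • (1 : Matrix (Fin d ⊕ Fin d) (Fin d ⊕ Fin d) F)) →
      (∀ z : F, (x : Matrix (Fin d ⊕ Fin d) (Fin d ⊕ Fin d) F) ≠ z • (1 : Matrix (Fin d ⊕ Fin d) (Fin d ⊕ Fin d) F)) →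
      ∃ W : Submodule F (Fin d ⊕ Fin d → F), Module.finrank F ↥W = m ∧ (∀ u ∈ W, u ≠ 0 → ∃ v ∈ W, Cfsg.sympForm d F u v ≠ 0) ∧
        W.map (Matrix.toLin' (x : Matrix (Fin d ⊕ Fin d) (Fin d ⊕ Fin d) F)) ≤ W) :
    ∀ μ : Multiset ℕ, (∀ a ∈ μ, 0 < a ∧ a ≤ p) → (∀ a : ℕ, Odd a → Even (μ.count a)) → μ.sum = 2 * d →
        ∃ ν : Multiset ℕ, ν ≤ μ ∧ ν.sum = m ∧ ∀ a : ℕ, Odd a → Even (ν.count a) := by
  classical
  intro μ hμ hodd hsum
  by_cases hone : ∀ e ∈ μ, e = 1
  · have e := Multiset.eq_replicate_card.2 hone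
    refine ⟨Multiset.replicate m 1, ?_, by simp, fun a ha => ?_⟩
    · rw [e]
      refine (Multiset.replicate_le_replicate _).2 ?_
      rw [e] at hsum
      simp at hsum
      omega
    · rw [Multiset.count_replicate]; split_ifs
      · exact hme
      · exact ⟨0, rfl⟩
  push Not at hone
  let dd : Fin μ.toList.length → ℕ := μ.toList.get
  have hdd : parts dd = μ := by
    rw [parts, Fin.univ_val_map, List.ofFn_get, Multiset.coe_toList]
  have hmem : ∀ k, dd k ∈ μ := fun k => hdd ▸ Multiset.mem_map_of_mem dd (Finset.mem_univ k)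
  obtain ⟨e, A, hc⟩ := (S2582.result (F := F) (m := d) dd (fun k => (hμ _ (hmem k)).1) (by
    have h := congrArg Multiset.sum hdd
    rwa [parts, Finset.sum_map_val, hsum] at h)).2 fun j hj => by
      rw [← JordanChains.count_parts, hdd]; exact hodd j hj
  obtain ⟨c, hc⟩ := hc
  have hch := JordanFormsExist.jordan_shift (F := F) (d := dd) fun k => (hμ _ (hmem k)).1
  set J := Cfsg.jordanTypeMatrix dd F with hJ
  let Mc := Matrix.toLinearEquiv' (c : Matrix (Fin d ⊕ Fin d) (Fin d ⊕ Fin d) F) c.invertible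
  let g : (Idx dd → F) ≃ₗ[F] (V d) := (LinearEquiv.funCongrLeft F F e.symm).trans Mc
  have hgv : ∀ v, g v = (c : Matrix (Fin d ⊕ Fin d) (Fin d ⊕ Fin d) F) *ᵥ (v ∘ e.symm) := fun v => rfl
  set N := Matrix.toLin' (A : Matrix (Fin d ⊕ Fin d) (Fin d ⊕ Fin d) F) - 1 with hN
  have hNg : ∀ v, g (Matrix.toLin' (J - 1) v) = N (g v) := fun v => by
    rw [hN, LinearMap.sub_apply, Module.End.one_apply, Matrix.toLin'_apply, Matrix.toLin'_apply, hgv v,
      Matrix.mulVec_mulVec, ← hc.eq, Matrix.sub_mulVec, Matrix.one_mulVec, map_sub, hgv v, hgv]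
    congr 1
    rw [← Matrix.mulVec_mulVec, Matrix.reindex_apply, Matrix.submatrix_mulVec_equiv]
    simp [Function.comp_def]
  obtain ⟨v₀, hchN⟩ : ∃ v₀, Chains N dd v₀ := ⟨_, OrthUnipotent.chains_equiv hch g hNg⟩
  have hNp : N ^ p = 0 := (hchN.pow_eq_zero_iff p).2 fun k => (hμ _ (hmem k)).2
  haveI : CharP (Module.End F (V d)) p := by
    rcases Nat.eq_zero_or_pos d with rfl | hd
    · exfalso
      obtain ⟨a, ha, -⟩ := hone
      have := Multiset.le_sum_of_mem ha
      have := (hμ a ha).1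
      omega
    haveI : Nonempty (Fin d ⊕ Fin d) := ⟨Sum.inl ⟨0, hd⟩⟩
    exact charP_of_injective_algebraMap (FaithfulSMul.algebraMap_injective F (Module.End F (V d))) p
  have hAp : (Matrix.toLin' (A : Matrix (Fin d ⊕ Fin d) (Fin d ⊕ Fin d) F)) ^ p = 1 := by
    rw [hN, sub_pow_char_of_commute p (Commute.one_right _), one_pow, sub_eq_zero] at hNp
    exact hNp
  have hd0 : 0 < d := by
    obtain ⟨a, ha, -⟩ := hone
    have := Multiset.le_sum_of_mem ha
    have := (hμ a ha).1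
    omega
  obtain ⟨W, hWd, hWnd, hinv⟩ := H A ⟨1, Matrix.toLin'.injective (by
    rw [SubmonoidClass.coe_pow, Matrix.toLin'_pow, hAp, one_smul, Matrix.toLin'_one]; rfl)⟩ fun z hz => by
      have hz1 : z = 1 := by
        have h1 := LinearMap.congr_fun hAp (Pi.single (Sum.inl ⟨0, hd0⟩) 1)
        rw [← Matrix.toLin'_pow, hz, _root_.smul_pow, one_pow, Matrix.toLin'_apply, Matrix.smul_mulVec,
          Matrix.one_mulVec] at h1
        have h2 := congrFun h1 (Sum.inl ⟨0, hd0⟩)
        simp at h2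
        exact sub_eq_zero.1 (eq_zero_of_pow_eq_zero (n := p) (by rw [sub_pow_char, h2, one_pow, sub_self]))
      have h0 : N ^ 1 = 0 := by
        rw [pow_one, hN, hz, hz1, one_smul, Matrix.toLin'_one, sub_eq_zero]; rfl
      obtain ⟨a, ha, ha1⟩ := hone
      rw [← hdd] at ha
      obtain ⟨k, -, rfl⟩ := Multiset.mem_map.1 ha
      have := (hchN.pow_eq_zero_iff 1).1 h0 k
      have := hchN.pos k
      omega
  have halt : (SympStd.sympB d F).IsAlt := SympStd.sympB_isAlt
  have hiso := S5961.iso_of_sp A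
  have hBN : JordanForms.Inv (σ := RingHom.id F) (SympStd.sympB d F) N := fun u v => by
    simp only [hN, LinearMap.sub_apply, Module.End.one_apply, add_sub_cancel]; exact hiso u v
  set T := Matrix.toLin' (A : Matrix (Fin d ⊕ Fin d) (Fin d ⊕ Fin d) F) with hT
  have hinj : Function.Injective T := fun u v e => by
    have := congrArg (T ^ (p - 1)) e
    rwa [← Module.End.mul_apply, ← Module.End.mul_apply, ← pow_succ, Nat.sub_add_cancel hp.out.one_lt.le, hAp] at this
  obtain ⟨hsup, hdisj, -, hRnd, -⟩ := Pieces.nd_split halt ndTop (ndOn_iff.2 hWnd) le_top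
  have hRi := Pieces.perp_inv' hiso hinj (W := ⊤) le_top hinv
  have hWN : W.map N ≤ W := by rintro _ ⟨y, hy, rfl⟩; exact W.sub_mem (hinv ⟨y, hy, rfl⟩) hy
  have hRN : (⊤ ⊓ (SympStd.sympB d F).orthogonal W).map N ≤ ⊤ ⊓ (SympStd.sympB d F).orthogonal W := by
    rintro _ ⟨y, hy, rfl⟩; exact Submodule.sub_mem _ (hRi ⟨y, hy, rfl⟩) hy
  obtain ⟨a, d₁, v₁, h₁⟩ := JordanChains.exists_chainsOn N ⟨p, hNp⟩ W fun y hy => hWN ⟨y, hy, rfl⟩
  obtain ⟨b, d₂, v₂, h₂⟩ := JordanChains.exists_chainsOn N ⟨p, hNp⟩ _ fun y hy => hRN ⟨y, hy, rfl⟩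
  exact ⟨parts d₁, hdd ▸ parts_le_of_compl hchN ⟨hdisj, codisjoint_iff.2 hsup⟩ hWN hRN h₁ h₂,
    (SympUnipotent.finrank_of_chainsOn h₁ hWN).symm.trans hWd,
    SympUnipotent.even_parts halt hBN hWN (ndOn_iff.2 hWnd) h₁⟩

theorem parts_sufficient (p : ℕ) [hp : Fact p.Prime] [CharP F p] (hp2 : 2 < p) {d m : ℕ} (hd : 0 < d)
    (hμ : ∀ μ : Multiset ℕ, (∀ a ∈ μ, 0 < a ∧ a ≤ p) → (∀ a : ℕ, Odd a → Even (μ.count a)) → μ.sum = 2 * d →
        ∃ ν : Multiset ℕ, ν ≤ μ ∧ ν.sum = m ∧ ∀ a : ℕ, Odd a → Even (ν.count a))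
    (g : (V d) →ₗ[F] (V d)) (hg : g ^ p = 1) (hiso : ∀ u v, SympStd.sympB d F (g u) (g v) = SympStd.sympB d F u v) :
    ∃ W : Submodule F (V d), finrank F ↥W = m ∧ NdOn (SympStd.sympB d F) W ∧ W.map g ≤ W := by
  have h2 : (2 : F) ≠ 0 := Ring.two_ne_zero (by rw [ringChar.eq F p]; omega)
  haveI : Nonempty (Fin d ⊕ Fin d) := ⟨Sum.inl ⟨0, hd⟩⟩
  haveI : CharP (Module.End F (V d)) p :=
    charP_of_injective_algebraMap (FaithfulSMul.algebraMap_injective F (Module.End F (V d))) p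
  set N := g - 1 with hN
  have hNp : N ^ p = 0 := by rw [hN, sub_pow_char_of_commute p (Commute.one_right _), one_pow, hg, sub_self]
  have halt : (SympStd.sympB d F).IsAlt := SympStd.sympB_isAlt
  have hBN : JordanForms.Inv (σ := RingHom.id F) (SympStd.sympB d F) N := fun u v => by
    simp only [hN, LinearMap.sub_apply, Module.End.one_apply, add_sub_cancel]; exact hiso u v
  obtain ⟨t, dd, v, hch⟩ := JordanChains.exists_chains N ⟨p, hNp⟩
  obtain ⟨ν, hν, hνs, hνe⟩ := hμ (parts dd) (fun a ha => by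
      obtain ⟨k, -, rfl⟩ := Multiset.mem_map.1 ha
      exact ⟨hch.pos k, (hch.pow_eq_zero_iff p).1 hNp k⟩)
    (SympUnipotent.even_parts halt hBN le_top ndTop hch) (by
      rw [← SympUnipotent.finrank_of_chainsOn hch le_top, finrank_top, SympStd.finrank_vec])
  obtain ⟨U, -, hUN, hUnd, hUd⟩ := SympUnipotent.exists_select h2 halt hBN _ ⊤ rfl le_top ndTop hch ν hν hνe
  refine ⟨U, hUd.trans hνs, hUnd, ?_⟩
  rintro _ ⟨y, hy, rfl⟩
  simpa [hN] using U.add_mem (hUN ⟨y, hy, rfl⟩) hy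

/-- the coprime case -/
theorem coprime_iff [Fintype F] (p : ℕ) [Fact p.Prime] [CharP F p] {r : ℕ} [hr : Fact r.Prime] (hrp : r ≠ p) (hr2 : r ≠ 2)
    {d m i c : ℕ} (hd : 0 < d) (hme : Even m) (hmd : m < d) (hm : 2 ≤ m)
    (hi : i = orderOf ((Fintype.card F : ℕ) : ZMod r)) (hc : c = if Even i then i else 2 * i)
    (hΩ : r ∣ Nat.card {W : Submodule F (V d) // Module.finrank F ↥W = m ∧ (∀ u ∈ W, u ≠ 0 → ∃ v ∈ W, Cfsg.sympForm d F u v ≠ 0)}) :
    (∀ g : (V d) →ₗ[F] (V d), g ^ r = 1 → (∀ u v, SympStd.sympB d F (g u) (g v) = SympStd.sympB d F u v) →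
      c ≤ m → m % c ≤ (2 * d) % c →
      ∃ W : Submodule F (V d), finrank F ↥W = m ∧ NdOn (SympStd.sympB d F) W ∧ W.map g ≤ W) ∧
    ((∀ x : ↥(Matrix.symplecticGroup (Fin d) F),
      (∃ z : F, ((x ^ r : ↥(Matrix.symplecticGroup (Fin d) F)) : Matrix (Fin d ⊕ Fin d) (Fin d ⊕ Fin d) F) = z • (1 : Matrix (Fin d ⊕ Fin d) (Fin d ⊕ Fin d) F)) →
      (∀ z : F, (x : Matrix (Fin d ⊕ Fin d) (Fin d ⊕ Fin d) F) ≠ z • (1 : Matrix (Fin d ⊕ Fin d) (Fin d ⊕ Fin d) F)) →
      ∃ W : Submodule F (Fin d ⊕ Fin d → F), Module.finrank F ↥W = m ∧ (∀ u ∈ W, u ≠ 0 → ∃ v ∈ W, Cfsg.sympForm d F u v ≠ 0) ∧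
        W.map (Matrix.toLin' (x : Matrix (Fin d ⊕ Fin d) (Fin d ⊕ Fin d) F)) ≤ W) → c ≤ m ∧ m % c ≤ (2 * d) % c) := by
  classical
  have hr0 : (r : F) ≠ 0 := natCast_prime_ne_zero p hrp
  have hi0 : 0 < i := hi ▸ order_pos p hrp
  have hc0 : 0 < c := by rw [hc]; split_ifs <;> omega
  obtain ⟨e, he⟩ : ∃ e, c = 2 * e := by
    rw [hc]; split_ifs with h
    · obtain ⟨e, rfl⟩ := h; exact ⟨e, by ring⟩
    · exact ⟨i, rfl⟩
  obtain ⟨k, rfl⟩ : ∃ k, m = 2 * k := by obtain ⟨k, rfl⟩ := hme; exact ⟨k, by ring⟩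
  obtain ⟨j, hj, hjc⟩ := dvd_factor p hrp hi hc (show k ≤ d by omega) hΩ
  have halt : (SympStd.sympB d F).IsAlt := SympStd.sympB_isAlt
  constructor
  · intro g hg hiso hcm hmod
    have hinj : Function.Injective g := fun u v e => by
      have := congrArg (g ^ (r - 1)) e
      rwa [← Module.End.mul_apply, ← Module.End.mul_apply, ← pow_succ, Nat.sub_add_cancel hr.out.one_lt.le, hg] at this
    obtain ⟨hFnd, -, hsum, hDnd, hDi, hfree⟩ := Pieces.fix_split halt hiso hr0 hg ndTop le_top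
    rw [inf_top_eq] at hFnd hsum hDnd hDi hfree
    rw [finrank_top, SympStd.finrank_vec] at hsum
    set D := ⊤ ⊓ (SympStd.sympB d F).orthogonal (fixSp g) with hD
    have hpD := Pieces.hasPiece_free halt hiso hr2 hr0 hg hfree hi hc
    obtain ⟨s, hs⟩ := Pieces.dvd_finrank halt hiso hinj hc0 hpD hDnd hDi
    have hfi : (fixSp g).map g ≤ fixSp g := by
      rintro _ ⟨y, hy, rfl⟩; rw [mem_fixSp.1 hy]; exact hy
    set s' := min s (2 * k / c) with hs'
    have h1 : s' * c ≤ finrank F D := by rw [hs, mul_comm]; exact Nat.mul_le_mul_left _ (min_le_left _ _)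
    have h2 : s' * c ≤ 2 * k := (Nat.mul_le_mul_right _ (min_le_right _ _)).trans (Nat.div_mul_le_self _ _)
    have h3 : 2 * k - s' * c ≤ finrank F (fixSp g) := by
      rcases le_total s (2 * k / c) with h | h
      · have e0 : s * c = finrank F D := by rw [hs, mul_comm]
        rw [hs', min_eq_left h, e0]; omega
      · rw [hs', min_eq_right h]
        have e1 : 2 * k - 2 * k / c * c = 2 * k % c := by
          have := Nat.div_add_mod (2 * k) c; rw [mul_comm] at this; omega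
        have e2 : (2 * d) % c = finrank F (fixSp g) % c := by rw [← hsum, hs, Nat.add_mul_mod_self_left]
        rw [e1]
        exact hmod.trans (e2.le.trans (Nat.mod_le _ _))
    obtain ⟨U₁, hU₁, hU₁nd, hU₁i, hU₁d⟩ := Pieces.exists_multi halt hiso hinj hc0 hpD hDnd hDi s' h1
    have h2c : s' * c = 2 * (s' * e) := by rw [he]; ring
    obtain ⟨U₂, hU₂, hU₂nd, hU₂i, hU₂d⟩ := Pieces.exists_multi halt hiso hinj two_pos (Pieces.hasPiece_fixed halt) hFnd hfi
      (k - s' * e) (by omega)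
    obtain ⟨hnd', hdis⟩ := Pieces.nd_sup halt hU₂nd hU₁nd fun a ha b hb => (mem_perp.1 (hU₁ hb)).2 a (hU₂ ha)
    refine ⟨U₂ ⊔ U₁, ?_, hnd', by rw [Submodule.map_sup]; exact sup_le_sup hU₂i hU₁i⟩
    rw [finrank_sup_of_disjoint hdis]
    omega
  · intro H
    by_contra hcon
    set s := 2 * d / c with hs
    have hk0 := Nat.div_add_mod (2 * d) c
    rw [← hs] at hk0
    have hs0 : 0 < s := Nat.div_pos ((Nat.le_of_dvd (by omega) hjc).trans (by omega)) hc0
    have hse : 2 * (s * e) + (2 * d) % c = 2 * d := by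
      rw [show 2 * (s * e) = c * s by rw [he]; ring]; exact hk0
    obtain ⟨x, hx, hxfix⟩ := S5961.exists_model p hrp hr2 hi hc (d := d) (s := s) he (by omega)
    set T := Matrix.toLin' (x : Matrix (Fin d ⊕ Fin d) (Fin d ⊕ Fin d) F) with hT
    have hfd : finrank F (fixSp T) = (2 * d) % c := by rw [hxfix]; omega
    obtain ⟨W, hWd, hWnd, hinv⟩ := H x ⟨1, Matrix.toLin'.injective (LinearMap.ext fun v => by
        rw [SubmonoidClass.coe_pow, Matrix.toLin'_pow, hx, one_smul, Matrix.toLin'_one, LinearMap.id_apply])⟩ fun z hz => by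
      have hzv : ∀ v, T v = z • v := fun v => by
        rw [hT, hz, Matrix.toLin'_apply, Matrix.smul_mulVec, Matrix.one_mulVec]
      have hlt := Nat.mod_lt (2 * d) hc0
      by_cases hz1 : z = 1
      · have : fixSp T = ⊤ := eq_top_iff.2 fun v _ => mem_fixSp.2 (by rw [hzv, hz1, one_smul])
        rw [this, finrank_top, SympStd.finrank_vec] at hfd
        have : 0 < s * e := Nat.mul_pos hs0 (by omega)
        omega
      · have h1 := hx (Pi.single (Sum.inl ⟨0, hd⟩) 1)
        have hpw : ∀ (n : ℕ) v, (T ^ n) v = z ^ n • v := fun n => by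
          induction n with
          | zero => simp
          | succ n ih => intro v; rw [pow_succ', Module.End.mul_apply, ih, map_smul, hzv, smul_smul, ← pow_succ]
        rw [hpw] at h1
        have h2 := congrFun h1 (Sum.inl ⟨0, hd⟩)
        simp at h2
        have h3 := S5961.iso_of_sp x (Pi.single (Sum.inl ⟨0, hd⟩) 1) (Pi.single (Sum.inr ⟨0, hd⟩) 1)
        rw [← hT, hzv, hzv, map_smul, map_smul, LinearMap.smul_apply, smul_eq_mul, smul_eq_mul,
          SympStd.sympB_apply, SympStd.sympForm_inl_inr, if_pos rfl] at h3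
        have hzz : z * z = 1 := by linear_combination (-1 : F) * h3
        obtain ⟨n, hn⟩ := hr.out.odd_of_ne_two hr2
        rw [hn, pow_succ, pow_mul, sq, hzz, one_pow, one_mul] at h2
        exact hz1 h2
    have hiso := S5961.iso_of_sp x
    rw [← hT] at hiso
    have hTr : T ^ r = 1 := LinearMap.ext hx
    have hinj : Function.Injective T := fun u v e => by
      have := congrArg (T ^ (r - 1)) e
      rwa [← Module.End.mul_apply, ← Module.End.mul_apply, ← pow_succ, Nat.sub_add_cancel hr.out.one_lt.le, hTr] at this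
    obtain ⟨-, -, hsum, hDnd, hDi, hfree⟩ := Pieces.fix_split halt hiso hr0 hTr (ndOn_iff.2 hWnd) hinv
    obtain ⟨s', hs'⟩ := Pieces.dvd_finrank halt hiso hinj hc0
      (Pieces.hasPiece_free halt hiso hr2 hr0 hTr hfree hi hc) hDnd hDi
    have hle := Submodule.finrank_mono (inf_le_left : fixSp T ⊓ W ≤ fixSp T)
    rw [hfd] at hle
    rw [hWd, hs'] at hsum
    have hlt := Nat.mod_lt (2 * d) hc0
    have hmod : 2 * k % c = finrank F ↥(fixSp T ⊓ W) := by
      rw [← hsum, Nat.add_mul_mod_self_left, Nat.mod_eq_of_lt (hle.trans_lt hlt)]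
    refine hcon ⟨?_, hmod ▸ hle⟩
    by_contra hcm
    rw [Nat.mod_eq_of_lt (by omega : 2 * k < c)] at hmod
    -- then no multiple of `c` lies in the range
    obtain ⟨u, hu⟩ := hjc
    have hu' : u ≤ s := by
      rw [hs, Nat.le_div_iff_mul_le hc0, mul_comm, ← hu]; omega
    rcases eq_or_lt_of_le hu' with rfl | hlt'
    · omega
    · have := Nat.mul_le_mul_left c (show u + 1 ≤ s by omega)
      rw [mul_add, mul_one] at this
      omega


/-- Elements of prime order of PSp_n(q) with no fixed nondegenerate `m`-space. Here `T = PSp_n(q)` with `n = 2d ≥ 4`, `(n, q) ≠ (4, 2)`, realised through the symplectic matrices over the field `F` with `q` elements (preserving the standard alternating form); an element of `T` of prime order `r` is such a matrix `x` with `x^r` scalar and `x` not scalar. For `r ≠ p` let `i` be the multiplicative order of `q` modulo `r`, `c = i` for `i` even and `c = 2i` for `i` odd, and write `k = n mod c`, `ℓ = m mod i`, `ℓ' = m mod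 c`, `n' = ⌊n/i⌋`, `m' = ⌊m/i⌋`, `t = (r−1)/i`. Let `m` be even with `2 ≤ m < n/2` and let `r` be a prime dividing the number of nondegenerate `m`-spaces. Then every element of `T` of order `r` fixes a nondegenerate `m`-space if and only if one of: (i) `r = p > 2` and every partition of `n` into parts of size at most `p` in which every odd part has even multiplicity contains (as a sub-multiset) a partition of `m` in which every odd part has even multiplicity; (ii) `r = p = 2` and (`n ≡ 2 (mod 4)` or `m ≡ 0 (mod 4)`); (iii) `r = 2 ≠ p`; (iv) `r ≠ p`, `r > 2`, `c ≤ m` and `k ≥ ℓ'`. -/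
theorem result {F : Type*} [Field F] [Fintype F] {p : ℕ} [Fact p.Prime] [CharP F p] {q : ℕ} (hq : Fintype.card F = q)
    (d m : ℕ) (hd : 2 ≤ d) (hT : (d, q) ≠ (2, 2)) (hm : 2 ≤ m) (hme : Even m) (hmd : m < d)
    (r : ℕ) [Fact r.Prime]
    (hrΩ : r ∣ Nat.card {W : Submodule F (Fin d ⊕ Fin d → F) // Module.finrank F ↥W = m ∧ (∀ u ∈ W, u ≠ 0 → ∃ v ∈ W, Cfsg.sympForm d F u v ≠ 0)})
    (i c : ℕ) (hi : i = orderOf (q : ZMod r)) (hc : c = if Even i then i else 2 * i) :
    (∀ x : ↥(Matrix.symplecticGroup (Fin d) F),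
      (∃ z : F, ((x ^ r : ↥(Matrix.symplecticGroup (Fin d) F)) : Matrix (Fin d ⊕ Fin d) (Fin d ⊕ Fin d) F) = z • (1 : Matrix (Fin d ⊕ Fin d) (Fin d ⊕ Fin d) F)) →
      (∀ z : F, (x : Matrix (Fin d ⊕ Fin d) (Fin d ⊕ Fin d) F) ≠ z • (1 : Matrix (Fin d ⊕ Fin d) (Fin d ⊕ Fin d) F)) →
      ∃ W : Submodule F (Fin d ⊕ Fin d → F), Module.finrank F ↥W = m ∧ (∀ u ∈ W, u ≠ 0 → ∃ v ∈ W, Cfsg.sympForm d F u v ≠ 0) ∧
        W.map (Matrix.toLin' (x : Matrix (Fin d ⊕ Fin d) (Fin d ⊕ Fin d) F)) ≤ W) ↔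
    ((r = p ∧ 2 < p ∧ (∀ μ : Multiset ℕ, (∀ a ∈ μ, 0 < a ∧ a ≤ p) → (∀ a : ℕ, Odd a → Even (μ.count a)) → μ.sum = 2 * d →
        ∃ ν : Multiset ℕ, ν ≤ μ ∧ ν.sum = m ∧ ∀ a : ℕ, Odd a → Even (ν.count a))) ∨
     (r = p ∧ p = 2 ∧ ((2 * d) % 4 = 2 ∨ m % 4 = 0)) ∨
     (r = 2 ∧ p ≠ 2) ∨
     (r ≠ p ∧ 2 < r ∧ c ≤ m ∧ m % c ≤ (2 * d) % c)) := by
  classical
  subst hq
  have hd0 : 0 < d := by omega
  have halt : (SympStd.sympB d F).IsAlt := SympStd.sympB_isAlt
  obtain ⟨k, hk⟩ : ∃ k, m = 2 * k := by obtain ⟨k, rfl⟩ := hme; exact ⟨k, by ring⟩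
  by_cases hrp : r = p
  · subst hrp
    by_cases hr2 : r = 2
    · subst hr2
      constructor
      · intro H
        refine Or.inr (Or.inl ⟨rfl, rfl, ?_⟩)
        by_contra hcon
        obtain ⟨x, hx, hns, hall⟩ := exists_pure (F := F) (d := d) (Nat.even_iff.2 (by omega)) hd0
        obtain ⟨W, hWd, hWnd, hinv⟩ := H x ⟨1, by rw [hx, one_smul]⟩ hns
        obtain ⟨u, hu⟩ := hall W (ndOn_iff.2 hWnd) hinv
        omega
      · rintro (⟨-, h, -⟩ | ⟨-, -, hcond⟩ | ⟨-, h⟩ | ⟨h, -⟩)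
        · omega
        · intro x hz _
          obtain ⟨z, hz⟩ := hz
          obtain ⟨hzz, hpow⟩ := sq_scalar hd0 x hz
          have hz1 : z = 1 := by
            have h2 : (z + 1) * (z + 1) = 0 := by linear_combination hzz + CharTwo.add_self_eq_zero (z + 1)
            exact CharTwo.add_eq_zero.1 (mul_self_eq_zero.1 h2)
          have hT : ∀ v, Matrix.toLin' (x : Matrix (Fin d ⊕ Fin d) (Fin d ⊕ Fin d) F)
              (Matrix.toLin' (x : Matrix (Fin d ⊕ Fin d) (Fin d ⊕ Fin d) F) v) = v := fun v => by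
            rw [← Module.End.mul_apply, ← sq, hpow, hz1, one_smul]
          obtain ⟨U, -, hUnd, hUi, hUd⟩ := select_two hT (S5961.iso_of_sp x) k ⊤ le_top ndTop
            (by rw [finrank_top, SympStd.finrank_vec]; omega)
            (by rw [finrank_top, SympStd.finrank_vec]; omega)
          exact ⟨U, hUd.trans hk.symm, ndOn_iff.1 hUnd, hUi⟩
        · exact absurd rfl h
        · exact absurd rfl h
    · have hr3 : 2 < r := by have := (Fact.out : r.Prime).two_le; omega
      constructor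
      · intro H
        exact Or.inl ⟨rfl, hr3, parts_necessary r hr3 (by omega) hme H⟩
      · rintro (⟨-, -, hμ⟩ | ⟨-, h, -⟩ | ⟨h, -⟩ | ⟨h, -⟩)
        · intro x hz _
          obtain ⟨z, hz⟩ := hz
          obtain ⟨g, hg, hiso, hback⟩ := normalised hd0 ((Fact.out : r.Prime).odd_of_ne_two hr2) x hz
          obtain ⟨W, h1, h2, h3⟩ := parts_sufficient r hr3 hd0 hμ g hg hiso
          exact ⟨W, h1, ndOn_iff.1 h2, hback W h3⟩
        · exact absurd h hr2
        · exact absurd h hr2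
        · exact absurd rfl h
  · by_cases hr2 : r = 2
    · subst hr2
      refine ⟨fun _ => Or.inr (Or.inr (Or.inl ⟨rfl, fun e => hrp e.symm⟩)), fun _ x hz _ => ?_⟩
      obtain ⟨z, hz⟩ := hz
      obtain ⟨hzz, hpow⟩ := sq_scalar hd0 x hz
      have h2 : (2 : F) ≠ 0 := Ring.two_ne_zero (by rw [ringChar.eq F p]; exact fun e => hrp e.symm)
      have hinj : Function.Injective (Matrix.toLin' (x : Matrix (Fin d ⊕ Fin d) (Fin d ⊕ Fin d) F)) := fun u v e => by
        have := congrArg (Matrix.toLin' (x : Matrix (Fin d ⊕ Fin d) (Fin d ⊕ Fin d) F)) e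
        rw [← Module.End.mul_apply, ← Module.End.mul_apply, ← sq, hpow, hpow] at this
        exact smul_right_injective _ (fun e => by rw [e, zero_mul] at hzz; exact zero_ne_one hzz) this
      obtain ⟨U, -, hUnd, hUi, hUd⟩ := Pieces.exists_multi halt (S5961.iso_of_sp x) hinj two_pos
        (hasPiece_invol h2 (S5961.iso_of_sp x) (mul_self_eq_one_iff.1 hzz)
          (fun v => by rw [← Module.End.mul_apply, ← sq, hpow]) ⊤) ndTop le_top k
        (by rw [finrank_top, SympStd.finrank_vec]; omega)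
      exact ⟨U, by omega, ndOn_iff.1 hUnd, hUi⟩
    · have hr3 : 2 < r := by have := (Fact.out : r.Prime).two_le; omega
      obtain ⟨hsuf, hnec⟩ := coprime_iff p hrp hr2 hd0 hme hmd hm hi hc hrΩ
      constructor
      · intro H
        exact Or.inr (Or.inr (Or.inr ⟨hrp, hr3, hnec H⟩))
      · rintro (⟨h, -⟩ | ⟨h, -⟩ | ⟨h, -⟩ | ⟨-, -, h1, h2⟩)
        · exact absurd h hrp
        · exact absurd h hrp
        · exact absurd h hr2
        · intro x hz _
          obtain ⟨z, hz⟩ := hz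
          obtain ⟨g, hg, hiso, hback⟩ := normalised hd0 ((Fact.out : r.Prime).odd_of_ne_two hr2) x hz
          obtain ⟨W, a1, a2, a3⟩ := hsuf g hg hiso h1 h2
          exact ⟨W, a1, ndOn_iff.1 a2, hback W a3⟩

end Cfsg.Agent.S5956
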