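import Cfsg.Statements.S5957
import Cfsg.Agent.Lib.Forms.Elusive.Monomial
-- import your own Cfsg.Agent.* helpers here

set_option autoImplicit false
open scoped MatrixGroups
open Cfsg

namespace Cfsg.Agent.S5957

/-- Involutions of PSL_n(q) and imprimitive subgroups. Here `T = PSL_n(F)` for a field `F` with `q = p^f` elements (`n ≥ 2`, `(n, q) ≠ (2, 2), (2, 3)`), `n = a·t` with `t ≥ 2`, and Ω is the set of direct-sum decompositions of `F^n` into `t` subspaces of dimension `a` (unordered; their number is the number of ordered ones divided by `t!`), whose stabilizers are the imprimitive subgroups of type GL_a(q) ≀ S_t (maximal except in some small cases; maximality is not assumed); an element of `T` of prime order `r` (a matrix `x` of determinant 1 with `x^r` scalar, `x` not scalar) fixes a point of Ω when it permutes the summands of some such decomposition. If the number of such decompositions is even, then every involution of `T` stabilizes one of them (the action is 2-elusive). -/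
theorem result {F : Type*} [Field F] [Fintype F] {p : ℕ} [Fact p.Prime] [CharP F p] {q : ℕ} (hq : Fintype.card F = q)
    (n a t : ℕ) (hn : 2 ≤ n) (hT : (n, q) ≠ (2, 2) ∧ (n, q) ≠ (2, 3)) (hat : n = a * t) (ha : 1 ≤ a) (ht : 2 ≤ t)
    (hΩ : 2 ∣ Nat.card {D : Fin t → Submodule F (Fin n → F) // Cfsg.Geo.IsMDecomposition a D} / Nat.factorial t)
    (x : Matrix.SpecialLinearGroup (Fin n) F)
    (hx1 : ∃ z : F, ((x ^ 2 : Matrix.SpecialLinearGroup (Fin n) F) : Matrix (Fin n) (Fin n) F) = z • (1 : Matrix (Fin n) (Fin n) F))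
    (hx2 : ∀ z : F, (x : Matrix (Fin n) (Fin n) F) ≠ z • (1 : Matrix (Fin n) (Fin n) F)) :
    ∃ D : Fin t → Submodule F (Fin n → F), Cfsg.Geo.IsMDecomposition a D ∧
        ∃ σ : Equiv.Perm (Fin t), ∀ j, (D j).map (Matrix.toLin' (x : Matrix (Fin n) (Fin n) F)) = D (σ j) := by
  classical
  obtain ⟨z, hz⟩ := hx1
  set f : (Fin n → F) →ₗ[F] (Fin n → F) := Matrix.toLin' (x : Matrix (Fin n) (Fin n) F) with hf
  haveI : Nonempty (Fin n) := ⟨⟨0, by omega⟩⟩
  have hff : ∀ v, f (f v) = z • v := fun v => by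
    rw [hf, ← LinearMap.comp_apply, ← Matrix.toLin'_mul, ← pow_two, ← Matrix.SpecialLinearGroup.coe_pow,
      hz, map_smul, Matrix.toLin'_one, LinearMap.smul_apply, LinearMap.id_apply]
  have hz0 : z ≠ 0 := by
    rintro rfl
    have hdet := congrArg Matrix.det hz
    rw [(x ^ 2).2, zero_smul, Matrix.det_zero] at hdet
    exact one_ne_zero hdet
  suffices h : ∃ (ι : Type) (_ : Fintype ι) (b : Module.Basis ι F (Fin n → F)) (π : Equiv.Perm ι),
      (∀ i, π (π i) = i) ∧ ∀ i, ∃ c : F, c ≠ 0 ∧ f (b i) = c • b (π i) by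
    obtain ⟨ι, _, b, π, hπ, hb⟩ := h
    exact Forms.Elusive.exists_decomp b f π hπ hb a t hat ha ht
  by_cases hsq : ∃ d : F, d * d = z
  · obtain ⟨d, hd⟩ := hsq
    have hd0 : d ≠ 0 := fun h => hz0 (by rw [← hd, h, zero_mul])
    set g := d⁻¹ • f with hg
    have hgg : ∀ v, g (g v) = v := fun v => by
      rw [hg, LinearMap.smul_apply, LinearMap.smul_apply, map_smul, hff, smul_smul, smul_smul, ← hd]
      rw [show d⁻¹ * d⁻¹ * (d * d) = 1 by field_simp, one_smul]
    have hfg : ∀ v, f v = d • g v := fun v => by rw [hg, LinearMap.smul_apply, smul_inv_smul₀ hd0]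
    by_cases h2 : (2 : F) = 0
    · haveI : CharP F 2 := CharTwo.of_one_ne_zero_of_two_eq_zero one_ne_zero h2
      obtain ⟨k, dd, b, π, hπ, hb⟩ := Forms.Elusive.exists_perm_basis hgg
      exact ⟨_, inferInstance, b, π, hπ, fun i => ⟨d, hd0, by rw [hfg, hb]⟩⟩
    · obtain ⟨b, hb⟩ := Forms.Elusive.exists_eigenbasis h2 hgg
      refine ⟨_, inferInstance, b, 1, fun i => rfl, fun i => ?_⟩
      obtain ⟨c, hc0, hc⟩ := hb i
      exact ⟨d * c, mul_ne_zero hd0 hc0, by rw [hfg, hc, smul_smul]; rfl⟩
  · push Not at hsq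
    have h2 : (2 : F) ≠ 0 := fun h2 => by
      haveI : CharP F 2 := CharTwo.of_one_ne_zero_of_two_eq_zero one_ne_zero h2
      obtain ⟨d, hd⟩ := surjective_frobenius F 2 z
      exact hsq d (by rw [← hd, frobenius_def, pow_two])
    have hss : Module.End.IsSemisimple f := Forms.Elusive.isSemisimple_of_pow (r := 2) (c := z)
      (fun v => by rw [pow_two, Module.End.mul_apply, hff]) (by exact_mod_cast h2) hz0
    obtain ⟨k, v, hli, hspan⟩ := Forms.Elusive.exists_pairs hss hff hsq ⊤ le_top
    refine ⟨_, inferInstance, Module.Basis.mk hli hspan.ge, Equiv.sumComm _ _,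
      fun i => by rcases i with i | i <;> rfl, fun i => ?_⟩
    rcases i with i | i
    · exact ⟨1, one_ne_zero, by rw [Module.Basis.mk_apply, Module.Basis.mk_apply, one_smul]; rfl⟩
    · refine ⟨z, hz0, ?_⟩
      rw [Module.Basis.mk_apply, Module.Basis.mk_apply]
      exact hff (v i)

end Cfsg.Agent.S5957
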