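import Cfsg.Statements.S5959
import Cfsg.Agent.Lib.Forms.Elusive.UnipotentDecomp
-- import your own Cfsg.Agent.* helpers here

set_option autoImplicit false
open scoped MatrixGroups
open Cfsg

namespace Cfsg.Agent.S5959

/-- Elements of order `p` of PSL_n(q) and imprimitive subgroups: a necessary condition. Here `T = PSL_n(F)` for a field `F` with `q = p^f` elements (`n ≥ 2`, `(n, q) ≠ (2, 2), (2, 3)`), `n = a·t` with `t ≥ 2`, and Ω is the set of direct-sum decompositions of `F^n` into `t` subspaces of dimension `a` (unordered; their number is the number of ordered ones divided by `t!`), whose stabilizers are the imprimitive subgroups of type GL_a(q) ≀ S_t (maximal except in some small cases; maximality is not assumed); an element of `T` of prime order `r` (a matrix `x` of determinant 1 with `x^r` scalar, `x` not scalar) fixes a point of Ω when it permutes the summands of some such decomposition. Suppose `p > 2` divides the number of such decompositions. If every element of `T` of order `p` stabilizes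 such a decomposition, then every partition of `n` into parts of size at most `p` in which the part `p` occurs fewer than `a` times contains (as a sub-multiset) a partition of `a`. -/
theorem result {F : Type*} [Field F] [Fintype F] {p : ℕ} [Fact p.Prime] [CharP F p] {q : ℕ} (hq : Fintype.card F = q)
    (n a t : ℕ) (hn : 2 ≤ n) (hT : (n, q) ≠ (2, 2) ∧ (n, q) ≠ (2, 3)) (hat : n = a * t) (ha : 1 ≤ a) (ht : 2 ≤ t)
    (hp : 2 < p) (hΩ : p ∣ Nat.card {D : Fin t → Submodule F (Fin n → F) // Cfsg.Geo.IsMDecomposition a D} / Nat.factorial t)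
    (h : ∀ x : Matrix.SpecialLinearGroup (Fin n) F,
      (∃ z : F, ((x ^ p : Matrix.SpecialLinearGroup (Fin n) F) : Matrix (Fin n) (Fin n) F) = z • (1 : Matrix (Fin n) (Fin n) F)) →
      (∀ z : F, (x : Matrix (Fin n) (Fin n) F) ≠ z • (1 : Matrix (Fin n) (Fin n) F)) →
      ∃ D : Fin t → Submodule F (Fin n → F), Cfsg.Geo.IsMDecomposition a D ∧
        ∃ σ : Equiv.Perm (Fin t), ∀ j, (D j).map (Matrix.toLin' (x : Matrix (Fin n) (Fin n) F)) = D (σ j)) :
    (∀ μ : Multiset ℕ, (∀ b ∈ μ, 0 < b ∧ b ≤ p) → μ.sum = n → μ.count p < a → ∃ ν : Multiset ℕ, ν ≤ μ ∧ ν.sum = a) := by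
  classical
  intro μ hμ hsum hcount
  have han : a ≤ n := by rw [hat]; exact Nat.le_mul_of_pos_right a (by omega)
  by_cases hone : ∀ b ∈ μ, b = 1
  · have e := Multiset.eq_replicate_card.2 hone
    refine ⟨Multiset.replicate a 1, ?_, by simp⟩
    rw [e] at hsum ⊢
    simp at hsum
    exact (Multiset.replicate_le_replicate _).2 (by omega)
  obtain ⟨x, hx1, hx2, hxp, k, d, v, hch, hparts⟩ :=
    Forms.Elusive.exists_special_unip (F := F) (n := n) p (by omega) μ hμ hsum hone
  set f : (Fin n → F) →ₗ[F] (Fin n → F) := Matrix.toLin' (x : Matrix (Fin n) (Fin n) F) with hf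
  obtain ⟨D, hD, σ, hσ⟩ := h x hx1 hx2
  have hσ1 := Forms.Elusive.sigma_eq_one p hxp hD hσ hch (by rw [hparts]; exact hcount)
  have hinv : ∀ j, (D j).map f ≤ D j := fun j => by rw [hσ j, hσ1]; rfl
  have hinvN : ∀ U : Submodule F (Fin n → F), U.map f ≤ U → U.map (f - 1) ≤ U := by
    rintro U hU _ ⟨y, hy, rfl⟩
    rw [LinearMap.sub_apply, Module.End.one_apply]
    exact sub_mem (hU ⟨y, hy, rfl⟩) hy
  let j₀ : Fin t := ⟨0, by omega⟩
  have hnil : IsNilpotent (f - 1) := ⟨p, (hch.pow_eq_zero_iff p).2 fun i =>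
    (hμ (d i) (hparts ▸ Multiset.mem_map.2 ⟨i, Finset.mem_univ i, rfl⟩)).2⟩
  rw [← hparts]
  refine (Forms.Elusive.exists_pair_iff hnil hch a).1
    ⟨D j₀, ⨆ (j) (_ : j ≠ j₀), D j, ⟨hD.indep j₀, codisjoint_iff.2 ?_⟩, hD.finrank_eq j₀,
      hinvN _ (hinv j₀), hinvN _ ?_⟩
  · rw [eq_top_iff, ← hD.iSup_eq_top]
    refine iSup_le fun j => ?_
    by_cases hj : j = j₀
    · subst hj; exact le_sup_left
    · exact le_sup_of_le_right (le_iSup₂ (f := fun (j : Fin t) (_ : j ≠ j₀) => D j) j hj)
  · simp only [Submodule.map_iSup]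
    exact iSup₂_mono fun j _ => hinv j

end Cfsg.Agent.S5959
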