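import Cfsg.Statements.S5963
import Cfsg.Agent.Lib.Forms.Elusive.SympDerange
-- import your own Cfsg.Agent.* helpers here

set_option autoImplicit false
open scoped MatrixGroups
open Cfsg

namespace Cfsg.Agent.S5963

/-- Derangements of odd prime order of PSp_n(q), q odd, on pairs of complementary totally isotropic subspaces. Here `T = PSp_n(q)`, `n = 2d ≥ 4`, `q` odd, realised through the symplectic matrices over the field `F` with `q` elements; Ω is the set of unordered pairs `{U, W}` of complementary totally isotropic `d`-spaces (`F^n = U ⊕ W`), whose stabilizers are the subgroups of type GL_d(q).2 (maximal except in some small cases; maximality is not assumed); an element of `T` of prime order `r` (a symplectic matrix `x` with `x^r` scalar, `x` not scalar) fixes such a pair when it fixes or interchanges `U` and `W`. For every odd prime `r ≠ p` dividing the number of such pairs, some element of `T` of order `r` fixes no such pair (the action is never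 `r`-elusive for odd `r ≠ p`). -/
theorem result {F : Type*} [Field F] [Fintype F] {p : ℕ} [Fact p.Prime] [CharP F p] {q : ℕ} (hq : Fintype.card F = q)
    (d : ℕ) (hd : 2 ≤ d) (hT : (d, q) ≠ (2, 2)) (hodd : Odd q)
    (r : ℕ) [Fact r.Prime] (hr2 : r ≠ 2) (hrp : r ≠ p) (hΩ : r ∣ Nat.card {P : Submodule F (Fin d ⊕ Fin d → F) × Submodule F (Fin d ⊕ Fin d → F) // IsCompl P.1 P.2 ∧ (∀ u ∈ P.1, ∀ v ∈ P.1, Cfsg.sympForm d F u v = 0) ∧ (∀ u ∈ P.2, ∀ v ∈ P.2, Cfsg.sympForm d F u v = 0)} / 2) :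
    ∃ x : ↥(Matrix.symplecticGroup (Fin d) F),
      (∃ z : F, ((x ^ r : ↥(Matrix.symplecticGroup (Fin d) F)) : Matrix (Fin d ⊕ Fin d) (Fin d ⊕ Fin d) F) = z • (1 : Matrix (Fin d ⊕ Fin d) (Fin d ⊕ Fin d) F)) ∧
      (∀ z : F, (x : Matrix (Fin d ⊕ Fin d) (Fin d ⊕ Fin d) F) ≠ z • (1 : Matrix (Fin d ⊕ Fin d) (Fin d ⊕ Fin d) F)) ∧
      ¬ (∃ U W : Submodule F (Fin d ⊕ Fin d → F), IsCompl U W ∧ (∀ u ∈ U, ∀ v ∈ U, Cfsg.sympForm d F u v = 0) ∧ (∀ u ∈ W, ∀ v ∈ W, Cfsg.sympForm d F u v = 0) ∧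
        ((U.map (Matrix.toLin' (x : Matrix (Fin d ⊕ Fin d) (Fin d ⊕ Fin d) F)) = U ∧ W.map (Matrix.toLin' (x : Matrix (Fin d ⊕ Fin d) (Fin d ⊕ Fin d) F)) = W) ∨
         (U.map (Matrix.toLin' (x : Matrix (Fin d ⊕ Fin d) (Fin d ⊕ Fin d) F)) = W ∧ W.map (Matrix.toLin' (x : Matrix (Fin d ⊕ Fin d) (Fin d ⊕ Fin d) F)) = U))) := by
  classical
  subst hq
  obtain ⟨e, he0, hed, he⟩ :=
    Forms.Elusive.order_of_pairs (F := F) p hrp hr2 hodd (by omega : 0 < d) hΩ
  obtain ⟨x, hx, hfix⟩ := Forms.Elusive.exists_small_element (F := F) p hrp he0 hed he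
  have hr' := (Fact.out : r.Prime)
  have hxr : x ^ r = 1 := by rw [← hx, pow_orderOf_eq_one]
  set f := Matrix.toLin' (x : Matrix (Fin d ⊕ Fin d) (Fin d ⊕ Fin d) F) with hfd
  have hiso : ∀ u v, Forms.SympStd.sympB d F (f u) (f v) = Forms.SympStd.sympB d F u v := fun u v => by
    simp only [hfd, Matrix.toLin'_apply, Forms.SympStd.sympB_apply, Forms.SympStd.sympForm_mulVec]
  have hf : ∀ v, (f ^ r) v = v := fun v => by
    rw [hfd, ← Matrix.toLin'_pow, ← SubmonoidClass.coe_pow, hxr]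
    exact Matrix.one_mulVec v
  have hne : f ≠ 1 := fun h => by
    have h1 : x = 1 := Forms.SympStd.sp_ext fun v => by
      rw [← Matrix.toLin'_apply, ← hfd, h]
      exact (Matrix.one_mulVec v).symm
    rw [h1, orderOf_one] at hx
    exact hr'.one_lt.ne hx
  refine ⟨x, ⟨1, by rw [hxr, one_smul]; rfl⟩, fun z hz => ?_, ?_⟩
  · let i₀ : Fin d := ⟨0, by omega⟩
    have hz2 : z * z = 1 := by
      have h1 := hiso (Pi.single (Sum.inr i₀) 1) (Pi.single (Sum.inl i₀) 1)
      have e : ∀ v, f v = z • v := fun v => by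
        rw [hfd, Matrix.toLin'_apply, hz, Matrix.smul_mulVec, Matrix.one_mulVec]
      simp only [e, map_smul, LinearMap.smul_apply, Forms.SympStd.sympB_apply,
        Forms.SympStd.sympForm_inr_inl, if_true, smul_eq_mul, mul_one] at h1
      exact h1
    have h2 : x ^ 2 = 1 := Subtype.ext (by
      rw [SubmonoidClass.coe_pow, hz, _root_.smul_pow, one_pow, pow_two, hz2, one_smul]; rfl)
    have := orderOf_dvd_of_pow_eq_one h2
    rw [hx] at this
    exact hr2 ((Nat.prime_dvd_prime_iff_eq hr' Nat.prime_two).1 this)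
  · rintro ⟨U, W, hc, hU, hW, h⟩
    refine Forms.Elusive.no_pair Forms.SympStd.sympB_nondegenerate hiso
      (Forms.Elusive.natCast_prime_ne_zero p hrp) (hr'.odd_of_ne_two hr2) hf hne ?_ hc
      ((Forms.Elusive.isoOn_iff U).2 hU) ((Forms.Elusive.isoOn_iff W).2 hW) h
    rw [Forms.SympStd.finrank_vec, he]
    exact hfix

end Cfsg.Agent.S5963
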