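import Cfsg.Statements.S5964
import Cfsg.Agent.Lib.Forms.Elusive.Linear
import Cfsg.Agent.Lib.Forms.Elusive.SubfieldThree
import Cfsg.Agent.Lib.Forms.Elusive.Involution
import Cfsg.Agent.Lib.Classical.Linear

set_option autoImplicit false
open scoped MatrixGroups
open Cfsg

namespace Cfsg.Agent.S5964

open Cfsg.Agent.Forms.Elusive

/-- `a ^ k - 1` is an odd multiple of `a - 1` for odd `a`, `k` -/
theorem pow_sub_one_odd {a k : ℕ} (ha : Odd a) (hk : Odd k) : ∃ o, Odd o ∧ a ^ k - 1 = (a - 1) * o := by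
  obtain ⟨x, rfl⟩ : ∃ x, a = x + 1 := ⟨a - 1, by have := ha.pos; omega⟩
  refine ⟨∑ i ∈ Finset.range k, (x + 1) ^ i, ?_, ?_⟩
  · rw [Finset.odd_sum_iff_odd_card_odd, Finset.filter_true_of_mem fun i _ => ha.pow, Finset.card_range]
    exact hk
  · have := geom_sum_mul_add x k
    rw [mul_comm (x + 1 - 1)]
    simp only [Nat.add_sub_cancel]
    omega

theorem odd_index {F : Type*} [Field F] [Fintype F] {n k : ℕ} (hn : 1 ≤ n) (F₀ : Subfield F)
    (hk : Odd k) (hodd : Odd (Fintype.card F)) (hqk : Fintype.card F = Nat.card ↥F₀ ^ k) :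
    Odd ((Cfsg.Geo.subfieldSubgroup F₀ 1).comap
      (Matrix.SpecialLinearGroup.toGL : Matrix.SpecialLinearGroup (Fin n) F →* GL (Fin n) F)).index := by
  classical
  haveI := Fintype.ofFinite ↥F₀
  rw [Nat.card_eq_fintype_card] at hqk
  set q := Fintype.card F with hq
  set q₀ := Fintype.card ↥F₀ with hq₀
  have h0odd : Odd q₀ := by
    rw [hqk] at hodd
    exact (Nat.odd_pow_iff hk.pos.ne').1 hodd
  have hfac : ∀ i : Fin n, ∃ o, Odd o ∧ q ^ n - q ^ (i : ℕ) = (q₀ ^ n - q₀ ^ (i : ℕ)) * o := by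
    intro i
    obtain ⟨o, ho, e⟩ := pow_sub_one_odd (h0odd.pow (n := n - i)) hk
    refine ⟨q₀ ^ ((k - 1) * (i : ℕ)) * o, (h0odd.pow).mul ho, ?_⟩
    have hsplit : ∀ t : ℕ, t ^ n - t ^ (i : ℕ) = t ^ (i : ℕ) * (t ^ (n - i) - 1) := fun t => by
      rw [Nat.mul_sub, mul_one, ← pow_add, Nat.add_sub_cancel' i.2.le]
    have hpow : q ^ (i : ℕ) = q₀ ^ (i : ℕ) * q₀ ^ ((k - 1) * (i : ℕ)) := by
      rw [hqk, ← pow_mul, ← pow_add]
      congr 1
      obtain ⟨l, rfl⟩ := hk
      simp; ring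
    rw [hsplit, hsplit, hpow, hqk, ← pow_mul q₀ k, mul_comm k (n - (i : ℕ)), pow_mul q₀ (n - (i : ℕ)) k, e]
    ring
  choose o ho hmul using hfac
  obtain ⟨s, hs, hsmul⟩ := pow_sub_one_odd h0odd hk
  rw [← hqk] at hsmul
  have h1 := Classical.Linear.mul_natCard_SL_fin (F := F) hn
  have h2 := Classical.Linear.mul_natCard_SL_fin (F := ↥F₀) hn
  rw [← hq, Finset.prod_congr rfl (fun i _ => hmul i), Finset.prod_mul_distrib, ← h2, hsmul] at h1
  set φ : Matrix.SpecialLinearGroup (Fin n) ↥F₀ →* Matrix.SpecialLinearGroup (Fin n) F :=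
    Matrix.SpecialLinearGroup.map (n := Fin n) (F₀.subtype : ↥F₀ →+* F) with hφ
  have hinj : Function.Injective φ := fun a b h => Subtype.ext
    (Matrix.map_injective Subtype.val_injective (congrArg Subtype.val h))
  have hidx : φ.range.index * Nat.card (Matrix.SpecialLinearGroup (Fin n) ↥F₀) =
      Nat.card (Matrix.SpecialLinearGroup (Fin n) F) := by
    rw [Nat.card_congr (MonoidHom.ofInjective hinj).toEquiv]
    exact Subgroup.index_mul_card _
  have hpos : 0 < (q₀ - 1) * Nat.card (Matrix.SpecialLinearGroup (Fin n) ↥F₀) := by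
    have : 1 < q₀ := Fintype.one_lt_card
    exact Nat.mul_pos (by omega) Nat.card_pos
  have hprod : Odd (∏ i, o i) := Finset.prod_induction _ _ (fun a b => Odd.mul) odd_one fun i _ => ho i
  have hidx' : Odd φ.range.index := by
    rw [← hidx] at h1
    have : s * φ.range.index = ∏ i, o i := Nat.eq_of_mul_eq_mul_left hpos (by rw [← h1]; ring)
    exact (Nat.odd_mul.1 (this ▸ hprod)).2
  have hle : φ.range ≤ (Cfsg.Geo.subfieldSubgroup F₀ 1).comap
      (Matrix.SpecialLinearGroup.toGL : Matrix.SpecialLinearGroup (Fin n) F →* GL (Fin n) F) := by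
    rintro _ ⟨a, rfl⟩
    refine Subgroup.mem_comap.2 ((mem_subfield_iff F₀ _).2 ⟨Matrix.SpecialLinearGroup.toGL a, 1, Units.ext ?_⟩)
    rw [Units.val_mul, scal_val, Units.val_one, one_smul, mul_one]
    rfl
  obtain ⟨w, hw⟩ := Subgroup.index_dvd_of_le hle
  rw [hw] at hidx'
  exact (Nat.odd_mul.1 hidx').1


/-- Involutions of PSL_n(q) and subfield subgroups. Here `T = PSL_n(F)` for a field `F` with `q = p^f` elements (`n ≥ 2`, `(n, q) ≠ (2, 2), (2, 3)`), `F₀` is the subfield with `q₀` elements where `q = q₀^k` for a prime `k`, and `H` is the subgroup of matrices of determinant 1 lying in the subfield group of `F₀` (invertible matrices over `F₀` times scalars) — a maximal subgroup of type GL_n(q₀) (the case `n = 2`, `q₀ = 2` is excluded); Ω is the set of `T`-conjugates of `H` (cosets of `H`), so an element of `T` of prime order `r` (a matrix `x` of determinant 1 with `x^r` scalar, `x` not scalar) fixes a point of Ω when some conjugate of `x` by a matrix of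 determinant 1 lies in `H`. Suppose the index of `H` is even. Then every involution of `T` is conjugate in `T` into `H` if and only if either `q` is even, or `k = 2` and `(n)_2 ≤ (q − 1)_2`. (For `q` odd and `k` odd the index of `H` is odd, so that case does not arise.) -/
theorem result {F : Type*} [Field F] [Fintype F] {p : ℕ} [Fact p.Prime] [CharP F p] {q : ℕ} (hq : Fintype.card F = q)
    (n : ℕ) (hn : 2 ≤ n) (hT : (n, q) ≠ (2, 2) ∧ (n, q) ≠ (2, 3))
    (F₀ : Subfield F) (k q₀ : ℕ) (hk : k.Prime) (hF₀ : Nat.card ↥F₀ = q₀) (hqk : q = q₀ ^ k) (hC5 : ¬ (n = 2 ∧ q₀ = 2)) (hΩ : 2 ∣ ((Cfsg.Geo.subfieldSubgroup F₀ 1).comap (Matrix.SpecialLinearGroup.toGL : Matrix.SpecialLinearGroup (Fin n) F →* GL (Fin n) F)).index) :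
    (∀ x : Matrix.SpecialLinearGroup (Fin n) F,
      (∃ z : F, ((x ^ 2 : Matrix.SpecialLinearGroup (Fin n) F) : Matrix (Fin n) (Fin n) F) = z • (1 : Matrix (Fin n) (Fin n) F)) →
      (∀ z : F, (x : Matrix (Fin n) (Fin n) F) ≠ z • (1 : Matrix (Fin n) (Fin n) F)) →
      ∃ P : Matrix.SpecialLinearGroup (Fin n) F, P⁻¹ * x * P ∈ ((Cfsg.Geo.subfieldSubgroup F₀ 1).comap (Matrix.SpecialLinearGroup.toGL : Matrix.SpecialLinearGroup (Fin n) F →* GL (Fin n) F))) ↔
    (Odd q → (k = 2 ∧ padicValNat 2 n ≤ padicValNat 2 (q - 1))) := by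
  classical
  subst hq
  subst hF₀
  haveI : NeZero n := ⟨by omega⟩
  haveI : Fact (Nat.Prime 2) := ⟨Nat.prime_two⟩
  have two_dvd : Odd (Fintype.card F) → 2 ∣ Fintype.card F - 1 := fun ho => by
    obtain ⟨w, hw⟩ := ho; exact ⟨w, by omega⟩
  constructor
  · intro h hodd
    have hk2 : k = 2 := by
      by_contra hk2
      exact (Nat.not_even_iff_odd.2 (odd_index (n := n) (by omega) F₀ (hk.odd_of_ne_two hk2) hodd hqk))
        (even_iff_two_dvd.2 hΩ)
    refine ⟨hk2, ?_⟩
    subst hk2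
    by_contra hv
    obtain ⟨m, rfl⟩ : 2 ∣ n := by
      by_contra hnd
      rw [padicValNat.eq_zero_of_not_dvd hnd] at hv
      exact hv (Nat.zero_le _)
    obtain ⟨c, hc, hcm⟩ := (exists_twist_iff (two_dvd hodd) rfl (by omega : 0 < m)).2 fun hh => hv hh.1
    obtain ⟨A, hA, hdet⟩ := exists_model_scalar 2 hc m
    set x : Matrix.SpecialLinearGroup (Fin (2 * m)) F := ⟨A, hdet.trans hcm⟩ with hxdef
    have hx2 : ((x ^ 2 : Matrix.SpecialLinearGroup (Fin (2 * m)) F) : Matrix (Fin (2 * m)) (Fin (2 * m)) F) = c • 1 := by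
      refine (Matrix.SpecialLinearGroup.coe_pow _ 2).trans ?_
      refine Matrix.toLin'.injective (LinearMap.ext fun v => ?_)
      rw [Matrix.toLin'_pow, map_smul, Matrix.toLin'_one]
      exact hA v
    have hnotscal : ∀ z : F, (x : Matrix (Fin (2 * m)) (Fin (2 * m)) F) ≠ z • 1 := by
      intro z hz
      refine hc z ?_
      have h1 := congrFun (congrFun hx2 0) 0
      rw [Matrix.SpecialLinearGroup.coe_pow, hz, _root_.smul_pow, one_pow] at h1
      simpa using h1
    obtain ⟨P, hP⟩ := h x ⟨c, hx2⟩ hnotscal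
    obtain ⟨h₁, d, hd⟩ := (mem_subfield_iff F₀ _).1 (Subgroup.mem_comap.1 hP)
    have e2 : (P⁻¹ * x * P) ^ 2 = P⁻¹ * x ^ 2 * P := by simp only [pow_two]; group
    have h2 : (((P⁻¹ * x * P) ^ 2 : Matrix.SpecialLinearGroup (Fin (2 * m)) F) : Matrix (Fin (2 * m)) (Fin (2 * m)) F) =
        c • 1 := by
      rw [e2, Matrix.SpecialLinearGroup.coe_mul, Matrix.SpecialLinearGroup.coe_mul, hx2, Matrix.mul_smul,
        Matrix.mul_one, Matrix.smul_mul, ← Matrix.SpecialLinearGroup.coe_mul, inv_mul_cancel,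
        Matrix.SpecialLinearGroup.coe_one]
    have h3 := congrArg (fun g : GL (Fin (2 * m)) F => ((g ^ 2 : GL (Fin (2 * m)) F) : Matrix (Fin (2 * m)) (Fin (2 * m)) F)) hd
    rw [← map_pow, Commute.mul_pow (scal_comm d _).symm, ← map_pow, Units.val_mul] at h3
    change (((P⁻¹ * x * P) ^ 2 : Matrix.SpecialLinearGroup (Fin (2 * m)) F) : Matrix (Fin (2 * m)) (Fin (2 * m)) F) = _ at h3
    rw [h2, Units.val_pow_eq_pow_val (scal d), scal_val, _root_.smul_pow, one_pow, Matrix.mul_smul, Matrix.mul_one] at h3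
    have h4 := congrFun (congrFun h3 0) 0
    set a : ↥F₀ := ((h₁ ^ 2 : GL (Fin (2 * m)) ↥F₀) : Matrix (Fin (2 * m)) (Fin (2 * m)) ↥F₀) 0 0 with hadef
    have h5 : c = (d : F) ^ 2 * (a : F) := by
      simpa [hadef, -map_pow, -Units.val_pow_eq_pow_val, Matrix.GeneralLinearGroup.map_apply] using h4
    obtain ⟨b, hb⟩ : IsSquare (a : F) := by
      rcases eq_or_ne (a : F) 0 with e | e
      · rw [e]; exact ⟨0, by simp⟩
      have hchar : ringChar F ≠ 2 := fun e' => by
        have h6 := FiniteField.even_card_of_char_two e'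
        obtain ⟨w, hw⟩ := hodd
        omega
      haveI := Fintype.ofFinite ↥F₀
      rw [FiniteField.isSquare_iff hchar e, hqk, Nat.card_eq_fintype_card]
      obtain ⟨w, hw⟩ : Odd (Fintype.card ↥F₀) := by
        rw [hqk, Nat.card_eq_fintype_card] at hodd
        exact (Nat.odd_pow_iff two_ne_zero).1 hodd
      have h7 : a ^ (2 * w) = 1 := by
        have := FiniteField.pow_card_sub_one_eq_one a (fun e' => e (by rw [e']; rfl))
        rwa [hw, Nat.add_sub_cancel] at this
      have h8 : (Fintype.card ↥F₀ ^ 2) / 2 = 2 * w * (w + 1) := by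
        rw [hw, show (2 * w + 1) ^ 2 = 2 * (2 * w * (w + 1)) + 1 by ring]; omega
      rw [h8, pow_mul, ← SubmonoidClass.coe_pow, h7]
      simp
    exact hc ((d : F) * b) (by rw [h5, hb]; ring)
  · intro hcase x ⟨z, hz⟩ _
    have hz0 : z ≠ 0 := by
      rintro rfl
      have hdet := congrArg Matrix.det hz
      rw [(x ^ 2).2, zero_smul, Matrix.det_zero] at hdet
      exact one_ne_zero hdet
    obtain ⟨c, hc⟩ : ∃ c : F, c ^ 2 = z := by
      by_cases hodd : Odd (Fintype.card F)
      · obtain ⟨hk2, hv⟩ := hcase hodd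
        subst hk2
        by_contra hns
        push Not at hns
        obtain ⟨m, hm, hdet⟩ := det_of_not_pow (r := 2) (toLin'_pow_scalar hz) hns
        rw [Module.finrank_fin_fun] at hm
        rw [LinearMap.det_toLin', x.2] at hdet
        refine (exists_twist_iff (two_dvd hodd) hm (by omega)).1 ⟨z, hns, hdet.symm⟩ ⟨hv, fun _ _ => ?_⟩
        rw [hqk] at hodd ⊢
        obtain ⟨w, hw⟩ := (Nat.odd_pow_iff two_ne_zero).1 hodd
        rw [hw, show (2 * w + 1) ^ 2 = 4 * (w * w + w) + 1 by ring]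
        omega
      · refine exists_root_of_not_dvd (r := 2) (fun hd => hodd ?_) z
        have := Fintype.one_lt_card (α := F)
        rw [Nat.odd_iff]
        omega
    have hc0 : c ≠ 0 := fun e => hz0 (by rw [← hc, e, zero_pow two_ne_zero])
    let f : (Fin n → F) →ₗ[F] (Fin n → F) := c⁻¹ • Matrix.toLin' (x : Matrix (Fin n) (Fin n) F)
    have hf : ∀ v, f (f v) = v := fun v => by
      have := toLin'_pow_scalar hz v
      rw [pow_two, Module.End.mul_apply] at this
      simp only [f, LinearMap.smul_apply, map_smul, this, smul_smul]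
      rw [show c⁻¹ * (c⁻¹ * z) = 1 by rw [← hc]; field_simp, one_smul]
    obtain ⟨e, hedet, hrat⟩ := Inv.exists_rational F₀ hf 1
    obtain ⟨P, hP⟩ := Inv.exists_SL e hedet x
    let A : Matrix (Fin n) (Fin n) ↥F₀ := fun i j => ⟨_, hrat i j⟩
    have hPA : ((P⁻¹ * x * P : Matrix.SpecialLinearGroup (Fin n) F) : Matrix (Fin n) (Fin n) F) =
        c • A.map F₀.subtype := by
      refine Matrix.ext_of_mulVec_single fun j => ?_
      rw [hP, Matrix.smul_mulVec, Matrix.mulVec_single_one]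
      funext i
      show _ = c * e (c⁻¹ • Matrix.toLin' (x : Matrix (Fin n) (Fin n) F) (e.symm (Pi.single j 1))) i
      rw [map_smul, Pi.smul_apply, smul_eq_mul, mul_inv_cancel_left₀ hc0, Matrix.toLin'_apply]
    have hAA : A * A = 1 := by
      refine Matrix.map_injective (f := F₀.subtype) Subtype.val_injective ?_
      show (A * A).map F₀.subtype = (1 : Matrix (Fin n) (Fin n) ↥F₀).map F₀.subtype
      rw [Matrix.map_mul, Matrix.map_one _ (map_zero _) (map_one _)]
      have e2 : (P⁻¹ * x * P) ^ 2 = P⁻¹ * x ^ 2 * P := by simp only [pow_two]; group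
      have h1 := congrArg (fun g : Matrix.SpecialLinearGroup (Fin n) F => (g : Matrix (Fin n) (Fin n) F)) e2
      simp only [Matrix.SpecialLinearGroup.coe_pow, hPA] at h1
      rw [Matrix.SpecialLinearGroup.coe_mul, Matrix.SpecialLinearGroup.coe_mul, hz, Matrix.mul_smul,
        Matrix.mul_one, Matrix.smul_mul, ← Matrix.SpecialLinearGroup.coe_mul, inv_mul_cancel,
        Matrix.SpecialLinearGroup.coe_one, _root_.smul_pow, hc, pow_two] at h1
      exact smul_right_injective _ hz0 h1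
    refine ⟨P, Subgroup.mem_comap.2 ((mem_subfield_iff F₀ _).2 ⟨⟨A, A, hAA, hAA⟩, Units.mk0 c hc0, Units.ext ?_⟩)⟩
    rw [Units.val_mul, scal_val, Matrix.mul_smul, Matrix.mul_one]
    exact hPA

end Cfsg.Agent.S5964
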