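import Cfsg.Statements.S5969
import Cfsg.Agent.Lib.Forms.Elusive.Linear
import Cfsg.Agent.Lib.Forms.Elusive.Involution
import Cfsg.Agent.Lib.Forms.Max.QuadExt

set_option autoImplicit false
open scoped MatrixGroups
open Cfsg

namespace Cfsg.Agent.S5969

open Cfsg.Agent.Forms.Elusive Matrix

section helpers

variable {F : Type*} [Field F] [Fintype F]

theorem odd_iff_two_ne_zero : Odd (Fintype.card F) ↔ (2 : F) ≠ 0 := by
  constructor
  · intro ho h2
    haveI : CharP F 2 := CharTwo.of_one_ne_zero_of_two_eq_zero one_ne_zero h2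
    have := FiniteField.even_card_of_char_two (ringChar.eq F 2)
    obtain ⟨w, hw⟩ := ho; omega
  · intro h2
    refine Nat.odd_iff.2 (FiniteField.odd_card_of_char_ne_two fun e => h2 ?_)
    haveI := ringChar.of_eq e
    exact CharTwo.two_eq_zero

theorem neg_one_not_pow (h2 : (2 : F) ≠ 0) {n : ℕ}
    (hv : padicValNat 2 (Fintype.card F - 1) ≤ padicValNat 2 n) {c : F} : c ^ n ≠ -1 := by
  intro hc
  haveI : Fact (Nat.Prime 2) := ⟨Nat.prime_two⟩
  have hQ : Fintype.card F - 1 ≠ 0 := by have := Fintype.one_lt_card (α := F); omega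
  set v := padicValNat 2 (Fintype.card F - 1) with hvdef
  obtain ⟨u, hu⟩ : 2 ^ v ∣ Fintype.card F - 1 := pow_padicValNat_dvd
  have huo : Odd u := by
    rw [← Nat.not_even_iff_odd, even_iff_two_dvd]
    rintro ⟨w, rfl⟩
    exact pow_succ_padicValNat_not_dvd (p := 2) hQ ⟨w, by rw [← hvdef, pow_succ, mul_assoc]; exact hu⟩
  obtain ⟨w, hw⟩ : 2 ^ v ∣ n := (pow_dvd_pow 2 hv).trans pow_padicValNat_dvd
  have hn1 : (-1 : F) ≠ 1 := fun e => h2 (by rw [← one_add_one_eq_two, ← e]; nth_rw 1 [e]; rw [← e]; ring)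
  rcases eq_or_ne n 0 with rfl | hn0
  · exact hn1 (by rw [← hc, pow_zero])
  have hc0 : c ≠ 0 := fun e => by
    rw [e, zero_pow hn0] at hc
    exact neg_ne_zero.2 one_ne_zero hc.symm
  have h1 := congrArg (· ^ u) hc
  simp only [huo.neg_one_pow, ← pow_mul] at h1
  rw [show n * u = (Fintype.card F - 1) * w by rw [hw, hu]; ring, pow_mul,
    FiniteField.pow_card_sub_one_eq_one c hc0, one_pow] at h1
  exact hn1 h1.symm

theorem exists_neg_one_pow (h2 : (2 : F) ≠ 0) {n : ℕ} (hn : n ≠ 0)
    (hv : padicValNat 2 n < padicValNat 2 (Fintype.card F - 1)) : ∃ c : F, c ^ n = -1 := by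
  haveI : Fact (Nat.Prime 2) := ⟨Nat.prime_two⟩
  have hchar : ringChar F ≠ 2 := fun e => h2 (by haveI := ringChar.of_eq e; exact CharTwo.two_eq_zero)
  obtain ⟨e, he⟩ := FiniteField.exists_nonsquare hchar
  have he0 : e ≠ 0 := by rintro rfl; exact he ⟨0, by simp⟩
  have he1 : e ^ (Fintype.card F / 2) = -1 := by
    rcases FiniteField.pow_dichotomy hchar he0 with h | h
    · exact absurd ((FiniteField.isSquare_iff hchar he0).2 h) he
    · exact h
  obtain ⟨w, hw⟩ : 2 ^ padicValNat 2 n ∣ Fintype.card F / 2 := by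
    have hodd := Nat.odd_iff.1 (odd_iff_two_ne_zero.2 h2)
    have h1 : 2 ^ (padicValNat 2 n + 1) ∣ Fintype.card F - 1 :=
      (pow_dvd_pow 2 hv).trans pow_padicValNat_dvd
    obtain ⟨w, hw⟩ := h1
    exact ⟨w, by rw [pow_succ, mul_assoc, mul_left_comm] at hw; omega⟩
  obtain ⟨o, ho⟩ : 2 ^ padicValNat 2 n ∣ n := pow_padicValNat_dvd
  have hoo : Odd o := by
    rw [← Nat.not_even_iff_odd, even_iff_two_dvd]
    rintro ⟨x, hx⟩
    exact pow_succ_padicValNat_not_dvd (p := 2) hn
      ⟨x, by rw [pow_succ, mul_assoc, ← hx]; exact ho⟩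
  refine ⟨e ^ w, ?_⟩
  rw [← pow_mul, ho, ← mul_assoc, mul_comm w, ← hw, pow_mul, he1, hoo.neg_one_pow]

/-- a rank one involution -/
theorem exists_rank_one {n : ℕ} (hn : 2 ≤ n) :
    ∃ f : (Fin n → F) →ₗ[F] (Fin n → F), (∀ v, f (f v) = v) ∧ Inv.rk f = 1 ∧
      (∃ v, f v = v ∧ v ≠ 0) := by
  classical
  set i₀ : Fin n := ⟨0, by omega⟩
  set i₁ : Fin n := ⟨1, by omega⟩
  have hne : i₁ ≠ i₀ := fun e => absurd (congrArg Fin.val e) Nat.one_ne_zero
  obtain ⟨w, hw0, hw, hw1⟩ : ∃ w : Fin n → F, w ≠ 0 ∧ w i₀ + 2 = 0 ∧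
      ∀ j, j ≠ i₀ → j ≠ i₁ → w j = 0 := by
    by_cases h2 : (2 : F) = 0
    · exact ⟨Pi.single i₁ 1, fun e => by simpa using congrFun e i₁, by simp [hne.symm, h2],
        fun j _ hj => by simp [hj]⟩
    · exact ⟨Pi.single i₀ (-2), fun e => by simpa [h2] using congrFun e i₀, by simp,
        fun j hj _ => by simp [hj]⟩
  let M : (Fin n → F) →ₗ[F] (Fin n → F) := (LinearMap.proj (R := F) (φ := fun _ : Fin n => F) i₀).smulRight w
  have hM : ∀ v, M v = v i₀ • w := fun v => rfl
  refine ⟨LinearMap.id + M, fun v => ?_, ?_, Pi.single i₁ 1, ?_, fun e => by simpa using congrFun e i₁⟩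
  · simp only [LinearMap.add_apply, LinearMap.id_apply, hM, Pi.add_apply, Pi.smul_apply, smul_eq_mul,
      add_assoc]
    rw [← add_smul, show v i₀ + (v i₀ + v i₀ * w i₀) = v i₀ * (w i₀ + 2) by ring, hw,
      mul_zero, zero_smul, add_zero]
  · have hr : LinearMap.range (LinearMap.id + M - LinearMap.id) = F ∙ w := by
      rw [add_sub_cancel_left]
      refine le_antisymm ?_ ((Submodule.span_singleton_le_iff_mem _ _).2 ⟨Pi.single i₀ 1, by simp [hM]⟩)
      rintro _ ⟨v, rfl⟩
      exact Submodule.mem_span_singleton.2 ⟨v i₀, (hM v).symm⟩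
    rw [Inv.rk, hr, finrank_span_singleton hw0]
  · simp [hM, hne.symm]


end helpers

/-- Involutions of PSL_n(q) and extension-field subgroups of degree 2. Here `T = PSL_n(F)` for a field `F` with `q = p^f` elements (`n ≥ 2`, `(n, q) ≠ (2, 2), (2, 3)`), `k` is a prime dividing `n`, `K` is a subalgebra of the `n × n` matrices that is a field of degree `k` over `F` (an extension-field structure F_{q^k} on `F^n`), and `H` is the subgroup of matrices of determinant 1 normalizing `K` — a subgroup of type GL_{n/k}(q^k) (maximal except in some small cases; maximality is not assumed); Ω is the set of cosets of `H` in `T`, so an element of `T` of prime order `r` (a matrix `x` of determinant 1 with `x^r` scalar, `x` not scalar) fixes a point of Ω when some conjugate of `x` by a matrix of determinant 1 normalizes `K`. Take `k = 2` and suppose the index of `H` is even. Then every involution of `T` is conjugate in `T` into `H` if and only if `n = 2`, or `q` is odd and `(q − 1)_2 ≤ (n)_2`.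 -/
theorem result {F : Type*} [Field F] [Fintype F] {p : ℕ} [Fact p.Prime] [CharP F p] {q : ℕ} (hq : Fintype.card F = q)
    (n : ℕ) (hn : 2 ≤ n) (hT : (n, q) ≠ (2, 2) ∧ (n, q) ≠ (2, 3))
    (k : ℕ) (hk : k.Prime) (hkn : k ∣ n) (K : Subalgebra F (Matrix (Fin n) (Fin n) F)) (hK : Cfsg.Geo.IsFieldSubalgebra k K) (hk2 : k = 2) (hΩ : 2 ∣ ((Cfsg.Geo.subalgebraNormalizer K).comap (Matrix.SpecialLinearGroup.toGL : Matrix.SpecialLinearGroup (Fin n) F →* GL (Fin n) F)).index) :
    (∀ x : Matrix.SpecialLinearGroup (Fin n) F,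
      (∃ z : F, ((x ^ 2 : Matrix.SpecialLinearGroup (Fin n) F) : Matrix (Fin n) (Fin n) F) = z • (1 : Matrix (Fin n) (Fin n) F)) →
      (∀ z : F, (x : Matrix (Fin n) (Fin n) F) ≠ z • (1 : Matrix (Fin n) (Fin n) F)) →
      ∃ P : Matrix.SpecialLinearGroup (Fin n) F, P⁻¹ * x * P ∈ ((Cfsg.Geo.subalgebraNormalizer K).comap (Matrix.SpecialLinearGroup.toGL : Matrix.SpecialLinearGroup (Fin n) F →* GL (Fin n) F))) ↔
    (n = 2 ∨ (Odd q ∧ padicValNat 2 (q - 1) ≤ padicValNat 2 n)) := by
  classical
  subst hq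
  subst hk2
  haveI : NeZero n := ⟨by omega⟩
  haveI : Nontrivial (Fin n → F) := inferInstance
  haveI : Fact (Nat.Prime 2) := ⟨Nat.prime_two⟩
  obtain ⟨θ, a, N, hθK, hθsq, -, hirr, hspan⟩ := Forms.Max.QuadExt.exists_gen hK
  set T : (Fin n → F) →ₗ[F] (Fin n → F) := Matrix.toLin' θ with hTdef
  have hT' : ∀ v, T v = θ *ᵥ v := fun v => Matrix.toLin'_apply _ _
  have hsq : ∀ v, T (T v) = a • T v - N • v := fun v => by
    simp only [hT', Matrix.mulVec_mulVec, hθsq, Matrix.sub_mulVec, Matrix.smul_mulVec, Matrix.one_mulVec]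
  have hmem : ∀ y : Matrix.SpecialLinearGroup (Fin n) F,
      y ∈ (Cfsg.Geo.subalgebraNormalizer K).comap
        (Matrix.SpecialLinearGroup.toGL : Matrix.SpecialLinearGroup (Fin n) F →* GL (Fin n) F) ↔
      ((∀ v, (y : Matrix (Fin n) (Fin n) F) *ᵥ T v = T ((y : Matrix (Fin n) (Fin n) F) *ᵥ v)) ∨
        ∀ v, (y : Matrix (Fin n) (Fin n) F) *ᵥ T v =
          a • ((y : Matrix (Fin n) (Fin n) F) *ᵥ v) - T ((y : Matrix (Fin n) (Fin n) F) *ᵥ v)) := fun y => by
    rw [Subgroup.mem_comap, Forms.Max.QuadExt.mem_normalizer hK hspan hθK hθsq]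
    simp only [hT']
    exact Iff.rfl
  have hfin : Module.finrank F (Fin n → F) = n := Module.finrank_fin_fun F
  constructor
  · intro h
    by_contra hcon
    push Not at hcon
    obtain ⟨hn2, hcon⟩ := hcon
    obtain ⟨f, hf, hf1, v₁, hv₁, hv₁0⟩ := exists_rank_one (F := F) hn
    obtain ⟨c, hc0, hcdet⟩ : ∃ c : F, c ≠ 0 ∧ c ^ n * LinearMap.det f = 1 := by
      by_cases h2 : (2 : F) = 0
      · refine ⟨1, one_ne_zero, ?_⟩
        rw [one_pow, one_mul]
        have hd : LinearMap.det f * LinearMap.det f = 1 := by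
          rw [← LinearMap.det_comp, show f ∘ₗ f = LinearMap.id from LinearMap.ext hf, LinearMap.det_id]
        have : (LinearMap.det f - 1) * (LinearMap.det f - 1) = 0 := by
          linear_combination hd - (LinearMap.det f - 1) * h2
        exact sub_eq_zero.1 (mul_self_eq_zero.1 this)
      · obtain ⟨c, hc⟩ := exists_neg_one_pow h2 (by omega : n ≠ 0) (hcon (odd_iff_two_ne_zero.2 h2))
        refine ⟨c, fun e => ?_, by rw [hc, Inv.det_involution h2 hf, hf1]; norm_num⟩
        rw [e, zero_pow (by omega)] at hc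
        exact neg_ne_zero.2 one_ne_zero hc.symm
    let x : Matrix.SpecialLinearGroup (Fin n) F := ⟨c • LinearMap.toMatrix' f, by
      rw [Matrix.det_smul, LinearMap.det_toMatrix', Fintype.card_fin, hcdet]⟩
    have hxv : ∀ v, (x : Matrix (Fin n) (Fin n) F) *ᵥ v = c • f v := fun v => by
      show (c • LinearMap.toMatrix' f) *ᵥ v = _
      rw [Matrix.smul_mulVec, LinearMap.toMatrix'_mulVec]
    obtain ⟨P, hP⟩ := h x ⟨c * c, Matrix.ext_of_mulVec_single fun i => by
      rw [Matrix.SpecialLinearGroup.coe_pow, pow_two, ← Matrix.mulVec_mulVec, hxv, hxv, map_smul, hf,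
        smul_smul, Matrix.smul_mulVec, Matrix.one_mulVec]⟩ (fun z hz => by
      have h1 := hxv v₁
      rw [hz, Matrix.smul_mulVec, Matrix.one_mulVec, hv₁] at h1
      have hzc : z = c := sub_eq_zero.1 ((smul_eq_zero.1 (by rw [sub_smul, h1, sub_self] :
        (z - c) • v₁ = 0)).resolve_right hv₁0)
      have hf' : f = LinearMap.id := LinearMap.ext fun v => by
        have h2 := hxv v
        rw [hz, Matrix.smul_mulVec, Matrix.one_mulVec, hzc] at h2
        exact (smul_right_injective _ hc0 h2).symm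
      rw [hf', Inv.rk, sub_self, LinearMap.range_zero, finrank_bot] at hf1
      omega)
    let e : (Fin n → F) ≃ₗ[F] (Fin n → F) := LinearEquiv.ofLinear
      (Matrix.toLin' ((P⁻¹ : Matrix.SpecialLinearGroup (Fin n) F) : Matrix (Fin n) (Fin n) F))
      (Matrix.toLin' (P : Matrix (Fin n) (Fin n) F))
      (by rw [← Matrix.toLin'_mul, ← Matrix.SpecialLinearGroup.coe_mul, inv_mul_cancel,
        Matrix.SpecialLinearGroup.coe_one, Matrix.toLin'_one])
      (by rw [← Matrix.toLin'_mul, ← Matrix.SpecialLinearGroup.coe_mul, mul_inv_cancel,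
        Matrix.SpecialLinearGroup.coe_one, Matrix.toLin'_one])
    set g : (Fin n → F) →ₗ[F] (Fin n → F) := e.toLinearMap ∘ₗ f ∘ₗ e.symm.toLinearMap with hgdef
    have hg : ∀ v, g (g v) = v := fun v => by simp [hgdef, hf]
    have hgr : Inv.rk g = 1 := (Inv.rk_conj e fun v => by simp [hgdef]).trans hf1
    have hgv : ∀ v, ((P⁻¹ * x * P : Matrix.SpecialLinearGroup (Fin n) F) : Matrix (Fin n) (Fin n) F) *ᵥ v = c • g v := fun v => by
      rw [Matrix.SpecialLinearGroup.coe_mul, Matrix.SpecialLinearGroup.coe_mul, ← Matrix.mulVec_mulVec,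
        ← Matrix.mulVec_mulVec, hxv, Matrix.mulVec_smul]
      rfl
    rcases (hmem _).1 hP with hl | hr
    · have hcm : ∀ v, g (T v) = T (g v) := fun v => by
        have := hl v
        rw [hgv, hgv, map_smul] at this
        exact smul_right_injective _ hc0 this
      have := Inv.even_rk_of_comm hsq hirr hcm
      rw [hgr] at this
      exact Nat.not_even_one this
    · have hcm : ∀ v, g (T v) = a • g v - T (g v) := fun v => by
        have := hr v
        rw [hgv, hgv, map_smul, smul_comm a c, ← smul_sub] at this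
        exact smul_right_injective _ hc0 this
      have := Inv.two_rk_of_anti hsq hirr hg hcm
      omega
  · intro hcase x ⟨z, hz⟩ _
    have hxx : ∀ v, Matrix.toLin' (x : Matrix (Fin n) (Fin n) F) (Matrix.toLin' (x : Matrix (Fin n) (Fin n) F) v) = z • v := fun v => by
      have := toLin'_pow_scalar hz v
      rwa [pow_two, Module.End.mul_apply] at this
    by_cases hsqz : ∃ c : F, c * c = z
    · obtain ⟨c, hc⟩ := hsqz
      have hc0 : c ≠ 0 := by
        rintro rfl
        have hdet := congrArg Matrix.det hz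
        rw [(x ^ 2).2, ← hc, zero_mul, zero_smul, Matrix.det_zero] at hdet
        exact one_ne_zero hdet
      let f : (Fin n → F) →ₗ[F] (Fin n → F) := c⁻¹ • Matrix.toLin' (x : Matrix (Fin n) (Fin n) F)
      have hfx : ∀ v, (x : Matrix (Fin n) (Fin n) F) *ᵥ v = c • f v := fun v => by
        simp only [f, LinearMap.smul_apply, Matrix.toLin'_apply, smul_inv_smul₀ hc0]
      have hf : ∀ v, f (f v) = v := fun v => by
        simp only [f, LinearMap.smul_apply, map_smul, hxx, smul_smul]
        rw [show c⁻¹ * (c⁻¹ * z) = 1 by rw [← hc]; field_simp, one_smul]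
      have hrk : Even (Inv.rk f) ∨ 2 * Inv.rk f = n := by
        rcases hcase with rfl | ⟨hodd, hv⟩
        · rcases (by have := Inv.rk_le f; omega : Inv.rk f = 0 ∨ Inv.rk f = 1 ∨ Inv.rk f = 2) with h | h | h
          · exact Or.inl (by simp [h])
          · exact Or.inr (by rw [h])
          · exact Or.inl (by simp [h])
        · have h2 := odd_iff_two_ne_zero.1 hodd
          refine Or.inl (Nat.not_odd_iff_even.1 fun ho => neg_one_not_pow h2 hv (c := c) ?_)
          have hd : LinearMap.det (Matrix.toLin' (x : Matrix (Fin n) (Fin n) F)) = c ^ n * LinearMap.det f := by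
            have h5 := LinearMap.det_smul c f
            rw [hfin] at h5
            rw [← h5]
            simp only [f, smul_inv_smul₀ hc0]
          rw [LinearMap.det_toLin', x.2, Inv.det_involution h2 hf, ho.neg_one_pow] at hd
          linear_combination hd
      obtain ⟨h, hh, hr, hN⟩ : ∃ h : (Fin n → F) →ₗ[F] (Fin n → F), (∀ v, h (h v) = v) ∧ Inv.rk h = Inv.rk f ∧
          ((∀ v, h (T v) = T (h v)) ∨ ∀ v, h (T v) = a • h v - T (h v)) := by
        rcases hrk with ⟨t, ht⟩ | hm
        · obtain ⟨h, h1, h2, h3⟩ := Inv.exists_comm hsq hirr t (by have := Inv.rk_le f; omega) (fun e => by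
            have := (Inv.two_rk_le e hf).2; omega)
          exact ⟨h, h1, by omega, Or.inl h2⟩
        · obtain ⟨h, h1, h2⟩ := Inv.exists_anti hsq hirr
          exact ⟨h, h1, by have := Inv.two_rk_of_anti hsq hirr h1 h2; omega, Or.inr h2⟩
      obtain ⟨e, he, hedet⟩ := Inv.exists_conj hf hh hr.symm 1
      obtain ⟨P, hP⟩ := Inv.exists_SL e hedet x
      have hPv : ∀ v, ((P⁻¹ * x * P : Matrix.SpecialLinearGroup (Fin n) F) : Matrix (Fin n) (Fin n) F) *ᵥ v = c • h v := fun v => by
        rw [hP, hfx, map_smul, he, LinearEquiv.apply_symm_apply]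
      refine ⟨P, (hmem _).2 ?_⟩
      rcases hN with hN | hN
      · exact Or.inl fun v => by rw [hPv, hPv, map_smul, hN]
      · exact Or.inr fun v => by rw [hPv, hPv, map_smul, hN, smul_comm a c, smul_sub]
    · have h2 : (2 : F) ≠ 0 := fun e => hsqz (Inv.exists_sq e z)
      push Not at hsqz
      have hz0 : z ≠ 0 := fun e => hsqz 0 (by rw [e, mul_zero])
      set D := a * a / 4 - N with hD
      have h4 : (4 : F) ≠ 0 := by rw [show (4 : F) = 2 * 2 by norm_num]; exact mul_ne_zero h2 h2
      have hDns : ∀ d : F, d * d ≠ D := fun d hd => hirr (a / 2 + d) (by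
        rw [hD] at hd
        field_simp at hd ⊢
        linear_combination hd)
      have hD0 : D ≠ 0 := fun e => hDns 0 (by rw [e, mul_zero])
      have hchar : ringChar F ≠ 2 := fun e => h2 (by haveI := ringChar.of_eq e; exact CharTwo.two_eq_zero)
      obtain ⟨s, hs⟩ : IsSquare (z / D) := by
        have hneg : ∀ w : F, w ≠ 0 → (∀ d, d * d ≠ w) → w ^ (Fintype.card F / 2) = -1 := fun w hw0 hw => by
          rcases FiniteField.pow_dichotomy hchar hw0 with h | h
          · obtain ⟨d, hd⟩ := (FiniteField.isSquare_iff hchar hw0).2 h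
            exact absurd hd.symm (hw d)
          · exact h
        rw [FiniteField.isSquare_iff hchar (div_ne_zero hz0 hD0), div_pow, hneg z hz0 hsqz, hneg D hD0 hDns,
          div_self (neg_ne_zero.2 one_ne_zero)]
      let θ' : (Fin n → F) →ₗ[F] (Fin n → F) := s • T - (s * a / 2) • LinearMap.id
      have hθ' : ∀ v, θ' (θ' v) = (0 : F) • θ' v - (-z) • v := fun v => by
        simp only [θ', LinearMap.sub_apply, LinearMap.smul_apply, LinearMap.id_apply, map_sub, map_smul, hsq]
        have hzs : z = s * s * D := by rw [← hs, div_mul_cancel₀ _ hD0]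
        rw [hzs, hD]
        match_scalars <;> field_simp <;> ring
      have hx' : ∀ v, Matrix.toLin' (x : Matrix (Fin n) (Fin n) F) (Matrix.toLin' (x : Matrix (Fin n) (Fin n) F) v) =
          (0 : F) • Matrix.toLin' (x : Matrix (Fin n) (Fin n) F) v - (-z) • v := fun v => by
        rw [hxx]; simp
      obtain ⟨e, he, hedet⟩ := Inv.exists_conj_quad hx' hθ' (fun d hd => hsqz d (by linear_combination hd)) 1
      obtain ⟨P, hP⟩ := Inv.exists_SL e hedet x
      have hPv : ∀ v, ((P⁻¹ * x * P : Matrix.SpecialLinearGroup (Fin n) F) : Matrix (Fin n) (Fin n) F) *ᵥ v = θ' v := fun v => by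
        rw [hP, ← Matrix.toLin'_apply, he, LinearEquiv.apply_symm_apply]
      refine ⟨P, (hmem _).2 (Or.inl fun v => ?_)⟩
      rw [hPv, hPv]
      simp [θ']

end Cfsg.Agent.S5969
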