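import Cfsg.Statements.S5979
import Cfsg.Agent.Lib.Forms.Elusive.Linear
import Cfsg.Agent.Lib.Forms.Elusive.Involution
import Cfsg.Agent.Lib.Forms.Elusive.SubfieldThree
import Cfsg.Agent.Lib.Classical.Linear
import Cfsg.Agent.S5969

set_option autoImplicit false
open scoped MatrixGroups
open Cfsg

namespace Cfsg.Agent.S5979


open Cfsg.Agent.Forms.Elusive Matrix Module Kronecker

variable {F : Type*} [Field F]

theorem rank_conj {ι : Type} [Fintype ι] [DecidableEq ι] (g : GL ι F) (M : Matrix ι ι F) (μ : F) :
    (((g⁻¹ : GL ι F) : Matrix ι ι F) * M * (g : Matrix ι ι F) - μ • 1).rank = (M - μ • 1).rank := by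
  have hg : IsUnit (g : Matrix ι ι F).det := (Matrix.isUnit_iff_isUnit_det _).1 g.isUnit
  have hg' : IsUnit ((g⁻¹ : GL ι F) : Matrix ι ι F).det := (Matrix.isUnit_iff_isUnit_det _).1 (g⁻¹).isUnit
  have e : ((g⁻¹ : GL ι F) : Matrix ι ι F) * M * (g : Matrix ι ι F) - μ • 1 =
      ((g⁻¹ : GL ι F) : Matrix ι ι F) * (M - μ • 1) * (g : Matrix ι ι F) := by
    rw [Matrix.mul_sub, Matrix.sub_mul, Matrix.mul_smul, Matrix.mul_one, Matrix.smul_mul, ← Units.val_mul g⁻¹ g,
      inv_mul_cancel, Units.val_one]
  rw [e, Matrix.rank_mul_eq_left_of_isUnit_det _ _ hg, Matrix.rank_mul_eq_right_of_isUnit_det _ _ hg']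

theorem rk_eq_rank {ι : Type} [Fintype ι] [DecidableEq ι] (M : Matrix ι ι F) :
    Inv.rk (Matrix.toLin' M) = (M - 1).rank := by
  rw [Inv.rk, Matrix.rank, ← Matrix.toLin'_one, ← map_sub]
  rfl

theorem rank_one_kronecker (a b : ℕ) (C : Matrix (Fin b) (Fin b) F) :
    ((1 : Matrix (Fin a) (Fin a) F) ⊗ₖ C).rank = a * C.rank := by
  classical
  have hv : ∀ (w : Fin a × Fin b → F) (i : Fin a) (j : Fin b),
      (((1 : Matrix (Fin a) (Fin a) F) ⊗ₖ C) *ᵥ w) (i, j) = (C *ᵥ fun k => w (i, k)) j := by
    intro w i j
    simp only [Matrix.mulVec, dotProduct, Matrix.kroneckerMap_apply, Fintype.sum_prod_type]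
    rw [Finset.sum_eq_single i]
    · simp
    · intro k _ hk; simp [Ne.symm hk]
    · simp
  let W := LinearMap.range ((1 : Matrix (Fin a) (Fin a) F) ⊗ₖ C).mulVecLin
  let U := LinearMap.range C.mulVecLin
  let φ : W →ₗ[F] (Fin a → U) :=
    { toFun := fun w i => ⟨fun j => (w : Fin a × Fin b → F) (i, j), by
        obtain ⟨x, hx⟩ := w.2
        exact ⟨fun k => x (i, k), funext fun j => by rw [← hx]; exact (hv x i j).symm⟩⟩
      map_add' := fun _ _ => rfl
      map_smul' := fun _ _ => rfl }
  have hinj : Function.Injective φ := fun w w' h => Subtype.ext (funext fun ⟨i, j⟩ =>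
    congrFun (congrArg Subtype.val (congrFun h i)) j)
  have hsurj : Function.Surjective φ := by
    intro u
    choose x hx using fun i => (u i).2
    refine ⟨⟨_, ⟨fun p => x p.1 p.2, rfl⟩⟩, funext fun i => Subtype.ext (funext fun j => ?_)⟩
    show (((1 : Matrix (Fin a) (Fin a) F) ⊗ₖ C) *ᵥ fun p => x p.1 p.2) (i, j) = _
    rw [hv]
    exact congrFun (hx i) j
  show finrank F W = a * finrank F U
  rw [(LinearEquiv.ofBijective φ ⟨hinj, hsurj⟩).finrank_eq, Module.finrank_pi_fintype, Finset.sum_const,
    Finset.card_univ, Fintype.card_fin, smul_eq_mul]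

/-- a non-scalar left factor makes every difference with a scalar large -/
theorem rank_ge {a b : ℕ} {A : Matrix (Fin a) (Fin a) F} {B : Matrix (Fin b) (Fin b) F} (hB : IsUnit B.det)
    (hA : ∀ α : F, A ≠ α • 1) (μ : F) : b ≤ (A ⊗ₖ B - μ • 1).rank := by
  classical
  obtain ⟨v, hv⟩ : ∃ v, ∀ c : F, A *ᵥ v ≠ c • v := by
    by_contra h
    push Not at h
    choose c hc using h
    have hd : ∀ i j, i ≠ j → A i j = 0 := fun i j hij => by
      have h2 := congrFun (hc (Pi.single j 1)) i
      simpa [hij] using h2
    rcases isEmpty_or_nonempty (Fin a) with h0 | ⟨⟨i₀⟩⟩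
    · exact hA 0 (Matrix.ext fun i => h0.elim i)
    refine hA (A i₀ i₀) (Matrix.ext fun i j => ?_)
    rcases eq_or_ne i j with rfl | hij
    · rcases eq_or_ne i i₀ with rfl | hi
      · simp
      · have h2 := congrFun (hc (Pi.single i 1 + Pi.single i₀ 1)) i
        have h3 := congrFun (hc (Pi.single i 1 + Pi.single i₀ 1)) i₀
        simp [Matrix.mulVec_add, hi, hi.symm, hd i i₀ hi, hd i₀ i hi.symm] at h2 h3
        simp [h2, h3]
    · simp [hd i j hij, hij]
  let φ : (Fin b → F) →ₗ[F] (Fin a × Fin b → F) :=
    { toFun := fun w p => (A *ᵥ v) p.1 * (B *ᵥ w) p.2 - μ * (v p.1 * w p.2)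
      map_add' := fun x y => funext fun p => by simp [Matrix.mulVec_add]; ring
      map_smul' := fun c x => funext fun p => by simp [Matrix.mulVec_smul]; ring }
  have hinj : Function.Injective φ := by
    rw [injective_iff_map_eq_zero]
    intro w hw
    by_contra hw0
    have hBw : B *ᵥ w ≠ 0 := fun e => hw0 (Matrix.mulVec_injective_iff_isUnit.2
      ((Matrix.isUnit_iff_isUnit_det _).2 hB) (e.trans (Matrix.mulVec_zero B).symm))
    obtain ⟨j, hj⟩ := Function.ne_iff.1 hBw
    refine hv (μ * w j / (B *ᵥ w) j) (funext fun i => ?_)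
    have h2 := congrFun hw (i, j)
    simp only [φ, LinearMap.coe_mk, AddHom.coe_mk, Pi.zero_apply] at h2
    have hj' : (B *ᵥ w) j ≠ 0 := hj
    rw [Pi.smul_apply, smul_eq_mul, div_mul_eq_mul_div, eq_div_iff hj']
    linear_combination h2
  have hle : LinearMap.range φ ≤ LinearMap.range (A ⊗ₖ B - μ • 1).mulVecLin := by
    rintro _ ⟨w, rfl⟩
    refine ⟨fun p => v p.1 * w p.2, funext fun p => ?_⟩
    rw [Matrix.mulVecLin_apply, Matrix.sub_mulVec, Matrix.smul_mulVec, Matrix.one_mulVec, Pi.sub_apply,
      Pi.smul_apply, smul_eq_mul]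
    show _ = (A *ᵥ v) p.1 * (B *ᵥ w) p.2 - μ * (v p.1 * w p.2)
    congr 1
    simp only [Matrix.mulVec, dotProduct, Matrix.kroneckerMap_apply, Fintype.sum_prod_type, Finset.sum_mul,
      Finset.mul_sum]
    rw [Finset.sum_comm]
    exact Finset.sum_congr rfl fun i _ => Finset.sum_congr rfl fun j _ => by ring
  have h1 := Submodule.finrank_mono hle
  rw [LinearMap.finrank_range_of_inj hinj, Module.finrank_fin_fun] at h1
  exact h1

/-- a small difference forces a scalar left factor -/
theorem scalar_left {a b : ℕ} {A : Matrix (Fin a) (Fin a) F} {B : Matrix (Fin b) (Fin b) F} (hB : IsUnit B.det)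
    {μ : F} {i : ℕ} (hi : i < b) (h : (A ⊗ₖ B - μ • 1).rank = i) :
    ∃ C : Matrix (Fin b) (Fin b) F, A ⊗ₖ B = 1 ⊗ₖ C ∧ ∀ ν : F, (A ⊗ₖ B - ν • 1).rank = a * (C - ν • 1).rank := by
  obtain ⟨α, rfl⟩ : ∃ α : F, A = α • 1 := by
    by_contra hA
    push Not at hA
    have := rank_ge hB hA μ
    omega
  have e : (α • 1 : Matrix (Fin a) (Fin a) F) ⊗ₖ B = 1 ⊗ₖ (α • B) := by
    rw [Matrix.smul_kronecker, Matrix.kronecker_smul]
  refine ⟨α • B, e, fun ν => ?_⟩
  rw [← rank_one_kronecker, e]
  congr 1
  ext ⟨i, j⟩ ⟨k, l⟩
  rcases eq_or_ne i k with rfl | hik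
  · rcases eq_or_ne j l with rfl | hjl
    · simp
    · simp [hjl]
  · simp [hik]

section coord

variable {n a b : ℕ} (e : Fin n ≃ Fin a × Fin b) (P : GL (Fin n) F)

/-- coordinates with respect to the decomposition -/
def coordMat (g : Matrix (Fin n) (Fin n) F) : Matrix (Fin a × Fin b) (Fin a × Fin b) F :=
  Matrix.reindexAlgEquiv F F e (((P⁻¹ : GL (Fin n) F) : Matrix (Fin n) (Fin n) F) * g * (P : Matrix (Fin n) (Fin n) F))

theorem mem_iff (g : GL (Fin n) F) :
    g ∈ Cfsg.Geo.tensorProductSubgroup a b e P ↔
      ∃ (A : GL (Fin a) F) (B : GL (Fin b) F),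
        coordMat e P (g : Matrix (Fin n) (Fin n) F) = (A : Matrix (Fin a) (Fin a) F) ⊗ₖ (B : Matrix (Fin b) (Fin b) F) := by
  constructor
  · rintro ⟨_, ⟨k, ⟨A, B, hk⟩, rfl⟩, rfl⟩
    refine ⟨A, B, ?_⟩
    rw [← hk, coordMat]
    show Matrix.reindexAlgEquiv F F e (_ * ((P * (Cfsg.Geo.glReindex e.symm) k * P⁻¹ : GL (Fin n) F) : Matrix (Fin n) (Fin n) F) * _) = _
    rw [← Units.val_mul, ← Units.val_mul, show P⁻¹ * (P * (Cfsg.Geo.glReindex e.symm) k * P⁻¹) * P =
      (Cfsg.Geo.glReindex e.symm) k by group]
    show Matrix.reindexAlgEquiv F F e (Matrix.reindexAlgEquiv F F e.symm (k : Matrix (Fin a × Fin b) (Fin a × Fin b) F)) = _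
    ext i j
    simp
  · rintro ⟨A, B, h⟩
    refine ⟨(Cfsg.Geo.glReindex e.symm) (Cfsg.Geo.glReindex e (P⁻¹ * g * P)), ⟨_, ⟨A, B, ?_⟩, rfl⟩, ?_⟩
    · rw [← h]
      rfl
    · show P * (Cfsg.Geo.glReindex e.symm) (Cfsg.Geo.glReindex e (P⁻¹ * g * P)) * P⁻¹ = g
      rw [show (Cfsg.Geo.glReindex e.symm) (Cfsg.Geo.glReindex e (P⁻¹ * g * P)) = P⁻¹ * g * P from
        Units.ext (Matrix.ext fun i j => by simp [Cfsg.Geo.glReindex])]
      group

theorem rank_coord (g : Matrix (Fin n) (Fin n) F) (μ : F) : (coordMat e P g - μ • 1).rank = (g - μ • 1).rank := by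
  rw [coordMat, ← map_one (Matrix.reindexAlgEquiv F F e), ← map_smul, ← map_sub]
  show (Matrix.reindex e e _).rank = _
  rw [Matrix.rank_reindex, rank_conj]

theorem coord_pow (g : GL (Fin n) F) (k : ℕ) :
    coordMat e P ((g ^ k : GL (Fin n) F) : Matrix (Fin n) (Fin n) F) = coordMat e P (g : Matrix (Fin n) (Fin n) F) ^ k := by
  have h := conj_pow (i := k) (a := P⁻¹) (b := g)
  rw [inv_inv] at h
  rw [coordMat, coordMat, ← map_pow, ← Units.val_mul, ← Units.val_mul, ← h, Units.val_pow_eq_pow_val, Units.val_mul,
    Units.val_mul]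

end coord

variable [Fintype F]

/-- the moved part of an element of order `r` -/
theorem order_le_rank {b r : ℕ} [Fact r.Prime] (hr0 : (r : F) ≠ 0) {C : Matrix (Fin b) (Fin b) F}
    (hC : C ^ r = 1) (hC1 : C ≠ 1) : orderOf ((Fintype.card F : ℕ) : ZMod r) ≤ (C - (1 : F) • 1).rank := by
  rw [one_smul, ← rk_eq_rank]
  set f := Matrix.toLin' C with hf
  have hfr : ∀ v, (f ^ r) v = v := fun v => by
    rw [hf, ← Matrix.toLin'_pow, hC, Matrix.toLin'_one, LinearMap.id_apply]
  obtain ⟨D, -, -, hd, hD, hsum⟩ := exists_free_part hr0 hfr (W := ⊤) le_top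
  rw [inf_top_eq, finrank_top] at hsum
  have hrk : Inv.rk f + finrank F (fixSp f) = finrank F (Fin b → F) :=
    LinearMap.finrank_range_add_finrank_ker (f - LinearMap.id)
  have hpos : 0 < finrank F D := by
    by_contra h0
    have hfix : fixSp f = ⊤ := Submodule.eq_top_of_finrank_eq (by omega)
    exact hC1 (Matrix.toLin'.injective (LinearMap.ext fun v => by
      rw [← hf, Matrix.toLin'_one, LinearMap.id_apply]
      exact mem_fixSp.1 (hfix ▸ Submodule.mem_top)))
  have := Nat.le_of_dvd hpos (hD.dvd D hD.inv le_rfl)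
  omega

/-- Elements of prime order of PSL_n(q) and the stabilizers of tensor decompositions with factors of different dimensions. Here `T = PSL_n(F)` for a field `F` with `q` elements and `n = a·b` with `2 ≤ a < b`; a tensor decomposition `F^n ≅ F^a ⊗ F^b` is given by a bijection `e` of index sets and a change of basis `P`, and `H` is the subgroup of matrices of determinant 1 in its stabilizer (the conjugate by `P` of the group of Kronecker products `g₁ ⊗ g₂`) — a subgroup of type GL_a(q) ⊗ GL_b(q) (maximality is not assumed); Ω is the set of cosets of `H` in `T`, so an element of `T` of prime order `r` (a matrix `x` of determinant 1 with `x^r` scalar, `x` not scalar) fixes a point of Ω exactly when some conjugate of `x` by a matrix of determinant 1 lies in `H`. Let `r` be a prime dividing the index of `H`. Then every element of `T` of order `r` fixes a point of Ω if and only if `r = 2`, `a = 2`, `q` is odd and `(q − 1)_2 ≤ (n)_2` (2-parts). -/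
theorem result {F : Type*} [Field F] [Fintype F] {p : ℕ} [Fact p.Prime] [CharP F p] {q : ℕ} (hq : Fintype.card F = q)
    (n a b : ℕ) (hab : n = a * b) (ha : 2 ≤ a) (hlt : a < b) (e : Fin n ≃ Fin a × Fin b) (P : GL (Fin n) F)
    (r : ℕ) [Fact r.Prime]
    (hΩ : r ∣ (Cfsg.Geo.tensorProductSubgroup a b e P).relIndex (Cfsg.Geo.specialLinear (Fin n) F)) :
    (∀ x ∈ Cfsg.Geo.specialLinear (Fin n) F, (∃ z : F, ((x ^ r : GL (Fin n) F) : Matrix (Fin n) (Fin n) F) = z • (1 : Matrix (Fin n) (Fin n) F)) →
      (∀ z : F, (x : Matrix (Fin n) (Fin n) F) ≠ z • (1 : Matrix (Fin n) (Fin n) F)) →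
      ∃ g ∈ Cfsg.Geo.specialLinear (Fin n) F, g⁻¹ * x * g ∈ Cfsg.Geo.tensorProductSubgroup a b e P) ↔
    (r = 2 ∧ a = 2 ∧ Odd q ∧ padicValNat 2 (q - 1) ≤ padicValNat 2 n) := by
  classical
  subst hq
  haveI : Fact (Nat.Prime 2) := ⟨Nat.prime_two⟩
  have hn6 : 6 ≤ n := by rw [hab]; nlinarith
  haveI : NeZero n := ⟨by omega⟩
  have hb : 2 < b := by omega
  have hdet : ∀ x ∈ Cfsg.Geo.specialLinear (Fin n) F, (x : Matrix (Fin n) (Fin n) F).det = 1 := fun x hx => by
    have := congrArg Units.val (MonoidHom.mem_ker.1 hx)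
    simpa using this
  have hBunit : ∀ B : GL (Fin b) F, IsUnit (B : Matrix (Fin b) (Fin b) F).det := fun B =>
    (Matrix.isUnit_iff_isUnit_det _).1 B.isUnit
  constructor
  · intro hall
    -- how a test element is refuted
    have test : ∀ (Y : Matrix (Fin n) (Fin n) F), Y.det = 1 → (∃ z : F, Y ^ r = z • 1) → (∀ z : F, Y ≠ z • 1) →
        ∃ (A : GL (Fin a) F) (B : GL (Fin b) F) (y : GL (Fin n) F), (∀ μ : F,
          ((A : Matrix (Fin a) (Fin a) F) ⊗ₖ (B : Matrix (Fin b) (Fin b) F) - μ • 1).rank = (Y - μ • 1).rank) ∧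
          (Y ^ r = 1 → ((A : Matrix (Fin a) (Fin a) F) ⊗ₖ (B : Matrix (Fin b) (Fin b) F)) ^ r = 1) := by
      intro Y hY ⟨z, hz⟩ hns
      let x : GL (Fin n) F := Matrix.GeneralLinearGroup.mkOfDetNeZero Y (by rw [hY]; exact one_ne_zero)
      have hxY : (x : Matrix (Fin n) (Fin n) F) = Y := rfl
      obtain ⟨g, -, hg⟩ := hall x (by
        rw [Cfsg.Geo.specialLinear, MonoidHom.mem_ker]
        exact Units.ext (by rw [Matrix.GeneralLinearGroup.val_det_apply, Units.val_one, hxY, hY]))
        ⟨z, by rw [Units.val_pow_eq_pow_val, hxY, hz]⟩ (fun c hc => hns c (hxY ▸ hc))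
      obtain ⟨A, B, h⟩ := (mem_iff e P _).1 hg
      refine ⟨A, B, x, fun μ => ?_, fun h1 => ?_⟩
      · rw [← h, rank_coord, Units.val_mul, Units.val_mul, rank_conj, hxY]
      · have hy : (g⁻¹ * x * g) ^ r = 1 := by
          have h2 := conj_pow (i := r) (a := g⁻¹) (b := x)
          rw [inv_inv] at h2
          rw [h2, show x ^ r = 1 from Units.ext (by rw [Units.val_pow_eq_pow_val, hxY, h1, Units.val_one])]
          group
        rw [← h, ← coord_pow, hy, coordMat, Units.val_one, Matrix.mul_one, ← Units.val_mul, inv_mul_cancel,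
          Units.val_one, map_one]
    by_cases hrF : (r : F) = 0
    · -- a transvection
      exfalso
      have hi : (⟨0, by omega⟩ : Fin n) ≠ ⟨1, by omega⟩ := by simp [Fin.ext_iff]
      set i₀ : Fin n := ⟨0, by omega⟩
      set i₁ : Fin n := ⟨1, by omega⟩
      set Y := Matrix.transvection i₀ i₁ (1 : F) with hY
      have hpow : ∀ k : ℕ, Y ^ k = Matrix.transvection i₀ i₁ (k : F) := by
        intro k
        induction k with
        | zero => simp
        | succ k ih => rw [pow_succ, ih, hY, Matrix.transvection_mul_transvection_same _ _ hi, Nat.cast_succ]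
      have hrank : (Y - (1 : F) • 1).rank = 1 := by
        rw [one_smul, ← rk_eq_rank, Inv.rk, hY]
        have : LinearMap.range (Matrix.toLin' (Matrix.transvection i₀ i₁ (1 : F)) - LinearMap.id) = F ∙ (Pi.single i₀ 1 : Fin n → F) := by
          refine le_antisymm ?_ ((Submodule.span_singleton_le_iff_mem _ _).2 ⟨Pi.single i₁ 1, ?_⟩)
          · rintro _ ⟨v, rfl⟩
            refine Submodule.mem_span_singleton.2 ⟨v i₁, funext fun j => ?_⟩
            rw [LinearMap.sub_apply, Matrix.toLin'_apply, LinearMap.id_apply, Pi.sub_apply, Pi.smul_apply,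
              Classical.Linear.transvection_mulVec_apply, smul_eq_mul, one_mul, add_sub_cancel_left]
            by_cases hj : j = i₀ <;> simp [hj]
          · funext j
            rw [LinearMap.sub_apply, Matrix.toLin'_apply, LinearMap.id_apply, Pi.sub_apply,
              Classical.Linear.transvection_mulVec_apply, add_sub_cancel_left]
            by_cases hj : j = i₀ <;> simp [hj]
        rw [this, finrank_span_singleton (fun e0 => by simpa using congrFun e0 i₀)]
      obtain ⟨A, B, -, hr, -⟩ := test Y (Matrix.det_transvection_of_ne _ _ hi _)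
        ⟨1, by rw [hpow, hrF, Matrix.transvection_zero, one_smul]⟩ (fun z hz => by
          have := congrFun (congrFun hz i₀) i₁
          simp [hY, Matrix.transvection, hi] at this)
      obtain ⟨C, -, hC⟩ := scalar_left (hBunit B) (μ := (1 : F)) (i := 1) (by omega) ((hr 1).trans hrank)
      have h1 := hC 1
      rw [hr, hrank] at h1
      have := Nat.eq_one_of_mul_eq_one_right h1.symm
      omega
    have hr0 : (r : F) ≠ 0 := hrF
    rcases (Fact.out : r.Prime).eq_two_or_odd with hr2 | hr2
    · subst hr2
      have h2 : (2 : F) ≠ 0 := by exact_mod_cast hr0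
      refine ⟨rfl, ?_⟩
      -- diagonal test elements
      have diag : ∀ (c : F) (t : ℕ), t ≤ n → 1 ≤ t → t < n → c ^ n * (-1) ^ t = 1 → t < b → a ∣ t := by
        intro c t htn ht1 htn' hc htb
        have hc0 : c ≠ 0 := fun e0 => by rw [e0, zero_pow (by omega), zero_mul] at hc; exact zero_ne_one hc
        let d : Fin n → F := fun i => if (i : ℕ) < t then -c else c
        obtain ⟨A, B, -, hr, -⟩ := test (Matrix.diagonal d) (by
            rw [Matrix.det_diagonal, Finset.prod_congr rfl (fun i _ => show d i = c * (if (i : ℕ) < t then (-1 : F) else 1) by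
              simp only [d]; split_ifs <;> ring), Finset.prod_mul_distrib, Finset.prod_const, Finset.card_univ,
              Fintype.card_fin, Finset.prod_ite, Finset.prod_const_one, mul_one, Finset.prod_const]
            rw [show (Finset.univ.filter fun i : Fin n => (i : ℕ) < t).card = t by
              rw [Fin.card_filter_val_lt, min_eq_right htn], hc])
          ⟨c * c, by
            rw [pow_two, Matrix.diagonal_mul_diagonal, Matrix.smul_one_eq_diagonal]
            congr 1; funext i; simp only [d]; split_ifs <;> ring⟩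
          (fun z hz => by
            have h3 := congrFun (congrFun hz ⟨0, by omega⟩) ⟨0, by omega⟩
            have h4 := congrFun (congrFun hz ⟨t, htn'⟩) ⟨t, htn'⟩
            simp [d, show 0 < t by omega] at h3 h4
            have : (2 : F) * c = 0 := by linear_combination h4 - h3
            exact mul_ne_zero h2 hc0 this)
        have hrank : (Matrix.diagonal d - c • 1).rank = t := by
          rw [Matrix.smul_one_eq_diagonal, Matrix.diagonal_sub, Matrix.rank_diagonal, Fintype.card_subtype]
          rw [show (Finset.univ.filter fun i : Fin n => d i - c ≠ 0) = Finset.univ.filter fun i : Fin n => (i : ℕ) < t from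
            Finset.filter_congr fun i _ => by
              simp only [d]
              split_ifs with hi
              · simp only [hi, iff_true]
                intro h3
                exact mul_ne_zero h2 hc0 (by linear_combination -h3)
              · simp [hi]]
          rw [Fin.card_filter_val_lt, min_eq_right htn]
        obtain ⟨C, -, hC⟩ := scalar_left (hBunit B) (μ := c) (i := t) htb ((hr c).trans hrank)
        exact ⟨_, ((hr c).trans hrank).symm.trans (hC c)⟩
      have ha2 : a = 2 := by
        have := Nat.le_of_dvd (by norm_num) (diag 1 2 (by omega) (by norm_num) (by omega) (by norm_num) (by omega))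
        omega
      refine ⟨ha2, S5969.odd_iff_two_ne_zero.2 h2, ?_⟩
      by_contra hv
      push Not at hv
      obtain ⟨c, hc⟩ := S5969.exists_neg_one_pow h2 (by omega : n ≠ 0) hv
      have := Nat.eq_one_of_dvd_one (diag c 1 (by omega) le_rfl (by omega) (by rw [hc]; norm_num) (by omega))
      omega
    · exfalso
      by_cases hd : r ∣ Fintype.card F - 1
      · obtain ⟨ω, hω⟩ := exists_prime_orderOf_dvd_card' (G := Fˣ) r
          (by rw [Nat.card_units, Nat.card_eq_fintype_card]; exact hd)
        have hω1 : (ω : F) ≠ 1 := fun e0 => by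
          rw [Units.val_eq_one.1 e0, orderOf_one] at hω; exact (Fact.out : r.Prime).ne_one hω.symm
        have hωr : (ω : F) ^ r = 1 := by rw [← Units.val_pow_eq_pow_val, ← hω, pow_orderOf_eq_one, Units.val_one]
        have hωi : (ω : F)⁻¹ ≠ ω := fun e0 => by
          have h3 : (ω : F) ^ 2 = 1 := by rw [pow_two]; nth_rw 1 [← e0]; exact inv_mul_cancel₀ ω.ne_zero
          rw [← Units.val_pow_eq_pow_val, Units.val_eq_one, ← orderOf_dvd_iff_pow_eq_one, hω] at h3
          have := Nat.le_of_dvd (by norm_num) h3
          have := (Fact.out : r.Prime).two_le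
          omega
        have hωi1 : (ω : F)⁻¹ ≠ 1 := fun e0 => hω1 (inv_eq_one.1 e0)
        set i₀ : Fin n := ⟨0, by omega⟩
        set i₁ : Fin n := ⟨1, by omega⟩
        set i₂ : Fin n := ⟨2, by omega⟩
        have h01 : i₁ ≠ i₀ := by simp [i₀, i₁, Fin.ext_iff]
        have h20 : i₂ ≠ i₀ := by simp [i₀, i₂, Fin.ext_iff]
        have h21 : i₂ ≠ i₁ := by simp [i₁, i₂, Fin.ext_iff]
        let d : Fin n → F := fun i => if i = i₀ then (ω : F) else if i = i₁ then (ω : F)⁻¹ else 1
        obtain ⟨A, B, -, hr, -⟩ := test (Matrix.diagonal d) (by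
            rw [Matrix.det_diagonal, Finset.prod_eq_mul i₀ i₁ h01.symm (fun j _ hj => by simp [d, hj.1, hj.2])
              (by simp) (by simp)]
            simp [d, h01])
          ⟨1, by
            rw [Matrix.diagonal_pow, one_smul, ← Matrix.diagonal_one]
            congr 1; funext i; simp only [Pi.pow_apply, d]; split_ifs <;> simp [hωr]⟩
          (fun z hz => by
            have h3 := congrFun (congrFun hz i₀) i₀
            have h4 := congrFun (congrFun hz i₂) i₂
            simp [d, h20, h21] at h3 h4
            exact hω1 (h3.trans h4.symm))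
        have hrank : (Matrix.diagonal d - (1 : F) • 1).rank = 2 := by
          rw [Matrix.smul_one_eq_diagonal, Matrix.diagonal_sub, Matrix.rank_diagonal, Fintype.card_subtype,
            show (Finset.univ.filter fun i : Fin n => d i - 1 ≠ 0) = {i₀, i₁} from by
              ext i
              simp only [Finset.mem_filter, Finset.mem_univ, true_and, Finset.mem_insert, Finset.mem_singleton, d]
              split_ifs with h h' <;> simp [h, sub_eq_zero, hω1, hωi1, *],
            Finset.card_pair h01.symm]
        have hrankω : (Matrix.diagonal d - (ω : F) • 1).rank = n - 1 := by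
          rw [Matrix.smul_one_eq_diagonal, Matrix.diagonal_sub, Matrix.rank_diagonal, Fintype.card_subtype,
            show (Finset.univ.filter fun i : Fin n => d i - (ω : F) ≠ 0) = Finset.univ.erase i₀ from by
              ext i
              simp only [Finset.mem_filter, Finset.mem_univ, true_and, Finset.mem_erase, and_true, d]
              split_ifs with h h' <;> simp [h, sub_eq_zero, hωi, Ne.symm hω1, *],
            Finset.card_erase_of_mem (Finset.mem_univ _), Finset.card_univ, Fintype.card_fin]
        obtain ⟨C, -, hC⟩ := scalar_left (hBunit B) (μ := (1 : F)) (i := 2) hb ((hr 1).trans hrank)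
        have h1 : a ∣ n - 1 := ⟨_, ((hr _).trans hrankω).symm.trans (hC _)⟩
        have h2' : a ∣ n := ⟨b, hab⟩
        have := Nat.le_of_dvd (by norm_num) ((Nat.dvd_sub h2' h1 : a ∣ n - (n - 1)).trans (dvd_of_eq (by omega) : n - (n - 1) ∣ 1))
        omega
      · set i := orderOf ((Fintype.card F : ℕ) : ZMod r) with hidef
        have hi1 : i ≠ 1 := fun e0 => hd ((order_one_iff r).1 e0)
        obtain ⟨y, hy⟩ := exists_prime_orderOf_dvd_card' (G := ↥(Cfsg.Geo.specialLinear (Fin n) F)) r
          (hΩ.trans (Subgroup.relIndex_dvd_card _ _))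
        have hin : i ≤ n := by
          have hyr : ((y : GL (Fin n) F) : Matrix (Fin n) (Fin n) F) ^ r = 1 := by
            rw [← Units.val_pow_eq_pow_val, ← SubgroupClass.coe_pow, ← hy, pow_orderOf_eq_one, OneMemClass.coe_one,
              Units.val_one]
          refine (order_le_rank hr0 hyr fun e0 => ?_).trans (Matrix.rank_le_card_width _ |>.trans (by simp))
          rw [show y = 1 from Subtype.ext (Units.ext e0), orderOf_one] at hy
          exact (Fact.out : r.Prime).ne_one hy.symm
        obtain ⟨A₀, hA₀, -, hfix⟩ := exists_model_free (F := F) i r hr0 0 1 (by rw [← hidef]; omega)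
        let g : (Fin (n - i) → F) × (Fin i → F) →ₗ[F] (Fin (n - i) → F) × (Fin i → F) :=
          LinearMap.prodMap LinearMap.id (Matrix.toLin' A₀)
        obtain ⟨L, Y, hY, -⟩ := exists_transport (V := (Fin (n - i) → F) × (Fin i → F)) (n := n)
          (by rw [Module.finrank_prod, Module.finrank_fin_fun, Module.finrank_fin_fun]; omega) g
        have hgp : ∀ (l : ℕ) v, (g ^ l) v = (v.1, (Matrix.toLin' A₀ ^ l) v.2) := by
          intro l
          induction l with
          | zero => intro v; simp
          | succ l ih => intro v; rw [pow_succ', Module.End.mul_apply, ih, pow_succ' (Matrix.toLin' A₀)]; rfl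
        have hYr : Y ^ r = 1 := Matrix.toLin'.injective (LinearMap.ext fun v => L.injective (by
          rw [Matrix.toLin'_pow, pow_transport L hY, hgp, hA₀, Matrix.toLin'_one]; rfl))
        have hY1 : Y ≠ 1 := fun e1 => by
          have hall' : fixSp (Matrix.toLin' A₀) = ⊤ := eq_top_iff.2 fun w _ => mem_fixSp.2 (by
            have h' := hY (L.symm (0, w))
            rw [e1, Matrix.toLin'_one, LinearMap.id_apply, L.apply_symm_apply] at h'
            exact (congrArg Prod.snd h').symm)
          rw [hall', finrank_top, Module.finrank_fin_fun] at hfix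
          have := orderOf_pos_iff.2 (isOfFinOrder_iff_pow_eq_one.2 ⟨r - 1, by have := (Fact.out : r.Prime).two_le; omega,
            ZMod.pow_card_sub_one_eq_one (fun e0 : ((Fintype.card F : ℕ) : ZMod r) = 0 => hr0 (by
              obtain ⟨k, hk⟩ := (ZMod.natCast_eq_zero_iff _ _).1 e0
              obtain ⟨l, hl⟩ := CharP.exists F
              haveI := hl
              haveI : Fact l.Prime := ⟨CharP.char_is_prime F l⟩
              rw [(charP_eq_of_cast_eq_zero (F := F) l r).1 e0]
              exact CharP.cast_eq_zero F l))⟩)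
          omega
        have hrankY : (Y - (1 : F) • 1).rank ≤ i := by
          rw [one_smul, ← rk_eq_rank, Inv.rk]
          have hle : LinearMap.range (Matrix.toLin' Y - LinearMap.id) ≤
              LinearMap.range (L.symm.toLinearMap ∘ₗ LinearMap.inr F (Fin (n - i) → F) (Fin i → F)) := by
            rintro _ ⟨v, rfl⟩
            refine ⟨Matrix.toLin' A₀ (L v).2 - (L v).2, L.injective ?_⟩
            simp only [LinearMap.comp_apply, LinearEquiv.coe_coe, L.apply_symm_apply, LinearMap.sub_apply,
              LinearMap.id_apply, map_sub, hY]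
            simp [g, Prod.ext_iff]
          exact (Submodule.finrank_mono hle).trans ((LinearMap.finrank_range_le _).trans (by simp))
        have hrank : (Y - (1 : F) • 1).rank = i := le_antisymm hrankY (order_le_rank hr0 hYr hY1)
        have hdetY : Y.det = 1 := eq_one_of_pow_eq_one (r := r) hd (by rw [← Matrix.det_pow, hYr, Matrix.det_one])
        obtain ⟨A, B, -, hr, hpow⟩ := test Y hdetY ⟨1, by rw [hYr, one_smul]⟩ (fun z hz => by
          have hzr : z ^ r = 1 := by
            have h3 := congrFun (congrFun hYr (0 : Fin n)) 0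
            rw [hz, _root_.smul_pow, one_pow] at h3
            simpa using h3
          exact hY1 (by rw [hz, eq_one_of_pow_eq_one hd hzr, one_smul]))
        have hAB := hpow hYr
        rw [show ∀ k : ℕ, ((A : Matrix (Fin a) (Fin a) F) ⊗ₖ (B : Matrix (Fin b) (Fin b) F)) ^ k =
            ((A : Matrix (Fin a) (Fin a) F) ^ k) ⊗ₖ ((B : Matrix (Fin b) (Fin b) F) ^ k) from fun k => by
          induction k with
          | zero => simp
          | succ k ih => rw [pow_succ, ih, pow_succ, pow_succ, ← Matrix.mul_kronecker_mul]] at hAB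
        have hib : i < b := by
          by_contra hbi
          push Not at hbi
          have hA : ∀ α : F, (A : Matrix (Fin a) (Fin a) F) = α • 1 → False := fun α hα => by
            have e1 : (A : Matrix (Fin a) (Fin a) F) ⊗ₖ (B : Matrix (Fin b) (Fin b) F) =
                1 ⊗ₖ (α • (B : Matrix (Fin b) (Fin b) F)) := by
              rw [hα, Matrix.smul_kronecker, Matrix.kronecker_smul]
            have hC : (α • (B : Matrix (Fin b) (Fin b) F)) ^ r = 1 := by
              have h3 := hpow hYr
              rw [e1, show ∀ k : ℕ, ((1 : Matrix (Fin a) (Fin a) F) ⊗ₖ (α • (B : Matrix (Fin b) (Fin b) F))) ^ k =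
                  1 ⊗ₖ ((α • (B : Matrix (Fin b) (Fin b) F)) ^ k) from fun k => by
                induction k with
                | zero => simp
                | succ k ih => rw [pow_succ, ih, pow_succ, ← Matrix.mul_kronecker_mul, one_mul]] at h3
              ext j l
              have h4 := congrFun (congrFun h3 (⟨0, by omega⟩, j)) (⟨0, by omega⟩, l)
              simpa [Matrix.one_apply] using h4
            have hs := hr 1
            rw [e1, hrank, show (1 : Matrix (Fin a) (Fin a) F) ⊗ₖ (α • (B : Matrix (Fin b) (Fin b) F)) - (1 : F) • 1 =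
              1 ⊗ₖ (α • (B : Matrix (Fin b) (Fin b) F) - (1 : F) • 1) by
                ext ⟨i, j⟩ ⟨k, l⟩
                rcases eq_or_ne i k with rfl | hik
                · simp [Matrix.one_apply]
                · simp [hik], rank_one_kronecker] at hs
            by_cases hC1 : α • (B : Matrix (Fin b) (Fin b) F) = 1
            · rw [hC1] at hs; simp at hs; omega
            · have hge := order_le_rank hr0 hC hC1
              rw [← hidef] at hge
              nlinarith
          obtain ⟨α, hα⟩ : ∃ α : F, (A : Matrix (Fin a) (Fin a) F) ^ r = α • 1 := by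
            by_contra hns
            push Not at hns
            have h3 := rank_ge (B := (B : Matrix (Fin b) (Fin b) F) ^ r)
              (by rw [Matrix.det_pow]; exact (hBunit B).pow r) hns (1 : F)
            rw [hAB, one_smul, sub_self, Matrix.rank_zero] at h3
            omega
          obtain ⟨d, hd'⟩ := exists_root_of_not_dvd (r := r) hd α
          have hd0 : d ≠ 0 := by
            rintro rfl
            rw [zero_pow (Fact.out : r.Prime).ne_zero] at hd'
            rw [← hd', zero_smul] at hα
            exact (((Matrix.isUnit_iff_isUnit_det _).1 A.isUnit).pow r).ne_zero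
              (by haveI : Nonempty (Fin a) := ⟨⟨0, by omega⟩⟩; rw [← Matrix.det_pow, hα, Matrix.det_zero])
          have hA'r : (d⁻¹ • (A : Matrix (Fin a) (Fin a) F)) ^ r = 1 := by
            rw [_root_.smul_pow, hα, smul_smul, inv_pow, hd', inv_mul_cancel₀ (by rw [← hd']; exact pow_ne_zero _ hd0), one_smul]
          have hA'1 : d⁻¹ • (A : Matrix (Fin a) (Fin a) F) ≠ 1 := fun e0 => hA d (by
            rw [← e0, smul_inv_smul₀ hd0])
          have := (order_le_rank hr0 hA'r hA'1).trans (Matrix.rank_le_card_width _)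
          rw [Fintype.card_fin, ← hidef] at this
          omega
        obtain ⟨C, hC, hC'⟩ := scalar_left (hBunit B) (μ := (1 : F)) hib ((hr 1).trans hrank)
        have hs := hC' 1
        rw [hr, hrank] at hs
        have hCr : C ^ r = 1 := by
          have h3 := hpow hYr
          rw [hC, show ∀ k : ℕ, ((1 : Matrix (Fin a) (Fin a) F) ⊗ₖ C) ^ k = 1 ⊗ₖ (C ^ k) from fun k => by
            induction k with
            | zero => simp
            | succ k ih => rw [pow_succ, ih, pow_succ, ← Matrix.mul_kronecker_mul, one_mul]] at h3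
          ext j l
          have h4 := congrFun (congrFun h3 (⟨0, by omega⟩, j)) (⟨0, by omega⟩, l)
          simpa [Matrix.one_apply] using h4
        have hipos : 0 < i := Nat.pos_of_ne_zero fun e0 => by
          have h3 := orderOf_eq_zero_iff'.1 e0 (r - 1) (by have := (Fact.out : r.Prime).two_le; omega)
          exact h3 (ZMod.pow_card_sub_one_eq_one fun e1 => hr0 (by
              obtain ⟨l, hl⟩ := CharP.exists F
              haveI := hl
              haveI : Fact l.Prime := ⟨CharP.char_is_prime F l⟩
              rw [(charP_eq_of_cast_eq_zero (F := F) l r).1 e1]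
              exact CharP.cast_eq_zero F l))
        by_cases hC1 : C = 1
        · rw [hC1] at hs; simp at hs; omega
        · have hge := order_le_rank hr0 hCr hC1
          rw [← hidef] at hge
          nlinarith
  · rintro ⟨rfl, rfl, hodd, hv⟩ x hx ⟨z, hz⟩ hns
    have h2 := S5969.odd_iff_two_ne_zero.1 hodd
    have hd1 := hdet x hx
    let xs : Matrix.SpecialLinearGroup (Fin n) F := ⟨(x : Matrix (Fin n) (Fin n) F), hd1⟩
    have hxx : ∀ v, Matrix.toLin' (x : Matrix (Fin n) (Fin n) F) (Matrix.toLin' (x : Matrix (Fin n) (Fin n) F) v) = z • v := fun v => by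
      rw [← LinearMap.comp_apply, ← Matrix.toLin'_mul, ← pow_two, ← Units.val_pow_eq_pow_val, hz, map_smul,
        Matrix.toLin'_one]
      rfl
    have hz0 : z ≠ 0 := by
      rintro rfl
      rw [zero_smul] at hz
      exact (x ^ 2).ne_zero hz
    -- the model and the intertwiner
    obtain ⟨A, B, c, e', hc0, hedet, he⟩ : ∃ (A : GL (Fin 2) F) (B : GL (Fin b) F) (c : F)
        (e' : (Fin n → F) ≃ₗ[F] (Fin n → F)), c ≠ 0 ∧ LinearEquiv.det e' = 1 ∧
        ∀ v, e' ((x : Matrix (Fin n) (Fin n) F) *ᵥ v) = c • ((((P : GL (Fin n) F) : Matrix (Fin n) (Fin n) F) *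
          Matrix.reindexAlgEquiv F F e.symm ((A : Matrix (Fin 2) (Fin 2) F) ⊗ₖ (B : Matrix (Fin b) (Fin b) F)) *
          ((P⁻¹ : GL (Fin n) F) : Matrix (Fin n) (Fin n) F)) *ᵥ e' v) := by
      have sq : ∀ (S : Matrix (Fin 2 × Fin b) (Fin 2 × Fin b) F) (s : F), S * S = s • 1 → ∀ v,
          Matrix.toLin' (((P : GL (Fin n) F) : Matrix (Fin n) (Fin n) F) * Matrix.reindexAlgEquiv F F e.symm S *
            ((P⁻¹ : GL (Fin n) F) : Matrix (Fin n) (Fin n) F))
            (Matrix.toLin' (((P : GL (Fin n) F) : Matrix (Fin n) (Fin n) F) * Matrix.reindexAlgEquiv F F e.symm S *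
            ((P⁻¹ : GL (Fin n) F) : Matrix (Fin n) (Fin n) F)) v) = s • v := by
        intro S s hS v
        rw [← LinearMap.comp_apply, ← Matrix.toLin'_mul]
        have : ∀ (p q R : Matrix (Fin n) (Fin n) F), q * p = 1 → p * R * q * (p * R * q) = p * (R * R) * q := fun p q R h => by
          rw [show p * R * q * (p * R * q) = p * R * (q * p) * (R * q) by simp only [mul_assoc], h, mul_one]
          simp only [mul_assoc]
        rw [this _ _ _ (by rw [← Units.val_mul, inv_mul_cancel, Units.val_one]), ← map_mul, hS, map_smul, map_one,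
          Matrix.mul_smul, Matrix.mul_one, Matrix.smul_mul, ← Units.val_mul, mul_inv_cancel, Units.val_one, map_smul,
          Matrix.toLin'_one]
        rfl
      by_cases hsq : ∃ c : F, c * c = z
      · obtain ⟨c, hc⟩ := hsq
        have hc0 : c ≠ 0 := fun e0 => hz0 (by rw [← hc, e0, zero_mul])
        let f : (Fin n → F) →ₗ[F] (Fin n → F) := c⁻¹ • Matrix.toLin' (x : Matrix (Fin n) (Fin n) F)
        have hfx : ∀ v, (x : Matrix (Fin n) (Fin n) F) *ᵥ v = c • f v := fun v => by
          simp only [f, LinearMap.smul_apply, Matrix.toLin'_apply, smul_inv_smul₀ hc0]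
        have hf : ∀ v, f (f v) = v := fun v => by
          simp only [f, LinearMap.smul_apply, map_smul, hxx, smul_smul]
          rw [show c⁻¹ * (c⁻¹ * z) = 1 by rw [← hc]; field_simp, one_smul]
        obtain ⟨t, ht⟩ : Even (Inv.rk f) := by
          refine Nat.not_odd_iff_even.1 fun ho => S5969.neg_one_not_pow h2 hv (c := c) ?_
          have hd : LinearMap.det (Matrix.toLin' (x : Matrix (Fin n) (Fin n) F)) = c ^ n * LinearMap.det f := by
            have h5 := LinearMap.det_smul c f
            rw [Module.finrank_fin_fun] at h5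
            rw [← h5]
            simp only [f, smul_inv_smul₀ hc0]
          rw [LinearMap.det_toLin', hd1, Inv.det_involution h2 hf, ho.neg_one_pow] at hd
          linear_combination hd
        have htb : t ≤ b := by
          have := Inv.rk_le f
          rw [Module.finrank_fin_fun] at this
          omega
        let d : Fin b → F := fun j => if (j : ℕ) < t then -1 else 1
        have hd0 : (Matrix.diagonal d).det ≠ 0 := by
          rw [Matrix.det_diagonal]
          exact Finset.prod_ne_zero_iff.2 fun j _ => by simp only [d]; split_ifs <;> norm_num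
        let B := Matrix.GeneralLinearGroup.mkOfDetNeZero (Matrix.diagonal d) hd0
        set S : Matrix (Fin 2 × Fin b) (Fin 2 × Fin b) F := (1 : Matrix (Fin 2) (Fin 2) F) ⊗ₖ Matrix.diagonal d with hS
        have hSS : S * S = (1 : F) • 1 := by
          rw [hS, ← Matrix.mul_kronecker_mul, one_mul, Matrix.diagonal_mul_diagonal,
            show (fun i => d i * d i) = fun _ => (1 : F) from funext fun i => by simp only [d]; split_ifs <;> norm_num,
            Matrix.diagonal_one, Matrix.one_kronecker_one, one_smul]
        set W := ((P : GL (Fin n) F) : Matrix (Fin n) (Fin n) F) * Matrix.reindexAlgEquiv F F e.symm S *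
            ((P⁻¹ : GL (Fin n) F) : Matrix (Fin n) (Fin n) F) with hW
        have hWrk : Inv.rk (Matrix.toLin' W) = t + t := by
          rw [rk_eq_rank, ← one_smul F (1 : Matrix (Fin n) (Fin n) F), ← rank_coord e P W (1 : F)]
          have hcoord : coordMat e P W = S := by
            rw [coordMat, hW, show ∀ R : Matrix (Fin n) (Fin n) F, ((P⁻¹ : GL (Fin n) F) : Matrix (Fin n) (Fin n) F) *
              ((P : Matrix (Fin n) (Fin n) F) * R * ((P⁻¹ : GL (Fin n) F) : Matrix (Fin n) (Fin n) F)) *
              (P : Matrix (Fin n) (Fin n) F) = R from fun R => by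
              simp only [mul_assoc, Units.inv_mul, mul_one]; rw [← mul_assoc, Units.inv_mul, one_mul]]
            ext i j; simp
          rw [hcoord, hS, show (1 : Matrix (Fin 2) (Fin 2) F) ⊗ₖ Matrix.diagonal d - (1 : F) • 1 =
              1 ⊗ₖ (Matrix.diagonal fun j => d j - 1) by
                ext ⟨i, j⟩ ⟨k, l⟩
                rcases eq_or_ne i k with rfl | hik
                · rcases eq_or_ne j l with rfl | hjl <;> simp [*]
                · simp [hik],
            rank_one_kronecker, Matrix.rank_diagonal, Fintype.card_subtype,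
            show (Finset.univ.filter fun j : Fin b => d j - 1 ≠ 0) = Finset.univ.filter fun j : Fin b => (j : ℕ) < t from
              Finset.filter_congr fun j _ => by
                simp only [d]
                split_ifs with hj
                · simp only [hj, iff_true]
                  intro h3
                  exact h2 (by linear_combination -h3)
                · simp [hj], Fin.card_filter_val_lt, min_eq_right htb]
          omega
        haveI : Nontrivial (Fin n → F) := inferInstance
        obtain ⟨e', he', hedet⟩ := Inv.exists_conj hf (f' := Matrix.toLin' W)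
          (fun v => by rw [sq S 1 hSS, one_smul]) (by rw [ht, hWrk]) 1
        exact ⟨1, B, c, e', hc0, hedet, fun v => by
          rw [hfx, map_smul, he', Matrix.toLin'_apply]; rfl⟩
      · push Not at hsq
        let J : Matrix (Fin 2) (Fin 2) F := !![0, z; 1, 0]
        have hJ0 : J.det ≠ 0 := by simp [J, Matrix.det_fin_two, hz0]
        let A := Matrix.GeneralLinearGroup.mkOfDetNeZero J hJ0
        set S : Matrix (Fin 2 × Fin b) (Fin 2 × Fin b) F := J ⊗ₖ (1 : Matrix (Fin b) (Fin b) F) with hS
        have hSS : S * S = z • 1 := by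
          rw [hS, ← Matrix.mul_kronecker_mul, one_mul, show J * J = z • 1 by
            ext i j; fin_cases i <;> fin_cases j <;> simp [J, Matrix.mul_apply, Fin.sum_univ_two],
            Matrix.smul_kronecker, Matrix.one_kronecker_one]
        haveI : Nontrivial (Fin n → F) := inferInstance
        obtain ⟨e', he', hedet⟩ := Inv.exists_conj_quad (a := (0 : F)) (N := -z)
          (θ := Matrix.toLin' (x : Matrix (Fin n) (Fin n) F))
          (θ' := Matrix.toLin' (((P : GL (Fin n) F) : Matrix (Fin n) (Fin n) F) * Matrix.reindexAlgEquiv F F e.symm S *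
            ((P⁻¹ : GL (Fin n) F) : Matrix (Fin n) (Fin n) F)))
          (fun v => by rw [hxx]; simp) (fun v => by rw [sq S z hSS]; simp)
          (fun d hd => hsq d (by linear_combination hd)) 1
        exact ⟨A, 1, 1, e', one_ne_zero, hedet, fun v => by
          rw [one_smul, ← Matrix.toLin'_apply, he', Matrix.toLin'_apply]; rfl⟩
    obtain ⟨Q, hQ⟩ := Inv.exists_SL e' hedet xs
    refine ⟨Matrix.SpecialLinearGroup.toGL Q, ?_, ?_⟩
    · rw [Cfsg.Geo.specialLinear, MonoidHom.mem_ker]
      exact Units.ext (by rw [Matrix.GeneralLinearGroup.val_det_apply, Units.val_one]; exact Q.2)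
    · have hxs : Matrix.SpecialLinearGroup.toGL xs = x := Units.ext rfl
      rw [← hxs, ← map_inv, ← map_mul, ← map_mul]
      let A' : GL (Fin 2) F := scal (Units.mk0 c hc0) * A
      refine (mem_iff e P _).2 ⟨A', B, ?_⟩
      have hM : ((Q⁻¹ * xs * Q : Matrix.SpecialLinearGroup (Fin n) F) : Matrix (Fin n) (Fin n) F) =
          c • (((P : GL (Fin n) F) : Matrix (Fin n) (Fin n) F) *
          Matrix.reindexAlgEquiv F F e.symm ((A : Matrix (Fin 2) (Fin 2) F) ⊗ₖ (B : Matrix (Fin b) (Fin b) F)) *
          ((P⁻¹ : GL (Fin n) F) : Matrix (Fin n) (Fin n) F)) := Matrix.ext_of_mulVec_single fun i => by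
        rw [hQ, he, e'.apply_symm_apply, Matrix.smul_mulVec]
      show coordMat e P ((Q⁻¹ * xs * Q : Matrix.SpecialLinearGroup (Fin n) F) : Matrix (Fin n) (Fin n) F) = _
      rw [hM, coordMat, Matrix.mul_smul, Matrix.smul_mul, map_smul,
        show ∀ R : Matrix (Fin n) (Fin n) F, ((P⁻¹ : GL (Fin n) F) : Matrix (Fin n) (Fin n) F) *
          ((P : Matrix (Fin n) (Fin n) F) * R * ((P⁻¹ : GL (Fin n) F) : Matrix (Fin n) (Fin n) F)) *
          (P : Matrix (Fin n) (Fin n) F) = R from fun R => by
          simp only [mul_assoc, Units.inv_mul, mul_one]; rw [← mul_assoc, Units.inv_mul, one_mul]]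
      rw [Units.val_mul, scal_val, Units.val_mk0, Matrix.smul_mul, Matrix.one_mul, Matrix.smul_kronecker]
      ext i j
      simp

end Cfsg.Agent.S5979
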