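import Cfsg.Statements.S5968
import Cfsg.Agent.Lib.Forms.Elusive.Linear
import Cfsg.Agent.Lib.Forms.Bases
import Cfsg.Agent.Lib.Classical.Symplectic
import Cfsg.Agent.S5979

set_option autoImplicit false
open scoped MatrixGroups
open Cfsg

namespace Cfsg.Agent.S5968

open Cfsg.Agent.Forms.Elusive Matrix Polynomial Module

variable {F : Type*} [Field F]

theorem aeval_conj {A : Type*} [Ring A] [Algebra F A] (u : Aˣ) (M : A) (P : F[X]) :
    aeval ((↑u⁻¹ : A) * M * ↑u) P = ↑u⁻¹ * aeval M P * ↑u := by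
  induction P using Polynomial.induction_on' with
  | add P Q hP hQ => rw [map_add, map_add, hP, hQ, mul_add, add_mul]
  | monomial k c =>
    rw [aeval_monomial, aeval_monomial, Units.conj_pow', ← Algebra.smul_def, ← Algebra.smul_def,
      mul_smul_comm, smul_mul_assoc]

theorem aeval_transpose {n : ℕ} (M : Matrix (Fin n) (Fin n) F) (P : F[X]) : aeval Mᵀ P = (aeval M P)ᵀ := by
  induction P using Polynomial.induction_on' with
  | add P Q hP hQ => rw [map_add, map_add, hP, hQ, Matrix.transpose_add]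
  | monomial k c =>
    rw [aeval_monomial, aeval_monomial, ← Algebra.smul_def, ← Algebra.smul_def, Matrix.transpose_smul,
      Matrix.transpose_pow]

/-- the consequences of being a similitude of a nondegenerate form -/
theorem simil {n : ℕ} {B : LinearMap.BilinForm F (Fin n → F)} (hB : B.Nondegenerate) (g : GL (Fin n) F) {μ : F}
    (h : ∀ u v, B ((g : Matrix (Fin n) (Fin n) F) *ᵥ u) ((g : Matrix (Fin n) (Fin n) F) *ᵥ v) = μ * B u v) :
    ∃ u : GL (Fin n) F, μ • ((g⁻¹ : GL (Fin n) F) : Matrix (Fin n) (Fin n) F) =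
      ((u⁻¹ : GL (Fin n) F) : Matrix (Fin n) (Fin n) F) * (g : Matrix (Fin n) (Fin n) F)ᵀ * (u : Matrix (Fin n) (Fin n) F) := by
  have hJ : (LinearMap.BilinForm.toMatrix' B).det ≠ 0 :=
    by simpa [LinearMap.BilinForm.toMatrix_basisFun] using
      (LinearMap.BilinForm.nondegenerate_iff_det_ne_zero (Pi.basisFun F (Fin n))).1 hB
  have hm : (g : Matrix (Fin n) (Fin n) F)ᵀ * LinearMap.BilinForm.toMatrix' B * (g : Matrix (Fin n) (Fin n) F) =
      μ • LinearMap.BilinForm.toMatrix' B := by
    have e : B.comp (Matrix.toLin' (g : Matrix (Fin n) (Fin n) F)) (Matrix.toLin' (g : Matrix (Fin n) (Fin n) F)) = μ • B :=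
      LinearMap.ext₂ fun u v => h u v
    have e' := congrArg LinearMap.BilinForm.toMatrix' e
    rwa [LinearMap.BilinForm.toMatrix'_comp, LinearMap.toMatrix'_toLin', map_smul] at e'
  refine ⟨Matrix.GeneralLinearGroup.mkOfDetNeZero _ hJ, ?_⟩
  rw [mul_assoc, Units.eq_inv_mul_iff_mul_eq]
  show LinearMap.BilinForm.toMatrix' B * (μ • ((g⁻¹ : GL (Fin n) F) : Matrix (Fin n) (Fin n) F)) =
    (g : Matrix (Fin n) (Fin n) F)ᵀ * LinearMap.BilinForm.toMatrix' B
  rw [mul_smul_comm, ← smul_mul_assoc, ← hm, mul_assoc, ← Units.val_mul, mul_inv_cancel, Units.val_one, mul_one]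

theorem rank_simil {n : ℕ} {B : LinearMap.BilinForm F (Fin n → F)} (hB : B.Nondegenerate) (g : GL (Fin n) F) {μ : F}
    (h : ∀ u v, B ((g : Matrix (Fin n) (Fin n) F) *ᵥ u) ((g : Matrix (Fin n) (Fin n) F) *ᵥ v) = μ * B u v) (t : F) :
    (μ • ((g⁻¹ : GL (Fin n) F) : Matrix (Fin n) (Fin n) F) - t • 1).rank =
      ((g : Matrix (Fin n) (Fin n) F) - t • 1).rank := by
  obtain ⟨u, hu⟩ := simil hB g h
  rw [hu, S5979.rank_conj, ← Matrix.rank_transpose ((g : Matrix (Fin n) (Fin n) F) - t • 1), Matrix.transpose_sub,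
    Matrix.transpose_smul, Matrix.transpose_one]

theorem aeval_simil {n : ℕ} {B : LinearMap.BilinForm F (Fin n → F)} (hB : B.Nondegenerate) (g : GL (Fin n) F) {μ : F}
    (h : ∀ u v, B ((g : Matrix (Fin n) (Fin n) F) *ᵥ u) ((g : Matrix (Fin n) (Fin n) F) *ᵥ v) = μ * B u v) (P : F[X])
    (hP : aeval (g : Matrix (Fin n) (Fin n) F) P = 0) :
    aeval (μ • ((g⁻¹ : GL (Fin n) F) : Matrix (Fin n) (Fin n) F)) P = 0 := by
  obtain ⟨u, hu⟩ := simil hB g h
  rw [hu, aeval_conj, aeval_transpose, hP, Matrix.transpose_zero, mul_zero, zero_mul]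

theorem simil_pow {n : ℕ} (B : LinearMap.BilinForm F (Fin n → F)) (g : GL (Fin n) F) {μ : F}
    (h : ∀ u v, B ((g : Matrix (Fin n) (Fin n) F) *ᵥ u) ((g : Matrix (Fin n) (Fin n) F) *ᵥ v) = μ * B u v) :
    ∀ (k : ℕ) (u v), B ((g ^ k : GL (Fin n) F).1 *ᵥ u) ((g ^ k : GL (Fin n) F).1 *ᵥ v) = μ ^ k * B u v := by
  intro k
  induction k with
  | zero => intro u v; simp
  | succ k ih =>
    intro u v
    rw [pow_succ, Units.val_mul, ← Matrix.mulVec_mulVec, ← Matrix.mulVec_mulVec, ih, h, pow_succ, mul_assoc]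

variable [Fintype F]

theorem index_dvd {n m : ℕ} (hm : n = m + m) (hm0 : 1 ≤ m) {B : LinearMap.BilinForm F (Fin n → F)} (hA : B.IsAlt)
    (hB : B.Nondegenerate) (H : Subgroup (Matrix.SpecialLinearGroup (Fin n) F))
    (hH : ∀ g : Matrix.SpecialLinearGroup (Fin n) F,
      (∀ u v, B ((g : Matrix (Fin n) (Fin n) F) *ᵥ u) ((g : Matrix (Fin n) (Fin n) F) *ᵥ v) = B u v) → g ∈ H) :
    ∃ K, H.index ∣ Fintype.card F ^ K * ∏ i ∈ Finset.range (m - 1), (Fintype.card F ^ (2 * i + 3) - 1) := by
  classical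
  obtain ⟨b, h1, h00, h11⟩ := Forms.Bases.exists_sympBasis B hA hB (m := m)
    (by rw [Module.finrank_fin_fun]; omega)
  have h10 : ∀ i j, B (b (.inr i)) (b (.inl j)) = if j = i then -1 else 0 := fun i j => by
    rw [← LinearMap.IsAlt.neg hA, h1]
    split_ifs <;> simp
  let ε : (Fin n → F) ≃ₗ[F] (Fin m ⊕ Fin m → F) := b.equivFun
  let φ : Matrix (Fin m ⊕ Fin m) (Fin m ⊕ Fin m) F → Matrix (Fin n) (Fin n) F := fun A =>
    LinearMap.toMatrix' (ε.symm.toLinearMap ∘ₗ Matrix.toLin' A ∘ₗ ε.toLinearMap)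
  have hφ : ∀ A v, φ A *ᵥ v = ε.symm (A *ᵥ ε v) := fun A v => by simp [φ, LinearMap.toMatrix'_mulVec]
  obtain ⟨c, hBc⟩ : ∃ c : F, ∀ u v, B u v = c * Cfsg.sympForm m F (ε u) (ε v) := by
    let B' : LinearMap.BilinForm F (Fin n → F) := (Forms.SympStd.sympB m F).compl₁₂ ε.toLinearMap ε.toLinearMap
    suffices ∃ c : F, B = c • B' by
      obtain ⟨c, hc⟩ := this
      exact ⟨c, fun u v => by rw [hc]; simp [B', Forms.SympStd.sympB_apply]⟩
    have hb : ∀ p, ε (b p) = Pi.single p 1 := fun p => by
      funext j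
      show b.repr (b p) j = _
      rw [b.repr_self, Finsupp.single_apply, Pi.single_apply]
      exact if_congr ⟨Eq.symm, Eq.symm⟩ rfl rfl
    exact ⟨-1, LinearMap.BilinForm.ext_basis b fun p q => by
        rcases p with i | i <;> rcases q with j | j <;>
          simp [B', hb, Forms.SympStd.sympB_apply, Forms.SympStd.sympForm_inl_inr, Forms.SympStd.sympForm_inl_inl,
            Forms.SympStd.sympForm_inr_inr, Forms.SympStd.sympForm_inr_inl, h1, h00, h11, h10, eq_comm, neg_ite]⟩
  let ψ : Matrix.symplecticGroup (Fin m) F →* Matrix.SpecialLinearGroup (Fin n) F :=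
    { toFun := fun A => ⟨φ (A : Matrix (Fin m ⊕ Fin m) (Fin m ⊕ Fin m) F), by
        have e1 := LinearMap.det_conj (Matrix.toLin' (A : Matrix (Fin m ⊕ Fin m) (Fin m ⊕ Fin m) F)) ε.symm
        rw [LinearEquiv.symm_symm] at e1
        show (LinearMap.toMatrix' _).det = 1
        rw [LinearMap.det_toMatrix', e1, LinearMap.det_toLin', SymplecticGroup.det_eq_one A.2]⟩
      map_one' := Subtype.ext (Matrix.ext_of_mulVec_single fun i => by
        show φ ((1 : Matrix.symplecticGroup (Fin m) F) : Matrix (Fin m ⊕ Fin m) (Fin m ⊕ Fin m) F) *ᵥ _ = _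
        rw [hφ, OneMemClass.coe_one, Matrix.one_mulVec, LinearEquiv.symm_apply_apply]
        exact (Matrix.one_mulVec _).symm)
      map_mul' := fun A C => Subtype.ext (Matrix.ext_of_mulVec_single fun i => by
        show φ ((A * C : Matrix.symplecticGroup (Fin m) F) : Matrix (Fin m ⊕ Fin m) (Fin m ⊕ Fin m) F) *ᵥ _ =
          (φ (A : Matrix (Fin m ⊕ Fin m) (Fin m ⊕ Fin m) F) * φ (C : Matrix (Fin m ⊕ Fin m) (Fin m ⊕ Fin m) F)) *ᵥ _
        rw [← Matrix.mulVec_mulVec, hφ, hφ, hφ, LinearEquiv.apply_symm_apply, Matrix.mulVec_mulVec,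
          Submonoid.coe_mul]) }
  have hinj : Function.Injective ψ := fun A C h => Forms.SympStd.sp_ext fun v => by
    have e1 : φ (A : Matrix (Fin m ⊕ Fin m) (Fin m ⊕ Fin m) F) *ᵥ ε.symm v =
        φ (C : Matrix (Fin m ⊕ Fin m) (Fin m ⊕ Fin m) F) *ᵥ ε.symm v :=
      congrArg (fun M : Matrix.SpecialLinearGroup (Fin n) F => (M : Matrix (Fin n) (Fin n) F) *ᵥ ε.symm v) h
    rw [hφ, hφ, ε.apply_symm_apply] at e1
    exact ε.symm.injective e1
  have hle : ψ.range ≤ H := by
    rintro _ ⟨A, rfl⟩
    refine hH _ fun u v => ?_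
    show B (φ A *ᵥ u) (φ A *ᵥ v) = _
    rw [hφ, hφ, hBc, hBc, LinearEquiv.apply_symm_apply, LinearEquiv.apply_symm_apply, Forms.SympStd.sympForm_mulVec]
  have hsp : Nat.card (Matrix.symplecticGroup (Fin m) F) ∣ Nat.card H :=
    ((Nat.card_congr (MonoidHom.ofInjective hinj).toEquiv).dvd).trans (Subgroup.card_dvd_of_le hle)
  haveI : Nonempty (Fin n) := ⟨⟨0, by omega⟩⟩
  set q := Fintype.card F with hqdef
  have hq : 1 < q := Fintype.one_lt_card
  have h3 : (q - 1) * (Nat.card (Matrix.symplecticGroup (Fin m) F) * H.index) ∣ Nat.card (GL (Fin n) F) := by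
    rw [Classical.Linear.natCard_GL_eq_mul, ← H.card_mul_index]
    exact mul_dvd_mul_left _ (mul_dvd_mul_right hsp _)
  rw [Matrix.card_GL_field, Classical.Symplectic.natCard_sp] at h3
  obtain ⟨K, hK⟩ : ∃ K, ∏ i : Fin n, (q ^ n - q ^ (i : ℕ)) = q ^ K * ∏ i : Fin n, (q ^ (n - i) - 1) := by
    refine ⟨∑ i : Fin n, (i : ℕ), ?_⟩
    rw [← Finset.prod_pow_eq_pow_sum, ← Finset.prod_mul_distrib]
    exact Finset.prod_congr rfl fun i _ => by rw [Nat.mul_sub, ← pow_add, Nat.add_sub_cancel' i.2.le, mul_one]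
  have hsplit : ∀ k : ℕ, ∏ i ∈ Finset.range (2 * k), (q ^ (i + 1) - 1) =
      (∏ i ∈ Finset.range k, (q ^ (2 * i + 1) - 1)) * ∏ i ∈ Finset.range k, (q ^ (2 * (i + 1)) - 1) := by
    intro k
    induction k with
    | zero => simp
    | succ k ih =>
      rw [show 2 * (k + 1) = 2 * k + 1 + 1 by ring, Finset.prod_range_succ, Finset.prod_range_succ, ih,
        Finset.prod_range_succ, Finset.prod_range_succ]
      ring_nf
  have hrev : ∏ i : Fin n, (q ^ (n - i) - 1) = ∏ i ∈ Finset.range (2 * m), (q ^ (i + 1) - 1) := by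
    rw [Fin.prod_univ_eq_prod_range (fun i => q ^ (n - i) - 1) n,
      ← Finset.prod_range_reflect (fun i => q ^ (i + 1) - 1), show 2 * m = n by omega]
    exact Finset.prod_congr rfl fun i hi => by
      rw [show n - 1 - i + 1 = n - i by have := Finset.mem_range.1 hi; omega]
  rw [← hqdef, hK, hrev, hsplit] at h3
  obtain ⟨m', rfl⟩ : ∃ m', m = m' + 1 := ⟨m - 1, by omega⟩
  rw [show ∏ i ∈ Finset.range (m' + 1), (q ^ (2 * i + 1) - 1) =
    (q - 1) * ∏ i ∈ Finset.range m', (q ^ (2 * i + 3) - 1) by
      rw [Finset.prod_range_succ', mul_comm]; norm_num [mul_add]] at h3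
  have hEpos : 0 < ∏ i ∈ Finset.range (m' + 1), (q ^ (2 * (i + 1)) - 1) := Finset.prod_pos fun i _ =>
    Nat.sub_pos_of_lt (Nat.one_lt_pow (by omega) hq)
  refine ⟨K, ?_⟩
  rw [Nat.add_sub_cancel]
  refine Nat.dvd_of_mul_dvd_mul_left
    (Nat.mul_pos (show 0 < q - 1 by omega) hEpos) (dvd_trans ?_ (h3.trans (dvd_of_eq (by ring))))
  exact ⟨q ^ ((m' + 1) ^ 2), by ring⟩


/-- Derangements of odd prime order of PSL_n(q) on the cosets of a symplectic-type subgroup. Here `T = PSL_n(F)` for a field `F` with `q` elements, `n ≥ 4` even, `f` is a nondegenerate alternating form on `F^n`, and `H` is the subgroup of matrices of determinant 1 preserving `f` up to a scalar — a maximal subgroup of type Sp_n(q); Ω is the set of `T`-conjugates of `H` (cosets of `H`), so an element of `T` of prime order `r` (a matrix `x` of determinant 1 with `x^r` scalar, `x` not scalar) fixes a point of Ω when some conjugate of `x` by a matrix of determinant 1 preserves `f` up to a scalar. For every odd prime `r` dividing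 the index of `H`, with `(n, r) ≠ (6, 3)`, there is an element of `T` of order `r` with no conjugate in `H`. (For `n = 6`, `r = 3` this can fail: when `(q − 1)_3 = 3` every element of order 3 is conjugate into `H`.) -/
theorem result {F : Type*} [Field F] [Fintype F] {p : ℕ} [Fact p.Prime] [CharP F p] {q : ℕ} (hq : Fintype.card F = q)
    (n : ℕ) (hn : 4 ≤ n) (he : Even n) (f : (Fin n → F) → (Fin n → F) → F) (hf : Cfsg.Geo.IsSymplecticForm f)
    (r : ℕ) [Fact r.Prime] (hr2 : r ≠ 2) (hgap : ¬ (n = 6 ∧ r = 3)) (hΩ : r ∣ ((Cfsg.Geo.similarityGroup f).comap (Matrix.SpecialLinearGroup.toGL : Matrix.SpecialLinearGroup (Fin n) F →* GL (Fin n) F)).index) :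
    ∃ x : Matrix.SpecialLinearGroup (Fin n) F,
      (∃ z : F, ((x ^ r : Matrix.SpecialLinearGroup (Fin n) F) : Matrix (Fin n) (Fin n) F) = z • (1 : Matrix (Fin n) (Fin n) F)) ∧
      (∀ z : F, (x : Matrix (Fin n) (Fin n) F) ≠ z • (1 : Matrix (Fin n) (Fin n) F)) ∧
      ∀ P : Matrix.SpecialLinearGroup (Fin n) F, P⁻¹ * x * P ∉ ((Cfsg.Geo.similarityGroup f).comap (Matrix.SpecialLinearGroup.toGL : Matrix.SpecialLinearGroup (Fin n) F →* GL (Fin n) F)) := by
  classical
  subst hq
  let B : LinearMap.BilinForm F (Fin n → F) := LinearMap.mk₂ F f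
    hf.bilinear.add_left hf.bilinear.smul_left hf.bilinear.add_right hf.bilinear.smul_right
  have hA : B.IsAlt := fun v => hf.alternating v
  have hB : B.Nondegenerate :=
    ⟨fun v h => by
      by_contra h0
      obtain ⟨-, x, hx⟩ := hf.nondegenerate v h0
      exact hx (h x),
     fun v h => by
      by_contra h0
      obtain ⟨⟨x, hx⟩, -⟩ := hf.nondegenerate v h0
      exact hx (h x)⟩
  obtain ⟨m, hm⟩ := he
  have hrp2 : (2 : ℕ) < r := lt_of_le_of_ne (Fact.out : r.Prime).two_le (Ne.symm hr2)
  have hne : ∃ u v, B u v ≠ 0 := by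
    have h0 : (Pi.single (⟨0, by omega⟩ : Fin n) 1 : Fin n → F) ≠ 0 := fun e => by
      simpa using congrFun e ⟨0, by omega⟩
    obtain ⟨-, v, hv⟩ := hf.nondegenerate _ h0
    exact ⟨_, v, hv⟩
  -- an element is a derangement once no conjugate is a similitude with multiplier an `r`-th root of one
  have build : ∀ Y : Matrix (Fin n) (Fin n) F, Y.det = 1 → Y ^ r = 1 → (∀ z : F, Y ≠ z • 1) →
      (∀ (Q g : GL (Fin n) F) (μ : F), μ ^ r = 1 → (g : Matrix (Fin n) (Fin n) F) =
        ((Q⁻¹ : GL (Fin n) F) : Matrix (Fin n) (Fin n) F) * Y * (Q : Matrix (Fin n) (Fin n) F) → g ^ r = 1 →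
        (∀ u v, B ((g : Matrix (Fin n) (Fin n) F) *ᵥ u) ((g : Matrix (Fin n) (Fin n) F) *ᵥ v) = μ * B u v) → False) →
      ∃ x : Matrix.SpecialLinearGroup (Fin n) F,
        (∃ z : F, ((x ^ r : Matrix.SpecialLinearGroup (Fin n) F) : Matrix (Fin n) (Fin n) F) = z • (1 : Matrix (Fin n) (Fin n) F)) ∧
        (∀ z : F, (x : Matrix (Fin n) (Fin n) F) ≠ z • (1 : Matrix (Fin n) (Fin n) F)) ∧
        ∀ P : Matrix.SpecialLinearGroup (Fin n) F, P⁻¹ * x * P ∉ ((Cfsg.Geo.similarityGroup f).comap (Matrix.SpecialLinearGroup.toGL : Matrix.SpecialLinearGroup (Fin n) F →* GL (Fin n) F)) := by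
    intro Y hdet hpow hns hno
    let x : Matrix.SpecialLinearGroup (Fin n) F := ⟨Y, hdet⟩
    refine ⟨x, ⟨1, by rw [one_smul, Matrix.SpecialLinearGroup.coe_pow]; exact hpow⟩, hns, fun P hP => ?_⟩
    obtain ⟨κ, hκ⟩ := Subgroup.mem_comap.1 hP
    set g : GL (Fin n) F := Matrix.SpecialLinearGroup.toGL (P⁻¹ * x * P) with hg
    have hgv : (g : Matrix (Fin n) (Fin n) F) =
        (((Matrix.SpecialLinearGroup.toGL P)⁻¹ : GL (Fin n) F) : Matrix (Fin n) (Fin n) F) * Y *
          ((Matrix.SpecialLinearGroup.toGL P : GL (Fin n) F) : Matrix (Fin n) (Fin n) F) := by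
      rw [hg, map_mul, map_mul, map_inv, Units.val_mul, Units.val_mul]; rfl
    have hgr : g ^ r = 1 := Units.ext (by
      rw [Units.val_pow_eq_pow_val, hgv, Units.conj_pow', hpow, mul_one, ← Units.val_mul, inv_mul_cancel,
        Units.val_one])
    obtain ⟨u, v, huv⟩ := hne
    have hκr : (κ : F) ^ r = 1 := by
      have h3 := simil_pow B g hκ r u v
      rw [hgr, Units.val_one, Matrix.one_mulVec, Matrix.one_mulVec] at h3
      exact mul_right_cancel₀ huv (by rw [one_mul]; exact h3.symm)
    exact hno _ g κ hκr hgv hgr hκ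
  set i₀ : Fin n := ⟨0, by omega⟩ with hi₀
  set i₁ : Fin n := ⟨1, by omega⟩ with hi₁
  set i₂ : Fin n := ⟨2, by omega⟩ with hi₂
  set i₃ : Fin n := ⟨3, by omega⟩ with hi₃
  have h01 : i₀ ≠ i₁ := by simp [i₀, i₁, Fin.ext_iff]
  have h02 : i₀ ≠ i₂ := by simp [i₀, i₂, Fin.ext_iff]
  have h12 : i₁ ≠ i₂ := by simp [i₁, i₂, Fin.ext_iff]
  have h03 : i₃ ≠ i₀ := by simp [i₀, i₃, Fin.ext_iff]
  have h13 : i₃ ≠ i₁ := by simp [i₁, i₃, Fin.ext_iff]
  have h23 : i₃ ≠ i₂ := by simp [i₂, i₃, Fin.ext_iff]
  by_cases hr0 : (r : F) = 0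
  · -- a regular unipotent element on three coordinates
    haveI : CharP F r := by
      rw [← (Nat.prime_dvd_prime_iff_eq Fact.out Fact.out).1 ((CharP.cast_eq_zero_iff F p r).1 hr0)]; infer_instance
    let N : Matrix (Fin n) (Fin n) F :=
      Matrix.single i₀ i₁ 1 + Matrix.single i₁ i₂ 1 + Matrix.single i₀ i₂ 1
    have hN2 : N * N = Matrix.single i₀ i₂ 1 := by
      simp [N, add_mul, mul_add, h01, h01.symm, h02, h02.symm, h12, h12.symm]
    have hN3 : N ^ 3 = 0 := by
      rw [pow_succ, pow_two, hN2]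
      simp [N, mul_add, h01, h01.symm, h02, h02.symm, h12, h12.symm]
    have hY : Matrix.transvection i₀ i₁ (1 : F) * Matrix.transvection i₁ i₂ 1 = 1 + N := by
      simp [Matrix.transvection, N, add_mul, mul_add]; abel
    refine build (1 + N) ?_ ?_ ?_ ?_
    · rw [← hY, Matrix.det_mul, Matrix.det_transvection_of_ne _ _ h01, Matrix.det_transvection_of_ne _ _ h12, mul_one]
    · haveI : Nonempty (Fin n) := ⟨i₀⟩
      rw [add_pow_char_of_commute r (Commute.one_left N), one_pow, show r = 3 + (r - 3) by omega, pow_add, hN3,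
        zero_mul, add_zero]
    · intro z hz
      have := congrFun (congrFun hz i₀) i₁
      simp [N, h01, h01.symm, h02, h12, h12.symm] at this
    · intro Q g μ hμ hgv _ hsim
      have hμ1 : μ = 1 := by
        have h3 : (μ - 1) ^ r = 0 := by rw [sub_pow_char, hμ, one_pow, sub_self]
        exact sub_eq_zero.1 (pow_eq_zero_iff (Fact.out : r.Prime).ne_zero |>.1 h3)
      subst hμ1
      set M : Matrix (Fin n) (Fin n) F :=
        ((Q⁻¹ : GL (Fin n) F) : Matrix (Fin n) (Fin n) F) * N * (Q : Matrix (Fin n) (Fin n) F) with hM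
      have hgM : (g : Matrix (Fin n) (Fin n) F) = 1 + M := by
        rw [hgv, hM, mul_add, add_mul, mul_one, ← Units.val_mul, inv_mul_cancel, Units.val_one]
      have hM3 : M * (M * M) = 0 := by
        rw [show M * (M * M) = M ^ 3 by rw [pow_succ' M 2, pow_two], hM, Units.conj_pow', hN3, mul_zero, zero_mul]
      have hinv : (g : Matrix (Fin n) (Fin n) F) * (1 + (M * M - M)) = 1 := by
        rw [hgM, add_mul, one_mul, mul_add, mul_one, mul_sub, hM3]; abel
      have adj : ∀ u v, B (M *ᵥ u) v = B u ((M * M - M) *ᵥ v) := fun u v => by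
        have h3 := hsim u ((1 + (M * M - M)) *ᵥ v)
        rw [one_mul, Matrix.mulVec_mulVec, hinv, Matrix.one_mulVec, hgM, Matrix.add_mulVec, Matrix.add_mulVec,
          Matrix.one_mulVec, Matrix.one_mulVec, map_add, LinearMap.add_apply, map_add] at h3
        exact add_left_cancel h3
      have h2 : (2 : F) ≠ 0 := fun e => by
        have := (CharP.cast_eq_zero_iff F r 2).1 (by exact_mod_cast e)
        have := Nat.le_of_dvd two_pos this
        omega
      have hanti : ∀ u, B ((M * M) *ᵥ u) u = 0 := fun u => by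
        have e1 : B ((M * M) *ᵥ u) u = B u ((M * M) *ᵥ u) := by
          rw [← Matrix.mulVec_mulVec u M M, adj, adj]
          simp only [Matrix.mulVec_mulVec]
          congr 2
          rw [sub_mul, mul_sub, mul_sub, show M * M * (M * M) = (M * (M * M)) * M by simp only [mul_assoc],
            show M * M * M = M * (M * M) by simp only [mul_assoc], hM3]
          simp
        rw [← LinearMap.IsAlt.neg hA ((M * M) *ᵥ u) u] at e1
        have : (2 : F) * B ((M * M) *ᵥ u) u = 0 := by linear_combination e1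
        exact (mul_eq_zero.1 this).resolve_left h2
      set w : Fin n → F := ((Q⁻¹ : GL (Fin n) F) : Matrix (Fin n) (Fin n) F) *ᵥ Pi.single i₀ 1 with hw
      have hMM : ∀ u, (M * M) *ᵥ u = ((Q : Matrix (Fin n) (Fin n) F) *ᵥ u) i₂ • w := fun u => by
        rw [← pow_two, hM, Units.conj_pow', pow_two, hN2, ← Matrix.mulVec_mulVec, ← Matrix.mulVec_mulVec,
          Matrix.single_mulVec, one_mul, hw, ← Matrix.mulVec_smul, ← Pi.single_smul, smul_eq_mul, mul_one]
        rfl
      have key : ∀ u, ((Q : Matrix (Fin n) (Fin n) F) *ᵥ u) i₂ * B w u = 0 := fun u => by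
        have := hanti u
        rwa [hMM, map_smul, LinearMap.smul_apply, smul_eq_mul] at this
      set u₀ : Fin n → F := ((Q⁻¹ : GL (Fin n) F) : Matrix (Fin n) (Fin n) F) *ᵥ Pi.single i₂ 1
      have hu₀ : ((Q : Matrix (Fin n) (Fin n) F) *ᵥ u₀) i₂ = 1 := by
        rw [Matrix.mulVec_mulVec, ← Units.val_mul, mul_inv_cancel, Units.val_one, Matrix.one_mulVec,
          Pi.single_eq_same]
      have hw0 : w ≠ 0 := fun e => by
        have e1 := congrArg (fun v => (Q : Matrix (Fin n) (Fin n) F) *ᵥ v) e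
        rw [hw] at e1
        simp only [Matrix.mulVec_mulVec, ← Units.val_mul, mul_inv_cancel, Units.val_one, Matrix.one_mulVec,
          Matrix.mulVec_zero] at e1
        simpa using congrFun e1 i₀
      obtain ⟨v₀, hv₀⟩ : ∃ v, B w v ≠ 0 := by
        by_contra! h3
        exact hw0 (hB.1 w h3)
      have k1 := key u₀
      rw [hu₀, one_mul] at k1
      have k2 : ((Q : Matrix (Fin n) (Fin n) F) *ᵥ v₀) i₂ = 0 := (mul_eq_zero.1 (key v₀)).resolve_right hv₀
      have k3 := key (u₀ + v₀)
      rw [Matrix.mulVec_add, Pi.add_apply, hu₀, k2, map_add, k1] at k3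
      exact hv₀ (by linear_combination k3)
  set i := orderOf ((Fintype.card F : ℕ) : ZMod r) with hidef
  obtain ⟨K, hK⟩ := index_dvd hm (by omega) hA hB
    ((Cfsg.Geo.similarityGroup f).comap (Matrix.SpecialLinearGroup.toGL : Matrix.SpecialLinearGroup (Fin n) F →* GL (Fin n) F))
    fun g hg => Subgroup.mem_comap.2 ⟨1, fun u v => by rw [Units.val_one, one_mul]; exact hg u v⟩
  obtain ⟨hiodd, hin⟩ : Odd i ∧ i ≤ n - 1 := by
    rcases (Fact.out : r.Prime).dvd_mul.1 (hΩ.trans hK) with h1 | h1
    · have e := (charP_eq_of_cast_eq_zero (F := F) p r).1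
        ((ZMod.natCast_eq_zero_iff _ _).2 ((Fact.out : r.Prime).dvd_of_dvd_pow h1))
      exact absurd (by subst e; exact CharP.cast_eq_zero F r) hr0
    · obtain ⟨j, hj, hjr⟩ := ((Fact.out : r.Prime).prime.dvd_finsetProd_iff _).1 h1
      have hd : i ∣ 2 * j + 3 := by
        refine orderOf_dvd_of_pow_eq_one ?_
        rw [← Nat.cast_pow, ← Nat.cast_one (R := ZMod r), ZMod.natCast_eq_natCast_iff]
        exact ((Nat.modEq_iff_dvd' (Nat.one_le_pow _ _ Fintype.card_pos)).2 hjr).symm
      refine ⟨?_, ?_⟩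
      · exact Odd.of_dvd_nat ⟨j + 1, by ring⟩ hd
      · have := Nat.le_of_dvd (by omega) hd
        have := Finset.mem_range.1 hj
        omega
  by_cases hi1 : i = 1
  · -- diagonal
    obtain ⟨ω, hω⟩ := exists_prime_orderOf_dvd_card' (G := Fˣ) r
      (by rw [Nat.card_units, Nat.card_eq_fintype_card]; exact (order_one_iff r).1 hi1)
    have hpow : ∀ k : ℕ, (ω : F) ^ k = 1 ↔ r ∣ k := fun k => by
      rw [← Units.val_pow_eq_pow_val, Units.val_eq_one, ← orderOf_dvd_iff_pow_eq_one, hω]
    have hωr : (ω : F) ^ r = 1 := (hpow r).2 dvd_rfl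
    have hω0 : (ω : F) ≠ 0 := ω.ne_zero
    set a : F := (ω : F) with hadef
    set b : F := (a ^ 2)⁻¹ with hbdef
    have hsmall : ∀ k : ℕ, 0 < k → k < r → a ^ k ≠ 1 := fun k h1 h2 e => by
      have := Nat.le_of_dvd h1 ((hpow k).1 e); omega
    have ha1 : a ≠ 1 := by simpa using hsmall 1 one_pos (by omega)
    have hb1 : b ≠ 1 := fun e => hsmall 2 two_pos hrp2 (inv_eq_one.1 e)
    let d : Fin n → F := fun l => if l = i₀ ∨ l = i₁ then a else if l = i₂ then b else 1
    have hdr : ∀ l, d l ^ r = 1 := fun l => by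
      simp only [d]
      split_ifs
      · exact hωr
      · rw [hbdef, inv_pow, ← pow_mul, mul_comm, pow_mul, hωr, one_pow, inv_one]
      · exact one_pow r
    refine build (Matrix.diagonal d) ?_ ?_ ?_ ?_
    · rw [Matrix.det_diagonal, ← Finset.prod_subset (s₁ := {i₀, i₁, i₂}) (Finset.subset_univ _) (fun l _ hl => by
        simp only [Finset.mem_insert, Finset.mem_singleton, not_or] at hl
        simp [d, hl.1, hl.2.1, hl.2.2])]
      rw [Finset.prod_insert (by simp [h01, h02]), Finset.prod_insert (by simp [h12]), Finset.prod_singleton]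
      simp [d, h02.symm, h12.symm, hbdef]
      field_simp
    · rw [Matrix.diagonal_pow, ← Matrix.diagonal_one]
      congr 1; funext l; exact hdr l
    · intro z hz
      have e0 := congrFun (congrFun hz i₀) i₀
      have e3 := congrFun (congrFun hz i₃) i₃
      simp [d, h03, h13, h23] at e0 e3
      exact ha1 (e0.trans e3.symm)
    · intro Q g μ hμ hgv hgr hsim
      have hdinv : ((g⁻¹ : GL (Fin n) F) : Matrix (Fin n) (Fin n) F) =
          ((Q⁻¹ : GL (Fin n) F) : Matrix (Fin n) (Fin n) F) * Matrix.diagonal (fun l => d l ^ (r - 1)) *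
            (Q : Matrix (Fin n) (Fin n) F) := by
        have e1 : g⁻¹ = g ^ (r - 1) := inv_eq_of_mul_eq_one_right (by
          rw [← pow_succ', Nat.sub_add_cancel (by omega), hgr])
        rw [e1, Units.val_pow_eq_pow_val, hgv, Units.conj_pow', Matrix.diagonal_pow]
        rfl
      have cnt : ∀ t : F, (Finset.univ.filter fun l => d l ≠ t).card =
          (Finset.univ.filter fun l => μ * d l ^ (r - 1) ≠ t).card := fun t => by
        have h3 := rank_simil hB g hsim t
        rw [hdinv, ← smul_mul_assoc, ← mul_smul_comm, S5979.rank_conj, hgv, S5979.rank_conj, ← Matrix.diagonal_smul,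
          Matrix.smul_one_eq_diagonal, Matrix.diagonal_sub, Matrix.diagonal_sub, Matrix.rank_diagonal,
          Matrix.rank_diagonal, Fintype.card_subtype, Fintype.card_subtype] at h3
        simpa [sub_ne_zero] using h3.symm
      have hμd : ∀ l t, μ * d l ^ (r - 1) = t ↔ μ = t * d l := fun l t => by
        have hd0 : d l ≠ 0 := fun e => by
          have := hdr l
          rw [e, zero_pow (Fact.out : r.Prime).ne_zero] at this; exact zero_ne_one this
        constructor
        · intro e
          rw [← e, mul_assoc, ← pow_succ, Nat.sub_add_cancel (by omega), hdr, mul_one]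
        · intro e
          rw [e, mul_assoc, ← pow_succ', Nat.sub_add_cancel (by omega), hdr, mul_one]
      have cnt' : ∀ t : F, (Finset.univ.filter fun l => d l = t).card =
          (Finset.univ.filter fun l => μ = t * d l).card := fun t => by
        have h1 := Finset.card_filter_add_card_filter_not (s := (Finset.univ : Finset (Fin n))) (fun l => d l = t)
        have h2 := Finset.card_filter_add_card_filter_not (s := (Finset.univ : Finset (Fin n)))
          (fun l => μ * d l ^ (r - 1) = t)
        have h3 := cnt t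
        rw [show (Finset.univ.filter fun l => μ = t * d l) = Finset.univ.filter fun l => μ * d l ^ (r - 1) = t from
          Finset.filter_congr fun l _ => (hμd l t).symm]
        simp only [ne_eq] at h3
        omega
      -- multiplicities
      have hS : ∀ P : F → Prop, (Finset.univ.filter fun l => P (d l)).card =
          (if P a then 2 else 0) + (if P b then 1 else 0) + (if P 1 then n - 3 else 0) := fun P => by
        rw [Finset.card_filter, ← Finset.sum_sdiff (Finset.subset_univ ({i₀, i₁, i₂} : Finset (Fin n))),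
          Finset.sum_congr (g := fun _ => if P 1 then 1 else 0) rfl (fun l hl => by
            simp only [Finset.mem_sdiff, Finset.mem_insert, Finset.mem_singleton, not_or] at hl
            simp [d, hl.2.1, hl.2.2.1, hl.2.2.2]),
          Finset.sum_const, Finset.card_sdiff_of_subset (Finset.subset_univ _), Finset.card_univ, Fintype.card_fin,
          Finset.sum_insert (by simp [h01, h02]), Finset.sum_insert (by simp [h12]), Finset.sum_singleton]
        rw [show ({i₀, i₁, i₂} : Finset (Fin n)).card = 3 by simp [h01, h02, h12]]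
        simp only [d, if_true, or_true, true_or, h02.symm, h12.symm, or_self, if_false]
        split_ifs <;> simp <;> omega
      have c1 := cnt' 1
      rw [hS (fun y => y = 1), hS (fun y => μ = 1 * y)] at c1
      have ca := cnt' a
      rw [hS (fun y => y = a), hS (fun y => μ = a * y)] at ca
      have hab : a = b ↔ r = 3 := by
        rw [hbdef, ← mul_eq_one_iff_eq_inv₀ (pow_ne_zero 2 hω0), ← pow_succ', hpow]
        exact ⟨fun e => (Nat.prime_dvd_prime_iff_eq Fact.out Nat.prime_three).1 e, fun e => dvd_of_eq e⟩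
      simp only [one_mul, ha1, hb1, mul_one, if_false, if_true, eq_self_iff_true, eq_comm (a := b) (b := a),
        zero_add] at c1 ca
      by_cases h3 : r = 3
      · have hb : a = b := hab.2 h3
        have hn6 : n ≠ 6 := fun e => hgap ⟨e, h3⟩
        rw [← hb] at c1 ca
        simp only [if_true, Ne.symm ha1, if_false] at c1 ca
        by_cases e1 : μ = a
        · subst e1
          simp only [if_true, ha1, if_false] at c1
          omega
        · simp only [e1, if_false, zero_add] at c1
          by_cases e2 : μ = 1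
          · subst e2
            have e4 : (1 : F) ≠ a * a := fun e => hsmall 2 two_pos hrp2 (by rw [pow_two]; exact e.symm)
            simp only [e4, Ne.symm ha1, if_false] at ca
            omega
          · simp only [e2, if_false] at c1
            omega
      · have hb : a ≠ b := fun e => h3 (hab.1 e)
        have hr5 : 5 ≤ r := by
          rcases Nat.lt_or_ge r 5 with h5 | h5
          · have : r = 4 := by omega
            exact absurd (Fact.out : r.Prime) (by rw [this]; norm_num)
          · exact h5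
        simp only [hb, Ne.symm ha1, if_false] at c1 ca
        by_cases e2 : μ = 1
        · subst e2
          have e4 : (1 : F) ≠ a * a := fun e => hsmall 2 two_pos hrp2 (by rw [pow_two]; exact e.symm)
          have e5 : (1 : F) ≠ a * b := fun e => ha1 (by
            rw [hbdef, pow_two, mul_inv, ← mul_assoc, mul_inv_cancel₀ hω0, one_mul] at e
            exact inv_eq_one.1 e.symm)
          simp only [e4, e5, Ne.symm ha1, if_false] at ca
          omega
        · by_cases e1 : μ = a
          · subst e1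
            simp only [ha1, hb, if_false, if_true] at c1
            omega
          · by_cases e6 : μ = b
            · subst e6
              have e7 : b ≠ a * a := fun e => hsmall 4 (by norm_num) (by omega) (by
                have e' := inv_mul_cancel₀ (pow_ne_zero 2 hω0)
                rw [← hbdef, e] at e'
                rw [← e']; ring)
              have e8 : b ≠ a * b := fun e => ha1 (by
                exact mul_right_cancel₀ (inv_ne_zero (pow_ne_zero 2 hω0)) (e.symm.trans (one_mul b).symm))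
              simp only [e7, e8, Ne.symm hb, if_false] at ca
              omega
            · simp only [e1, e2, e6, if_false] at c1
              omega
  · -- one irreducible block of odd dimension
    have hd : ¬ r ∣ Fintype.card F - 1 := fun e => hi1 ((order_one_iff r).2 e)
    haveI : Fact p.Prime := inferInstance
    obtain ⟨k, -, hk⟩ := FiniteField.card F p
    have hpr : p ≠ r := fun e => hr0 (e ▸ CharP.cast_eq_zero F p)
    have hcop : p.Coprime r := (Nat.coprime_primes Fact.out Fact.out).2 hpr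
    have hu : i = orderOf (ZMod.unitOfCoprime _ (hcop.pow_left (k : ℕ))) := by
      rw [hidef, ← orderOf_units, ZMod.coe_unitOfCoprime, hk]
    obtain ⟨G, hG⟩ := UniqueFactorizationMonoid.exists_mem_normalizedFactors (cyclotomic_ne_zero r F)
      (not_isUnit_of_natDegree_pos _ (by rw [natDegree_cyclotomic]; exact Nat.totient_pos.2 (Fact.out : r.Prime).pos))
    have hgi := UniqueFactorizationMonoid.irreducible_of_normalized_factor G hG
    have hgd : G.natDegree = i := by
      rw [hu]; exact natDegree_of_mem_normalizedFactors_cyclotomic hk hcop hG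
    haveI : Fact (Irreducible G) := ⟨hgi⟩
    haveI : FiniteDimensional F (AdjoinRoot G) := (AdjoinRoot.powerBasis hgi.ne_zero).finite
    haveI : Finite (AdjoinRoot G) := Module.finite_of_finite F
    have hKd : finrank F (AdjoinRoot G) = i := by
      rw [(AdjoinRoot.powerBasis hgi.ne_zero).finrank, AdjoinRoot.powerBasis_dim, hgd]
    set ζ := AdjoinRoot.root G with hζ
    obtain ⟨w, hw⟩ := UniqueFactorizationMonoid.dvd_of_mem_normalizedFactors hG
    have hroot : aeval ζ G = 0 := by rw [hζ, AdjoinRoot.aeval_eq, AdjoinRoot.mk_self]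
    have hζΦ : aeval ζ (cyclotomic r F) = 0 := by rw [hw, map_mul, hroot, zero_mul]
    have hζr : ζ ^ r = 1 := by
      have := congrArg (aeval ζ) (cyclotomic_prime_mul_X_sub_one F r)
      rw [map_mul, hζΦ, zero_mul, map_sub, aeval_X_pow, map_one] at this
      exact sub_eq_zero.1 this.symm
    have hζ1 : ζ ≠ 1 := by
      intro h1
      rw [h1, aeval_def, eval₂_eq_eval_map, map_cyclotomic, eval_one_cyclotomic_prime] at hζΦ
      exact hr0 ((algebraMap F (AdjoinRoot G)).injective (by rw [map_natCast, map_zero, hζΦ]))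
    let g' : ((Fin (n - i) → F) × AdjoinRoot G) →ₗ[F] ((Fin (n - i) → F) × AdjoinRoot G) :=
      LinearMap.prodMap LinearMap.id (LinearMap.mulLeft F ζ)
    obtain ⟨L, Y, hY, -⟩ := exists_transport (V := (Fin (n - i) → F) × AdjoinRoot G) (n := n)
      (by rw [finrank_prod, finrank_fin_fun, hKd]; omega) g'
    have hYl : ∀ (l : ℕ) v, L ((Y ^ l) *ᵥ v) = ((L v).1, ζ ^ l * (L v).2) := by
      intro l
      induction l with
      | zero => intro v; simp
      | succ l ih =>
        intro v
        have e1 := hY ((Y ^ l) *ᵥ v)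
        rw [Matrix.toLin'_apply, Matrix.mulVec_mulVec, ← pow_succ', ih] at e1
        rw [e1]
        simp [g', pow_succ', mul_assoc]
    have hYr : Y ^ r = 1 := Matrix.ext_of_mulVec_single fun j => L.injective (by
      rw [hYl, hζr, one_mul, Matrix.one_mulVec])
    have hY1 : Y ≠ 1 := fun e1 => hζ1 (by
      have h' := hYl 1 (L.symm (0, 1))
      rw [e1, one_pow, Matrix.one_mulVec, L.apply_symm_apply] at h'
      simpa using (congrArg Prod.snd h').symm)
    refine build Y (eq_one_of_pow_eq_one (r := r) hd (by rw [← Matrix.det_pow, hYr, Matrix.det_one])) hYr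
      (fun z hz => hY1 (by
        have hzr : z ^ r = 1 := by
          have h3 := congrFun (congrFun hYr i₀) i₀
          rw [hz, _root_.smul_pow, one_pow] at h3
          simpa using h3
        rw [hz, eq_one_of_pow_eq_one hd hzr, one_smul])) ?_
    intro Q g μ hμ hgv hgr hsim
    obtain rfl : μ = 1 := eq_one_of_pow_eq_one hd hμ
    have hP : ∀ (P : F[X]) (v : Fin n → F), L (aeval Y P *ᵥ v) = (P.eval 1 • (L v).1, aeval ζ P * (L v).2) := by
      intro P
      induction P using Polynomial.induction_on' with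
      | add P R hP hR =>
        intro v
        rw [map_add, map_add, eval_add, Matrix.add_mulVec, map_add, hP, hR, Prod.mk_add_mk, add_smul, add_mul]
      | monomial l c =>
        intro v
        rw [aeval_monomial, aeval_monomial, ← Algebra.smul_def, ← Algebra.smul_def, Matrix.smul_mulVec, map_smul,
          hYl, Prod.smul_mk, eval_monomial, one_pow, mul_one, smul_mul_assoc]
    have h0 : aeval Y ((X - 1) * G) = 0 := Matrix.ext_of_mulVec_single fun j => L.injective (by
      rw [hP, map_mul, hroot, mul_zero, zero_mul, eval_mul, eval_sub, eval_X, eval_one, sub_self, zero_mul,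
        zero_smul, Matrix.zero_mulVec, map_zero]; rfl)
    have h1 : aeval ((g⁻¹ : GL (Fin n) F) : Matrix (Fin n) (Fin n) F) ((X - 1) * G) = 0 := by
      have h2 := aeval_simil hB g hsim ((X - 1) * G) (by rw [hgv, aeval_conj, h0, mul_zero, zero_mul])
      rwa [one_smul] at h2
    have e1 : g⁻¹ = g ^ (r - 1) := inv_eq_of_mul_eq_one_right (by
      rw [← pow_succ', Nat.sub_add_cancel (by omega), hgr])
    rw [e1, Units.val_pow_eq_pow_val, hgv, Units.conj_pow', aeval_conj] at h1
    have h2 : aeval (Y ^ (r - 1)) ((X - 1) * G) = 0 := by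
      have h3 := congrArg (fun M => (Q : Matrix (Fin n) (Fin n) F) * M * ((Q⁻¹ : GL (Fin n) F) : Matrix (Fin n) (Fin n) F)) h1
      simpa [mul_assoc] using h3
    have h3 : aeval (ζ ^ (r - 1)) ((X - 1) * G) = 0 := by
      rw [← aeval_X_pow (R := F) Y, ← aeval_comp] at h2
      have h4 := hP (((X - 1) * G).comp (X ^ (r - 1))) (L.symm (0, 1))
      rw [h2, Matrix.zero_mulVec, map_zero, L.apply_symm_apply] at h4
      have h5 := congrArg Prod.snd h4
      rw [aeval_comp, aeval_X_pow] at h5
      simpa using h5.symm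
    have hinv : ζ ^ (r - 1) * ζ = 1 := by rw [← pow_succ, Nat.sub_add_cancel (by omega), hζr]
    have hne1 : ζ ^ (r - 1) ≠ 1 := fun e => hζ1 (by rwa [e, one_mul] at hinv)
    rw [map_mul, mul_eq_zero, map_sub, aeval_X, map_one, sub_eq_zero] at h3
    have hG' : aeval (ζ ^ (r - 1)) G = 0 := h3.resolve_left hne1
    let σ : AdjoinRoot G →ₐ[F] AdjoinRoot G := AdjoinRoot.liftAlgHom G (Algebra.ofId F _) (ζ ^ (r - 1)) hG'
    have hσ : σ ζ = ζ ^ (r - 1) := AdjoinRoot.liftAlgHom_root ..
    have hσ2 : σ.comp σ = AlgHom.id F _ := AdjoinRoot.algHom_ext (by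
      show σ (σ ζ) = ζ
      rw [hσ, map_pow, hσ]
      have e3 : (ζ ^ (r - 1)) ^ (r - 1) * ζ ^ (r - 1) = ζ * ζ ^ (r - 1) := by
        rw [← mul_pow, hinv, one_pow, mul_comm, hinv]
      exact mul_right_cancel₀ (fun e => by rw [e, zero_mul] at hinv; exact zero_ne_one hinv) e3)
    let s : AdjoinRoot G ≃ₐ[F] AdjoinRoot G := AlgEquiv.ofAlgHom σ σ hσ2 hσ2
    have hs : orderOf s = 2 := by
      refine orderOf_eq_prime (AlgEquiv.ext fun v => ?_) fun e => ?_
      · rw [pow_two]; exact AlgHom.congr_fun hσ2 v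
      · have e2 : σ ζ = ζ := AlgEquiv.congr_fun e ζ
        rw [hσ] at e2
        have e3 : ζ ^ 2 = 1 := by
          rw [pow_two]; nth_rw 1 [← e2]; exact hinv
        have h7 := orderOf_dvd_iff_pow_eq_one.2 e3
        rw [orderOf_eq_prime hζr hζ1] at h7
        have := Nat.le_of_dvd two_pos h7
        omega
    have := orderOf_dvd_natCard s
    rw [hs, IsGalois.card_aut_eq_finrank, hKd] at this
    exact (Nat.not_even_iff_odd.2 hiodd) (even_iff_two_dvd.2 this)

end Cfsg.Agent.S5968
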