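import Cfsg.Statements.S5967
import Cfsg.Agent.Lib.Forms.Elusive.Linear
import Cfsg.Agent.Lib.Forms.Elusive.Involution
import Cfsg.Agent.Lib.Forms.Bases

set_option autoImplicit false
open scoped MatrixGroups
open Cfsg

namespace Cfsg.Agent.S5967

open Cfsg.Agent.Forms.Elusive Matrix

section helpers

variable {F : Type*} [Field F] [Fintype F]

theorem odd_iff_two_ne_zero : Odd (Fintype.card F) ↔ (2 : F) ≠ 0 := by
  constructor
  · intro ho h2
    haveI : CharP F 2 := CharTwo.of_one_ne_zero_of_two_eq_zero one_ne_zero h2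
    have := FiniteField.even_card_of_char_two (ringChar.eq F 2)
    obtain ⟨w, hw⟩ := ho; omega
  · intro h2
    refine Nat.odd_iff.2 (FiniteField.odd_card_of_char_ne_two fun e => h2 ?_)
    haveI := ringChar.of_eq e
    exact CharTwo.two_eq_zero

theorem neg_one_not_pow (h2 : (2 : F) ≠ 0) {n : ℕ}
    (hv : padicValNat 2 (Fintype.card F - 1) ≤ padicValNat 2 n) {c : F} : c ^ n ≠ -1 := by
  intro hc
  haveI : Fact (Nat.Prime 2) := ⟨Nat.prime_two⟩
  have hQ : Fintype.card F - 1 ≠ 0 := by have := Fintype.one_lt_card (α := F); omega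
  set v := padicValNat 2 (Fintype.card F - 1) with hvdef
  obtain ⟨u, hu⟩ : 2 ^ v ∣ Fintype.card F - 1 := pow_padicValNat_dvd
  have huo : Odd u := by
    rw [← Nat.not_even_iff_odd, even_iff_two_dvd]
    rintro ⟨w, rfl⟩
    exact pow_succ_padicValNat_not_dvd (p := 2) hQ ⟨w, by rw [← hvdef, pow_succ, mul_assoc]; exact hu⟩
  obtain ⟨w, hw⟩ : 2 ^ v ∣ n := (pow_dvd_pow 2 hv).trans pow_padicValNat_dvd
  have hn1 : (-1 : F) ≠ 1 := fun e => h2 (by rw [← one_add_one_eq_two, ← e]; nth_rw 1 [e]; rw [← e]; ring)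
  rcases eq_or_ne n 0 with rfl | hn0
  · exact hn1 (by rw [← hc, pow_zero])
  have hc0 : c ≠ 0 := fun e => by
    rw [e, zero_pow hn0] at hc
    exact neg_ne_zero.2 one_ne_zero hc.symm
  have h1 := congrArg (· ^ u) hc
  simp only [huo.neg_one_pow, ← pow_mul] at h1
  rw [show n * u = (Fintype.card F - 1) * w by rw [hw, hu]; ring, pow_mul,
    FiniteField.pow_card_sub_one_eq_one c hc0, one_pow] at h1
  exact hn1 h1.symm

theorem exists_neg_one_pow (h2 : (2 : F) ≠ 0) {n : ℕ} (hn : n ≠ 0)
    (hv : padicValNat 2 n < padicValNat 2 (Fintype.card F - 1)) : ∃ c : F, c ^ n = -1 := by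
  haveI : Fact (Nat.Prime 2) := ⟨Nat.prime_two⟩
  have hchar : ringChar F ≠ 2 := fun e => h2 (by haveI := ringChar.of_eq e; exact CharTwo.two_eq_zero)
  obtain ⟨e, he⟩ := FiniteField.exists_nonsquare hchar
  have he0 : e ≠ 0 := by rintro rfl; exact he ⟨0, by simp⟩
  have he1 : e ^ (Fintype.card F / 2) = -1 := by
    rcases FiniteField.pow_dichotomy hchar he0 with h | h
    · exact absurd ((FiniteField.isSquare_iff hchar he0).2 h) he
    · exact h
  obtain ⟨w, hw⟩ : 2 ^ padicValNat 2 n ∣ Fintype.card F / 2 := by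
    have hodd := Nat.odd_iff.1 (odd_iff_two_ne_zero.2 h2)
    have h1 : 2 ^ (padicValNat 2 n + 1) ∣ Fintype.card F - 1 :=
      (pow_dvd_pow 2 hv).trans pow_padicValNat_dvd
    obtain ⟨w, hw⟩ := h1
    exact ⟨w, by rw [pow_succ, mul_assoc, mul_left_comm] at hw; omega⟩
  obtain ⟨o, ho⟩ : 2 ^ padicValNat 2 n ∣ n := pow_padicValNat_dvd
  have hoo : Odd o := by
    rw [← Nat.not_even_iff_odd, even_iff_two_dvd]
    rintro ⟨x, hx⟩
    exact pow_succ_padicValNat_not_dvd (p := 2) hn
      ⟨x, by rw [pow_succ, mul_assoc, ← hx]; exact ho⟩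
  refine ⟨e ^ w, ?_⟩
  rw [← pow_mul, ho, ← mul_assoc, mul_comm w, ← hw, pow_mul, he1, hoo.neg_one_pow]

/-- a rank one involution -/
theorem exists_rank_one {n : ℕ} (hn : 2 ≤ n) :
    ∃ f : (Fin n → F) →ₗ[F] (Fin n → F), (∀ v, f (f v) = v) ∧ Inv.rk f = 1 ∧
      (∃ v, f v = v ∧ v ≠ 0) := by
  classical
  set i₀ : Fin n := ⟨0, by omega⟩
  set i₁ : Fin n := ⟨1, by omega⟩
  have hne : i₁ ≠ i₀ := fun e => absurd (congrArg Fin.val e) Nat.one_ne_zero
  obtain ⟨w, hw0, hw, hw1⟩ : ∃ w : Fin n → F, w ≠ 0 ∧ w i₀ + 2 = 0 ∧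
      ∀ j, j ≠ i₀ → j ≠ i₁ → w j = 0 := by
    by_cases h2 : (2 : F) = 0
    · exact ⟨Pi.single i₁ 1, fun e => by simpa using congrFun e i₁, by simp [hne.symm, h2],
        fun j _ hj => by simp [hj]⟩
    · exact ⟨Pi.single i₀ (-2), fun e => by simpa [h2] using congrFun e i₀, by simp,
        fun j hj _ => by simp [hj]⟩
  let M : (Fin n → F) →ₗ[F] (Fin n → F) := (LinearMap.proj (R := F) (φ := fun _ : Fin n => F) i₀).smulRight w
  have hM : ∀ v, M v = v i₀ • w := fun v => rfl
  refine ⟨LinearMap.id + M, fun v => ?_, ?_, Pi.single i₁ 1, ?_, fun e => by simpa using congrFun e i₁⟩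
  · simp only [LinearMap.add_apply, LinearMap.id_apply, hM, Pi.add_apply, Pi.smul_apply, smul_eq_mul,
      add_assoc]
    rw [← add_smul, show v i₀ + (v i₀ + v i₀ * w i₀) = v i₀ * (w i₀ + 2) by ring, hw,
      mul_zero, zero_smul, add_zero]
  · have hr : LinearMap.range (LinearMap.id + M - LinearMap.id) = F ∙ w := by
      rw [add_sub_cancel_left]
      refine le_antisymm ?_ ((Submodule.span_singleton_le_iff_mem _ _).2 ⟨Pi.single i₀ 1, by simp [hM]⟩)
      rintro _ ⟨v, rfl⟩
      exact Submodule.mem_span_singleton.2 ⟨v i₀, (hM v).symm⟩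
    rw [Inv.rk, hr, finrank_span_singleton hw0]
  · simp [hM, hne.symm]



open Module

theorem rk_eq {V : Type*} [AddCommGroup V] [Module F V] [FiniteDimensional F V] {κ : Type*} (b : Basis κ F V)
    (h : V →ₗ[F] V) {r : ℕ} (π : Fin r → κ) (hπ : Function.Injective π) (c : F) (hc : c ≠ 0) (σ : Fin r → κ)
    (h1 : ∀ p, h (b p) - b p ∈ Submodule.span F (Set.range fun i => b (π i)))
    (h2 : ∀ i, h (b (σ i)) - b (σ i) = c • b (π i)) : Inv.rk h = r := by
  have hr : LinearMap.range (h - LinearMap.id) = Submodule.span F (Set.range fun i => b (π i)) := by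
    refine le_antisymm ?_ (Submodule.span_le.2 ?_)
    · rw [LinearMap.range_eq_map, ← b.span_eq, Submodule.map_span, Submodule.span_le]
      rintro _ ⟨_, ⟨p, rfl⟩, rfl⟩
      exact h1 p
    · rintro _ ⟨i, rfl⟩
      exact ⟨c⁻¹ • b (σ i), by rw [map_smul, LinearMap.sub_apply, LinearMap.id_apply, h2, inv_smul_smul₀ hc]⟩
  rw [Inv.rk, hr]
  exact (finrank_span_eq_card (b.linearIndependent.comp π hπ)).trans (Fintype.card_fin r)

section symp

variable {V : Type*} [AddCommGroup V] [Module F V] [FiniteDimensional F V] {B : LinearMap.BilinForm F V} {m : ℕ}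
  {b : Basis (Fin m ⊕ Fin m) F V}

theorem simil_of_basis {g : V →ₗ[F] V} {μ : F}
    (h : ∀ p q, B (g (b p)) (g (b q)) = μ * B (b p) (b q)) (u v : V) : B (g u) (g v) = μ * B u v := by
  have e : B.compl₁₂ g g = μ • B := LinearMap.BilinForm.ext_basis b fun p q => h p q
  exact LinearMap.congr_fun₂ e u v

theorem models (hA : B.IsAlt) (h1 : ∀ i j, B (b (.inl i)) (b (.inr j)) = if i = j then 1 else 0)
    (h00 : ∀ i j, B (b (.inl i)) (b (.inl j)) = 0) (h11 : ∀ i j, B (b (.inr i)) (b (.inr j)) = 0) :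
    (∀ z : F, z ≠ 0 → ∃ g : V →ₗ[F] V, (∀ v, g (g v) = z • v) ∧ ∃ μ : F, μ ≠ 0 ∧ ∀ u v, B (g u) (g v) = μ * B u v) ∧
    ∀ r, r ≤ 2 * m → ((2 : F) ≠ 0 → Even r ∨ r = m) → ((2 : F) = 0 → r ≤ m) →
      ∃ h : V →ₗ[F] V, (∀ v, h (h v) = v) ∧ Inv.rk h = r ∧ ∃ μ : F, μ ≠ 0 ∧ ∀ u v, B (h u) (h v) = μ * B u v := by
  classical
  have h10 : ∀ i j, B (b (.inr i)) (b (.inl j)) = if j = i then -1 else 0 := fun i j => by
    rw [← LinearMap.IsAlt.neg hA, h1]
    split_ifs <;> simp
  refine ⟨fun z hz => ?_, fun r hr hodd heven => ?_⟩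
  · let g : V →ₗ[F] V := b.constr F (Sum.elim (fun i => b (.inr i)) fun i => z • b (.inl i))
    have e0 : ∀ i, g (b (.inl i)) = b (.inr i) := fun i => Basis.constr_basis b F _ (Sum.inl i)
    have e1 : ∀ i, g (b (.inr i)) = z • b (.inl i) := fun i => Basis.constr_basis b F _ (Sum.inr i)
    refine ⟨g, fun v => ?_, -z, neg_ne_zero.2 hz, simil_of_basis (b := b) ?_⟩
    · have : g ∘ₗ g = z • LinearMap.id := b.ext fun p => by rcases p with i | i <;> simp [e0, e1]
      exact LinearMap.congr_fun this v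
    · rintro (i | i) (j | j)
      · simp [e0, h11, h00]
      · simp only [e0, e1, map_smul, smul_eq_mul, h10, h1]
        by_cases hij : i = j <;> simp [hij, Ne.symm]
      · simp only [e0, e1, map_smul, LinearMap.smul_apply, smul_eq_mul, h10, h1]
        by_cases hij : i = j <;> simp [hij, Ne.symm]
      · simp [e1, h11, h00]
  · by_cases h2 : (2 : F) = 0
    · have hrm := heven h2
      let h : V →ₗ[F] V := b.constr F (Sum.elim
        (fun i : Fin m => if (i : ℕ) < r then b (.inl i) + b (.inr i) else b (.inl i)) fun i => b (.inr i))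
      have e0 : ∀ i : Fin m, h (b (.inl i)) = if (i : ℕ) < r then b (.inl i) + b (.inr i) else b (.inl i) :=
        fun i => Basis.constr_basis b F _ (Sum.inl i)
      have e1 : ∀ i, h (b (.inr i)) = b (.inr i) := fun i => Basis.constr_basis b F _ (Sum.inr i)
      refine ⟨h, fun v => ?_, rk_eq b h (fun i : Fin r => Sum.inr ⟨i, by omega⟩)
        (fun i j e => Fin.ext (by simpa using e)) 1 one_ne_zero (fun i => Sum.inl ⟨i, by omega⟩) ?_ ?_,
        1, one_ne_zero, simil_of_basis (b := b) ?_⟩
      · have : h ∘ₗ h = LinearMap.id := b.ext fun p => by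
          rcases p with i | i
          · simp only [LinearMap.comp_apply, LinearMap.id_apply, e0]
            split_ifs with hi
            · rw [map_add, e0, e1, if_pos hi, add_assoc, ← two_smul F, h2, zero_smul, add_zero]
            · rw [e0, if_neg hi]
          · simp [e1]
        exact LinearMap.congr_fun this v
      · rintro (i | i)
        · rw [e0]
          split_ifs with hi
          · rw [add_sub_cancel_left]; exact Submodule.subset_span ⟨⟨i, hi⟩, rfl⟩
          · rw [sub_self]; exact zero_mem _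
        · rw [e1, sub_self]; exact zero_mem _
      · intro i
        rw [e0, if_pos i.2, add_sub_cancel_left, one_smul]
      · rintro (i | i) (j | j)
        · simp only [e0, one_mul, h00]
          split_ifs <;> simp only [map_add, LinearMap.add_apply, h00, h11, h1, h10] <;>
            by_cases hij : i = j <;> simp_all [Ne.symm]
        · simp only [e0, e1, one_mul]
          split_ifs <;> simp [h11]
        · simp only [e0, e1, one_mul]
          split_ifs <;> simp [h11]
        · simp [e1]
    · rcases hodd h2 with ⟨t, ht⟩ | hrm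
      · have htm : t ≤ m := by omega
        let s : Fin m → F := fun i => if (i : ℕ) < t then -1 else 1
        have hs : ∀ i, s i * s i = 1 := fun i => by simp only [s]; split_ifs <;> simp
        let h : V →ₗ[F] V := b.constr F (Sum.elim (fun i => s i • b (.inl i)) fun i => s i • b (.inr i))
        have e0 : ∀ i, h (b (.inl i)) = s i • b (.inl i) := fun i => Basis.constr_basis b F _ (Sum.inl i)
        have e1 : ∀ i, h (b (.inr i)) = s i • b (.inr i) := fun i => Basis.constr_basis b F _ (Sum.inr i)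
        let π : Fin t ⊕ Fin t → Fin m ⊕ Fin m := Sum.map (fun i => ⟨i, by omega⟩) fun i => ⟨i, by omega⟩
        have hπ : Function.Injective π := Sum.map_injective.2
          ⟨fun i j e => Fin.ext (by simpa using e), fun i j e => Fin.ext (by simpa using e)⟩
        let π' : Fin r → Fin m ⊕ Fin m := π ∘ finSumFinEquiv.symm ∘ finCongr (show r = t + t by omega)
        have hπ' : Function.Injective π' :=
          hπ.comp (finSumFinEquiv.symm.injective.comp (finCongr _).injective)
        refine ⟨h, fun v => ?_, rk_eq b h π' hπ' (-2) (neg_ne_zero.2 h2) π' ?_ ?_, 1, one_ne_zero,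
          simil_of_basis (b := b) ?_⟩
        · have : h ∘ₗ h = LinearMap.id := b.ext fun p => by
            rcases p with i | i <;> simp [e0, e1, smul_smul, hs]
          exact LinearMap.congr_fun this v
        · have hsub : ∀ q, b (π q) ∈ Submodule.span F (Set.range fun i => b (π' i)) := fun q =>
            Submodule.subset_span ⟨(finCongr (show r = t + t by omega)).symm (finSumFinEquiv q), by simp [π']⟩
          rintro (i | i)
          · by_cases hi : (i : ℕ) < t
            · rw [e0, show s i • b (Sum.inl i) - b (Sum.inl i) = (s i - 1) • b (π (Sum.inl ⟨i, hi⟩)) by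
                simp only [π, Sum.map_inl, Fin.eta, sub_smul, one_smul]]
              exact Submodule.smul_mem _ _ (hsub _)
            · rw [e0, show s i = 1 from if_neg hi, one_smul, sub_self]; exact zero_mem _
          · by_cases hi : (i : ℕ) < t
            · rw [e1, show s i • b (Sum.inr i) - b (Sum.inr i) = (s i - 1) • b (π (Sum.inr ⟨i, hi⟩)) by
                simp only [π, Sum.map_inr, Fin.eta, sub_smul, one_smul]]
              exact Submodule.smul_mem _ _ (hsub _)
            · rw [e1, show s i = 1 from if_neg hi, one_smul, sub_self]; exact zero_mem _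
        · intro i
          obtain ⟨q, hq⟩ : ∃ q, π' i = π q := ⟨_, rfl⟩
          rw [hq]
          rcases q with j | j <;> simp only [π, Sum.map_inl, Sum.map_inr, e0, e1, s, j.2, if_true] <;> module
        · rintro (i | i) (j | j)
          · simp [e0, h00]
          · simp only [e0, e1, map_smul, LinearMap.smul_apply, smul_eq_mul, h1, one_mul]
            by_cases hij : i = j <;> simp [hij, hs]
          · simp only [e0, e1, map_smul, LinearMap.smul_apply, smul_eq_mul, h10, one_mul]
            by_cases hij : j = i <;> simp [hij, hs]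
          · simp [e1, h11]
      · subst hrm
        let h : V →ₗ[F] V := b.constr F (Sum.elim (fun i => -b (.inl i)) fun i => b (.inr i))
        have e0 : ∀ i, h (b (.inl i)) = -b (.inl i) := fun i => Basis.constr_basis b F _ (Sum.inl i)
        have e1 : ∀ i, h (b (.inr i)) = b (.inr i) := fun i => Basis.constr_basis b F _ (Sum.inr i)
        refine ⟨h, fun v => ?_, rk_eq b h Sum.inl Sum.inl_injective (-2) (neg_ne_zero.2 h2) Sum.inl ?_ ?_,
          -1, neg_ne_zero.2 one_ne_zero, simil_of_basis (b := b) ?_⟩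
        · have : h ∘ₗ h = LinearMap.id := b.ext fun p => by rcases p with i | i <;> simp [e0, e1]
          exact LinearMap.congr_fun this v
        · rintro (i | i)
          · rw [e0, show -b (Sum.inl i) - b (Sum.inl i) = (-2 : F) • b (Sum.inl i) by module]
            exact Submodule.smul_mem _ _ (Submodule.subset_span ⟨i, rfl⟩)
          · rw [e1, sub_self]; exact zero_mem _
        · intro i; rw [e0]; module
        · rintro (i | i) (j | j) <;> simp [e0, e1, h00, h11, h1, h10, neg_ite]

theorem rank_one_not_simil (h2 : (2 : F) ≠ 0) (hA : B.IsAlt) (hB : B.Nondegenerate) (hn : 4 ≤ finrank F V)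
    {h : V →ₗ[F] V} (hh : ∀ v, h (h v) = v) (hr : Inv.rk h = 1) {μ : F}
    (hμ : ∀ u v, B (h u) (h v) = μ * B u v) : False := by
  obtain ⟨w, hw, hw0⟩ : ∃ w ∈ LinearMap.range (h - LinearMap.id), w ≠ 0 :=
    Submodule.exists_mem_ne_zero_of_ne_bot fun e => by rw [Inv.rk, e, finrank_bot] at hr; omega
  have hhw : h w = -w := by
    obtain ⟨y, rfl⟩ := hw
    simp [hh]
  have hmem : ∀ x, ∃ s : F, h x = x + s • w := fun x => by
    have hs : LinearMap.range (h - LinearMap.id) = F ∙ w := by
      refine (Submodule.eq_of_le_of_finrank_eq ((Submodule.span_singleton_le_iff_mem _ _).2 hw) ?_).symm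
      rw [finrank_span_singleton hw0]; exact hr.symm
    have hx : h x - x ∈ LinearMap.range (h - LinearMap.id) := ⟨x, rfl⟩
    rw [hs, Submodule.mem_span_singleton] at hx
    obtain ⟨s, hs⟩ := hx
    exact ⟨s, by rw [hs, add_sub_cancel]⟩
  by_cases hμ1 : μ = 1
  · refine hw0 (hB.2 w fun x => ?_)
    obtain ⟨s, hs⟩ := hmem x
    have h3 := hμ x w
    rw [hs, hhw, hμ1, one_mul, map_neg, map_add, LinearMap.add_apply, map_smul, LinearMap.smul_apply, hA w,
      smul_zero, add_zero] at h3
    have : (2 : F) * B x w = 0 := by linear_combination -h3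
    exact (mul_eq_zero.1 this).resolve_left h2
  · obtain ⟨u, hu, hu0⟩ : ∃ u ∈ LinearMap.ker (h - LinearMap.id) ⊓ LinearMap.ker (B w), u ≠ 0 := by
      refine Submodule.exists_mem_ne_zero_of_ne_bot fun e => ?_
      have h3 := Submodule.finrank_sup_add_finrank_inf_eq (LinearMap.ker (h - LinearMap.id)) (LinearMap.ker (B w))
      rw [e, finrank_bot, add_zero] at h3
      have h4 := Submodule.finrank_le (LinearMap.ker (h - LinearMap.id) ⊔ LinearMap.ker (B w))
      have h5 := LinearMap.finrank_range_add_finrank_ker (h - LinearMap.id)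
      have h6 := LinearMap.finrank_range_add_finrank_ker (B w)
      have h7 := Submodule.finrank_le (LinearMap.range (B w))
      rw [Module.finrank_self] at h7
      unfold Inv.rk at hr
      omega
    obtain ⟨hu1, hu2⟩ := Submodule.mem_inf.1 hu
    have hhu : h u = u := sub_eq_zero.1 hu1
    have hwu : B u w = 0 := by rw [← LinearMap.IsAlt.neg hA, LinearMap.mem_ker.1 hu2, neg_zero]
    refine hu0 (hB.1 u fun x => ?_)
    obtain ⟨s, hs⟩ := hmem x
    have h3 := hμ u x
    rw [hs, hhu, map_add, map_smul, hwu, smul_zero, add_zero] at h3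
    have : (μ - 1) * B u x = 0 := by linear_combination -h3
    exact (mul_eq_zero.1 this).resolve_left (sub_ne_zero.2 hμ1)

end symp

end helpers

/-- Involutions of PSL_n(q) and the symplectic-type subgroups. Here `T = PSL_n(F)` for a field `F` with `q` elements, `n ≥ 4` even, `f` is a nondegenerate alternating form on `F^n`, and `H` is the subgroup of matrices of determinant 1 preserving `f` up to a scalar — a maximal subgroup of type Sp_n(q); Ω is the set of `T`-conjugates of `H` (cosets of `H`), so an element of `T` of prime order `r` (a matrix `x` of determinant 1 with `x^r` scalar, `x` not scalar) fixes a point of Ω when some conjugate of `x` by a matrix of determinant 1 preserves `f` up to a scalar. Suppose the index of `H` is even. Then every involution of `T` is conjugate in `T` into `H` if and only if `(q − 1)_2 ≤ (n)_2`. -/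
theorem result {F : Type*} [Field F] [Fintype F] {p : ℕ} [Fact p.Prime] [CharP F p] {q : ℕ} (hq : Fintype.card F = q)
    (n : ℕ) (hn : 4 ≤ n) (he : Even n) (f : (Fin n → F) → (Fin n → F) → F) (hf : Cfsg.Geo.IsSymplecticForm f)
    (hΩ : 2 ∣ ((Cfsg.Geo.similarityGroup f).comap (Matrix.SpecialLinearGroup.toGL : Matrix.SpecialLinearGroup (Fin n) F →* GL (Fin n) F)).index) :
    (∀ x : Matrix.SpecialLinearGroup (Fin n) F,
      (∃ z : F, ((x ^ 2 : Matrix.SpecialLinearGroup (Fin n) F) : Matrix (Fin n) (Fin n) F) = z • (1 : Matrix (Fin n) (Fin n) F)) →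
      (∀ z : F, (x : Matrix (Fin n) (Fin n) F) ≠ z • (1 : Matrix (Fin n) (Fin n) F)) →
      ∃ P : Matrix.SpecialLinearGroup (Fin n) F, P⁻¹ * x * P ∈ ((Cfsg.Geo.similarityGroup f).comap (Matrix.SpecialLinearGroup.toGL : Matrix.SpecialLinearGroup (Fin n) F →* GL (Fin n) F))) ↔
    padicValNat 2 (q - 1) ≤ padicValNat 2 n := by
  classical
  subst hq
  haveI : NeZero n := ⟨by omega⟩
  haveI : Nontrivial (Fin n → F) := inferInstance
  haveI : Fact (Nat.Prime 2) := ⟨Nat.prime_two⟩
  let B : LinearMap.BilinForm F (Fin n → F) := LinearMap.mk₂ F f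
    hf.bilinear.add_left hf.bilinear.smul_left hf.bilinear.add_right hf.bilinear.smul_right
  have hA : B.IsAlt := fun v => hf.alternating v
  have hB : B.Nondegenerate :=
    ⟨fun v h => by
      by_contra h0
      obtain ⟨-, x, hx⟩ := hf.nondegenerate v h0
      exact hx (h x),
     fun v h => by
      by_contra h0
      obtain ⟨⟨x, hx⟩, -⟩ := hf.nondegenerate v h0
      exact hx (h x)⟩
  obtain ⟨m, hm⟩ := he
  have hfin : Module.finrank F (Fin n → F) = n := Module.finrank_fin_fun F
  obtain ⟨b, h1, h00, h11⟩ := Forms.Bases.exists_sympBasis B hA hB (m := m) (by rw [hfin]; omega)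
  obtain ⟨hq', hmod⟩ := models hA h1 h00 h11
  constructor
  · intro h
    by_contra hv
    push Not at hv
    have h2 : (2 : F) ≠ 0 := odd_iff_two_ne_zero.1 (by
      have h3 : 2 ∣ Fintype.card F - 1 := dvd_of_one_le_padicValNat (by omega)
      have := Fintype.one_lt_card (α := F)
      rw [Nat.odd_iff]; omega)
    obtain ⟨f₀, hf₀, hf1, v₁, hv₁, hv₁0⟩ := exists_rank_one (F := F) (show 2 ≤ n by omega)
    obtain ⟨c, hc⟩ := exists_neg_one_pow h2 (by omega : n ≠ 0) hv
    have hc0 : c ≠ 0 := fun e => by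
      rw [e, zero_pow (by omega)] at hc
      exact neg_ne_zero.2 one_ne_zero hc.symm
    let x : Matrix.SpecialLinearGroup (Fin n) F := ⟨c • LinearMap.toMatrix' f₀, by
      rw [Matrix.det_smul, LinearMap.det_toMatrix', Fintype.card_fin, hc, Inv.det_involution h2 hf₀, hf1]
      norm_num⟩
    have hxv : ∀ v, (x : Matrix (Fin n) (Fin n) F) *ᵥ v = c • f₀ v := fun v => by
      show (c • LinearMap.toMatrix' f₀) *ᵥ v = _
      rw [Matrix.smul_mulVec, LinearMap.toMatrix'_mulVec]
    obtain ⟨P, hP⟩ := h x ⟨c * c, Matrix.ext_of_mulVec_single fun i => by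
      rw [Matrix.SpecialLinearGroup.coe_pow, pow_two, ← Matrix.mulVec_mulVec, hxv, hxv, map_smul, hf₀,
        smul_smul, Matrix.smul_mulVec, Matrix.one_mulVec]⟩ (fun z hz => by
      have h1 := hxv v₁
      rw [hz, Matrix.smul_mulVec, Matrix.one_mulVec, hv₁] at h1
      have hzc : z = c := sub_eq_zero.1 ((smul_eq_zero.1 (by rw [sub_smul, h1, sub_self] :
        (z - c) • v₁ = 0)).resolve_right hv₁0)
      have hf' : f₀ = LinearMap.id := LinearMap.ext fun v => by
        have h2 := hxv v
        rw [hz, Matrix.smul_mulVec, Matrix.one_mulVec, hzc] at h2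
        exact (smul_right_injective _ hc0 h2).symm
      rw [hf', Inv.rk, sub_self, LinearMap.range_zero, finrank_bot] at hf1
      omega)
    let e : (Fin n → F) ≃ₗ[F] (Fin n → F) := LinearEquiv.ofLinear
      (Matrix.toLin' ((P⁻¹ : Matrix.SpecialLinearGroup (Fin n) F) : Matrix (Fin n) (Fin n) F))
      (Matrix.toLin' (P : Matrix (Fin n) (Fin n) F))
      (by rw [← Matrix.toLin'_mul, ← Matrix.SpecialLinearGroup.coe_mul, inv_mul_cancel,
        Matrix.SpecialLinearGroup.coe_one, Matrix.toLin'_one])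
      (by rw [← Matrix.toLin'_mul, ← Matrix.SpecialLinearGroup.coe_mul, mul_inv_cancel,
        Matrix.SpecialLinearGroup.coe_one, Matrix.toLin'_one])
    set g : (Fin n → F) →ₗ[F] (Fin n → F) := e.toLinearMap ∘ₗ f₀ ∘ₗ e.symm.toLinearMap with hgdef
    have hg : ∀ v, g (g v) = v := fun v => by simp [hgdef, hf₀]
    have hgr : Inv.rk g = 1 := (Inv.rk_conj e fun v => by simp [hgdef]).trans hf1
    have hgv : ∀ v, ((P⁻¹ * x * P : Matrix.SpecialLinearGroup (Fin n) F) : Matrix (Fin n) (Fin n) F) *ᵥ v = c • g v := fun v => by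
      rw [Matrix.SpecialLinearGroup.coe_mul, Matrix.SpecialLinearGroup.coe_mul, ← Matrix.mulVec_mulVec,
        ← Matrix.mulVec_mulVec, hxv, Matrix.mulVec_smul]
      rfl
    obtain ⟨κ, hκ⟩ := Subgroup.mem_comap.1 hP
    refine rank_one_not_simil h2 hA hB (by rw [hfin]; omega) hg hgr (μ := (κ : F) / (c * c)) fun u v => ?_
    have h4 : B ((((P⁻¹ * x * P : Matrix.SpecialLinearGroup (Fin n) F)) : Matrix (Fin n) (Fin n) F) *ᵥ u)
        ((((P⁻¹ * x * P : Matrix.SpecialLinearGroup (Fin n) F)) : Matrix (Fin n) (Fin n) F) *ᵥ v) = (κ : F) * B u v :=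
      hκ u v
    rw [hgv, hgv, map_smul, map_smul, LinearMap.smul_apply, smul_eq_mul, smul_eq_mul] at h4
    field_simp
    linear_combination h4
  · intro hv x ⟨z, hz⟩ _
    have hxx : ∀ v, Matrix.toLin' (x : Matrix (Fin n) (Fin n) F) (Matrix.toLin' (x : Matrix (Fin n) (Fin n) F) v) = z • v := fun v => by
      have := toLin'_pow_scalar hz v
      rwa [pow_two, Module.End.mul_apply] at this
    have hz0 : z ≠ 0 := by
      rintro rfl
      have hdet := congrArg Matrix.det hz
      rw [(x ^ 2).2, zero_smul, Matrix.det_zero] at hdet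
      exact one_ne_zero hdet
    obtain ⟨g, e, hedet, he', μ, hμ0, hμ⟩ : ∃ (g : (Fin n → F) →ₗ[F] (Fin n → F)) (e : (Fin n → F) ≃ₗ[F] (Fin n → F)),
        LinearEquiv.det e = 1 ∧ (∀ v, e (Matrix.toLin' (x : Matrix (Fin n) (Fin n) F) v) = g (e v)) ∧
        ∃ μ : F, μ ≠ 0 ∧ ∀ u v, B (g u) (g v) = μ * B u v := by
      by_cases hsqz : ∃ c : F, c * c = z
      · obtain ⟨c, hc⟩ := hsqz
        have hc0 : c ≠ 0 := fun e => hz0 (by rw [← hc, e, zero_mul])
        let f₀ : (Fin n → F) →ₗ[F] (Fin n → F) := c⁻¹ • Matrix.toLin' (x : Matrix (Fin n) (Fin n) F)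
        have hf₀ : ∀ v, f₀ (f₀ v) = v := fun v => by
          simp only [f₀, LinearMap.smul_apply, map_smul, hxx, smul_smul]
          rw [show c⁻¹ * (c⁻¹ * z) = 1 by rw [← hc]; field_simp, one_smul]
        obtain ⟨h, hh, hr, μ, hμ0, hμ⟩ := hmod (Inv.rk f₀) (by have := Inv.rk_le f₀; omega)
          (fun h2 => Or.inl (Nat.not_odd_iff_even.1 fun ho => neg_one_not_pow h2 hv (c := c) (by
            have hd : LinearMap.det (Matrix.toLin' (x : Matrix (Fin n) (Fin n) F)) = c ^ n * LinearMap.det f₀ := by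
              have h5 := LinearMap.det_smul c f₀
              rw [hfin] at h5
              rw [← h5]
              simp only [f₀, smul_inv_smul₀ hc0]
            rw [LinearMap.det_toLin', x.2, Inv.det_involution h2 hf₀, ho.neg_one_pow] at hd
            linear_combination hd)))
          (fun h2 => by have := (Inv.two_rk_le h2 hf₀).2; omega)
        obtain ⟨e, he', hedet⟩ := Inv.exists_conj hf₀ hh hr.symm 1
        refine ⟨c • h, e, hedet, fun v => ?_, c * c * μ, mul_ne_zero (mul_ne_zero hc0 hc0) hμ0, fun u v => ?_⟩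
        · rw [LinearMap.smul_apply, ← he', ← map_smul]
          simp only [f₀, LinearMap.smul_apply, smul_inv_smul₀ hc0]
        · simp only [LinearMap.smul_apply, map_smul, smul_eq_mul, hμ]; ring
      · push Not at hsqz
        obtain ⟨g, hg, μ, hμ0, hμ⟩ := hq' z hz0
        obtain ⟨e, he', hedet⟩ := Inv.exists_conj_quad (a := (0 : F)) (N := -z)
          (θ := Matrix.toLin' (x : Matrix (Fin n) (Fin n) F)) (θ' := g)
          (fun v => by rw [hxx]; simp) (fun v => by rw [hg]; simp)
          (fun d hd => hsqz d (by linear_combination hd)) 1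
        exact ⟨g, e, hedet, he', μ, hμ0, hμ⟩
    obtain ⟨P, hP⟩ := Inv.exists_SL e hedet x
    refine ⟨P, Subgroup.mem_comap.2 ⟨Units.mk0 μ hμ0, fun u v => ?_⟩⟩
    show B (((P⁻¹ * x * P : Matrix.SpecialLinearGroup (Fin n) F) : Matrix (Fin n) (Fin n) F) *ᵥ u)
        (((P⁻¹ * x * P : Matrix.SpecialLinearGroup (Fin n) F) : Matrix (Fin n) (Fin n) F) *ᵥ v) = μ * B u v
    rw [hP, hP, ← Matrix.toLin'_apply, ← Matrix.toLin'_apply, he', he', e.apply_symm_apply, e.apply_symm_apply, hμ]

end Cfsg.Agent.S5967
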