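import Cfsg.Statements.S5981
import Cfsg.Agent.Lib.Forms.Elusive.Linear
import Cfsg.Agent.Lib.Forms.Elusive.Involution
import Cfsg.Agent.Lib.Forms.Bases
import Cfsg.Agent.Lib.Classical.QuadClass
import Cfsg.Agent.Lib.Classical.OrthForms
import Cfsg.Agent.S0306
import Cfsg.Agent.S5968
import Cfsg.Agent.S5967

set_option autoImplicit false
open scoped MatrixGroups
open Cfsg

namespace Cfsg.Agent.S5981

open Cfsg.Agent.Forms.Elusive Cfsg.Agent.Classical Matrix Module Polynomial

variable {F : Type*} [Field F]

/-- the isometry groups of isometric forms have equal orders -/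
theorem natCard_iso {ι κ : Type} [Fintype ι] [DecidableEq ι] [Fintype κ] [DecidableEq κ]
    (P : (ι → F) → F) (R : (κ → F) → F) (e : (ι → F) ≃ₗ[F] (κ → F)) {c : F} (hc : c ≠ 0)
    (h : ∀ x, R (e x) = c * P x) :
    Nat.card (Cfsg.isometryGroup F P) = Nat.card (Cfsg.isometryGroup F R) := by
  let φ : GL ι F ≃* GL κ F :=
    Matrix.GeneralLinearGroup.toLin.trans ((LinearMap.GeneralLinearGroup.congrLinearEquiv e).trans
      Matrix.GeneralLinearGroup.toLin.symm)
  have hφ : ∀ (g : GL ι F) (v : ι → F), (φ g : Matrix κ κ F) *ᵥ e v = e ((g : Matrix ι ι F) *ᵥ v) := by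
    intro g v
    show (LinearMap.toMatrix' (e.toLinearMap ∘ₗ Matrix.toLin' (g : Matrix ι ι F) ∘ₗ e.symm.toLinearMap)) *ᵥ e v = _
    rw [LinearMap.toMatrix'_mulVec]
    simp
  refine Nat.card_congr (φ.toEquiv.subtypeEquiv fun g => ?_)
  show g ∈ Cfsg.isometryGroup F P ↔ φ g ∈ Cfsg.isometryGroup F R
  rw [Forms.QuadStd.mem_isometry_iff, Forms.QuadStd.mem_isometry_iff]
  refine ⟨fun hg w => ?_, fun hg v => ?_⟩
  · obtain ⟨v, rfl⟩ := e.surjective w
    rw [hφ, h, h, hg]
  · have h1 := hg (e v)
    rw [hφ, h, h] at h1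
    exact mul_left_cancel₀ hc h1

theorem odd_similar {V : Type _} [AddCommGroup V] [Module F V] [FiniteDimensional F V] [Finite F] {m : ℕ}
    (hV : finrank F V = 2 * m + 1) (Q : QuadraticForm F V) (hQ : (QuadraticMap.polarBilin Q).Nondegenerate) :
    ∃ (c : F) (e : V ≃ₗ[F] (Unit ⊕ (Fin m ⊕ Fin m) → F)), c ≠ 0 ∧ ∀ x, OrthForms.oddQ F m (e x) = c * Q x := by
  obtain ⟨c, hc, e, he⟩ := QuadClass.classify_odd m hV Q hQ
  let s : Unit ⊕ (Fin m ⊕ Fin m) → Fˣ := Sum.elim (fun _ => 1) (Sum.elim (fun _ => (Units.mk0 c hc)⁻¹) fun _ => 1)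
  let D : (Unit ⊕ (Fin m ⊕ Fin m) → F) ≃ₗ[F] (Unit ⊕ (Fin m ⊕ Fin m) → F) :=
    LinearEquiv.piCongrRight fun i => LinearEquiv.smulOfUnit (s i)
  have hD : ∀ (y : Unit ⊕ (Fin m ⊕ Fin m) → F) i, D y i = (s i : F) * y i := fun y i => rfl
  refine ⟨c⁻¹, e.trans D, inv_ne_zero hc, fun x => ?_⟩
  rw [← he x, mul_add, LinearEquiv.trans_apply, OrthForms.oddQ_apply, Forms.PlusStd.plusQ_apply,
    Forms.PlusStd.plusQ_apply]
  simp only [Cfsg.quadFormPlus, Finset.mul_sum]
  simp only [hD, s, Function.comp_apply, Sum.elim_inl, Sum.elim_inr, Units.val_one, one_mul, Units.val_inv_eq_inv_val,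
    Units.val_mk0, ← mul_assoc]
  rw [inv_mul_cancel₀ hc, one_mul]

variable [Fintype F]

theorem prod_split (q k : ℕ) : ∏ i ∈ Finset.range (2 * k), (q ^ (i + 1) - 1) =
    (∏ i ∈ Finset.range k, (q ^ (2 * i + 1) - 1)) * ∏ i ∈ Finset.range k, (q ^ (2 * (i + 1)) - 1) := by
  induction k with
  | zero => simp
  | succ k ih =>
    rw [show 2 * (k + 1) = 2 * k + 1 + 1 by ring, Finset.prod_range_succ, Finset.prod_range_succ, ih,
      Finset.prod_range_succ, Finset.prod_range_succ]
    ring_nf

/-- the arithmetic of the index -/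
theorem index_cases {n m S K' : ℕ} (hn : n = 2 * m ∨ n = 2 * m + 1) (hn0 : 0 < n) (H : Subgroup (GL (Fin n) F))
    (O : Subgroup (GL (Fin n) F)) (hOH : O ≤ H) (hO2 : ∀ g ∈ O, (g : Matrix (Fin n) (Fin n) F).det ^ 2 = 1)
    (hO : Nat.card O * S = 2 * Fintype.card F ^ K' * ∏ i ∈ Finset.range m, (Fintype.card F ^ (2 * (i + 1)) - 1))
    {r : ℕ} [hr : Fact r.Prime] (hr2 : r ≠ 2) (hrq : ¬ r ∣ Fintype.card F)
    (hd : r ∣ H.relIndex (Cfsg.Geo.specialLinear (Fin n) F)) :
    r ∣ S ∨ ∃ i, 2 * i + 1 ≤ n ∧ r ∣ Fintype.card F ^ (2 * i + 1) - 1 := by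
  classical
  set q := Fintype.card F with hq
  set T := Cfsg.Geo.specialLinear (Fin n) F
  haveI : Nonempty (Fin n) := ⟨⟨0, hn0⟩⟩
  have h1 : Nat.card O ∣ 2 * Nat.card ↥(H ⊓ T) := by
    have e1 := Subgroup.card_mul_index (T.subgroupOf O)
    have e2 : Nat.card (T.subgroupOf O) ∣ Nat.card ↥(H ⊓ T) := by
      rw [← Subgroup.inf_subgroupOf_right, Nat.card_congr (Subgroup.subgroupOfEquivOfLe (inf_le_right : T ⊓ O ≤ O)).toEquiv]
      exact Subgroup.card_dvd_of_le (le_inf ((inf_le_right).trans hOH) inf_le_left)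
    have e3 : (T.subgroupOf O).index ∣ 2 := by
      have : T.subgroupOf O = ((Matrix.GeneralLinearGroup.det : GL (Fin n) F →* Fˣ).comp O.subtype).ker := rfl
      rw [this, Subgroup.index_ker]
      refine (Subgroup.card_dvd_of_le (K := rootsOfUnity 2 F) ?_).trans ?_
      · rintro _ ⟨g, rfl⟩
        rw [mem_rootsOfUnity']
        exact hO2 g g.2
      · rw [Linear.natCard_rootsOfUnity_eq_gcd]; exact Nat.gcd_dvd_left _ _
    rw [← e1, mul_comm 2]
    exact mul_dvd_mul e2 e3
  have hT : Nat.card (GL (Fin n) F) = (q - 1) * Nat.card T := by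
    rw [← T.index_mul_card]
    congr 1
    show (Matrix.GeneralLinearGroup.det : GL (Fin n) F →* Fˣ).ker.index = _
    rw [Subgroup.index_ker, MonoidHom.range_eq_top.2 Linear.det_surjective_of_nonempty, Subgroup.card_top,
      Linear.natCard_units_eq]
  have h2 : H.relIndex T * Nat.card ↥(H ⊓ T) = Nat.card T := by
    rw [← Subgroup.inf_relIndex_right, mul_comm, ← Subgroup.relIndex_bot_left, ← Subgroup.relIndex_bot_left,
      Subgroup.relIndex_mul_relIndex ⊥ (H ⊓ T) T bot_le inf_le_right]
  obtain ⟨K, hK⟩ : ∃ K, Nat.card (GL (Fin n) F) = q ^ K * ∏ i ∈ Finset.range n, (q ^ (i + 1) - 1) := by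
    refine ⟨∑ i : Fin n, (i : ℕ), ?_⟩
    rw [Matrix.card_GL_field, ← Finset.prod_range_reflect (fun i => q ^ (i + 1) - 1),
      ← Fin.prod_univ_eq_prod_range (fun j => q ^ (n - 1 - j + 1) - 1), ← Finset.prod_pow_eq_pow_sum,
      ← Finset.prod_mul_distrib]
    refine Finset.prod_congr rfl fun i _ => ?_
    rw [show n - 1 - (i : ℕ) + 1 = n - i by omega, Nat.mul_sub, ← pow_add, Nat.add_sub_cancel' i.2.le, mul_one]
  set E := ∏ i ∈ Finset.range m, (q ^ (2 * (i + 1)) - 1) with hE
  -- the odd exponents
  obtain ⟨R, hR, hRdiv⟩ : ∃ R, ∏ i ∈ Finset.range n, (q ^ (i + 1) - 1) = (q - 1) * R * E ∧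
      (r ∣ R → ∃ i, 2 * i + 1 ≤ n ∧ r ∣ q ^ (2 * i + 1) - 1) := by
    rcases Nat.eq_zero_or_pos m with rfl | hm
    · have : n = 1 := by omega
      subst this
      exact ⟨1, by simp [hE], fun h => absurd (Nat.dvd_one.1 h) hr.out.ne_one⟩
    obtain ⟨m', rfl⟩ : ∃ m', m = m' + 1 := ⟨m - 1, by omega⟩
    have hhead : ∏ i ∈ Finset.range (m' + 1), (q ^ (2 * i + 1) - 1) =
        (q - 1) * ∏ i ∈ Finset.range m', (q ^ (2 * i + 3) - 1) := by
      rw [Finset.prod_range_succ', mul_comm]; norm_num [mul_add]
    rcases hn with rfl | rfl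
    · refine ⟨∏ i ∈ Finset.range m', (q ^ (2 * i + 3) - 1), by rw [prod_split, hhead], fun h => ?_⟩
      obtain ⟨j, hj, hjr⟩ := (hr.out.prime.dvd_finsetProd_iff _).1 h
      exact ⟨j + 1, by have := Finset.mem_range.1 hj; omega, hjr⟩
    · refine ⟨(∏ i ∈ Finset.range m', (q ^ (2 * i + 3) - 1)) * (q ^ (2 * (m' + 1) + 1) - 1), by
        rw [Finset.prod_range_succ, prod_split, hhead]; ring, fun h => ?_⟩
      rcases hr.out.dvd_mul.1 h with h | h
      · obtain ⟨j, hj, hjr⟩ := (hr.out.prime.dvd_finsetProd_iff _).1 h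
        exact ⟨j + 1, by have := Finset.mem_range.1 hj; omega, hjr⟩
      · exact ⟨m' + 1, le_rfl, h⟩
  have hq1 : 0 < q - 1 := by have := Fintype.one_lt_card (α := F); omega
  have h3 : (q - 1) * (H.relIndex T * (Nat.card O * S)) ∣ (q - 1) * (2 * S * (q ^ K * R * E)) := by
    have : H.relIndex T * Nat.card O ∣ 2 * Nat.card T := by
      rw [← h2, mul_left_comm]; exact mul_dvd_mul_left _ h1
    have h4 : (q - 1) * (H.relIndex T * Nat.card O) * S ∣ 2 * Nat.card (GL (Fin n) F) * S := by
      refine mul_dvd_mul_right ?_ S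
      rw [hT, mul_left_comm 2]
      exact mul_dvd_mul_left _ this
    rw [hK, hR] at h4
    exact (dvd_of_eq (by ring)).trans (h4.trans (dvd_of_eq (by ring)))
  have h5 := Nat.dvd_of_mul_dvd_mul_left hq1 h3
  rw [hO] at h5
  have hEpos : 0 < E := Finset.prod_pos fun i _ => Nat.sub_pos_of_lt
    (Nat.one_lt_pow (by omega) Fintype.one_lt_card)
  have h6 : H.relIndex T * q ^ K' ∣ S * (q ^ K * R) := by
    refine Nat.dvd_of_mul_dvd_mul_left (Nat.mul_pos two_pos hEpos) ?_
    exact (dvd_of_eq (by ring)).trans (h5.trans (dvd_of_eq (by ring)))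
  rcases hr.out.dvd_mul.1 ((hd.mul_right _).trans h6) with h7 | h7
  · exact Or.inl h7
  rcases hr.out.dvd_mul.1 h7 with h7 | h7
  · exact absurd (hr.out.dvd_of_dvd_pow h7) hrq
  · exact Or.inr (hRdiv h7)



/-- the iso classes: the order of `q` modulo `r` and, if it is even, a mismatch of type -/
theorem order_cases (h2 : (2 : F) ≠ 0) (p : ℕ) [Fact p.Prime] [CharP F p] {n : ℕ} (hn : 3 ≤ n)
    (Q : QuadraticForm F (Fin n → F)) (hQ : (QuadraticMap.polarBilin Q).Nondegenerate)
    (H : Subgroup (GL (Fin n) F)) (hH : ∀ g : GL (Fin n) F, (∀ v, Q ((g : Matrix (Fin n) (Fin n) F) *ᵥ v) = Q v) → g ∈ H)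
    {r : ℕ} [hr : Fact r.Prime] (hr2 : r ≠ 2) (hrp : r ≠ p)
    (hd : r ∣ H.relIndex (Cfsg.Geo.specialLinear (Fin n) F)) :
    let i := orderOf ((Fintype.card F : ℕ) : ZMod r)
    (Odd i ∧ i ≤ n) ∨
      (n % i = 0 ∧ 1 < i ∧ ¬ r ∣ Nat.card {v : Fin n → F // Q v = 0} - 1) := by
  classical
  intro i
  set q := Fintype.card F with hq
  have hrq : ¬ r ∣ q := fun h => hrp ((charP_eq_of_cast_eq_zero (F := F) p r).1 ((ZMod.natCast_eq_zero_iff _ _).2 h))
  set O := Cfsg.isometryGroup F (Q : (Fin n → F) → F) with hOdef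
  have hmem : ∀ g : GL (Fin n) F, g ∈ O ↔ ∀ v, Q ((g : Matrix (Fin n) (Fin n) F) *ᵥ v) = Q v := fun g =>
    Forms.QuadStd.mem_isometry_iff _ g
  have hOH : O ≤ H := fun g hg => hH g ((hmem g).1 hg)
  have hO2 : ∀ g ∈ O, (g : Matrix (Fin n) (Fin n) F).det ^ 2 = 1 := fun g hg => by
    have hiso : ∀ u v, QuadraticMap.polarBilin Q ((g : Matrix (Fin n) (Fin n) F) *ᵥ u)
        ((g : Matrix (Fin n) (Fin n) F) *ᵥ v) = (1 : F) * QuadraticMap.polarBilin Q u v := fun u v => by
      rw [one_mul, QuadraticMap.polarBilin_apply_apply, QuadraticMap.polarBilin_apply_apply, QuadraticMap.polar,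
        QuadraticMap.polar, ← Matrix.mulVec_add, (hmem g).1 hg, (hmem g).1 hg, (hmem g).1 hg]
    obtain ⟨u, hu⟩ := S5968.simil hQ g hiso
    have h3 := congrArg Matrix.det hu
    rw [one_smul, Matrix.det_mul, Matrix.det_mul, Matrix.det_transpose, mul_right_comm,
      ← Matrix.det_mul, ← Units.val_mul, inv_mul_cancel, Units.val_one, Matrix.det_one, one_mul] at h3
    calc (g : Matrix (Fin n) (Fin n) F).det ^ 2
        = (g : Matrix (Fin n) (Fin n) F).det * ((g⁻¹ : GL (Fin n) F) : Matrix (Fin n) (Fin n) F).det := by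
          rw [h3, pow_two]
      _ = 1 := by rw [← Matrix.det_mul, ← Units.val_mul, mul_inv_cancel, Units.val_one, Matrix.det_one]
  have hord : ∀ e : ℕ, r ∣ q ^ e - 1 → i ∣ e := fun e he => orderOf_dvd_of_pow_eq_one (by
    rw [← Nat.cast_pow, ← Nat.cast_one (R := ZMod r), ZMod.natCast_eq_natCast_iff]
    exact ((Nat.modEq_iff_dvd' (Nat.one_le_pow _ _ Fintype.card_pos)).2 he).symm)
  have hodd : ∀ j, 2 * j + 1 ≤ n → r ∣ q ^ (2 * j + 1) - 1 → Odd i ∧ i ≤ n := fun j hj hjr => by
    have := hord _ hjr
    exact ⟨Odd.of_dvd_nat ⟨j, rfl⟩ this, (Nat.le_of_dvd (by omega) this).trans hj⟩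
  rcases Nat.even_or_odd n with ⟨m, hm⟩ | ⟨m, hm⟩
  · obtain ⟨k, hk⟩ : ∃ k, m = k + 1 := ⟨m - 1, by omega⟩
    have hfin : finrank F (Fin n → F) = 2 * m := by rw [Module.finrank_fin_fun]; omega
    have key : ∀ S : ℕ, (∃ K', Nat.card O * S = 2 * q ^ K' * ∏ i ∈ Finset.range m, (q ^ (2 * (i + 1)) - 1)) →
        (r ∣ S → (Odd i ∧ i ≤ n) ∨ (n % i = 0 ∧ 1 < i ∧ ¬ r ∣ Nat.card {v : Fin n → F // Q v = 0} - 1)) →
        (Odd i ∧ i ≤ n) ∨ (n % i = 0 ∧ 1 < i ∧ ¬ r ∣ Nat.card {v : Fin n → F // Q v = 0} - 1) := by
      rintro S ⟨K', hS⟩ hcase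
      rcases index_cases (Or.inl (by omega : n = 2 * m)) (by omega) H O hOH hO2 hS hr2 hrq hd with h | ⟨j, hj, hjr⟩
      · exact hcase h
      · exact Or.inl (hodd j hj hjr)
    -- the zeros
    have hz : Nat.card {v : Fin n → F // Q v = 0} = OrthCount.zeros (Q : (Fin n → F) → F) := rfl
    have hqq : ∀ e, q ^ (2 * e) - 1 = (q ^ e - 1) * (q ^ e + 1) := fun e => by
      rw [mul_comm 2, pow_mul, mul_comm (q ^ e - 1)]; simpa using Nat.sq_sub_sq (q ^ e) 1
    have hzpos : 1 ≤ OrthCount.zeros (Q : (Fin n → F) → F) :=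
      Nat.card_pos_iff.2 ⟨⟨⟨0, QuadraticMap.map_zero Q⟩⟩, inferInstance⟩
    have h2r : 2 < r := lt_of_le_of_ne hr.out.two_le (Ne.symm hr2)
    rcases QuadClass.classify_even m hfin Q hQ with ⟨e, he⟩ | ⟨hm1, ζ, e, hζ, he⟩
    · refine key (q ^ m + 1) ⟨(k + 1) * k, ?_⟩ fun hS => ?_
      · rw [hOdef, natCard_iso (Q : (Fin n → F) → F) _ e one_ne_zero (fun x => by rw [one_mul]; exact he x)]
        subst hk
        rw [OrthForms.natCard_O_plus rfl k, Finset.prod_range_succ, hqq, ← hq]; ring
      · by_cases hio : Odd i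
        · refine Or.inl ⟨hio, Nat.le_of_dvd (by omega) (hord n ?_)⟩
          rw [show n = 2 * m by omega, hqq]; exact dvd_mul_of_dvd_right hS _
        have hm' : ((q : ZMod r)) ^ m = -1 := by
          rw [eq_neg_iff_add_eq_zero, ← Nat.cast_pow, ← Nat.cast_one (R := ZMod r), ← Nat.cast_add,
            ZMod.natCast_eq_zero_iff]
          exact hS
        refine Or.inr ⟨Nat.mod_eq_zero_of_dvd (hord n ?_), ?_, fun hdz => hio ?_⟩
        · rw [show n = 2 * m by omega, hqq]; exact dvd_mul_of_dvd_right hS _
        · by_contra h1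
          have : i = 0 ∨ i = 1 := by omega
          rcases this with h0 | h0
          · exact hio (absurd (hord n (by rw [show n = 2 * m by omega, hqq]; exact dvd_mul_of_dvd_right hS _))
              (by rw [h0, zero_dvd_iff]; omega))
          · exact hio (h0 ▸ odd_one)
        rw [hz] at hdz
        rw [QuadClass.zeros_eq _ _ e he] at hdz hzpos
        have hzc : ((OrthCount.zeros ⇑(Forms.PlusStd.plusQ F m) : ℕ) : ZMod r) = 1 := by
          rw [← sub_eq_zero, ← Nat.cast_one (R := ZMod r), ← Nat.cast_sub hzpos, ZMod.natCast_eq_zero_iff]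
          exact hdz
        have hc := congrArg (fun z : ℤ => (z : ZMod r)) (OrthForms.cast_zeros_plus (F := F) rfl m)
        push_cast at hc
        rw [← hq, hzc, mul_one, mul_comm 2 m, pow_mul, pow_succ _ m, hm'] at hc
        have hq1 : (q : ZMod r) = 1 := by
          have h22 : (2 : ZMod r) ≠ 0 := fun e0 => by
            have := Nat.le_of_dvd two_pos ((ZMod.natCast_eq_zero_iff 2 r).1 (by exact_mod_cast e0))
            omega
          refine mul_left_cancel₀ h22 ?_
          linear_combination hc
        show Odd (orderOf (q : ZMod r))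
        rw [hq1, orderOf_one]; exact odd_one
    · have hab := QuadClass.aniso_one hζ
      have h0 : Nat.card (Cfsg.isometryGroup F ⇑(OrthForms.minQ F 0 1 ζ)) = 2 * (q + 1) := by
        rw [OrthForms.minQ_eq]
        obtain ⟨e⟩ := S0306.result (F := F) hq.symm 1 ζ hab
        rw [Nat.card_congr e.toEquiv, DihedralGroup.nat_card]
      refine key (q ^ m - 1) ⟨(k + 1) * k, ?_⟩ fun hS => ?_
      · subst hk
        rw [hOdef, natCard_iso (Q : (Fin n → F) → F) _ e one_ne_zero (fun x => by rw [one_mul]; exact he x),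
          show Nat.card (Cfsg.isometryGroup F ⇑(OrthForms.minQ F (k + 1 - 1) 1 ζ)) = _ from OrthForms.natCard_O_min rfl hab h0 k, Finset.prod_range_succ, hqq, ← hq]
        ring
      · by_cases hio : Odd i
        · exact Or.inl ⟨hio, (Nat.le_of_dvd (by omega) (hord m hS)).trans (by omega)⟩
        have hm' : ((q : ZMod r)) ^ m = 1 := by
          rw [← sub_eq_zero, ← Nat.cast_pow, ← Nat.cast_one (R := ZMod r),
            ← Nat.cast_sub (Nat.one_le_pow _ _ Fintype.card_pos), ZMod.natCast_eq_zero_iff]
          exact hS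
        refine Or.inr ⟨Nat.mod_eq_zero_of_dvd ((hord m hS).trans ⟨2, by omega⟩), ?_, fun hdz => hio ?_⟩
        · by_contra h1
          have : i = 0 ∨ i = 1 := by omega
          rcases this with h0 | h0
          · exact hio (absurd (hord m hS) (by rw [h0, zero_dvd_iff]; omega))
          · exact hio (h0 ▸ odd_one)
        rw [hz] at hdz
        subst hk
        have hze : OrthCount.zeros (Q : (Fin n → F) → F) = OrthCount.zeros ⇑(OrthForms.minQ F k 1 ζ) :=
          QuadClass.zeros_eq _ _ e he
        rw [hze] at hdz hzpos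
        have hzc : ((OrthCount.zeros ⇑(OrthForms.minQ F k 1 ζ) : ℕ) : ZMod r) = 1 := by
          rw [← sub_eq_zero, ← Nat.cast_one (R := ZMod r), ← Nat.cast_sub hzpos, ZMod.natCast_eq_zero_iff]
          exact hdz
        have hc := congrArg (fun z : ℤ => (z : ZMod r)) (OrthForms.cast_zeros_min (F := F) rfl k hab)
        push_cast at hc
        rw [← hq, hzc, mul_one, show 2 * k + 2 = (k + 1) * 2 by ring, pow_mul, show k + 2 = k + 1 + 1 by ring,
          pow_succ _ (k + 1), hm'] at hc
        have hq1 : (q : ZMod r) = 1 := by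
          have h22 : (2 : ZMod r) ≠ 0 := fun e0 => by
            have := Nat.le_of_dvd two_pos ((ZMod.natCast_eq_zero_iff 2 r).1 (by exact_mod_cast e0))
            omega
          refine mul_left_cancel₀ h22 ?_
          linear_combination hc
        show Odd (orderOf (q : ZMod r))
        rw [hq1, orderOf_one]; exact odd_one
  · refine Or.inl ?_
    obtain ⟨c, e, hc, he⟩ := odd_similar (V := Fin n → F) (by rw [Module.finrank_fin_fun]; omega) Q hQ
    have hS : Nat.card O * 1 = 2 * q ^ (m ^ 2) * ∏ i ∈ Finset.range m, (q ^ (2 * (i + 1)) - 1) := by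
      rw [mul_one, hOdef, natCard_iso (Q : (Fin n → F) → F) _ e hc he, OrthForms.natCard_O_odd rfl h2 m]
    rcases index_cases (Or.inr (by omega : n = 2 * m + 1)) (by omega) H O hOH hO2 hS hr2 hrq hd with h | ⟨j, hj, hjr⟩
    · exact absurd (Nat.dvd_one.1 h) hr.out.ne_one
    · exact hodd j hj hjr


theorem five : ∀ a b c d : ZMod 5, ∃ σ ∈ ([![0, 2, 1, 4, 3], ![0, 3, 4, 1, 2], ![0, 4, 3, 2, 1], ![2, 1, 0, 4, 3],
    ![3, 1, 4, 0, 2], ![4, 1, 3, 2, 0], ![1, 0, 2, 4, 3], ![3, 4, 2, 0, 1], ![4, 3, 2, 1, 0], ![1, 0, 4, 3, 2],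
    ![2, 4, 0, 3, 1], ![4, 2, 1, 3, 0], ![1, 0, 3, 2, 4], ![2, 3, 0, 1, 4], ![3, 2, 1, 0, 4]] : List (Fin 5 → Fin 5)),
    ∀ j : Fin 5, (![a, b, c, d, -(a + b + c + d)] : Fin 5 → ZMod 5) j + ![a, b, c, d, -(a + b + c + d)] (σ j) =
      ![a, b, c, d, -(a + b + c + d)] 0 + ![a, b, c, d, -(a + b + c + d)] (σ 0) := by
  decide +kernel

theorem five_invol : ∀ σ ∈ ([![0, 2, 1, 4, 3], ![0, 3, 4, 1, 2], ![0, 4, 3, 2, 1], ![2, 1, 0, 4, 3],
    ![3, 1, 4, 0, 2], ![4, 1, 3, 2, 0], ![1, 0, 2, 4, 3], ![3, 4, 2, 0, 1], ![4, 3, 2, 1, 0], ![1, 0, 4, 3, 2],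
    ![2, 4, 0, 3, 1], ![4, 2, 1, 3, 0], ![1, 0, 3, 2, 4], ![2, 3, 0, 1, 4], ![3, 2, 1, 0, 4]] : List (Fin 5 → Fin 5)),
    ∀ j, σ (σ j) = j := by
  decide +kernel

/-- three or five roots of unity with product one are symmetric about a centre -/
theorem symmetric {r : ℕ} [hr : Fact r.Prime] (h35 : r = 3 ∨ r = 5) {ω : F} (hω : IsPrimitiveRoot ω r)
    (d : Fin r → F) (hd : ∀ j, d j ^ r = 1) (hprod : ∏ j, d j = 1) :
    ∃ (σ : Fin r → Fin r) (μ : F), (∀ j, σ (σ j) = j) ∧ μ ≠ 0 ∧ ∀ j, d j * d (σ j) = μ := by
  have hd0 : ∀ j, d j ≠ 0 := fun j e => by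
    have := hd j; rw [e, zero_pow hr.out.ne_zero] at this; exact zero_ne_one this
  rcases h35 with rfl | rfl
  · rw [Fin.prod_univ_three] at hprod
    refine ⟨![0, 2, 1], d 0 * d 0, by decide, mul_ne_zero (hd0 0) (hd0 0), ?_⟩
    have h3 := hd 0
    have key : d 1 * d 2 = d 0 * d 0 := mul_left_cancel₀ (hd0 0) (by linear_combination hprod - h3)
    intro j
    fin_cases j <;> simp [key, mul_comm (d 2)]
  · choose e he1 he2 using fun j => hω.eq_pow_of_pow_eq_one (hd j)
    have hsum : ((e 0 : ℕ) : ZMod 5) + e 1 + e 2 + e 3 + e 4 = 0 := by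
      rw [← Nat.cast_add, ← Nat.cast_add, ← Nat.cast_add, ← Nat.cast_add, ZMod.natCast_eq_zero_iff,
        ← hω.pow_eq_one_iff_dvd, pow_add, pow_add, pow_add, pow_add, he2, he2, he2, he2, he2, ← hprod,
        Fin.prod_univ_five]
    obtain ⟨σ, hσL, hσ⟩ := five (e 0 : ZMod 5) (e 1) (e 2) (e 3)
    have hvec : ∀ j : Fin 5, (![(e 0 : ZMod 5), e 1, e 2, e 3, -((e 0 : ZMod 5) + e 1 + e 2 + e 3)] : Fin 5 → ZMod 5) j =
        (e j : ZMod 5) := by
      intro j
      fin_cases j <;> first | rfl | (show -_ = ((e 4 : ℕ) : ZMod 5); linear_combination -hsum)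
    refine ⟨σ, d 0 * d (σ 0), five_invol σ hσL, mul_ne_zero (hd0 0) (hd0 _), fun j => ?_⟩
    have h1 := hσ j
    simp only [hvec] at h1
    rw [← he2 j, ← he2 (σ j), ← he2 0, ← he2 (σ 0), ← pow_add, ← pow_add]
    rw [← Nat.cast_add, ← Nat.cast_add, ZMod.natCast_eq_natCast_iff'] at h1
    rw [← Nat.mod_add_div (e j + e (σ j)) 5, ← Nat.mod_add_div (e 0 + e (σ 0)) 5, h1, pow_add, pow_add, pow_mul,
      pow_mul, hω.pow_eq_one, one_pow, one_pow]

/-- diagonalising an element of order `r` over a field with the `r`-th roots of one -/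
theorem exists_eigen {V : Type*} [AddCommGroup V] [Module F V] [FiniteDimensional F V] {r : ℕ} [hr : Fact r.Prime]
    (hr0 : (r : F) ≠ 0) {ω : F} (hω : IsPrimitiveRoot ω r) {f : V →ₗ[F] V} (hf : ∀ v, (f ^ r) v = v) :
    ∃ (b : Basis (Fin (finrank F V)) F V) (d : Fin (finrank F V) → F),
      (∀ j, d j ^ r = 1) ∧ ∀ j, f (b j) = d j • b j := by
  classical
  let E : ℕ → V → V := fun j v => (r : F)⁻¹ • ∑ k ∈ Finset.range r, ((ω ^ j)⁻¹) ^ k • (f ^ k) v
  have hω0 : ω ≠ 0 := hω.ne_zero hr.out.ne_zero
  have hE : ∀ j v, f (E j v) = ω ^ j • E j v := by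
    intro j v
    simp only [E, map_smul, map_sum, ← Module.End.mul_apply, ← pow_succ']
    rw [smul_comm (ω ^ j), Finset.smul_sum (r := ω ^ j)]
    congr 1
    have e1 : ∀ k, ω ^ j • ((ω ^ j)⁻¹ ^ (k + 1) • (f ^ (k + 1)) v) = (ω ^ j)⁻¹ ^ k • (f ^ (k + 1)) v := fun k => by
      rw [smul_smul, pow_succ', ← mul_assoc, mul_inv_cancel₀ (pow_ne_zero _ hω0), one_mul]
    obtain ⟨r', rfl⟩ : ∃ r', r = r' + 1 := ⟨r - 1, by have := hr.out.pos; omega⟩
    rw [Finset.sum_range_succ, Finset.sum_range_succ' (fun k => ω ^ j • _)]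
    simp only [e1, pow_zero, one_smul]
    congr 1
    rw [hf]
    show ((ω ^ j)⁻¹) ^ r' • v = ω ^ j • v
    congr 1
    refine mul_left_cancel₀ (pow_ne_zero r' (pow_ne_zero j hω0)) ?_
    rw [← mul_pow, mul_inv_cancel₀ (pow_ne_zero _ hω0), one_pow, ← pow_succ, ← pow_mul, mul_comm, pow_mul,
      hω.pow_eq_one, one_pow]
  set S : Set V := {v | ∃ d : F, d ^ r = 1 ∧ f v = d • v} with hS
  have hspan : ⊤ ≤ Submodule.span F S := by
    intro v _
    have hv : v = ∑ j ∈ Finset.range r, E j v := by
      simp only [E, ← Finset.smul_sum]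
      rw [Finset.sum_comm, Finset.sum_eq_single 0]
      · simp [← Nat.cast_smul_eq_nsmul F, smul_smul, inv_mul_cancel₀ hr0]
      · intro k hk hk0
        rw [← Finset.sum_smul]
        have : ∑ j ∈ Finset.range r, ((ω ^ j)⁻¹) ^ k = 0 := by
          have hne : (ω ^ k)⁻¹ ≠ 1 := fun e => hω.pow_ne_one_of_pos_of_lt hk0 (Finset.mem_range.1 hk) (inv_eq_one.1 e)
          rw [show ∑ j ∈ Finset.range r, ((ω ^ j)⁻¹) ^ k = ∑ j ∈ Finset.range r, ((ω ^ k)⁻¹) ^ j from
            Finset.sum_congr rfl fun j _ => by rw [← inv_pow, ← inv_pow, ← pow_mul, ← pow_mul, mul_comm],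
            geom_sum_eq hne, inv_pow, ← pow_mul, mul_comm, pow_mul, hω.pow_eq_one, one_pow, inv_one, sub_self,
            zero_div]
        rw [this, zero_smul]
      · simp [hr.out.ne_zero]
    rw [hv]
    exact Submodule.sum_mem _ fun j _ => Submodule.subset_span ⟨ω ^ j, by
      rw [← pow_mul, mul_comm, pow_mul, hω.pow_eq_one, one_pow], hE j v⟩
  obtain ⟨T, hTS, hTspan, hTli⟩ := exists_linearIndependent F S
  let b₀ : Basis T F V := Basis.mk hTli (by rw [Subtype.range_coe, hTspan]; exact hspan)
  haveI : Fintype T := FiniteDimensional.fintypeBasisIndex b₀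
  let σ : T ≃ Fin (finrank F V) := Fintype.equivFinOfCardEq (Module.finrank_eq_card_basis b₀).symm
  choose d hd1 hd2 using fun j => hTS ((σ.symm j).2)
  exact ⟨b₀.reindex σ, d, hd1, fun j => by rw [Basis.reindex_apply, Basis.mk_apply]; exact hd2 j⟩

omit [Fintype F] in
theorem quad_of_polar (h2 : (2 : F) ≠ 0) {n : ℕ} (Q : QuadraticForm F (Fin n → F)) (g : (Fin n → F) →ₗ[F] (Fin n → F))
    {μ : F} (h : ∀ u v, QuadraticMap.polarBilin Q (g u) (g v) = μ * QuadraticMap.polarBilin Q u v) (v : Fin n → F) :
    Q (g v) = μ * Q v := by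
  have h1 := h v v
  rw [QuadClass.pol_self, QuadClass.pol_self] at h1
  exact mul_left_cancel₀ h2 (by linear_combination h1)

omit [Fintype F] in
theorem polar_of_quad {n : ℕ} (Q : QuadraticForm F (Fin n → F)) (g : GL (Fin n) F) {μ : F}
    (h : ∀ v, Q ((g : Matrix (Fin n) (Fin n) F) *ᵥ v) = μ * Q v) (u v : Fin n → F) :
    QuadraticMap.polarBilin Q ((g : Matrix (Fin n) (Fin n) F) *ᵥ u) ((g : Matrix (Fin n) (Fin n) F) *ᵥ v) =
      μ * QuadraticMap.polarBilin Q u v := by
  rw [QuadraticMap.polarBilin_apply_apply, QuadraticMap.polarBilin_apply_apply, QuadraticMap.polar,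
    QuadraticMap.polar, ← Matrix.mulVec_add, h, h, h]
  ring

omit [Fintype F] in
/-- multiplicities of the eigenvalues of a diagonal similitude -/
theorem diag_test {n : ℕ} {B : LinearMap.BilinForm F (Fin n → F)} (hB : B.Nondegenerate) (d : Fin n → F)
    (hd : ∀ l, d l ≠ 0) (P g : GL (Fin n) F) {μ : F}
    (hg : (g : Matrix (Fin n) (Fin n) F) =
      ((P⁻¹ : GL (Fin n) F) : Matrix (Fin n) (Fin n) F) * Matrix.diagonal d * (P : Matrix (Fin n) (Fin n) F))
    (h : ∀ u v, B ((g : Matrix (Fin n) (Fin n) F) *ᵥ u) ((g : Matrix (Fin n) (Fin n) F) *ᵥ v) = μ * B u v)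
    [DecidableEq F] (t : F) :
    (Finset.univ.filter fun l => d l = t).card = (Finset.univ.filter fun l => μ = t * d l).card := by
  classical
  have hinv : ((g⁻¹ : GL (Fin n) F) : Matrix (Fin n) (Fin n) F) =
      ((P⁻¹ : GL (Fin n) F) : Matrix (Fin n) (Fin n) F) * Matrix.diagonal (fun l => (d l)⁻¹) *
        (P : Matrix (Fin n) (Fin n) F) := by
    refine Units.inv_eq_of_mul_eq_one_right ?_
    rw [hg]
    calc _ = ((P⁻¹ : GL (Fin n) F) : Matrix (Fin n) (Fin n) F) *
          (Matrix.diagonal d * ((P : Matrix (Fin n) (Fin n) F) * ((P⁻¹ : GL (Fin n) F) : Matrix (Fin n) (Fin n) F)) *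
            Matrix.diagonal (fun l => (d l)⁻¹)) * (P : Matrix (Fin n) (Fin n) F) := by simp only [mul_assoc]
      _ = 1 := by
        rw [← Units.val_mul, mul_inv_cancel, Units.val_one, mul_one, Matrix.diagonal_mul_diagonal,
          show (fun l => d l * (d l)⁻¹) = fun _ => (1 : F) from funext fun l => mul_inv_cancel₀ (hd l),
          Matrix.diagonal_one, mul_one, ← Units.val_mul, inv_mul_cancel, Units.val_one]
  have h3 := S5968.rank_simil hB g h t
  rw [hinv, ← smul_mul_assoc, ← mul_smul_comm, S5979.rank_conj, hg, S5979.rank_conj, ← Matrix.diagonal_smul,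
    Matrix.smul_one_eq_diagonal, Matrix.diagonal_sub, Matrix.diagonal_sub, Matrix.rank_diagonal,
    Matrix.rank_diagonal, Fintype.card_subtype, Fintype.card_subtype] at h3
  have h1 := Finset.card_filter_add_card_filter_not (s := (Finset.univ : Finset (Fin n))) (fun l => d l = t)
  have h2 := Finset.card_filter_add_card_filter_not (s := (Finset.univ : Finset (Fin n)))
    (fun l => μ * (d l)⁻¹ = t)
  simp only [sub_ne_zero, Pi.smul_apply, smul_eq_mul] at h3
  rw [show (Finset.univ.filter fun l => μ = t * d l) = Finset.univ.filter fun l => μ * (d l)⁻¹ = t from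
    Finset.filter_congr fun l _ => (mul_inv_eq_iff_eq_mul₀ (hd l)).symm]
  simp only [ne_eq] at h3
  omega

/-- an element of order `r` with a diagonalisation symmetric about a centre is conjugate to a similitude -/
theorem exists_into {n m : ℕ} (hnm : n = 2 * m + 1) (h2 : (2 : F) ≠ 0) (Q : QuadraticForm F (Fin n → F))
    (hQ : (QuadraticMap.polarBilin Q).Nondegenerate) (f : (Fin n → F) →ₗ[F] (Fin n → F))
    (b : Basis (Fin n) F (Fin n → F)) (d : Fin n → F) (hd : ∀ j, f (b j) = d j • b j)
    (σ : Fin n → Fin n) (hσ : ∀ j, σ (σ j) = j) (μ : F) (hμ : ∀ j, d j * d (σ j) = μ) :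
    ∃ e : (Fin n → F) ≃ₗ[F] (Fin n → F), LinearEquiv.det e = 1 ∧ ∀ v, Q (e (f (e.symm v))) = μ * Q v := by
  classical
  let B' : LinearMap.BilinForm F (Fin n → F) :=
    LinearMap.mk₂ F (fun u v => ∑ j, u j * v (σ j))
      (fun u u' v => by simp only [Pi.add_apply, add_mul, Finset.sum_add_distrib])
      (fun c u v => by simp only [Pi.smul_apply, smul_eq_mul, mul_assoc, Finset.mul_sum])
      (fun u v v' => by simp only [Pi.add_apply, mul_add, Finset.sum_add_distrib])
      (fun c u v => by simp only [Pi.smul_apply, smul_eq_mul, Finset.mul_sum, mul_left_comm])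
  have hBapply : ∀ u v, B' u v = ∑ j, u j * v (σ j) := fun u v => rfl
  have hsymm : ∀ u v, B' v u = B' u v := fun u v => by
    rw [hBapply, hBapply]
    refine Fintype.sum_equiv (Function.Involutive.toPerm σ hσ) _ _ fun j => ?_
    show v j * u (σ j) = u (σ j) * v (σ (σ j))
    rw [hσ, mul_comm]
  let Q' : QuadraticForm F (Fin n → F) := LinearMap.BilinMap.toQuadraticMap B'
  have hQ'pol : ∀ u v, QuadraticMap.polarBilin Q' u v = 2 * B' u v := fun u v => by
    rw [QuadraticMap.polarBilin_apply_apply, LinearMap.BilinMap.polar_toQuadraticMap, hsymm]; ring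
  have hQ' : (QuadraticMap.polarBilin Q').Nondegenerate := by
    constructor <;> intro u hu <;> funext j <;>
      [have h1 := hu (Pi.single (σ j) 1); have h1 := hu (Pi.single (σ j) 1)]
    · rw [hQ'pol, hBapply, Finset.sum_eq_single j] at h1
      · simpa [h2] using h1
      · intro k _ hk
        rw [Pi.single_eq_of_ne (fun e => hk (by rw [← hσ k, e, hσ]))]; ring
      · simp
    · rw [hQ'pol, hsymm, hBapply, Finset.sum_eq_single j] at h1
      · simpa [h2] using h1
      · intro k _ hk
        rw [Pi.single_eq_of_ne (fun e => hk (by rw [← hσ k, e, hσ]))]; ring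
      · simp
  have hfin : finrank F (Fin n → F) = 2 * m + 1 := by rw [Module.finrank_fin_fun, hnm]
  obtain ⟨c1, e1, hc1, he1⟩ := odd_similar hfin Q' hQ'
  obtain ⟨c2, e2, hc2, he2⟩ := odd_similar hfin Q hQ
  let e₀ : (Fin n → F) ≃ₗ[F] (Fin n → F) := (b.equivFun.trans e1).trans e2.symm
  have he₀ : ∀ v, c2 * Q (e₀ v) = c1 * Q' (b.equivFun v) := fun v => by
    simp only [e₀, LinearEquiv.trans_apply]
    rw [← he2, e2.apply_symm_apply, he1]
  have hfQ : ∀ v, Q' (b.equivFun (f v)) = μ * Q' (b.equivFun v) := fun v => by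
    have hfv : b.equivFun (f v) = fun j => d j * b.equivFun v j := by
      conv_lhs => rw [← b.sum_equivFun v]
      rw [map_sum, show ∑ j, f (b.equivFun v j • b j) = ∑ j, (d j * b.equivFun v j) • b j from
        Finset.sum_congr rfl fun j _ => by rw [map_smul, hd, smul_smul, mul_comm]]
      exact b.equivFun_symm_apply _ ▸ b.equivFun.apply_symm_apply _
    show B' _ _ = μ * B' _ _
    rw [hfv, hBapply, hBapply, Finset.mul_sum]
    exact Finset.sum_congr rfl fun j _ => by rw [← hμ j]; ring
  obtain ⟨C, hC, hCdet⟩ := Inv.exists_scale b fun j => if j = ⟨0, by omega⟩ then (LinearEquiv.det e₀)⁻¹ else 1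
  have hCf : ∀ v, C (f v) = f (C v) := fun v => by
    have : C.toLinearMap ∘ₗ f = f ∘ₗ C.toLinearMap := b.ext fun j => by
      simp only [LinearMap.comp_apply, LinearEquiv.coe_coe, hd, map_smul, hC, smul_comm (d j)]
    exact LinearMap.congr_fun this v
  refine ⟨C.trans e₀, by rw [LinearEquiv.det_trans, hCdet]; simp, fun v => ?_⟩
  have key : (C.trans e₀) (f ((C.trans e₀).symm v)) = e₀ (f (e₀.symm v)) := by
    show e₀ (C (f (C.symm (e₀.symm v)))) = _
    rw [hCf, C.apply_symm_apply]
  rw [key]
  refine mul_left_cancel₀ hc2 ?_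
  rw [he₀, hfQ, mul_left_comm c1, ← he₀, e₀.apply_symm_apply]; ring

/-- Elements of prime order of PSL_n(q), q odd, and the subgroups of orthogonal type. Here `T = PSL_n(F)` for a field `F` with `q` elements, `q` odd, `n ≥ 3`; `Q` is a non-degenerate quadratic form on `F^n` (of either type when `n` is even) and `H` is the subgroup of matrices of determinant 1 that preserve `Q` up to a scalar — a subgroup of type O^ε_n(q) (maximality is not assumed); Ω is the set of cosets of `H` in `T`, so an element of `T` of prime order `r` (a matrix `x` of determinant 1 with `x^r` scalar, `x` not scalar) fixes a point of Ω exactly when some conjugate of `x` by a matrix of determinant 1 preserves `Q` up to a scalar. Let `r` be a prime dividing the index of `H`, with `(n, r) ≠ (6, 3)`. Then every element of `T` of order `r` fixes a point of Ω if and only if `r = 2`, or `r ∈ {3, 5}`, `n = r` and `(q − 1)_r = r` (the `r`-part of `q − 1` is exactly `r`). The case `(n, r) = (6, 3)` is not covered by this statement. -/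
theorem result {F : Type*} [Field F] [Fintype F] {p : ℕ} [Fact p.Prime] [CharP F p] {q : ℕ} (hq : Fintype.card F = q)
    (hodd : Odd q) (n : ℕ) (hn : 3 ≤ n) (Q : (Fin n → F) → F) (hQ : Cfsg.Geo.IsNondegenerateQuadraticForm Q)
    (r : ℕ) [Fact r.Prime] (hgap : ¬ (n = 6 ∧ r = 3))
    (hΩ : r ∣ (Cfsg.Geo.quadSimilarityGroup Q).relIndex (Cfsg.Geo.specialLinear (Fin n) F)) :
    (∀ x ∈ Cfsg.Geo.specialLinear (Fin n) F, (∃ z : F, ((x ^ r : GL (Fin n) F) : Matrix (Fin n) (Fin n) F) = z • (1 : Matrix (Fin n) (Fin n) F)) →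
      (∀ z : F, (x : Matrix (Fin n) (Fin n) F) ≠ z • (1 : Matrix (Fin n) (Fin n) F)) →
      ∃ g ∈ Cfsg.Geo.specialLinear (Fin n) F, g⁻¹ * x * g ∈ Cfsg.Geo.quadSimilarityGroup Q) ↔
    (r = 2 ∨ ((r = 3 ∨ r = 5) ∧ n = r ∧ padicValNat r (q - 1) = 1)) := by
  classical
  subst hq
  haveI : NeZero n := ⟨by omega⟩
  haveI : Nontrivial (Fin n → F) := inferInstance
  have h2 : (2 : F) ≠ 0 := OrthForms.two_ne_zero_of_odd hodd
  let q : QuadraticForm F (Fin n → F) := QuadraticMap.ofPolar Q (fun a x => by rw [hQ.smul, pow_two, smul_eq_mul])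
    hQ.polar_bilinear.add_left (fun a x y => by rw [smul_eq_mul]; exact hQ.polar_bilinear.smul_left a x y)
  have hqQ : ∀ v, q v = Q v := fun v => rfl
  have hB : (QuadraticMap.polarBilin q).Nondegenerate :=
    ⟨fun v h => by
      by_contra h0
      obtain ⟨-, x, hx⟩ := hQ.nondegenerate v h0
      exact hx (h x),
     fun v h => by
      by_contra h0
      obtain ⟨⟨x, hx⟩, -⟩ := hQ.nondegenerate v h0
      exact hx (h x)⟩
  have hnf : finrank F (Fin n → F) = n := Module.finrank_fin_fun F
  constructor
  · intro hall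
    by_contra hcon
    push Not at hcon
    obtain ⟨hr2, hcon⟩ := hcon
    have h2r : 2 < r := lt_of_le_of_ne (Fact.out : r.Prime).two_le (Ne.symm hr2)
    have test : ∀ (Y : Matrix (Fin n) (Fin n) F), Y.det = 1 → (∃ z : F, Y ^ r = z • 1) → (∀ z : F, Y ≠ z • 1) →
        ∃ (P g : GL (Fin n) F) (μ : F), μ ≠ 0 ∧ (g : Matrix (Fin n) (Fin n) F) =
          ((P⁻¹ : GL (Fin n) F) : Matrix (Fin n) (Fin n) F) * Y * (P : Matrix (Fin n) (Fin n) F) ∧
          (∀ u v, QuadraticMap.polarBilin q ((g : Matrix (Fin n) (Fin n) F) *ᵥ u) ((g : Matrix (Fin n) (Fin n) F) *ᵥ v) =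
            μ * QuadraticMap.polarBilin q u v) ∧
          (∀ v, q ((g : Matrix (Fin n) (Fin n) F) *ᵥ v) = μ * q v) ∧ (Y ^ r = 1 → g ^ r = 1 ∧ μ ^ r = 1) := by
      intro Y hY ⟨z, hz⟩ hns
      let x : GL (Fin n) F := Matrix.GeneralLinearGroup.mkOfDetNeZero Y (by rw [hY]; exact one_ne_zero)
      have hxY : (x : Matrix (Fin n) (Fin n) F) = Y := rfl
      obtain ⟨P, -, κ, hκ⟩ := hall x (by
        rw [Cfsg.Geo.specialLinear, MonoidHom.mem_ker]
        exact Units.ext (by rw [Matrix.GeneralLinearGroup.val_det_apply, Units.val_one, hxY, hY]))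
        ⟨z, by rw [Units.val_pow_eq_pow_val, hxY, hz]⟩ (fun c hc => hns c (hxY ▸ hc))
      have hsim : ∀ v, q (((P⁻¹ * x * P : GL (Fin n) F) : Matrix (Fin n) (Fin n) F) *ᵥ v) = (κ : F) * q v := hκ
      refine ⟨P, P⁻¹ * x * P, κ, κ.ne_zero, by rw [Units.val_mul, Units.val_mul, hxY], polar_of_quad q _ hsim, hsim,
        fun h1 => ?_⟩
      have hgr : (P⁻¹ * x * P) ^ r = 1 := Units.ext (by
        rw [Units.val_pow_eq_pow_val, Units.val_mul, Units.val_mul, Units.conj_pow', hxY, h1, mul_one,
          ← Units.val_mul, inv_mul_cancel, Units.val_one])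
      refine ⟨hgr, ?_⟩
      obtain ⟨v, hv⟩ : ∃ v, q v ≠ 0 := by
        by_contra! h0
        refine absurd (hB.1 (Pi.single 0 1) fun w => ?_) (fun e => by simpa using congrFun e 0)
        rw [QuadraticMap.polarBilin_apply_apply, QuadraticMap.polar, h0, h0, h0, sub_zero, sub_zero]
      have h3 := S5968.simil_pow (QuadraticMap.polarBilin q) _ (polar_of_quad q _ hsim) r v v
      rw [hgr, Units.val_one, Matrix.one_mulVec, QuadClass.pol_self] at h3
      exact mul_right_cancel₀ (mul_ne_zero h2 hv) (h3.symm.trans (one_mul _).symm)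
    set i₀ : Fin n := ⟨0, by omega⟩ with hi₀
    set i₁ : Fin n := ⟨1, by omega⟩ with hi₁
    set i₂ : Fin n := ⟨2, by omega⟩ with hi₂
    have h01 : i₀ ≠ i₁ := by simp [i₀, i₁, Fin.ext_iff]
    have h02 : i₀ ≠ i₂ := by simp [i₀, i₂, Fin.ext_iff]
    have h12 : i₁ ≠ i₂ := by simp [i₁, i₂, Fin.ext_iff]
    by_cases hr0 : (r : F) = 0
    · -- a transvection
      have hrp : r = p := (Nat.prime_dvd_prime_iff_eq Fact.out Fact.out).1 ((CharP.cast_eq_zero_iff F p r).1 hr0) |>.symm
      haveI : CharP F r := by rw [hrp]; infer_instance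
      set Y := Matrix.transvection i₀ i₁ (1 : F) with hY
      have hpow : ∀ k : ℕ, Y ^ k = Matrix.transvection i₀ i₁ (k : F) := by
        intro k
        induction k with
        | zero => simp
        | succ k ih => rw [pow_succ, ih, hY, Matrix.transvection_mul_transvection_same _ _ h01, Nat.cast_succ]
      have hY1 : Y ^ r = 1 := by rw [hpow, hr0, Matrix.transvection_zero]
      obtain ⟨P, g, μ, -, hg, hsim, -, hpw⟩ := test Y (Matrix.det_transvection_of_ne _ _ h01 _)
        ⟨1, by rw [hY1, one_smul]⟩ (fun z hz => by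
          have := congrFun (congrFun hz i₀) i₁
          simp [hY, Matrix.transvection, h01] at this)
      obtain rfl : μ = 1 := by
        have h3 : (μ - 1) ^ r = 0 := by rw [sub_pow_char, (hpw hY1).2, one_pow, sub_self]
        exact sub_eq_zero.1 ((pow_eq_zero_iff (Fact.out : r.Prime).ne_zero).1 h3)
      set w : Fin n → F := ((P⁻¹ : GL (Fin n) F) : Matrix (Fin n) (Fin n) F) *ᵥ Pi.single i₀ 1 with hw
      set B := QuadraticMap.polarBilin q
      have hgv : ∀ u, (g : Matrix (Fin n) (Fin n) F) *ᵥ u = u + ((P : Matrix (Fin n) (Fin n) F) *ᵥ u) i₁ • w := fun u => by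
        rw [hg, hY, Matrix.transvection, mul_add, mul_one, add_mul, ← Units.val_mul, inv_mul_cancel, Units.val_one,
          Matrix.add_mulVec, Matrix.one_mulVec, ← Matrix.mulVec_mulVec, ← Matrix.mulVec_mulVec, Matrix.single_mulVec,
          one_mul, hw, ← Matrix.mulVec_smul, ← Pi.single_smul, smul_eq_mul, mul_one]
        rfl
      have hw0 : ((P : Matrix (Fin n) (Fin n) F) *ᵥ w) i₁ = 0 := by
        rw [hw, Matrix.mulVec_mulVec, ← Units.val_mul, mul_inv_cancel, Units.val_one, Matrix.one_mulVec,
          Pi.single_eq_of_ne h01.symm]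
      have key : ∀ u v, ((P : Matrix (Fin n) (Fin n) F) *ᵥ v) i₁ * B u w + ((P : Matrix (Fin n) (Fin n) F) *ᵥ u) i₁ * B w v +
          ((P : Matrix (Fin n) (Fin n) F) *ᵥ u) i₁ * ((P : Matrix (Fin n) (Fin n) F) *ᵥ v) i₁ * B w w = 0 := fun u v => by
        have h3 := hsim u v
        rw [hgv, hgv] at h3
        simp only [map_add, map_smul, LinearMap.add_apply, LinearMap.smul_apply, smul_eq_mul] at h3
        linear_combination h3
      set u₀ : Fin n → F := ((P⁻¹ : GL (Fin n) F) : Matrix (Fin n) (Fin n) F) *ᵥ Pi.single i₁ 1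
      have hu₀ : ((P : Matrix (Fin n) (Fin n) F) *ᵥ u₀) i₁ = 1 := by
        rw [Matrix.mulVec_mulVec, ← Units.val_mul, mul_inv_cancel, Units.val_one, Matrix.one_mulVec, Pi.single_eq_same]
      have hww : B w w = 0 := by
        have := key w u₀
        rw [hw0, hu₀] at this
        linear_combination this
      have hsy : ∀ v, B w v = B v w := fun v => by
        show QuadraticMap.polar _ _ _ = QuadraticMap.polar _ _ _
        rw [QuadraticMap.polar_comm]
      have hu₀w : B w u₀ = 0 := by
        have := key u₀ u₀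
        rw [hu₀, hww, ← hsy] at this
        exact (mul_eq_zero.1 (show (2 : F) * B w u₀ = 0 by linear_combination this)).resolve_left h2
      refine absurd (hB.1 w fun v => ?_) (fun e => ?_)
      · have := key u₀ v
        rw [hu₀, hww, ← hsy u₀, hu₀w] at this
        linear_combination this
      · have e1 := congrArg (fun v => ((P : Matrix (Fin n) (Fin n) F) *ᵥ v) i₀) e
        rw [hw] at e1
        simp only [Matrix.mulVec_mulVec, ← Units.val_mul, mul_inv_cancel, Units.val_one, Matrix.one_mulVec,
          Matrix.mulVec_zero, Pi.single_eq_same, Pi.zero_apply] at e1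
        exact one_ne_zero e1
    have hrp : r ≠ p := fun e => hr0 (by subst e; exact CharP.cast_eq_zero F r)
    set i := orderOf ((Fintype.card F : ℕ) : ZMod r) with hidef
    by_cases hi1 : i = 1
    · -- diagonal elements
      have hd1 : r ∣ Fintype.card F - 1 := (order_one_iff r).1 hi1
      by_cases hC : (r = 3 ∨ r = 5) ∧ n = r
      · -- an element whose `r`-th power is a non-trivial scalar
        obtain ⟨h35, rfl⟩ := hC
        have hv : padicValNat n (Fintype.card F - 1) ≠ 1 := hcon h35 rfl
        have hQpos : Fintype.card F - 1 ≠ 0 := by have := Fintype.one_lt_card (α := F); omega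
        have hv1 := one_le_padicValNat_of_dvd hQpos hd1
        have hsq : n ^ 2 ∣ Fintype.card F - 1 := (pow_dvd_pow n (by omega)).trans pow_padicValNat_dvd
        obtain ⟨η₀, hη₀⟩ := IsCyclic.exists_ofOrder_eq_natCard (α := Fˣ)
        rw [Nat.card_units, Nat.card_eq_fintype_card] at hη₀
        obtain ⟨k, hk⟩ := hsq
        have hk0 : k ≠ 0 := fun e => hQpos (by rw [hk, e, mul_zero])
        set η : F := ((η₀ ^ k : Fˣ) : F) with hη
        have hpow : ∀ j : ℕ, η ^ j = 1 ↔ n ^ 2 ∣ j := fun j => by
          rw [hη, ← Units.val_pow_eq_pow_val, Units.val_eq_one, ← orderOf_dvd_iff_pow_eq_one, orderOf_pow' _ hk0,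
            hη₀, hk, Nat.gcd_mul_left_left, Nat.mul_div_cancel _ (Nat.pos_of_ne_zero hk0)]
        have hη0 : η ≠ 0 := (η₀ ^ k).ne_zero
        set a := η ^ n with ha
        have har : a ^ n = 1 := by rw [ha, ← pow_mul, ← pow_two, (hpow _).2 dvd_rfl]
        have ha2 : a ^ 2 ≠ 1 := fun e => by
          rw [ha, ← pow_mul, hpow] at e
          have := Nat.le_of_dvd (by omega) e
          nlinarith
        have ha1 : a ≠ 1 := fun e => ha2 (by rw [e, one_pow])
        let d : Fin n → F := fun l => if l = i₀ then η⁻¹ * a else η⁻¹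
        have hd : ∀ l, d l ≠ 0 := fun l => by
          simp only [d]; split_ifs <;> simp [hη0, ha]
        obtain ⟨P, g, μ, -, hg, hsim, -, -⟩ := test (Matrix.diagonal d) (by
            rw [Matrix.det_diagonal, ← Finset.mul_prod_erase _ _ (Finset.mem_univ i₀),
              Finset.prod_congr rfl (fun l hl => show d l = η⁻¹ from if_neg (Finset.ne_of_mem_erase hl)),
              Finset.prod_const, Finset.card_erase_of_mem (Finset.mem_univ _), Finset.card_univ, Fintype.card_fin,
              show d i₀ = η⁻¹ * a from if_pos rfl, mul_right_comm, ← pow_succ', Nat.sub_add_cancel (by omega), ha,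
              inv_pow, inv_mul_cancel₀ (pow_ne_zero _ hη0)])
          ⟨(η⁻¹) ^ n, by
            rw [Matrix.diagonal_pow, Matrix.smul_one_eq_diagonal]
            congr 1; funext l; simp only [Pi.pow_apply, d]; split_ifs
            · rw [mul_pow, har, mul_one]
            · rfl⟩
          (fun z hz => by
            have e0 := congrFun (congrFun hz i₀) i₀
            have e1 := congrFun (congrFun hz i₁) i₁
            simp [d, h01.symm] at e0 e1
            exact ha1 (mul_left_cancel₀ (inv_ne_zero hη0) (by rw [e0, ← e1, mul_one])))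
        set b := η⁻¹ with hb
        have hb0 : b ≠ 0 := inv_ne_zero hη0
        have cnt : ∀ R : F → Prop, (Finset.univ.filter fun l => R (d l)).card =
            (if R (b * a) then 1 else 0) + (if R b then n - 1 else 0) := fun R => by
          rw [Finset.card_filter, ← Finset.add_sum_erase _ _ (Finset.mem_univ i₀),
            Finset.sum_congr (g := fun _ => if R b then 1 else 0) rfl (fun l hl => by
              rw [show d l = b from if_neg (Finset.ne_of_mem_erase hl)]),
            Finset.sum_const, Finset.card_erase_of_mem (Finset.mem_univ _), Finset.card_univ, Fintype.card_fin]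
          rw [show d i₀ = b * a from if_pos rfl]
          by_cases hR : R b <;> simp [hR]
        have c1 := diag_test hB d hd P g hg hsim b
        rw [cnt (fun y => y = b), cnt (fun y => μ = b * y)] at c1
        have c2 := diag_test hB d hd P g hg hsim (b * a)
        rw [cnt (fun y => y = b * a), cnt (fun y => μ = b * a * y)] at c2
        have n1 : b * a ≠ b := fun e => ha1 (mul_left_cancel₀ hb0 (e.trans (mul_one b).symm))
        simp only [n1, n1.symm, if_true, if_false, zero_add, add_zero] at c1 c2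
        have hμ : μ = b * b := by
          by_contra hne
          simp only [hne, if_false, add_zero] at c1
          split_ifs at c1 <;> omega
        have n2 : b * b ≠ b * a * b := fun e => ha1 (mul_left_cancel₀ (mul_ne_zero hb0 hb0) (by linear_combination -e))
        have n3 : b * b ≠ b * a * (b * a) := fun e => ha2 (mul_left_cancel₀ (mul_ne_zero hb0 hb0) (by linear_combination -e))
        simp only [hμ, n2, n3, if_false] at c2
        omega
      · obtain ⟨ω, hω⟩ := exists_prime_orderOf_dvd_card' (G := Fˣ) r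
          (by rw [Nat.card_units, Nat.card_eq_fintype_card]; exact hd1)
        have hpow : ∀ k : ℕ, (ω : F) ^ k = 1 ↔ r ∣ k := fun k => by
          rw [← Units.val_pow_eq_pow_val, Units.val_eq_one, ← orderOf_dvd_iff_pow_eq_one, hω]
        have hωr : (ω : F) ^ r = 1 := (hpow r).2 dvd_rfl
        have hω0 : (ω : F) ≠ 0 := ω.ne_zero
        set a : F := (ω : F) with hadef
        set b : F := (a ^ 2)⁻¹ with hbdef
        have hb : b * a ^ 2 = 1 := inv_mul_cancel₀ (pow_ne_zero 2 hω0)
        have hsmall : ∀ k : ℕ, 0 < k → k < r → a ^ k ≠ 1 := fun k h1 h2 e => by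
          have := Nat.le_of_dvd h1 ((hpow k).1 e); omega
        have ha1 : a ≠ 1 := by simpa using hsmall 1 one_pos (by omega)
        have hb1 : b ≠ 1 := fun e => hsmall 2 two_pos h2r (inv_eq_one.1 e)
        let d : Fin n → F := fun l => if l = i₀ ∨ l = i₁ then a else if l = i₂ then b else 1
        have hdr : ∀ l, d l ^ r = 1 := fun l => by
          simp only [d]
          split_ifs
          · exact hωr
          · rw [hbdef, inv_pow, ← pow_mul, mul_comm, pow_mul, hωr, one_pow, inv_one]
          · exact one_pow r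
        have hab : a = b ↔ r = 3 := by
          rw [hbdef, ← mul_eq_one_iff_eq_inv₀ (pow_ne_zero 2 hω0), ← pow_succ', hpow]
          exact ⟨fun e => (Nat.prime_dvd_prime_iff_eq Fact.out Nat.prime_three).1 e, fun e => dvd_of_eq e⟩
        have hn4 : r = 3 → 4 ≤ n ∧ n ≠ 6 := fun e => ⟨by
          by_contra hlt
          exact hC ⟨Or.inl e, by omega⟩, fun e6 => hgap ⟨e6, e⟩⟩
        obtain ⟨P, g, μ, -, hg, hsim, -, -⟩ := test (Matrix.diagonal d) (by
            rw [Matrix.det_diagonal, ← Finset.prod_subset (s₁ := {i₀, i₁, i₂}) (Finset.subset_univ _) (fun l _ hl => by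
              simp only [Finset.mem_insert, Finset.mem_singleton, not_or] at hl
              simp [d, hl.1, hl.2.1, hl.2.2])]
            rw [Finset.prod_insert (by simp [h01, h02]), Finset.prod_insert (by simp [h12]), Finset.prod_singleton]
            simp [d, h02.symm, h12.symm]
            linear_combination hb)
          ⟨1, by
            rw [one_smul, Matrix.diagonal_pow, ← Matrix.diagonal_one]
            congr 1; funext l; exact hdr l⟩
          (fun z hz => by
            rcases eq_or_ne a b with e | e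
            · obtain ⟨hn', -⟩ := hn4 (hab.1 e)
              set i₃ : Fin n := ⟨3, by omega⟩
              have h03 : i₃ ≠ i₀ := by simp [i₀, i₃, Fin.ext_iff]
              have h13 : i₃ ≠ i₁ := by simp [i₁, i₃, Fin.ext_iff]
              have h23 : i₃ ≠ i₂ := by simp [i₂, i₃, Fin.ext_iff]
              have e0 := congrFun (congrFun hz i₀) i₀
              have e3 := congrFun (congrFun hz i₃) i₃
              simp [d, h03, h13, h23] at e0 e3
              exact ha1 (e0.trans e3.symm)
            · have e0 := congrFun (congrFun hz i₀) i₀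
              have e3 := congrFun (congrFun hz i₂) i₂
              simp [d, h02.symm, h12.symm] at e0 e3
              exact e (e0.trans e3.symm))
        have hd : ∀ l, d l ≠ 0 := fun l e => by
          have := hdr l
          rw [e, zero_pow (Fact.out : r.Prime).ne_zero] at this; exact zero_ne_one this
        have cnt : ∀ R : F → Prop, (Finset.univ.filter fun l => R (d l)).card =
            (if R a then 2 else 0) + (if R b then 1 else 0) + (if R 1 then n - 3 else 0) := fun R => by
          rw [Finset.card_filter, ← Finset.sum_sdiff (Finset.subset_univ ({i₀, i₁, i₂} : Finset (Fin n))),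
            Finset.sum_congr (g := fun _ => if R 1 then 1 else 0) rfl (fun l hl => by
              simp only [Finset.mem_sdiff, Finset.mem_insert, Finset.mem_singleton, not_or] at hl
              simp [d, hl.2.1, hl.2.2.1, hl.2.2.2]),
            Finset.sum_const, Finset.card_sdiff_of_subset (Finset.subset_univ _), Finset.card_univ, Fintype.card_fin,
            Finset.sum_insert (by simp [h01, h02]), Finset.sum_insert (by simp [h12]), Finset.sum_singleton]
          rw [show ({i₀, i₁, i₂} : Finset (Fin n)).card = 3 by simp [h01, h02, h12]]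
          simp only [d, if_true, or_true, true_or, h02.symm, h12.symm, or_self, if_false]
          split_ifs <;> simp <;> omega
        have ca := diag_test hB d hd P g hg hsim a
        rw [cnt (fun y => y = a), cnt (fun y => μ = a * y)] at ca
        have cb := diag_test hB d hd P g hg hsim b
        rw [cnt (fun y => y = b), cnt (fun y => μ = b * y)] at cb
        have c1 := diag_test hB d hd P g hg hsim 1
        rw [cnt (fun y => y = 1), cnt (fun y => μ = 1 * y)] at c1
        simp only [one_mul, mul_one, if_true, ha1, hb1, Ne.symm ha1, Ne.symm hb1, if_false, zero_add, add_zero]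
          at ca cb c1
        by_cases h3 : r = 3
        · have e : a = b := hab.2 h3
          obtain ⟨hn', hn6⟩ := hn4 h3
          rw [← e] at ca c1
          simp only [if_true] at ca
          by_cases e1 : μ = a
          · subst e1
            simp only [if_true, ha1, if_false] at c1
            omega
          · simp only [e1, if_false, zero_add, add_zero] at c1 ca
            by_cases e2 : μ = 1
            · subst e2
              have e4 : (1 : F) ≠ a * a := fun e => hsmall 2 two_pos h2r (by rw [pow_two]; exact e.symm)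
              simp only [e4, if_false] at ca
              omega
            · simp only [e2, if_false] at c1
              omega
        · have hne : a ≠ b := fun e => h3 (hab.1 e)
          have hr5 : 5 ≤ r := by
            rcases Nat.lt_or_ge r 5 with h5 | h5
            · have : r = 4 := by omega
              exact absurd (Fact.out : r.Prime) (by rw [this]; norm_num)
            · exact h5
          simp only [Ne.symm hne, hne, if_false, zero_add, add_zero] at ca cb
          by_cases e1 : μ = a * a
          · subst e1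
            have n1 : a * a ≠ b * a := fun e => hsmall 3 (by norm_num) (by omega) (by linear_combination a * e + hb)
            have n2 : a * a ≠ b * b := fun e => by
              have e6 : r ∣ 6 := (hpow 6).1 (by linear_combination a ^ 4 * e + (b * a ^ 2 + 1) * hb)
              rcases (Fact.out : r.Prime).dvd_mul.1 (show r ∣ 2 * 3 from e6) with h6 | h6 <;>
                · have := Nat.le_of_dvd (by norm_num) h6
                  omega
            have n3 : a * a ≠ b := fun e => hsmall 4 (by norm_num) (by omega) (by linear_combination a ^ 2 * e + hb)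
            simp only [n1, n2, n3, if_false] at cb
            omega
          · simp only [e1, if_false, zero_add] at ca
            by_cases e2 : μ = a
            · subst e2
              have n0 : a ≠ a * b := fun e => hb1 (mul_left_cancel₀ hω0 (e.symm.trans (mul_one a).symm))
              simp only [n0, if_true, if_false, zero_add] at ca
              have hn5 : n = 5 := by omega
              have n1 : a ≠ b * a := fun e => n0 (e.trans (mul_comm b a))
              have n2 : a ≠ b * b := fun e => hC ⟨Or.inr (((Nat.prime_dvd_prime_iff_eq Fact.out Nat.prime_five).1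
                ((hpow 5).1 (by linear_combination a ^ 4 * e + (b * a ^ 2 + 1) * hb)))),
                hn5.trans ((Nat.prime_dvd_prime_iff_eq Fact.out Nat.prime_five).1
                ((hpow 5).1 (by linear_combination a ^ 4 * e + (b * a ^ 2 + 1) * hb))).symm⟩
              simp only [n1, n2, hne, if_false] at cb
              omega
            · simp only [e2, if_false, add_zero] at ca
              split_ifs at ca <;> omega
    · -- no eigenvalues in the field
      have hdn : ¬ r ∣ Fintype.card F - 1 := fun e => hi1 ((order_one_iff r).2 e)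
      have hH : ∀ g : GL (Fin n) F, (∀ v, q ((g : Matrix (Fin n) (Fin n) F) *ᵥ v) = q v) →
          g ∈ Cfsg.Geo.quadSimilarityGroup Q := fun g hg =>
        ⟨1, fun v => by rw [Units.val_one, one_mul]; exact hg v⟩
      rcases order_cases h2 p hn q hB _ hH hr2 hrp hΩ with ⟨hiodd, hin⟩ | ⟨hni, hi, hz⟩
      · obtain ⟨k, -, hk⟩ := FiniteField.card F p
        have hpr : p ≠ r := Ne.symm hrp
        have hcop : p.Coprime r := (Nat.coprime_primes Fact.out Fact.out).2 hpr
        have hu : i = orderOf (ZMod.unitOfCoprime _ (hcop.pow_left (k : ℕ))) := by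
          rw [hidef, ← orderOf_units, ZMod.coe_unitOfCoprime, hk]
        obtain ⟨G, hG⟩ := UniqueFactorizationMonoid.exists_mem_normalizedFactors (cyclotomic_ne_zero r F)
          (not_isUnit_of_natDegree_pos _ (by rw [natDegree_cyclotomic]; exact Nat.totient_pos.2 (Fact.out : r.Prime).pos))
        have hgi := UniqueFactorizationMonoid.irreducible_of_normalized_factor G hG
        have hgd : G.natDegree = i := by
          rw [hu]; exact natDegree_of_mem_normalizedFactors_cyclotomic hk hcop hG
        haveI : Fact (Irreducible G) := ⟨hgi⟩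
        haveI : FiniteDimensional F (AdjoinRoot G) := (AdjoinRoot.powerBasis hgi.ne_zero).finite
        haveI : Finite (AdjoinRoot G) := Module.finite_of_finite F
        have hKd : finrank F (AdjoinRoot G) = i := by
          rw [(AdjoinRoot.powerBasis hgi.ne_zero).finrank, AdjoinRoot.powerBasis_dim, hgd]
        set ζ := AdjoinRoot.root G with hζ
        obtain ⟨w, hw⟩ := UniqueFactorizationMonoid.dvd_of_mem_normalizedFactors hG
        have hroot : aeval ζ G = 0 := by rw [hζ, AdjoinRoot.aeval_eq, AdjoinRoot.mk_self]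
        have hζΦ : aeval ζ (cyclotomic r F) = 0 := by rw [hw, map_mul, hroot, zero_mul]
        have hζr : ζ ^ r = 1 := by
          have := congrArg (aeval ζ) (cyclotomic_prime_mul_X_sub_one F r)
          rw [map_mul, hζΦ, zero_mul, map_sub, aeval_X_pow, map_one] at this
          exact sub_eq_zero.1 this.symm
        have hζ1 : ζ ≠ 1 := by
          intro h1
          rw [h1, aeval_def, eval₂_eq_eval_map, map_cyclotomic, eval_one_cyclotomic_prime] at hζΦ
          exact hr0 ((algebraMap F (AdjoinRoot G)).injective (by rw [map_natCast, map_zero, hζΦ]))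
        let g' : ((Fin (n - i) → F) × AdjoinRoot G) →ₗ[F] ((Fin (n - i) → F) × AdjoinRoot G) :=
          LinearMap.prodMap LinearMap.id (LinearMap.mulLeft F ζ)
        obtain ⟨L, Y, hY, -⟩ := exists_transport (V := (Fin (n - i) → F) × AdjoinRoot G) (n := n)
          (by rw [finrank_prod, finrank_fin_fun, hKd]; omega) g'
        have hYl : ∀ (l : ℕ) v, L ((Y ^ l) *ᵥ v) = ((L v).1, ζ ^ l * (L v).2) := by
          intro l
          induction l with
          | zero => intro v; simp
          | succ l ih =>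
            intro v
            have e1 := hY ((Y ^ l) *ᵥ v)
            rw [Matrix.toLin'_apply, Matrix.mulVec_mulVec, ← pow_succ', ih] at e1
            rw [e1]
            simp [g', pow_succ', mul_assoc]
        have hYr : Y ^ r = 1 := Matrix.ext_of_mulVec_single fun j => L.injective (by
          rw [hYl, hζr, one_mul, Matrix.one_mulVec])
        have hY1 : Y ≠ 1 := fun e1 => hζ1 (by
          have h' := hYl 1 (L.symm (0, 1))
          rw [e1, one_pow, Matrix.one_mulVec, L.apply_symm_apply] at h'
          simpa using (congrArg Prod.snd h').symm)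
        obtain ⟨P, g, μ, -, hgv, hsim, -, hpw⟩ := test Y
          (eq_one_of_pow_eq_one (r := r) hdn (by rw [← Matrix.det_pow, hYr, Matrix.det_one]))
          ⟨1, by rw [hYr, one_smul]⟩
          (fun z hz => hY1 (by
            have hzr : z ^ r = 1 := by
              have h3 := congrFun (congrFun hYr i₀) i₀
              rw [hz, _root_.smul_pow, one_pow] at h3
              simpa using h3
            rw [hz, eq_one_of_pow_eq_one hdn hzr, one_smul]))
        obtain ⟨hgr, hμ⟩ := hpw hYr
        obtain rfl : μ = 1 := eq_one_of_pow_eq_one hdn hμ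
        have hP : ∀ (R : F[X]) (v : Fin n → F), L (aeval Y R *ᵥ v) = (R.eval 1 • (L v).1, aeval ζ R * (L v).2) := by
          intro R
          induction R using Polynomial.induction_on' with
          | add R R' hR hR' =>
            intro v
            rw [map_add, map_add, eval_add, Matrix.add_mulVec, map_add, hR, hR', Prod.mk_add_mk, add_smul, add_mul]
          | monomial l c =>
            intro v
            rw [aeval_monomial, aeval_monomial, ← Algebra.smul_def, ← Algebra.smul_def, Matrix.smul_mulVec, map_smul,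
              hYl, Prod.smul_mk, eval_monomial, one_pow, mul_one, smul_mul_assoc]
        have h0 : aeval Y ((X - 1) * G) = 0 := Matrix.ext_of_mulVec_single fun j => L.injective (by
          rw [hP, map_mul, hroot, mul_zero, zero_mul, eval_mul, eval_sub, eval_X, eval_one, sub_self, zero_mul,
            zero_smul, Matrix.zero_mulVec, map_zero]; rfl)
        have h1 : aeval ((g⁻¹ : GL (Fin n) F) : Matrix (Fin n) (Fin n) F) ((X - 1) * G) = 0 := by
          have h2 := S5968.aeval_simil hB g hsim ((X - 1) * G) (by rw [hgv, S5968.aeval_conj, h0, mul_zero, zero_mul])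
          rwa [one_smul] at h2
        have e1 : g⁻¹ = g ^ (r - 1) := inv_eq_of_mul_eq_one_right (by
          rw [← pow_succ', Nat.sub_add_cancel (by omega), hgr])
        rw [e1, Units.val_pow_eq_pow_val, hgv, Units.conj_pow', S5968.aeval_conj] at h1
        have h2' : aeval (Y ^ (r - 1)) ((X - 1) * G) = 0 := by
          have h3 := congrArg (fun M => (P : Matrix (Fin n) (Fin n) F) * M * ((P⁻¹ : GL (Fin n) F) : Matrix (Fin n) (Fin n) F)) h1
          simpa [mul_assoc] using h3
        have h3 : aeval (ζ ^ (r - 1)) ((X - 1) * G) = 0 := by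
          rw [← aeval_X_pow (R := F) Y, ← aeval_comp] at h2'
          have h4 := hP (((X - 1) * G).comp (X ^ (r - 1))) (L.symm (0, 1))
          rw [h2', Matrix.zero_mulVec, map_zero, L.apply_symm_apply] at h4
          have h5 := congrArg Prod.snd h4
          rw [aeval_comp, aeval_X_pow] at h5
          simpa using h5.symm
        have hinv : ζ ^ (r - 1) * ζ = 1 := by rw [← pow_succ, Nat.sub_add_cancel (by omega), hζr]
        have hne1 : ζ ^ (r - 1) ≠ 1 := fun e => hζ1 (by rwa [e, one_mul] at hinv)
        rw [map_mul, mul_eq_zero, map_sub, aeval_X, map_one, sub_eq_zero] at h3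
        have hG' : aeval (ζ ^ (r - 1)) G = 0 := h3.resolve_left hne1
        let σ : AdjoinRoot G →ₐ[F] AdjoinRoot G := AdjoinRoot.liftAlgHom G (Algebra.ofId F _) (ζ ^ (r - 1)) hG'
        have hσ : σ ζ = ζ ^ (r - 1) := AdjoinRoot.liftAlgHom_root ..
        have hσ2 : σ.comp σ = AlgHom.id F _ := AdjoinRoot.algHom_ext (by
          show σ (σ ζ) = ζ
          rw [hσ, map_pow, hσ]
          have e3 : (ζ ^ (r - 1)) ^ (r - 1) * ζ ^ (r - 1) = ζ * ζ ^ (r - 1) := by
            rw [← mul_pow, hinv, one_pow, mul_comm, hinv]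
          exact mul_right_cancel₀ (fun e => by rw [e, zero_mul] at hinv; exact zero_ne_one hinv) e3)
        let s : AdjoinRoot G ≃ₐ[F] AdjoinRoot G := AlgEquiv.ofAlgHom σ σ hσ2 hσ2
        have hs : orderOf s = 2 := by
          refine orderOf_eq_prime (AlgEquiv.ext fun v => ?_) fun e => ?_
          · rw [pow_two]; exact AlgHom.congr_fun hσ2 v
          · have e2 : σ ζ = ζ := AlgEquiv.congr_fun e ζ
            rw [hσ] at e2
            have e3 : ζ ^ 2 = 1 := by
              rw [pow_two]; nth_rw 1 [← e2]; exact hinv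
            have h7 := orderOf_dvd_iff_pow_eq_one.2 e3
            rw [orderOf_eq_prime hζr hζ1] at h7
            have := Nat.le_of_dvd two_pos h7
            omega
        have := orderOf_dvd_natCard s
        rw [hs, IsGalois.card_aut_eq_finrank, hKd] at this
        exact (Nat.not_even_iff_odd.2 hiodd) (even_iff_two_dvd.2 this)
      · -- a fixed point free element and the singular vectors
        obtain ⟨x, -, hns, hxr, hfix⟩ := exists_semisimple (F := F) (n := n) r hr0 hdn (by rw [← hidef, hni]; omega)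
        rw [← hidef, hni] at hfix
        have hbot : fixSp (Matrix.toLin' (x : Matrix (Fin n) (Fin n) F)) = ⊥ :=
          Submodule.finrank_eq_zero.1 (Nat.le_zero.1 hfix)
        have hxr' : (x : Matrix (Fin n) (Fin n) F) ^ r = 1 := Matrix.toLin'.injective (LinearMap.ext fun v => by
          rw [Matrix.toLin'_pow, Matrix.toLin'_one]; exact hxr v)
        obtain ⟨P, g, μ, -, hgv, -, hsim, hpw⟩ := test _ x.2 ⟨1, by rw [hxr', one_smul]⟩ hns
        obtain ⟨hgr, hμ⟩ := hpw hxr'
        obtain rfl : μ = 1 := eq_one_of_pow_eq_one hdn hμ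
        refine hz ?_
        have hiso : ∀ v, Q ((g : Matrix (Fin n) (Fin n) F) *ᵥ v) = Q v := fun v => by
          have := hsim v; rwa [one_mul] at this
        let Z := {v : Fin n → F // q v = 0}
        haveI : Fintype Z := Fintype.ofFinite Z
        let τ : Equiv.Perm Z := Equiv.subtypeEquiv
          (LinearEquiv.ofLinear (Matrix.toLin' (g : Matrix (Fin n) (Fin n) F))
            (Matrix.toLin' ((g⁻¹ : GL (Fin n) F) : Matrix (Fin n) (Fin n) F))
            (by rw [← Matrix.toLin'_mul, ← Units.val_mul, mul_inv_cancel, Units.val_one, Matrix.toLin'_one])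
            (by rw [← Matrix.toLin'_mul, ← Units.val_mul, inv_mul_cancel, Units.val_one, Matrix.toLin'_one])).toEquiv
          (fun v => by
            show q v = 0 ↔ q ((g : Matrix (Fin n) (Fin n) F) *ᵥ v) = 0
            rw [hsim v, one_mul])
        have hτ : ∀ (k : ℕ) (v : Z), ((τ ^ k) v : Fin n → F) = (g ^ k : GL (Fin n) F).1 *ᵥ (v : Fin n → F) := by
          intro k
          induction k with
          | zero => intro v; simp
          | succ k ih =>
            intro v
            rw [pow_succ', Equiv.Perm.mul_apply, pow_succ', Units.val_mul, ← Matrix.mulVec_mulVec, ← ih]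
            rfl
        have hτr : τ ^ r ^ 1 = 1 := Equiv.ext fun v => Subtype.ext (by
          rw [pow_one, hτ, hgr, Units.val_one, Matrix.one_mulVec]; rfl)
        let fe : Function.End Z := ⇑τ
        have hfe : ∀ (k : ℕ) v, (fe ^ k) v = (τ ^ k) v := by
          intro k
          induction k with
          | zero => intro v; rfl
          | succ k ih =>
            intro v
            rw [pow_succ', pow_succ', Equiv.Perm.mul_apply, ← ih]
            rfl
        have hmod := Equiv.Perm.card_fixedPoints_modEq (p := r) (n := 1) (f := fe)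
          (funext fun v => by rw [hfe, hτr]; rfl)
        have hfp : Fintype.card (Function.fixedPoints τ) = 1 := by
          refine Fintype.card_eq_one_iff.2 ⟨⟨⟨0, QuadraticMap.map_zero q⟩, Subtype.ext (show Matrix.toLin' (g : Matrix (Fin n) (Fin n) F) 0 = 0 from map_zero _)⟩,
            fun ⟨⟨v, hv⟩, hfv⟩ => Subtype.ext (Subtype.ext ?_)⟩
          have h4 : (g : Matrix (Fin n) (Fin n) F) *ᵥ v = v := congrArg Subtype.val hfv
          have h5 : (P : Matrix (Fin n) (Fin n) F) *ᵥ v ∈ fixSp (Matrix.toLin' (x : Matrix (Fin n) (Fin n) F)) :=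
            mem_fixSp.2 (by
              rw [Matrix.toLin'_apply]
              conv_rhs => rw [← h4, hgv]
              simp only [Matrix.mulVec_mulVec, ← mul_assoc, ← Units.val_mul, mul_inv_cancel, Units.val_one, one_mul])
          rw [hbot, Submodule.mem_bot] at h5
          have h6 := congrArg (((P⁻¹ : GL (Fin n) F) : Matrix (Fin n) (Fin n) F) *ᵥ ·) h5
          simpa [Matrix.mulVec_mulVec, ← Units.val_mul] using h6
        have hfp' : Fintype.card (Function.fixedPoints fe) = 1 :=
          (Fintype.card_congr (Equiv.refl _)).trans hfp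
        rw [hfp'] at hmod
        show r ∣ Nat.card Z - 1
        rw [Nat.card_eq_fintype_card]
        exact (Nat.modEq_iff_dvd' (Fintype.card_pos_iff.2 ⟨⟨0, QuadraticMap.map_zero q⟩⟩)).1 hmod.symm
  · intro hcase x hx ⟨z, hz⟩ hns
    have hdet : (x : Matrix (Fin n) (Fin n) F).det = 1 := by
      have := congrArg Units.val (MonoidHom.mem_ker.1 hx)
      simpa using this
    let xs : Matrix.SpecialLinearGroup (Fin n) F := ⟨(x : Matrix (Fin n) (Fin n) F), hdet⟩
    have hz0 : z ≠ 0 := by
      rintro rfl
      rw [zero_smul] at hz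
      exact (x ^ r).ne_zero hz
    set f := Matrix.toLin' (x : Matrix (Fin n) (Fin n) F) with hfdef
    suffices ∃ (e : (Fin n → F) ≃ₗ[F] (Fin n → F)) (μ : F),
        LinearEquiv.det e = 1 ∧ μ ≠ 0 ∧ ∀ v, q (e (f (e.symm v))) = μ * q v by
      obtain ⟨e, μ, hedet, hμ, he⟩ := this
      obtain ⟨P, hP⟩ := Inv.exists_SL e hedet xs
      refine ⟨Matrix.SpecialLinearGroup.toGL P, ?_, Units.mk0 μ hμ, fun v => ?_⟩
      · rw [Cfsg.Geo.specialLinear, MonoidHom.mem_ker]
        exact Units.ext (by rw [Matrix.GeneralLinearGroup.val_det_apply, Units.val_one]; exact P.2)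
      · have hv : (((Matrix.SpecialLinearGroup.toGL P)⁻¹ * x * Matrix.SpecialLinearGroup.toGL P : GL (Fin n) F) :
            Matrix (Fin n) (Fin n) F) *ᵥ v = e (f (e.symm v)) := by
          rw [hfdef, Matrix.toLin'_apply, show x = Matrix.SpecialLinearGroup.toGL xs from Units.ext rfl,
            ← map_inv, ← map_mul, ← map_mul]
          exact hP v
        rw [hv]
        exact he v
    rcases hcase with rfl | ⟨h35, rfl, hv⟩
    · -- involutions
      have hxx : ∀ v, f (f v) = z • v := fun v => by
        rw [hfdef, ← LinearMap.comp_apply, ← Matrix.toLin'_mul, ← pow_two, ← Units.val_pow_eq_pow_val, hz, map_smul,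
          Matrix.toLin'_one]
        rfl
      haveI : Invertible (2 : F) := invertibleOfNonzero h2
      set B := QuadraticMap.polarBilin q
      have hBsymm : LinearMap.IsSymm B := ⟨fun u v => by
        show QuadraticMap.polar _ _ _ = QuadraticMap.polar _ _ _
        rw [QuadraticMap.polar_comm]⟩
      obtain ⟨b₁, hb₁⟩ := LinearMap.BilinForm.exists_orthogonal_basis hBsymm
      let b : Basis (Fin n) F (Fin n → F) := b₁.reindex (finCongr hnf)
      have horth : ∀ i j, i ≠ j → B (b i) (b j) = 0 := fun i j hij => by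
        rw [Basis.reindex_apply, Basis.reindex_apply]
        exact hb₁ ((finCongr hnf).symm.injective.ne hij)
      have hdiag : ∀ i, B (b i) (b i) ≠ 0 := fun i h0 => b.ne_zero i (hB.1 _ fun w => by
        rw [← b.sum_repr w, map_sum]
        refine Finset.sum_eq_zero fun j _ => ?_
        rw [map_smul]
        rcases eq_or_ne i j with rfl | hij
        · rw [h0, smul_zero]
        · rw [horth i j hij, smul_zero])
      by_cases hsq : ∃ c : F, c * c = z
      · obtain ⟨c, hc⟩ := hsq
        have hc0 : c ≠ 0 := fun e => hz0 (by rw [← hc, e, mul_zero])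
        let f₁ : (Fin n → F) →ₗ[F] (Fin n → F) := c⁻¹ • f
        have hfx : ∀ v, f v = c • f₁ v := fun v => by simp only [f₁, LinearMap.smul_apply, smul_inv_smul₀ hc0]
        have hf : ∀ v, f₁ (f₁ v) = v := fun v => by
          simp only [f₁, LinearMap.smul_apply, map_smul, hxx, smul_smul]
          rw [show c⁻¹ * (c⁻¹ * z) = 1 by rw [← hc]; field_simp, one_smul]
        set k := Inv.rk f₁
        have hk : k ≤ n := (Inv.rk_le f₁).trans_eq hnf
        let h : (Fin n → F) →ₗ[F] (Fin n → F) := b.constr F fun j => if (j : ℕ) < k then -b j else b j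
        have hhb : ∀ j, h (b j) = if (j : ℕ) < k then -b j else b j := fun j => Basis.constr_basis b F _ j
        have hh : ∀ v, h (h v) = v := fun v => by
          have : h ∘ₗ h = LinearMap.id := b.ext fun j => by
            simp only [LinearMap.comp_apply, hhb, LinearMap.id_apply]
            split_ifs with hj <;> simp [hhb, hj]
          exact LinearMap.congr_fun this v
        have hhr : Inv.rk h = k := by
          refine S5967.rk_eq b h (fun j : Fin k => ⟨j, by omega⟩) (fun i j e => Fin.ext (by simpa using e)) (-2)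
            (neg_ne_zero.2 h2) (fun j => ⟨j, by omega⟩) (fun j => ?_) (fun j => ?_)
          · rw [hhb]; split_ifs with hj
            · rw [show -b j - b j = (-2 : F) • b j by module]
              exact Submodule.smul_mem _ _ (Submodule.subset_span ⟨⟨j, hj⟩, rfl⟩)
            · rw [sub_self]; exact zero_mem _
          · rw [hhb, if_pos j.2]; module
        have hiso : ∀ u v, B (h u) (h v) = 1 * B u v := by
          have e : B.compl₁₂ h h = B := LinearMap.BilinForm.ext_basis b fun i j => by
            simp only [LinearMap.compl₁₂_apply, hhb]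
            rcases eq_or_ne i j with rfl | hij
            · split_ifs <;> simp
            · split_ifs <;> simp [horth i j hij]
          exact fun u v => by rw [one_mul]; exact LinearMap.congr_fun₂ e u v
        obtain ⟨e, he, hedet⟩ := Inv.exists_conj hf hh hhr.symm 1
        refine ⟨e, z, hedet, hz0, fun v => ?_⟩
        rw [hfx, map_smul, he, e.apply_symm_apply, QuadraticMap.map_smul, quad_of_polar h2 q h hiso, one_mul, hc,
          smul_eq_mul]
      · push Not at hsq
        obtain ⟨m, hm⟩ : Even n := by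
          by_contra ho
          obtain ⟨m, hm⟩ := Nat.not_even_iff_odd.1 ho
          refine hsq (z ^ (m + 1)) ?_
          have hzn : z ^ n = 1 := by
            have h3 := congrArg Matrix.det hz
            rw [Units.val_pow_eq_pow_val, Matrix.det_pow, hdet, one_pow, Matrix.det_smul, Matrix.det_one, mul_one,
              Fintype.card_fin] at h3
            exact h3.symm
          rw [← pow_add, show m + 1 + (m + 1) = n + 1 by omega, pow_succ, hzn, one_mul]
        let bb : Basis (Fin 2 × Fin m) F (Fin n → F) := b.reindex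
          (Fintype.equivFinOfCardEq (by simp; omega : Fintype.card (Fin 2 × Fin m) = n)).symm
        let c : Fin 2 × Fin m → F := fun k => B (bb k) (bb k)
        have hc : ∀ k, c k ≠ 0 := fun k => by simp only [c, bb, Basis.reindex_apply]; exact hdiag _
        have hbo : ∀ k l, k ≠ l → B (bb k) (bb l) = 0 := fun k l hkl => by
          simp only [bb, Basis.reindex_apply]; exact horth _ _ ((Equiv.injective _).ne hkl)
        choose s t hst using fun j : Fin m => Forms.Bases.exists_sq_add_sq h2 (one_ne_zero (α := F))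
          (mul_ne_zero (hc (0, j)) (hc (1, j))) z
        let θ : (Fin n → F) →ₗ[F] (Fin n → F) := bb.constr F fun k =>
          if k.1 = 0 then s k.2 • bb (0, k.2) + (t k.2 * c (0, k.2)) • bb (1, k.2)
          else (t k.2 * c (1, k.2)) • bb (0, k.2) - s k.2 • bb (1, k.2)
        have hθ0 : ∀ j, θ (bb (0, j)) = s j • bb (0, j) + (t j * c (0, j)) • bb (1, j) := fun j => by
          simp only [θ]; rw [Basis.constr_basis, if_pos rfl]
        have hθ1 : ∀ j, θ (bb (1, j)) = (t j * c (1, j)) • bb (0, j) - s j • bb (1, j) := fun j => by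
          simp only [θ]; rw [Basis.constr_basis, if_neg (by simp)]
        have hθθ : ∀ v, θ (θ v) = z • v := fun v => by
          have : θ ∘ₗ θ = z • LinearMap.id := bb.ext fun ⟨k, j⟩ => by
            fin_cases k
            · simp only [Fin.zero_eta, LinearMap.comp_apply, LinearMap.smul_apply, LinearMap.id_apply, hθ0, hθ1,
                map_add, map_smul]
              match_scalars
              · linear_combination hst j
              · ring
            · simp only [Fin.mk_one, LinearMap.comp_apply, LinearMap.smul_apply, LinearMap.id_apply, hθ0, hθ1,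
                map_sub, map_smul]
              match_scalars
              · ring
              · linear_combination hst j
          exact LinearMap.congr_fun this v
        have hself : ∀ u v, B (θ u) v = B u (θ v) := by
          have e : B.compl₁₂ θ LinearMap.id = B.compl₁₂ LinearMap.id θ :=
            LinearMap.BilinForm.ext_basis bb fun ⟨k, i⟩ ⟨l, j⟩ => by
              simp only [LinearMap.compl₁₂_apply, LinearMap.id_apply]
              rcases eq_or_ne i j with rfl | hij
              · fin_cases k <;> fin_cases l <;>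
                  simp [hθ0, hθ1, hbo, c] <;> ring
              · fin_cases k <;> fin_cases l <;> simp [hθ0, hθ1, hbo, hij]
          exact fun u v => LinearMap.congr_fun₂ e u v
        have hsim : ∀ u v, B (θ u) (θ v) = z * B u v := fun u v => by
          rw [hself, hθθ, map_smul, smul_eq_mul]
        obtain ⟨e, he, hedet⟩ := Inv.exists_conj_quad (a := (0 : F)) (N := -z) (θ := f) (θ' := θ)
          (fun v => by rw [hxx]; simp) (fun v => by rw [hθθ]; simp)
          (fun d hd => hsq d (by linear_combination hd)) 1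
        refine ⟨e, z, hedet, hz0, fun v => ?_⟩
        rw [he, e.apply_symm_apply, quad_of_polar h2 q θ hsim]
    · -- three or five
      have hd1 : n ∣ Fintype.card F - 1 := dvd_of_one_le_padicValNat (by omega)
      have hQpos : Fintype.card F - 1 ≠ 0 := by have := Fintype.one_lt_card (α := F); omega
      have hnsq : ¬ n ^ 2 ∣ Fintype.card F - 1 := by
        have := pow_succ_padicValNat_not_dvd (p := n) hQpos
        rwa [hv] at this
      have hn0 : (n : F) ≠ 0 := fun e => by
        have hnp := (Nat.prime_dvd_prime_iff_eq Fact.out Fact.out).1 ((CharP.cast_eq_zero_iff F p n).1 e)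
        subst hnp
        obtain ⟨k, -, hk⟩ := FiniteField.card F p
        have h1 : p ∣ Fintype.card F := by rw [hk]; exact dvd_pow_self p k.ne_zero
        have h3 := Nat.dvd_sub h1 hd1
        rw [Nat.sub_sub_self Fintype.card_pos] at h3
        exact (Fact.out : p.Prime).ne_one (Nat.dvd_one.1 h3)
      have hfz : ∀ v, (f ^ n) v = z • v := fun v => by
        rw [hfdef, ← Matrix.toLin'_pow, ← Units.val_pow_eq_pow_val, hz, map_smul, Matrix.toLin'_one]
        rfl
      have hzn : z ^ n = 1 := by
        have h3 := congrArg Matrix.det hz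
        rw [Units.val_pow_eq_pow_val, Matrix.det_pow, hdet, one_pow, Matrix.det_smul, Matrix.det_one, mul_one,
          Fintype.card_fin] at h3
        exact h3.symm
      have hz1 : z = 1 := by
        by_cases hpw : ∃ d : F, d ^ n = z
        · obtain ⟨d, rfl⟩ := hpw
          have hd0 : d ≠ 0 := fun e => hz0 (by rw [e, zero_pow (Fact.out : n.Prime).ne_zero])
          rw [← pow_mul, ← pow_two] at hzn
          have h3 : orderOf (Units.mk0 d hd0) ∣ n ^ 2 :=
            orderOf_dvd_of_pow_eq_one (Units.ext (by rw [Units.val_pow_eq_pow_val]; exact hzn))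
          have h4 : orderOf (Units.mk0 d hd0) ∣ Fintype.card F - 1 := by
            rw [← Fintype.card_units]; exact orderOf_dvd_card
          obtain ⟨j, hj, hj'⟩ := (Nat.dvd_prime_pow Fact.out).1 h3
          have hj1 : j ≤ 1 := by
            by_contra hlt
            rw [hj', show j = 2 by omega] at h4
            exact hnsq h4
          have : orderOf (Units.mk0 d hd0) ∣ n := by
            rw [hj']; exact (pow_dvd_pow n hj1).trans (dvd_of_eq (pow_one n))
          rw [orderOf_dvd_iff_pow_eq_one] at this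
          simpa using congrArg Units.val this
        · push Not at hpw
          obtain ⟨k, hk, hdk⟩ := det_of_not_pow (f := f) hfz hpw
          rw [hnf] at hk
          have hk1 : k = 1 := Nat.eq_of_mul_eq_mul_left (by omega : 0 < n) (by omega)
          rw [hfdef, LinearMap.det_toLin', hdet, hk1, pow_one, Even.neg_one_pow (by
            rcases h35 with rfl | rfl <;> decide), one_mul] at hdk
          exact hdk.symm
      obtain ⟨ω₀, hω₀⟩ := exists_prime_orderOf_dvd_card' (G := Fˣ) n
        (by rw [Nat.card_units, Nat.card_eq_fintype_card]; exact hd1)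
      have hω : IsPrimitiveRoot (ω₀ : F) n := by
        rw [IsPrimitiveRoot.coe_units_iff, ← hω₀]; exact IsPrimitiveRoot.orderOf ω₀
      obtain ⟨b₁, d₁, hd₁, hb₁⟩ := exists_eigen hn0 hω (f := f) (fun v => by rw [hfz, hz1, one_smul])
      let b : Basis (Fin n) F (Fin n → F) := b₁.reindex (finCongr hnf)
      let d : Fin n → F := d₁ ∘ (finCongr hnf).symm
      have hbd : ∀ j, f (b j) = d j • b j := fun j => by
        simp only [b, d, Basis.reindex_apply, Function.comp_apply]; exact hb₁ _
      have hprod : ∏ j, d j = 1 := by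
        have h3 : LinearMap.toMatrix b b f = Matrix.diagonal d := by
          ext i j
          rw [LinearMap.toMatrix_apply, hbd, map_smul, Finsupp.smul_apply, Basis.repr_self, Finsupp.single_apply,
            Matrix.diagonal_apply]
          by_cases hij : i = j
          · subst hij; simp
          · simp [hij, Ne.symm hij]
        rw [← Matrix.det_diagonal, ← h3, LinearMap.det_toMatrix, hfdef, LinearMap.det_toLin', hdet]
      obtain ⟨σ, μ, hσ, hμ0, hμ⟩ := symmetric h35 hω d (fun j => hd₁ _) hprod
      obtain ⟨m, hm⟩ : Odd n := by rcases h35 with rfl | rfl <;> decide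
      obtain ⟨e, hedet, he⟩ := exists_into hm h2 q hB f b d hbd σ hσ μ hμ
      exact ⟨e, μ, hedet, hμ0, he⟩

end Cfsg.Agent.S5981
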