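import Cfsg.Statements.S5982
import Cfsg.Agent.Lib.Forms.Elusive.Linear
import Cfsg.Agent.Lib.Forms.Elusive.Involution
import Cfsg.Agent.Lib.Forms.Bases
import Cfsg.Agent.Lib.Classical.UnitaryFrames
import Cfsg.Agent.S5968
import Cfsg.Agent.S5981

set_option autoImplicit false
open scoped MatrixGroups
open Cfsg

namespace Cfsg.Agent.S5982

open Cfsg.Agent.Forms.Elusive Cfsg.Agent.Classical Matrix Module Polynomial

variable {F : Type*} [Field F] [Fintype F]

/-- the automorphism `x ↦ x ^ q₀` -/
theorem exists_conj_aut (p : ℕ) [Fact p.Prime] [CharP F p] (q₀ : ℕ) (h : Fintype.card F = q₀ ^ 2) :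
    ∃ σ : F →+* F, (∀ x, σ x = x ^ q₀) ∧ σ ≠ RingHom.id F ∧ (∀ x, σ (σ x) = x) ∧ ∃ j, q₀ = p ^ j := by
  obtain ⟨k, -, hk⟩ := FiniteField.card F p
  obtain ⟨j, -, hj⟩ := (Nat.dvd_prime_pow (Fact.out : p.Prime)).1 (hk ▸ h ▸ dvd_pow_self q₀ two_ne_zero)
  haveI : ExpChar F p := ExpChar.prime (Fact.out : p.Prime)
  refine ⟨iterateFrobenius F p j, fun x => by rw [iterateFrobenius_def, hj], fun e => ?_, fun x => by
    rw [iterateFrobenius_def, iterateFrobenius_def, ← pow_mul, ← hj, ← pow_two, ← h, FiniteField.pow_card], j, hj⟩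
  obtain ⟨u, hu⟩ := IsCyclic.exists_ofOrder_eq_natCard (α := Fˣ)
  rw [Nat.card_units, Nat.card_eq_fintype_card, h] at hu
  have h1 := RingHom.congr_fun e (u : F)
  rw [iterateFrobenius_def, RingHom.id_apply, ← hj] at h1
  have h2 : 2 ≤ q₀ := by
    by_contra hlt
    have : q₀ ^ 2 ≤ 1 := by interval_cases q₀ <;> norm_num
    have := Fintype.one_lt_card (α := F)
    omega
  have h3 : u ^ (q₀ - 1) = 1 := Units.ext (mul_right_cancel₀ u.ne_zero (by
    rw [Units.val_pow_eq_pow_val, ← pow_succ, Nat.sub_add_cancel (by omega), h1, Units.val_one, one_mul]))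
  have h4 := Nat.le_of_dvd (by omega) (hu ▸ orderOf_dvd_of_pow_eq_one h3)
  have : 2 * q₀ ≤ q₀ ^ 2 := by nlinarith
  omega

/-- orthonormal coordinates -/
theorem coords {n : ℕ} (σ : F →+* F) (hσ1 : σ ≠ RingHom.id F) (hσ2 : ∀ x, σ (σ x) = x) {q₀ : ℕ}
    (hσ : ∀ x, σ x = x ^ q₀) (f : (Fin n → F) → (Fin n → F) → F) (hf : Cfsg.Geo.IsUnitaryFormPow q₀ f) :
    ∃ ε : (Fin n → F) ≃ₗ[F] (Fin n → F), ∀ u v, f u v = ∑ i, ε u i * σ (ε v i) := by
  classical
  have hrs : ∀ (c : F) (x v : Fin n → F), f x (c • v) = σ c * f x v := fun c x v => by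
    rw [hf.herm, hf.smul_left, mul_pow, ← hσ, ← hf.herm]
  have hra : ∀ x u v : Fin n → F, f x (u + v) = f x u + f x v := fun x u v => by
    rw [hf.herm, hf.add_left, ← hσ, map_add, hσ, hσ, ← hf.herm, ← hf.herm]
  let B : (Fin n → F) →ₛₗ[σ] (Fin n → F) →ₗ[F] F := LinearMap.mk₂'ₛₗ σ (RingHom.id F) (fun u v => f v u)
    (fun u u' v => hra v u u') (fun c u v => hrs c v u) (fun u v v' => hf.add_left v v' u)
    (fun c u v => hf.smul_left c v u)
  have hS : B.IsSymm := ⟨fun x y => by
    show σ (f y x) = f x y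
    rw [hσ, ← hf.herm]⟩
  have hB : B.SeparatingLeft := fun x hx => by
    by_contra h0
    obtain ⟨⟨w, hw⟩, -⟩ := hf.nondegenerate x h0
    exact hw (hx w)
  obtain ⟨b₀, hb₀⟩ := Forms.Bases.exists_orthonormal_basis σ hσ1 hσ2 B hS hB
  let b := b₀.reindex (finCongr (Module.finrank_fin_fun F (n := n)))
  have hb : ∀ i j, f (b i) (b j) = if i = j then 1 else 0 := fun i j => by
    show B (b j) (b i) = _
    simp only [b, Basis.reindex_apply, hb₀]
    exact if_congr ⟨fun e => ((finCongr _).symm.injective e).symm, fun e => by rw [e]⟩ rfl rfl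
  refine ⟨b.equivFun, fun u v => ?_⟩
  conv_lhs => rw [← b.sum_equivFun u, ← b.sum_equivFun v]
  show B (∑ i, b.equivFun v i • b i) (∑ i, b.equivFun u i • b i) = _
  rw [map_sum]
  refine Finset.sum_congr rfl fun i _ => ?_
  rw [map_smul, map_sum, LinearMap.sum_apply, Finset.sum_eq_single i, LinearMap.map_smulₛₗ, LinearMap.smul_apply,
    smul_eq_mul, smul_eq_mul]
  · show _ * (_ * f (b i) (b i)) = _
    rw [hb, if_pos rfl, mul_one]
  · intro j _ hji
    rw [LinearMap.map_smulₛₗ, LinearMap.smul_apply, smul_eq_mul]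
    show _ * f (b i) (b j) = 0
    rw [hb, if_neg (Ne.symm hji), mul_zero]
  · simp

omit [Fintype F] in
theorem herm_matrix {n : ℕ} (σ : F →+* F) (M : Matrix (Fin n) (Fin n) F) (μ : F)
    (h : ∀ u v : Fin n → F, ∑ i, (M *ᵥ u) i * σ ((M *ᵥ v) i) = μ * ∑ i, u i * σ (v i)) :
    Mᵀ * M.map σ = μ • 1 := by
  ext j k
  have h1 := h (Pi.single j 1) (Pi.single k 1)
  simp only [Matrix.mulVec_single_one, Matrix.col_apply] at h1
  rw [Matrix.mul_apply]
  simp only [Matrix.transpose_apply, Matrix.map_apply]
  rw [h1, Matrix.smul_apply, smul_eq_mul, Matrix.one_apply, Finset.sum_eq_single j]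
  · rw [Pi.single_eq_same, one_mul]
    by_cases hjk : j = k
    · subst hjk; simp
    · simp [hjk]
  · intro i _ hi; simp [hi]
  · simp

/-- the index of the unitary group -/
theorem index_cases {n q₀ : ℕ} (hn : 0 < n) (hF : Fintype.card F = q₀ ^ 2) (σ : F →+* F) (hσ : ∀ x, σ x = x ^ q₀)
    (ε : (Fin n → F) ≃ₗ[F] (Fin n → F)) (H : Subgroup (GL (Fin n) F))
    (hH : ∀ g : GL (Fin n) F, (∀ u v : Fin n → F, ∑ i, ε ((g : Matrix (Fin n) (Fin n) F) *ᵥ u) i *
      σ (ε ((g : Matrix (Fin n) (Fin n) F) *ᵥ v) i) = ∑ i, ε u i * σ (ε v i)) → g ∈ H)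
    {r : ℕ} [hr : Fact r.Prime] (hrq : ¬ r ∣ q₀) (hd : r ∣ H.relIndex (Cfsg.Geo.specialLinear (Fin n) F)) :
    ∃ j, 2 ≤ j ∧ j ≤ n ∧ ((Odd j ∧ (q₀ : ZMod r) ^ j = 1) ∨ (Even j ∧ (q₀ : ZMod r) ^ j = -1)) := by
  classical
  set T := Cfsg.Geo.specialLinear (Fin n) F
  haveI : Nonempty (Fin n) := ⟨⟨0, hn⟩⟩
  set E : GL (Fin n) F := Matrix.GeneralLinearGroup.mkOfDetNeZero (LinearMap.toMatrix' ε.toLinearMap)
    (by rw [LinearMap.det_toMatrix', ← LinearEquiv.coe_det]; exact Units.ne_zero _)
  have hE : ∀ v, (E : Matrix (Fin n) (Fin n) F) *ᵥ v = ε v := fun v => LinearMap.toMatrix'_mulVec _ _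
  set O := (Cfsg.GU n F q₀).map (MulAut.conj E⁻¹).toMonoidHom with hO
  have hmemGU : ∀ g : GL (Fin n) F, g ∈ Cfsg.GU n F q₀ →
      ∀ u v : Fin n → F, ∑ i, ((g : Matrix (Fin n) (Fin n) F) *ᵥ u) i * σ (((g : Matrix (Fin n) (Fin n) F) *ᵥ v) i) =
        ∑ i, u i * σ (v i) := fun g hg u v => by
    have := hg u v
    simp only [Cfsg.hermForm, ← hσ] at this
    exact this
  have hOH : O ≤ H := by
    rintro _ ⟨g, hg, rfl⟩
    refine hH _ fun u v => ?_
    have key : ∀ w, ε (((MulAut.conj E⁻¹) g : GL (Fin n) F).1 *ᵥ w) = (g : Matrix (Fin n) (Fin n) F) *ᵥ ε w := fun w => by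
      rw [← hE, ← hE w, MulAut.conj_apply, inv_inv, Matrix.mulVec_mulVec, Matrix.mulVec_mulVec, ← Units.val_mul,
        ← Units.val_mul, ← mul_assoc, ← mul_assoc, mul_inv_cancel, one_mul]
    show ∑ i, ε (((MulAut.conj E⁻¹) g : GL (Fin n) F).1 *ᵥ u) i * σ (ε (((MulAut.conj E⁻¹) g : GL (Fin n) F).1 *ᵥ v) i) = _
    rw [key, key]
    exact hmemGU g hg _ _
  have hOcard : Nat.card O = Nat.card (Cfsg.GU n F q₀) :=
    (Nat.card_congr (Subgroup.equivMapOfInjective _ _ (MulAut.conj E⁻¹).injective).toEquiv).symm
  have h1 : Nat.card O ∣ (q₀ + 1) * Nat.card ↥(H ⊓ T) := by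
    have e1 := Subgroup.card_mul_index (T.subgroupOf O)
    have e2 : Nat.card (T.subgroupOf O) ∣ Nat.card ↥(H ⊓ T) := by
      rw [← Subgroup.inf_subgroupOf_right, Nat.card_congr (Subgroup.subgroupOfEquivOfLe (inf_le_right : T ⊓ O ≤ O)).toEquiv]
      exact Subgroup.card_dvd_of_le (le_inf ((inf_le_right).trans hOH) inf_le_left)
    have e3 : (T.subgroupOf O).index ∣ q₀ + 1 := by
      have : T.subgroupOf O = ((Matrix.GeneralLinearGroup.det : GL (Fin n) F →* Fˣ).comp O.subtype).ker := rfl
      rw [this, Subgroup.index_ker]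
      refine (Subgroup.card_dvd_of_le (K := rootsOfUnity (q₀ + 1) F) ?_).trans ?_
      · rintro _ ⟨⟨y, g, hg, rfl⟩, rfl⟩
        rw [mem_rootsOfUnity']
        show ((Matrix.GeneralLinearGroup.det ((MulAut.conj E⁻¹) g) : Fˣ) : F) ^ (q₀ + 1) = 1
        rw [MulAut.conj_apply, map_mul, map_mul, mul_right_comm, ← map_mul, mul_inv_cancel, map_one, one_mul,
          Matrix.GeneralLinearGroup.val_det_apply]
        have h3 := congrArg Matrix.det (herm_matrix σ (g : Matrix (Fin n) (Fin n) F) 1 fun u v => by
          rw [one_mul]; exact hmemGU g hg u v)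
        rw [one_smul, Matrix.det_one, Matrix.det_mul, Matrix.det_transpose,
          show (g : Matrix (Fin n) (Fin n) F).map σ = σ.mapMatrix (g : Matrix (Fin n) (Fin n) F) from rfl,
          ← RingHom.map_det, hσ] at h3
        rw [pow_succ', h3]
      · rw [Linear.natCard_rootsOfUnity_eq_gcd]; exact Nat.gcd_dvd_left _ _
    rw [← e1, mul_comm (q₀ + 1)]
    exact mul_dvd_mul e2 e3
  set q := Fintype.card F with hq
  have hT : Nat.card (GL (Fin n) F) = (q - 1) * Nat.card T := by
    rw [← T.index_mul_card]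
    congr 1
    show (Matrix.GeneralLinearGroup.det : GL (Fin n) F →* Fˣ).ker.index = _
    rw [Subgroup.index_ker, MonoidHom.range_eq_top.2 Linear.det_surjective_of_nonempty, Subgroup.card_top,
      Linear.natCard_units_eq]
  have h2 : H.relIndex T * Nat.card ↥(H ⊓ T) = Nat.card T := by
    rw [← Subgroup.inf_relIndex_right, mul_comm, ← Subgroup.relIndex_bot_left, ← Subgroup.relIndex_bot_left,
      Subgroup.relIndex_mul_relIndex ⊥ (H ⊓ T) T bot_le inf_le_right]
  obtain ⟨K, hK⟩ : ∃ K, Nat.card (GL (Fin n) F) = q ^ K * ∏ i ∈ Finset.range n, (q ^ (i + 1) - 1) := by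
    refine ⟨∑ i : Fin n, (i : ℕ), ?_⟩
    rw [Matrix.card_GL_field, ← Finset.prod_range_reflect (fun i => q ^ (i + 1) - 1),
      ← Fin.prod_univ_eq_prod_range (fun j => q ^ (n - 1 - j + 1) - 1), ← Finset.prod_pow_eq_pow_sum,
      ← Finset.prod_mul_distrib]
    refine Finset.prod_congr rfl fun i _ => ?_
    rw [show n - 1 - (i : ℕ) + 1 = n - i by omega, Nat.mul_sub, ← pow_add, Nat.add_sub_cancel' i.2.le, mul_one]
  set G := ∏ i ∈ Finset.range n, (if Even i then q₀ ^ (i + 1) + 1 else q₀ ^ (i + 1) - 1) with hG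
  obtain ⟨m, rfl⟩ : ∃ m, n = m + 1 := ⟨n - 1, by omega⟩
  set R := ∏ i ∈ Finset.range m, (if Even i then q₀ ^ (i + 2) + 1 else q₀ ^ (i + 2) - 1) with hR
  have hsplit : ∏ i ∈ Finset.range (m + 1), (q ^ (i + 1) - 1) = G * ((q₀ - 1) * R) := by
    have hS : (q₀ - 1) * R = ∏ i ∈ Finset.range (m + 1), (if Even i then q₀ ^ (i + 1) - 1 else q₀ ^ (i + 1) + 1) := by
      rw [Finset.prod_range_succ', mul_comm, hR]
      congr 1
      · exact Finset.prod_congr rfl fun i _ => by by_cases hi : Even i <;> simp [hi, parity_simps]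
      · simp
    rw [hS, hG, ← Finset.prod_mul_distrib]
    refine Finset.prod_congr rfl fun i _ => ?_
    have e := Nat.sq_sub_sq (q₀ ^ (i + 1)) 1
    rw [one_pow, ← pow_mul, mul_comm (i + 1), pow_mul, ← hF] at e
    split_ifs <;> rw [e] <;> ring
  have hq0 : 1 < q₀ := by
    by_contra hlt
    have : q₀ ^ 2 ≤ 1 := by interval_cases q₀ <;> norm_num
    have := Fintype.one_lt_card (α := F)
    omega
  have hq1 : q - 1 = (q₀ + 1) * (q₀ - 1) := by rw [hF]; simpa using Nat.sq_sub_sq q₀ 1
  have hGpos : 0 < G := Finset.prod_pos fun i _ => by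
    split_ifs
    · positivity
    · exact Nat.sub_pos_of_lt (Nat.one_lt_pow (by omega) hq0)
  have h3 : H.relIndex T * q₀ ^ ((m + 1) * (m + 1 - 1) / 2) ∣ q ^ K * R := by
    refine Nat.dvd_of_mul_dvd_mul_left (Nat.mul_pos (Nat.mul_pos (show 0 < q₀ + 1 by omega) (by omega : 0 < q₀ - 1)) hGpos) ?_
    have h4 : (q - 1) * (H.relIndex T * Nat.card O) ∣ (q₀ + 1) * Nat.card (GL (Fin (m + 1)) F) := by
      rw [hT, ← h2, ← mul_left_comm (q - 1)]
      refine mul_dvd_mul_left _ ?_
      rw [mul_left_comm]; exact mul_dvd_mul_left _ h1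
    rw [hK, hsplit, hOcard, Unitary.natCard_GU hF, hq1, ← hG] at h4
    exact (dvd_of_eq (by ring)).trans (h4.trans (dvd_of_eq (by ring)))
  rcases hr.out.dvd_mul.1 ((hd.mul_right _).trans h3) with h5 | h5
  · exact absurd (hr.out.dvd_of_dvd_pow (hF ▸ hr.out.dvd_of_dvd_pow h5)) hrq
  obtain ⟨i, hi, hir⟩ := (hr.out.prime.dvd_finsetProd_iff _).1 h5
  refine ⟨i + 2, by omega, by have := Finset.mem_range.1 hi; omega, ?_⟩
  by_cases he : Even i
  · rw [if_pos he] at hir
    refine Or.inr ⟨by simp [he, parity_simps], ?_⟩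
    rw [eq_neg_iff_add_eq_zero, ← Nat.cast_pow, ← Nat.cast_one (R := ZMod r), ← Nat.cast_add, ZMod.natCast_eq_zero_iff]
    exact hir
  · rw [if_neg he] at hir
    refine Or.inl ⟨by rw [← Nat.not_even_iff_odd]; simp [he, parity_simps], ?_⟩
    rw [← sub_eq_zero, ← Nat.cast_pow, ← Nat.cast_one (R := ZMod r),
      ← Nat.cast_sub (Nat.one_le_pow _ _ (by omega)), ZMod.natCast_eq_zero_iff]
    exact hir

omit [Fintype F] in
theorem map_aeval {n : ℕ} (σ : F →+* F) (A : Matrix (Fin n) (Fin n) F) (R : F[X]) :
    σ.mapMatrix (aeval A R) = aeval (σ.mapMatrix A) (R.map σ) := by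
  induction R using Polynomial.induction_on' with
  | add R R' hR hR' => rw [map_add, map_add, Polynomial.map_add, map_add, hR, hR']
  | monomial k c =>
    rw [aeval_monomial, Polynomial.map_monomial, aeval_monomial, map_mul, map_pow]
    congr 1
    ext i j
    by_cases hij : i = j
    · subst hij; simp [Matrix.algebraMap_matrix_apply]
    · simp [Matrix.algebraMap_matrix_apply, hij]

omit [Fintype F] in
/-- multiplicities of a diagonal similitude with entries fixed by `σ` -/
theorem diag_test {n : ℕ} (σ : F →+* F) (d : Fin n → F) (hd : ∀ l, d l ≠ 0) (hdσ : ∀ l, σ (d l) = d l)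
    (P g : GL (Fin n) F) {μ : F}
    (hg : (g : Matrix (Fin n) (Fin n) F) =
      ((P⁻¹ : GL (Fin n) F) : Matrix (Fin n) (Fin n) F) * Matrix.diagonal d * (P : Matrix (Fin n) (Fin n) F))
    (h : (g : Matrix (Fin n) (Fin n) F)ᵀ * (g : Matrix (Fin n) (Fin n) F).map σ = μ • 1)
    [DecidableEq F] (t : F) :
    (Finset.univ.filter fun l => d l = t).card = (Finset.univ.filter fun l => μ = t * d l).card := by
  classical
  set P' : GL (Fin n) F := Matrix.GeneralLinearGroup.map σ P
  have e1 : (g : Matrix (Fin n) (Fin n) F).map σ =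
      ((P'⁻¹ : GL (Fin n) F) : Matrix (Fin n) (Fin n) F) * Matrix.diagonal d * (P' : Matrix (Fin n) (Fin n) F) := by
    rw [show (g : Matrix (Fin n) (Fin n) F).map σ = σ.mapMatrix (g : Matrix (Fin n) (Fin n) F) from rfl, hg, map_mul,
      map_mul, show σ.mapMatrix (Matrix.diagonal d) = Matrix.diagonal d by
        rw [RingHom.mapMatrix_apply, Matrix.diagonal_map (map_zero σ)]; exact congrArg _ (funext hdσ),
      ← map_inv]
    rfl
  have e2 : (g : Matrix (Fin n) (Fin n) F)ᵀ =
      μ • (((P'⁻¹ : GL (Fin n) F) : Matrix (Fin n) (Fin n) F) * Matrix.diagonal (fun l => (d l)⁻¹) *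
        (P' : Matrix (Fin n) (Fin n) F)) := by
    have e3 := congrArg (· * (((P'⁻¹ : GL (Fin n) F) : Matrix (Fin n) (Fin n) F) * Matrix.diagonal (fun l => (d l)⁻¹) *
        (P' : Matrix (Fin n) (Fin n) F))) h
    simp only [smul_mul_assoc, one_mul] at e3
    rw [← e3, mul_assoc, e1]
    symm
    calc _ = (g : Matrix (Fin n) (Fin n) F)ᵀ * (((P'⁻¹ : GL (Fin n) F) : Matrix (Fin n) (Fin n) F) *
          (Matrix.diagonal d * ((P' : Matrix (Fin n) (Fin n) F) * ((P'⁻¹ : GL (Fin n) F) : Matrix (Fin n) (Fin n) F)) *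
            Matrix.diagonal (fun l => (d l)⁻¹)) * (P' : Matrix (Fin n) (Fin n) F)) := by simp only [mul_assoc]
      _ = _ := by
        rw [← Units.val_mul, mul_inv_cancel, Units.val_one, mul_one, Matrix.diagonal_mul_diagonal,
          show (fun l => d l * (d l)⁻¹) = fun _ => (1 : F) from funext fun l => mul_inv_cancel₀ (hd l),
          Matrix.diagonal_one, mul_one, ← Units.val_mul, inv_mul_cancel, Units.val_one, mul_one]
  have h3 : ((g : Matrix (Fin n) (Fin n) F) - t • 1).rank = ((g : Matrix (Fin n) (Fin n) F)ᵀ - t • 1).rank := by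
    rw [← Matrix.rank_transpose, Matrix.transpose_sub, Matrix.transpose_smul, Matrix.transpose_one]
  rw [e2, ← smul_mul_assoc, ← mul_smul_comm, S5979.rank_conj, hg, S5979.rank_conj, ← Matrix.diagonal_smul,
    Matrix.smul_one_eq_diagonal, Matrix.diagonal_sub, Matrix.diagonal_sub, Matrix.rank_diagonal,
    Matrix.rank_diagonal, Fintype.card_subtype, Fintype.card_subtype] at h3
  have h1 := Finset.card_filter_add_card_filter_not (s := (Finset.univ : Finset (Fin n))) (fun l => d l = t)
  have h2 := Finset.card_filter_add_card_filter_not (s := (Finset.univ : Finset (Fin n)))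
    (fun l => μ * (d l)⁻¹ = t)
  simp only [sub_ne_zero, Pi.smul_apply, smul_eq_mul] at h3
  rw [show (Finset.univ.filter fun l => μ = t * d l) = Finset.univ.filter fun l => μ * (d l)⁻¹ = t from
    Finset.filter_congr fun l _ => (mul_inv_eq_iff_eq_mul₀ (hd l)).symm]
  simp only [ne_eq] at h3
  omega



/-- an element with a diagonalisation symmetric about a centre is conjugate to a similitude -/
theorem exists_into {n : ℕ} [NeZero n] (σ : F →+* F) (hσ1 : σ ≠ RingHom.id F) (hσ2 : ∀ x, σ (σ x) = x) {q₀ : ℕ}
    (hσ : ∀ x, σ x = x ^ q₀) (f : (Fin n → F) → (Fin n → F) → F) (hf : Cfsg.Geo.IsUnitaryFormPow q₀ f)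
    (φ : (Fin n → F) →ₗ[F] (Fin n → F)) (b : Basis (Fin n) F (Fin n → F)) (d : Fin n → F)
    (hd : ∀ j, φ (b j) = d j • b j) (hdσ : ∀ j, σ (d j) = d j) (π : Fin n → Fin n) (hπ : ∀ j, π (π j) = j) (μ : F)
    (hμ : ∀ j, d j * d (π j) = μ) :
    ∃ e : (Fin n → F) ≃ₗ[F] (Fin n → F), LinearEquiv.det e = 1 ∧
      ∀ u v, f (e (φ (e.symm u))) (e (φ (e.symm v))) = μ * f u v := by
  classical
  let f' : (Fin n → F) → (Fin n → F) → F := fun u v => ∑ j, b.equivFun u j * σ (b.equivFun v (π j))
  have hf' : Cfsg.Geo.IsUnitaryFormPow q₀ f' := by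
    refine ⟨fun x y v => by simp only [f', map_add, Pi.add_apply, add_mul, Finset.sum_add_distrib],
      fun c x v => by simp only [f', map_smul, Pi.smul_apply, smul_eq_mul, mul_assoc, Finset.mul_sum],
      fun v w => ?_, fun v hv => ?_⟩
    · simp only [f']
      rw [← hσ, map_sum]
      refine Fintype.sum_equiv (Function.Involutive.toPerm π hπ) _ _ fun j => ?_
      show b.equivFun v j * σ (b.equivFun w (π j)) = σ (b.equivFun w (π j) * σ (b.equivFun v (π (π j))))
      rw [hπ, map_mul, hσ2, mul_comm]
    · obtain ⟨j, hj⟩ := Function.ne_iff.1 (fun e => hv (b.equivFun.map_eq_zero_iff.1 e) : b.equivFun v ≠ 0)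
      refine ⟨⟨b.equivFun.symm (Pi.single (π j) 1), ?_⟩, ⟨b.equivFun.symm (Pi.single (π j) 1), ?_⟩⟩
      all_goals simp only [f', LinearEquiv.apply_symm_apply]
      all_goals
        first
        | (rw [Finset.sum_eq_single j]
           · simpa using hj
           · intro k _ hk; simp [show π k ≠ π j from fun e => hk (by rw [← hπ k, e, hπ])]
           · simp)
        | (rw [Finset.sum_eq_single (π j)]
           · simpa [hπ] using hj
           · intro k _ hk; simp [hk]
           · simp)
  obtain ⟨ε', hε'⟩ := coords σ hσ1 hσ2 hσ f' hf'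
  obtain ⟨ε, hε⟩ := coords σ hσ1 hσ2 hσ f hf
  let e₀ : (Fin n → F) ≃ₗ[F] (Fin n → F) := ε'.trans ε.symm
  have he₀ : ∀ u v, f (e₀ u) (e₀ v) = f' u v := fun u v => by
    rw [hε, hε']; simp only [e₀, LinearEquiv.trans_apply, LinearEquiv.apply_symm_apply]
  have hφc : ∀ v, b.equivFun (φ v) = fun j => d j * b.equivFun v j := fun v => by
    conv_lhs => rw [← b.sum_equivFun v]
    rw [map_sum, show ∑ j, φ (b.equivFun v j • b j) = ∑ j, (d j * b.equivFun v j) • b j from
      Finset.sum_congr rfl fun j _ => by rw [map_smul, hd, smul_smul, mul_comm]]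
    exact b.equivFun_symm_apply _ ▸ b.equivFun.apply_symm_apply _
  have hφ : ∀ u v, f' (φ u) (φ v) = μ * f' u v := fun u v => by
    simp only [f', hφc, map_mul, hdσ, Finset.mul_sum]
    exact Finset.sum_congr rfl fun j _ => by rw [← hμ j]; ring
  obtain ⟨C, hC, hCdet⟩ := Inv.exists_scale b fun j => if j = 0 then (LinearEquiv.det e₀)⁻¹ else 1
  have hCf : ∀ v, C (φ v) = φ (C v) := fun v => by
    have : C.toLinearMap ∘ₗ φ = φ ∘ₗ C.toLinearMap := b.ext fun j => by
      simp only [LinearMap.comp_apply, LinearEquiv.coe_coe, hd, map_smul, hC, smul_comm (d j)]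
    exact LinearMap.congr_fun this v
  refine ⟨C.trans e₀, by rw [LinearEquiv.det_trans, hCdet]; simp, fun u v => ?_⟩
  have key : ∀ w, (C.trans e₀) (φ ((C.trans e₀).symm w)) = e₀ (φ (e₀.symm w)) := fun w => by
    show e₀ (C (φ (C.symm (e₀.symm w)))) = _
    rw [hCf, C.apply_symm_apply]
  rw [key, key, he₀, hφ, ← he₀, e₀.apply_symm_apply, e₀.apply_symm_apply]

/-- Elements of prime order of PSL_n(q), q = q₀², and the subgroups of unitary type. Here `T = PSL_n(F)` for a field `F` with `q = q₀²` elements (`n ≥ 3`), `f` is a non-degenerate unitary form on `F^n` for the involutory automorphism `x ↦ x^{q₀}`, and `H` is the subgroup of matrices of determinant 1 that preserve `f` up to a scalar — a subgroup of type GU_n(q₀) (maximality is not assumed); Ω is the set of cosets of `H` in `T`, so an element of `T` of prime order `r` (a matrix `x` of determinant 1 with `x^r` scalar, `x` not scalar) fixes a point of Ω exactly when some conjugate of `x` by a matrix of determinant 1 preserves `f` up to a scalar. Let `r` be a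 prime dividing the index of `H`, with `r = 2` or `r` different from the characteristic `p`, and with `(n, r) ≠ (6, 3)`. Then every element of `T` of order `r` fixes a point of Ω if and only if either `r = 2` and (`p = 2` or `(n)_2 ≤ (q − 1)_2`), or `r ∈ {3, 5}`, `n = r` and `(q₀ − 1)_r = r`. (Odd `r = p` and the case `(n, r) = (6, 3)` are not covered by this statement.) -/
theorem result {F : Type*} [Field F] [Fintype F] {p : ℕ} [Fact p.Prime] [CharP F p] {q : ℕ} (hq : Fintype.card F = q)
    (q₀ : ℕ) (hq₀ : q = q₀ ^ 2) (n : ℕ) (hn : 3 ≤ n) (f : (Fin n → F) → (Fin n → F) → F) (hf : Cfsg.Geo.IsUnitaryFormPow q₀ f)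
    (r : ℕ) [Fact r.Prime] (hr : r = 2 ∨ r ≠ p) (hgap : ¬ (n = 6 ∧ r = 3))
    (hΩ : r ∣ (Cfsg.Geo.similarityGroup f).relIndex (Cfsg.Geo.specialLinear (Fin n) F)) :
    (∀ x ∈ Cfsg.Geo.specialLinear (Fin n) F, (∃ z : F, ((x ^ r : GL (Fin n) F) : Matrix (Fin n) (Fin n) F) = z • (1 : Matrix (Fin n) (Fin n) F)) →
      (∀ z : F, (x : Matrix (Fin n) (Fin n) F) ≠ z • (1 : Matrix (Fin n) (Fin n) F)) →
      ∃ g ∈ Cfsg.Geo.specialLinear (Fin n) F, g⁻¹ * x * g ∈ Cfsg.Geo.similarityGroup f) ↔
    ((r = 2 ∧ (p = 2 ∨ padicValNat 2 n ≤ padicValNat 2 (q - 1))) ∨ ((r = 3 ∨ r = 5) ∧ n = r ∧ padicValNat r (q₀ - 1) = 1)) := by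
  classical
  subst hq
  haveI : NeZero n := ⟨by omega⟩
  haveI : Nontrivial (Fin n → F) := inferInstance
  obtain ⟨σ, hσ, hσ1, hσ2, jp, hjp⟩ := exists_conj_aut p q₀ hq₀
  obtain ⟨ε, hε⟩ := coords σ hσ1 hσ2 hσ f hf
  have hnf : finrank F (Fin n → F) = n := Module.finrank_fin_fun F
  have hq0 : 1 < q₀ := by
    by_contra hlt
    have : q₀ ^ 2 ≤ 1 := by interval_cases q₀ <;> norm_num
    have := Fintype.one_lt_card (α := F)
    omega
  have hq₀1 : 1 ≤ q₀ := hq0.le
  have hqq : Fintype.card F - 1 = (q₀ + 1) * (q₀ - 1) := by rw [hq₀]; simpa using Nat.sq_sub_sq q₀ 1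
  set E : GL (Fin n) F := Matrix.GeneralLinearGroup.mkOfDetNeZero (LinearMap.toMatrix' ε.toLinearMap)
    (by rw [LinearMap.det_toMatrix', ← LinearEquiv.coe_det]; exact Units.ne_zero _)
  have hE : ∀ v, (E : Matrix (Fin n) (Fin n) F) *ᵥ v = ε v := fun v => LinearMap.toMatrix'_mulVec _ _
  constructor
  · intro hall
    have test : ∀ (Y : Matrix (Fin n) (Fin n) F), Y.det = 1 → (∃ z : F, Y ^ r = z • 1) → (∀ z : F, Y ≠ z • 1) →
        ∃ (P g : GL (Fin n) F) (μ : F), μ ≠ 0 ∧ (g : Matrix (Fin n) (Fin n) F) =
          ((P⁻¹ : GL (Fin n) F) : Matrix (Fin n) (Fin n) F) * Y * (P : Matrix (Fin n) (Fin n) F) ∧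
          (g : Matrix (Fin n) (Fin n) F)ᵀ * (g : Matrix (Fin n) (Fin n) F).map σ = μ • 1 ∧
          σ μ = μ ∧ (Y ^ r = 1 → g ^ r = 1 ∧ μ ^ r = 1) := by
      intro Y hY ⟨z, hz⟩ hns
      let x : GL (Fin n) F := Matrix.GeneralLinearGroup.mkOfDetNeZero Y (by rw [hY]; exact one_ne_zero)
      have hxY : (x : Matrix (Fin n) (Fin n) F) = Y := rfl
      obtain ⟨P, -, κ, hκ⟩ := hall x (by
        rw [Cfsg.Geo.specialLinear, MonoidHom.mem_ker]
        exact Units.ext (by rw [Matrix.GeneralLinearGroup.val_det_apply, Units.val_one, hxY, hY]))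
        ⟨z, by rw [Units.val_pow_eq_pow_val, hxY, hz]⟩ (fun c hc => hns c (hxY ▸ hc))
      set g := (P * E⁻¹)⁻¹ * x * (P * E⁻¹) with hg
      have hgv : ∀ u, (g : Matrix (Fin n) (Fin n) F) *ᵥ ε u =
          ε (((P⁻¹ * x * P : GL (Fin n) F) : Matrix (Fin n) (Fin n) F) *ᵥ u) := fun u => by
        rw [← hE, ← hE, Matrix.mulVec_mulVec, Matrix.mulVec_mulVec, ← Units.val_mul, ← Units.val_mul, hg]
        congr 2
        group
      have hsim : (g : Matrix (Fin n) (Fin n) F)ᵀ * (g : Matrix (Fin n) (Fin n) F).map σ = (κ : F) • 1 :=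
        herm_matrix σ _ _ fun u v => by
          obtain ⟨u, rfl⟩ := ε.surjective u
          obtain ⟨v, rfl⟩ := ε.surjective v
          rw [hgv, hgv, ← hε, ← hε]
          exact hκ u v
      have hμσ : σ (κ : F) = κ := by
        have e1 := congrArg (fun M : Matrix (Fin n) (Fin n) F => (σ.mapMatrix M)ᵀ) hsim
        simp only [map_mul, Matrix.transpose_mul, RingHom.mapMatrix_apply, Matrix.map_map, Matrix.transpose_map,
          Matrix.transpose_transpose] at e1
        rw [show ((σ : F → F) ∘ (σ : F → F)) = id from funext hσ2, Matrix.map_id, hsim] at e1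
        have e2 := congrFun (congrFun e1 0) 0
        simp at e2
        exact e2.symm
      refine ⟨P * E⁻¹, g, κ, κ.ne_zero, by rw [hg, Units.val_mul, Units.val_mul, hxY], hsim, hμσ, fun h1 => ?_⟩
      have hgr : g ^ r = 1 := Units.ext (by
        rw [Units.val_pow_eq_pow_val, hg, Units.val_mul, Units.val_mul, Units.conj_pow', hxY, h1, mul_one,
          ← Units.val_mul, inv_mul_cancel, Units.val_one])
      refine ⟨hgr, ?_⟩
      set G' : GL (Fin n) F := Matrix.GeneralLinearGroup.map σ g
      have hT : (g : Matrix (Fin n) (Fin n) F)ᵀ = (κ : F) • ((G'⁻¹ : GL (Fin n) F) : Matrix (Fin n) (Fin n) F) := by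
        have e1 := congrArg (· * ((G'⁻¹ : GL (Fin n) F) : Matrix (Fin n) (Fin n) F)) hsim
        simp only [smul_mul_assoc, one_mul] at e1
        rw [← e1, mul_assoc, show (g : Matrix (Fin n) (Fin n) F).map σ = (G' : Matrix (Fin n) (Fin n) F) from rfl,
          ← Units.val_mul, mul_inv_cancel, Units.val_one, mul_one]
      have e2 := congrArg (· ^ r) hT
      simp only [_root_.smul_pow, ← Matrix.transpose_pow, ← Units.val_pow_eq_pow_val, inv_pow] at e2
      rw [show G' ^ r = 1 by rw [← map_pow, hgr, map_one], hgr, inv_one, Units.val_one, Matrix.transpose_one] at e2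
      have e3 := congrFun (congrFun e2 0) 0
      simp at e3
      exact e3.symm
    rcases (Fact.out : r.Prime).eq_two_or_odd' with rfl | hrodd
    · refine Or.inl ⟨rfl, ?_⟩
      by_contra hcon
      push Not at hcon
      obtain ⟨hp2, hv⟩ := hcon
      haveI : Fact (Nat.Prime 2) := ⟨Nat.prime_two⟩
      have hchar : ringChar F ≠ 2 := by rw [ringChar.eq F p]; exact hp2
      have hodd := Nat.odd_iff.2 (FiniteField.odd_card_of_char_ne_two hchar)
      have h2q : 2 ∣ Fintype.card F - 1 := by obtain ⟨w, hw⟩ := hodd; exact ⟨w, by omega⟩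
      obtain ⟨m, rfl⟩ : 2 ∣ n := by
        by_contra hnd
        rw [padicValNat.eq_zero_of_not_dvd hnd] at hv
        omega
      obtain ⟨c, hc, hcm⟩ := (exists_twist_iff h2q rfl (by omega : 0 < m)).2 fun hh => by omega
      obtain ⟨A, hA, hdet⟩ := exists_model_scalar 2 hc m
      have hA2 : A ^ 2 = c • 1 := Matrix.toLin'.injective (LinearMap.ext fun v => by
        rw [Matrix.toLin'_pow, map_smul, Matrix.toLin'_one]; exact hA v)
      obtain ⟨P, g, μ, hμ0, hg, hsim, hμσ, -⟩ := test A (hdet.trans hcm) ⟨c, hA2⟩ (fun z hz => hc z (by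
        have h1 := congrFun (congrFun hA2 0) 0
        rw [hz, _root_.smul_pow, one_pow] at h1
        simpa using h1))
      have hg2 : (g : Matrix (Fin (2 * m)) (Fin (2 * m)) F) * (g : Matrix (Fin (2 * m)) (Fin (2 * m)) F) = c • 1 := by
        rw [← pow_two, hg, Units.conj_pow', hA2, mul_smul_comm, smul_mul_assoc, mul_one, ← Units.val_mul,
          inv_mul_cancel, Units.val_one]
      have hgt : (g : Matrix (Fin (2 * m)) (Fin (2 * m)) F)ᵀ * (g : Matrix (Fin (2 * m)) (Fin (2 * m)) F)ᵀ = c • 1 := by
        rw [← Matrix.transpose_mul, hg2, Matrix.transpose_smul, Matrix.transpose_one]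
      have hgσ : (g : Matrix (Fin (2 * m)) (Fin (2 * m)) F).map σ * (g : Matrix (Fin (2 * m)) (Fin (2 * m)) F).map σ = σ c • 1 := by
        have := congrArg σ.mapMatrix hg2
        rw [map_mul, RingHom.mapMatrix_apply, RingHom.mapMatrix_apply] at this
        rw [this]
        ext i j
        by_cases hij : i = j
        · subst hij; simp
        · simp [hij]
      have hc2 : c * σ c = μ * μ := by
        have e0 : (g : Matrix (Fin (2 * m)) (Fin (2 * m)) F)ᵀ * ((g : Matrix (Fin (2 * m)) (Fin (2 * m)) F)ᵀ * (g : Matrix (Fin (2 * m)) (Fin (2 * m)) F).map σ) * (g : Matrix (Fin (2 * m)) (Fin (2 * m)) F).map σ =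
            (c * σ c) • 1 := by
          rw [← mul_assoc, hgt, smul_mul_assoc, one_mul, smul_mul_assoc, hgσ, smul_smul]
        rw [hsim, mul_smul_comm, mul_one, smul_mul_assoc, hsim, smul_smul] at e0
        have := congrFun (congrFun e0 0) 0
        simp at this
        exact this.symm
      have hc0 : c ≠ 0 := fun e => hc 0 (by rw [e, zero_pow two_ne_zero])
      have hsq : IsSquare c := by
        refine (FiniteField.isSquare_iff hchar hc0).2 ?_
        obtain ⟨w, hw⟩ : Odd q₀ := by rw [hq₀] at hodd; exact (Nat.odd_pow_iff two_ne_zero).1 hodd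
        rw [show Fintype.card F / 2 = (q₀ + 1) * w by
          rw [hq₀, hw, show (2 * w + 1) ^ 2 = 2 * ((2 * w + 1 + 1) * w) + 1 by ring]; omega,
          pow_mul, pow_succ', ← hσ, hc2, ← pow_two, ← pow_mul]
        refine mul_right_cancel₀ hμ0 ?_
        rw [one_mul, ← pow_succ, show 2 * w + 1 = q₀ by omega, ← hσ, hμσ]
      obtain ⟨d, hd⟩ := hsq
      exact hc d (by rw [hd, pow_two])
    have hr2 : r ≠ 2 := fun e => by subst e; exact absurd hrodd (by decide)
    refine Or.inr ?_
    by_contra hcon
    push Not at hcon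
    have hrp : r ≠ p := hr.resolve_left hr2
    have hr0 : (r : F) ≠ 0 := fun e =>
      hrp ((Nat.prime_dvd_prime_iff_eq Fact.out Fact.out).1 ((CharP.cast_eq_zero_iff F p r).1 e)).symm
    have h2r : 2 < r := lt_of_le_of_ne (Fact.out : r.Prime).two_le (Ne.symm hr2)
    have hrq₀ : ¬ r ∣ q₀ := fun h => by
      rw [hjp] at h
      exact hrp ((Nat.prime_dvd_prime_iff_eq Fact.out Fact.out).1 ((Fact.out : r.Prime).dvd_of_dvd_pow h))
    obtain ⟨j, hj2, hjn, hjc⟩ := index_cases (by omega : 0 < n) hq₀ σ hσ ε (Cfsg.Geo.similarityGroup f)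
      (fun g hg => ⟨1, fun u v => by rw [Units.val_one, one_mul, hε, hε]; exact hg u v⟩) hrq₀ hΩ
    have h2Z : (2 : ZMod r) ≠ 0 := fun e0 => by
      have := Nat.le_of_dvd two_pos ((ZMod.natCast_eq_zero_iff 2 r).1 (by exact_mod_cast e0))
      omega
    set i₀ : Fin n := ⟨0, by omega⟩ with hi₀
    set i₁ : Fin n := ⟨1, by omega⟩ with hi₁
    set i₂ : Fin n := ⟨2, by omega⟩ with hi₂
    have h01 : i₀ ≠ i₁ := by simp [i₀, i₁, Fin.ext_iff]
    have h02 : i₀ ≠ i₂ := by simp [i₀, i₂, Fin.ext_iff]
    have h12 : i₁ ≠ i₂ := by simp [i₁, i₂, Fin.ext_iff]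
    set i := orderOf ((Fintype.card F : ℕ) : ZMod r) with hidef
    have hqZ : ((Fintype.card F : ℕ) : ZMod r) = (q₀ : ZMod r) ^ 2 := by rw [hq₀, Nat.cast_pow]
    by_cases hi1 : i = 1
    · have hd1 : r ∣ Fintype.card F - 1 := (order_one_iff r).1 hi1
      have hsq1 : (q₀ : ZMod r) ^ 2 = 1 := by rw [← hqZ]; exact orderOf_eq_one_iff.1 hi1
      have hq01 : (q₀ : ZMod r) = 1 := by
        rcases hjc with ⟨⟨w, rfl⟩, hw⟩ | ⟨⟨w, rfl⟩, hw⟩
        · rwa [pow_succ, pow_mul, hsq1, one_pow, one_mul] at hw
        · rw [← two_mul, pow_mul, hsq1, one_pow] at hw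
          exact absurd (by linear_combination hw : (2 : ZMod r) = 0) h2Z
      have hrq1 : r ∣ q₀ - 1 := by
        rw [← ZMod.natCast_eq_zero_iff, Nat.cast_sub hq₀1, hq01, Nat.cast_one, sub_self]
      have hrnd : ¬ r ∣ q₀ + 1 := fun h => by
        have h3 := Nat.dvd_sub h hrq1
        rw [show q₀ + 1 - (q₀ - 1) = 2 by omega] at h3
        have := Nat.le_of_dvd two_pos h3
        omega
      have fix_of_pow : ∀ {a : F}, a ^ r = 1 → σ a = a := fun {a} ha => by
        obtain ⟨w, hw⟩ := hrq1
        rw [hσ, ← Nat.sub_add_cancel hq₀1, pow_succ, hw, pow_mul, ha, one_pow, one_mul]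
      have dvd_q0 : r ^ 2 ∣ Fintype.card F - 1 → r ^ 2 ∣ q₀ - 1 := fun h => by
        rw [hqq] at h
        exact (Nat.Coprime.pow_left 2 ((Fact.out : r.Prime).coprime_iff_not_dvd.2 hrnd)).dvd_of_dvd_mul_left h
      have hval : padicValNat r (Fintype.card F - 1) = padicValNat r (q₀ - 1) := by
        rw [hqq, padicValNat.mul (by omega) (by omega), padicValNat.eq_zero_of_not_dvd hrnd, zero_add]
      replace hcon : (r = 3 ∨ r = 5) → n = r → padicValNat r (Fintype.card F - 1) ≠ 1 := fun h1 h2 =>
        hval ▸ hcon h1 h2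
      by_cases hC : (r = 3 ∨ r = 5) ∧ n = r
      · -- an element whose `r`-th power is a non-trivial scalar
        obtain ⟨h35, rfl⟩ := hC
        have hv : padicValNat n (Fintype.card F - 1) ≠ 1 := hcon h35 rfl
        have hQpos : Fintype.card F - 1 ≠ 0 := by have := Fintype.one_lt_card (α := F); omega
        have hv1 := one_le_padicValNat_of_dvd hQpos hd1
        have hsq : n ^ 2 ∣ Fintype.card F - 1 := (pow_dvd_pow n (by omega)).trans pow_padicValNat_dvd
        obtain ⟨η₀, hη₀⟩ := IsCyclic.exists_ofOrder_eq_natCard (α := Fˣ)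
        rw [Nat.card_units, Nat.card_eq_fintype_card] at hη₀
        obtain ⟨k, hk⟩ := hsq
        have hk0 : k ≠ 0 := fun e => hQpos (by rw [hk, e, mul_zero])
        set η : F := ((η₀ ^ k : Fˣ) : F) with hη
        have hpow : ∀ j : ℕ, η ^ j = 1 ↔ n ^ 2 ∣ j := fun j => by
          rw [hη, ← Units.val_pow_eq_pow_val, Units.val_eq_one, ← orderOf_dvd_iff_pow_eq_one, orderOf_pow' _ hk0,
            hη₀, hk, Nat.gcd_mul_left_left, Nat.mul_div_cancel _ (Nat.pos_of_ne_zero hk0)]
        have hη0 : η ≠ 0 := (η₀ ^ k).ne_zero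
        set a := η ^ n with ha
        have har : a ^ n = 1 := by rw [ha, ← pow_mul, ← pow_two, (hpow _).2 dvd_rfl]
        have ha2 : a ^ 2 ≠ 1 := fun e => by
          rw [ha, ← pow_mul, hpow] at e
          have := Nat.le_of_dvd (by omega) e
          nlinarith
        have ha1 : a ≠ 1 := fun e => ha2 (by rw [e, one_pow])
        let d : Fin n → F := fun l => if l = i₀ then η⁻¹ * a else η⁻¹
        have hd : ∀ l, d l ≠ 0 := fun l => by
          simp only [d]; split_ifs <;> simp [hη0, ha]
        obtain ⟨P, g, μ, -, hg, hsim, -, -⟩ := test (Matrix.diagonal d) (by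
            rw [Matrix.det_diagonal, ← Finset.mul_prod_erase _ _ (Finset.mem_univ i₀),
              Finset.prod_congr rfl (fun l hl => show d l = η⁻¹ from if_neg (Finset.ne_of_mem_erase hl)),
              Finset.prod_const, Finset.card_erase_of_mem (Finset.mem_univ _), Finset.card_univ, Fintype.card_fin,
              show d i₀ = η⁻¹ * a from if_pos rfl, mul_right_comm, ← pow_succ', Nat.sub_add_cancel (by omega), ha,
              inv_pow, inv_mul_cancel₀ (pow_ne_zero _ hη0)])
          ⟨(η⁻¹) ^ n, by
            rw [Matrix.diagonal_pow, Matrix.smul_one_eq_diagonal]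
            congr 1; funext l; simp only [Pi.pow_apply, d]; split_ifs
            · rw [mul_pow, har, mul_one]
            · rfl⟩
          (fun z hz => by
            have e0 := congrFun (congrFun hz i₀) i₀
            have e1 := congrFun (congrFun hz i₁) i₁
            simp [d, h01.symm] at e0 e1
            exact ha1 (mul_left_cancel₀ (inv_ne_zero hη0) (by rw [e0, ← e1, mul_one])))
        have hηq : η ^ (q₀ - 1) = 1 := (hpow _).2 (dvd_q0 ⟨k, hk⟩)
        have hση : σ η = η := by rw [hσ, ← Nat.sub_add_cancel hq₀1, pow_succ, hηq, one_mul]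
        have hdσ : ∀ l, σ (d l) = d l := fun l => by
          simp only [d, ha]
          split_ifs <;> simp [map_inv₀, hση]
        set b := η⁻¹ with hb
        have hb0 : b ≠ 0 := inv_ne_zero hη0
        have cnt : ∀ R : F → Prop, (Finset.univ.filter fun l => R (d l)).card =
            (if R (b * a) then 1 else 0) + (if R b then n - 1 else 0) := fun R => by
          rw [Finset.card_filter, ← Finset.add_sum_erase _ _ (Finset.mem_univ i₀),
            Finset.sum_congr (g := fun _ => if R b then 1 else 0) rfl (fun l hl => by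
              rw [show d l = b from if_neg (Finset.ne_of_mem_erase hl)]),
            Finset.sum_const, Finset.card_erase_of_mem (Finset.mem_univ _), Finset.card_univ, Fintype.card_fin]
          rw [show d i₀ = b * a from if_pos rfl]
          by_cases hR : R b <;> simp [hR]
        have c1 := diag_test σ d hd hdσ P g hg hsim b
        rw [cnt (fun y => y = b), cnt (fun y => μ = b * y)] at c1
        have c2 := diag_test σ d hd hdσ P g hg hsim (b * a)
        rw [cnt (fun y => y = b * a), cnt (fun y => μ = b * a * y)] at c2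
        have n1 : b * a ≠ b := fun e => ha1 (mul_left_cancel₀ hb0 (e.trans (mul_one b).symm))
        simp only [n1, n1.symm, if_true, if_false, zero_add, add_zero] at c1 c2
        have hμ : μ = b * b := by
          by_contra hne
          simp only [hne, if_false, add_zero] at c1
          split_ifs at c1 <;> omega
        have n2 : b * b ≠ b * a * b := fun e => ha1 (mul_left_cancel₀ (mul_ne_zero hb0 hb0) (by linear_combination -e))
        have n3 : b * b ≠ b * a * (b * a) := fun e => ha2 (mul_left_cancel₀ (mul_ne_zero hb0 hb0) (by linear_combination -e))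
        simp only [hμ, n2, n3, if_false] at c2
        omega
      · obtain ⟨ω, hω⟩ := exists_prime_orderOf_dvd_card' (G := Fˣ) r
          (by rw [Nat.card_units, Nat.card_eq_fintype_card]; exact hd1)
        have hpow : ∀ k : ℕ, (ω : F) ^ k = 1 ↔ r ∣ k := fun k => by
          rw [← Units.val_pow_eq_pow_val, Units.val_eq_one, ← orderOf_dvd_iff_pow_eq_one, hω]
        have hωr : (ω : F) ^ r = 1 := (hpow r).2 dvd_rfl
        have hω0 : (ω : F) ≠ 0 := ω.ne_zero
        set a : F := (ω : F) with hadef
        set b : F := (a ^ 2)⁻¹ with hbdef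
        have hb : b * a ^ 2 = 1 := inv_mul_cancel₀ (pow_ne_zero 2 hω0)
        have hsmall : ∀ k : ℕ, 0 < k → k < r → a ^ k ≠ 1 := fun k h1 h2 e => by
          have := Nat.le_of_dvd h1 ((hpow k).1 e); omega
        have ha1 : a ≠ 1 := by simpa using hsmall 1 one_pos (by omega)
        have hb1 : b ≠ 1 := fun e => hsmall 2 two_pos h2r (inv_eq_one.1 e)
        let d : Fin n → F := fun l => if l = i₀ ∨ l = i₁ then a else if l = i₂ then b else 1
        have hdr : ∀ l, d l ^ r = 1 := fun l => by
          simp only [d]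
          split_ifs
          · exact hωr
          · rw [hbdef, inv_pow, ← pow_mul, mul_comm, pow_mul, hωr, one_pow, inv_one]
          · exact one_pow r
        have hab : a = b ↔ r = 3 := by
          rw [hbdef, ← mul_eq_one_iff_eq_inv₀ (pow_ne_zero 2 hω0), ← pow_succ', hpow]
          exact ⟨fun e => (Nat.prime_dvd_prime_iff_eq Fact.out Nat.prime_three).1 e, fun e => dvd_of_eq e⟩
        have hn4 : r = 3 → 4 ≤ n ∧ n ≠ 6 := fun e => ⟨by
          by_contra hlt
          exact hC ⟨Or.inl e, by omega⟩, fun e6 => hgap ⟨e6, e⟩⟩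
        obtain ⟨P, g, μ, -, hg, hsim, -, -⟩ := test (Matrix.diagonal d) (by
            rw [Matrix.det_diagonal, ← Finset.prod_subset (s₁ := {i₀, i₁, i₂}) (Finset.subset_univ _) (fun l _ hl => by
              simp only [Finset.mem_insert, Finset.mem_singleton, not_or] at hl
              simp [d, hl.1, hl.2.1, hl.2.2])]
            rw [Finset.prod_insert (by simp [h01, h02]), Finset.prod_insert (by simp [h12]), Finset.prod_singleton]
            simp [d, h02.symm, h12.symm]
            linear_combination hb)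
          ⟨1, by
            rw [one_smul, Matrix.diagonal_pow, ← Matrix.diagonal_one]
            congr 1; funext l; exact hdr l⟩
          (fun z hz => by
            rcases eq_or_ne a b with e | e
            · obtain ⟨hn', -⟩ := hn4 (hab.1 e)
              set i₃ : Fin n := ⟨3, by omega⟩
              have h03 : i₃ ≠ i₀ := by simp [i₀, i₃, Fin.ext_iff]
              have h13 : i₃ ≠ i₁ := by simp [i₁, i₃, Fin.ext_iff]
              have h23 : i₃ ≠ i₂ := by simp [i₂, i₃, Fin.ext_iff]
              have e0 := congrFun (congrFun hz i₀) i₀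
              have e3 := congrFun (congrFun hz i₃) i₃
              simp [d, h03, h13, h23] at e0 e3
              exact ha1 (e0.trans e3.symm)
            · have e0 := congrFun (congrFun hz i₀) i₀
              have e3 := congrFun (congrFun hz i₂) i₂
              simp [d, h02.symm, h12.symm] at e0 e3
              exact e (e0.trans e3.symm))
        have hd : ∀ l, d l ≠ 0 := fun l e => by
          have := hdr l
          rw [e, zero_pow (Fact.out : r.Prime).ne_zero] at this; exact zero_ne_one this
        have hdσ : ∀ l, σ (d l) = d l := fun l => fix_of_pow (hdr l)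
        have cnt : ∀ R : F → Prop, (Finset.univ.filter fun l => R (d l)).card =
            (if R a then 2 else 0) + (if R b then 1 else 0) + (if R 1 then n - 3 else 0) := fun R => by
          rw [Finset.card_filter, ← Finset.sum_sdiff (Finset.subset_univ ({i₀, i₁, i₂} : Finset (Fin n))),
            Finset.sum_congr (g := fun _ => if R 1 then 1 else 0) rfl (fun l hl => by
              simp only [Finset.mem_sdiff, Finset.mem_insert, Finset.mem_singleton, not_or] at hl
              simp [d, hl.2.1, hl.2.2.1, hl.2.2.2]),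
            Finset.sum_const, Finset.card_sdiff_of_subset (Finset.subset_univ _), Finset.card_univ, Fintype.card_fin,
            Finset.sum_insert (by simp [h01, h02]), Finset.sum_insert (by simp [h12]), Finset.sum_singleton]
          rw [show ({i₀, i₁, i₂} : Finset (Fin n)).card = 3 by simp [h01, h02, h12]]
          simp only [d, if_true, or_true, true_or, h02.symm, h12.symm, or_self, if_false]
          split_ifs <;> simp <;> omega
        have ca := diag_test σ d hd hdσ P g hg hsim a
        rw [cnt (fun y => y = a), cnt (fun y => μ = a * y)] at ca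
        have cb := diag_test σ d hd hdσ P g hg hsim b
        rw [cnt (fun y => y = b), cnt (fun y => μ = b * y)] at cb
        have c1 := diag_test σ d hd hdσ P g hg hsim 1
        rw [cnt (fun y => y = 1), cnt (fun y => μ = 1 * y)] at c1
        simp only [one_mul, mul_one, if_true, ha1, hb1, Ne.symm ha1, Ne.symm hb1, if_false, zero_add, add_zero]
          at ca cb c1
        by_cases h3 : r = 3
        · have e : a = b := hab.2 h3
          obtain ⟨hn', hn6⟩ := hn4 h3
          rw [← e] at ca c1
          simp only [if_true] at ca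
          by_cases e1 : μ = a
          · subst e1
            simp only [if_true, ha1, if_false] at c1
            omega
          · simp only [e1, if_false, zero_add, add_zero] at c1 ca
            by_cases e2 : μ = 1
            · subst e2
              have e4 : (1 : F) ≠ a * a := fun e => hsmall 2 two_pos h2r (by rw [pow_two]; exact e.symm)
              simp only [e4, if_false] at ca
              omega
            · simp only [e2, if_false] at c1
              omega
        · have hne : a ≠ b := fun e => h3 (hab.1 e)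
          have hr5 : 5 ≤ r := by
            rcases Nat.lt_or_ge r 5 with h5 | h5
            · have : r = 4 := by omega
              exact absurd (Fact.out : r.Prime) (by rw [this]; norm_num)
            · exact h5
          simp only [Ne.symm hne, hne, if_false, zero_add, add_zero] at ca cb
          by_cases e1 : μ = a * a
          · subst e1
            have n1 : a * a ≠ b * a := fun e => hsmall 3 (by norm_num) (by omega) (by linear_combination a * e + hb)
            have n2 : a * a ≠ b * b := fun e => by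
              have e6 : r ∣ 6 := (hpow 6).1 (by linear_combination a ^ 4 * e + (b * a ^ 2 + 1) * hb)
              rcases (Fact.out : r.Prime).dvd_mul.1 (show r ∣ 2 * 3 from e6) with h6 | h6 <;>
                · have := Nat.le_of_dvd (by norm_num) h6
                  omega
            have n3 : a * a ≠ b := fun e => hsmall 4 (by norm_num) (by omega) (by linear_combination a ^ 2 * e + hb)
            simp only [n1, n2, n3, if_false] at cb
            omega
          · simp only [e1, if_false, zero_add] at ca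
            by_cases e2 : μ = a
            · subst e2
              have n0 : a ≠ a * b := fun e => hb1 (mul_left_cancel₀ hω0 (e.symm.trans (mul_one a).symm))
              simp only [n0, if_true, if_false, zero_add] at ca
              have hn5 : n = 5 := by omega
              have n1 : a ≠ b * a := fun e => n0 (e.trans (mul_comm b a))
              have n2 : a ≠ b * b := fun e => hC ⟨Or.inr (((Nat.prime_dvd_prime_iff_eq Fact.out Nat.prime_five).1
                ((hpow 5).1 (by linear_combination a ^ 4 * e + (b * a ^ 2 + 1) * hb)))),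
                hn5.trans ((Nat.prime_dvd_prime_iff_eq Fact.out Nat.prime_five).1
                ((hpow 5).1 (by linear_combination a ^ 4 * e + (b * a ^ 2 + 1) * hb))).symm⟩
              simp only [n1, n2, hne, if_false] at cb
              omega
            · simp only [e2, if_false, add_zero] at ca
              split_ifs at ca <;> omega
    · have hdn : ¬ r ∣ Fintype.card F - 1 := fun e => hi1 ((order_one_iff r).2 e)
      have hij : i ∣ j := orderOf_dvd_of_pow_eq_one (by
        rw [hqZ, ← pow_mul, mul_comm, pow_mul]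
        rcases hjc with ⟨-, hw⟩ | ⟨-, hw⟩ <;> rw [hw] <;> ring)
      have hin : i ≤ n := (Nat.le_of_dvd (by omega) hij).trans hjn
      obtain ⟨k, -, hk⟩ := FiniteField.card F p
      have hcop : p.Coprime r := (Nat.coprime_primes Fact.out Fact.out).2 (Ne.symm hrp)
      have hu : i = orderOf (ZMod.unitOfCoprime _ (hcop.pow_left (k : ℕ))) := by
        rw [hidef, ← orderOf_units, ZMod.coe_unitOfCoprime, hk]
      obtain ⟨G, hG⟩ := UniqueFactorizationMonoid.exists_mem_normalizedFactors (cyclotomic_ne_zero r F)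
        (not_isUnit_of_natDegree_pos _ (by rw [natDegree_cyclotomic]; exact Nat.totient_pos.2 (Fact.out : r.Prime).pos))
      have hgi := UniqueFactorizationMonoid.irreducible_of_normalized_factor G hG
      have hgd : G.natDegree = i := by
        rw [hu]; exact natDegree_of_mem_normalizedFactors_cyclotomic hk hcop hG
      haveI : Fact (Irreducible G) := ⟨hgi⟩
      haveI : FiniteDimensional F (AdjoinRoot G) := (AdjoinRoot.powerBasis hgi.ne_zero).finite
      haveI : Finite (AdjoinRoot G) := Module.finite_of_finite F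
      haveI : CharP (AdjoinRoot G) p := charP_of_injective_algebraMap (algebraMap F (AdjoinRoot G)).injective p
      have hKd : finrank F (AdjoinRoot G) = i := by
        rw [(AdjoinRoot.powerBasis hgi.ne_zero).finrank, AdjoinRoot.powerBasis_dim, hgd]
      set ζ := AdjoinRoot.root G with hζ
      obtain ⟨w, hw⟩ := UniqueFactorizationMonoid.dvd_of_mem_normalizedFactors hG
      have hroot : aeval ζ G = 0 := by rw [hζ, AdjoinRoot.aeval_eq, AdjoinRoot.mk_self]
      have hζΦ : aeval ζ (cyclotomic r F) = 0 := by rw [hw, map_mul, hroot, zero_mul]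
      have hζr : ζ ^ r = 1 := by
        have := congrArg (aeval ζ) (cyclotomic_prime_mul_X_sub_one F r)
        rw [map_mul, hζΦ, zero_mul, map_sub, aeval_X_pow, map_one] at this
        exact sub_eq_zero.1 this.symm
      have hζ1 : ζ ≠ 1 := by
        intro h1
        rw [h1, aeval_def, eval₂_eq_eval_map, map_cyclotomic, eval_one_cyclotomic_prime] at hζΦ
        exact hr0 ((algebraMap F (AdjoinRoot G)).injective (by rw [map_natCast, map_zero, hζΦ]))
      let g' : ((Fin (n - i) → F) × AdjoinRoot G) →ₗ[F] ((Fin (n - i) → F) × AdjoinRoot G) :=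
        LinearMap.prodMap LinearMap.id (LinearMap.mulLeft F ζ)
      obtain ⟨L, Y, hY, -⟩ := exists_transport (V := (Fin (n - i) → F) × AdjoinRoot G) (n := n)
        (by rw [finrank_prod, finrank_fin_fun, hKd]; omega) g'
      have hYl : ∀ (l : ℕ) v, L ((Y ^ l) *ᵥ v) = ((L v).1, ζ ^ l * (L v).2) := by
        intro l
        induction l with
        | zero => intro v; simp
        | succ l ih =>
          intro v
          have e1 := hY ((Y ^ l) *ᵥ v)
          rw [Matrix.toLin'_apply, Matrix.mulVec_mulVec, ← pow_succ', ih] at e1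
          rw [e1]
          simp [g', pow_succ', mul_assoc]
      have hYr : Y ^ r = 1 := Matrix.ext_of_mulVec_single fun j => L.injective (by
        rw [hYl, hζr, one_mul, Matrix.one_mulVec])
      have hY1 : Y ≠ 1 := fun e1 => hζ1 (by
        have h' := hYl 1 (L.symm (0, 1))
        rw [e1, one_pow, Matrix.one_mulVec, L.apply_symm_apply] at h'
        simpa using (congrArg Prod.snd h').symm)
      obtain ⟨P, g, μ, -, hgv, hsim, -, hpw⟩ := test Y
        (eq_one_of_pow_eq_one (r := r) hdn (by rw [← Matrix.det_pow, hYr, Matrix.det_one]))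
        ⟨1, by rw [hYr, one_smul]⟩
        (fun z hz => hY1 (by
          have hzr : z ^ r = 1 := by
            have h3 := congrFun (congrFun hYr i₀) i₀
            rw [hz, _root_.smul_pow, one_pow] at h3
            simpa using h3
          rw [hz, eq_one_of_pow_eq_one hdn hzr, one_smul]))
      obtain ⟨hgr, hμ⟩ := hpw hYr
      obtain rfl : μ = 1 := eq_one_of_pow_eq_one hdn hμ
      have hP : ∀ (R : F[X]) (v : Fin n → F), L (aeval Y R *ᵥ v) = (R.eval 1 • (L v).1, aeval ζ R * (L v).2) := by
        intro R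
        induction R using Polynomial.induction_on' with
        | add R R' hR hR' =>
          intro v
          rw [map_add, map_add, eval_add, Matrix.add_mulVec, map_add, hR, hR', Prod.mk_add_mk, add_smul, add_mul]
        | monomial l c =>
          intro v
          rw [aeval_monomial, aeval_monomial, ← Algebra.smul_def, ← Algebra.smul_def, Matrix.smul_mulVec, map_smul,
            hYl, Prod.smul_mk, eval_monomial, one_pow, mul_one, smul_mul_assoc]
      have h0 : aeval Y ((X - 1) * G) = 0 := Matrix.ext_of_mulVec_single fun j => L.injective (by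
        rw [hP, map_mul, hroot, mul_zero, zero_mul, eval_mul, eval_sub, eval_X, eval_one, sub_self, zero_mul,
          zero_smul, Matrix.zero_mulVec, map_zero]; rfl)
      have hgT : (g : Matrix (Fin n) (Fin n) F)ᵀ = σ.mapMatrix ((g : Matrix (Fin n) (Fin n) F) ^ (r - 1)) := by
        have e1 : (g : Matrix (Fin n) (Fin n) F).map σ * σ.mapMatrix ((g : Matrix (Fin n) (Fin n) F) ^ (r - 1)) = 1 := by
          rw [show (g : Matrix (Fin n) (Fin n) F).map σ = σ.mapMatrix (g : Matrix (Fin n) (Fin n) F) from rfl,
            ← map_mul, ← pow_succ', Nat.sub_add_cancel (by omega), ← Units.val_pow_eq_pow_val, hgr, Units.val_one, map_one]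
        have e2 := congrArg (· * σ.mapMatrix ((g : Matrix (Fin n) (Fin n) F) ^ (r - 1))) hsim
        simp only [one_smul, one_mul] at e2
        rw [← e2, mul_assoc, e1, mul_one]
      have h1 : aeval ((g : Matrix (Fin n) (Fin n) F) ^ (r - 1)) (((X - 1) * G).map σ) = 0 := by
        have e1 : aeval (g : Matrix (Fin n) (Fin n) F)ᵀ ((X - 1) * G) = 0 := by
          rw [S5968.aeval_transpose, hgv, S5968.aeval_conj, h0, mul_zero, zero_mul, Matrix.transpose_zero]
        rw [hgT] at e1
        have e2 := congrArg σ.mapMatrix e1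
        rw [map_aeval, map_zero] at e2
        rwa [show σ.mapMatrix (σ.mapMatrix ((g : Matrix (Fin n) (Fin n) F) ^ (r - 1))) =
          (g : Matrix (Fin n) (Fin n) F) ^ (r - 1) from Matrix.ext fun a b => hσ2 _] at e2
      rw [hgv, Units.conj_pow', S5968.aeval_conj] at h1
      set R := ((X - 1) * G).map σ with hR
      have h2' : aeval (Y ^ (r - 1)) R = 0 := by
        have h3 := congrArg (fun M => (P : Matrix (Fin n) (Fin n) F) * M * ((P⁻¹ : GL (Fin n) F) : Matrix (Fin n) (Fin n) F)) h1
        simpa [mul_assoc] using h3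
      have h3 : aeval (ζ ^ (r - 1)) R = 0 := by
        rw [← aeval_X_pow (R := F) Y, ← aeval_comp] at h2'
        have h4 := hP (R.comp (X ^ (r - 1))) (L.symm (0, 1))
        rw [h2', Matrix.zero_mulVec, map_zero, L.apply_symm_apply] at h4
        have h5 := congrArg Prod.snd h4
        rw [aeval_comp, aeval_X_pow] at h5
        simpa using h5.symm
      have hinv : ζ ^ (r - 1) * ζ = 1 := by rw [← pow_succ, Nat.sub_add_cancel (by omega), hζr]
      have hne1 : ζ ^ (r - 1) ≠ 1 := fun e => hζ1 (by rwa [e, one_mul] at hinv)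
      rw [hR, Polynomial.map_mul, Polynomial.map_sub, Polynomial.map_X, Polynomial.map_one, map_mul, mul_eq_zero,
        map_sub, aeval_X, map_one, sub_eq_zero] at h3
      have hG' : aeval ((ζ ^ (r - 1)) ^ q₀) G = 0 := by
        haveI : ExpChar (AdjoinRoot G) p := ExpChar.prime (Fact.out : p.Prime)
        let ψ : AdjoinRoot G →+* AdjoinRoot G := iterateFrobenius (AdjoinRoot G) p jp
        have hψ : ψ.comp (algebraMap F (AdjoinRoot G)) = (algebraMap F (AdjoinRoot G)).comp σ := RingHom.ext fun a => by
          show iterateFrobenius (AdjoinRoot G) p jp (algebraMap F _ a) = algebraMap F _ (σ a)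
          rw [iterateFrobenius_def, hσ, hjp, map_pow]
        have h6 := congrArg ψ (h3.resolve_left hne1)
        rw [map_zero, aeval_def, Polynomial.hom_eval₂, hψ, ← Polynomial.eval₂_map, Polynomial.map_map,
          show σ.comp σ = RingHom.id F from RingHom.ext hσ2, Polynomial.map_id] at h6
        rw [aeval_def, hjp, ← iterateFrobenius_def]
        exact h6
      let τ : AdjoinRoot G →ₐ[F] AdjoinRoot G := AdjoinRoot.liftAlgHom G (Algebra.ofId F _) ((ζ ^ (r - 1)) ^ q₀) hG'
      obtain ⟨⟨l, hl⟩, hlτ⟩ := (FiniteField.bijective_frobeniusAlgHom_pow F (AdjoinRoot G)).2 τ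
      have hfr : ∀ (l : ℕ) (a : AdjoinRoot G), (FiniteField.frobeniusAlgHom F (AdjoinRoot G) ^ l) a = a ^ (Fintype.card F ^ l) := by
        intro l
        induction l with
        | zero => intro a; simp
        | succ l ih =>
          intro a
          rw [pow_succ (FiniteField.frobeniusAlgHom F (AdjoinRoot G))]
          show (FiniteField.frobeniusAlgHom F (AdjoinRoot G) ^ l) (a ^ Fintype.card F) = _
          rw [ih, ← pow_mul, pow_succ']
      have h7 : ζ ^ (Fintype.card F ^ l) = ζ ^ ((r - 1) * q₀) := by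
        rw [← hfr, pow_mul]
        exact (AlgHom.congr_fun hlτ ζ).trans (AdjoinRoot.liftAlgHom_root ..)
      have hζu : IsUnit ζ := IsUnit.of_pow_eq_one hζr (Fact.out : r.Prime).ne_zero
      obtain ⟨uζ, huζ⟩ := hζu
      rw [← huζ, ← Units.val_pow_eq_pow_val, ← Units.val_pow_eq_pow_val, Units.val_inj, pow_eq_pow_iff_modEq,
        show orderOf uζ = r by rw [← orderOf_units, huζ, orderOf_eq_prime hζr hζ1],
        ← ZMod.natCast_eq_natCast_iff] at h7
      push_cast [Nat.cast_sub (Fact.out : r.Prime).one_le] at h7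
      rw [ZMod.natCast_self, zero_sub, neg_one_mul, hqZ] at h7
      have h8 := congrArg (fun a : ZMod r => a ^ j) h7
      beta_reduce at h8
      rw [← pow_mul, ← pow_mul, show 2 * (l * j) = j * (2 * l) by ring, pow_mul, neg_pow] at h8
      rcases hjc with ⟨hjo, hw⟩ | ⟨hje, hw⟩
      · rw [hw, one_pow, hjo.neg_one_pow, mul_one] at h8
        exact h2Z (by linear_combination h8)
      · rw [hw, pow_mul, neg_one_sq, one_pow, hje.neg_one_pow, one_mul] at h8
        exact h2Z (by linear_combination h8)
  · intro hcase x hx ⟨z, hz⟩ hns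
    have hdet : (x : Matrix (Fin n) (Fin n) F).det = 1 := by
      have := congrArg Units.val (MonoidHom.mem_ker.1 hx)
      simpa using this
    let xs : Matrix.SpecialLinearGroup (Fin n) F := ⟨(x : Matrix (Fin n) (Fin n) F), hdet⟩
    have hz0 : z ≠ 0 := by
      rintro rfl
      rw [zero_smul] at hz
      exact (x ^ r).ne_zero hz
    set φ := Matrix.toLin' (x : Matrix (Fin n) (Fin n) F) with hφdef
    suffices ∃ (e : (Fin n → F) ≃ₗ[F] (Fin n → F)) (μ : F),
        LinearEquiv.det e = 1 ∧ μ ≠ 0 ∧ ∀ u v, f (e (φ (e.symm u))) (e (φ (e.symm v))) = μ * f u v by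
      obtain ⟨e, μ, hedet, hμ, he⟩ := this
      obtain ⟨P, hP⟩ := Inv.exists_SL e hedet xs
      refine ⟨Matrix.SpecialLinearGroup.toGL P, ?_, Units.mk0 μ hμ, fun u v => ?_⟩
      · rw [Cfsg.Geo.specialLinear, MonoidHom.mem_ker]
        exact Units.ext (by rw [Matrix.GeneralLinearGroup.val_det_apply, Units.val_one]; exact P.2)
      · have hv : ∀ v, (((Matrix.SpecialLinearGroup.toGL P)⁻¹ * x * Matrix.SpecialLinearGroup.toGL P : GL (Fin n) F) :
            Matrix (Fin n) (Fin n) F) *ᵥ v = e (φ (e.symm v)) := fun v => by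
          rw [hφdef, Matrix.toLin'_apply, show x = Matrix.SpecialLinearGroup.toGL xs from Units.ext rfl,
            ← map_inv, ← map_mul, ← map_mul]
          exact hP v
        rw [hv, hv]
        exact he u v
    rcases hcase with ⟨rfl, hcase⟩ | ⟨h35, rfl, hv⟩
    · -- involutions
      haveI : Fact (Nat.Prime 2) := ⟨Nat.prime_two⟩
      have hxx : ∀ v, φ (φ v) = z • v := fun v => by
        rw [hφdef, ← LinearMap.comp_apply, ← Matrix.toLin'_mul, ← pow_two, ← Units.val_pow_eq_pow_val, hz, map_smul,
          Matrix.toLin'_one]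
        rfl
      obtain ⟨c, hc⟩ : ∃ c : F, c * c = z := by
        rcases hcase with rfl | hv
        · exact Inv.exists_sq (CharP.cast_eq_zero F 2) z
        · by_contra hns
          push Not at hns
          have hchar : ringChar F ≠ 2 := fun e => by
            obtain ⟨d, hd⟩ := FiniteField.isSquare_of_char_two e z
            exact hns d hd.symm
          have hodd := Nat.odd_iff.2 (FiniteField.odd_card_of_char_ne_two hchar)
          have h2q : 2 ∣ Fintype.card F - 1 := by obtain ⟨w, hw⟩ := hodd; exact ⟨w, by omega⟩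
          obtain ⟨k, hk, hdk⟩ := det_of_not_pow (r := 2) (f := φ)
            (fun v => by rw [pow_two, Module.End.mul_apply, hxx]) (fun d hd => hns d (by rw [← hd, pow_two]))
          rw [hnf] at hk
          rw [hφdef, LinearMap.det_toLin', hdet] at hdk
          refine (exists_twist_iff h2q hk (by omega)).1 ⟨z, fun d hd => hns d (by rw [← hd, pow_two]), hdk.symm⟩
            ⟨hv, fun _ _ => ?_⟩
          obtain ⟨w, hw⟩ : Odd q₀ := by rw [hq₀] at hodd; exact (Nat.odd_pow_iff two_ne_zero).1 hodd
          rw [hq₀, hw, show (2 * w + 1) ^ 2 = 4 * (w * (w + 1)) + 1 by ring]; omega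
      have hc0 : c ≠ 0 := fun e => hz0 (by rw [← hc, e, mul_zero])
      let f₁ : (Fin n → F) →ₗ[F] (Fin n → F) := c⁻¹ • φ
      have hfx : ∀ v, φ v = c • f₁ v := fun v => by simp only [f₁, LinearMap.smul_apply, smul_inv_smul₀ hc0]
      have hf₁ : ∀ v, f₁ (f₁ v) = v := fun v => by
        simp only [f₁, LinearMap.smul_apply, map_smul, hxx, smul_smul]
        rw [show c⁻¹ * (c⁻¹ * z) = 1 by rw [← hc]; field_simp, one_smul]
      set k := Inv.rk f₁ with hkdef
      have hk : k ≤ n := (Inv.rk_le f₁).trans_eq hnf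
      let b : Basis (Fin n) F (Fin n → F) := Basis.ofEquivFun ε
      obtain ⟨h, hh, hhr, hiso⟩ : ∃ h : (Fin n → F) →ₗ[F] (Fin n → F), (∀ v, h (h v) = v) ∧ Inv.rk h = k ∧
          ∀ u v, f (h u) (h v) = f u v := by
        -- monomial isometries
        have mono : ∀ (s : Fin n → F) (π : Fin n → Fin n), (∀ i, π (π i) = i) → (∀ i, s i * σ (s i) = 1) →
            (∀ i, s i * s (π i) = 1) → ∃ h : (Fin n → F) →ₗ[F] (Fin n → F), (∀ v, h (h v) = v) ∧
              (∀ i, h (b i) = s i • b (π i)) ∧ ∀ u v, f (h u) (h v) = f u v := by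
          intro s π hπ hsσ hss
          let h : (Fin n → F) →ₗ[F] (Fin n → F) := b.constr F fun i => s i • b (π i)
          have hhb : ∀ i, h (b i) = s i • b (π i) := fun i => Basis.constr_basis b F _ i
          refine ⟨h, fun v => ?_, hhb, fun u v => ?_⟩
          · have : h ∘ₗ h = LinearMap.id := b.ext fun i => by
              simp only [LinearMap.comp_apply, hhb, map_smul, LinearMap.id_apply, hπ, smul_smul, hss, one_smul]
            exact LinearMap.congr_fun this v
          · have hco : ∀ w, ε (h w) = fun i => s (π i) * ε w (π i) := fun w => by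
              have hw : w = ∑ i, ε w i • b i := by
                conv_lhs => rw [← b.sum_equivFun w]
                rfl
              conv_lhs => rw [hw]
              simp only [map_sum, map_smul, hhb]
              funext j
              simp only [Finset.sum_apply, Pi.smul_apply, smul_eq_mul]
              have hbε : ∀ i, ε (b i) = Pi.single i 1 := fun i => by
                simp [b, Basis.coe_ofEquivFun]
              simp only [hbε]
              rw [Finset.sum_eq_single (π j)]
              · rw [hπ, Pi.single_eq_same]; ring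
              · intro i _ hi
                rw [Pi.single_eq_of_ne (fun e => hi (by rw [e, hπ]))]; ring
              · simp
            rw [hε, hε, hco, hco]
            refine Fintype.sum_equiv (Function.Involutive.toPerm π hπ) _ _ fun i => ?_
            show s (π i) * ε u (π i) * σ (s (π i) * ε v (π i)) = ε u (π i) * σ (ε v (π i))
            rw [map_mul]
            linear_combination (ε u (π i) * σ (ε v (π i))) * hsσ (π i)
        by_cases h2 : (2 : F) = 0
        · obtain ⟨-, h2k⟩ := Inv.two_rk_le h2 hf₁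
          rw [hnf, ← hkdef] at h2k
          let πN : ℕ → ℕ := fun i => if i < k then i + k else if i < 2 * k then i - k else i
          let π : Fin n → Fin n := fun i => ⟨πN i, by simp only [πN]; split_ifs <;> omega⟩
          have hπ : ∀ i, π (π i) = i := fun i => Fin.ext (by
            show πN (πN i) = i
            simp only [πN]; split_ifs <;> omega)
          obtain ⟨h, hh, hhb, hiso⟩ := mono (fun _ => 1) π hπ (fun _ => by simp) (fun _ => by simp)
          simp only [one_smul] at hhb
          refine ⟨h, hh, ?_, hiso⟩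
          let u : Fin k → (Fin n → F) := fun j => b ⟨j + k, by omega⟩ - b ⟨j, by omega⟩
          have hli : LinearIndependent F u := by
            refine Fintype.linearIndependent_iff.2 fun a ha i => ?_
            have h3 := congrArg (fun w => b.repr w ⟨i + k, by omega⟩) ha
            simp only [u, map_sum, map_smul, map_sub, map_zero, Finsupp.coe_finsetSum, Finset.sum_apply,
              Finsupp.smul_apply, Finsupp.sub_apply, Basis.repr_self, Finsupp.single_apply, Fin.ext_iff,
              smul_eq_mul, Finsupp.coe_zero, Pi.zero_apply] at h3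
            rw [Finset.sum_eq_single i] at h3
            · simpa [show ¬ k = 0 from fun e => by have := i.2; omega] using h3
            · intro l _ hl
              rw [if_neg (fun e => hl (Fin.ext (by omega))), if_neg (by omega)]; ring
            · simp
          have hr : LinearMap.range (h - LinearMap.id) = Submodule.span F (Set.range u) := by
            refine le_antisymm ?_ (Submodule.span_le.2 ?_)
            · rw [LinearMap.range_eq_map, ← b.span_eq, Submodule.map_span, Submodule.span_le]
              rintro _ ⟨_, ⟨i, rfl⟩, rfl⟩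
              rw [LinearMap.sub_apply, LinearMap.id_apply, hhb]
              by_cases h1 : (i : ℕ) < k
              · refine Submodule.subset_span ⟨⟨i, h1⟩, ?_⟩
                simp only [u]
                congr 2
                exact Fin.ext (by simp [π, πN, h1])
              · by_cases h2 : (i : ℕ) < 2 * k
                · rw [← neg_sub]
                  refine Submodule.neg_mem _ (Submodule.subset_span ⟨⟨(i : ℕ) - k, by omega⟩, ?_⟩)
                  simp only [u]
                  congr 2
                  · exact Fin.ext (by simp; omega)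
                  · exact Fin.ext (by simp [π, πN, h1, h2])
                · rw [show π i = i from Fin.ext (by simp [π, πN, h1, h2]), sub_self]; exact zero_mem _
            · rintro _ ⟨i, rfl⟩
              refine ⟨b ⟨i, by omega⟩, ?_⟩
              rw [LinearMap.sub_apply, LinearMap.id_apply, hhb]
              simp only [u]
              congr 2
              exact Fin.ext (by simp [π, πN])
          rw [Inv.rk, hr, finrank_span_eq_card hli, Fintype.card_fin]
        · let s : Fin n → F := fun i => if (i : ℕ) < k then -1 else 1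
          obtain ⟨h, hh, hhb, hiso⟩ := mono s id (fun _ => rfl)
            (fun i => by simp only [s]; split_ifs <;> simp) (fun i => by simp only [s, id_eq]; split_ifs <;> simp)
          refine ⟨h, hh, S5967.rk_eq b h (fun j : Fin k => ⟨j, by omega⟩) (fun i j e => Fin.ext (by simpa using e)) (-2)
            (neg_ne_zero.2 h2) (fun j => ⟨j, by omega⟩) (fun j => ?_) (fun j => ?_), hiso⟩
          · rw [hhb, id_eq]; simp only [s]; split_ifs with hj
            · rw [show (-1 : F) • b j - b j = (-2 : F) • b j by module]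
              exact Submodule.smul_mem _ _ (Submodule.subset_span ⟨⟨j, hj⟩, rfl⟩)
            · rw [one_smul, sub_self]; exact zero_mem _
          · rw [hhb, id_eq]; simp only [s]; rw [if_pos j.2]; module
      obtain ⟨e, he, hedet⟩ := Inv.exists_conj hf₁ hh hhr.symm 1
      refine ⟨e, c * σ c, hedet, mul_ne_zero hc0 (by simpa using hc0), fun u v => ?_⟩
      rw [hfx, hfx, map_smul, map_smul, he, he, e.apply_symm_apply, e.apply_symm_apply, hf.smul_left, hf.herm,
        hf.smul_left, mul_pow, ← hσ, ← hf.herm, hiso, mul_assoc]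
    · -- three or five
      have hrq1 : n ∣ q₀ - 1 := dvd_of_one_le_padicValNat (by omega)
      have h2n : 2 < n := by rcases h35 with rfl | rfl <;> norm_num
      have hrnd : ¬ n ∣ q₀ + 1 := fun h => by
        have h3 := Nat.dvd_sub h hrq1
        rw [show q₀ + 1 - (q₀ - 1) = 2 by omega] at h3
        have := Nat.le_of_dvd two_pos h3
        omega
      have hd1 : n ∣ Fintype.card F - 1 := by rw [hqq]; exact dvd_mul_of_dvd_right hrq1 _
      have hnsq : ¬ n ^ 2 ∣ Fintype.card F - 1 := fun h => by
        rw [hqq] at h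
        have h5 := (Nat.Coprime.pow_left 2 ((Fact.out : n.Prime).coprime_iff_not_dvd.2 hrnd)).dvd_of_dvd_mul_left h
        have := pow_succ_padicValNat_not_dvd (p := n) (show q₀ - 1 ≠ 0 by omega)
        rw [hv] at this
        exact this h5
      have hn0 : (n : F) ≠ 0 := fun e => by
        have hnp := (Nat.prime_dvd_prime_iff_eq Fact.out Fact.out).1 ((CharP.cast_eq_zero_iff F p n).1 e)
        exact (hr.resolve_left (by omega)) hnp.symm
      have hfz : ∀ v, (φ ^ n) v = z • v := fun v => by
        rw [hφdef, ← Matrix.toLin'_pow, ← Units.val_pow_eq_pow_val, hz, map_smul, Matrix.toLin'_one]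
        rfl
      have hzn : z ^ n = 1 := by
        have h3 := congrArg Matrix.det hz
        rw [Units.val_pow_eq_pow_val, Matrix.det_pow, hdet, one_pow, Matrix.det_smul, Matrix.det_one, mul_one,
          Fintype.card_fin] at h3
        exact h3.symm
      have hz1 : z = 1 := by
        by_cases hpw : ∃ d : F, d ^ n = z
        · obtain ⟨d, rfl⟩ := hpw
          have hd0 : d ≠ 0 := fun e => hz0 (by rw [e, zero_pow (Fact.out : n.Prime).ne_zero])
          rw [← pow_mul, ← pow_two] at hzn
          have h3 : orderOf (Units.mk0 d hd0) ∣ n ^ 2 :=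
            orderOf_dvd_of_pow_eq_one (Units.ext (by rw [Units.val_pow_eq_pow_val]; exact hzn))
          have h4 : orderOf (Units.mk0 d hd0) ∣ Fintype.card F - 1 := by
            rw [← Fintype.card_units]; exact orderOf_dvd_card
          obtain ⟨j, hj, hj'⟩ := (Nat.dvd_prime_pow Fact.out).1 h3
          have hj1 : j ≤ 1 := by
            by_contra hlt
            rw [hj', show j = 2 by omega] at h4
            exact hnsq h4
          have : orderOf (Units.mk0 d hd0) ∣ n := by
            rw [hj']; exact (pow_dvd_pow n hj1).trans (dvd_of_eq (pow_one n))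
          rw [orderOf_dvd_iff_pow_eq_one] at this
          simpa using congrArg Units.val this
        · push Not at hpw
          obtain ⟨k, hk, hdk⟩ := det_of_not_pow (f := φ) hfz hpw
          rw [hnf] at hk
          have hk1 : k = 1 := Nat.eq_of_mul_eq_mul_left (by omega : 0 < n) (by omega)
          rw [hφdef, LinearMap.det_toLin', hdet, hk1, pow_one, Even.neg_one_pow (by
            rcases h35 with rfl | rfl <;> decide), one_mul] at hdk
          exact hdk.symm
      obtain ⟨ω₀, hω₀⟩ := exists_prime_orderOf_dvd_card' (G := Fˣ) n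
        (by rw [Nat.card_units, Nat.card_eq_fintype_card]; exact hd1)
      have hω : IsPrimitiveRoot (ω₀ : F) n := by
        rw [IsPrimitiveRoot.coe_units_iff, ← hω₀]; exact IsPrimitiveRoot.orderOf ω₀
      obtain ⟨b₁, d₁, hd₁, hb₁⟩ := S5981.exists_eigen hn0 hω (f := φ) (fun v => by rw [hfz, hz1, one_smul])
      let b : Basis (Fin n) F (Fin n → F) := b₁.reindex (finCongr hnf)
      let d : Fin n → F := d₁ ∘ (finCongr hnf).symm
      have hbd : ∀ j, φ (b j) = d j • b j := fun j => by
        simp only [b, d, Basis.reindex_apply, Function.comp_apply]; exact hb₁ _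
      have hdσ : ∀ j, σ (d j) = d j := fun j => by
        obtain ⟨w, hw⟩ := hrq1
        rw [hσ, ← Nat.sub_add_cancel hq₀1, pow_succ, hw, pow_mul, show d j ^ n = 1 from hd₁ _, one_pow, one_mul]
      have hprod : ∏ j, d j = 1 := by
        have h3 : LinearMap.toMatrix b b φ = Matrix.diagonal d := by
          ext i j
          rw [LinearMap.toMatrix_apply, hbd, map_smul, Finsupp.smul_apply, Basis.repr_self, Finsupp.single_apply,
            Matrix.diagonal_apply]
          by_cases hij : i = j
          · subst hij; simp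
          · simp [hij, Ne.symm hij]
        rw [← Matrix.det_diagonal, ← h3, LinearMap.det_toMatrix, hφdef, LinearMap.det_toLin', hdet]
      obtain ⟨π, μ, hπ, hμ0, hμ⟩ := S5981.symmetric h35 hω d (fun j => hd₁ _) hprod
      obtain ⟨e, hedet, he⟩ := exists_into σ hσ1 hσ2 hσ f hf φ b d hbd hdσ π hπ μ hμ
      exact ⟨e, μ, hedet, hμ0, he⟩

end Cfsg.Agent.S5982
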