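import Cfsg.Statements.S5965
import Cfsg.Agent.Lib.Forms.Elusive.Linear
import Cfsg.Agent.Lib.Forms.Elusive.Involution
import Cfsg.Agent.Lib.Forms.Elusive.SubfieldThree
import Cfsg.Agent.Lib.Classical.SemisimpleConj
import Cfsg.Agent.Lib.Classical.Linear
import Cfsg.Agent.S5981
import Cfsg.Agent.S5982
import Cfsg.Agent.S5968

set_option autoImplicit false
open scoped MatrixGroups
open Cfsg

namespace Cfsg.Agent.S5965

open Cfsg.Agent.Forms.Elusive Cfsg.Agent.Classical Matrix Module Polynomial

variable {F : Type*} [Field F] [Fintype F]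

theorem exists_aut (p : ℕ) [Fact p.Prime] [CharP F p] (F₀ : Subfield F) {k : ℕ}
    (hk : Fintype.card F = Nat.card F₀ ^ k) (hk0 : k ≠ 0) :
    ∃ (σ : F →+* F) (j : ℕ), Nat.card F₀ = p ^ j ∧ (∀ x, σ x = x ^ Nat.card F₀) ∧ ∀ x, σ x = x ↔ x ∈ F₀ := by
  classical
  haveI := Fintype.ofFinite F₀
  obtain ⟨m, -, hm⟩ := FiniteField.card F p
  obtain ⟨j, -, hj⟩ := (Nat.dvd_prime_pow (Fact.out : p.Prime)).1 (hm ▸ hk ▸ dvd_pow_self (Nat.card F₀) hk0)
  haveI : ExpChar F p := ExpChar.prime (Fact.out : p.Prime)
  have hσ : ∀ x, iterateFrobenius F p j x = x ^ Nat.card F₀ := fun x => by rw [iterateFrobenius_def, hj]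
  refine ⟨iterateFrobenius F p j, j, hj, hσ, fun x => ⟨fun hx => ?_, fun hx => ?_⟩⟩
  · rw [hσ] at hx
    set S : Finset F := Finset.univ.filter fun y => y ∈ F₀ with hS
    have hcard : S.card = Nat.card F₀ := by rw [Nat.card_eq_fintype_card, Fintype.card_subtype, hS]
    by_contra hxS
    have hq1 : 1 < Nat.card F₀ := by rw [Nat.card_eq_fintype_card]; exact Fintype.one_lt_card
    have hsub : (insert x S).val ⊆ (X ^ Nat.card F₀ - X : F[X]).roots := by
      intro y hy
      rw [mem_roots (FiniteField.X_pow_card_sub_X_ne_zero F hq1), IsRoot.def, eval_sub, eval_pow, eval_X, sub_eq_zero]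
      rcases Finset.mem_insert.1 (show y ∈ insert x S from hy) with rfl | hy'
      · exact hx
      · have h1 := FiniteField.pow_card (⟨y, (Finset.mem_filter.1 hy').2⟩ : F₀)
        rw [← Nat.card_eq_fintype_card] at h1
        exact congrArg Subtype.val h1
    have h2 := Polynomial.card_le_degree_of_subset_roots hsub
    rw [FiniteField.X_pow_card_sub_X_natDegree_eq F hq1, Finset.card_insert_of_notMem
      (fun h => hxS (Finset.mem_filter.1 h).2), hcard] at h2
    omega
  · rw [hσ]
    have h1 := FiniteField.pow_card (⟨x, hx⟩ : F₀)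
    rw [← Nat.card_eq_fintype_card] at h1
    exact congrArg Subtype.val h1

/-- the index of the subfield group -/
theorem index_cases {n k : ℕ} (hn : 0 < n) (F₀ : Subfield F) (hk : Fintype.card F = Nat.card F₀ ^ k)
    {r : ℕ} [hr : Fact r.Prime] (hrq : ¬ r ∣ Fintype.card F) (hkp : k.Prime) (hrk : r ≠ k)
    (hd : r ∣ ((Cfsg.Geo.subfieldSubgroup F₀ 1).comap
      (Matrix.SpecialLinearGroup.toGL : Matrix.SpecialLinearGroup (Fin n) F →* GL (Fin n) F)).index) :
    ∃ j, 2 ≤ j ∧ j ≤ n ∧ (Nat.card F₀ : ZMod r) ^ (k * j) = 1 ∧ (Nat.card F₀ : ZMod r) ^ j ≠ 1 := by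
  classical
  haveI := Fintype.ofFinite F₀
  haveI : Nonempty (Fin n) := ⟨⟨0, hn⟩⟩
  set q := Fintype.card F with hq
  set q₀ := Nat.card F₀ with hq₀
  have hq01 : 1 < q₀ := by rw [hq₀, Nat.card_eq_fintype_card]; exact Fintype.one_lt_card
  set φ : Matrix.SpecialLinearGroup (Fin n) F₀ →* Matrix.SpecialLinearGroup (Fin n) F :=
    Matrix.SpecialLinearGroup.map (n := Fin n) (F₀.subtype : F₀ →+* F) with hφ
  have hinj : Function.Injective φ := fun a b h => Subtype.ext
    (Matrix.map_injective Subtype.val_injective (congrArg Subtype.val h))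
  have hle : φ.range ≤ (Cfsg.Geo.subfieldSubgroup F₀ 1).comap
      (Matrix.SpecialLinearGroup.toGL : Matrix.SpecialLinearGroup (Fin n) F →* GL (Fin n) F) := by
    rintro _ ⟨a, rfl⟩
    refine Subgroup.mem_comap.2 ((mem_subfield_iff F₀ _).2 ⟨Matrix.SpecialLinearGroup.toGL a, 1, Units.ext ?_⟩)
    rw [Units.val_mul, scal_val, Units.val_one, one_smul, mul_one]
    rfl
  have hidx : φ.range.index * Nat.card (Matrix.SpecialLinearGroup (Fin n) F₀) =
      Nat.card (Matrix.SpecialLinearGroup (Fin n) F) := by
    rw [Nat.card_congr (MonoidHom.ofInjective hinj).toEquiv]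
    exact Subgroup.index_mul_card _
  have hGL : ∀ (K : Type _) [Field K] [Fintype K], ∃ K', Nat.card (GL (Fin n) K) =
      Fintype.card K ^ K' * ∏ i ∈ Finset.range n, (Fintype.card K ^ (i + 1) - 1) := fun K _ _ => by
    refine ⟨∑ i : Fin n, (i : ℕ), ?_⟩
    rw [Matrix.card_GL_field, ← Finset.prod_range_reflect (fun i => Fintype.card K ^ (i + 1) - 1),
      ← Fin.prod_univ_eq_prod_range (fun j => Fintype.card K ^ (n - 1 - j + 1) - 1), ← Finset.prod_pow_eq_pow_sum,
      ← Finset.prod_mul_distrib]
    refine Finset.prod_congr rfl fun i _ => ?_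
    rw [show n - 1 - (i : ℕ) + 1 = n - i by omega, Nat.mul_sub, ← pow_add, Nat.add_sub_cancel' i.2.le, mul_one]
  obtain ⟨K, hK⟩ := hGL F
  obtain ⟨K₀, hK₀⟩ := hGL F₀
  rw [Linear.natCard_GL_eq_mul] at hK hK₀
  rw [← Nat.card_eq_fintype_card, ← hq₀] at hK₀
  set o : ℕ → ℕ := fun i => ∑ l ∈ Finset.range k, (q₀ ^ (i + 1)) ^ l with ho
  have hfac : ∀ i, q ^ (i + 1) - 1 = (q₀ ^ (i + 1) - 1) * o i := fun i => by
    have h1 := geom_sum_mul_add (q₀ ^ (i + 1) - 1) k
    rw [Nat.sub_add_cancel (Nat.one_le_pow _ _ (by omega))] at h1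
    rw [hk, ← pow_mul, mul_comm k, pow_mul, ← h1, Nat.add_sub_cancel, mul_comm]
  rw [← hidx, Finset.prod_congr rfl (fun i _ => hfac i), Finset.prod_mul_distrib] at hK
  obtain ⟨m, rfl⟩ : ∃ m, n = m + 1 := ⟨n - 1, by omega⟩
  rw [Finset.prod_range_succ' o, show q - 1 = (q₀ - 1) * o 0 by simpa using hfac 0] at hK
  have hpos : 0 < (q₀ - 1) * Nat.card (Matrix.SpecialLinearGroup (Fin (m + 1)) F₀) * o 0 :=
    Nat.mul_pos (Nat.mul_pos (by omega) Nat.card_pos)
      (Finset.sum_pos (fun _ _ => pow_pos (pow_pos (by omega) _) _) (Finset.nonempty_range_iff.2 hkp.ne_zero))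
  have h3 : φ.range.index * q₀ ^ K₀ = q ^ K * ∏ i ∈ Finset.range m, o (i + 1) := by
    refine Nat.eq_of_mul_eq_mul_left hpos ?_
    calc _ = (q₀ - 1) * o 0 * (φ.range.index * Nat.card (Matrix.SpecialLinearGroup (Fin (m + 1)) F₀)) * q₀ ^ K₀ := by ring
      _ = _ := by rw [hK, hK₀]; ring
  have h4 : r ∣ q ^ K * ∏ i ∈ Finset.range m, o (i + 1) :=
    h3 ▸ ((hd.trans (Subgroup.index_dvd_of_le hle)).mul_right _)
  rcases hr.out.dvd_mul.1 h4 with h5 | h5
  · exact absurd (hr.out.dvd_of_dvd_pow h5) hrq
  obtain ⟨i, hi, hir⟩ := (hr.out.prime.dvd_finsetProd_iff _).1 h5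
  have hs : ∑ l ∈ Finset.range k, ((q₀ : ZMod r) ^ (i + 2)) ^ l = 0 := by
    have := (ZMod.natCast_eq_zero_iff _ _).2 hir
    simpa [ho] using this
  refine ⟨i + 2, by omega, by have := Finset.mem_range.1 hi; omega, ?_, fun h1 => ?_⟩
  · have h6 := geom_sum_mul ((q₀ : ZMod r) ^ (i + 2)) k
    rw [hs, zero_mul, ← pow_mul, eq_comm, sub_eq_zero, mul_comm] at h6
    exact h6
  · rw [h1] at hs
    simp only [one_pow, Finset.sum_const, Finset.card_range, nsmul_eq_mul, mul_one, ZMod.natCast_eq_zero_iff] at hs
    exact hrk ((Nat.prime_dvd_prime_iff_eq hr.out hkp).1 hs)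

omit [Fintype F] in
theorem diag_test_gen {n : ℕ} (σ : F →+* F) (d : Fin n → F) (P g : GL (Fin n) F) {c : F}
    (hg : (g : Matrix (Fin n) (Fin n) F) =
      ((P⁻¹ : GL (Fin n) F) : Matrix (Fin n) (Fin n) F) * Matrix.diagonal d * (P : Matrix (Fin n) (Fin n) F))
    (h : (g : Matrix (Fin n) (Fin n) F).map σ = c • (g : Matrix (Fin n) (Fin n) F))
    [DecidableEq F] (t : F) :
    (Finset.univ.filter fun l => d l = t).card = (Finset.univ.filter fun l => c * d l = σ t).card := by
  classical
  set P' : GL (Fin n) F := Matrix.GeneralLinearGroup.map σ P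
  have e1 : (g : Matrix (Fin n) (Fin n) F).map σ =
      ((P'⁻¹ : GL (Fin n) F) : Matrix (Fin n) (Fin n) F) * Matrix.diagonal (fun l => σ (d l)) *
        (P' : Matrix (Fin n) (Fin n) F) := by
    rw [show (g : Matrix (Fin n) (Fin n) F).map σ = σ.mapMatrix (g : Matrix (Fin n) (Fin n) F) from rfl, hg, map_mul,
      map_mul, show σ.mapMatrix (Matrix.diagonal d) = Matrix.diagonal (fun l => σ (d l)) by
        rw [RingHom.mapMatrix_apply, Matrix.diagonal_map (map_zero σ)], ← map_inv]
    rfl
  have h3 : ((g : Matrix (Fin n) (Fin n) F).map σ - σ t • 1).rank =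
      (c • (g : Matrix (Fin n) (Fin n) F) - σ t • 1).rank := by rw [h]
  rw [e1, hg, ← smul_mul_assoc, ← mul_smul_comm, S5979.rank_conj, S5979.rank_conj, ← Matrix.diagonal_smul,
    Matrix.smul_one_eq_diagonal, Matrix.diagonal_sub, Matrix.diagonal_sub, Matrix.rank_diagonal,
    Matrix.rank_diagonal, Fintype.card_subtype, Fintype.card_subtype] at h3
  have h1 := Finset.card_filter_add_card_filter_not (s := (Finset.univ : Finset (Fin n))) (fun l => d l = t)
  have h2 := Finset.card_filter_add_card_filter_not (s := (Finset.univ : Finset (Fin n)))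
    (fun l => c * d l = σ t)
  simp only [sub_ne_zero, Pi.smul_apply, smul_eq_mul, σ.injective.ne_iff] at h3
  simp only [ne_eq] at h3
  omega

omit [Fintype F] in
/-- the same test when `σ` inverts `t` -/
theorem diag_test {n : ℕ} (σ : F →+* F) (d : Fin n → F) (P g : GL (Fin n) F) {μ : F} (hμ : μ ≠ 0)
    (hg : (g : Matrix (Fin n) (Fin n) F) =
      ((P⁻¹ : GL (Fin n) F) : Matrix (Fin n) (Fin n) F) * Matrix.diagonal d * (P : Matrix (Fin n) (Fin n) F))
    (h : (g : Matrix (Fin n) (Fin n) F).map σ = μ⁻¹ • (g : Matrix (Fin n) (Fin n) F))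
    [DecidableEq F] (t : F) (ht : t ≠ 0) (hσt : σ t = t⁻¹) :
    (Finset.univ.filter fun l => d l = t).card = (Finset.univ.filter fun l => μ = t * d l).card := by
  rw [diag_test_gen σ d P g hg h t]
  congr 1
  refine Finset.filter_congr fun l _ => ?_
  rw [hσt, inv_mul_eq_iff_eq_mul₀ hμ, eq_mul_inv_iff_mul_eq₀ ht]
  constructor
  · intro e; rw [← e, mul_comm]
  · intro e; rw [e, mul_comm]

/-- semisimple elements whose characteristic polynomial is fixed are conjugate into the subfield group -/
theorem exists_into {n : ℕ} (hn : 0 < n) (F₀ : Subfield F) (σ : F →+* F) (hσ : ∀ x, σ x = x ↔ x ∈ F₀)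
    (x : Matrix.SpecialLinearGroup (Fin n) F) (A : Matrix (Fin n) (Fin n) F) {l : ℕ} (hl : (l : F) ≠ 0)
    (hA : A ^ l = 1) (s : Fˣ) (hx : (x : Matrix (Fin n) (Fin n) F) = (s : F) • A)
    (hfix : A.charpoly.map σ = A.charpoly) :
    ∃ P : Matrix.SpecialLinearGroup (Fin n) F, P⁻¹ * x * P ∈ (Cfsg.Geo.subfieldSubgroup F₀ 1).comap
      (Matrix.SpecialLinearGroup.toGL : Matrix.SpecialLinearGroup (Fin n) F →* GL (Fin n) F) := by
  classical
  haveI : Nonempty (Fin n) := ⟨⟨0, hn⟩⟩
  have hdetA : A.det ≠ 0 := fun e => by
    have := congrArg Matrix.det hA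
    rw [Matrix.det_pow, e, Matrix.det_one, zero_pow (fun h => hl (by rw [h, Nat.cast_zero]))] at this
    exact zero_ne_one this
  obtain ⟨χ, hχ, hχd, hχm⟩ := Polynomial.lifts_and_natDegree_eq_and_monic
    (f := (F₀.subtype : F₀ →+* F)) (p := A.charpoly)
    ((Polynomial.lifts_iff_coeff_lifts _).2 fun i => ⟨⟨A.charpoly.coeff i, (hσ _).1 (by
      conv_rhs => rw [← hfix]
      rw [Polynomial.coeff_map])⟩, rfl⟩) (Matrix.charpoly_monic A)
  have h0 : χ.coeff 0 ≠ 0 := fun e => hdetA (by
    rw [Matrix.det_eq_sign_charpoly_coeff, ← hχ, Polynomial.coeff_map, e, map_zero, mul_zero])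
  have hdeg : χ.natDegree = n := by rw [hχd, Matrix.charpoly_natDegree_eq_dim, Fintype.card_fin]
  obtain ⟨A₀, l₀, hl₀, hA₀, hA₀c⟩ := SemisimpleConj.exists_matrix (F := F₀) n χ hdeg hχm h0
  set B : Matrix (Fin n) (Fin n) F := A₀.map (F₀.subtype : F₀ →+* F) with hB
  have hBl : B ^ l₀ = 1 := by
    rw [hB, show A₀.map (F₀.subtype : F₀ →+* F) = (F₀.subtype : F₀ →+* F).mapMatrix A₀ from rfl, ← map_pow, hA₀,
      map_one]
  have hll : ((l * l₀ : ℕ) : F) ≠ 0 := by
    rw [Nat.cast_mul]
    exact mul_ne_zero hl fun e => hl₀ (F₀.subtype.injective (by rw [map_natCast, map_zero]; exact e))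
  obtain ⟨M, hM⟩ := SemisimpleConj.exists_matrix_conj A B hll (by rw [pow_mul, hA, one_pow])
    (by rw [mul_comm, pow_mul, hBl, one_pow]) (by rw [hB, Matrix.charpoly_map, hA₀c, hχ])
  haveI : Nontrivial (Fin n → F) := inferInstance
  obtain ⟨C, hC, hCdet⟩ := CentralizerDet.exists_commute_det (V := Fin n → F) (Matrix.toLinAlgEquiv' A) hl
    (by rw [← map_pow, hA, map_one]) (M : Matrix (Fin n) (Fin n) F).det⁻¹
  have hdM : (M : Matrix (Fin n) (Fin n) F).det ≠ 0 := ((Matrix.isUnit_iff_isUnit_det _).1 M.isUnit).ne_zero
  set C' : Matrix (Fin n) (Fin n) F := LinearMap.toMatrixAlgEquiv' C with hC'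
  have hC'A : C' * A = A * C' := by
    have := congrArg (LinearMap.toMatrixAlgEquiv' (R := F) (n := Fin n)) hC
    rwa [map_mul, map_mul, LinearMap.toMatrixAlgEquiv'_toLinAlgEquiv'] at this
  have hdet : ((M : Matrix (Fin n) (Fin n) F) * C').det = 1 := by
    rw [Matrix.det_mul, hC', show (LinearMap.toMatrixAlgEquiv' C).det = LinearMap.det C from
      LinearMap.det_toMatrix' C, hCdet, mul_inv_cancel₀ hdM]
  set P : Matrix.SpecialLinearGroup (Fin n) F := ⟨(M : Matrix (Fin n) (Fin n) F) * C', hdet⟩
  refine ⟨P⁻¹, Subgroup.mem_comap.2 ((mem_subfield_iff F₀ _).2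
    ⟨Matrix.GeneralLinearGroup.mkOfDetNeZero A₀ (fun e => ?_), s, Units.ext ?_⟩)⟩
  · have := congrArg Matrix.det hA₀
    rw [Matrix.det_pow, e, Matrix.det_one, zero_pow (fun h => hl₀ (by rw [h, Nat.cast_zero]))] at this
    exact zero_ne_one this
  · rw [inv_inv]
    show ((P * x * P⁻¹ : Matrix.SpecialLinearGroup (Fin n) F) : Matrix (Fin n) (Fin n) F) = B * _
    rw [scal_val, mul_smul_comm, mul_one, Matrix.SpecialLinearGroup.coe_mul, Matrix.SpecialLinearGroup.coe_mul, hx,
      mul_smul_comm, smul_mul_assoc]
    congr 1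
    show (M : Matrix (Fin n) (Fin n) F) * C' * A * _ = B
    rw [mul_assoc _ C', hC'A, ← mul_assoc, hM, mul_assoc B, mul_assoc B]
    show B * ((P : Matrix (Fin n) (Fin n) F) * _) = B
    rw [← Matrix.SpecialLinearGroup.coe_mul, mul_inv_cancel, Matrix.SpecialLinearGroup.coe_one, mul_one]

/-- every factor of `X ^ r - 1` is fixed when `σ` and the Frobenius agree on the roots of unity -/
theorem charpoly_fixed (p : ℕ) [Fact p.Prime] [CharP F p] {n r j : ℕ} [hr : Fact r.Prime]
    (hr0 : (r : F) ≠ 0) (σ : F →+* F) (hσ : ∀ x, σ x = x ^ p ^ j) (hj : p ^ j ≡ Fintype.card F [MOD r])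
    (A : Matrix (Fin n) (Fin n) F) (hA : A ^ r = 1) : A.charpoly.map σ = A.charpoly := by
  classical
  have hmon := Matrix.charpoly_monic A
  have hfac : ∀ P : F[X], Irreducible P → P.Monic → P ∣ A.charpoly → P.map σ = P := by
    intro P hP hPm hPd
    haveI : Fact (Irreducible P) := ⟨hP⟩
    haveI : FiniteDimensional F (AdjoinRoot P) := (AdjoinRoot.powerBasis hP.ne_zero).finite
    haveI : Finite (AdjoinRoot P) := Module.finite_of_finite F
    letI := Fintype.ofFinite (AdjoinRoot P)
    haveI : CharP (AdjoinRoot P) p := charP_of_injective_algebraMap (algebraMap F (AdjoinRoot P)).injective p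
    haveI : ExpChar (AdjoinRoot P) p := ExpChar.prime (Fact.out : p.Prime)
    set ζ := AdjoinRoot.root P with hζ
    have hroot : aeval ζ P = 0 := by rw [hζ, AdjoinRoot.aeval_eq, AdjoinRoot.mk_self]
    have hζr : ζ ^ r = 1 := by
      have hX : aeval A (X ^ r - 1 : F[X]) = 0 := by rw [map_sub, aeval_X_pow, map_one, hA, sub_self]
      have hmem : P ∣ X ^ r - 1 := by
        by_contra hnd
        obtain ⟨a, b, hab⟩ := (dvd_or_isCoprime _ _ hP).resolve_left hnd
        obtain ⟨u, hu0, hu⟩ := SemisimpleConj.exists_kills_of_dvd_charpoly _ (Matrix.toLinAlgEquiv' A) rfl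
          (k := r) hr0 (by rw [← map_pow, hA, map_one]) hP ((Matrix.charpoly_toLin' A).symm ▸ hPd : _)
        refine hu0 ?_
        have h1 := congrArg (fun R => aeval (Matrix.toLinAlgEquiv' A) R u) hab
        simp only [map_add, map_mul, LinearMap.add_apply, Module.End.mul_apply, hu, map_zero, map_one,
          Module.End.one_apply, zero_add, map_sub, aeval_X_pow, ← map_pow, hA, sub_self] at h1
        simpa using h1.symm
      obtain ⟨w, hw⟩ := hmem
      have := congrArg (aeval ζ) hw
      rw [map_mul, hroot, zero_mul, map_sub, aeval_X_pow, map_one, sub_eq_zero] at this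
      exact this
    have hq : ζ ^ (p ^ j) = ζ ^ Fintype.card F := by
      rw [← Nat.mod_add_div (p ^ j) r, ← Nat.mod_add_div (Fintype.card F) r, hj, pow_add, pow_add, pow_mul, pow_mul,
        hζr, one_pow, one_pow]
    let τ := FiniteField.frobeniusAlgHom F (AdjoinRoot P)
    have h1 : aeval (ζ ^ Fintype.card F) P = 0 := by
      show aeval (τ ζ) P = 0
      rw [aeval_algHom_apply, hroot, map_zero]
    have h2 : aeval (ζ ^ Fintype.card F) (P.map σ) = 0 := by
      let ψ : AdjoinRoot P →+* AdjoinRoot P := iterateFrobenius (AdjoinRoot P) p j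
      have hψ : ψ.comp (algebraMap F (AdjoinRoot P)) = (algebraMap F (AdjoinRoot P)).comp σ := RingHom.ext fun a => by
        show iterateFrobenius (AdjoinRoot P) p j (algebraMap F _ a) = algebraMap F _ (σ a)
        rw [iterateFrobenius_def, hσ, map_pow]
      have h6 := congrArg ψ hroot
      rw [map_zero, aeval_def, Polynomial.hom_eval₂, hψ, ← Polynomial.eval₂_map] at h6
      rw [← hq, ← iterateFrobenius_def, aeval_def]
      exact h6
    have e1 := minpoly.eq_of_irreducible_of_monic hP h1 hPm
    have h3 := minpoly.dvd F _ h2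
    rw [← e1] at h3
    exact (Polynomial.eq_of_monic_of_dvd_of_natDegree_le hPm (hPm.map σ) h3 (by rw [Polynomial.natDegree_map]))
  have hprod := UniqueFactorizationMonoid.prod_normalizedFactors_eq hmon.ne_zero
  rw [Polynomial.Monic.normalize_eq_self hmon] at hprod
  conv_lhs => rw [← hprod]
  rw [Polynomial.map_multiset_prod]
  conv_rhs => rw [← hprod]
  congr 1
  rw [Multiset.map_congr rfl (g := id) (fun P hP => ?_), Multiset.map_id]
  have h1 := UniqueFactorizationMonoid.irreducible_of_normalized_factor P hP
  refine hfac P h1 ?_ (UniqueFactorizationMonoid.dvd_of_mem_normalizedFactors hP)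
  rw [← UniqueFactorizationMonoid.normalize_normalized_factor P hP]
  exact Polynomial.monic_normalize h1.ne_zero


/-- Elements of odd prime order r ≠ p of PSL_n(q) and subfield subgroups. Here `T = PSL_n(F)` for a field `F` with `q = p^f` elements (`n ≥ 2`, `(n, q) ≠ (2, 2), (2, 3)`), `F₀` is the subfield with `q₀` elements where `q = q₀^k` for a prime `k`, and `H` is the subgroup of matrices of determinant 1 lying in the subfield group of `F₀` (invertible matrices over `F₀` times scalars) — a maximal subgroup of type GL_n(q₀) (the case `n = 2`, `q₀ = 2` is excluded); Ω is the set of `T`-conjugates of `H` (cosets of `H`), so an element of `T` of prime order `r` (a matrix `x` of determinant 1 with `x^r` scalar, `x` not scalar) fixes a point of Ω when some conjugate of `x` by a matrix of determinant 1 lies in `H`. Let `r ≠ p` be an odd prime dividing the index of `H`, with `(n, r) ≠ (6, 3)` and, when `r = k` divides `q₀ − 1`, with `(n)_r ≤ (q − 1)_r`. Then every element of `T` of order `r` is conjugate in `T` into `H` if and only if `r =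 k`, or `k = 2`, `r = n ∈ {3, 5}` and `(q₀ + 1)_r = r`. The two excluded cases, `(n, r) = (6, 3)` and `r = k ∣ q₀ − 1` with `(n)_r > (q − 1)_r`, are ones where this criterion can fail, so they are left out. -/
theorem result {F : Type*} [Field F] [Fintype F] {p : ℕ} [Fact p.Prime] [CharP F p] {q : ℕ} (hq : Fintype.card F = q)
    (n : ℕ) (hn : 2 ≤ n) (hT : (n, q) ≠ (2, 2) ∧ (n, q) ≠ (2, 3))
    (F₀ : Subfield F) (k q₀ : ℕ) (hk : k.Prime) (hF₀ : Nat.card ↥F₀ = q₀) (hqk : q = q₀ ^ k) (hC5 : ¬ (n = 2 ∧ q₀ = 2)) (r : ℕ) [Fact r.Prime] (hr2 : r ≠ 2) (hrp : r ≠ p) (hgap : ¬ (n = 6 ∧ r = 3)) (hgapk : r = k → r ∣ q₀ - 1 → padicValNat r n ≤ padicValNat r (q - 1)) (hΩ : r ∣ ((Cfsg.Geo.subfieldSubgroup F₀ 1).comap (Matrix.SpecialLinearGroup.toGL : Matrix.SpecialLinearGroup (Fin n) F →* GL (Fin n) F)).index) :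
    (∀ x : Matrix.SpecialLinearGroup (Fin n) F,
      (∃ z : F, ((x ^ r : Matrix.SpecialLinearGroup (Fin n) F) : Matrix (Fin n) (Fin n) F) = z • (1 : Matrix (Fin n) (Fin n) F)) →
      (∀ z : F, (x : Matrix (Fin n) (Fin n) F) ≠ z • (1 : Matrix (Fin n) (Fin n) F)) →
      ∃ P : Matrix.SpecialLinearGroup (Fin n) F, P⁻¹ * x * P ∈ ((Cfsg.Geo.subfieldSubgroup F₀ 1).comap (Matrix.SpecialLinearGroup.toGL : Matrix.SpecialLinearGroup (Fin n) F →* GL (Fin n) F))) ↔
    (r = k ∨ (k = 2 ∧ r = n ∧ (n = 3 ∨ n = 5) ∧ padicValNat r (q₀ + 1) = 1)) := by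
  classical
  subst hq
  subst hF₀
  haveI : NeZero n := ⟨by omega⟩
  haveI : Nontrivial (Fin n → F) := inferInstance
  haveI : Fact k.Prime := ⟨hk⟩
  obtain ⟨σ, jp, hjp, hσ, hσF⟩ := exists_aut p F₀ hqk hk.ne_zero
  set q₀ := Nat.card F₀ with hq₀
  have hq₀1 : 1 < q₀ := by
    haveI := Fintype.ofFinite F₀
    rw [hq₀, Nat.card_eq_fintype_card]; exact Fintype.one_lt_card
  have hnf : finrank F (Fin n → F) = n := Module.finrank_fin_fun F
  have h2r : 2 < r := lt_of_le_of_ne (Fact.out : r.Prime).two_le (Ne.symm hr2)
  have hr0 : (r : F) ≠ 0 := fun e =>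
    hrp ((Nat.prime_dvd_prime_iff_eq Fact.out Fact.out).1 ((CharP.cast_eq_zero_iff F p r).1 e)).symm
  have hrq₀ : ¬ r ∣ q₀ := fun h => by
    rw [hjp] at h
    exact hrp ((Nat.prime_dvd_prime_iff_eq Fact.out Fact.out).1 ((Fact.out : r.Prime).dvd_of_dvd_pow h))
  have hrq : ¬ r ∣ Fintype.card F := fun h => hrq₀ (by rw [hqk] at h; exact (Fact.out : r.Prime).dvd_of_dvd_pow h)
  have hqZ : ((Fintype.card F : ℕ) : ZMod r) = (q₀ : ZMod r) ^ k := by rw [hqk, Nat.cast_pow]
  have h2Z : (2 : ZMod r) ≠ 0 := fun e0 => by
    have := Nat.le_of_dvd two_pos ((ZMod.natCast_eq_zero_iff 2 r).1 (by exact_mod_cast e0))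
    omega
  constructor
  · intro hall
    by_contra hcon
    push Not at hcon
    obtain ⟨hrk, hcon⟩ := hcon
    have test : ∀ (Y : Matrix (Fin n) (Fin n) F), Y.det = 1 → (∃ z : F, Y ^ r = z • 1) → (∀ z : F, Y ≠ z • 1) →
        ∃ (P g : GL (Fin n) F) (μ : F), μ ≠ 0 ∧ (g : Matrix (Fin n) (Fin n) F) =
          ((P⁻¹ : GL (Fin n) F) : Matrix (Fin n) (Fin n) F) * Y * (P : Matrix (Fin n) (Fin n) F) ∧
          (g : Matrix (Fin n) (Fin n) F).map σ = μ⁻¹ • (g : Matrix (Fin n) (Fin n) F) ∧
          (Y ^ r = 1 → g ^ r = 1 ∧ μ ^ r = 1) := by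
      intro Y hY ⟨z, hz⟩ hns
      let x : Matrix.SpecialLinearGroup (Fin n) F := ⟨Y, hY⟩
      obtain ⟨P, hP⟩ := hall x ⟨z, by rw [Matrix.SpecialLinearGroup.coe_pow]; exact hz⟩ hns
      obtain ⟨h, s, hs⟩ := (mem_subfield_iff F₀ _).1 (Subgroup.mem_comap.1 hP)
      set g : GL (Fin n) F := Matrix.SpecialLinearGroup.toGL (P⁻¹ * x * P) with hg
      have hgs : (g : Matrix (Fin n) (Fin n) F) = (s : F) • (h : Matrix (Fin n) (Fin n) F₀).map F₀.subtype := by
        rw [hs, Units.val_mul, scal_val, mul_smul_comm, mul_one]; rfl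
      have hσs0 : σ (s : F) ≠ 0 := by simpa using s.ne_zero
      have hsim : (g : Matrix (Fin n) (Fin n) F).map σ = ((s : F) / σ s)⁻¹ • (g : Matrix (Fin n) (Fin n) F) := by
        rw [hgs, inv_div, smul_smul, div_mul_cancel₀ _ s.ne_zero]
        ext i j
        simp only [Matrix.map_apply, Matrix.smul_apply, smul_eq_mul, map_mul]
        exact congrArg (σ (s : F) * ·) ((hσF _).2 ((h : Matrix (Fin n) (Fin n) F₀) i j).2)
      have hgv : (g : Matrix (Fin n) (Fin n) F) =
          (((Matrix.SpecialLinearGroup.toGL P)⁻¹ : GL (Fin n) F) : Matrix (Fin n) (Fin n) F) * Y *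
            ((Matrix.SpecialLinearGroup.toGL P : GL (Fin n) F) : Matrix (Fin n) (Fin n) F) := by
        rw [hg, map_mul, map_mul, map_inv, Units.val_mul, Units.val_mul]; rfl
      refine ⟨_, g, (s : F) / σ s, div_ne_zero s.ne_zero hσs0, hgv, hsim, fun h1 => ?_⟩
      have hgr : g ^ r = 1 := Units.ext (by
        rw [Units.val_pow_eq_pow_val, hgv, Units.conj_pow', h1, mul_one, ← Units.val_mul, inv_mul_cancel, Units.val_one])
      refine ⟨hgr, ?_⟩
      have e1 : σ.mapMatrix ((g : Matrix (Fin n) (Fin n) F) ^ r) = σ.mapMatrix 1 := by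
        rw [← Units.val_pow_eq_pow_val, hgr, Units.val_one]
      rw [map_pow, map_one, RingHom.mapMatrix_apply, hsim, _root_.smul_pow, ← Units.val_pow_eq_pow_val, hgr,
        Units.val_one] at e1
      have e2 := congrFun (congrFun e1 0) 0
      simp at e2
      have hne : (s : F) ^ r ≠ 0 := pow_ne_zero _ s.ne_zero
      rw [div_pow] at e2 ⊢
      field_simp at e2 ⊢
      first | exact e2 | exact e2.symm
    obtain ⟨j, hj2, hjn, hjk, hjne⟩ := index_cases (by omega : 0 < n) F₀ hqk hrq hk hrk hΩ
    set i₀ : Fin n := ⟨0, by omega⟩ with hi₀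
    set i₁ : Fin n := ⟨1, by omega⟩ with hi₁
    have h01 : i₀ ≠ i₁ := by simp [i₀, i₁, Fin.ext_iff]
    set i := orderOf ((Fintype.card F : ℕ) : ZMod r) with hidef
    by_cases hi1 : i = 1
    · have hd1 : r ∣ Fintype.card F - 1 := (order_one_iff r).1 hi1
      have hqk1 : (q₀ : ZMod r) ^ k = 1 := by rw [← hqZ]; exact orderOf_eq_one_iff.1 hi1
      have hq01 : (q₀ : ZMod r) ≠ 1 := fun e => hjne (by rw [e, one_pow])
      have nofix : ∀ a : F, a ^ r = 1 → σ a = a → a = 1 := fun a ha hσa => by
        have ha0 : a ≠ 0 := fun e => by rw [e, zero_pow (Fact.out : r.Prime).ne_zero] at ha; exact zero_ne_one ha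
        rw [hσ] at hσa
        by_contra ha1
        have ho : orderOf a = r := orderOf_eq_prime ha ha1
        have h1 : a ^ (q₀ - 1) = 1 := mul_right_cancel₀ ha0 (by
          rw [← pow_succ, Nat.sub_add_cancel hq₀1.le, hσa, one_mul])
        have h2 := orderOf_dvd_of_pow_eq_one h1
        rw [ho, ← ZMod.natCast_eq_zero_iff, Nat.cast_sub hq₀1.le, sub_eq_zero, Nat.cast_one] at h2
        exact hq01 h2
      by_cases hk2 : k = 2
      · subst hk2
        have hjodd : Odd j := by
          rw [← Nat.not_even_iff_odd]
          rintro ⟨w, rfl⟩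
          exact hjne (by rw [← two_mul, pow_mul, hqk1, one_pow])
        have hn : 3 ≤ n := by obtain ⟨w, hw⟩ := hjodd; omega
        set i₂ : Fin n := ⟨2, by omega⟩ with hi₂
        have h02 : i₀ ≠ i₂ := by simp [i₀, i₂, Fin.ext_iff]
        have h12 : i₁ ≠ i₂ := by simp [i₁, i₂, Fin.ext_iff]
        have hqm : (q₀ : ZMod r) = -1 := (sq_eq_one_iff.1 hqk1).resolve_left hq01
        have hrp1 : r ∣ q₀ + 1 := by
          rw [← ZMod.natCast_eq_zero_iff, Nat.cast_add, hqm, Nat.cast_one, neg_add_cancel]
        have hrnd : ¬ r ∣ q₀ - 1 := fun h => by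
          have h3 := Nat.dvd_sub hrp1 h
          rw [show q₀ + 1 - (q₀ - 1) = 2 by omega] at h3
          have := Nat.le_of_dvd two_pos h3
          omega
        have inv_ne : ∀ a : F, a ^ r = 1 → a ≠ 0 := fun a ha e => by
          rw [e, zero_pow (Fact.out : r.Prime).ne_zero] at ha; exact zero_ne_one ha
        have inv_of : ∀ a : F, a ^ r = 1 → σ a = a⁻¹ := fun a ha => by
          obtain ⟨w, hw⟩ := hrp1
          refine (inv_eq_of_mul_eq_one_left ?_).symm
          rw [hσ, ← pow_succ, hw, pow_mul, ha, one_pow]
        have hqq : Fintype.card F - 1 = (q₀ + 1) * (q₀ - 1) := by rw [hqk]; simpa using Nat.sq_sub_sq q₀ 1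
        have dvd_q0 : r ^ 2 ∣ Fintype.card F - 1 → r ^ 2 ∣ q₀ + 1 := fun h => by
          rw [hqq] at h
          exact (Nat.Coprime.pow_left 2 ((Fact.out : r.Prime).coprime_iff_not_dvd.2 hrnd)).dvd_of_dvd_mul_right h
        have hval : padicValNat r (Fintype.card F - 1) = padicValNat r (q₀ + 1) := by
          rw [hqq, padicValNat.mul (by omega) (by omega), padicValNat.eq_zero_of_not_dvd hrnd, add_zero]
        have hcon' : (r = 3 ∨ r = 5) → n = r → padicValNat r (Fintype.card F - 1) ≠ 1 := fun h1 h2 =>
          hval ▸ hcon rfl h2.symm (h2 ▸ h1)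
        by_cases hC : (r = 3 ∨ r = 5) ∧ n = r
        · -- an element whose `r`-th power is a non-trivial scalar
          obtain ⟨h35, rfl⟩ := hC
          have hv : padicValNat n (Fintype.card F - 1) ≠ 1 := hcon' h35 rfl
          have hQpos : Fintype.card F - 1 ≠ 0 := by have := Fintype.one_lt_card (α := F); omega
          have hv1 := one_le_padicValNat_of_dvd hQpos hd1
          have hsq : n ^ 2 ∣ Fintype.card F - 1 := (pow_dvd_pow n (by omega)).trans pow_padicValNat_dvd
          obtain ⟨η₀, hη₀⟩ := IsCyclic.exists_ofOrder_eq_natCard (α := Fˣ)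
          rw [Nat.card_units, Nat.card_eq_fintype_card] at hη₀
          obtain ⟨k', hk⟩ := hsq
          have hk0 : k' ≠ 0 := fun e => hQpos (by rw [hk, e, mul_zero])
          set η : F := ((η₀ ^ k' : Fˣ) : F) with hη
          have hpow : ∀ j : ℕ, η ^ j = 1 ↔ n ^ 2 ∣ j := fun j => by
            rw [hη, ← Units.val_pow_eq_pow_val, Units.val_eq_one, ← orderOf_dvd_iff_pow_eq_one, orderOf_pow' _ hk0,
              hη₀, hk, Nat.gcd_mul_left_left, Nat.mul_div_cancel _ (Nat.pos_of_ne_zero hk0)]
          have hη0 : η ≠ 0 := (η₀ ^ k').ne_zero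
          set a := η ^ n with ha
          have har : a ^ n = 1 := by rw [ha, ← pow_mul, ← pow_two, (hpow _).2 dvd_rfl]
          have ha2 : a ^ 2 ≠ 1 := fun e => by
            rw [ha, ← pow_mul, hpow] at e
            have := Nat.le_of_dvd (by omega) e
            nlinarith
          have ha1 : a ≠ 1 := fun e => ha2 (by rw [e, one_pow])
          let d : Fin n → F := fun l => if l = i₀ then η⁻¹ * a else η⁻¹
          have hd : ∀ l, d l ≠ 0 := fun l => by
            simp only [d]; split_ifs <;> simp [hη0, ha]
          obtain ⟨P, g, μ, hμ0, hg, hsim, -⟩ := test (Matrix.diagonal d) (by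
              rw [Matrix.det_diagonal, ← Finset.mul_prod_erase _ _ (Finset.mem_univ i₀),
                Finset.prod_congr rfl (fun l hl => show d l = η⁻¹ from if_neg (Finset.ne_of_mem_erase hl)),
                Finset.prod_const, Finset.card_erase_of_mem (Finset.mem_univ _), Finset.card_univ, Fintype.card_fin,
                show d i₀ = η⁻¹ * a from if_pos rfl, mul_right_comm, ← pow_succ', Nat.sub_add_cancel (by omega), ha,
                inv_pow, inv_mul_cancel₀ (pow_ne_zero _ hη0)])
            ⟨(η⁻¹) ^ n, by
              rw [Matrix.diagonal_pow, Matrix.smul_one_eq_diagonal]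
              congr 1; funext l; simp only [Pi.pow_apply, d]; split_ifs
              · rw [mul_pow, har, mul_one]
              · rfl⟩
            (fun z hz => by
              have e0 := congrFun (congrFun hz i₀) i₀
              have e1 := congrFun (congrFun hz i₁) i₁
              simp [d, h01.symm] at e0 e1
              exact ha1 (mul_left_cancel₀ (inv_ne_zero hη0) (by rw [e0, ← e1, mul_one])))
          set b := η⁻¹ with hb
          have hb0 : b ≠ 0 := inv_ne_zero hη0
          have hηq : η ^ (q₀ + 1) = 1 := (hpow _).2 (dvd_q0 ⟨k', hk⟩)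
          have ha0 : a ≠ 0 := fun e => by rw [e, zero_pow (Fact.out : n.Prime).ne_zero] at har; exact zero_ne_one har
          have hσb : σ b = b⁻¹ := by
            rw [hσ, hb, inv_inv, inv_pow, inv_eq_of_mul_eq_one_right]
            rw [← pow_succ, hηq]
          have hσba : σ (b * a) = (b * a)⁻¹ := by
            rw [map_mul, hσb, inv_of a har, mul_inv]
          have cnt : ∀ R : F → Prop, (Finset.univ.filter fun l => R (d l)).card =
              (if R (b * a) then 1 else 0) + (if R b then n - 1 else 0) := fun R => by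
            rw [Finset.card_filter, ← Finset.add_sum_erase _ _ (Finset.mem_univ i₀),
              Finset.sum_congr (g := fun _ => if R b then 1 else 0) rfl (fun l hl => by
                rw [show d l = b from if_neg (Finset.ne_of_mem_erase hl)]),
              Finset.sum_const, Finset.card_erase_of_mem (Finset.mem_univ _), Finset.card_univ, Fintype.card_fin]
            rw [show d i₀ = b * a from if_pos rfl]
            by_cases hR : R b <;> simp [hR]
          have c1 := diag_test σ d P g hμ0 hg hsim b hb0 hσb
          rw [cnt (fun y => y = b), cnt (fun y => μ = b * y)] at c1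
          have c2 := diag_test σ d P g hμ0 hg hsim (b * a) (mul_ne_zero hb0 ha0) hσba
          rw [cnt (fun y => y = b * a), cnt (fun y => μ = b * a * y)] at c2
          have n1 : b * a ≠ b := fun e => ha1 (mul_left_cancel₀ hb0 (e.trans (mul_one b).symm))
          simp only [n1, n1.symm, if_true, if_false, zero_add, add_zero] at c1 c2
          have hμ : μ = b * b := by
            by_contra hne
            simp only [hne, if_false, add_zero] at c1
            split_ifs at c1 <;> omega
          have n2 : b * b ≠ b * a * b := fun e => ha1 (mul_left_cancel₀ (mul_ne_zero hb0 hb0) (by linear_combination -e))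
          have n3 : b * b ≠ b * a * (b * a) := fun e => ha2 (mul_left_cancel₀ (mul_ne_zero hb0 hb0) (by linear_combination -e))
          simp only [hμ, n2, n3, if_false] at c2
          omega
        · obtain ⟨ω, hω⟩ := exists_prime_orderOf_dvd_card' (G := Fˣ) r
            (by rw [Nat.card_units, Nat.card_eq_fintype_card]; exact hd1)
          have hpow : ∀ k : ℕ, (ω : F) ^ k = 1 ↔ r ∣ k := fun k => by
            rw [← Units.val_pow_eq_pow_val, Units.val_eq_one, ← orderOf_dvd_iff_pow_eq_one, hω]
          have hωr : (ω : F) ^ r = 1 := (hpow r).2 dvd_rfl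
          have hω0 : (ω : F) ≠ 0 := ω.ne_zero
          set a : F := (ω : F) with hadef
          set b : F := (a ^ 2)⁻¹ with hbdef
          have hb : b * a ^ 2 = 1 := inv_mul_cancel₀ (pow_ne_zero 2 hω0)
          have hsmall : ∀ k : ℕ, 0 < k → k < r → a ^ k ≠ 1 := fun k h1 h2 e => by
            have := Nat.le_of_dvd h1 ((hpow k).1 e); omega
          have ha1 : a ≠ 1 := by simpa using hsmall 1 one_pos (by omega)
          have hb1 : b ≠ 1 := fun e => hsmall 2 two_pos h2r (inv_eq_one.1 e)
          let d : Fin n → F := fun l => if l = i₀ ∨ l = i₁ then a else if l = i₂ then b else 1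
          have hdr : ∀ l, d l ^ r = 1 := fun l => by
            simp only [d]
            split_ifs
            · exact hωr
            · rw [hbdef, inv_pow, ← pow_mul, mul_comm, pow_mul, hωr, one_pow, inv_one]
            · exact one_pow r
          have hab : a = b ↔ r = 3 := by
            rw [hbdef, ← mul_eq_one_iff_eq_inv₀ (pow_ne_zero 2 hω0), ← pow_succ', hpow]
            exact ⟨fun e => (Nat.prime_dvd_prime_iff_eq Fact.out Nat.prime_three).1 e, fun e => dvd_of_eq e⟩
          have hn4 : r = 3 → 4 ≤ n ∧ n ≠ 6 := fun e => ⟨by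
            by_contra hlt
            exact hC ⟨Or.inl e, by omega⟩, fun e6 => hgap ⟨e6, e⟩⟩
          obtain ⟨P, g, μ, hμ0, hg, hsim, -⟩ := test (Matrix.diagonal d) (by
              rw [Matrix.det_diagonal, ← Finset.prod_subset (s₁ := {i₀, i₁, i₂}) (Finset.subset_univ _) (fun l _ hl => by
                simp only [Finset.mem_insert, Finset.mem_singleton, not_or] at hl
                simp [d, hl.1, hl.2.1, hl.2.2])]
              rw [Finset.prod_insert (by simp [h01, h02]), Finset.prod_insert (by simp [h12]), Finset.prod_singleton]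
              simp [d, h02.symm, h12.symm]
              linear_combination hb)
            ⟨1, by
              rw [one_smul, Matrix.diagonal_pow, ← Matrix.diagonal_one]
              congr 1; funext l; exact hdr l⟩
            (fun z hz => by
              rcases eq_or_ne a b with e | e
              · obtain ⟨hn', -⟩ := hn4 (hab.1 e)
                set i₃ : Fin n := ⟨3, by omega⟩
                have h03 : i₃ ≠ i₀ := by simp [i₀, i₃, Fin.ext_iff]
                have h13 : i₃ ≠ i₁ := by simp [i₁, i₃, Fin.ext_iff]
                have h23 : i₃ ≠ i₂ := by simp [i₂, i₃, Fin.ext_iff]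
                have e0 := congrFun (congrFun hz i₀) i₀
                have e3 := congrFun (congrFun hz i₃) i₃
                simp [d, h03, h13, h23] at e0 e3
                exact ha1 (e0.trans e3.symm)
              · have e0 := congrFun (congrFun hz i₀) i₀
                have e3 := congrFun (congrFun hz i₂) i₂
                simp [d, h02.symm, h12.symm] at e0 e3
                exact e (e0.trans e3.symm))
          have hd : ∀ l, d l ≠ 0 := fun l e => by
            have := hdr l
            rw [e, zero_pow (Fact.out : r.Prime).ne_zero] at this; exact zero_ne_one this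
          have hb_r : b ^ r = 1 := by rw [hbdef, inv_pow, ← pow_mul, mul_comm, pow_mul, hωr, one_pow, inv_one]
          have cnt : ∀ R : F → Prop, (Finset.univ.filter fun l => R (d l)).card =
              (if R a then 2 else 0) + (if R b then 1 else 0) + (if R 1 then n - 3 else 0) := fun R => by
            rw [Finset.card_filter, ← Finset.sum_sdiff (Finset.subset_univ ({i₀, i₁, i₂} : Finset (Fin n))),
              Finset.sum_congr (g := fun _ => if R 1 then 1 else 0) rfl (fun l hl => by
                simp only [Finset.mem_sdiff, Finset.mem_insert, Finset.mem_singleton, not_or] at hl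
                simp [d, hl.2.1, hl.2.2.1, hl.2.2.2]),
              Finset.sum_const, Finset.card_sdiff_of_subset (Finset.subset_univ _), Finset.card_univ, Fintype.card_fin,
              Finset.sum_insert (by simp [h01, h02]), Finset.sum_insert (by simp [h12]), Finset.sum_singleton]
            rw [show ({i₀, i₁, i₂} : Finset (Fin n)).card = 3 by simp [h01, h02, h12]]
            simp only [d, if_true, or_true, true_or, h02.symm, h12.symm, or_self, if_false]
            split_ifs <;> simp <;> omega
          have ca := diag_test σ d P g hμ0 hg hsim a (inv_ne a (by first | exact hωr | exact hb_r | exact one_pow r)) (inv_of a (by first | exact hωr | exact hb_r | exact one_pow r))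
          rw [cnt (fun y => y = a), cnt (fun y => μ = a * y)] at ca
          have cb := diag_test σ d P g hμ0 hg hsim b (inv_ne b (by first | exact hωr | exact hb_r | exact one_pow r)) (inv_of b (by first | exact hωr | exact hb_r | exact one_pow r))
          rw [cnt (fun y => y = b), cnt (fun y => μ = b * y)] at cb
          have c1 := diag_test σ d P g hμ0 hg hsim 1 (inv_ne 1 (by first | exact hωr | exact hb_r | exact one_pow r)) (inv_of 1 (by first | exact hωr | exact hb_r | exact one_pow r))
          rw [cnt (fun y => y = 1), cnt (fun y => μ = 1 * y)] at c1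
          simp only [one_mul, mul_one, if_true, ha1, hb1, Ne.symm ha1, Ne.symm hb1, if_false, zero_add, add_zero]
            at ca cb c1
          by_cases h3 : r = 3
          · have e : a = b := hab.2 h3
            obtain ⟨hn', hn6⟩ := hn4 h3
            rw [← e] at ca c1
            simp only [if_true] at ca
            by_cases e1 : μ = a
            · subst e1
              simp only [if_true, ha1, if_false] at c1
              omega
            · simp only [e1, if_false, zero_add, add_zero] at c1 ca
              by_cases e2 : μ = 1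
              · subst e2
                have e4 : (1 : F) ≠ a * a := fun e => hsmall 2 two_pos h2r (by rw [pow_two]; exact e.symm)
                simp only [e4, if_false] at ca
                omega
              · simp only [e2, if_false] at c1
                omega
          · have hne : a ≠ b := fun e => h3 (hab.1 e)
            have hr5 : 5 ≤ r := by
              rcases Nat.lt_or_ge r 5 with h5 | h5
              · have : r = 4 := by omega
                exact absurd (Fact.out : r.Prime) (by rw [this]; norm_num)
              · exact h5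
            simp only [Ne.symm hne, hne, if_false, zero_add, add_zero] at ca cb
            by_cases e1 : μ = a * a
            · subst e1
              have n1 : a * a ≠ b * a := fun e => hsmall 3 (by norm_num) (by omega) (by linear_combination a * e + hb)
              have n2 : a * a ≠ b * b := fun e => by
                have e6 : r ∣ 6 := (hpow 6).1 (by linear_combination a ^ 4 * e + (b * a ^ 2 + 1) * hb)
                rcases (Fact.out : r.Prime).dvd_mul.1 (show r ∣ 2 * 3 from e6) with h6 | h6 <;>
                  · have := Nat.le_of_dvd (by norm_num) h6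
                    omega
              have n3 : a * a ≠ b := fun e => hsmall 4 (by norm_num) (by omega) (by linear_combination a ^ 2 * e + hb)
              simp only [n1, n2, n3, if_false] at cb
              omega
            · simp only [e1, if_false, zero_add] at ca
              by_cases e2 : μ = a
              · subst e2
                have n0 : a ≠ a * b := fun e => hb1 (mul_left_cancel₀ hω0 (e.symm.trans (mul_one a).symm))
                simp only [n0, if_true, if_false, zero_add] at ca
                have hn5 : n = 5 := by omega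
                have n1 : a ≠ b * a := fun e => n0 (e.trans (mul_comm b a))
                have n2 : a ≠ b * b := fun e => hC ⟨Or.inr (((Nat.prime_dvd_prime_iff_eq Fact.out Nat.prime_five).1
                  ((hpow 5).1 (by linear_combination a ^ 4 * e + (b * a ^ 2 + 1) * hb)))),
                  hn5.trans ((Nat.prime_dvd_prime_iff_eq Fact.out Nat.prime_five).1
                  ((hpow 5).1 (by linear_combination a ^ 4 * e + (b * a ^ 2 + 1) * hb))).symm⟩
                simp only [n1, n2, hne, if_false] at cb
                omega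
              · simp only [e2, if_false, add_zero] at ca
                split_ifs at ca <;> omega
      · -- odd `k`
        have hkodd : Odd k := hk.odd_of_ne_two hk2
        have hkr : k ∣ r - 1 := by
          have h1 : orderOf (q₀ : ZMod r) = k := orderOf_eq_prime hqk1 hq01
          rw [← h1]
          exact ZMod.orderOf_dvd_card_sub_one (fun e => hrq₀ ((ZMod.natCast_eq_zero_iff _ _).1 e))
        have hr7 : 5 < r := by
          have h3 : 3 ≤ k := by have := hk.two_le; omega
          by_contra hlt
          obtain ⟨w, hw⟩ := hkr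
          rcases (show r = 3 ∨ r = 4 ∨ r = 5 by omega) with h | h | h <;> rw [h] at hw
          · rcases w with _ | w <;> nlinarith
          · exact absurd (Fact.out : r.Prime) (by rw [h]; norm_num)
          · rcases w with _ | _ | w
            · omega
            · obtain ⟨u, hu⟩ := hkodd; omega
            · nlinarith
        have noinv : ∀ a : F, a ^ r = 1 → σ a = a⁻¹ → a = 1 := fun a ha hσa => by
          have h1 : ∀ m, a ^ (q₀ ^ (2 * m)) = a := by
            intro m
            induction m with
            | zero => simp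
            | succ m ih =>
              rw [show 2 * (m + 1) = 2 * m + 1 + 1 by ring, pow_succ, pow_succ, pow_mul, pow_mul, ih, ← hσ a, hσa,
                inv_pow, ← hσ a, hσa, inv_inv]
          obtain ⟨m, hm⟩ := hkodd
          have h2 := FiniteField.pow_card a
          rw [hqk, hm, pow_succ, pow_mul, h1, ← hσ] at h2
          exact nofix a ha h2
        obtain ⟨ω, hω⟩ := exists_prime_orderOf_dvd_card' (G := Fˣ) r
          (by rw [Nat.card_units, Nat.card_eq_fintype_card]; exact hd1)
        have hpow : ∀ l : ℕ, (ω : F) ^ l = 1 ↔ r ∣ l := fun l => by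
          rw [← Units.val_pow_eq_pow_val, Units.val_eq_one, ← orderOf_dvd_iff_pow_eq_one, hω]
        have hωr : (ω : F) ^ r = 1 := (hpow r).2 dvd_rfl
        set a : F := (ω : F) with hadef
        have ha0 : a ≠ 0 := ω.ne_zero
        have hsmall : ∀ l : ℕ, 0 < l → l < r → a ^ l ≠ 1 := fun l h1 h2 e => by
          have := Nat.le_of_dvd h1 ((hpow l).1 e); omega
        have ha1 : a ≠ 1 := by simpa using hsmall 1 one_pos (by omega)
        by_cases hn2 : n = 2
        · subst hn2
          let d : Fin 2 → F := ![a, a⁻¹]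
          obtain ⟨P, g, μ, hμ0, hg, hsim, hpw⟩ := test (Matrix.diagonal d)
            (by rw [Matrix.det_diagonal, Fin.prod_univ_two]; simp [d, ha0])
            ⟨1, by
              rw [one_smul, Matrix.diagonal_pow, ← Matrix.diagonal_one]
              congr 1; funext l; fin_cases l <;> simp [d, hωr]⟩
            (fun z hz => by
              have e0 := congrFun (congrFun hz 0) 0
              have e1 := congrFun (congrFun hz 1) 1
              simp [d] at e0 e1
              refine hsmall 2 two_pos (by omega) ?_
              rw [pow_two]; nth_rw 2 [e0]; rw [← e1]; exact mul_inv_cancel₀ ha0)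
          have hYr : (Matrix.diagonal d) ^ r = 1 := by
            rw [Matrix.diagonal_pow, ← Matrix.diagonal_one]
            congr 1; funext l; fin_cases l <;> simp [d, hωr]
          have hc : (μ⁻¹) ^ r = 1 := by rw [inv_pow, (hpw hYr).2, inv_one]
          have mem : ∀ l, ∃ l', μ⁻¹ * d l' = σ (d l) := fun l => by
            have h1 := diag_test_gen σ d P g hg hsim (d l)
            have h2 : 0 < (Finset.univ.filter fun l' => d l' = d l).card := Finset.card_pos.2 ⟨l, by simp⟩
            rw [h1] at h2
            obtain ⟨l', hl'⟩ := Finset.card_pos.1 h2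
            exact ⟨l', (Finset.mem_filter.1 hl').2⟩
          obtain ⟨u, hu⟩ := mem 0
          obtain ⟨v, hv⟩ := mem 1
          have hprod : σ (d 0) * σ (d 1) = 1 := by rw [← map_mul]; simp [d, ha0]
          rw [← hu, ← hv] at hprod
          have huv : u ≠ v := fun e => by
            subst e
            have h3 : d 0 = d 1 := σ.injective (hu.symm.trans hv)
            simp [d] at h3
            refine hsmall 2 two_pos (by omega) ?_
            rw [pow_two]; nth_rw 2 [h3]; exact mul_inv_cancel₀ ha0
          have hd01 : d u * d v = 1 := by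
            fin_cases u <;> fin_cases v <;> first | exact absurd rfl huv | simp [d, ha0]
          have hc1 : μ⁻¹ = 1 := by
            have h4 : (μ⁻¹) ^ 2 = 1 := by linear_combination hprod - (μ⁻¹ * μ⁻¹) * hd01
            obtain ⟨w, hw⟩ := (Fact.out : r.Prime).odd_of_ne_two hr2
            rw [hw, pow_succ, pow_mul, h4, one_pow, one_mul] at hc
            exact hc
          rw [hc1, one_mul] at hu
          fin_cases u
          · exact ha1 (nofix a hωr (by simpa [d] using hu.symm))
          · exact ha1 (noinv a hωr (by simpa [d] using hu.symm))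
        · set i₂ : Fin n := ⟨2, by omega⟩ with hi₂
          have h02 : i₀ ≠ i₂ := by simp [i₀, i₂, Fin.ext_iff]
          have h12 : i₁ ≠ i₂ := by simp [i₁, i₂, Fin.ext_iff]
          set b : F := (a ^ 2)⁻¹ with hbdef
          have hbr : b ^ r = 1 := by rw [hbdef, inv_pow, ← pow_mul, mul_comm, pow_mul, hωr, one_pow, inv_one]
          have hb0 : b ≠ 0 := inv_ne_zero (pow_ne_zero 2 ha0)
          have hb1 : b ≠ 1 := fun e => hsmall 2 two_pos (by omega) (inv_eq_one.1 e)
          have hab : a ≠ b := fun e => hsmall 3 (by norm_num) (by omega) (by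
            rw [pow_succ]; nth_rw 2 [e]; exact mul_inv_cancel₀ (pow_ne_zero 2 ha0))
          let d : Fin n → F := fun l => if l = i₀ ∨ l = i₁ then a else if l = i₂ then b else 1
          have hdr : ∀ l, d l ^ r = 1 := fun l => by
            simp only [d]
            split_ifs
            · exact hωr
            · exact hbr
            · exact one_pow r
          have hYr : (Matrix.diagonal d) ^ r = 1 := by
            rw [Matrix.diagonal_pow, ← Matrix.diagonal_one]
            congr 1; funext l; exact hdr l
          obtain ⟨P, g, μ, hμ0, hg, hsim, hpw⟩ := test (Matrix.diagonal d) (by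
              rw [Matrix.det_diagonal, ← Finset.prod_subset (s₁ := {i₀, i₁, i₂}) (Finset.subset_univ _) (fun l _ hl => by
                simp only [Finset.mem_insert, Finset.mem_singleton, not_or] at hl
                simp [d, hl.1, hl.2.1, hl.2.2])]
              rw [Finset.prod_insert (by simp [h01, h02]), Finset.prod_insert (by simp [h12]), Finset.prod_singleton]
              simp [d, h02.symm, h12.symm, hbdef]
              field_simp)
            ⟨1, by rw [one_smul]; exact hYr⟩
            (fun z hz => by
              have e0 := congrFun (congrFun hz i₀) i₀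
              have e3 := congrFun (congrFun hz i₂) i₂
              simp [d, h02.symm, h12.symm] at e0 e3
              exact hab (e0.trans e3.symm))
          set c := μ⁻¹ with hcdef
          have cnt : ∀ R : F → Prop, (Finset.univ.filter fun l => R (d l)).card =
              (if R a then 2 else 0) + (if R b then 1 else 0) + (if R 1 then n - 3 else 0) := fun R => by
            rw [Finset.card_filter, ← Finset.sum_sdiff (Finset.subset_univ ({i₀, i₁, i₂} : Finset (Fin n))),
              Finset.sum_congr (g := fun _ => if R 1 then 1 else 0) rfl (fun l hl => by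
                simp only [Finset.mem_sdiff, Finset.mem_insert, Finset.mem_singleton, not_or] at hl
                simp [d, hl.2.1, hl.2.2.1, hl.2.2.2]),
              Finset.sum_const, Finset.card_sdiff_of_subset (Finset.subset_univ _), Finset.card_univ, Fintype.card_fin,
              Finset.sum_insert (by simp [h01, h02]), Finset.sum_insert (by simp [h12]), Finset.sum_singleton]
            rw [show ({i₀, i₁, i₂} : Finset (Fin n)).card = 3 by simp [h01, h02, h12]]
            simp only [d, if_true, or_true, true_or, h02.symm, h12.symm, or_self, if_false]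
            split_ifs <;> simp <;> omega
          have ca := diag_test_gen σ d P g hg hsim a
          rw [cnt (fun y => y = a), cnt (fun y => c * y = σ a)] at ca
          have cb := diag_test_gen σ d P g hg hsim b
          rw [cnt (fun y => y = b), cnt (fun y => c * y = σ b)] at cb
          have c1 := diag_test_gen σ d P g hg hsim 1
          rw [cnt (fun y => y = 1), cnt (fun y => c * y = σ 1)] at c1
          simp only [map_one, mul_one, if_true, ha1, hb1, Ne.symm ha1, Ne.symm hb1, hab, Ne.symm hab, if_false,
            zero_add, add_zero] at ca cb c1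
          have hc0 : c ≠ 0 := inv_ne_zero hμ0
          have eca : c * a ≠ c * b := fun e => hab (mul_left_cancel₀ hc0 e)
          have e1a : c * a ≠ c := fun e => ha1 (mul_left_cancel₀ hc0 (e.trans (mul_one c).symm))
          have e1b : c * b ≠ c := fun e => hb1 (mul_left_cancel₀ hc0 (e.trans (mul_one c).symm))
          have both : c * a = σ a → c * b = σ b → False := fun h1 h2 => by
            have h3 : σ (a / b) = a / b := by rw [map_div₀, ← h1, ← h2, mul_div_mul_left _ _ hc0]
            have h4 := nofix _ (by rw [div_pow, hωr, hbr, div_one]) h3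
            exact hab ((div_eq_one_iff_eq hb0).1 h4)
          by_cases h2 : c * b = σ b
          · by_cases h3 : c * a = σ a
            · exact both h3 h2
            · -- `σ a = c`, `n = 5`
              simp only [h3, if_false, zero_add] at ca
              have eab : c * b ≠ σ a := fun e => hab (σ.injective (e.symm.trans h2))
              simp only [eab, if_false, zero_add] at ca
              split_ifs at ca with h4
              by_cases h5 : c = 1
              · rw [h5, one_mul] at h2
                exact hb1 (nofix b hbr h2.symm)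
              · by_cases h6 : c * a = 1
                · refine ha1 (noinv a hωr ?_)
                  rw [← h4]; exact eq_inv_of_mul_eq_one_left h6
                · have h7 : c * b ≠ 1 := fun e => hb1 (σ.injective (h2.symm.trans (e.trans (map_one σ).symm)))
                  simp only [h6, h5, h7, if_false, zero_add] at c1
                  omega
          · -- `σ b = c`, `n = 4`
            simp only [h2, if_false, add_zero] at cb
            have h7 : c * a ≠ σ b := fun e => by simp only [e, if_true] at cb; omega
            simp only [h7, if_false, zero_add] at cb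
            have h4 : c = σ b := by by_contra e; simp only [e, if_false] at cb; omega
            simp only [h4, if_true] at cb
            by_cases h5 : c = 1
            · rw [h5] at h4
              exact hb1 (σ.injective (h4.symm.trans (map_one σ).symm))
            · by_cases h6 : c * b = 1
              · refine hb1 (noinv b hbr ?_)
                rw [← h4]; exact eq_inv_of_mul_eq_one_left h6
              · simp only [h6, h5, if_false, add_zero] at c1
                split_ifs at c1 <;> omega
    · -- one block
      have hdn : ¬ r ∣ Fintype.card F - 1 := fun e => hi1 ((order_one_iff r).2 e)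
      have hij : i ∣ j := orderOf_dvd_of_pow_eq_one (by rw [hqZ, ← pow_mul, hjk])
      have hin : i ≤ n := (Nat.le_of_dvd (by omega) hij).trans hjn
      obtain ⟨m', -, hm'⟩ := FiniteField.card F p
      have hcop : p.Coprime r := (Nat.coprime_primes Fact.out Fact.out).2 (Ne.symm hrp)
      have hu : i = orderOf (ZMod.unitOfCoprime _ (hcop.pow_left (m' : ℕ))) := by
        rw [hidef, ← orderOf_units, ZMod.coe_unitOfCoprime, hm']
      obtain ⟨G, hG⟩ := UniqueFactorizationMonoid.exists_mem_normalizedFactors (cyclotomic_ne_zero r F)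
        (not_isUnit_of_natDegree_pos _ (by rw [natDegree_cyclotomic]; exact Nat.totient_pos.2 (Fact.out : r.Prime).pos))
      have hgi := UniqueFactorizationMonoid.irreducible_of_normalized_factor G hG
      have hgd : G.natDegree = i := by
        rw [hu]; exact natDegree_of_mem_normalizedFactors_cyclotomic hm' hcop hG
      haveI : Fact (Irreducible G) := ⟨hgi⟩
      haveI : FiniteDimensional F (AdjoinRoot G) := (AdjoinRoot.powerBasis hgi.ne_zero).finite
      haveI : Finite (AdjoinRoot G) := Module.finite_of_finite F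
      haveI : CharP (AdjoinRoot G) p := charP_of_injective_algebraMap (algebraMap F (AdjoinRoot G)).injective p
      haveI : ExpChar (AdjoinRoot G) p := ExpChar.prime (Fact.out : p.Prime)
      have hKd : finrank F (AdjoinRoot G) = i := by
        rw [(AdjoinRoot.powerBasis hgi.ne_zero).finrank, AdjoinRoot.powerBasis_dim, hgd]
      set ζ := AdjoinRoot.root G with hζ
      obtain ⟨w, hw⟩ := UniqueFactorizationMonoid.dvd_of_mem_normalizedFactors hG
      have hroot : aeval ζ G = 0 := by rw [hζ, AdjoinRoot.aeval_eq, AdjoinRoot.mk_self]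
      have hζΦ : aeval ζ (cyclotomic r F) = 0 := by rw [hw, map_mul, hroot, zero_mul]
      have hζr : ζ ^ r = 1 := by
        have := congrArg (aeval ζ) (cyclotomic_prime_mul_X_sub_one F r)
        rw [map_mul, hζΦ, zero_mul, map_sub, aeval_X_pow, map_one] at this
        exact sub_eq_zero.1 this.symm
      have hζ1 : ζ ≠ 1 := by
        intro h1
        rw [h1, aeval_def, eval₂_eq_eval_map, map_cyclotomic, eval_one_cyclotomic_prime] at hζΦ
        exact hr0 ((algebraMap F (AdjoinRoot G)).injective (by rw [map_natCast, map_zero, hζΦ]))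
      let g' : ((Fin (n - i) → F) × AdjoinRoot G) →ₗ[F] ((Fin (n - i) → F) × AdjoinRoot G) :=
        LinearMap.prodMap LinearMap.id (LinearMap.mulLeft F ζ)
      obtain ⟨L, Y, hY, -⟩ := exists_transport (V := (Fin (n - i) → F) × AdjoinRoot G) (n := n)
        (by rw [finrank_prod, finrank_fin_fun, hKd]; omega) g'
      have hYl : ∀ (l : ℕ) v, L ((Y ^ l) *ᵥ v) = ((L v).1, ζ ^ l * (L v).2) := by
        intro l
        induction l with
        | zero => intro v; simp
        | succ l ih =>
          intro v
          have e1 := hY ((Y ^ l) *ᵥ v)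
          rw [Matrix.toLin'_apply, Matrix.mulVec_mulVec, ← pow_succ', ih] at e1
          rw [e1]
          simp [g', pow_succ', mul_assoc]
      have hYr : Y ^ r = 1 := Matrix.ext_of_mulVec_single fun j => L.injective (by
        rw [hYl, hζr, one_mul, Matrix.one_mulVec])
      have hY1 : Y ≠ 1 := fun e1 => hζ1 (by
        have h' := hYl 1 (L.symm (0, 1))
        rw [e1, one_pow, Matrix.one_mulVec, L.apply_symm_apply] at h'
        simpa using (congrArg Prod.snd h').symm)
      obtain ⟨P, g, μ, -, hgv, hsim, hpw⟩ := test Y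
        (eq_one_of_pow_eq_one (r := r) hdn (by rw [← Matrix.det_pow, hYr, Matrix.det_one]))
        ⟨1, by rw [hYr, one_smul]⟩
        (fun z hz => hY1 (by
          have hzr : z ^ r = 1 := by
            have h3 := congrFun (congrFun hYr i₀) i₀
            rw [hz, _root_.smul_pow, one_pow] at h3
            simpa using h3
          rw [hz, eq_one_of_pow_eq_one hdn hzr, one_smul]))
      obtain ⟨hgr, hμ⟩ := hpw hYr
      obtain rfl : μ = 1 := eq_one_of_pow_eq_one hdn hμ
      rw [inv_one, one_smul] at hsim
      have hP : ∀ (R : F[X]) (v : Fin n → F), L (aeval Y R *ᵥ v) = (R.eval 1 • (L v).1, aeval ζ R * (L v).2) := by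
        intro R
        induction R using Polynomial.induction_on' with
        | add R R' hR hR' =>
          intro v
          rw [map_add, map_add, eval_add, Matrix.add_mulVec, map_add, hR, hR', Prod.mk_add_mk, add_smul, add_mul]
        | monomial l c =>
          intro v
          rw [aeval_monomial, aeval_monomial, ← Algebra.smul_def, ← Algebra.smul_def, Matrix.smul_mulVec, map_smul,
            hYl, Prod.smul_mk, eval_monomial, one_pow, mul_one, smul_mul_assoc]
      have h0 : aeval Y ((X - 1) * G) = 0 := Matrix.ext_of_mulVec_single fun j => L.injective (by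
        rw [hP, map_mul, hroot, mul_zero, zero_mul, eval_mul, eval_sub, eval_X, eval_one, sub_self, zero_mul,
          zero_smul, Matrix.zero_mulVec, map_zero]; rfl)
      let T : ℕ → F[X] := fun l => Nat.rec G (fun _ R => R.map σ) l
      have hT : ∀ l, aeval (g : Matrix (Fin n) (Fin n) F) ((X - 1) * T l) = 0 := by
        intro l
        induction l with
        | zero => show aeval _ ((X - 1) * G) = 0; rw [hgv, S5968.aeval_conj, h0, mul_zero, zero_mul]
        | succ l ih =>
          have e2 := congrArg σ.mapMatrix ih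
          rw [S5982.map_aeval, map_zero, Polynomial.map_mul, Polynomial.map_sub, Polynomial.map_X,
            Polynomial.map_one, RingHom.mapMatrix_apply, hsim] at e2
          exact e2
      have hTc : ∀ l m, (T l).coeff m = (G.coeff m) ^ (q₀ ^ l) := by
        intro l m
        induction l with
        | zero => simp [T]
        | succ l ih =>
          show ((T l).map σ).coeff m = _
          rw [Polynomial.coeff_map, ih, hσ, ← pow_mul, pow_succ]
      have hTk : T k = G := Polynomial.ext fun m => by rw [hTc, ← hqk, FiniteField.pow_card]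
      obtain ⟨k', rfl⟩ : ∃ k', k = k' + 1 := ⟨k - 1, by have := hk.two_le; omega⟩
      have h1 : aeval ζ (T k') = 0 := by
        have h3 := hT k'
        rw [hgv, S5968.aeval_conj] at h3
        have h4 : aeval Y ((X - 1) * T k') = 0 := by
          have h5 := congrArg (fun M => (P : Matrix (Fin n) (Fin n) F) * M * ((P⁻¹ : GL (Fin n) F) : Matrix (Fin n) (Fin n) F)) h3
          simpa [mul_assoc] using h5
        have h6 := hP ((X - 1) * T k') (L.symm (0, 1))
        rw [h4, Matrix.zero_mulVec, map_zero, L.apply_symm_apply] at h6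
        have h7 : aeval ζ ((X - 1) * T k') = 0 := by simpa using (congrArg Prod.snd h6).symm
        rw [map_mul, mul_eq_zero, map_sub, aeval_X, map_one, sub_eq_zero] at h7
        exact h7.resolve_left hζ1
      have hG' : aeval (ζ ^ q₀) G = 0 := by
        let ψ : AdjoinRoot G →+* AdjoinRoot G := iterateFrobenius (AdjoinRoot G) p jp
        have hψ : ψ.comp (algebraMap F (AdjoinRoot G)) = (algebraMap F (AdjoinRoot G)).comp σ := RingHom.ext fun a => by
          show iterateFrobenius (AdjoinRoot G) p jp (algebraMap F _ a) = algebraMap F _ (σ a)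
          rw [iterateFrobenius_def, hσ, hjp, map_pow]
        have h6 := congrArg ψ h1
        rw [map_zero, aeval_def, Polynomial.hom_eval₂, hψ, ← Polynomial.eval₂_map,
          show (T k').map σ = G from hTk] at h6
        rw [aeval_def, hjp, ← iterateFrobenius_def]
        exact h6
      let τ : AdjoinRoot G →ₐ[F] AdjoinRoot G := AdjoinRoot.liftAlgHom G (Algebra.ofId F _) (ζ ^ q₀) hG'
      obtain ⟨⟨l, hl⟩, hlτ⟩ := (FiniteField.bijective_frobeniusAlgHom_pow F (AdjoinRoot G)).2 τ
      have hfr : ∀ (l : ℕ) (a : AdjoinRoot G), (FiniteField.frobeniusAlgHom F (AdjoinRoot G) ^ l) a = a ^ (Fintype.card F ^ l) := by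
        intro l
        induction l with
        | zero => intro a; simp
        | succ l ih =>
          intro a
          rw [pow_succ (FiniteField.frobeniusAlgHom F (AdjoinRoot G))]
          show (FiniteField.frobeniusAlgHom F (AdjoinRoot G) ^ l) (a ^ Fintype.card F) = _
          rw [ih, ← pow_mul, pow_succ']
      have h7 : ζ ^ (Fintype.card F ^ l) = ζ ^ q₀ := by
        rw [← hfr]
        exact (AlgHom.congr_fun hlτ ζ).trans (AdjoinRoot.liftAlgHom_root ..)
      obtain ⟨uζ, huζ⟩ := IsUnit.of_pow_eq_one hζr (Fact.out : r.Prime).ne_zero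
      rw [← huζ, ← Units.val_pow_eq_pow_val, ← Units.val_pow_eq_pow_val, Units.val_inj, pow_eq_pow_iff_modEq,
        show orderOf uζ = r by rw [← orderOf_units, huζ, orderOf_eq_prime hζr hζ1],
        ← ZMod.natCast_eq_natCast_iff] at h7
      push_cast at h7
      rw [hqZ] at h7
      refine hjne ?_
      rw [← h7, ← pow_mul, ← pow_mul, show (k' + 1) * (l * j) = (k' + 1) * j * l by ring, pow_mul, hjk, one_pow]
  · intro hcase x ⟨z, hz⟩ _
    have hdet : (x : Matrix (Fin n) (Fin n) F).det = 1 := x.2
    have hz' : (x : Matrix (Fin n) (Fin n) F) ^ r = z • 1 := by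
      rw [← Matrix.SpecialLinearGroup.coe_pow]; exact hz
    have hz0 : z ≠ 0 := by
      rintro rfl
      have := congrArg Matrix.det hz'
      rw [Matrix.det_pow, hdet, one_pow, zero_smul, Matrix.det_zero] at this
      exact one_ne_zero this
    set φ := Matrix.toLin' (x : Matrix (Fin n) (Fin n) F) with hφdef
    have hfz : ∀ v, (φ ^ r) v = z • v := toLin'_pow_scalar hz
    rcases hcase with rfl | ⟨hk2, rfl, h35, hv⟩
    · -- the degree equals `r`
      obtain ⟨d, hd⟩ : ∃ d : F, d ^ r = z := by
        by_contra hnp
        push Not at hnp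
        have hd1 : r ∣ Fintype.card F - 1 := by
          by_contra hdn
          obtain ⟨d, hd⟩ := exists_root_of_not_dvd (r := r) hdn z
          exact hnp d hd
        have hd0 : r ∣ q₀ - 1 := by
          rw [← ZMod.natCast_eq_zero_iff, Nat.cast_sub Fintype.card_pos, hqZ, ZMod.pow_card] at hd1
          rw [← ZMod.natCast_eq_zero_iff, Nat.cast_sub hq₀1.le]
          exact hd1
        obtain ⟨m, hm, hdm⟩ := det_of_not_pow (f := φ) hfz hnp
        rw [hnf] at hm
        rw [hφdef, LinearMap.det_toLin', hdet] at hdm
        exact (exists_twist_iff hd1 hm (by rcases Nat.eq_zero_or_pos m with rfl | h <;> omega)).1 ⟨z, hnp, hdm.symm⟩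
          ⟨hgapk rfl hd0, fun e => absurd e hr2⟩
      have hd0 : d ≠ 0 := fun e => hz0 (by rw [← hd, e, zero_pow (Fact.out : r.Prime).ne_zero])
      set A : Matrix (Fin n) (Fin n) F := d⁻¹ • (x : Matrix (Fin n) (Fin n) F) with hA
      have hAr : A ^ r = 1 := by
        rw [hA, _root_.smul_pow, hz', smul_smul, inv_pow, hd, inv_mul_cancel₀ hz0, one_smul]
      refine exists_into (by omega) F₀ σ hσF x A hr0 hAr (Units.mk0 d hd0)
        (by rw [hA, Units.val_mk0, smul_inv_smul₀ hd0]) (charpoly_fixed p (j := jp) hr0 σ (fun a => by rw [hσ, hjp]) ?_ A hAr)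
      rw [← hjp, ← ZMod.natCast_eq_natCast_iff, hqZ, ZMod.pow_card]
    · -- three or five
      subst hk2
      have hrp1 : r ∣ q₀ + 1 := dvd_of_one_le_padicValNat (by omega)
      have hrnd : ¬ r ∣ q₀ - 1 := fun h => by
        have h3 := Nat.dvd_sub hrp1 h
        rw [show q₀ + 1 - (q₀ - 1) = 2 by omega] at h3
        have := Nat.le_of_dvd two_pos h3
        omega
      have hqq : Fintype.card F - 1 = (q₀ + 1) * (q₀ - 1) := by rw [hqk]; simpa using Nat.sq_sub_sq q₀ 1
      have hd1 : r ∣ Fintype.card F - 1 := by rw [hqq]; exact dvd_mul_of_dvd_left hrp1 _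
      have hnsq : ¬ r ^ 2 ∣ Fintype.card F - 1 := fun h => by
        rw [hqq] at h
        have h5 := (Nat.Coprime.pow_left 2 ((Fact.out : r.Prime).coprime_iff_not_dvd.2 hrnd)).dvd_of_dvd_mul_right h
        have := pow_succ_padicValNat_not_dvd (p := r) (show q₀ + 1 ≠ 0 by omega)
        rw [hv] at this
        exact this h5
      have hzn : z ^ r = 1 := by
        have h3 := congrArg Matrix.det hz'
        rw [Matrix.det_pow, hdet, one_pow, Matrix.det_smul, Matrix.det_one, mul_one, Fintype.card_fin] at h3
        exact h3.symm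
      have hz1 : z = 1 := by
        by_cases hpw : ∃ d : F, d ^ r = z
        · obtain ⟨d, rfl⟩ := hpw
          have hd0 : d ≠ 0 := fun e => hz0 (by rw [e, zero_pow (Fact.out : r.Prime).ne_zero])
          rw [← pow_mul, ← pow_two] at hzn
          have h3 : orderOf (Units.mk0 d hd0) ∣ r ^ 2 :=
            orderOf_dvd_of_pow_eq_one (Units.ext (by rw [Units.val_pow_eq_pow_val]; exact hzn))
          have h4 : orderOf (Units.mk0 d hd0) ∣ Fintype.card F - 1 := by
            rw [← Fintype.card_units]; exact orderOf_dvd_card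
          obtain ⟨m, -, hm'⟩ := (Nat.dvd_prime_pow Fact.out).1 h3
          have hm1 : m ≤ 1 := by
            by_contra hlt
            exact hnsq ((pow_dvd_pow r (by omega : 2 ≤ m)).trans (hm' ▸ h4))
          have : orderOf (Units.mk0 d hd0) ∣ r := by
            rw [hm']; exact (pow_dvd_pow r hm1).trans (dvd_of_eq (pow_one r))
          rw [orderOf_dvd_iff_pow_eq_one] at this
          simpa using congrArg Units.val this
        · push Not at hpw
          obtain ⟨m, hm, hdm⟩ := det_of_not_pow (f := φ) hfz hpw
          rw [hnf] at hm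
          have hm1 : m = 1 := Nat.eq_of_mul_eq_mul_left (by omega : 0 < r) (by omega)
          rw [hφdef, LinearMap.det_toLin', hdet, hm1, pow_one, Even.neg_one_pow (by
            rcases h35 with rfl | rfl <;> decide), one_mul] at hdm
          exact hdm.symm
      obtain ⟨ω₀, hω₀⟩ := exists_prime_orderOf_dvd_card' (G := Fˣ) r
        (by rw [Nat.card_units, Nat.card_eq_fintype_card]; exact hd1)
      have hω : IsPrimitiveRoot (ω₀ : F) r := by
        rw [IsPrimitiveRoot.coe_units_iff, ← hω₀]; exact IsPrimitiveRoot.orderOf ω₀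
      obtain ⟨b₁, d₁, hd₁, hb₁⟩ := S5981.exists_eigen hr0 hω (f := φ) (fun v => by rw [hfz, hz1, one_smul])
      let b : Basis (Fin r) F (Fin r → F) := b₁.reindex (finCongr hnf)
      let d : Fin r → F := d₁ ∘ (finCongr hnf).symm
      have hbd : ∀ l, φ (b l) = d l • b l := fun l => by
        simp only [b, d, Basis.reindex_apply, Function.comp_apply]; exact hb₁ _
      have hprod : ∏ l, d l = 1 := by
        have h3 : LinearMap.toMatrix b b φ = Matrix.diagonal d := by
          ext i j
          rw [LinearMap.toMatrix_apply, hbd, map_smul, Finsupp.smul_apply, Basis.repr_self, Finsupp.single_apply,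
            Matrix.diagonal_apply]
          by_cases hij : i = j
          · subst hij; simp
          · simp [hij, Ne.symm hij]
        rw [← Matrix.det_diagonal, ← h3, LinearMap.det_toMatrix, hφdef, LinearMap.det_toLin', hdet]
      obtain ⟨π, μ, hπ, hμ0, hμ⟩ := S5981.symmetric h35 hω d (fun l => hd₁ _) hprod
      obtain ⟨w, hw⟩ := (Fact.out : r.Prime).odd_of_ne_two hr2
      have hμr : μ ^ r = 1 := by rw [← hμ 0, mul_pow, show d 0 ^ r = 1 from hd₁ _, show d (π 0) ^ r = 1 from hd₁ _, mul_one]
      set s : F := μ ^ (w + 1) with hs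
      have hs2 : s * s = μ := by
        rw [hs, ← pow_add, show w + 1 + (w + 1) = r + 1 by omega, pow_succ, hμr, one_mul]
      have hsr : s ^ r = 1 := by rw [hs, ← pow_mul, mul_comm, pow_mul, hμr, one_pow]
      have hs0 : s ≠ 0 := pow_ne_zero _ hμ0
      set A : Matrix (Fin r) (Fin r) F := s⁻¹ • (x : Matrix (Fin r) (Fin r) F) with hA
      have hAr : A ^ r = 1 := by
        rw [hA, _root_.smul_pow, hz', hz1, one_smul, inv_pow, hsr, inv_one, one_smul]
      have hchar : A.charpoly = ∏ l, (X - C (s⁻¹ * d l)) := by
        have h3 : LinearMap.toMatrix b b (Matrix.toLin' A) = Matrix.diagonal fun l => s⁻¹ * d l := by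
          ext i j
          rw [LinearMap.toMatrix_apply, show Matrix.toLin' A (b j) = (s⁻¹ * d j) • b j by
              rw [hA, map_smul, LinearMap.smul_apply, ← hφdef, hbd, smul_smul],
            map_smul, Finsupp.smul_apply, Basis.repr_self, Finsupp.single_apply, Matrix.diagonal_apply]
          by_cases hij : i = j
          · subst hij; simp
          · simp [hij, Ne.symm hij]
        rw [← Matrix.charpoly_toLin', ← LinearMap.charpoly_toMatrix _ b, h3, Matrix.charpoly_diagonal]
      refine exists_into (by omega) F₀ σ hσF x A hr0 hAr (Units.mk0 s hs0)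
        (by rw [hA, Units.val_mk0, smul_inv_smul₀ hs0]) ?_
      rw [hchar, Polynomial.map_prod]
      refine Fintype.prod_equiv (Function.Involutive.toPerm π hπ) _ _ fun l => ?_
      show (X - C (s⁻¹ * d l)).map σ = X - C (s⁻¹ * d (π l))
      rw [Polynomial.map_sub, Polynomial.map_X, Polynomial.map_C]
      congr 2
      have hinv : ∀ a : F, a ^ r = 1 → σ a = a⁻¹ := fun a ha => by
        obtain ⟨u, hu⟩ := hrp1
        refine (inv_eq_of_mul_eq_one_left ?_).symm
        rw [hσ, ← pow_succ, hu, pow_mul, ha, one_pow]
      rw [hinv _ (by rw [mul_pow, inv_pow, hsr, inv_one, one_mul]; exact hd₁ _), mul_inv, inv_inv]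
      have hdl : d l ≠ 0 := fun e => by
        have h1 : d l ^ r = 1 := hd₁ _
        rw [e, zero_pow (Fact.out : r.Prime).ne_zero] at h1; exact zero_ne_one h1
      field_simp
      rw [hμ l, ← hs2, pow_two]

end Cfsg.Agent.S5965
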