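import Cfsg.Statements.S5970
import Cfsg.Agent.Lib.Forms.Elusive.Cyclic

set_option autoImplicit false
open scoped MatrixGroups
open Cfsg Matrix

namespace Cfsg.Agent.S5970

/-- Elements of order `n` of PSL_n(q), `n` prime, and the normalizer of a Singer cycle. Here `T = PSL_n(F)` for a field `F` with `q = p^f` elements (`n ≥ 2`, `(n, q) ≠ (2, 2), (2, 3)`), `k` is a prime dividing `n`, `K` is a subalgebra of the `n × n` matrices that is a field of degree `k` over `F` (an extension-field structure F_{q^k} on `F^n`), and `H` is the subgroup of matrices of determinant 1 normalizing `K` — a subgroup of type GL_{n/k}(q^k) (maximal except in some small cases; maximality is not assumed); Ω is the set of cosets of `H` in `T`, so an element of `T` of prime order `r` (a matrix `x` of determinant 1 with `x^r` scalar, `x` not scalar) fixes a point of Ω when some conjugate of `x` by a matrix of determinant 1 normalizes `K`. Take `k = n > 3` prime with `n ≠ p` (so `H` is the normalizer of a Singer cycle), and suppose `n` divides the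 index of `H`. Then every element of `T` of order `n` is conjugate in `T` into `H` if and only if the multiplicative order of `q` modulo `n` is `n − 1`. -/
theorem result {F : Type*} [Field F] [Fintype F] {p : ℕ} [Fact p.Prime] [CharP F p] {q : ℕ} (hq : Fintype.card F = q)
    (n : ℕ) (hn : 2 ≤ n) (hT : (n, q) ≠ (2, 2) ∧ (n, q) ≠ (2, 3))
    (k : ℕ) (hk : k.Prime) (hkn : k ∣ n) (K : Subalgebra F (Matrix (Fin n) (Fin n) F)) (hK : Cfsg.Geo.IsFieldSubalgebra k K) (hkn' : k = n) (hn3 : 3 < n) (hnp : n ≠ p) (hΩ : n ∣ ((Cfsg.Geo.subalgebraNormalizer K).comap (Matrix.SpecialLinearGroup.toGL : Matrix.SpecialLinearGroup (Fin n) F →* GL (Fin n) F)).index) :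
    (∀ x : Matrix.SpecialLinearGroup (Fin n) F,
      (∃ z : F, ((x ^ n : Matrix.SpecialLinearGroup (Fin n) F) : Matrix (Fin n) (Fin n) F) = z • (1 : Matrix (Fin n) (Fin n) F)) →
      (∀ z : F, (x : Matrix (Fin n) (Fin n) F) ≠ z • (1 : Matrix (Fin n) (Fin n) F)) →
      ∃ P : Matrix.SpecialLinearGroup (Fin n) F, P⁻¹ * x * P ∈ ((Cfsg.Geo.subalgebraNormalizer K).comap (Matrix.SpecialLinearGroup.toGL : Matrix.SpecialLinearGroup (Fin n) F →* GL (Fin n) F))) ↔
    orderOf (q : ZMod n) = n - 1 := by
  classical
  subst hq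
  subst hkn'
  haveI : Fact k.Prime := ⟨hk⟩
  have hn0 : (k : F) ≠ 0 := Forms.Elusive.natCast_prime_ne_zero p hnp
  haveI : NeZero k := ⟨hk.ne_zero⟩
  set c := orderOf ((Fintype.card F : ℕ) : ZMod k) with hc
  refine ⟨fun h => ?_, fun hcn x hx hns => by
    obtain ⟨z, hz⟩ := hx
    exact Forms.Elusive.Cyc.exists_conj_into hK hn0 (by omega) hcn x hz hns⟩
  by_contra hcn
  have hq0 : ((Fintype.card F : ℕ) : ZMod k) ≠ 0 := fun e =>
    hnp ((Forms.Elusive.charP_eq_of_cast_eq_zero p k).1 e)
  have hcd : c ∣ k - 1 := ZMod.orderOf_dvd_card_sub_one hq0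
  have hcpos : 0 < c := Nat.pos_of_dvd_of_pos hcd (by omega)
  obtain ⟨Y, cc, u₁, u₂, hY, hY1, hdet, hu, h₁, h₂⟩ : ∃ (Y : Matrix (Fin k) (Fin k) F) (cc : F) (u₁ u₂ : Fin k → F),
      Y ^ k = 1 ∧ Y ≠ 1 ∧ cc ^ k * Y.det = 1 ∧ LinearIndependent F ![u₁, u₂] ∧ Y *ᵥ u₁ = u₁ ∧ Y *ᵥ u₂ = u₂ := by
    by_cases h1 : k ∣ Fintype.card F - 1
    · obtain ⟨ω, hω⟩ := exists_prime_orderOf_dvd_card' (G := Fˣ) k
        (by rw [Nat.card_units, Nat.card_eq_fintype_card]; exact h1)
      have hω1 : (ω : F) ≠ 1 := fun e => by
        rw [Units.val_eq_one.1 e, orderOf_one] at hω; omega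
      have hωk : (ω : F) ^ k = 1 := by rw [← Units.val_pow_eq_pow_val, ← hω, pow_orderOf_eq_one, Units.val_one]
      let i : Fin 4 → Fin k := Fin.castLE (by omega)
      have hi : ∀ a b, a ≠ b → i a ≠ i b := fun a b h e => h (Fin.castLE_injective _ e)
      let d : Fin k → F := fun j => if j = i 0 then (ω : F) else if j = i 1 then (ω : F)⁻¹ else 1
      refine ⟨Matrix.diagonal d, 1, Pi.single (i 2) 1, Pi.single (i 3) 1, ?_, ?_, ?_, ?_, ?_, ?_⟩
      · rw [Matrix.diagonal_pow]
        convert Matrix.diagonal_one using 2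
        funext j
        simp only [Pi.pow_apply, d]
        split_ifs <;> simp [hωk]
      · intro e
        have := congrFun (congrFun e (i 0)) (i 0)
        simp [d] at this
        exact hω1 (by simpa using this)
      · rw [one_pow, one_mul, Matrix.det_diagonal]
        rw [Finset.prod_eq_mul (i 0) (i 1) (hi _ _ (by decide)) (fun j _ hj => by simp [d, hj.1, hj.2])
          (by simp) (by simp)]
        simp [d, hi 1 0 (by decide)]
      · rw [LinearIndependent.pair_iff]
        intro a b hab
        exact ⟨by simpa [hi 2 3 (by decide)] using congrFun hab (i 2),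
          by simpa [hi 3 2 (by decide)] using congrFun hab (i 3)⟩
      · funext j
        rw [Matrix.mulVec_diagonal]
        rcases eq_or_ne j (i 2) with rfl | h'
        · simp [d, hi 2 0 (by decide), hi 2 1 (by decide)]
        · simp [h']
      · funext j
        rw [Matrix.mulVec_diagonal]
        rcases eq_or_ne j (i 3) with rfl | h'
        · simp [d, hi 3 0 (by decide), hi 3 1 (by decide)]
        · simp [h']
    · have hc2 : c ≤ k - 2 := by
        have h2 := Nat.le_of_dvd (by omega) hcd
        omega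
      obtain ⟨A, hA, -, hfix⟩ := Forms.Elusive.exists_model_free (F := F) c k hn0 0 1 (by rw [← hc]; omega)
      set e := k - c with he
      let g : (Fin e → F) × (Fin c → F) →ₗ[F] (Fin e → F) × (Fin c → F) :=
        LinearMap.prodMap LinearMap.id (Matrix.toLin' A)
      obtain ⟨L, Y, hY, hYd⟩ := Forms.Elusive.exists_transport (V := (Fin e → F) × (Fin c → F)) (n := k)
        (by rw [Module.finrank_prod, Module.finrank_fin_fun, Module.finrank_fin_fun]; omega) g
      have hgp : ∀ (l : ℕ) v, (g ^ l) v = (v.1, (Matrix.toLin' A ^ l) v.2) := by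
        intro l
        induction l with
        | zero => intro v; simp
        | succ l ih => intro v; rw [pow_succ', Module.End.mul_apply, ih, pow_succ' (Matrix.toLin' A)]; rfl
      have hYk : Y ^ k = 1 := Matrix.toLin'.injective (LinearMap.ext fun v => L.injective (by
        rw [Matrix.toLin'_pow, Forms.Elusive.pow_transport L hY, hgp, hA, Matrix.toLin'_one]; rfl))
      refine ⟨Y, 1, L.symm (Pi.single ⟨0, by omega⟩ 1, 0), L.symm (Pi.single ⟨1, by omega⟩ 1, 0), hYk, ?_, ?_, ?_, ?_, ?_⟩
      · intro e1
        have hall : ∀ w, Matrix.toLin' A w = w := fun w => by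
          have h' := hY (L.symm (0, w))
          rw [e1, Matrix.toLin'_one, LinearMap.id_apply, L.apply_symm_apply] at h'
          exact (congrArg Prod.snd h').symm
        have : Forms.Elusive.fixSp (Matrix.toLin' A) = ⊤ :=
          eq_top_iff.2 fun v _ => Forms.Elusive.mem_fixSp.2 (hall v)
        rw [this, finrank_top, Module.finrank_fin_fun] at hfix
        omega
      · rw [one_pow, one_mul]
        refine Forms.Elusive.eq_one_of_pow_eq_one (r := k) h1 ?_
        rw [← Matrix.det_pow, hYk, Matrix.det_one]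
      · rw [LinearIndependent.pair_iff]
        intro a b hab
        rw [← map_smul, ← map_smul, ← map_add, LinearEquiv.map_eq_zero_iff] at hab
        have := congrArg Prod.fst hab
        exact ⟨by simpa [Fin.ext_iff] using congrFun this ⟨0, by omega⟩,
          by simpa [Fin.ext_iff] using congrFun this ⟨1, by omega⟩⟩
      all_goals
        refine L.injective ?_
        rw [← Matrix.toLin'_apply, hY, L.apply_symm_apply]
        simp [g]
  obtain ⟨x, hx1, hx2, hx3⟩ := Forms.Elusive.Cyc.exists_derangement hK Y hY hY1 cc hdet hu h₁ h₂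
  obtain ⟨P, hP⟩ := h x hx1 hx2
  exact hx3 P hP

end Cfsg.Agent.S5970
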