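import Cfsg.Statements.S5971
import Cfsg.Agent.Lib.Forms.Elusive.Cyclic
import Cfsg.Agent.Lib.Forms.Elusive.SubfieldThree
import Cfsg.Agent.Lib.Classical.Linear

set_option autoImplicit false
open scoped MatrixGroups
open Cfsg Matrix

namespace Cfsg.Agent.S5971


open Cfsg.Agent.Forms.Elusive Module

variable {F : Type*} [Field F]

theorem order_two : orderOf ((2 : ℕ) : ZMod 3) = 2 := orderOf_eq_prime (by decide) (by decide)

/-- two eigenvalues -/
theorem two_eigen {V : Type*} [AddCommGroup V] [Module F V] [FiniteDimensional F V] {f : V →ₗ[F] V} {a b : F}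
    (hab : a ≠ b) (hf : ∀ v, f (f v - b • v) = a • (f v - b • v)) :
    ∃ (s t : ℕ) (B : Basis (Fin s ⊕ Fin t) F V), (∀ i, f (B (Sum.inl i)) = a • B (Sum.inl i)) ∧
      (∀ i, f (B (Sum.inr i)) = b • B (Sum.inr i)) ∧ LinearMap.det f = a ^ s * b ^ t := by
  classical
  set W := LinearMap.range (f - b • LinearMap.id) with hW
  set U := LinearMap.ker (f - b • LinearMap.id) with hU
  have hdim : finrank F W + finrank F U = finrank F V := LinearMap.finrank_range_add_finrank_ker _
  let bW := Module.finBasis F W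
  let bU := Module.finBasis F U
  let v : Fin (finrank F W) ⊕ Fin (finrank F U) → V := Sum.elim (fun i => (bW i : V)) fun i => (bU i : V)
  have hWs : W ≤ Submodule.span F (Set.range v) := fun x hx => by
    have h0 := Submodule.mem_map_of_mem (f := W.subtype) (bW.mem_span ⟨x, hx⟩)
    rw [Submodule.map_span] at h0
    refine Submodule.span_mono ?_ h0
    rintro _ ⟨_, ⟨i, rfl⟩, rfl⟩; exact ⟨Sum.inl i, rfl⟩
  have hUs : U ≤ Submodule.span F (Set.range v) := fun x hx => by
    have h0 := Submodule.mem_map_of_mem (f := U.subtype) (bU.mem_span ⟨x, hx⟩)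
    rw [Submodule.map_span] at h0
    refine Submodule.span_mono ?_ h0
    rintro _ ⟨_, ⟨i, rfl⟩, rfl⟩; exact ⟨Sum.inr i, rfl⟩
  have hspan : ⊤ ≤ Submodule.span F (Set.range v) := by
    intro x _
    have hne : a - b ≠ 0 := sub_ne_zero.2 hab
    have hx : x = (a - b)⁻¹ • (f x - b • x) - (a - b)⁻¹ • (f x - a • x) := by
      rw [← smul_sub, eq_inv_smul_iff₀ hne]; module
    rw [hx]
    refine sub_mem (Submodule.smul_mem _ _ (hWs ⟨x, rfl⟩)) (Submodule.smul_mem _ _ (hUs ?_))
    rw [hU, LinearMap.mem_ker, LinearMap.sub_apply, LinearMap.smul_apply, LinearMap.id_apply]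
    have h := hf x
    simp only [map_sub, map_smul] at h ⊢
    rw [← sub_eq_zero] at h
    rw [← h]; module
  let B := basisOfTopLeSpanOfCardEqFinrank v hspan (by simp [hdim])
  have hl : ∀ i, f (B (Sum.inl i)) = a • B (Sum.inl i) := fun i => by
    obtain ⟨y, hy⟩ := (bW i).2
    simp only [B, coe_basisOfTopLeSpanOfCardEqFinrank, v, Sum.elim_inl]
    rw [← hy]
    exact hf y
  have hr : ∀ i, f (B (Sum.inr i)) = b • B (Sum.inr i) := fun i => by
    simp only [B, coe_basisOfTopLeSpanOfCardEqFinrank, v, Sum.elim_inr]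
    exact sub_eq_zero.1 (LinearMap.mem_ker.1 (bU i).2)
  refine ⟨_, _, B, hl, hr, ?_⟩
  rw [← LinearMap.det_toMatrix B, show LinearMap.toMatrix B B f = Matrix.diagonal (Sum.elim (fun _ => a) fun _ => b) from by
      ext i j
      rcases j with j | j <;>
        rw [LinearMap.toMatrix_apply] <;> simp only [hl, hr, map_smul, Basis.repr_self, Finsupp.smul_apply,
          Finsupp.single_apply, Matrix.diagonal_apply] <;> rcases i with i | i <;>
        simp [Sum.inl.injEq, Sum.inr.injEq, eq_comm] <;> split_ifs <;> simp_all,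
    Matrix.det_diagonal, Fintype.prod_sum_type]
  simp

variable [Fintype F]

/-- each cube root of unity is an eigenvalue, unless two of them do -/
theorem eigen_cases {f : (Fin 3 → F) →ₗ[F] (Fin 3 → F)} (hf : ∀ v, (f ^ 3) v = v) {ω : F} (hω : ω ^ 3 = 1) (hω1 : ω ≠ 1) :
    (∃ b : Basis (Fin 3) F (Fin 3 → F), ∀ i, f (b i) = ω ^ (i : ℕ) • b i) ∨
    ∃ a b : F, a ≠ b ∧ a ^ 3 = 1 ∧ b ^ 3 = 1 ∧ ∀ v, f (f v - b • v) = a • (f v - b • v) := by
  have h2 : ω ^ 2 + ω + 1 = 0 := by
    have : (ω - 1) * (ω ^ 2 + ω + 1) = 0 := by linear_combination hω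
    exact (mul_eq_zero.1 this).resolve_left (sub_ne_zero.2 hω1)
  have hω0 : ω ≠ 0 := fun e => by rw [e] at hω; simp at hω
  have hω21 : ω ^ 2 ≠ 1 := fun e => hω1 (by
    calc ω = ω * ω ^ 2 := by rw [e, mul_one]
      _ = 1 := by rw [← hω]; ring)
  have hω2ω : ω ^ 2 ≠ ω := fun e => hω1 (mul_left_cancel₀ hω0 (by rw [mul_one, ← pow_two]; exact e))
  have hf3 : ∀ v, f (f (f v)) = v := fun v => by
    have := hf v
    simpa [pow_succ] using this
  by_cases h : ∀ i : Fin 3, ∃ v, v ≠ 0 ∧ f v = ω ^ (i : ℕ) • v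
  · choose v hv0 hv using h
    left
    have hinj : Function.Injective fun i : Fin 3 => ω ^ (i : ℕ) := by
      intro i j e
      fin_cases i <;> fin_cases j <;> first
        | rfl
        | (exfalso; simp [hω1, hω21, hω2ω, Ne.symm hω1, Ne.symm hω21, Ne.symm hω2ω] at e)
    have hli := Module.End.eigenvectors_linearIndependent' f (fun i : Fin 3 => ω ^ (i : ℕ)) hinj v
      fun i => ⟨Module.End.mem_eigenspace_iff.2 (hv i), hv0 i⟩
    exact ⟨basisOfLinearIndependentOfCardEqFinrank hli (by simp), fun i => by simp [hv i]⟩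
  · right
    push Not at h
    obtain ⟨i, hi⟩ := h
    -- the two other roots
    set l := ω ^ (i : ℕ) with hl
    have hl3 : l ^ 3 = 1 := by rw [hl, ← pow_mul, mul_comm, pow_mul, hω, one_pow]
    have hl0 : l ≠ 0 := fun e => by rw [e] at hl3; simp at hl3
    refine ⟨l * ω, l * ω ^ 2, fun e => hω2ω (mul_left_cancel₀ hl0 e).symm, by rw [mul_pow, hl3, hω, one_mul],
      by rw [mul_pow, hl3, ← pow_mul, mul_comm 2, pow_mul, hω, one_pow, one_mul], fun v => ?_⟩
    by_contra hne
    refine hi (f (f v - (l * ω ^ 2) • v) - (l * ω) • (f v - (l * ω ^ 2) • v)) (sub_ne_zero.2 hne) ?_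
    simp only [map_sub, map_smul, hf3, smul_sub, smul_smul]
    rw [← sub_eq_zero]
    match_scalars
    · linear_combination -hl3 - l ^ 3 * hω
    · linear_combination -l * h2
    · linear_combination l ^ 2 * ω * h2

theorem eigenbasis_frob {K : Subalgebra F (Matrix (Fin 3) (Fin 3) F)} (hK : Cfsg.Geo.IsFieldSubalgebra 3 K)
    {g : GL (Fin 3) F} (hg : g ∈ Cfsg.Geo.subalgebraNormalizer K) (hg3 : g ^ 3 = 1) (hg1 : g ≠ 1)
    {u : Fin 3 → F} (hu0 : u ≠ 0) (hgu : (g : Matrix (Fin 3) (Fin 3) F) *ᵥ u = u) {ω : F} (hω : ω ^ 3 = 1) (hω1 : ω ≠ 1) :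
    ∃ b : Basis (Fin 3) F (Fin 3 → F), ∀ i, (g : Matrix (Fin 3) (Fin 3) F) *ᵥ b i = ω ^ (i : ℕ) • b i := by
  haveI : Fact (Nat.Prime 3) := ⟨Nat.prime_three⟩
  set f : (Fin 3 → F) →ₗ[F] (Fin 3 → F) := Matrix.toLin' (g : Matrix (Fin 3) (Fin 3) F) with hfdef
  have hf : ∀ v, (f ^ 3) v = v := fun v => by
    rw [hfdef, ← Matrix.toLin'_pow, ← Units.val_pow_eq_pow_val, hg3, Units.val_one, Matrix.toLin'_one, LinearMap.id_apply]
  rcases eigen_cases hf hω hω1 with ⟨b, hb⟩ | ⟨a, b, hab, ha, hb, hh⟩
  · exact ⟨b, fun i => by rw [← Matrix.toLin'_apply]; exact hb i⟩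
  · exfalso
    obtain ⟨s, t, B, hl, hr, -⟩ := two_eigen hab hh
    have hst : s + t = 3 := by
      have := (Module.finrank_eq_card_basis B).symm
      simpa using this
    have key : ∀ (c : F) (w₁ w₂ : Fin 3 → F), c ^ 3 = 1 → LinearIndependent F ![w₁, w₂] →
        f w₁ = c • w₁ → f w₂ = c • w₂ → False := by
      intro c w₁ w₂ hc hw h1 h2
      have hc0 : c ≠ 0 := fun e => by rw [e] at hc; simp at hc
      let g' : GL (Fin 3) F := scal (Units.mk0 c hc0)⁻¹ * g
      have hg'v : ∀ v, (g' : Matrix (Fin 3) (Fin 3) F) *ᵥ v = c⁻¹ • f v := fun v => by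
        simp [g', scal_val, hfdef, Matrix.smul_mulVec]
      have h := Cyc.eq_one_of_two_fixed hK (g := g') (Cyc.smul_mem (inv_ne_zero hc0)
        (by simp [g', scal_val]) hg) hw (by rw [hg'v, h1, inv_smul_smul₀ hc0]) (by rw [hg'v, h2, inv_smul_smul₀ hc0])
      have hu := hg'v u
      rw [h, Units.val_one, Matrix.one_mulVec, hfdef, Matrix.toLin'_apply, hgu] at hu
      have hc1 : c⁻¹ = 1 := by
        have : (c⁻¹ - 1) • u = 0 := by rw [sub_smul, one_smul, ← hu, sub_self]
        exact sub_eq_zero.1 ((smul_eq_zero.1 this).resolve_right hu0)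
      refine hg1 (Units.ext (Matrix.ext_of_mulVec_single fun i => ?_))
      have := hg'v (Pi.single i 1)
      rw [h, hc1, one_smul, hfdef, Matrix.toLin'_apply] at this
      exact this.symm
    rcases (by omega : 2 ≤ s ∨ 2 ≤ t) with h | h
    · exact key a _ _ ha (LinearIndependent.pair_iff.2 fun x y e => by
        have := Fintype.linearIndependent_iff.1 (B.linearIndependent.comp (fun k : Fin 2 => (Sum.inl ⟨k, by omega⟩ : Fin s ⊕ Fin t))
          (fun i j h => Fin.ext (by simpa using h))) ![x, y] (by simpa [Fin.sum_univ_two] using e)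
        exact ⟨this 0, this 1⟩) (hl _) (hl _)
    · exact key b _ _ hb (LinearIndependent.pair_iff.2 fun x y e => by
        have := Fintype.linearIndependent_iff.1 (B.linearIndependent.comp (fun k : Fin 2 => (Sum.inr ⟨k, by omega⟩ : Fin s ⊕ Fin t))
          (fun i j h => Fin.ext (by simpa using h))) ![x, y] (by simpa [Fin.sum_univ_two] using e)
        exact ⟨this 0, this 1⟩) (hr _) (hr _)

/-- Elements of order 3 of PSL_3(q) and the normalizer of a Singer cycle. Here `T = PSL_n(F)` for a field `F` with `q = p^f` elements (`n ≥ 2`, `(n, q) ≠ (2, 2), (2, 3)`), `k` is a prime dividing `n`, `K` is a subalgebra of the `n × n` matrices that is a field of degree `k` over `F` (an extension-field structure F_{q^k} on `F^n`), and `H` is the subgroup of matrices of determinant 1 normalizing `K` — a subgroup of type GL_{n/k}(q^k) (maximal except in some small cases; maximality is not assumed); Ω is the set of cosets of `H` in `T`, so an element of `T` of prime order `r` (a matrix `x` of determinant 1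 with `x^r` scalar, `x` not scalar) fixes a point of Ω when some conjugate of `x` by a matrix of determinant 1 normalizes `K`. Take `n = k = 3` and suppose 3 divides the index of `H`. Then every element of `T` of order 3 is conjugate in `T` into `H` if and only if `q ≡ 4, 7` or `8 (mod 9)`. -/
theorem result {F : Type*} [Field F] [Fintype F] {p : ℕ} [Fact p.Prime] [CharP F p] {q : ℕ} (hq : Fintype.card F = q)
    (n : ℕ) (hn : n = 3) (k : ℕ) (hk : k.Prime) (hkn : k ∣ n) (K : Subalgebra F (Matrix (Fin n) (Fin n) F)) (hK : Cfsg.Geo.IsFieldSubalgebra k K) (hk3 : k = 3) (hΩ : 3 ∣ ((Cfsg.Geo.subalgebraNormalizer K).comap (Matrix.SpecialLinearGroup.toGL : Matrix.SpecialLinearGroup (Fin n) F →* GL (Fin n) F)).index) :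
    (∀ x : Matrix.SpecialLinearGroup (Fin n) F,
      (∃ z : F, ((x ^ 3 : Matrix.SpecialLinearGroup (Fin n) F) : Matrix (Fin n) (Fin n) F) = z • (1 : Matrix (Fin n) (Fin n) F)) →
      (∀ z : F, (x : Matrix (Fin n) (Fin n) F) ≠ z • (1 : Matrix (Fin n) (Fin n) F)) →
      ∃ P : Matrix.SpecialLinearGroup (Fin n) F, P⁻¹ * x * P ∈ ((Cfsg.Geo.subalgebraNormalizer K).comap (Matrix.SpecialLinearGroup.toGL : Matrix.SpecialLinearGroup (Fin n) F →* GL (Fin n) F))) ↔
    (q % 9 = 4 ∨ q % 9 = 7 ∨ q % 9 = 8) := by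
  classical
  subst hq
  subst hn
  subst hk3
  haveI : Fact (Nat.Prime 3) := ⟨Nat.prime_three⟩
  set q := Fintype.card F with hqdef
  have hq1 : 1 < q := Fintype.one_lt_card
  have h30 : q % 3 ≠ 0 → ((3 : ℕ) : F) ≠ 0 := fun h => natCast_prime_ne_zero p (r := 3) fun e => by
    obtain ⟨l, -, hl⟩ := FiniteField.card F p
    rw [← e] at hl
    rw [hqdef, hl, Nat.pow_mod] at h
    simp [l.pos.ne'] at h
  constructor
  · intro h
    by_contra hcon
    have done : ∀ (Y : Matrix (Fin 3) (Fin 3) F) (c : F) (u₁ u₂ : Fin 3 → F), Y ^ 3 = 1 → Y ≠ 1 → c ^ 3 * Y.det = 1 →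
        LinearIndependent F ![u₁, u₂] → Y *ᵥ u₁ = u₁ → Y *ᵥ u₂ = u₂ → False := by
      intro Y c u₁ u₂ h1 h2 h3 h4 h5 h6
      obtain ⟨x, hx1, hx2, hx3⟩ := Cyc.exists_derangement hK Y h1 h2 c h3 h4 h5 h6
      obtain ⟨P, hP⟩ := h x hx1 hx2
      exact hx3 P hP
    rcases (by omega : q % 3 = 0 ∨ q % 9 = 1 ∨ q % 9 = 2 ∨ q % 9 = 5) with hq | hq | hq
    · -- a transvection
      have hp3 : (3 : F) = 0 := by
        obtain ⟨l, -, hl⟩ := FiniteField.card F p
        have hp : p = 3 := ((Nat.prime_dvd_prime_iff_eq Nat.prime_three Fact.out).1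
          (Nat.prime_three.dvd_of_dvd_pow (n := (l : ℕ)) (by rw [← hl]; exact Nat.dvd_of_mod_eq_zero hq))).symm
        have := CharP.cast_eq_zero F p
        rw [hp] at this
        exact_mod_cast this
      refine done (Matrix.transvection (0 : Fin 3) 1 1) 1 (Pi.single 0 1) (Pi.single 2 1) ?_ ?_ ?_ ?_ ?_ ?_
      · rw [pow_succ, pow_two, Matrix.transvection_mul_transvection_same (0 : Fin 3) 1 (by decide),
          Matrix.transvection_mul_transvection_same (0 : Fin 3) 1 (by decide),
          show (1 : F) + 1 + 1 = 0 by rw [← hp3]; norm_num, Matrix.transvection_zero]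
      · intro e
        simpa [Matrix.transvection, Matrix.one_apply] using congrFun (congrFun e 0) 1
      · rw [one_pow, one_mul, Matrix.det_transvection_of_ne _ _ (by decide)]
      · rw [LinearIndependent.pair_iff]
        intro a b e
        exact ⟨by simpa using congrFun e 0, by simpa using congrFun e 2⟩
      all_goals
        funext j
        fin_cases j <;> simp [Matrix.transvection, Matrix.mulVec, dotProduct, Fin.sum_univ_three, Matrix.single, Matrix.one_apply]
    · -- a ninth root of unity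
      obtain ⟨g, hg⟩ := IsCyclic.exists_generator (α := Fˣ)
      have hog : orderOf g = q - 1 := by
        rw [orderOf_eq_card_of_forall_mem_zpowers hg, Nat.card_units, Nat.card_eq_fintype_card]
      obtain ⟨m, hm⟩ : 9 ∣ q - 1 := by omega
      have hg9 : ((g : F) ^ m) ^ 9 = 1 := by
        rw [← pow_mul, mul_comm, ← hm, ← hog, ← Units.val_pow_eq_pow_val, pow_orderOf_eq_one, Units.val_one]
      have hg3 : ((g : F) ^ m) ^ 3 ≠ 1 := by
        rw [← pow_mul, ← Units.val_pow_eq_pow_val, Ne, Units.val_eq_one, ← orderOf_dvd_iff_pow_eq_one, hog]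
        intro hd
        have := Nat.le_of_dvd (by omega) hd
        omega
      set c := (g : F) ^ m
      refine done (Matrix.diagonal ![c ^ 6, 1, 1]) c (Pi.single 1 1) (Pi.single 2 1) ?_ ?_ ?_ ?_ ?_ ?_
      · rw [Matrix.diagonal_pow]
        convert Matrix.diagonal_one using 2
        funext j
        fin_cases j <;> simp
        linear_combination (c ^ 9 + 1) * hg9
      · intro e
        have h6 : c ^ 6 = 1 := by simpa using congrFun (congrFun e 0) 0
        refine hg3 ?_
        linear_combination -(c ^ 3) * h6 + hg9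
      · simp [Matrix.det_diagonal, Fin.prod_univ_three]
        linear_combination hg9
      · rw [LinearIndependent.pair_iff]
        intro a b e
        exact ⟨by simpa using congrFun e 1, by simpa using congrFun e 2⟩
      all_goals
        funext j
        fin_cases j <;> simp [Matrix.mulVec_diagonal]
    · -- the index is prime to three
      obtain ⟨g, hg, hg3, hg1, -⟩ := Cyc.exists_frob hK
      have hnd : ¬ 3 ∣ q - 1 := by omega
      have hdet : (g : Matrix (Fin 3) (Fin 3) F).det = 1 := eq_one_of_pow_eq_one (r := 3) hnd (by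
        rw [← Matrix.det_pow, ← Units.val_pow_eq_pow_val, hg3, Units.val_one, Matrix.det_one])
      set H := (Cfsg.Geo.subalgebraNormalizer K).comap
        (Matrix.SpecialLinearGroup.toGL : Matrix.SpecialLinearGroup (Fin 3) F →* GL (Fin 3) F)
      let s : Matrix.SpecialLinearGroup (Fin 3) F := ⟨(g : Matrix (Fin 3) (Fin 3) F), hdet⟩
      have hsH : s ∈ H := by
        refine Subgroup.mem_comap.2 ?_
        rwa [show Matrix.SpecialLinearGroup.toGL s = g from Units.ext rfl]
      have hs3 : orderOf s = 3 := orderOf_eq_prime (Subtype.ext (by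
        rw [Matrix.SpecialLinearGroup.coe_pow]
        show ((g : Matrix (Fin 3) (Fin 3) F)) ^ 3 = 1
        rw [← Units.val_pow_eq_pow_val, hg3, Units.val_one])) fun e => hg1 (Units.ext (congrArg Subtype.val e :))
      have h3H : 3 ∣ Nat.card H := by
        have := orderOf_dvd_natCard (⟨s, hsH⟩ : H)
        rwa [← Subgroup.orderOf_coe, hs3] at this
      have h9 := Nat.mul_dvd_mul hΩ h3H
      rw [Subgroup.index_mul_card] at h9
      have h := Classical.Linear.mul_natCard_SL_fin (F := F) (k := 3) (by norm_num)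
      have h9' := Dvd.dvd.mul_left h9 (q - 1)
      rw [hqdef, h, ← hqdef] at h9'
      rw [← ZMod.natCast_eq_zero_iff] at h9'
      simp only [Fin.prod_univ_three, Fin.val_zero, Fin.val_one, Fin.val_two, pow_zero, pow_one] at h9'
      have hle1 : q ≤ q ^ 3 := Nat.le_self_pow (by norm_num) q
      have hle2 : q ^ 2 ≤ q ^ 3 := Nat.pow_le_pow_right (by omega) (by norm_num)
      push_cast [Nat.cast_sub (Nat.one_le_pow 3 q (by omega)), Nat.cast_sub hle1, Nat.cast_sub hle2] at h9'
      have hcast : ((q : ℕ) : ZMod 9) = ((q % 9 : ℕ) : ZMod 9) := (ZMod.natCast_mod q 9).symm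
      rw [hcast] at h9'
      rcases hq with hq | hq <;> rw [hq] at h9' <;> revert h9' <;> decide
  · intro hcase x ⟨z, hz⟩ hns
    rcases (by omega : q % 9 = 8 ∨ (q % 3 = 1 ∧ q % 9 ≠ 1)) with hq | ⟨hq, hq9⟩
    · refine Cyc.exists_conj_into hK (h30 (by omega)) le_rfl ?_ x hz hns
      show orderOf ((q : ℕ) : ZMod 3) = 2
      rw [← ZMod.natCast_mod q 3, show q % 3 = 2 by omega]
      exact order_two
    · have hd3 : 3 ∣ q - 1 := by omega
      obtain ⟨ω', hω'⟩ := exists_prime_orderOf_dvd_card' (G := Fˣ) 3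
        (by rw [Nat.card_units, Nat.card_eq_fintype_card]; exact hd3)
      set ω : F := (ω' : F)
      have hω1 : ω ≠ 1 := fun e => by
        rw [Units.val_eq_one.1 e, orderOf_one] at hω'; omega
      have hω : ω ^ 3 = 1 := by rw [← Units.val_pow_eq_pow_val, ← hω', pow_orderOf_eq_one, Units.val_one]
      obtain ⟨d, hd⟩ : ∃ d : F, d ^ 3 = z := by
        by_contra hnp
        push Not at hnp
        obtain ⟨m, hm, hdet⟩ := det_of_not_pow (r := 3) (toLin'_pow_scalar hz) hnp
        rw [Module.finrank_fin_fun] at hm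
        obtain rfl : m = 1 := by omega
        rw [LinearMap.det_toLin', x.2] at hdet
        exact hnp 1 (by rw [one_pow, hdet]; norm_num)
      have hd0 : d ≠ 0 := by
        rintro rfl
        rw [zero_pow three_ne_zero] at hd
        have hdet := congrArg Matrix.det hz
        rw [(x ^ 3).2, ← hd, zero_smul, Matrix.det_zero] at hdet
        exact one_ne_zero hdet
      let f : (Fin 3 → F) →ₗ[F] (Fin 3 → F) := d⁻¹ • Matrix.toLin' (x : Matrix (Fin 3) (Fin 3) F)
      have hf : ∀ v, (f ^ 3) v = v := fun v => by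
        rw [show f ^ 3 = (d⁻¹) ^ 3 • Matrix.toLin' (x : Matrix (Fin 3) (Fin 3) F) ^ 3 from _root_.smul_pow _ _ _,
          LinearMap.smul_apply, toLin'_pow_scalar hz, smul_smul, inv_pow, hd,
          inv_mul_cancel₀ (by rw [← hd]; exact pow_ne_zero _ hd0), one_smul]
      have hfx : ∀ v, (x : Matrix (Fin 3) (Fin 3) F) *ᵥ v = d • f v := fun v => by
        simp only [f, LinearMap.smul_apply, Matrix.toLin'_apply, smul_inv_smul₀ hd0]
      have hfdet : LinearMap.det f = 1 := by
        have h1 : LinearMap.det f = (d⁻¹) ^ 3 := by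
          show LinearMap.det (d⁻¹ • Matrix.toLin' (x : Matrix (Fin 3) (Fin 3) F)) = _
          rw [LinearMap.det_smul, Module.finrank_fin_fun, LinearMap.det_toLin', x.2, mul_one]
        have h9 : (d⁻¹) ^ 9 = 1 := by
          have h2 : LinearMap.det f ^ 3 = 1 := by
            rw [← map_pow, show f ^ 3 = 1 from LinearMap.ext hf, map_one]
          rw [h1, ← pow_mul] at h2
          exact h2
        rw [h1]
        have := Nat.dvd_gcd (orderOf_dvd_of_pow_eq_one h9)
          (orderOf_dvd_of_pow_eq_one (FiniteField.pow_card_sub_one_eq_one _ (inv_ne_zero hd0)))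
        refine orderOf_dvd_iff_pow_eq_one.1 (this.trans ?_)
        have h3 : Nat.gcd 9 (q - 1) ∣ 3 := by
          obtain ⟨j, hj, e⟩ := (Nat.dvd_prime_pow Nat.prime_three).1 (Nat.gcd_dvd_left (3 ^ 2) (q - 1))
          rw [show (9 : ℕ) = 3 ^ 2 by norm_num, e]
          rcases Nat.lt_or_ge j 2 with hj' | hj'
          · exact (pow_dvd_pow 3 (by omega : j ≤ 1)).trans (by norm_num)
          · obtain rfl : j = 2 := by omega
            have h9d := Nat.gcd_dvd_right (3 ^ 2) (q - 1)
            rw [e] at h9d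
            obtain ⟨w, hw⟩ := h9d
            norm_num at hw
            omega
        exact h3
      obtain ⟨b, hb⟩ : ∃ b : Module.Basis (Fin 3) F (Fin 3 → F), ∀ i, f (b i) = ω ^ (i : ℕ) • b i := by
        rcases eigen_cases hf hω hω1 with hb | ⟨a, a', hab, ha, ha', hh⟩
        · exact hb
        · exfalso
          obtain ⟨s, t, B, hl, hr, hdet⟩ := two_eigen hab hh
          have hst : s + t = 3 := by
            have := (Module.finrank_eq_card_basis B).symm
            simpa using this
          have hscal : ∀ c : F, (∀ v, f v = c • v) → False := fun c hc => hns (d * c)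
            (Matrix.ext_of_mulVec_single fun i => by
              rw [hfx, hc, smul_smul, Matrix.smul_mulVec, Matrix.one_mulVec])
          rw [hfdet] at hdet
          rcases (by omega : s = 0 ∨ t = 0 ∨ (s = 1 ∧ t = 2) ∨ (s = 2 ∧ t = 1)) with h | h | ⟨rfl, rfl⟩ | ⟨rfl, rfl⟩
          · subst h
            exact hscal a' fun v => LinearMap.congr_fun (B.ext (f₁ := f) (f₂ := a' • LinearMap.id) fun i => by
              rcases i with i | i
              · exact i.elim0
              · exact hr i) v
          · subst h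
            exact hscal a fun v => LinearMap.congr_fun (B.ext (f₁ := f) (f₂ := a • LinearMap.id) fun i => by
              rcases i with i | i
              · exact hl i
              · exact i.elim0) v
          · exact hab (by linear_combination -a' * hdet - a * ha')
          · exact hab (by linear_combination a * hdet + a' * ha)
      obtain ⟨g, hg, hg3, hg1, u, hu0, hgu⟩ := Cyc.exists_frob hK
      obtain ⟨b', hb'⟩ := eigenbasis_frob hK hg hg3 hg1 hu0 hgu hω hω1
      let e₀ := b.equiv b' (Equiv.refl _)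
      obtain ⟨C, hC, hCdet⟩ := Inv.exists_scale b (fun i : Fin 3 => if i = 0 then (LinearEquiv.det e₀)⁻¹ else 1)
      let e := C.trans e₀
      have hedet : LinearEquiv.det e = 1 := by
        rw [LinearEquiv.det_trans, hCdet, Finset.prod_ite_eq', if_pos (Finset.mem_univ _), mul_inv_cancel]
      have he : ∀ v, e (f v) = (g : Matrix (Fin 3) (Fin 3) F) *ᵥ e v := fun v => by
        have : e.toLinearMap ∘ₗ f = Matrix.toLin' (g : Matrix (Fin 3) (Fin 3) F) ∘ₗ e.toLinearMap := b.ext fun i => by
          simp [e, e₀, hC, hb, hb', Matrix.mulVec_smul, smul_comm (ω ^ (i : ℕ))]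
        have := LinearMap.congr_fun this v
        simpa using this
      obtain ⟨P, hP⟩ := Inv.exists_SL e hedet x
      refine ⟨P, Cyc.smul_mem hd0 ?_ hg⟩
      refine Matrix.ext_of_mulVec_single fun i => ?_
      show ((P⁻¹ * x * P : Matrix.SpecialLinearGroup (Fin 3) F) : Matrix (Fin 3) (Fin 3) F) *ᵥ _ = _
      rw [hP, hfx, map_smul, he, LinearEquiv.apply_symm_apply, Matrix.smul_mulVec]

end Cfsg.Agent.S5971
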