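import Cfsg.Statements.S5972
import Cfsg.Agent.Lib.Classical.IsoInvariant.OrthOddTwo
import Cfsg.Agent.Lib.Classical.IsoInvariant.OrthOddCount

set_option autoImplicit false
open scoped MatrixGroups
open Cfsg

namespace Cfsg.Agent.S5972

open Cfsg.Agent.Forms.Elusive Cfsg.Agent.Classical Cfsg.Agent.Classical.IsoInvariant

/-- Elements of prime order of Ω_n(q), n = 2d+1 ≥ 7, q odd, with no fixed totally singular `m`-space. Here `T = Ω_n(q)` is realised as the commutator subgroup of the isometry group of the quadratic form `x₀² + Σ xᵢyᵢ` over the field `F` with `q` elements (it has trivial centre, so its elements of prime order `r` are used directly); let `1 ≤ m ≤ d` and let `r` be a prime dividing the number of totally singular `m`-spaces. For `r ≠ p` let `i` be the multiplicative order of `q` modulo `r`, `c = i` for `i` even and `c = 2i` for `i` odd, and write `k = n mod c`, `ℓ = m mod i`, `n' = ⌊n/i⌋`, `m' = ⌊m/i⌋`, `t = (r−1)/i`. Then every element of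 `T` of order `r` fixes some totally singular `m`-space if and only if either (i) `r = 2` and (`m < (n−1)/2` or `q ≡ 1 (mod 4)`); or (ii) `r ≠ p` is odd, `i ≤ m`, `k > 2ℓ`, and (`i` is odd or `n' − 2m' ≥ t`). -/
theorem result {F : Type*} [Field F] [Fintype F] {p : ℕ} [Fact p.Prime] [CharP F p] {q : ℕ} (hq : Fintype.card F = q) (hqodd : Odd q)
    (d m : ℕ) (hd : 3 ≤ d) (hm : 1 ≤ m) (hmd : m ≤ d)
    (r : ℕ) [Fact r.Prime]
    (hrΩ : r ∣ Nat.card {W : Submodule F (Unit ⊕ (Fin d ⊕ Fin d) → F) // Module.finrank F ↥W = m ∧ (∀ w ∈ W, Cfsg.quadFormOdd d F w = 0)})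
    (i c : ℕ) (hi : i = orderOf (q : ZMod r)) (hc : c = if Even i then i else 2 * i) :
    (∀ x : GL (Unit ⊕ (Fin d ⊕ Fin d)) F, x ∈ Cfsg.Geo.omegaGL (Cfsg.quadFormOdd d F) → orderOf x = r →
      ∃ W : Submodule F (Unit ⊕ (Fin d ⊕ Fin d) → F), Module.finrank F ↥W = m ∧ (∀ w ∈ W, Cfsg.quadFormOdd d F w = 0) ∧
        W.map (Matrix.toLin' (x : Matrix (Unit ⊕ (Fin d ⊕ Fin d)) (Unit ⊕ (Fin d ⊕ Fin d)) F)) ≤ W) ↔
    ((r = 2 ∧ (m < d ∨ q % 4 = 1)) ∨
     (r ≠ p ∧ 2 < r ∧ i ≤ m ∧ 2 * (m % i) < (2 * d + 1) % c ∧ (Odd i ∨ (r - 1) / i + 2 * (m / i) ≤ (2 * d + 1) / i))) := by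
  classical
  subst hq
  have h2 : (2 : F) ≠ 0 := OrthForms.two_ne_zero_of_odd hqodd
  have hp2 : p ≠ 2 := fun h => by
    subst h
    exact h2 (by exact_mod_cast CharP.cast_eq_zero F 2)
  have hodd2 : Fintype.card F % 2 = 1 := Nat.odd_iff.1 hqodd
  have hnd : (OrthOdd.oB F d).Nondegenerate := OrthForms.oddQ_nondeg h2 d
  have hΩ' : r ∣ Nat.card {W : Submodule F (Unit ⊕ (Fin d ⊕ Fin d) → F) //
      Module.finrank F W = m ∧ ∀ u ∈ W, ∀ v ∈ W, OrthOdd.oB F d u v = 0} :=
    Nat.card_congr (Equiv.subtypeEquivRight fun W => and_congr Iff.rfl (OrthOdd.iso_iff h2 W).symm) ▸ hrΩ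
  obtain ⟨hrp, j₀, hj₀, hdvd⟩ :=
    OrthOdd.exists_index_of_dvd hnd (OrthOdd.oB_symm d) h2 (OrthOdd.finrank_odd d) hmd p hΩ'
  rw [← hi] at hdvd
  by_cases hr2 : r = 2
  · subst hr2
    constructor
    · intro H
      refine Or.inl ⟨rfl, ?_⟩
      by_contra hcon
      push Not at hcon
      obtain ⟨g, hg, hg2, hg1, hW⟩ := OrthOdd.exists_derangement_two (F := F) (d := d) h2 (by omega) (by omega)
      obtain ⟨W, hWd, hWs, hWi⟩ := H g (by rw [← OrthForms.oddQ_eq]; exact ⟨g, hg, rfl⟩)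
        (orderOf_eq_prime (by rw [sq, ← MulMemClass.coe_mul, hg2, OneMemClass.coe_one])
          (fun e => hg1 (Subtype.ext e)))
      exact hW ⟨W, by omega, (OrthOdd.iso_iff h2 W).2 hWs, hWi⟩
    · rintro (⟨-, hcond⟩ | ⟨-, h, -⟩)
      swap
      · exact absurd h (by omega)
      intro x hx hord
      rw [← OrthForms.oddQ_eq] at hx
      obtain ⟨g, hg, rfl⟩ := hx
      have hg2 : g * g = 1 := Subtype.ext (by
        have := pow_orderOf_eq_one (((Cfsg.isometryGroup F ⇑(OrthForms.oddQ F d)).subtype g))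
        rw [hord, sq] at this
        exact this)
      obtain ⟨W, h1, h2', h3⟩ := OrthOdd.exists_invariant_two h2 (by omega) hmd hcond hg hg2
      exact ⟨W, h1, (OrthOdd.iso_iff h2 W).1 h2', h3⟩
  · have hr3 : 2 < r := by have := (Fact.out : r.Prime).two_le; omega
    have hcev : Even c := by rw [hc]; split_ifs with h; exacts [h, even_two_mul i]
    have hc0 : 0 < c := by
      have hi0 : 0 < i := order_pos (natCast_prime_ne_zero p hrp) hi
      rw [hc]; split_ifs <;> omega
    have hmod : (2 * d + 1) % c = (2 * d) % c + 1 := by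
      have h1 := Nat.mod_lt (2 * d) hc0
      have h3 : (2 * d) % c % 2 = 0 := by
        rw [Nat.mod_mod_of_dvd _ (even_iff_two_dvd.1 hcev)]; omega
      have h4 := Nat.even_iff.1 hcev
      rw [Nat.add_mod, Nat.mod_eq_of_lt (show 1 < c by omega), Nat.mod_eq_of_lt (by omega)]
    have hdiv : Even i → (2 * d + 1) / i = (2 * d) / i := fun hev => by
      rw [Nat.succ_div_of_not_dvd]
      intro h
      have := (even_iff_two_dvd.1 hev).trans h
      omega
    constructor
    · intro H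
      obtain ⟨a, b, e⟩ := OrthOdd.necessary p hrp hr2 h2 hi hc hj₀ hmd hdvd fun x hx ho => by
        obtain ⟨W, h1, h2', h3⟩ := H x hx ho
        exact ⟨W, h1, (OrthOdd.iso_iff h2 W).2 h2', h3⟩
      refine Or.inr ⟨hrp, hr3, a, by omega, ?_⟩
      rcases Nat.even_or_odd i with hev | hodd
      · rw [hdiv hev]; exact e
      · exact Or.inl hodd
    · rintro (⟨h, -⟩ | ⟨-, -, -, hk, ht⟩)
      · exact absurd h hr2
      intro x hx hord
      rw [← OrthForms.oddQ_eq] at hx
      obtain ⟨g, hg, rfl⟩ := hx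
      have hpow : (Matrix.toLin' (((g : GL (Unit ⊕ (Fin d ⊕ Fin d)) F)) : Matrix (Unit ⊕ (Fin d ⊕ Fin d)) (Unit ⊕ (Fin d ⊕ Fin d)) F)) ^ r = 1 := by
        have := congrArg Units.val (hord ▸ pow_orderOf_eq_one ((Cfsg.isometryGroup F ⇑(OrthForms.oddQ F d)).subtype g))
        rw [Units.val_pow_eq_pow_val, Units.val_one] at this
        rw [← Matrix.toLin'_pow]
        exact (congrArg Matrix.toLin' this).trans Matrix.toLin'_one
      obtain ⟨W, h1, h2', h3⟩ := OrthOdd.exists_invariant hnd (OrthOdd.oB_symm d) h2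
        (OrthOdd.oB_iso fun v => Cfsg.Agent.Forms.QuadStd.iso_mulVec g v) hr2 (natCast_prime_ne_zero p hrp) hpow
        hi hc (OrthOdd.finrank_odd d) hmd (by omega) (by
          rcases ht with h | h
          · exact Or.inl h
          · rcases Nat.even_or_odd i with hev | hodd
            · exact Or.inr (by rwa [hdiv hev] at h)
            · exact Or.inl hodd)
      exact ⟨W, h1, (OrthOdd.iso_iff h2 W).1 h2', h3⟩

end Cfsg.Agent.S5972
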