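import Cfsg.Statements.S5973
import Cfsg.Agent.Lib.Classical.IsoInvariant.TsTwo

set_option autoImplicit false
open scoped MatrixGroups
open Cfsg
open Cfsg.Agent Cfsg.Agent.Classical Cfsg.Agent.Classical.IsoInvariant
open Cfsg.Agent.Forms.Elusive

namespace Cfsg.Agent.S5973

/-- Elements of prime order of PΩ⁺_n(q), n = 2d ≥ 8, with no fixed totally singular `m`-space, `m < n/2`. Here `T = PΩ⁺_n(q)` is realised through `Ω⁺_n(q)`, the commutator subgroup of the isometry group of the quadratic form `Σ xᵢyᵢ` over the field `F` with `q` elements; an element of `T` of prime order `r` is an element `x` of `Ω⁺_n(q)` with `x^r` scalar and `x` not scalar. Let `1 ≤ m < d` and let `r` be a prime dividing the number of totally singular `m`-spaces. For `r ≠ p` let `i` be the multiplicative order of `q` modulo `r`, `c = i` for `i` even and `c = 2i` for `i` odd, and write `k = n mod c`, `ℓ = m mod i`, `n' = ⌊n/i⌋`, `m' = ⌊m/i⌋`, `t = (r−1)/i`.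 Then every element of `T` of order `r` fixes some totally singular `m`-space if and only if one of: (i) `r = 2 ≠ p` and either `q ≡ 1 (mod 4)`, or `q ≡ 3 (mod 4)`, `m ≤ n/2 − 2` and (`m` even or `n ≡ 2 (mod 4)`); (ii) `r ≠ p` odd, `i` odd, `i ≤ m` and `k ≥ 2ℓ`; (iii) `r ≠ p` odd, `i` even, `i ≤ m`, `n' − 2m' ≥ t`, and one of: `i ≥ 2ℓ`, `k = 0`, `n/i` odd and `n' − 2m' > t`; or `k ≥ 2ℓ` and `n'` even; or `k > 2ℓ` and `n'` odd. -/
theorem result {F : Type*} [Field F] [Fintype F] {p : ℕ} [Fact p.Prime] [CharP F p] {q : ℕ} (hq : Fintype.card F = q)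
    (d m : ℕ) (hd : 4 ≤ d) (hm : 1 ≤ m) (hmd : m < d)
    (r : ℕ) [Fact r.Prime]
    (hrΩ : r ∣ Nat.card {W : Submodule F (Fin d ⊕ Fin d → F) // Module.finrank F ↥W = m ∧ (∀ w ∈ W, Cfsg.quadFormPlus d F w = 0)})
    (i c : ℕ) (hi : i = orderOf (q : ZMod r)) (hc : c = if Even i then i else 2 * i) :
    (∀ x : GL (Fin d ⊕ Fin d) F, x ∈ Cfsg.Geo.omegaGL (Cfsg.quadFormPlus d F) →
      (∃ z : F, ((x ^ r : GL (Fin d ⊕ Fin d) F) : Matrix (Fin d ⊕ Fin d) (Fin d ⊕ Fin d) F) = z • (1 : Matrix (Fin d ⊕ Fin d) (Fin d ⊕ Fin d) F)) →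
      (∀ z : F, (x : Matrix (Fin d ⊕ Fin d) (Fin d ⊕ Fin d) F) ≠ z • (1 : Matrix (Fin d ⊕ Fin d) (Fin d ⊕ Fin d) F)) →
      ∃ W : Submodule F (Fin d ⊕ Fin d → F), Module.finrank F ↥W = m ∧ (∀ w ∈ W, Cfsg.quadFormPlus d F w = 0) ∧
        W.map (Matrix.toLin' (x : Matrix (Fin d ⊕ Fin d) (Fin d ⊕ Fin d) F)) ≤ W) ↔
    ((r = 2 ∧ p ≠ 2 ∧ (q % 4 = 1 ∨ (q % 4 = 3 ∧ m + 2 ≤ d ∧ (Even m ∨ (2 * d) % 4 = 2)))) ∨
     (r ≠ p ∧ 2 < r ∧ Odd i ∧ i ≤ m ∧ 2 * (m % i) ≤ (2 * d) % c) ∨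
     (r ≠ p ∧ 2 < r ∧ Even i ∧ i ≤ m ∧ (r - 1) / i + 2 * (m / i) ≤ (2 * d) / i ∧
       ((2 * (m % i) ≤ i ∧ (2 * d) % c = 0 ∧ Odd ((2 * d) / i) ∧ (r - 1) / i + 2 * (m / i) < (2 * d) / i) ∨
        (2 * (m % i) ≤ (2 * d) % c ∧ Even ((2 * d) / i)) ∨
        (2 * (m % i) < (2 * d) % c ∧ Odd ((2 * d) / i))))) := by
  classical
  have hrP : r.Prime := Fact.out
  have hpP : p.Prime := Fact.out
  subst hq
  simp only [← OrthForms.plusQ_eq] at hrΩ ⊢
  set Q := Forms.PlusStd.plusQ F d with hQdef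
  have hQ : (QuadraticMap.polarBilin Q).Nondegenerate := Forms.PlusStd.plusQ_nondeg F d
  have hcard : Fintype.card (Fin d ⊕ Fin d) = 2 * d := by simp; omega
  have hτ : OrthTypes.IsPlus Q d ↔ True := iff_true_intro (OrthTypes.isPlus_plusQ d)
  have hΩ : r ∣ Nat.card {W : Submodule F (Fin d ⊕ Fin d → F) // Module.finrank F W = m ∧ ∀ w ∈ W, Q w = 0} := hrΩ
  refine Iff.trans ?_ (?_ : TsElt.AllFix Q m r ↔ _)
  · simp only [TsElt.AllFix, and_assoc]
  obtain ⟨hrp, hidx⟩ := TsCount.index_of_dvd hQ p (r := r) hcard (by omega) hΩ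
  rcases eq_or_ne r 2 with rfl | hr2
  · have hp2 : p ≠ 2 := Ne.symm hrp
    have h2 : (2 : F) ≠ 0 := fun h => hp2 ((Nat.prime_dvd_prime_iff_eq hpP Nat.prime_two).1
      ((CharP.cast_eq_zero_iff F p 2).1 (by exact_mod_cast h)))
    have hqodd : Fintype.card F % 2 = 1 := by
      refine FiniteField.odd_card_of_char_ne_two ?_
      rw [ringChar.eq F p]; exact hp2
    rw [TsTwo.allFix_two hQ h2 hcard (by omega) (by omega), FourthRoot.exists_root_iff hQ h2 hcard,
      FourthRoot.isSquare_two_pow h2]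
    have hplus : NdType.Plus (EvenDim.pB Q) ⊤ ↔ OrthTypes.IsPlus Q d := by
      rw [← EvenDim.type_iff h2]
      exact QuadNd.qplus_top hcard
    have hpar : ∀ k : ℕ, IsSquare ((-1 : F) ^ k) ↔ (k % 2 = 0 ∨ Fintype.card F % 4 ≠ 3) := fun k => by
      rcases Nat.even_or_odd k with hk | hk
      · simp [hk.neg_one_pow, Nat.even_iff.1 hk]
      · simp [hk.neg_one_pow, FiniteField.isSquare_neg_one_iff, Nat.odd_iff.1 hk]
    simp only [hp2, hplus, hτ, hpar, FiniteField.isSquare_two_iff, Nat.even_iff, Nat.odd_iff, ne_eq, not_false_eq_true,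
      lt_irrefl, true_and, false_and, and_false, or_false, false_or, iff_true, iff_false, true_iff, false_iff,
      imp_iff_not_or, not_true_eq_false, true_or, or_true, and_true]
    omega
  have h2r : 2 < r := lt_of_le_of_ne hrP.two_le (Ne.symm hr2)
  have hi' : i ∣ r - 1 := by
    rw [hi]
    refine orderOf_dvd_of_pow_eq_one (ZMod.pow_card_sub_one_eq_one fun h => hrp ?_)
    obtain ⟨k, -, hk⟩ := FiniteField.card F p
    rw [ZMod.natCast_eq_zero_iff, hk] at h
    exact (Nat.prime_dvd_prime_iff_eq hrP hpP).1 (hrP.dvd_of_dvd_pow h)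
  obtain ⟨hset, P, hPcard, hP⟩ := OrthPrimeClasses.setting_of (F := F) (p := p) (t := (r - 1) / i) rfl hrP
    hr2 hrp hi (Nat.div_mul_cancel hi')
  have hi0 := OrthPrimeClasses.ne_of_pos hset
  have ht : 1 ≤ (r - 1) / i := Nat.div_pos (Nat.le_of_dvd (by omega) hi') hi0
  rw [TsElt.allFix_iff hset hP (by omega) hQ (by omega) hcard (by omega), hPcard]
  have hcount := hidx i hi hr2
  simp only [hrp, hr2, h2r, ne_eq, not_false_eq_true, true_and, false_and, false_or]
  rcases Nat.even_or_odd i with hev | hodd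
  · rw [if_pos hev] at hc
    subst c
    rw [TsArith.even_iff hev hi0 ht hm (by omega) hcount]
    simp only [hτ, hev, Nat.not_odd_iff_even.2 hev, Nat.even_iff, Nat.odd_iff, true_and, false_and, false_or,
      iff_true, iff_false, true_iff, false_iff, not_not, and_true, and_false, or_false]
    omega
  · rw [if_neg (Nat.not_even_iff_odd.2 hodd)] at hc
    subst c
    rw [TsArith.odd_iff hodd hm (by omega) hcount]
    simp only [hτ, hodd, Nat.not_even_iff_odd.2 hodd, true_and, false_and, false_or, or_false, not_true_eq_false,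
      not_false_eq_true, and_true, and_false]


end Cfsg.Agent.S5973
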