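import Cfsg.Statements.S5976
import Cfsg.Agent.Lib.Forms.Elusive.SympPieces
import Cfsg.Agent.Lib.Forms.Max.QuadExt
import Cfsg.Agent.Lib.Classical.UnitaryFrames
import Cfsg.Agent.Lib.Classical.Symplectic
import Cfsg.Agent.Lib.Classical.OrthForms
import Cfsg.Agent.S5961

set_option autoImplicit false
open scoped MatrixGroups
open Cfsg

namespace Cfsg.Agent.S5976

open Cfsg.Agent.Forms Cfsg.Agent.Forms.Elusive Cfsg.Agent.Classical Module Matrix
open Cfsg.Agent.Classical.Unitary (natCard_GU)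

variable {F : Type*} [Field F]

local notation "V" d => (Fin d ⊕ Fin d → F)

/-- the linear map of a group element -/
noncomputable def lin {d : ℕ} (g : GL (Fin d ⊕ Fin d) F) : (V d) →ₗ[F] (V d) :=
  Matrix.toLin' (g : Matrix (Fin d ⊕ Fin d) (Fin d ⊕ Fin d) F)

theorem lin_mul {d : ℕ} (g h : GL (Fin d ⊕ Fin d) F) (v : Fin d ⊕ Fin d → F) :
    lin (g * h) v = lin g (lin h v) := by
  simp only [lin, Matrix.toLin'_apply, Units.val_mul, Matrix.mulVec_mulVec]

theorem lin_one {d : ℕ} (v : Fin d ⊕ Fin d → F) : lin (1 : GL (Fin d ⊕ Fin d) F) v = v := by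
  simp [lin]

theorem lin_pow {d : ℕ} (g : GL (Fin d ⊕ Fin d) F) (n : ℕ) : lin (g ^ n) = lin g ^ n := by
  simp only [lin, Units.val_pow_eq_pow_val, Matrix.toLin'_pow]

theorem mem_spGL {d : ℕ} {g : GL (Fin d ⊕ Fin d) F} :
    g ∈ Cfsg.spGL d F ↔ ∀ u v, SympStd.sympB d F (lin g u) (lin g v) = SympStd.sympB d F u v := by
  simp only [lin, Matrix.toLin'_apply, SympStd.sympB_apply]
  exact Iff.rfl

/-- the group element of a symplectic matrix -/
theorem exists_gl {d : ℕ} (x : symplecticGroup (Fin d) F) :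
    ∃ g : GL (Fin d ⊕ Fin d) F, g ∈ Cfsg.spGL d F ∧
      lin g = Matrix.toLin' (x : Matrix (Fin d ⊕ Fin d) (Fin d ⊕ Fin d) F) := by
  refine ⟨⟨_, ((x⁻¹ : symplecticGroup (Fin d) F) : Matrix (Fin d ⊕ Fin d) (Fin d ⊕ Fin d) F), ?_, ?_⟩,
    mem_spGL.2 fun u v => S5961.iso_of_sp x u v, rfl⟩
  · rw [← MulMemClass.coe_mul, mul_inv_cancel, OneMemClass.coe_one]
  · rw [← MulMemClass.coe_mul, inv_mul_cancel, OneMemClass.coe_one]

/-- a skew square root of `δ` -/
def SkewRoot {d : ℕ} (δ : F) (T : (V d) →ₗ[F] (V d)) : Prop :=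
  (∀ v, T (T v) = δ • v) ∧ ∀ u v, SympStd.sympB d F (T u) v = -SympStd.sympB d F u (T v)

theorem SkewRoot.conj {d : ℕ} {δ : F} {T : (V d) →ₗ[F] (V d)} (hT : SkewRoot δ T) {g : GL (Fin d ⊕ Fin d) F}
    (hg : g ∈ Cfsg.spGL d F) : SkewRoot δ (lin g ∘ₗ T ∘ₗ lin g⁻¹) := by
  have hi := mem_spGL.1 hg
  have hcan : ∀ v, lin g⁻¹ (lin g v) = v := fun v => by rw [← lin_mul, inv_mul_cancel, lin_one]
  have hcan' : ∀ v, lin g (lin g⁻¹ v) = v := fun v => by rw [← lin_mul, mul_inv_cancel, lin_one]
  refine ⟨fun v => ?_, fun u v => ?_⟩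
  · simp only [LinearMap.comp_apply, hcan, hT.1, map_smul, hcan']
  · simp only [LinearMap.comp_apply]
    conv_lhs => rw [← hcan' v, hi, hT.2]
    conv_rhs => rw [← hcan' u, hi]

theorem root_inj {d : ℕ} {δ : F} (hδ : δ ≠ 0) {T : (V d) →ₗ[F] (V d)} (hT : SkewRoot δ T) :
    Function.Injective T := fun u v h => by
  have := congrArg T h
  rw [hT.1, hT.1] at this
  exact smul_right_injective _ hδ this

theorem ndTop {d : ℕ} : NdOn (SympStd.sympB d F) (⊤ : Submodule F (V d)) := fun v _ hv => by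
  by_contra hcon
  push Not at hcon
  exact hv (SympStd.sympB_nondegenerate.1 v fun u => hcon u trivial)

theorem family_cons {d k : ℕ} {W : Submodule F (V d)} {e₀ f₀ : Fin d ⊕ Fin d → F} (he₀ : e₀ ∈ W) (hf₀ : f₀ ∈ W)
    (h1 : SympStd.sympB d F e₀ f₀ = 1) (hW : NdOn (SympStd.sympB d F) W)
    {e f : Fin k → (V d)} (h : Bases.IsSympFamily (SympStd.sympB d F)
      (W ⊓ (SympStd.sympB d F).orthogonal (Submodule.span F {e₀, f₀})) e f) :
    Bases.IsSympFamily (SympStd.sympB d F) W (Fin.cons e₀ e) (Fin.cons f₀ f) := by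
  have halt : (SympStd.sympB d F).IsAlt := SympStd.sympB_isAlt
  obtain ⟨-, hPnd, hPW, hsup⟩ := plane_split halt he₀ hf₀ (by rw [h1]; exact one_ne_zero)
  set P := Submodule.span F ({e₀, f₀} : Set (V d))
  have hP1 : e₀ ∈ P := Submodule.subset_span (Set.mem_insert _ _)
  have hP2 : f₀ ∈ P := Submodule.subset_span (Set.mem_insert_of_mem _ rfl)
  have ho : ∀ p ∈ P, ∀ y ∈ W ⊓ (SympStd.sympB d F).orthogonal P, SympStd.sympB d F p y = 0 :=
    fun p hp y hy => (mem_perp.1 hy).2 p hp
  have ho' : ∀ y ∈ W ⊓ (SympStd.sympB d F).orthogonal P, ∀ p ∈ P, SympStd.sympB d F y p = 0 :=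
    fun y hy p hp => by rw [← LinearMap.IsAlt.neg halt p y, ho p hp y hy, neg_zero]
  refine ⟨Fin.cases he₀ fun i => (h.e_mem i).1, Fin.cases hf₀ fun i => (h.f_mem i).1, ?_, ?_, ?_, ?_⟩
  · intro i j
    cases i using Fin.cases with
    | zero =>
      cases j using Fin.cases with
      | zero => simp [h1]
      | succ j => simp [ho _ hP1 _ (h.f_mem j), (Fin.succ_ne_zero j).symm]
    | succ i =>
      cases j using Fin.cases with
      | zero => simp [ho' _ (h.e_mem i) _ hP2, Fin.succ_ne_zero i]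
      | succ j => simp [h.ef]
  · intro i j
    cases i using Fin.cases with
    | zero =>
      cases j using Fin.cases with
      | zero => simp [halt e₀]
      | succ j => simp [ho _ hP1 _ (h.e_mem j)]
    | succ i =>
      cases j using Fin.cases with
      | zero => simp [ho' _ (h.e_mem i) _ hP1]
      | succ j => simp [h.ee]
  · intro i j
    cases i using Fin.cases with
    | zero =>
      cases j using Fin.cases with
      | zero => simp [halt f₀]
      | succ j => simp [ho _ hP2 _ (h.f_mem j)]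
    | succ i =>
      cases j using Fin.cases with
      | zero => simp [ho' _ (h.f_mem i) _ hP2]
      | succ j => simp [h.ff]
  · calc W = P ⊔ (W ⊓ (SympStd.sympB d F).orthogonal P) := hsup.symm
      _ ≤ _ := by
        refine sup_le (Submodule.span_le.2 ?_) (h.span.trans (Submodule.span_mono ?_))
        · rintro y (rfl | rfl)
          · exact Submodule.subset_span ⟨Sum.inl 0, by simp⟩
          · exact Submodule.subset_span ⟨Sum.inr 0, by simp⟩
        · rintro _ ⟨i | i, rfl⟩
          · exact ⟨Sum.inl i.succ, by simp⟩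
          · exact ⟨Sum.inr i.succ, by simp⟩

/-- a normal basis for a skew root -/
theorem exists_lines [Finite F] (h2 : (2 : F) ≠ 0) {d : ℕ} {δ : F} (hδ : ¬ IsSquare δ) {T : (V d) →ₗ[F] (V d)}
    (hT : SkewRoot δ T) :
    ∀ (n : ℕ) (W : Submodule F (V d)), finrank F W = n → W.map T ≤ W → NdOn (SympStd.sympB d F) W →
      ∃ (k : ℕ) (e : Fin k → (V d)), Bases.IsSympFamily (SympStd.sympB d F) W e (T ∘ e) := by
  have hδ0 : δ ≠ 0 := fun e => hδ (e ▸ ⟨0, by simp⟩)
  have halt : (SympStd.sympB d F).IsAlt := SympStd.sympB_isAlt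
  intro n
  induction n using Nat.strong_induction_on with
  | _ n ih =>
    intro W hn hW hnd
    by_cases hne : W = ⊥
    · exact ⟨0, Fin.elim0, ⟨fun i => i.elim0, fun i => i.elim0, fun i => i.elim0, fun i => i.elim0, fun i => i.elim0,
        by rw [hne]; exact bot_le⟩⟩
    obtain ⟨v, hv, hv0⟩ : ∃ v ∈ W, SympStd.sympB d F v (T v) ≠ 0 := by
      by_contra hcon
      push Not at hcon
      obtain ⟨u, hu, hu0⟩ := Submodule.exists_mem_ne_zero_of_ne_bot hne
      obtain ⟨w, hw, huw⟩ := hnd (T u) (hW ⟨u, hu, rfl⟩) fun e => hu0 (root_inj hδ0 hT (by rw [e, map_zero]))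
      have h1 := hcon (u + w) (W.add_mem hu hw)
      simp only [map_add, LinearMap.add_apply, hcon u hu, hcon w hw, zero_add, add_zero] at h1
      have h3 : SympStd.sympB d F u (T w) = -SympStd.sympB d F (T u) w := by rw [hT.2, neg_neg]
      have h4 : SympStd.sympB d F w (T u) = -SympStd.sympB d F (T u) w := (LinearMap.IsAlt.neg halt _ _).symm
      rw [h3, h4] at h1
      exact huw ((mul_eq_zero.1 (show (2 : F) * SympStd.sympB d F (T u) w = 0 by linear_combination -h1)).resolve_left h2)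
    set α := SympStd.sympB d F v (T v) with hα
    obtain ⟨s, t, hst⟩ := Bases.exists_sq_add_sq h2 (one_ne_zero : (1 : F) ≠ 0) (neg_ne_zero.2 hδ0) α⁻¹
    set e := s • v + t • T v with he
    have heW : e ∈ W := W.add_mem (W.smul_mem _ hv) (W.smul_mem _ (hW ⟨v, hv, rfl⟩))
    have hTe : T e = (t * δ) • v + s • T v := by rw [he, map_add, map_smul, map_smul, hT.1, smul_smul, add_comm]
    clear_value e
    have h1 : SympStd.sympB d F e (T e) = 1 := by
      rw [hTe, he]
      simp only [map_add, map_smul, LinearMap.add_apply, LinearMap.smul_apply, smul_eq_mul, halt v, halt (T v),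
        ← LinearMap.IsAlt.neg halt v (T v), ← hα]
      linear_combination α * hst + (mul_inv_cancel₀ hv0)
    obtain ⟨hP2, hPnd, hPW, hsup⟩ := plane_split halt heW (hW ⟨e, heW, rfl⟩) (by rw [h1]; exact one_ne_zero)
    obtain ⟨-, -, hsum, hRnd, -⟩ := Pieces.nd_split halt hnd hPnd hPW
    set R := W ⊓ (SympStd.sympB d F).orthogonal (Submodule.span F ({e, T e} : Set (V d))) with hR
    have hPT : ∀ p ∈ Submodule.span F ({e, T e} : Set (V d)), T p ∈ Submodule.span F ({e, T e} : Set (V d)) := by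
      intro p hp
      obtain ⟨a, b, rfl⟩ := Submodule.mem_span_pair.1 hp
      rw [map_add, map_smul, map_smul, hT.1]
      exact Submodule.mem_span_pair.2 ⟨b * δ, a, by rw [← smul_smul]; abel⟩
    have hRT : R.map T ≤ R := by
      rintro _ ⟨y, hy, rfl⟩
      refine mem_perp.2 ⟨hW ⟨y, hy.1, rfl⟩, fun p hp => ?_⟩
      have h5 := hT.2 p y
      rw [(mem_perp.1 hy).2 _ (hPT p hp)] at h5
      exact neg_eq_zero.1 h5.symm
    obtain ⟨k, e', he'⟩ := ih _ (by omega) R rfl hRT hRnd
    refine ⟨k + 1, Fin.cons e e', ?_⟩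
    rw [Fin.comp_cons]
    exact family_cons heW (hW ⟨e, heW, rfl⟩) h1 hnd he'

theorem basis_of_family {d k : ℕ} {e f : Fin k → (V d)}
    (h : Bases.IsSympFamily (SympStd.sympB d F) ⊤ e f) : k = d ∧ ∃ b : Basis (Fin k ⊕ Fin k) F (V d), ⇑b = Sum.elim e f := by
  refine ⟨?_, Basis.mk h.linearIndependent h.span, Basis.coe_mk _ _⟩
  have := h.finrank_eq
  rw [finrank_top, SympStd.finrank_vec] at this
  omega

theorem exists_normal [Finite F] (h2 : (2 : F) ≠ 0) {d : ℕ} {δ : F} (hδ : ¬ IsSquare δ) {T : (V d) →ₗ[F] (V d)}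
    (hT : SkewRoot δ T) :
    ∃ e : Fin d → (V d), Bases.IsSympFamily (SympStd.sympB d F) ⊤ e (T ∘ e) := by
  obtain ⟨k, e, he⟩ := exists_lines h2 hδ hT _ ⊤ rfl le_top ndTop
  obtain ⟨rfl, -⟩ := basis_of_family he
  exact ⟨e, he⟩

theorem exists_conj_root [Finite F] (h2 : (2 : F) ≠ 0) {d : ℕ} {δ : F} (hδ : ¬ IsSquare δ)
    {T T' : (V d) →ₗ[F] (V d)} (hT : SkewRoot δ T) (hT' : SkewRoot δ T') :
    ∃ g ∈ Cfsg.spGL d F, ∀ v, lin g (T v) = T' (lin g v) := by
  obtain ⟨e, he⟩ := exists_normal h2 hδ hT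
  obtain ⟨e', he'⟩ := exists_normal h2 hδ hT'
  obtain ⟨-, b, hb⟩ := basis_of_family he
  obtain ⟨-, b', hb'⟩ := basis_of_family he'
  let E := b.equiv b' (Equiv.refl _)
  have hE : ∀ z, E (b z) = b' z := fun z => by simp [E, Basis.equiv_apply]
  have halt : (SympStd.sympB d F).IsAlt := SympStd.sympB_isAlt
  have hgram : ∀ x y, SympStd.sympB d F (Sum.elim e' (T' ∘ e') x) (Sum.elim e' (T' ∘ e') y) =
      SympStd.sympB d F (Sum.elim e (T ∘ e) x) (Sum.elim e (T ∘ e) y) := by
    rintro (x | x) (y | y) <;> simp only [Sum.elim_inl, Sum.elim_inr]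
    · rw [he'.ee, he.ee]
    · rw [he'.ef, he.ef]
    · rw [← LinearMap.IsAlt.neg halt (e' y), he'.ef, ← LinearMap.IsAlt.neg halt (e y), he.ef]
    · rw [he'.ff, he.ff]
  have hiso : ∀ u v, SympStd.sympB d F (E u) (E v) = SympStd.sympB d F u v := by
    have h : (SympStd.sympB d F).compl₁₂ (E : (V d) →ₗ[F] (V d)) (E : (V d) →ₗ[F] (V d)) = SympStd.sympB d F := by
      refine LinearMap.ext_basis b b fun x y => ?_
      rw [LinearMap.compl₁₂_apply, LinearEquiv.coe_coe, hE, hE, hb, hb']
      exact hgram x y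
    exact fun u v => LinearMap.congr_fun₂ h u v
  obtain ⟨g, hg, hgl⟩ := exists_gl (SympStd.ofEquiv E fun u v => by
    rw [← SympStd.sympB_apply, ← SympStd.sympB_apply, hiso])
  have hgv : ∀ v, lin g v = E v := fun v => by rw [hgl, Matrix.toLin'_apply, SympStd.ofEquiv_mulVec]
  refine ⟨g, hg, fun v => ?_⟩
  have hcomm : (E : (V d) →ₗ[F] (V d)) ∘ₗ T = T' ∘ₗ (E : (V d) →ₗ[F] (V d)) := by
    refine b.ext fun z => ?_
    simp only [LinearMap.comp_apply, LinearEquiv.coe_coe, hE, hb']
    rcases z with z | z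
    · rw [hb, Sum.elim_inl, Sum.elim_inl, show T (e z) = b (Sum.inr z) by rw [hb]; rfl, hE, hb']
      rfl
    · rw [hb, Sum.elim_inr, Sum.elim_inr, Function.comp_apply, Function.comp_apply, hT.1, hT'.1, map_smul,
        show e z = b (Sum.inl z) by rw [hb]; rfl, hE, hb']
      rfl
  rw [hgv, hgv]
  exact LinearMap.congr_fun hcomm v

/-- one plane of a root related to an involution -/
def Ok {d : ℕ} (δ ε : F) (x : (V d) →ₗ[F] (V d)) (e f : Fin d ⊕ Fin d → F) : Prop :=
  ∃ A B C p q r s : F, A * A + B * C = δ ∧ x e = p • e + q • f ∧ x f = r • e + s • f ∧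
    p * A + r * B = ε * (A * p + C * q) ∧ q * A + s * B = ε * (B * p - A * q) ∧
    p * C - r * A = ε * (A * r + C * s) ∧ q * C - s * A = ε * (B * r - A * s)

theorem exists_planes [Finite F] (h2 : (2 : F) ≠ 0) {d : ℕ} (δ : F) {x : (V d) →ₗ[F] (V d)}
    (hiso : ∀ u v, SympStd.sympB d F (x u) (x v) = SympStd.sympB d F u v) {z : F} (hz : z = 1 ∨ z = -1)
    (hx : ∀ v, x (x v) = z • v) :
    ∀ (n : ℕ) (W : Submodule F (V d)), finrank F W = n → W.map x ≤ W → NdOn (SympStd.sympB d F) W →
      ∃ (k : ℕ) (e f : Fin k → (V d)), Bases.IsSympFamily (SympStd.sympB d F) W e f ∧ ∀ i, Ok δ z x (e i) (f i) := by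
  have halt : (SympStd.sympB d F).IsAlt := SympStd.sympB_isAlt
  have hinj : Function.Injective x := fun u v e => by
    have := congrArg x e
    rw [hx, hx] at this
    rcases hz with rfl | rfl
    · simpa using this
    · simpa using this
  intro n
  induction n using Nat.strong_induction_on with
  | _ n ih =>
    intro W hn hW hnd
    by_cases hne : W = ⊥
    · exact ⟨0, Fin.elim0, Fin.elim0, ⟨fun i => i.elim0, fun i => i.elim0, fun i => i.elim0, fun i => i.elim0,
        fun i => i.elim0, by rw [hne]; exact bot_le⟩, fun i => i.elim0⟩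
    obtain ⟨e, f, he, hf, hef, hok⟩ : ∃ e f, e ∈ W ∧ f ∈ W ∧ SympStd.sympB d F e f = 1 ∧ Ok δ z x e f := by
      obtain ⟨v, hv, hv0⟩ := Submodule.exists_mem_ne_zero_of_ne_bot hne
      rcases hz with rfl | rfl
      · simp only [one_smul] at hx
        have heig : ∀ c : F, c * c = 1 → ∀ u ∈ W, u ≠ 0 → x u = c • u →
            ∃ e f, e ∈ W ∧ f ∈ W ∧ SympStd.sympB d F e f = 1 ∧ Ok δ 1 x e f := by
          intro c hc u hu hu0 hxu
          obtain ⟨w, hw, huw⟩ := hnd u hu hu0
          set w' := w + c • x w with hw'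
          have hw'W : w' ∈ W := W.add_mem hw (W.smul_mem _ (hW ⟨w, hw, rfl⟩))
          have h1 : SympStd.sympB d F u w' ≠ 0 := by
            have h1 : SympStd.sympB d F u (x w) = c * SympStd.sympB d F u w := by
              rw [← hiso u (x w), hxu, hx, map_smul, LinearMap.smul_apply, smul_eq_mul]
            rw [hw', map_add, map_smul, smul_eq_mul, h1, ← mul_assoc, hc, one_mul, ← two_mul]
            exact mul_ne_zero h2 huw
          refine ⟨u, (SympStd.sympB d F u w')⁻¹ • w', hu, W.smul_mem _ hw'W,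
            by rw [map_smul, smul_eq_mul, inv_mul_cancel₀ h1], 0, 1, δ, c, 0, 0, c, by ring, by simp [hxu], ?_,
            by ring, by ring, by ring, by ring⟩
          simp only [map_smul, hw', map_add, hx, one_smul, zero_smul, zero_add]
          match_scalars <;> grind
        by_cases hp : v + x v = 0
        · refine heig (-1) (by ring) v hv hv0 ?_
          rw [neg_one_smul]; exact eq_neg_of_add_eq_zero_right hp
        · exact heig 1 (by ring) (v + x v) (W.add_mem hv (hW ⟨v, hv, rfl⟩)) hp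
            (by rw [map_add, hx, one_smul, add_comm])
      · obtain ⟨w, hw, hww⟩ : ∃ w ∈ W, SympStd.sympB d F w (x w) ≠ 0 := by
          by_contra hcon
          push Not at hcon
          obtain ⟨u, hu, huv⟩ := hnd (x v) (hW ⟨v, hv, rfl⟩) (fun e => hv0 (hinj (by rw [e, map_zero])))
          have h1 : SympStd.sympB d F v (x u) = SympStd.sympB d F u (x v) := by
            rw [← hiso u (x v), hx, neg_one_smul, map_neg, ← LinearMap.IsAlt.neg halt (x u) v]
          have h0 := hcon (u + v) (W.add_mem hu hv)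
          simp only [map_add, LinearMap.add_apply, hcon u hu, hcon v hv, zero_add, add_zero, h1] at h0
          refine huv ?_
          rw [← LinearMap.IsAlt.neg halt u (x v)]
          rw [(mul_eq_zero.1 (show (2 : F) * SympStd.sympB d F u (x v) = 0 by linear_combination h0)).resolve_left h2,
            neg_zero]
        set c := SympStd.sympB d F w (x w) with hc
        obtain ⟨a, b, hab⟩ := Bases.exists_sq_add_sq h2 (one_ne_zero : (1 : F) ≠ 0) (one_ne_zero : (1 : F) ≠ 0) δ
        refine ⟨w, c⁻¹ • x w, hw, W.smul_mem _ (hW ⟨w, hw, rfl⟩),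
          by rw [map_smul, smul_eq_mul, ← hc, inv_mul_cancel₀ hww], a, b * c, b / c, 0, c, -c⁻¹, 0, ?_, ?_, ?_, ?_, ?_,
          ?_, ?_⟩
        · field_simp
          linear_combination hab
        · rw [zero_smul, zero_add, smul_smul, mul_inv_cancel₀ hww, one_smul]
        · rw [map_smul, hx, smul_smul, zero_smul, add_zero, mul_neg_one]
        all_goals field_simp
        all_goals ring
    obtain ⟨-, hPnd, hPW, -⟩ := plane_split halt he hf (by rw [hef]; exact one_ne_zero)
    obtain ⟨hP2, -⟩ := plane_split halt he hf (by rw [hef]; exact one_ne_zero)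
    obtain ⟨-, -, hsum, hRnd, -⟩ := Pieces.nd_split halt hnd hPnd hPW
    have hPx : (Submodule.span F ({e, f} : Set (V d))).map x ≤ Submodule.span F ({e, f} : Set (V d)) := by
      obtain ⟨A, B, C, p, q, r, s, -, hxe, hxf, -⟩ := hok
      rw [Submodule.map_span, Submodule.span_le]
      rintro _ ⟨y, rfl | rfl, rfl⟩
      · exact Submodule.mem_span_pair.2 ⟨p, q, hxe.symm⟩
      · exact Submodule.mem_span_pair.2 ⟨r, s, hxf.symm⟩
    obtain ⟨k, e', f', hfam, hok'⟩ := ih _ (by omega) _ rfl (Pieces.perp_inv' hiso hinj hW hPx) hRnd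
    exact ⟨k + 1, Fin.cons e e', Fin.cons f f', family_cons he hf hef hnd hfam,
      Fin.cases (by simpa using hok) fun i => by simpa using hok' i⟩

/-- roots commuting or anticommuting with an involution -/
theorem exists_root [Finite F] (h2 : (2 : F) ≠ 0) {d : ℕ} (δ : F) {x : (V d) →ₗ[F] (V d)}
    (hiso : ∀ u v, SympStd.sympB d F (x u) (x v) = SympStd.sympB d F u v) {z : F} (hz : z = 1 ∨ z = -1)
    (hx : ∀ v, x (x v) = z • v) : ∃ T, SkewRoot δ T ∧ ∀ v, x (T v) = z • T (x v) := by
  obtain ⟨k, e, f, hfam, hok⟩ := exists_planes h2 δ hiso hz hx _ ⊤ rfl le_top ndTop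
  obtain ⟨-, b, hb⟩ := basis_of_family hfam
  choose A B C p q r s hA hxe hxf h11 h21 h12 h22 using hok
  let T : (V d) →ₗ[F] (V d) := b.constr F (Sum.elim (fun i => A i • e i + B i • f i) fun i => C i • e i - A i • f i)
  have hTe : ∀ i, T (e i) = A i • e i + B i • f i := fun i => by
    rw [show e i = b (Sum.inl i) by rw [hb]; rfl, Basis.constr_basis, Sum.elim_inl]
    simp [hb]
  have hTf : ∀ i, T (f i) = C i • e i - A i • f i := fun i => by
    rw [show f i = b (Sum.inr i) by rw [hb]; rfl, Basis.constr_basis, Sum.elim_inr]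
    simp [hb]
  have halt : (SympStd.sympB d F).IsAlt := SympStd.sympB_isAlt
  have hfe : ∀ i j, SympStd.sympB d F (f i) (e j) = if j = i then -1 else 0 := fun i j => by
    rw [← LinearMap.IsAlt.neg halt (e j), hfam.ef]; split_ifs <;> simp
  refine ⟨T, ⟨fun v => ?_, fun u v => ?_⟩, fun v => ?_⟩
  · refine LinearMap.congr_fun (show T ∘ₗ T = δ • LinearMap.id from b.ext fun i => ?_) v
    rcases i with i | i
    · simp only [hb, Sum.elim_inl, LinearMap.comp_apply, LinearMap.smul_apply, LinearMap.id_apply, hTe, map_add,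
        map_smul, hTf, ← hA i]
      module
    · simp only [hb, Sum.elim_inr, LinearMap.comp_apply, LinearMap.smul_apply, LinearMap.id_apply, hTf, map_sub,
        map_smul, hTe, ← hA i]
      module
  · refine LinearMap.congr_fun₂ (show (SympStd.sympB d F) ∘ₗ T = -((SympStd.sympB d F).compl₂ T) from
      LinearMap.ext_basis b b fun i j => ?_) u v
    rcases i with i | i <;> rcases j with j | j <;>
      simp only [hb, Sum.elim_inl, Sum.elim_inr, LinearMap.comp_apply, LinearMap.neg_apply, LinearMap.compl₂_apply,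
        hTe, hTf, map_add, map_sub, map_smul, LinearMap.add_apply, LinearMap.sub_apply, LinearMap.smul_apply,
        smul_eq_mul, hfam.ee, hfam.ff, hfam.ef, hfe] <;>
      by_cases hij : i = j
    all_goals first
      | (subst hij; simp)
      | simp [hij, Ne.symm hij]
  · refine LinearMap.congr_fun (show x ∘ₗ T = z • (T ∘ₗ x) from b.ext fun i => ?_) v
    rcases i with i | i
    · simp only [hb, Sum.elim_inl, LinearMap.comp_apply, LinearMap.smul_apply, hTe, hxe, map_add, map_smul, hTf, hxf]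
      match_scalars
      · linear_combination h11 i
      · linear_combination h21 i
    · simp only [hb, Sum.elim_inr, LinearMap.comp_apply, LinearMap.smul_apply, hTf, hxf, map_add, map_sub, map_smul,
        hTe, hxe]
      match_scalars
      · linear_combination h12 i
      · linear_combination h22 i

/-! ### obstructions -/

/-- transvections do not commute with roots -/
theorem no_root_tv {d : ℕ} {δ : F} (hδ : ¬ IsSquare δ) {T : (V d) →ₗ[F] (V d)} (hT : SkewRoot δ T)
    (u : Fin d ⊕ Fin d → F) (hu : u ≠ 0)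
    (hcomm : ∀ v, T (v + SympStd.sympB d F v u • u) = T v + SympStd.sympB d F (T v) u • u) : False := by
  obtain ⟨v, hv⟩ : ∃ v, SympStd.sympB d F v u ≠ 0 := by
    by_contra hcon
    push Not at hcon
    exact hu (SympStd.sympB_nondegenerate.2 u hcon)
  have h := hcomm v
  rw [map_add, map_smul, add_right_inj] at h
  have hl : T u = ((SympStd.sympB d F v u)⁻¹ * SympStd.sympB d F (T v) u) • u := by
    rw [← smul_smul, ← h, smul_smul, inv_mul_cancel₀ hv, one_smul]
  set l := (SympStd.sympB d F v u)⁻¹ * SympStd.sympB d F (T v) u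
  have h1 := hT.1 u
  rw [hl, map_smul, hl, smul_smul] at h1
  exact hδ ⟨l, (smul_left_injective F hu h1).symm⟩

variable [Fintype F]

theorem aeval_comm {d : ℕ} {T g : (V d) →ₗ[F] (V d)} (h : ∀ v, T (g v) = g (T v)) (P : Polynomial F)
    (v : Fin d ⊕ Fin d → F) : T (Polynomial.aeval g P v) = Polynomial.aeval g P (T v) := by
  have hc : Commute T g := LinearMap.ext h
  have h' : T ∘ₗ Polynomial.aeval g P = Polynomial.aeval g P ∘ₗ T := by
    induction P using Polynomial.induction_on' with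
    | add P Q hP hQ => rw [map_add, LinearMap.comp_add, LinearMap.add_comp, hP, hQ]
    | monomial n a =>
      rw [Polynomial.aeval_monomial]
      exact ((Algebra.commute_algebraMap_right a T).mul_right (hc.pow_right n))
  exact LinearMap.congr_fun h' v

/-- an irreducible self-dual piece of dimension divisible by four -/
theorem no_root_four (h2 : (2 : F) ≠ 0) {d r i h : ℕ} [hr : Fact r.Prime] (hr0 : (r : F) ≠ 0) {δ : F} (hδ0 : δ ≠ 0)
    (hi : i = orderOf ((Fintype.card F : ℕ) : ZMod r)) (hih : i = 2 * h) (hh : Even h) (hh0 : 0 < h)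
    {g T : (V d) →ₗ[F] (V d)} (hg : g ^ r = 1)
    (hiso : ∀ u v, SympStd.sympB d F (g u) (g v) = SympStd.sympB d F u v) (hT : SkewRoot δ T)
    (hcomm : ∀ v, T (g v) = g (T v)) {D : Submodule F (V d)} (hDi : D.map g ≤ D) (hDT : D.map T ≤ D)
    (hDnd : NdOn (SympStd.sympB d F) D) (hfree : ∀ v ∈ D, g v = v → v = 0) (hDd : finrank F D = i) : False := by
  have halt : (SympStd.sympB d F).IsAlt := SympStd.sympB_isAlt
  obtain ⟨v, hv, hv0⟩ := Submodule.exists_mem_ne_zero_of_ne_bot (p := D) fun e => by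
    rw [e, finrank_bot] at hDd; omega
  let φ : Polynomial F →ₗ[F] (V d) :=
    { toFun := fun P => Polynomial.aeval g P v
      map_add' := fun P Q => by rw [map_add, LinearMap.add_apply]
      map_smul' := fun c P => by rw [map_smul, LinearMap.smul_apply]; rfl }
  have hSD : LinearMap.range φ ≤ D := by
    rintro _ ⟨P, rfl⟩; exact aeval_mem hDi P hv
  have hSi : (LinearMap.range φ).map g ≤ LinearMap.range φ := by
    rintro _ ⟨_, ⟨P, rfl⟩, rfl⟩
    exact ⟨Polynomial.X * P, by show Polynomial.aeval g (Polynomial.X * P) v = g (Polynomial.aeval g P v); simp⟩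
  have hne : finrank F (LinearMap.range φ) ≠ 0 := fun e => hv0 (by
    have h1 : φ 1 ∈ LinearMap.range φ := ⟨1, rfl⟩
    rw [Submodule.finrank_eq_zero.1 e, Submodule.mem_bot] at h1
    simpa [φ] using h1)
  have hdvd := (homog_of_free hr0 hDi (fun w _ => by rw [hg]; rfl) hfree).dvd _ hSi hSD
  rw [← hi] at hdvd
  have heq : LinearMap.range φ = D := Submodule.eq_of_le_of_finrank_le hSD
    (hDd ▸ Nat.le_of_dvd (Nat.pos_of_ne_zero hne) hdvd)
  obtain ⟨P, hP⟩ : T v ∈ LinearMap.range φ := heq ▸ hDT ⟨v, hv, rfl⟩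
  have hP' : ∀ w ∈ D, T w = Polynomial.aeval g P w := by
    intro w hw
    rw [← heq] at hw
    obtain ⟨Q, rfl⟩ := hw
    show T (Polynomial.aeval g Q v) = Polynomial.aeval g P (Polynomial.aeval g Q v)
    rw [aeval_comm hcomm, ← hP]
    show Polynomial.aeval g Q (Polynomial.aeval g P v) = _
    rw [← Module.End.mul_apply, ← map_mul, mul_comm, map_mul, Module.End.mul_apply]
  have hPn : ∀ (n : ℕ), ∀ w ∈ D, (T ^ n) w ∈ D ∧ (Polynomial.aeval g P ^ n) w = (T ^ n) w := by
    intro n
    induction n with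
    | zero => intro w hw; simp [hw]
    | succ n ih =>
      intro w hw
      obtain ⟨a, b⟩ := ih w hw
      simp only [pow_succ', Module.End.mul_apply, b]
      exact ⟨hDT ⟨_, a, rfl⟩, (hP' _ a).symm⟩
  -- the Frobenius power
  set N := Fintype.card F ^ h with hN
  have hqh : ((Fintype.card F : ℕ) : ZMod r) ^ h = -1 := by
    have h3 : ((((Fintype.card F : ℕ) : ZMod r)) ^ h) ^ 2 = 1 := by
      rw [← pow_mul, mul_comm, ← hih, hi, pow_orderOf_eq_one]
    refine (sq_eq_one_iff.1 h3).resolve_left fun h4 => ?_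
    have h5 := Nat.le_of_dvd hh0 (orderOf_dvd_of_pow_eq_one h4)
    omega
  obtain ⟨m, hm, hδm⟩ : ∃ m, N = 2 * m + 1 ∧ δ ^ m = 1 := by
    obtain ⟨t, ht⟩ := hh
    have hq1 : 1 ≤ Fintype.card F := Fintype.card_pos
    have hodd : Odd (Fintype.card F) := by
      rw [Nat.odd_iff]; exact FiniteField.odd_card_of_char_ne_two fun e => h2 (by
        have := CharP.cast_eq_zero F (ringChar F); rw [e] at this; exact_mod_cast this)
    obtain ⟨a, ha⟩ := hodd
    have h4 : Fintype.card F ^ 2 - 1 ∣ N - 1 := by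
      rw [hN, show h = 2 * t by omega, pow_mul]
      simpa using Nat.sub_dvd_pow_sub_pow (Fintype.card F ^ 2) 1 t
    obtain ⟨u, hu⟩ := h4
    have hN1 : 1 ≤ N := hN ▸ Nat.one_le_pow _ _ hq1
    refine ⟨(Fintype.card F - 1) * (a + 1) * u, ?_, ?_⟩
    · have h5 : Fintype.card F ^ 2 - 1 = 2 * ((Fintype.card F - 1) * (a + 1)) := by
        rw [ha, Nat.add_sub_cancel]
        have : (2 * a + 1) ^ 2 = 2 * (2 * a * (a + 1)) + 1 := by ring
        omega
      rw [h5, mul_assoc] at hu
      omega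
    · rw [mul_assoc, pow_mul, FiniteField.pow_card_sub_one_eq_one δ hδ0, one_pow]
  have hTN : ∀ w, (T ^ N) w = T w := by
    intro w
    have hsq : ∀ n, (T ^ (2 * n)) = δ ^ n • (1 : (V d) →ₗ[F] (V d)) := fun n => by
      induction n with
      | zero => simp
      | succ n ih =>
        refine LinearMap.ext fun y => ?_
        rw [mul_add, pow_add, ih, mul_one, sq, Module.End.mul_apply, Module.End.mul_apply, hT.1, pow_succ]
        simp [smul_smul, mul_comm]
    rw [hm, pow_succ, hsq, hδm, one_smul, one_mul]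
  have hgN : g ^ (r - 1) = g ^ N := Pieces.pow_eq_of_modEq hg (by
    rw [hN, Nat.cast_sub hr.out.one_lt.le, ZMod.natCast_self, Nat.cast_pow, hqh]; simp)
  have hsym : ∀ u ∈ D, ∀ w ∈ D, SympStd.sympB d F w (T u) = SympStd.sympB d F (T w) u := by
    intro u hu w hw
    rw [hP' u hu, Pieces.adjoint_aeval hiso hr.out.pos hg, hgN, hN, Pieces.aeval_pow_card, ← hN,
      (hPn N w hw).2, hTN]
  have hzero : ∀ u ∈ D, ∀ w ∈ D, SympStd.sympB d F w (T u) = 0 := by
    intro u hu w hw
    have h1 := hsym u hu w hw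
    rw [hT.2] at h1
    exact (mul_eq_zero.1 (show (2 : F) * SympStd.sympB d F w (T u) = 0 by linear_combination h1)).resolve_left h2
  obtain ⟨y, hy, hne'⟩ := hDnd (T v) (hDT ⟨v, hv, rfl⟩) fun e => hv0 (root_inj hδ0 hT (by rw [e, map_zero]))
  exact hne' (by rw [← LinearMap.IsAlt.neg halt y, hzero v hv y hy, neg_zero])

/-- a piece of twice odd dimension -/
theorem no_root_odd (h2 : (2 : F) ≠ 0) {d r i : ℕ} [hr : Fact r.Prime] (hr2 : r ≠ 2) (hr0 : (r : F) ≠ 0) {δ : F}
    (hδ : ¬ IsSquare δ) (hi : i = orderOf ((Fintype.card F : ℕ) : ZMod r)) (hio : Odd i)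
    {g T : (V d) →ₗ[F] (V d)} (hg : g ^ r = 1)
    (hiso : ∀ u v, SympStd.sympB d F (g u) (g v) = SympStd.sympB d F u v) (hT : SkewRoot δ T)
    (hcomm : ∀ v, T (g v) = g (T v)) {D : Submodule F (V d)} (hDi : D.map g ≤ D) (hDT : D.map T ≤ D)
    (hDnd : NdOn (SympStd.sympB d F) D) (hfree : ∀ v ∈ D, g v = v → v = 0) (hDd : finrank F D = 2 * i) : False := by
  have hδ0 : δ ≠ 0 := fun e => hδ (e ▸ ⟨0, by simp⟩)
  have halt : (SympStd.sympB d F).IsAlt := SympStd.sympB_isAlt
  have hom := homog_of_free hr0 hDi (fun w _ => by rw [hg]; rfl) hfree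
  rw [← hi] at hom
  obtain ⟨L, hLi, hLD, hLd⟩ := hom.exists_sub 1 (by omega)
  rw [one_mul] at hLd
  have hi0 : 0 < i := hio.pos
  have hinj : Function.Injective g := fun u v e => by
    have := congrArg (g ^ (r - 1)) e
    rwa [← Module.End.mul_apply, ← Module.End.mul_apply, ← pow_succ, Nat.sub_add_cancel hr.out.one_lt.le, hg] at this
  have hfreeL : ∀ v ∈ L, g v = v → v = 0 := fun v hv => hfree v (hLD hv)
  -- `L` is isotropic
  have hRad : (L ⊓ (SympStd.sympB d F).orthogonal L).map g ≤ L ⊓ (SympStd.sympB d F).orthogonal L :=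
    Pieces.perp_inv' hiso hinj hLi hLi
  have hiso' : ∀ a ∈ L, ∀ b ∈ L, SympStd.sympB d F a b = 0 := by
    have hd' := hom.dvd _ hRad (inf_le_left.trans hLD)
    rcases Nat.eq_zero_or_pos (finrank F ↥(L ⊓ (SympStd.sympB d F).orthogonal L)) with h0 | hpos
    · exfalso
      have hLnd : NdOn (SympStd.sympB d F) L := fun y hy hy0 => by
        by_contra hcon
        push Not at hcon
        have : y ∈ L ⊓ (SympStd.sympB d F).orthogonal L := mem_perp.2 ⟨hy, fun p hp => by
          rw [← LinearMap.IsAlt.neg halt y p, hcon p hp, neg_zero]⟩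
        rw [Submodule.finrank_eq_zero.1 h0, Submodule.mem_bot] at this
        exact hy0 this
      have h3 := Pieces.dvd_finrank halt hiso hinj (show 0 < 2 * i by omega)
        (Pieces.hasPiece_free halt hiso hr2 hr0 hg hfreeL hi (c := 2 * i)
          (by rw [if_neg (Nat.not_even_iff_odd.2 hio)])) hLnd hLi
      rw [hLd] at h3
      have := Nat.le_of_dvd hi0 h3
      omega
    · have he : L ⊓ (SympStd.sympB d F).orthogonal L = L := Submodule.eq_of_le_of_finrank_le inf_le_left
        (hLd ▸ Nat.le_of_dvd hpos hd')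
      intro a ha b hb
      exact (mem_perp.1 (he.symm ▸ hb : b ∈ L ⊓ (SympStd.sympB d F).orthogonal L)).2 a ha
  -- the image of `L`
  have hTL : (L ⊓ L.map T).map g ≤ L ⊓ L.map T := by
    refine inv_inf hLi ?_
    rintro _ ⟨_, ⟨y, hy, rfl⟩, rfl⟩
    exact ⟨g y, hLi ⟨y, hy, rfl⟩, hcomm y⟩
  have hTdim : finrank F (L.map T) = i :=
    ((Submodule.equivMapOfInjective T (root_inj hδ0 hT) L).finrank_eq.symm.trans hLd)
  rcases Nat.eq_zero_or_pos (finrank F ↥(L ⊓ L.map T)) with h0 | hpos
  · have hsup : L ⊔ L.map T = D := by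
      refine Submodule.eq_of_le_of_finrank_le (sup_le hLD ((Submodule.map_mono hLD).trans hDT)) ?_
      have := Submodule.finrank_sup_add_finrank_inf_eq L (L.map T)
      omega
    let β : (V d) → (V d) → F := fun u w => SympStd.sympB d F u (T w)
    have hβs : ∀ u w, β w u = β u w := fun u w => by
      show SympStd.sympB d F w (T u) = SympStd.sympB d F u (T w)
      rw [← LinearMap.IsAlt.neg halt (T u) w, hT.2, neg_neg]
    have hβg : ∀ u w, β (g u) (g w) = β u w := fun u w => by
      show SympStd.sympB d F (g u) (T (g w)) = SympStd.sympB d F u (T w)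
      rw [hcomm, hiso]
    have hgg : ∀ w, g ((g ^ (r - 1)) w) = w := fun w => by
      rw [← Module.End.mul_apply, ← pow_succ', Nat.sub_add_cancel hr.out.one_lt.le, hg]; rfl
    have hgg' : ∀ w, (g ^ (r - 1)) (g w) = w := fun w => by
      rw [← Module.End.mul_apply, ← pow_succ, Nat.sub_add_cancel hr.out.one_lt.le, hg]; rfl
    set g' := g ^ (r - 1)
    have hg'L : ∀ y ∈ L, g' y ∈ L := fun y hy => by
      obtain ⟨z, hz, hzy⟩ := (Pieces.map_eq_of_inv hinj hLi).symm ▸ hy
      rw [← hzy, hgg']; exact hz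
    have hmove : ∀ u w, β u (g' w) = β (g u) w := fun u w => by rw [← hβg u (g' w), hgg]
    let γ : LinearMap.BilinForm F L := LinearMap.compl₁₂ (SympStd.sympB d F) L.subtype (T ∘ₗ (g - g') ∘ₗ L.subtype)
    have hγ : ∀ a b : L, γ a b = β a (g b) - β a (g' b) := fun a b => by simp [γ, β]
    have hγalt : γ.IsAlt := fun a => by
      rw [hγ, hmove, hβs (a : V d) (g (a : V d)), sub_self]
    have hsep : ∀ b : L, (∀ a : L, γ a b = 0) → b = 0 := by
      intro b hb
      set y := g (b : V d) - g' (b : V d) with hy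
      have hyL : y ∈ L := L.sub_mem (hLi ⟨_, b.2, rfl⟩) (hg'L _ b.2)
      have hTy : T y = 0 := by
        by_contra hne
        have hTyD : T y ∈ D := hDT ⟨y, hLD hyL, rfl⟩
        obtain ⟨w, hw, hw0⟩ := hDnd _ hTyD hne
        rw [← hsup] at hw
        obtain ⟨a, ha, _, ⟨c, hc, rfl⟩, rfl⟩ := Submodule.mem_sup.1 hw
        refine hw0 ?_
        have h1 : SympStd.sympB d F (T y) a = 0 := by
          have := hb ⟨a, ha⟩
          rw [hγ] at this
          rw [← LinearMap.IsAlt.neg halt a (T y), neg_eq_zero, hy, map_sub, map_sub]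
          exact this
        rw [map_add, h1, zero_add, hT.2, hT.1, map_smul, smul_eq_mul, hiso' y hyL c hc, mul_zero, neg_zero]
      have hy0 : y = 0 := root_inj hδ0 hT (by rw [hTy, map_zero])
      have h2' : g (g (b : V d)) = b := by rw [sub_eq_zero.1 hy0, hgg]
      refine Subtype.ext (hfreeL _ b.2 ?_)
      have hpow : ∀ n, (g ^ (2 * n)) (b : V d) = b := fun n => by
        induction n with
        | zero => simp
        | succ n ih => rw [mul_add, mul_one, pow_add, Module.End.mul_apply, sq, Module.End.mul_apply, h2', ih]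
      obtain ⟨n, hn⟩ := hr.out.odd_of_ne_two hr2
      have h3 : (g ^ (2 * n + 1)) (b : V d) = b := by rw [← hn, hg]; rfl
      rwa [pow_succ', Module.End.mul_apply, hpow] at h3
    obtain ⟨e, he⟩ := Bases.even_finrank_of_alt γ hγalt
      ⟨fun a ha => hsep a fun b => by rw [← LinearMap.IsAlt.neg hγalt, ha b, neg_zero], hsep⟩
    rw [hLd] at he
    exact Nat.not_even_iff_odd.2 hio ⟨e, by omega⟩
  · have hd' := hom.dvd _ hTL (inf_le_left.trans hLD)
    have he : L ⊓ L.map T = L := Submodule.eq_of_le_of_finrank_le inf_le_left (hLd ▸ Nat.le_of_dvd hpos hd')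
    have hle : L ≤ L.map T := fun y hy => (he.symm ▸ hy : y ∈ L ⊓ L.map T).2
    have hLT : L.map T = L := (Submodule.eq_of_le_of_finrank_le hle (by omega)).symm
    -- a root on an odd dimensional space
    let TL : L →ₗ[F] L := T.restrict fun y hy => hLT ▸ Submodule.mem_map_of_mem hy
    have hdet : LinearMap.det TL * LinearMap.det TL = δ ^ i := by
      rw [← LinearMap.det_comp, show TL ∘ₗ TL = δ • LinearMap.id from LinearMap.ext fun y => Subtype.ext (hT.1 y),
        LinearMap.det_smul, LinearMap.det_id, mul_one, hLd]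
    obtain ⟨k, hk⟩ := hio
    refine hδ ⟨LinearMap.det TL / δ ^ k, ?_⟩
    rw [hk] at hdet
    field_simp
    linear_combination -hdet

/-! ### the index -/

/-- the unitary group inside the normaliser -/
theorem index_dvd (h2 : (2 : F) ≠ 0) (p : ℕ) [hp : Fact p.Prime] [CharP F p] {d : ℕ} (hd : 0 < d)
    {K : Subalgebra F (Matrix (Fin d ⊕ Fin d) (Fin d ⊕ Fin d) F)} (hK : Cfsg.Geo.IsFieldSubalgebra 2 K)
    {θ : Matrix (Fin d ⊕ Fin d) (Fin d ⊕ Fin d) F} {δ : F} (hθ : θ ∈ K) (hδ : ¬ IsSquare δ) (hθθ : θ * θ = δ • 1)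
    (hskew : SkewRoot δ (Matrix.toLin' θ)) (hspan : ∀ x ∈ K, ∃ s t : F, x = s • (1 : Matrix (Fin d ⊕ Fin d) (Fin d ⊕ Fin d) F) + t • θ) :
    (Cfsg.Geo.subalgebraNormalizer K).relIndex (Cfsg.spGL d F) ∣ Fintype.card F ^ (d * d) *
      ∏ a ∈ Finset.range d, (if Even a then Fintype.card F ^ (a + 1) - 1 else Fintype.card F ^ (a + 1) + 1) := by
  classical
  haveI : Nonempty (Fin d ⊕ Fin d) := ⟨Sum.inl ⟨0, hd⟩⟩
  set q := Fintype.card F with hq
  have hfield : IsField K :=
    { exists_pair_ne := ⟨0, 1, zero_ne_one⟩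
      mul_comm := fun x y => Subtype.ext (hK.comm x.1 x.2 y.1 y.2)
      mul_inv_cancel := fun {x} hx => by
        obtain ⟨y, hy, e⟩ := hK.inv x.1 x.2 fun h => hx (Subtype.ext h)
        exact ⟨⟨y, hy⟩, Subtype.ext e⟩ }
  letI : Field K := hfield.toField
  haveI : FiniteDimensional F K := Module.finite_of_finrank_pos (by rw [hK.finrank_eq]; norm_num)
  haveI : Finite K := Module.finite_of_finite F
  letI : Fintype K := Fintype.ofFinite K
  have hKc : Fintype.card K = q ^ 2 := by
    rw [← Nat.card_eq_fintype_card, Module.natCard_eq_pow_finrank (K := F), Nat.card_eq_fintype_card,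
      hK.finrank_eq]
  have hδ0 : δ ≠ 0 := fun e => hδ (e ▸ ⟨0, by simp⟩)
  let θK : K := ⟨θ, hθ⟩
  have hθK : θK * θK = algebraMap F K δ := Subtype.ext (by
    show θ * θ = algebraMap F (Matrix (Fin d ⊕ Fin d) (Fin d ⊕ Fin d) F) δ
    rw [hθθ, Algebra.algebraMap_eq_smul_one])
  have hspanK : ∀ k : K, ∃ s t : F, k = algebraMap F K s + algebraMap F K t * θK := fun k => by
    obtain ⟨s, t, hst⟩ := hspan k.1 k.2
    refine ⟨s, t, Subtype.ext ?_⟩
    show k.1 = algebraMap F (Matrix (Fin d ⊕ Fin d) (Fin d ⊕ Fin d) F) s + algebraMap F (Matrix (Fin d ⊕ Fin d) (Fin d ⊕ Fin d) F) t * θ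
    rw [hst, Algebra.algebraMap_eq_smul_one, Algebra.algebraMap_eq_smul_one, Matrix.smul_mul, Matrix.one_mul]
  choose ca cb hcab using hspanK
  have huniq : ∀ s t s' t' : F, algebraMap F K s + algebraMap F K t * θK = algebraMap F K s' + algebraMap F K t' * θK →
      s = s' ∧ t = t' := by
    intro s t s' t' h
    have h1 : algebraMap F K (t - t') * θK = algebraMap F K (s' - s) := by
      rw [map_sub, map_sub]; linear_combination h
    by_cases ht : t - t' = 0
    · rw [ht, map_zero, zero_mul] at h1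
      exact ⟨(sub_eq_zero.1 ((algebraMap F K).injective (h1.symm.trans (map_zero _).symm))).symm,
        sub_eq_zero.1 ht⟩
    · exfalso
      have h3 : θK = algebraMap F K ((s' - s) / (t - t')) := by
        rw [map_div₀, ← h1, mul_div_cancel_left₀ _ ((map_ne_zero _).2 ht)]
      refine hδ ⟨(s' - s) / (t - t'), (algebraMap F K).injective ?_⟩
      rw [← hθK, h3, map_mul]
  -- the Frobenius
  obtain ⟨n, -, hn⟩ := FiniteField.card F p
  haveI : CharP K p := charP_of_injective_algebraMap (algebraMap F K).injective p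
  have hfix : ∀ a : F, algebraMap F K a ^ q = algebraMap F K a := fun a => by
    rw [← map_pow, hq, FiniteField.pow_card]
  have hθq : θK ^ q = -θK := by
    have hR : ringChar F ≠ 2 := by
      rw [ringChar.eq F p]
      exact fun e => h2 (by subst e; exact_mod_cast CharP.cast_eq_zero F 2)
    obtain ⟨m, hm⟩ : Odd q := by
      rw [hq, Nat.odd_iff]; exact FiniteField.odd_card_of_char_ne_two hR
    have hδm : δ ^ m = -1 := by
      have h1 := FiniteField.pow_dichotomy hR hδ0
      have h3 : q / 2 = m := by omega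
      rw [← hq, h3] at h1
      exact h1.resolve_left fun h => hδ ((FiniteField.isSquare_iff hR hδ0).2 (by rw [← hq, h3]; exact h))
    rw [hm, pow_succ, pow_mul, sq, hθK, ← map_pow, hδm, map_neg, map_one, neg_one_mul]
  have hconj : ∀ a b : F, (algebraMap F K a + algebraMap F K b * θK) ^ q = algebraMap F K a - algebraMap F K b * θK := by
    intro a b
    rw [hq, hn, add_pow_char_pow, ← hn, ← hq, mul_pow, hfix, hfix, hθq]
    ring
  -- the coordinate map
  obtain ⟨e, he⟩ := exists_normal h2 hδ hskew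
  obtain ⟨-, b, hb⟩ := basis_of_family he
  let Φ : (Fin d → K) →ₗ[F] (V d) :=
    { toFun := fun u => ∑ j, (u j).1 *ᵥ e j
      map_add' := fun u v => by simp [Matrix.add_mulVec, Finset.sum_add_distrib]
      map_smul' := fun c u => by simp [Matrix.smul_mulVec, Finset.smul_sum] }
  have hΦ : ∀ u, Φ u = ∑ j, (ca (u j) • e j + cb (u j) • Matrix.toLin' θ (e j)) := fun u => by
    show ∑ j, (u j).1 *ᵥ e j = _
    refine Finset.sum_congr rfl fun j _ => ?_
    conv_lhs => rw [hcab (u j)]
    show (algebraMap F (Matrix (Fin d ⊕ Fin d) (Fin d ⊕ Fin d) F) _ + algebraMap F (Matrix (Fin d ⊕ Fin d) (Fin d ⊕ Fin d) F) _ * θ) *ᵥ e j = _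
    simp [Algebra.algebraMap_eq_smul_one, Matrix.add_mulVec, Matrix.smul_mulVec, Matrix.toLin'_apply]
  have hfd : finrank F (Fin d → K) = finrank F (V d) := by
    rw [Module.finrank_pi_fintype, SympStd.finrank_vec, hK.finrank_eq]; simp [mul_comm]
  have hΦsurj : Function.Surjective Φ := by
    rw [← LinearMap.range_eq_top, eq_top_iff, ← b.span_eq, Submodule.span_le]
    rintro _ ⟨z, rfl⟩
    rcases z with j | j
    · refine ⟨Pi.single j 1, ?_⟩
      show ∑ i, ((Pi.single j (1 : K) : Fin d → K) i).1 *ᵥ e i = _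
      rw [Finset.sum_eq_single j (fun i _ hi => by simp [Pi.single_eq_of_ne hi]) (by simp)]
      simp [hb]
    · refine ⟨Pi.single j θK, ?_⟩
      show ∑ i, ((Pi.single j θK : Fin d → K) i).1 *ᵥ e i = _
      rw [Finset.sum_eq_single j (fun i _ hi => by simp [Pi.single_eq_of_ne hi]) (by simp)]
      simp [hb, θK, Matrix.toLin'_apply]
  let E := LinearEquiv.ofBijective Φ ⟨(LinearMap.injective_iff_surjective_of_finrank_eq_finrank hfd).2 hΦsurj, hΦsurj⟩
  have hB : ∀ u u', Cfsg.hermForm d K q u u' =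
      algebraMap F K (∑ j, (ca (u j) * ca (u' j) - δ * (cb (u j) * cb (u' j)))) +
        algebraMap F K (-SympStd.sympB d F (Φ u) (Φ u')) * θK := by
    intro u u'
    have halt : (SympStd.sympB d F).IsAlt := SympStd.sympB_isAlt
    have h1 : SympStd.sympB d F (Φ u) (Φ u') = ∑ j, (ca (u j) * cb (u' j) - cb (u j) * ca (u' j)) := by
      rw [hΦ, hΦ, map_sum]
      refine Finset.sum_congr rfl fun j _ => ?_
      rw [map_sum, LinearMap.sum_apply, Finset.sum_eq_single j]
      · have h3 := he.ef j j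
        rw [if_pos rfl, Function.comp_apply] at h3
        simp only [map_add, map_smul, LinearMap.add_apply, LinearMap.smul_apply, smul_eq_mul, he.ee j j, h3,
          ← LinearMap.IsAlt.neg halt (e j) (Matrix.toLin' θ (e j)), show SympStd.sympB d F (Matrix.toLin' θ (e j)) (Matrix.toLin' θ (e j)) = 0 from halt _]
        ring
      · intro i _ hij
        have h3 := he.ef i j
        rw [if_neg hij, Function.comp_apply] at h3
        have h4 := he.ef j i
        rw [if_neg (Ne.symm hij), Function.comp_apply] at h4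
        have h5 := he.ff i j
        simp only [Function.comp_apply] at h5
        simp only [map_add, map_smul, LinearMap.add_apply, LinearMap.smul_apply, smul_eq_mul, he.ee i j, h3, h5,
          ← LinearMap.IsAlt.neg halt (e j) (Matrix.toLin' θ (e i)), h4]
        ring
      · simp
    rw [h1, Cfsg.hermForm, ← Finset.sum_neg_distrib, map_sum, map_sum, Finset.sum_mul, ← Finset.sum_add_distrib]
    refine Finset.sum_congr rfl fun j _ => ?_
    conv_lhs => rw [hcab (u j), hcab (u' j), hconj]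
    simp only [map_sub, map_mul, map_neg]
    linear_combination (-(algebraMap F K (cb (u j)) * algebraMap F K (cb (u' j)))) * hθK
  have hθΦ : ∀ u, Matrix.toLin' θ (Φ u) = Φ (θK • u) := fun u => by
    show Matrix.toLin' θ (∑ j, (u j).1 *ᵥ e j) = ∑ j, ((θK * u j : K) : Matrix (Fin d ⊕ Fin d) (Fin d ⊕ Fin d) F) *ᵥ e j
    rw [map_sum]
    refine Finset.sum_congr rfl fun j _ => ?_
    rw [Matrix.toLin'_apply, Matrix.mulVec_mulVec]
    rfl
  set N := Cfsg.Geo.subalgebraNormalizer K with hN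
  let act : Cfsg.GU d K q → ((V d) →ₗ[F] (V d)) := fun g =>
    Φ ∘ₗ ((Matrix.toLin' ((g : GL (Fin d) K) : Matrix (Fin d) (Fin d) K)).restrictScalars F) ∘ₗ E.symm.toLinearMap
  have hact : ∀ g u, act g (Φ u) = Φ (((g : GL (Fin d) K) : Matrix (Fin d) (Fin d) K) *ᵥ u) := fun g u => by
    show Φ (Matrix.toLin' _ (E.symm (E u))) = _
    rw [E.symm_apply_apply, Matrix.toLin'_apply]
  have hact_mul : ∀ g h, act (g * h) = act g ∘ₗ act h := fun g h => LinearMap.ext fun v => by
    obtain ⟨u, rfl⟩ := hΦsurj v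
    show act (g * h) (Φ u) = act g (act h (Φ u))
    rw [hact, hact, hact, Subgroup.coe_mul, Units.val_mul, Matrix.mulVec_mulVec]
  have hact_one : act 1 = LinearMap.id := LinearMap.ext fun v => by
    obtain ⟨u, rfl⟩ := hΦsurj v
    rw [hact]; simp
  have hact_iso : ∀ g u v, SympStd.sympB d F (act g u) (act g v) = SympStd.sympB d F u v := fun g u v => by
    obtain ⟨a, rfl⟩ := hΦsurj u
    obtain ⟨c, rfl⟩ := hΦsurj v
    rw [hact, hact]
    have h := g.2 a c
    change Cfsg.hermForm d K q (((g : GL (Fin d) K) : Matrix (Fin d) (Fin d) K) *ᵥ a) (((g : GL (Fin d) K) : Matrix (Fin d) (Fin d) K) *ᵥ c) = Cfsg.hermForm d K q a c at h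
    rw [hB, hB] at h
    exact neg_injective (huniq _ _ _ _ h).2
  have hact_comm : ∀ g v, act g (Matrix.toLin' θ v) = Matrix.toLin' θ (act g v) := fun g v => by
    obtain ⟨a, rfl⟩ := hΦsurj v
    rw [hθΦ, hact, hact, hθΦ, Matrix.mulVec_smul]
  let mk : Cfsg.GU d K q → GL (Fin d ⊕ Fin d) F := fun g =>
    ⟨LinearMap.toMatrix' (act g), LinearMap.toMatrix' (act g⁻¹),
      by rw [← LinearMap.toMatrix'_comp, ← hact_mul, mul_inv_cancel, hact_one, LinearMap.toMatrix'_id],
      by rw [← LinearMap.toMatrix'_comp, ← hact_mul, inv_mul_cancel, hact_one, LinearMap.toMatrix'_id]⟩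
  have hmk : ∀ g, lin (mk g) = act g := fun g => Matrix.toLin'_toMatrix' _
  have hsq' : θ * θ = (0 : F) • θ - (-δ) • (1 : Matrix (Fin d ⊕ Fin d) (Fin d ⊕ Fin d) F) := by
    rw [hθθ, zero_smul, zero_sub, neg_smul, neg_neg]
  have hmem : ∀ g, mk g ∈ N ⊓ Cfsg.spGL d F := fun g => by
    refine ⟨(Max.QuadExt.mem_normalizer hK hspan hθ hsq' (mk g)).2 (Or.inl fun v => ?_),
      mem_spGL.2 (by rw [hmk]; exact hact_iso g)⟩
    have h := hact_comm g v
    rw [← hmk, lin, Matrix.toLin'_apply, Matrix.toLin'_apply, Matrix.toLin'_apply, Matrix.toLin'_apply] at h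
    exact h
  let hom : Cfsg.GU d K q →* ↥(N ⊓ Cfsg.spGL d F) :=
    { toFun := fun g => ⟨mk g, hmem g⟩
      map_one' := Subtype.ext (Units.ext (by
        show LinearMap.toMatrix' (act 1) = _
        rw [hact_one, LinearMap.toMatrix'_id]; rfl))
      map_mul' := fun g h => Subtype.ext (Units.ext (by
        show LinearMap.toMatrix' (act (g * h)) = LinearMap.toMatrix' (act g) * LinearMap.toMatrix' (act h)
        rw [hact_mul, LinearMap.toMatrix'_comp])) }
  have hinj : Function.Injective hom := fun g h hgh => by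
    have h1 : act g = act h := by
      rw [← hmk g, ← hmk h]
      exact congrArg lin (congrArg Subtype.val hgh)
    refine Subtype.ext (Units.ext (Matrix.ext_iff_mulVec.2 fun u => ?_))
    have h3 := LinearMap.congr_fun h1 (Φ u)
    rw [hact, hact] at h3
    exact E.injective h3
  obtain ⟨k, hk⟩ := Subgroup.card_dvd_of_injective hom hinj
  -- orders
  have hsp : Nat.card (Cfsg.spGL d F) = Nat.card (symplecticGroup (Fin d) F) := by
    refine (Nat.card_congr (Equiv.ofBijective (fun x => (⟨(exists_gl x).choose, (exists_gl x).choose_spec.1⟩ : Cfsg.spGL d F)) ⟨fun x y h => ?_, fun g => ?_⟩)).symm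
    · have h1 := congrArg lin (congrArg Subtype.val h)
      simp only [(exists_gl x).choose_spec.2, (exists_gl y).choose_spec.2] at h1
      exact Subtype.ext (Matrix.toLin'.injective h1)
    · refine ⟨⟨((g : GL (Fin d ⊕ Fin d) F) : Matrix (Fin d ⊕ Fin d) (Fin d ⊕ Fin d) F),
        SympStd.mem_sp_iff.2 fun u v => g.2 u v⟩, Subtype.ext (Units.ext ?_)⟩
      exact Matrix.toLin'.injective (exists_gl _).choose_spec.2
  have hidx := Subgroup.index_mul_card (N.subgroupOf (Cfsg.spGL d F))
  rw [show Nat.card (N.subgroupOf (Cfsg.spGL d F)) = Nat.card ↥(N ⊓ Cfsg.spGL d F) by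
      rw [← Subgroup.inf_subgroupOf_right]; exact Nat.card_congr (Subgroup.subgroupOfEquivOfLe inf_le_right).toEquiv,
    hk, hsp, Symplectic.natCard_sp] at hidx
  set X := q ^ (d * d) * ∏ a ∈ Finset.range d, (if Even a then q ^ (a + 1) - 1 else q ^ (a + 1) + 1) with hX
  have hGU := natCard_GU (F := K) (n := d) hKc
  have hprod : q ^ (d ^ 2) * ∏ i ∈ Finset.range d, (q ^ (2 * (i + 1)) - 1) =
      (∏ i ∈ Finset.range d, (if Even i then q ^ (i + 1) + 1 else q ^ (i + 1) - 1)) * X := by
    rw [hX, mul_left_comm, ← Finset.prod_mul_distrib, sq]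
    congr 1
    refine Finset.prod_congr rfl fun a _ => ?_
    rw [show 2 * (a + 1) = (a + 1) * 2 by ring, pow_mul, ← one_pow 2, Nat.sq_sub_sq]
    simp only [one_pow]
    split_ifs
    · rfl
    · rw [mul_comm]
  rw [hprod] at hidx
  have hpos : 0 < ∏ i ∈ Finset.range d, (if Even i then q ^ (i + 1) + 1 else q ^ (i + 1) - 1) := by
    refine Finset.prod_pos fun i _ => ?_
    split_ifs
    · positivity
    · have : 1 < q ^ (i + 1) := Nat.one_lt_pow (by omega) (hq ▸ Fintype.one_lt_card)
      omega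
  show (N.subgroupOf (Cfsg.spGL d F)).index ∣ X
  refine ⟨q ^ (d * (d - 1) / 2) * k, Nat.eq_of_mul_eq_mul_left hpos ?_⟩
  rw [← hidx, hGU]
  ring

theorem not_dvd_index (p : ℕ) [hp : Fact p.Prime] [CharP F p] {d r h : ℕ} [hr : Fact r.Prime] (hrp : r ≠ p) (hr2 : r ≠ 2)
    (hi : orderOf ((Fintype.card F : ℕ) : ZMod r) = 2 * h) (hh : Odd h)
    (hdvd : r ∣ Fintype.card F ^ (d * d) *
      ∏ a ∈ Finset.range d, (if Even a then Fintype.card F ^ (a + 1) - 1 else Fintype.card F ^ (a + 1) + 1)) : False := by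
  rcases hr.out.dvd_mul.1 hdvd with h1 | h1
  · obtain ⟨n, -, hn⟩ := FiniteField.card F p
    rw [hn, ← pow_mul] at h1
    exact hrp ((Nat.prime_dvd_prime_iff_eq hr.out hp.out).1 (hr.out.dvd_of_dvd_pow h1))
  · obtain ⟨a, -, ha⟩ := (Prime.dvd_finsetProd_iff hr.out.prime _).1 h1
    obtain ⟨t, ht⟩ := hh
    split_ifs at ha with he
    · obtain ⟨u, hu⟩ := he
      rw [← Nat.modEq_iff_dvd' (Nat.one_le_pow _ _ Fintype.card_pos), ← ZMod.natCast_eq_natCast_iff,
        Nat.cast_pow, Nat.cast_one, eq_comm, ← orderOf_dvd_iff_pow_eq_one, hi] at ha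
      obtain ⟨v, hv⟩ := ha
      rw [mul_assoc] at hv
      omega
    · have he' := Nat.not_even_iff.1 he
      rw [← ZMod.natCast_eq_zero_iff, Nat.cast_add, Nat.cast_pow, Nat.cast_one, add_eq_zero_iff_eq_neg] at ha
      have h3 : orderOf ((Fintype.card F : ℕ) : ZMod r) ∣ 2 * (a + 1) := orderOf_dvd_of_pow_eq_one (by
        rw [mul_comm, pow_mul, ha, neg_one_sq])
      rw [hi] at h3
      obtain ⟨v, hv⟩ := Nat.dvd_of_mul_dvd_mul_left two_pos h3
      have hne : ¬ 2 * h ∣ a + 1 := fun h4 => by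
        rw [← hi, orderOf_dvd_iff_pow_eq_one, ha] at h4
        haveI : Fact (2 < r) := ⟨by have := hr.out.two_le; omega⟩
        exact ZMod.neg_one_ne_one h4
      rcases Nat.even_or_odd v with ⟨w, hw⟩ | ⟨w, hw⟩
      · exact hne ⟨w, by rw [hv, hw]; ring⟩
      · have h5 : a + 1 = 2 * (2 * t * w + t + w) + 1 := by rw [hv, ht, hw]; ring
        omega


/-- Elements of prime order of PSp_n(q), q odd, and the subgroups of type GU_{n/2}(q). Here `T = PSp_{2d}(F)` for a field `F` with `q` elements, `q` odd, `d ≥ 2`, realised through the matrices preserving the standard alternating form `f`; `K` is a subalgebra of the `2d × 2d` matrices that is a field of degree 2 over `F`, closed under taking adjoints for `f` but not consisting of self-adjoint elements (so `F^{2d}` becomes a `d`-dimensional space over `K ≅ F_{q²}` on which `f` is the trace of a multiple of a non-degenerate hermitian form); `H` is the subgroup of `T` normalizing `K` — the symplectic maps that are `K`-linear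 or `K`-semilinear, a subgroup of type GU_d(q) (maximality is not assumed). Ω is the set of cosets of `H` in `T`, so an element of `T` of prime order `r` (`x ∈ T` with `x^r` scalar, `x` not scalar) fixes a point of Ω exactly when some `T`-conjugate of `x` normalizes `K`. Let `r` be a prime dividing the index of `H`. Then every element of `T` of order `r` fixes a point of Ω if and only if `r = 2`. -/
theorem result {F : Type*} [Field F] [Fintype F] {p : ℕ} [Fact p.Prime] [CharP F p] {q : ℕ} (hq : Fintype.card F = q)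
    (hodd : Odd q) (d : ℕ) (hd : 2 ≤ d)
    (K : Subalgebra F (Matrix (Fin d ⊕ Fin d) (Fin d ⊕ Fin d) F)) (hK : Cfsg.Geo.IsFieldSubalgebra 2 K)
    (hKf : Cfsg.Geo.IsAdjointClosedFor (Cfsg.sympForm d F) K) (hKns : ¬ Cfsg.Geo.IsSelfAdjointFor (Cfsg.sympForm d F) K)
    (r : ℕ) [Fact r.Prime]
    (hΩ : r ∣ (Cfsg.Geo.subalgebraNormalizer K).relIndex (Cfsg.spGL d F)) :
    (∀ x ∈ Cfsg.spGL d F, (∃ z : F, ((x ^ r : GL (Fin d ⊕ Fin d) F) : Matrix (Fin d ⊕ Fin d) (Fin d ⊕ Fin d) F) = z • (1 : Matrix (Fin d ⊕ Fin d) (Fin d ⊕ Fin d) F)) →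
      (∀ z : F, (x : Matrix (Fin d ⊕ Fin d) (Fin d ⊕ Fin d) F) ≠ z • (1 : Matrix (Fin d ⊕ Fin d) (Fin d ⊕ Fin d) F)) →
      ∃ g ∈ Cfsg.spGL d F, g⁻¹ * x * g ∈ Cfsg.Geo.subalgebraNormalizer K) ↔ r = 2 := by
  classical
  subst hq
  have h2 : (2 : F) ≠ 0 := OrthForms.two_ne_zero_of_odd hodd
  have hp2 : p ≠ 2 := fun e => by
    subst e; exact h2 (by exact_mod_cast CharP.cast_eq_zero F 2)
  haveI : Nonempty (Fin d ⊕ Fin d) := ⟨Sum.inl ⟨0, by omega⟩⟩
  obtain ⟨θ, a, N, hθ, hsq, -, hirr, hspan⟩ := Max.QuadExt.exists_gen hK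
  have hext : ∀ A C : Matrix (Fin d ⊕ Fin d) (Fin d ⊕ Fin d) F,
      (∀ u v, SympStd.sympB d F u (A *ᵥ v) = SympStd.sympB d F u (C *ᵥ v)) → A = C := fun A C h =>
    Matrix.ext_of_mulVec_single fun i => sub_eq_zero.1 (SympStd.sympB_nondegenerate.2 _ fun u => by
      rw [map_sub, h, sub_self])
  obtain ⟨k', hk', hadj0⟩ := hKf θ hθ
  have hadj : ∀ u v, SympStd.sympB d F (θ *ᵥ u) v = SympStd.sympB d F u (k' *ᵥ v) := fun u v => by
    rw [SympStd.sympB_apply, SympStd.sympB_apply]; exact hadj0 u v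
  have hk'sq : k' * k' = a • k' - N • (1 : Matrix (Fin d ⊕ Fin d) (Fin d ⊕ Fin d) F) := hext _ _ fun u v => by
    rw [← Matrix.mulVec_mulVec, ← hadj, ← hadj, Matrix.mulVec_mulVec, hsq]
    simp only [Matrix.sub_mulVec, Matrix.smul_mulVec, Matrix.one_mulVec, map_sub, map_smul, LinearMap.sub_apply,
      LinearMap.smul_apply, hadj]
  have hbar : k' = a • (1 : Matrix (Fin d ⊕ Fin d) (Fin d ⊕ Fin d) F) - θ := by
    have hprod : (k' - θ) * (k' - (a • (1 : Matrix (Fin d ⊕ Fin d) (Fin d ⊕ Fin d) F) - θ)) = 0 := by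
      simp only [Matrix.mul_sub, Matrix.sub_mul, Matrix.mul_smul, Matrix.mul_one, hk'sq, hK.comm k' hk' θ hθ, hsq]
      module
    have hne' : k' - θ ≠ 0 := fun e => hKns fun k hk u v => by
      obtain ⟨s, t, rfl⟩ := hspan k hk
      rw [← SympStd.sympB_apply, ← SympStd.sympB_apply]
      simp only [Matrix.add_mulVec, Matrix.smul_mulVec, Matrix.one_mulVec, map_add, map_smul, LinearMap.add_apply,
        LinearMap.smul_apply, hadj, sub_eq_zero.1 e]
    obtain ⟨y, -, hy⟩ := hK.inv _ (K.sub_mem hk' hθ) hne'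
    refine sub_eq_zero.1 ?_
    calc k' - (a • (1 : Matrix (Fin d ⊕ Fin d) (Fin d ⊕ Fin d) F) - θ)
        = (y * (k' - θ)) * (k' - (a • (1 : Matrix (Fin d ⊕ Fin d) (Fin d ⊕ Fin d) F) - θ)) := by
          rw [mul_eq_one_comm.1 hy, Matrix.one_mul]
      _ = 0 := by rw [Matrix.mul_assoc, hprod, Matrix.mul_zero]
  set θ₀ := θ - (a / 2) • (1 : Matrix (Fin d ⊕ Fin d) (Fin d ⊕ Fin d) F) with hθ₀def
  set δ := a / 2 * (a / 2) - N with hδdef
  have hθ₀ : θ₀ ∈ K := K.sub_mem hθ (K.smul_mem K.one_mem _)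
  have hδ : ¬ IsSquare δ := by
    rintro ⟨s, hs⟩
    refine hirr (s + a / 2) ?_
    rw [hδdef] at hs
    field_simp at hs ⊢
    linear_combination -hs
  have hδ0 : δ ≠ 0 := fun e => hδ (e ▸ ⟨0, by simp⟩)
  have hspan₀ : ∀ x ∈ K, ∃ s t : F, x = s • (1 : Matrix (Fin d ⊕ Fin d) (Fin d ⊕ Fin d) F) + t • θ₀ := fun x hx => by
    obtain ⟨s, t, rfl⟩ := hspan x hx
    exact ⟨s + t * (a / 2), t, by rw [hθ₀def]; module⟩
  have hθθ : θ₀ * θ₀ = δ • (1 : Matrix (Fin d ⊕ Fin d) (Fin d ⊕ Fin d) F) := by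
    rw [hθ₀def, hδdef]
    simp only [Matrix.mul_sub, Matrix.sub_mul, Matrix.mul_smul, Matrix.smul_mul, Matrix.mul_one, Matrix.one_mul, hsq]
    match_scalars <;> field_simp <;> ring
  have hsq₀ : θ₀ * θ₀ = (0 : F) • θ₀ - (-δ) • (1 : Matrix (Fin d ⊕ Fin d) (Fin d ⊕ Fin d) F) := by
    rw [hθθ, zero_smul, zero_sub, neg_smul, neg_neg]
  set T₀ := Matrix.toLin' θ₀ with hT₀
  have hskew : SkewRoot δ T₀ := by
    refine ⟨fun v => ?_, fun u v => ?_⟩
    · rw [hT₀, Matrix.toLin'_apply, Matrix.toLin'_apply, Matrix.mulVec_mulVec, hθθ, Matrix.smul_mulVec, Matrix.one_mulVec]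
    · simp only [hT₀, Matrix.toLin'_apply, hθ₀def, Matrix.sub_mulVec, Matrix.smul_mulVec, Matrix.one_mulVec, map_sub,
        map_smul, LinearMap.sub_apply, LinearMap.smul_apply, hadj, hbar, smul_eq_mul]
      field_simp
      ring
  have hmem : ∀ g : GL (Fin d ⊕ Fin d) F, g ∈ Cfsg.Geo.subalgebraNormalizer K ↔
      ∃ ε : F, (ε = 1 ∨ ε = -1) ∧ ∀ v, lin g (T₀ v) = ε • T₀ (lin g v) := fun g => by
    rw [Max.QuadExt.mem_normalizer hK hspan₀ hθ₀ hsq₀]
    simp only [lin, hT₀, Matrix.toLin'_apply, zero_smul, zero_sub]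
    constructor
    · rintro (h | h)
      · exact ⟨1, Or.inl rfl, fun v => by rw [one_smul, h]⟩
      · exact ⟨-1, Or.inr rfl, fun v => by rw [neg_one_smul, h]⟩
    · rintro ⟨ε, rfl | rfl, h⟩
      · exact Or.inl fun v => by rw [h, one_smul]
      · exact Or.inr fun v => by rw [h, neg_one_smul]
  have hcan : ∀ (g : GL (Fin d ⊕ Fin d) F) v, lin g⁻¹ (lin g v) = v := fun g v => by
    rw [← lin_mul, inv_mul_cancel, lin_one]
  have hcan' : ∀ (g : GL (Fin d ⊕ Fin d) F) v, lin g (lin g⁻¹ v) = v := fun g v => by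
    rw [← lin_mul, mul_inv_cancel, lin_one]
  constructor
  · intro H
    by_contra hr2
    have hro : Odd r := (Fact.out : r.Prime).odd_of_ne_two hr2
    have key : ∀ x ∈ Cfsg.spGL d F, lin x ^ r = 1 → lin x ≠ 1 →
        ∃ T, SkewRoot δ T ∧ ∀ v, T (lin x v) = lin x (T v) := by
      intro x hx hxr hx1
      obtain ⟨g, hg, hgx⟩ := H x hx ⟨1, Matrix.toLin'.injective (by
        rw [one_smul, Matrix.toLin'_one, Units.val_pow_eq_pow_val, Matrix.toLin'_pow]; exact hxr)⟩ fun z hz => hx1 (by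
          have hlz : ∀ v, lin x v = z • v := fun v => by
            rw [lin, hz, Matrix.toLin'_apply, Matrix.smul_mulVec, Matrix.one_mulVec]
          have hd0 : 0 < d := by omega
          have h3 := (mem_spGL.1 hx) (Pi.single (Sum.inl ⟨0, hd0⟩) 1) (Pi.single (Sum.inr ⟨0, hd0⟩) 1)
          rw [hlz, hlz, map_smul, map_smul, LinearMap.smul_apply, smul_eq_mul, smul_eq_mul,
            SympStd.sympB_apply, SympStd.sympForm_inl_inr, if_pos rfl] at h3
          have hzz : z * z = 1 := by linear_combination (-1 : F) * h3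
          have hpw : ∀ (n : ℕ) v, (lin x ^ n) v = z ^ n • v := fun n => by
            induction n with
            | zero => simp
            | succ n ih => intro v; rw [pow_succ', Module.End.mul_apply, ih, map_smul, hlz, smul_smul, ← pow_succ]
          have h4 := congrFun (hpw r (Pi.single (Sum.inl ⟨0, hd0⟩) 1)) (Sum.inl ⟨0, hd0⟩)
          rw [hxr] at h4
          simp at h4
          obtain ⟨n, hn⟩ := hro
          rw [hn, pow_succ, pow_mul, sq, hzz, one_pow, one_mul] at h4
          exact LinearMap.ext fun v => by rw [hlz, ← h4, one_smul]; rfl)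
      obtain ⟨ε, hε, hc⟩ := (hmem _).1 hgx
      have hyr : ∀ (n : ℕ) v, (lin (g⁻¹ * x * g) ^ n) (T₀ v) = ε ^ n • T₀ ((lin (g⁻¹ * x * g) ^ n) v) := fun n => by
        induction n with
        | zero => simp
        | succ n ih =>
          intro v
          rw [pow_succ', Module.End.mul_apply, ih, map_smul, hc, smul_smul, ← pow_succ, Module.End.mul_apply]
      have hone : lin (g⁻¹ * x * g) ^ r = 1 := by
        rw [← lin_pow, ← inv_inv g, inv_inv g⁻¹, conj_pow]
        refine LinearMap.ext fun v => ?_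
        rw [lin_mul, lin_mul, lin_pow, hxr, Module.End.one_apply, inv_inv, hcan]
        rfl
      have hε1 : ε = 1 := by
        rcases hε with h | h
        · exact h
        · exfalso
          have h5 := hyr r (Pi.single (Sum.inl ⟨0, by omega⟩) 1)
          rw [hone, h, hro.neg_one_pow, Module.End.one_apply, Module.End.one_apply, neg_one_smul] at h5
          have h6 : (2 : F) • T₀ (Pi.single (Sum.inl ⟨0, by omega⟩) 1 : Fin d ⊕ Fin d → F) = 0 := by
            rw [two_smul]; exact add_eq_zero_iff_eq_neg.2 h5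
          have h7 := root_inj hδ0 hskew (((smul_eq_zero.1 h6).resolve_left h2).trans (map_zero _).symm)
          exact one_ne_zero (α := F) (by simpa using congrFun h7 (Sum.inl ⟨0, by omega⟩))
      refine ⟨_, hskew.conj hg, fun v => ?_⟩
      have h5 := hc (lin g⁻¹ v)
      rw [hε1, one_smul, lin_mul, lin_mul, lin_mul, lin_mul, hcan'] at h5
      simp only [LinearMap.comp_apply]
      rw [← h5, hcan']
    have hd0 : 0 < d := by omega
    by_cases hrp : r = p
    · subst hrp
      set u : Fin d ⊕ Fin d → F := Pi.single (Sum.inl ⟨0, hd0⟩) 1 with hu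
      obtain ⟨x, hx, hxl⟩ := exists_gl (SympStd.tv u (1 : F))
      have hxv : ∀ v, lin x v = v + SympStd.sympB d F v u • u := fun v => by
        rw [hxl, Matrix.toLin'_apply, SympStd.tv_mulVec, one_mul, SympStd.sympB_apply]
      have hpow : ∀ (n : ℕ) v, (lin x ^ n) v = v + ((n : F) * SympStd.sympB d F v u) • u := fun n => by
        induction n with
        | zero => simp
        | succ n ih =>
          intro v
          rw [pow_succ', Module.End.mul_apply, ih, hxv, map_add, map_smul, LinearMap.add_apply, LinearMap.smul_apply,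
            show SympStd.sympB d F u u = 0 from SympStd.sympB_isAlt u, smul_zero, add_zero, Nat.cast_succ]
          module
      have hu0 : u ≠ 0 := fun e => by simpa [hu] using congrFun e (Sum.inl ⟨0, hd0⟩)
      obtain ⟨T, hT, hTc⟩ := key x hx (LinearMap.ext fun v => by rw [hpow, CharP.cast_eq_zero]; simp) fun e => by
        have h := hxv (Pi.single (Sum.inr ⟨0, hd0⟩) 1)
        rw [e, Module.End.one_apply, left_eq_add, smul_eq_zero, SympStd.sympB_apply, hu, SympStd.sympForm_inr_inl] at h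
        simp [hu] at h
      exact no_root_tv hδ hT u hu0 fun v => by
        have := hTc v
        rwa [hxv, hxv] at this
    · have hr0 : (r : F) ≠ 0 := natCast_prime_ne_zero p hrp
      have hX := hΩ.trans (index_dvd h2 p hd0 hK hθ₀ hδ hθθ hskew hspan₀)
      set i := orderOf ((Fintype.card F : ℕ) : ZMod r) with hi
      have hi0 : 0 < i := order_pos p hrp
      obtain ⟨t, ht, hit⟩ : ∃ t, t ≤ d ∧ 0 < t ∧ i ∣ 2 * t := by
        rcases (Fact.out : r.Prime).dvd_mul.1 hX with h1 | h1
        · obtain ⟨n, -, hn⟩ := FiniteField.card F p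
          rw [hn, ← pow_mul] at h1
          exact absurd ((Nat.prime_dvd_prime_iff_eq Fact.out Fact.out).1 ((Fact.out : r.Prime).dvd_of_dvd_pow h1)) hrp
        · obtain ⟨b, hb, hb'⟩ := (Prime.dvd_finsetProd_iff (Fact.out : r.Prime).prime _).1 h1
          refine ⟨b + 1, by have := Finset.mem_range.1 hb; omega, by omega, orderOf_dvd_of_pow_eq_one ?_⟩
          rw [mul_comm, pow_mul]
          split_ifs at hb'
          · rw [← Nat.modEq_iff_dvd' (Nat.one_le_pow _ _ Fintype.card_pos), ← ZMod.natCast_eq_natCast_iff,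
              Nat.cast_pow, Nat.cast_one] at hb'
            rw [← hb', one_pow]
          · rw [← ZMod.natCast_eq_zero_iff, Nat.cast_add, Nat.cast_pow, Nat.cast_one, add_eq_zero_iff_eq_neg] at hb'
            rw [hb', neg_one_sq]
      set c := if Even i then i else 2 * i with hc
      have hcd : c ≤ 2 * d ∧ Even c := by
        rw [hc]
        split_ifs with he
        · exact ⟨(Nat.le_of_dvd (by omega) hit.2).trans (by omega), he⟩
        · have h3 : i ∣ t := (Nat.Coprime.dvd_mul_left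
            (Nat.coprime_two_right.2 (Nat.not_even_iff_odd.1 he))).1 hit.2
          exact ⟨Nat.mul_le_mul_left 2 ((Nat.le_of_dvd hit.1 h3).trans ht), even_two_mul i⟩
      obtain ⟨e, he⟩ := hcd.2
      have hc0 : 0 < c := by rw [hc]; split_ifs <;> omega
      obtain ⟨y, hy, hyfix⟩ := S5961.exists_model p hrp hr2 hi hc (d := d) (s := 1) (e := e) (by omega) (by omega)
      obtain ⟨x, hx, hxl⟩ := exists_gl y
      rw [← hxl] at hy hyfix
      set g := lin x
      have hiso := mem_spGL.1 hx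
      have hg : g ^ r = 1 := LinearMap.ext hy
      obtain ⟨T, hT, hTc⟩ := key x hx hg fun e' => by
        have h1 : fixSp g = ⊤ := eq_top_iff.2 fun v _ => mem_fixSp.2 (by
          show lin x v = v; rw [e']; rfl)
        rw [h1, finrank_top, SympStd.finrank_vec] at hyfix
        omega
      obtain ⟨-, -, hsum, hDnd, hDi, hfree⟩ := Pieces.fix_split SympStd.sympB_isAlt hiso hr0 hg ndTop le_top
      rw [inf_top_eq] at hsum hDnd hDi hfree
      rw [finrank_top, SympStd.finrank_vec, hyfix] at hsum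
      set D := ⊤ ⊓ (SympStd.sympB d F).orthogonal (fixSp g)
      have hDT : D.map T ≤ D := by
        rintro _ ⟨v, hv, rfl⟩
        refine mem_perp.2 ⟨trivial, fun w hw => ?_⟩
        have hTw : T w ∈ fixSp g := mem_fixSp.2 (by rw [← hTc, mem_fixSp.1 hw])
        have h3 := hT.2 w v
        rw [(mem_perp.1 hv).2 _ hTw] at h3
        exact neg_eq_zero.1 h3.symm
      by_cases hie : Even i
      · obtain ⟨h, hh⟩ := hie
        by_cases hheven : Even h
        · refine no_root_four h2 hr0 hδ0 hi (h := h) (by omega) hheven (by omega) hg hiso hT hTc hDi hDT hDnd hfree ?_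
          have hci : c = i := by rw [hc, if_pos ⟨h, hh⟩]
          omega
        · exact not_dvd_index p hrp hr2 (h := h) (by omega) (Nat.not_even_iff_odd.1 hheven) hX
      · refine no_root_odd h2 hr2 hr0 hδ hi (Nat.not_even_iff_odd.1 hie) hg hiso hT hTc hDi hDT hDnd hfree ?_
        have hci : c = 2 * i := by rw [hc, if_neg hie]
        omega
  · rintro rfl x hx ⟨z, hz⟩ -
    have hiso := mem_spGL.1 hx
    have hxx : ∀ v, lin x (lin x v) = z • v := fun v => by
      rw [← Module.End.mul_apply, ← sq, ← lin_pow, lin, hz, Matrix.toLin'_apply, Matrix.smul_mulVec, Matrix.one_mulVec]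
    have hz1 : z = 1 ∨ z = -1 := by
      have hd0 : 0 < d := by omega
      refine mul_self_eq_one_iff.1 ?_
      have h3 := hiso (lin x (Pi.single (Sum.inl ⟨0, hd0⟩) 1)) (lin x (Pi.single (Sum.inr ⟨0, hd0⟩) 1))
      rw [hxx, hxx, hiso, map_smul, map_smul, LinearMap.smul_apply, smul_eq_mul, smul_eq_mul,
        SympStd.sympB_apply, SympStd.sympForm_inl_inr, if_pos rfl] at h3
      linear_combination (-1 : F) * h3
    obtain ⟨T, hT, hTc⟩ := exists_root h2 δ hiso hz1 hxx
    obtain ⟨g, hg, hgT⟩ := exists_conj_root h2 hδ hskew hT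
    refine ⟨g, hg, (hmem _).2 ⟨z, hz1, fun v => ?_⟩⟩
    have h' : ∀ w, lin g⁻¹ (T w) = T₀ (lin g⁻¹ w) := fun w => by
      rw [← hcan g (T₀ (lin g⁻¹ w)), hgT, hcan']
    rw [lin_mul, lin_mul, lin_mul, lin_mul, hgT, hTc, map_smul, h']

end Cfsg.Agent.S5976
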