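import Cfsg.Statements.S5975
import Cfsg.Agent.S5976

set_option autoImplicit false
open scoped MatrixGroups
open scoped Matrix
open Cfsg

namespace Cfsg.Agent.S5975

open Cfsg.Agent.Forms Cfsg.Agent.Forms.Elusive Cfsg.Agent.Classical Module Matrix
open Cfsg.Agent.S5976 (lin lin_mul lin_one lin_pow mem_spGL exists_gl ndTop family_cons basis_of_family)

variable {F : Type*} [Field F]

local notation "V" d => (Fin d ⊕ Fin d → F)

/-! ### the form over the extension field -/

/-- the form over the extension field -/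
theorem exists_form {d : ℕ} {K : Type*} [Field K] [Algebra F K] [FiniteDimensional F K] [Module K (V d)]
    [IsScalarTower F K (V d)]
    (hadj : ∀ (k : K) (x y : Fin d ⊕ Fin d → F), SympStd.sympB d F (k • x) y = SympStd.sympB d F x (k • y))
    (halt : ∀ (k : K) (x : Fin d ⊕ Fin d → F), SympStd.sympB d F (k • x) x = 0) :
    ∃ f : LinearMap.BilinForm K (V d), f.IsAlt ∧ f.Nondegenerate ∧
      (∀ u v, SympStd.sympB d F u v ≠ 0 → f u v ≠ 0) ∧
      ∀ L : (V d) →ₗ[K] (V d), (∀ u v, SympStd.sympB d F (L u) (L v) = SympStd.sympB d F u v) ↔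
        ∀ u v, f (L u) (L v) = f u v := by
  obtain ⟨χ, hχ⟩ : ∃ χ : K →ₗ[F] F, χ ≠ 0 := exists_ne 0
  let dual : K ≃ₗ[F] Module.Dual F K := LinearEquiv.ofBijective ((LinearMap.mul F K).compr₂ χ) (by
    have hinj : Function.Injective ((LinearMap.mul F K).compr₂ χ) := by
      rw [← LinearMap.ker_eq_bot, LinearMap.ker_eq_bot']
      intro a ha
      by_contra h
      refine hχ (LinearMap.ext fun k => ?_)
      have := LinearMap.congr_fun ha (a⁻¹ * k)
      rwa [LinearMap.compr₂_apply, LinearMap.mul_apply', mul_inv_cancel_left₀ h, LinearMap.zero_apply] at this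
    exact ⟨hinj, (LinearMap.injective_iff_surjective_of_finrank_eq_finrank Subspace.dual_finrank_eq.symm).1 hinj⟩)
  have hd : ∀ a k, dual a k = χ (a * k) := fun a k => rfl
  have ext' : ∀ {a b : K}, (∀ k : K, χ (k * a) = χ (k * b)) → a = b := fun h =>
    dual.injective (LinearMap.ext fun k => by rw [hd, hd, mul_comm, h, mul_comm])
  let ff : (V d) → (V d) → K := fun x y =>
    dual.symm (((SympStd.sympB d F).flip y) ∘ₗ ((LinearMap.toSpanSingleton K _ x).restrictScalars F))
  have spec : ∀ (k : K) x y, χ (k * ff x y) = SympStd.sympB d F (k • x) y := fun k x y => by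
    rw [mul_comm, ← hd, LinearEquiv.apply_symm_apply]
    rfl
  let f : LinearMap.BilinForm K (V d) := LinearMap.mk₂ K ff
    (fun x x' y => ext' fun k => by rw [mul_add, map_add, spec, spec, spec, smul_add, map_add, LinearMap.add_apply])
    (fun c x y => ext' fun k => by rw [spec, smul_eq_mul, ← mul_assoc, spec, smul_smul])
    (fun x y y' => ext' fun k => by rw [mul_add, map_add, spec, spec, spec, map_add])
    (fun c x y => ext' fun k => by rw [spec, smul_eq_mul, ← mul_assoc, spec, ← hadj, smul_smul, mul_comm])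
  have hB : ∀ x y, SympStd.sympB d F x y = χ (f x y) := fun x y => by
    rw [← one_mul (f x y)]; exact ((spec 1 x y).trans (by rw [one_smul])).symm
  have hf : f.IsAlt := fun x => ext' fun k => (spec k x x).trans (by rw [halt, mul_zero, map_zero])
  have hl : ∀ x, (∀ y, f x y = 0) → x = 0 := fun x hx =>
    SympStd.sympB_nondegenerate.1 x fun y => by rw [hB, hx, map_zero]
  refine ⟨f, hf, ⟨hl, fun y hy => hl y fun x => by rw [← LinearMap.IsAlt.neg hf x y, hy, neg_zero]⟩,
    fun u v h e => h (by rw [hB, e, map_zero]), fun L => ⟨fun h u v => ext' fun k => ?_, fun h u v => ?_⟩⟩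
  · show χ (k * ff (L u) (L v)) = χ (k * ff u v)
    rw [spec, spec, ← L.map_smul, h]
  · rw [hB, h, ← hB]

/-- the symplectic group over the extension field -/
theorem exists_sub {d : ℕ} {K : Type*} [Field K] [Algebra F K] [FiniteDimensional F K] [Module K (V d)]
    [IsScalarTower F K (V d)]
    (hadj : ∀ (k : K) (x y : Fin d ⊕ Fin d → F), SympStd.sympB d F (k • x) y = SympStd.sympB d F x (k • y))
    (halt : ∀ (k : K) (x : Fin d ⊕ Fin d → F), SympStd.sympB d F (k • x) x = 0) :
    ∃ a, d = finrank F K * a ∧ ∃ φ : Matrix.symplecticGroup (Fin a) K →* GL (Fin d ⊕ Fin d) F,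
      Function.Injective φ ∧ ∀ g, φ g ∈ Cfsg.spGL d F ∧ ∀ (k : K) (v : Fin d ⊕ Fin d → F), lin (φ g) (k • v) = k • lin (φ g) v := by
  classical
  obtain ⟨f, hA, hN, -, hiso⟩ := exists_form hadj halt
  haveI : FiniteDimensional K (V d) := Module.Finite.of_restrictScalars_finite F K _
  obtain ⟨a, ha⟩ := Bases.even_finrank_of_alt f hA hN
  obtain ⟨b, h12, h11, h22⟩ := Bases.exists_sympBasis f hA hN ha
  refine ⟨a, by
    have := Module.finrank_mul_finrank F K (V d)
    rw [ha, SympStd.finrank_vec, mul_left_comm] at this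
    omega, ?_⟩
  let b' := b.reindex (Equiv.sumComm (Fin a) (Fin a))
  let e : (V d) ≃ₗ[K] (Fin a ⊕ Fin a → K) := b'.equivFun
  have h21 : ∀ i j, f (b (.inr i)) (b (.inl j)) = if i = j then -1 else 0 := fun i j => by
    rw [← LinearMap.IsAlt.neg hA (b (.inl j)) (b (.inr i)), h12]
    by_cases h : i = j
    · subst h; simp
    · simp [h, Ne.symm h]
  have hval : ∀ u v, Cfsg.sympForm a K (e u) (e v) = f u v := by
    intro u v
    rw [← SympStd.sympB_apply]
    refine LinearMap.congr_fun₂ (LinearMap.ext_basis (B := (SympStd.sympB a K).compl₁₂ e.toLinearMap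
      e.toLinearMap) (B' := f) b' b' fun i j => ?_) u v
    rw [LinearMap.compl₁₂_apply]
    have hs : ∀ k : Fin a ⊕ Fin a, e (b' k) = Pi.single k 1 := fun k => funext fun j => by
      show b'.equivFun (b' k) j = _
      rw [Basis.equivFun_self, Pi.single_apply]
      exact if_congr eq_comm rfl rfl
    simp only [LinearEquiv.coe_coe]
    rw [hs, hs, SympStd.sympB_apply]
    rcases i with i | i <;> rcases j with j | j <;>
      simp only [b', Basis.reindex_apply, Equiv.sumComm_symm, Equiv.sumComm_apply, Sum.swap_inl,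
        Sum.swap_inr, SympStd.sympForm_inl_inl, SympStd.sympForm_inl_inr, SympStd.sympForm_inr_inl,
        SympStd.sympForm_inr_inr, h11, h22, h12, h21]
  let A : Matrix.symplecticGroup (Fin a) K → ((V d) →ₗ[K] (V d)) := fun g =>
    e.symm.toLinearMap ∘ₗ Matrix.toLin' (g : Matrix (Fin a ⊕ Fin a) (Fin a ⊕ Fin a) K) ∘ₗ e.toLinearMap
  have hAf : ∀ g u v, f (A g u) (A g v) = f u v := fun g u v => by
    rw [← hval, ← hval]
    simp only [A, LinearMap.comp_apply, LinearEquiv.coe_coe, LinearEquiv.apply_symm_apply, Matrix.toLin'_apply,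
      SympStd.sympForm_mulVec]
  have hAm : ∀ g h v, A (g * h) v = A g (A h v) := fun g h v => by
    simp only [A, LinearMap.comp_apply, LinearEquiv.coe_coe, LinearEquiv.apply_symm_apply, Matrix.toLin'_apply,
      MulMemClass.coe_mul, Matrix.mulVec_mulVec]
  have hA1 : ∀ v, A 1 v = v := fun v => by
    simp [A]
  let M : Matrix.symplecticGroup (Fin a) K → Matrix (Fin d ⊕ Fin d) (Fin d ⊕ Fin d) F := fun g =>
    LinearMap.toMatrix' ((A g).restrictScalars F)
  have hM : ∀ g h, M g * M h = M (g * h) := fun g h => by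
    show _ = LinearMap.toMatrix' ((A (g * h)).restrictScalars F)
    rw [← LinearMap.toMatrix'_comp]
    exact congrArg _ (LinearMap.ext fun v => (hAm g h v).symm)
  have hM1 : M 1 = 1 := by
    show LinearMap.toMatrix' ((A 1).restrictScalars F) = 1
    rw [show (A 1).restrictScalars F = LinearMap.id from LinearMap.ext hA1, LinearMap.toMatrix'_id]
  let φ : Matrix.symplecticGroup (Fin a) K →* GL (Fin d ⊕ Fin d) F :=
    { toFun := fun g => ⟨M g, M g⁻¹, by rw [hM, mul_inv_cancel, hM1], by rw [hM, inv_mul_cancel, hM1]⟩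
      map_one' := Units.ext hM1
      map_mul' := fun g h => Units.ext (hM g h).symm }
  have hφ : ∀ g v, lin (φ g) v = A g v := fun g v => by
    show Matrix.toLin' (LinearMap.toMatrix' ((A g).restrictScalars F)) v = _
    rw [Matrix.toLin'_toMatrix']; rfl
  refine ⟨φ, (injective_iff_map_eq_one _).2 fun g hg => Subtype.ext (Matrix.toLin'.injective (LinearMap.ext fun w => ?_)),
    fun g => ⟨mem_spGL.2 fun u v => by rw [hφ, hφ]; exact (hiso (A g)).2 (hAf g) u v, fun k v => by
      rw [hφ, hφ, map_smul]⟩⟩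
  have h1 := hφ g (e.symm w)
  rw [hg, lin_one] at h1
  have h2 := congrArg e h1
  simp only [A, LinearMap.comp_apply, LinearEquiv.coe_coe, LinearEquiv.apply_symm_apply] at h2
  rw [OneMemClass.coe_one, Matrix.toLin'_one, LinearMap.id_apply]
  exact h2.symm

/-- free parts commuting with the extension field -/
theorem piece_dvd [Fintype F] {d : ℕ} {K : Type*} [Field K] [Fintype K] [Algebra F K] [FiniteDimensional F K] [Module K (V d)]
    [IsScalarTower F K (V d)]
    (hadj : ∀ (k : K) (x y : Fin d ⊕ Fin d → F), SympStd.sympB d F (k • x) y = SympStd.sympB d F x (k • y))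
    (halt : ∀ (k : K) (x : Fin d ⊕ Fin d → F), SympStd.sympB d F (k • x) x = 0)
    {r i' c' : ℕ} [hr : Fact r.Prime] (hr2 : r ≠ 2) (hr0 : (r : F) ≠ 0)
    (hi' : i' = orderOf ((Fintype.card K : ℕ) : ZMod r)) (hc' : c' = if Even i' then i' else 2 * i') (hc0 : 0 < c')
    {y : (V d) →ₗ[F] (V d)} (hy : ∀ v, (y ^ r) v = v)
    (hiso : ∀ u v, SympStd.sympB d F (y u) (y v) = SympStd.sympB d F u v)
    (hcomm : ∀ (k : K) v, y (k • v) = k • y v) :
    finrank F K * c' ∣ finrank F (V d) - finrank F (fixSp y) := by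
  obtain ⟨f, hA, hN, hne, hiso'⟩ := exists_form hadj halt
  haveI : FiniteDimensional K (V d) := Module.Finite.of_restrictScalars_finite F K _
  let g : (V d) →ₗ[K] (V d) := { toFun := y, map_add' := y.map_add, map_smul' := hcomm }
  have hg : g ^ r = 1 := LinearMap.ext fun v => by
    rw [Module.End.pow_apply, Module.End.one_apply]
    have := hy v
    rwa [Module.End.pow_apply] at this
  have hgiso : ∀ u v, f (g u) (g v) = f u v := (hiso' g).1 hiso
  have hyr : y ^ r = 1 := LinearMap.ext hy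
  have hr0K : (r : K) ≠ 0 := by
    rw [← map_natCast (algebraMap F K) r]; exact (map_ne_zero _).2 hr0
  obtain ⟨hFnd, -, hsum, hDnd, hDi, hfree⟩ := Pieces.fix_split hA hgiso hr0K hg (W := ⊤)
    (fun v _ hv => by
      by_contra hcon
      push Not at hcon
      exact hv (hN.1 v fun u => hcon u trivial)) le_top
  rw [inf_top_eq] at hsum hDnd hDi hfree
  have hinj : Function.Injective g := fun u v e => by
    have := congrArg (g ^ (r - 1)) e
    rwa [← Module.End.mul_apply, ← Module.End.mul_apply, ← pow_succ, Nat.sub_add_cancel hr.out.one_lt.le, hg] at this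
  obtain ⟨t, ht⟩ := Pieces.dvd_finrank hA hgiso hinj hc0 (Pieces.hasPiece_free hA hgiso hr2 hr0K hg hfree hi' hc') hDnd hDi
  have h1 : finrank F K * finrank K ↥(fixSp g) = finrank F (fixSp y) := by
    rw [Module.finrank_mul_finrank F K ↥(fixSp g)]
    refine LinearEquiv.finrank_eq
      { toFun := fun v => ⟨v.1, mem_fixSp.2 (mem_fixSp.1 v.2 :)⟩
        invFun := fun v => ⟨v.1, mem_fixSp.2 (mem_fixSp.1 v.2 :)⟩
        map_add' := fun _ _ => rfl
        map_smul' := fun _ _ => rfl }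
  have h2 := Module.finrank_mul_finrank F K (V d)
  rw [finrank_top] at hsum
  refine ⟨t, ?_⟩
  rw [← h1, ← h2, ← Nat.mul_sub, show finrank K (V d) - finrank K ↥(fixSp g) = c' * t by omega, mul_assoc]

/-! ### matrices -/

variable {d : ℕ} {K : Subalgebra F (Matrix (Fin d ⊕ Fin d) (Fin d ⊕ Fin d) F)}

local notation "Mat" => Matrix (Fin d ⊕ Fin d) (Fin d ⊕ Fin d) F

theorem inj_mulVec {k : ℕ} (hK : Cfsg.Geo.IsFieldSubalgebra k K) {a : Mat} (ha : a ∈ K) (ha0 : a ≠ 0)
    {v : Fin d ⊕ Fin d → F} (hv : a *ᵥ v = 0) : v = 0 := by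
  obtain ⟨b, -, hb⟩ := hK.inv a ha ha0
  rw [← Matrix.one_mulVec v, ← mul_eq_one_comm.1 hb, ← Matrix.mulVec_mulVec, hv, Matrix.mulVec_zero]

/-- an eigenline of the whole field -/
theorem scalar_false {k : ℕ} (hk : k.Prime) (hK : Cfsg.Geo.IsFieldSubalgebra k K) {u : Fin d ⊕ Fin d → F} (hu : u ≠ 0)
    (h : ∀ a ∈ K, ∃ l : F, a *ᵥ u = l • u) : False := by
  haveI : Nontrivial Mat := ⟨⟨1, 0, fun e => hu (by rw [← Matrix.one_mulVec u, e, Matrix.zero_mulVec])⟩⟩
  have hbot : K = ⊥ := eq_bot_iff.2 fun a ha => by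
    obtain ⟨l, hl⟩ := h a ha
    refine Algebra.mem_bot.2 ⟨l, ?_⟩
    by_contra hne
    refine hu (inj_mulVec hK (K.sub_mem (K.algebraMap_mem l) ha) (sub_ne_zero.2 hne) ?_)
    rw [Matrix.sub_mulVec, Algebra.algebraMap_eq_smul_one, Matrix.smul_mulVec, Matrix.one_mulVec, hl, sub_self]
  have h1 := hK.finrank_eq
  rw [hbot, Subalgebra.finrank_bot] at h1
  exact hk.one_lt.ne' h1.symm

theorem conj_eq (g : GL (Fin d ⊕ Fin d) F) {a b : Mat}
    (h : (g : Mat) * a * ((g⁻¹ : GL (Fin d ⊕ Fin d) F) : Mat) = b) (v : Fin d ⊕ Fin d → F) :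
    lin g (a *ᵥ v) = b *ᵥ lin g v := by
  have h1 : (g : Mat) * a = b * g := by
    rw [← h, Matrix.mul_assoc ((g : Mat) * a), Units.inv_mul, Matrix.mul_one]
  simp only [lin, Matrix.toLin'_apply, Matrix.mulVec_mulVec, h1]

/-- a large eigenspace forces linearity -/
theorem comm_of_fixed {k : ℕ} (hK : Cfsg.Geo.IsFieldSubalgebra k K) {g : GL (Fin d ⊕ Fin d) F}
    (hg : g ∈ Cfsg.Geo.subalgebraNormalizer K) {c : F} (hc : c ≠ 0) {W : Submodule F (V d)}
    (hW : ∀ w ∈ W, lin g w = c • w) (hdim : 2 * d < 2 * finrank F W) :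
    ∀ a ∈ K, ∀ v, lin g (a *ᵥ v) = a *ᵥ lin g v := by
  intro a ha v
  by_cases ha0 : a = 0
  · simp [ha0]
  set b := (g : Mat) * a * ((g⁻¹ : GL (Fin d ⊕ Fin d) F) : Mat) with hb
  have hbK : b ∈ K := (hg a).1 ha
  have hinj : Function.Injective (Matrix.toLin' a) := (injective_iff_map_eq_zero _).2 fun x hx =>
    inj_mulVec hK ha ha0 (by simpa using hx)
  have hne : W ⊓ W.map (Matrix.toLin' a) ≠ ⊥ := fun e => by
    have h1 := Submodule.finrank_sup_add_finrank_inf_eq W (W.map (Matrix.toLin' a))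
    rw [e, finrank_bot, ← (Submodule.equivMapOfInjective _ hinj W).finrank_eq] at h1
    have h2 := Submodule.finrank_le (W ⊔ W.map (Matrix.toLin' a))
    rw [SympStd.finrank_vec] at h2
    omega
  obtain ⟨_, ⟨hv1, x, hx, rfl⟩, hx0⟩ := Submodule.exists_mem_ne_zero_of_ne_bot hne
  have hab : b = a := by
    by_contra hne'
    refine hx0 ?_
    have h1 := conj_eq g hb.symm x
    rw [← Matrix.toLin'_apply a x, hW _ hv1, hW x hx, Matrix.mulVec_smul, Matrix.toLin'_apply] at h1
    rw [inj_mulVec hK (K.sub_mem hbK ha) (sub_ne_zero.2 hne') (v := x) (by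
      rw [Matrix.sub_mulVec, sub_eq_zero]; exact (smul_right_injective _ hc h1).symm), map_zero]
  exact conj_eq g (hb.symm.trans hab) v

theorem mem_of_comm {g : GL (Fin d ⊕ Fin d) F} (h : ∀ a ∈ K, ∀ v, lin g (a *ᵥ v) = a *ᵥ lin g v) :
    g ∈ Cfsg.Geo.subalgebraNormalizer K := by
  have h1 : ∀ a ∈ K, (g : Mat) * a = a * g := fun a ha => Matrix.ext_of_mulVec_single fun i => by
    have h2 := h a ha (Pi.single i 1)
    simpa only [lin, Matrix.toLin'_apply, Matrix.mulVec_mulVec] using h2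
  intro a
  refine ⟨fun ha => by rw [h1 a ha, Matrix.mul_assoc, Units.mul_inv, Matrix.mul_one]; exact ha, fun ha => ?_⟩
  have h2 := h1 _ ha
  rw [Matrix.mul_assoc ((g : Mat) * a), Units.inv_mul, Matrix.mul_one] at h2
  have h3 := (Units.mul_right_inj g).1 h2
  rw [h3] at ha
  exact ha

/-- a semilinear element of prime order has that degree -/
theorem degree_of_semilinear [Finite F] {k r : ℕ} [hr : Fact r.Prime] (hk : k.Prime) (hK : Cfsg.Geo.IsFieldSubalgebra k K)
    [Nonempty (Fin d ⊕ Fin d)]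
    {g : GL (Fin d ⊕ Fin d) F} (hg : g ∈ Cfsg.Geo.subalgebraNormalizer K) (hgr : g ^ r = 1)
    {a : Mat} (ha : a ∈ K) {v : Fin d ⊕ Fin d → F} (hne : lin g (a *ᵥ v) ≠ a *ᵥ lin g v) : r = k := by
  have hfield : IsField K :=
    { exists_pair_ne := ⟨0, 1, zero_ne_one⟩
      mul_comm := fun x y => Subtype.ext (hK.comm x.1 x.2 y.1 y.2)
      mul_inv_cancel := fun {x} hx => by
        obtain ⟨y, hy, e⟩ := hK.inv x.1 x.2 fun h => hx (Subtype.ext h)
        exact ⟨⟨y, hy⟩, Subtype.ext e⟩ }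
  letI : Field K := hfield.toField
  haveI : FiniteDimensional F K := Module.finite_of_finrank_pos (by rw [hK.finrank_eq]; exact hk.pos)
  haveI : Finite K := Module.finite_of_finite F
  set G : Mat := (g : Mat) with hG
  set H : Mat := ((g⁻¹ : GL (Fin d ⊕ Fin d) F) : Mat) with hH
  have hGH : G * H = 1 := Units.mul_inv g
  have hHG : H * G = 1 := Units.inv_mul g
  have hback : ∀ x ∈ K, H * x * G ∈ K := fun x hx => (hg _).2 (by
    show G * (H * x * G) * H ∈ K
    rw [show G * (H * x * G) * H = (G * H) * x * (G * H) by simp only [Matrix.mul_assoc], hGH, Matrix.one_mul,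
      Matrix.mul_one]; exact hx)
  let σ : K ≃ₐ[F] K :=
    { toFun := fun x => ⟨G * x.1 * H, (hg x.1).1 x.2⟩
      invFun := fun x => ⟨H * x.1 * G, hback x.1 x.2⟩
      left_inv := fun x => Subtype.ext (by
        show H * (G * x.1 * H) * G = x.1
        rw [show H * (G * x.1 * H) * G = (H * G) * x.1 * (H * G) by simp only [Matrix.mul_assoc], hHG, Matrix.one_mul,
          Matrix.mul_one])
      right_inv := fun x => Subtype.ext (by
        show G * (H * x.1 * G) * H = x.1
        rw [show G * (H * x.1 * G) * H = (G * H) * x.1 * (G * H) by simp only [Matrix.mul_assoc], hGH, Matrix.one_mul,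
          Matrix.mul_one])
      map_mul' := fun x y => Subtype.ext (by
        show G * (x.1 * y.1) * H = (G * x.1 * H) * (G * y.1 * H)
        rw [show (G * x.1 * H) * (G * y.1 * H) = G * x.1 * (H * G) * y.1 * H by simp only [Matrix.mul_assoc], hHG,
          Matrix.mul_one]
        simp only [Matrix.mul_assoc])
      map_add' := fun x y => Subtype.ext (by
        show G * (x.1 + y.1) * H = G * x.1 * H + G * y.1 * H
        rw [Matrix.mul_add, Matrix.add_mul])
      commutes' := fun c => Subtype.ext (by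
        show G * algebraMap F Mat c * H = algebraMap F Mat c
        rw [← Algebra.commutes, Matrix.mul_assoc, hGH, Matrix.mul_one]) }
  have hpow : ∀ (n : ℕ) (x : K), (((σ ^ n) x : K) : Mat) = ((g ^ n : GL (Fin d ⊕ Fin d) F) : Mat) * x.1 *
      (((g ^ n)⁻¹ : GL (Fin d ⊕ Fin d) F) : Mat) := fun n => by
    induction n with
    | zero => intro x; simp
    | succ n ih =>
      intro x
      rw [pow_succ', AlgEquiv.mul_apply]
      show G * ((σ ^ n) x : K).1 * H = _
      rw [ih, pow_succ', _root_.mul_inv_rev, Units.val_mul, Units.val_mul]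
      simp only [hG, hH, Matrix.mul_assoc]
  have hσr : σ ^ r = 1 := AlgEquiv.ext fun x => Subtype.ext (by rw [hpow, hgr]; simp)
  have hσ1 : σ ≠ 1 := fun e => hne (conj_eq g (congrArg Subtype.val (AlgEquiv.congr_fun e ⟨a, ha⟩)) v)
  have h1 := orderOf_dvd_natCard σ
  rw [orderOf_eq_prime hσr hσ1, IsGalois.card_aut_eq_finrank, hK.finrank_eq] at h1
  exact (Nat.prime_dvd_prime_iff_eq hr.out hk).1 h1

theorem finrank_ker_flip (u : Fin d ⊕ Fin d → F) :
    2 * d ≤ finrank F (LinearMap.ker ((SympStd.sympB d F).flip u)) + 1 := by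
  have h1 := LinearMap.finrank_range_add_finrank_ker ((SympStd.sympB d F).flip u)
  have h2 := Submodule.finrank_le (LinearMap.range ((SympStd.sympB d F).flip u))
  rw [Module.finrank_self] at h2
  rw [SympStd.finrank_vec] at h1
  omega

theorem lin_conj (g x : GL (Fin d ⊕ Fin d) F) (v : Fin d ⊕ Fin d → F) :
    lin (g⁻¹ * x * g) v = lin g⁻¹ (lin x (lin g v)) := by rw [lin_mul, lin_mul]

theorem lin_can (g : GL (Fin d ⊕ Fin d) F) (v : Fin d ⊕ Fin d → F) : lin g⁻¹ (lin g v) = v := by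
  rw [← lin_mul, inv_mul_cancel, lin_one]

theorem lin_can' (g : GL (Fin d ⊕ Fin d) F) (v : Fin d ⊕ Fin d → F) : lin g (lin g⁻¹ v) = v := by
  rw [← lin_mul, mul_inv_cancel, lin_one]

theorem iso_left {g : GL (Fin d ⊕ Fin d) F} (hg : g ∈ Cfsg.spGL d F) (u v : Fin d ⊕ Fin d → F) :
    SympStd.sympB d F (lin g v) u = SympStd.sympB d F v (lin g⁻¹ u) := by
  conv_lhs => rw [← lin_can' g u]
  exact mem_spGL.1 hg _ _

theorem no_root_tv {k : ℕ} (hd : 2 ≤ d) (hk : k.Prime) (hK : Cfsg.Geo.IsFieldSubalgebra k K)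
    {u : Fin d ⊕ Fin d → F} (hu : u ≠ 0) {x g : GL (Fin d ⊕ Fin d) F}
    (hx : ∀ v, lin x v = v + SympStd.sympB d F v u • u) (hg : g ∈ Cfsg.spGL d F)
    (hy : g⁻¹ * x * g ∈ Cfsg.Geo.subalgebraNormalizer K) : False := by
  set w := lin g⁻¹ u with hw
  have hw0 : w ≠ 0 := fun e => hu (by rw [← lin_can' g u, ← hw, e, map_zero])
  have hyv : ∀ v, lin (g⁻¹ * x * g) v = v + SympStd.sympB d F v w • w := fun v => by
    rw [lin_conj, hx, map_add, map_smul, lin_can, iso_left hg]
  have hcomm := comm_of_fixed hK hy one_ne_zero (W := LinearMap.ker ((SympStd.sympB d F).flip w))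
    (fun v hv => by
      rw [hyv, show SympStd.sympB d F v w = 0 from hv, zero_smul, add_zero, one_smul])
    (by have := finrank_ker_flip w; omega)
  obtain ⟨v, hv⟩ : ∃ v, SympStd.sympB d F v w ≠ 0 := by
    by_contra hcon
    push Not at hcon
    exact hw0 (SympStd.sympB_nondegenerate.2 w hcon)
  refine scalar_false hk hK hw0 fun a ha => ⟨(SympStd.sympB d F v w)⁻¹ * SympStd.sympB d F (a *ᵥ v) w, ?_⟩
  have h := hcomm a ha v
  rw [hyv, hyv, Matrix.mulVec_add, Matrix.mulVec_smul, add_right_inj] at h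
  rw [← smul_smul, h, smul_smul, inv_mul_cancel₀ hv, one_smul]

theorem no_root_plane (h2 : (2 : F) ≠ 0) {k : ℕ} (hd : 3 ≤ d ∨ (2 ≤ d ∧ k ≠ 2)) (hk : k.Prime)
    (hK : Cfsg.Geo.IsFieldSubalgebra k K) (hkd : k ∣ 2 * d)
    (hKalt : ∀ a ∈ K, ∀ v : Fin d ⊕ Fin d → F, SympStd.sympB d F (a *ᵥ v) v = 0)
    {e f : Fin d ⊕ Fin d → F} (hef : SympStd.sympB d F e f = 1) {x g : GL (Fin d ⊕ Fin d) F}
    (hx : ∀ v, lin x v = v - (2 * SympStd.sympB d F v f) • e + (2 * SympStd.sympB d F v e) • f)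
    (hg : g ∈ Cfsg.spGL d F) (hy : g⁻¹ * x * g ∈ Cfsg.Geo.subalgebraNormalizer K) : False := by
  have hd3 : 3 ≤ d := by
    rcases hd with h | ⟨hd', hk2⟩
    · exact h
    · by_contra hcon
      obtain rfl : d = 2 := by omega
      exact hk2 ((Nat.prime_dvd_prime_iff_eq hk Nat.prime_two).1 (hk.dvd_of_dvd_pow (show k ∣ 2 ^ 2 from hkd)))
  set e' := lin g⁻¹ e with he'
  set f' := lin g⁻¹ f with hf'
  have hef' : SympStd.sympB d F e' f' = 1 := by
    rw [← hef, he', hf', mem_spGL.1 (Subgroup.inv_mem _ hg)]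
  have hyv : ∀ v, lin (g⁻¹ * x * g) v =
      v - (2 * SympStd.sympB d F v f') • e' + (2 * SympStd.sympB d F v e') • f' := fun v => by
    rw [lin_conj, hx, map_add, map_sub, map_smul, map_smul, lin_can, iso_left hg, iso_left hg]
  have hcomm := comm_of_fixed hK hy one_ne_zero
    (W := LinearMap.ker ((SympStd.sympB d F).flip e') ⊓ LinearMap.ker ((SympStd.sympB d F).flip f'))
    (fun v hv => by
      rw [hyv, show SympStd.sympB d F v e' = 0 from hv.1, show SympStd.sympB d F v f' = 0 from hv.2]; simp)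
    (by
      have h1 := finrank_ker_flip e'
      have h3 := finrank_ker_flip f'
      have h4 := Submodule.finrank_sup_add_finrank_inf_eq (LinearMap.ker ((SympStd.sympB d F).flip e'))
        (LinearMap.ker ((SympStd.sympB d F).flip f'))
      have h5 := Submodule.finrank_le (LinearMap.ker ((SympStd.sympB d F).flip e') ⊔ LinearMap.ker ((SympStd.sympB d F).flip f'))
      rw [SympStd.finrank_vec] at h5
      omega)
  have he0 : e' ≠ 0 := fun e0 => by rw [e0, map_zero, LinearMap.zero_apply] at hef'; exact zero_ne_one hef'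
  refine scalar_false hk hK he0 fun a ha => ⟨SympStd.sympB d F (a *ᵥ e') f', ?_⟩
  have h := hcomm a ha e'
  rw [hyv, hyv, hef', show SympStd.sympB d F e' e' = 0 from SympStd.sympB_isAlt e', hKalt a ha e'] at h
  simp only [mul_zero, zero_smul, add_zero, mul_one, Matrix.mulVec_sub, Matrix.mulVec_smul, sub_right_inj,
    ← smul_smul] at h
  exact (smul_right_injective _ h2 h).symm

/-! ### the exceptional case: involutions in dimension four -/

theorem fam_two {e f : Fin 2 → (Fin 2 ⊕ Fin 2 → F)}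
    (hef : ∀ i j, SympStd.sympB 2 F (e i) (f j) = if i = j then 1 else 0)
    (hee : ∀ i j, SympStd.sympB 2 F (e i) (e j) = 0) (hff : ∀ i j, SympStd.sympB 2 F (f i) (f j) = 0) :
    ∃ b : Basis (Fin 2 ⊕ Fin 2) F (Fin 2 ⊕ Fin 2 → F), ⇑b = Sum.elim e f := by
  have hfam : Bases.IsSympFamily (SympStd.sympB 2 F) (Submodule.span F (Set.range (Sum.elim e f))) e f :=
    ⟨fun i => Submodule.subset_span ⟨Sum.inl i, rfl⟩, fun i => Submodule.subset_span ⟨Sum.inr i, rfl⟩, hef, hee, hff, le_rfl⟩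
  refine ⟨basisOfLinearIndependentOfCardEqFinrank hfam.linearIndependent (by rw [SympStd.finrank_vec]; simp),
    coe_basisOfLinearIndependentOfCardEqFinrank _ _⟩

/-- self-adjoint square roots of `δ` -/
def BalRoot {d : ℕ} (δ : F) (T : (V d) →ₗ[F] (V d)) : Prop :=
  (∀ v, T (T v) = δ • v) ∧ ∀ u v, SympStd.sympB d F (T u) v = SympStd.sympB d F u (T v)

theorem BalRoot.alt (h2 : (2 : F) ≠ 0) {δ : F} {T : (V d) →ₗ[F] (V d)} (hT : BalRoot δ T) (v : Fin d ⊕ Fin d → F) :
    SympStd.sympB d F (T v) v = 0 := by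
  have h : SympStd.sympB d F (T v) v = -SympStd.sympB d F (T v) v := by
    conv_lhs => rw [hT.2]
    exact (LinearMap.IsAlt.neg (B := SympStd.sympB d F) SympStd.sympB_isAlt (T v) v).symm
  exact (mul_eq_zero.1 (show (2 : F) * SympStd.sympB d F (T v) v = 0 by linear_combination h)).resolve_left h2

/-- a normal basis -/
def Normal (δ : F) (T : (V 2) →ₗ[F] (V 2)) (e f : Fin 2 → (Fin 2 ⊕ Fin 2 → F)) : Prop :=
  ((∀ i j, SympStd.sympB 2 F (e i) (f j) = if i = j then 1 else 0) ∧ (∀ i j, SympStd.sympB 2 F (e i) (e j) = 0) ∧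
    (∀ i j, SympStd.sympB 2 F (f i) (f j) = 0)) ∧
  T (e 0) = e 1 ∧ T (e 1) = δ • e 0 ∧ T (f 0) = δ • f 1 ∧ T (f 1) = f 0

theorem exists_normal (h2 : (2 : F) ≠ 0) {δ : F} (hδ : ¬ IsSquare δ) {T : (V 2) →ₗ[F] (V 2)} (hT : BalRoot δ T) :
    ∃ e f, Normal δ T e f := by
  have hδ0 : δ ≠ 0 := fun e => hδ (e ▸ ⟨0, by simp⟩)
  have halt : (SympStd.sympB 2 F).IsAlt := SympStd.sympB_isAlt
  set u : Fin 2 ⊕ Fin 2 → F := Pi.single (Sum.inl 0) 1 with hu
  have hu0 : u ≠ 0 := fun e => by simpa [hu] using congrFun e (Sum.inl 0)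
  obtain ⟨w, hw⟩ : ∃ w, SympStd.sympB 2 F u w = 1 ∧ SympStd.sympB 2 F (T u) w = 0 := by
    by_contra hcon
    push Not at hcon
    obtain ⟨z, hz⟩ : ∃ z, SympStd.sympB 2 F u z = 1 := by
      obtain ⟨z, hz⟩ : ∃ z, SympStd.sympB 2 F u z ≠ 0 := by
        by_contra h; push Not at h; exact hu0 (SympStd.sympB_nondegenerate.1 u h)
      exact ⟨(SympStd.sympB 2 F u z)⁻¹ • z, by rw [map_smul, smul_eq_mul, inv_mul_cancel₀ hz]⟩
    set c := SympStd.sympB 2 F (T u) z with hc
    have hne : 1 - c * c / δ ≠ 0 := fun e => hδ ⟨c, by field_simp at e; linear_combination e⟩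
    refine hcon ((1 - c * c / δ)⁻¹ • (z - (c / δ) • T z)) ?_ ?_
    · rw [map_smul, map_sub, map_smul, smul_eq_mul, smul_eq_mul, hz, ← hT.2, ← hc]
      field_simp
      exact div_self fun e => hδ ⟨c, by linear_combination e⟩
    · rw [map_smul, map_sub, map_smul, smul_eq_mul, smul_eq_mul, ← hc, ← hT.2 (T u) z, hT.1, map_smul, LinearMap.smul_apply,
        smul_eq_mul, hz]
      field_simp
      ring
  refine ⟨![u, T u], ![w, δ⁻¹ • T w], ⟨?_, ?_, ?_⟩, rfl, hT.1 u, ?_, ?_⟩
  · intro i j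
    fin_cases i <;> fin_cases j
    · simpa using hw.1
    · simp [← hT.2, hw.2]
    · simpa using hw.2
    · simp [← hT.2, hT.1, hw.1, hδ0]
  · intro i j
    fin_cases i <;> fin_cases j
    · exact halt u
    · simp [← hT.2, hT.alt h2]
    · simpa using hT.alt h2 u
    · exact halt (T u)
  · intro i j
    fin_cases i <;> fin_cases j
    · exact halt w
    · simp [← hT.2, hT.alt h2]
    · simp [hT.alt h2]
    · simp [show SympStd.sympB 2 F (T w) (T w) = 0 from halt _]
  · simp [smul_smul, hδ0]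
  · simp [hT.1, smul_smul, hδ0]

theorem exists_conj (h2 : (2 : F) ≠ 0) {δ : F} (hδ : ¬ IsSquare δ) {T T' : (V 2) →ₗ[F] (V 2)}
    (hT : BalRoot δ T) (hT' : BalRoot δ T') :
    ∃ g ∈ Cfsg.spGL 2 F, ∀ v, lin g (T v) = T' (lin g v) := by
  obtain ⟨e, f, ⟨hef, hee, hff⟩, t0, t1, t2, t3⟩ := exists_normal h2 hδ hT
  obtain ⟨e', f', ⟨hef', hee', hff'⟩, t0', t1', t2', t3'⟩ := exists_normal h2 hδ hT'
  obtain ⟨b, hb⟩ := fam_two hef hee hff
  obtain ⟨b', hb'⟩ := fam_two hef' hee' hff'
  let E := b.equiv b' (Equiv.refl _)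
  have hE : ∀ z, E (b z) = b' z := fun z => by simp [E, Basis.equiv_apply]
  have halt : (SympStd.sympB 2 F).IsAlt := SympStd.sympB_isAlt
  have hgram : ∀ x y, SympStd.sympB 2 F (Sum.elim e' f' x) (Sum.elim e' f' y) =
      SympStd.sympB 2 F (Sum.elim e f x) (Sum.elim e f y) := by
    rintro (x | x) (y | y) <;> simp only [Sum.elim_inl, Sum.elim_inr]
    · rw [hee', hee]
    · rw [hef', hef]
    · rw [← LinearMap.IsAlt.neg halt (e' y), hef', ← LinearMap.IsAlt.neg halt (e y), hef]
    · rw [hff', hff]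
  have hiso : ∀ u v, SympStd.sympB 2 F (E u) (E v) = SympStd.sympB 2 F u v := by
    have h : (SympStd.sympB 2 F).compl₁₂ (E : (V 2) →ₗ[F] (V 2)) (E : (V 2) →ₗ[F] (V 2)) = SympStd.sympB 2 F := by
      refine LinearMap.ext_basis b b fun x y => ?_
      rw [LinearMap.compl₁₂_apply, LinearEquiv.coe_coe, hE, hE, hb, hb']
      exact hgram x y
    exact fun u v => LinearMap.congr_fun₂ h u v
  obtain ⟨g, hg, hgl⟩ := exists_gl (SympStd.ofEquiv E fun u v => by
    rw [← SympStd.sympB_apply, ← SympStd.sympB_apply, hiso])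
  have hgv : ∀ v, lin g v = E v := fun v => by rw [hgl, Matrix.toLin'_apply, SympStd.ofEquiv_mulVec]
  refine ⟨g, hg, fun v => ?_⟩
  have he : ∀ i, E (e i) = e' i := fun i => by
    have := hE (Sum.inl i); rwa [hb, hb'] at this
  have hf : ∀ i, E (f i) = f' i := fun i => by
    have := hE (Sum.inr i); rwa [hb, hb'] at this
  have hcomm : (E : (V 2) →ₗ[F] (V 2)) ∘ₗ T = T' ∘ₗ (E : (V 2) →ₗ[F] (V 2)) := by
    refine b.ext fun z => ?_
    simp only [LinearMap.comp_apply, LinearEquiv.coe_coe, hb]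
    rcases z with z | z <;> fin_cases z <;> simp [he, hf, t0, t1, t2, t3, t0', t1', t2', t3']
  rw [hgv, hgv]
  exact LinearMap.congr_fun hcomm v

theorem exists_bal (h2 : (2 : F) ≠ 0) [Finite F] {δ : F} (hδ0 : δ ≠ 0) {x : (V 2) →ₗ[F] (V 2)}
    (hiso : ∀ u v, SympStd.sympB 2 F (x u) (x v) = SympStd.sympB 2 F u v) {z : F} (hz : z = 1 ∨ z = -1)
    (hx : ∀ v, x (x v) = z • v) (hns : ∀ c : F, ∃ v, x v ≠ c • v) :
    ∃ T, BalRoot δ T ∧ ∃ ε : F, (ε = 1 ∨ ε = -1) ∧ ∀ v, x (T v) = ε • T (x v) := by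
  have halt : (SympStd.sympB 2 F).IsAlt := SympStd.sympB_isAlt
  have hswap : ∀ u v, SympStd.sympB 2 F v u = -SympStd.sympB 2 F u v := fun u v => (LinearMap.IsAlt.neg halt u v).symm
  obtain ⟨e, f, p, s, w', hef, hee, hff, hxe, hxf, hrel⟩ : ∃ (e f : Fin 2 → (Fin 2 ⊕ Fin 2 → F)) (p s w' : Fin 2 → F),
      (∀ i j, SympStd.sympB 2 F (e i) (f j) = if i = j then 1 else 0) ∧ (∀ i j, SympStd.sympB 2 F (e i) (e j) = 0) ∧
      (∀ i j, SympStd.sympB 2 F (f i) (f j) = 0) ∧ (∀ i, x (e i) = p i • e i + s i • f i) ∧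
      (∀ i, x (f i) = p i • f i + w' i • e i) ∧
      ((z = 1 ∧ s = 0 ∧ w' = 0 ∧ p 0 = 1 ∧ p 1 = -1) ∨
        (z = -1 ∧ p = 0 ∧ w' = (fun i => -(s i)⁻¹) ∧ s 0 ≠ 0 ∧ s 1 = δ * s 0)) := by
    rcases hz with rfl | rfl
    · simp only [one_smul] at hx
      have hplane : ∀ c : F, c * c = 1 → (∃ v, x v ≠ (-c) • v) →
          ∃ u w, SympStd.sympB 2 F u w = 1 ∧ x u = c • u ∧ x w = c • w := by
        rintro c hc ⟨v, hv⟩
        have hu : v + c • x v ≠ 0 := fun e => hv (by
          have := congrArg (c • ·) (eq_neg_of_add_eq_zero_right e)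
          simpa [smul_smul, hc] using this)
        have hxu : ∀ v, x (v + c • x v) = c • (v + c • x v) := fun v => by
          rw [map_add, map_smul, hx, smul_add, smul_smul, hc, one_smul, add_comm]
        obtain ⟨w, hw⟩ : ∃ w, SympStd.sympB 2 F (v + c • x v) w ≠ 0 := by
          by_contra h; push Not at h; exact hu (SympStd.sympB_nondegenerate.1 _ h)
        set u := v + c • x v with hu'
        have h1 : SympStd.sympB 2 F u (w + c • x w) = 2 * SympStd.sympB 2 F u w := by
          have h1 : SympStd.sympB 2 F u (x w) = c * SympStd.sympB 2 F u w := by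
            rw [← hiso u (x w), hxu, hx, map_smul, LinearMap.smul_apply, smul_eq_mul]
          rw [map_add, map_smul, smul_eq_mul, h1, ← mul_assoc, hc]; ring
        refine ⟨u, (SympStd.sympB 2 F u (w + c • x w))⁻¹ • (w + c • x w), ?_, hxu v, ?_⟩
        · rw [map_smul, smul_eq_mul, inv_mul_cancel₀ (by rw [h1]; exact mul_ne_zero h2 hw)]
        · rw [map_smul, hxu, smul_comm]
      obtain ⟨u₁, w₁, h1, hu1, hw1⟩ := hplane 1 (by ring) (hns (-1))
      obtain ⟨u₂, w₂, h3, hu2, hw2⟩ := hplane (-1) (by ring) (by simpa using hns 1)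
      have ho : ∀ u w, x u = (1 : F) • u → x w = (-1 : F) • w → SympStd.sympB 2 F u w = 0 ∧ SympStd.sympB 2 F w u = 0 := by
        intro u w hu hw
        have h := hiso u w
        rw [hu, hw, one_smul, neg_one_smul, map_neg] at h
        have h0 := (mul_eq_zero.1 (show (2 : F) * SympStd.sympB 2 F u w = 0 by linear_combination -h)).resolve_left h2
        exact ⟨h0, by rw [hswap u w, h0, neg_zero]⟩
      refine ⟨![u₁, u₂], ![w₁, w₂], ![1, -1], 0, 0, ?_, ?_, ?_, ?_, ?_, Or.inl ⟨rfl, rfl, rfl, rfl, rfl⟩⟩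
      · intro i j; fin_cases i <;> fin_cases j <;> simp [h1, h3, (ho u₁ w₂ hu1 hw2).1, (ho w₁ u₂ hw1 hu2).2]
      · intro i j; fin_cases i <;> fin_cases j <;> simp [halt u₁, halt u₂, (ho u₁ u₂ hu1 hu2).1, (ho u₁ u₂ hu1 hu2).2]
      · intro i j; fin_cases i <;> fin_cases j <;> simp [halt w₁, halt w₂, (ho w₁ w₂ hw1 hw2).1, (ho w₁ w₂ hw1 hw2).2]
      · intro i; fin_cases i <;> simp [hu1, hu2]
      · intro i; fin_cases i <;> simp [hw1, hw2]
    · have hinj : Function.Injective x := fun u v e => by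
        have := congrArg x e
        simpa [hx] using this
      have h1 : ∀ u v, SympStd.sympB 2 F v (x u) = SympStd.sympB 2 F u (x v) := fun u v => by
        rw [← hiso v (x u), hx, neg_one_smul, map_neg, ← hswap]
      have hfind : ∀ W : Submodule F (V 2), W.map x ≤ W → NdOn (SympStd.sympB 2 F) W → W ≠ ⊥ →
          ∃ w ∈ W, SympStd.sympB 2 F w (x w) ≠ 0 := by
        intro W hW hnd hne
        by_contra hcon
        push Not at hcon
        obtain ⟨v, hv, hv0⟩ := Submodule.exists_mem_ne_zero_of_ne_bot hne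
        obtain ⟨u, hu, huv⟩ := hnd (x v) (hW ⟨v, hv, rfl⟩) (fun e => hv0 (hinj (by rw [e, map_zero])))
        have h0 := hcon (u + v) (W.add_mem hu hv)
        simp only [map_add, LinearMap.add_apply, hcon u hu, hcon v hv, zero_add, add_zero, h1 u v] at h0
        refine huv ?_
        rw [hswap u (x v), (mul_eq_zero.1 (show (2 : F) * SympStd.sympB 2 F u (x v) = 0 by linear_combination h0)).resolve_left h2,
          neg_zero]
      obtain ⟨w₁, -, hc1⟩ := hfind ⊤ le_top ndTop (by
        intro e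
        have := congrArg (fun W : Submodule F (V 2) => finrank F W) e
        simp [SympStd.finrank_vec] at this)
      set c := SympStd.sympB 2 F w₁ (x w₁) with hc
      obtain ⟨hP, hPnd, hPW, -⟩ := plane_split halt (W := ⊤) (Submodule.mem_top (x := w₁)) (Submodule.mem_top (x := x w₁)) hc1
      have hPx : (Submodule.span F ({w₁, x w₁} : Set (V 2))).map x ≤ Submodule.span F ({w₁, x w₁} : Set (V 2)) := by
        rw [Submodule.map_span, Submodule.span_le]
        rintro _ ⟨y, rfl | rfl, rfl⟩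
        · exact Submodule.subset_span (Set.mem_insert_of_mem _ rfl)
        · rw [hx, neg_one_smul]; exact Submodule.neg_mem _ (Submodule.subset_span (Set.mem_insert _ _))
      obtain ⟨-, -, hsum, hRnd, -⟩ := Pieces.nd_split halt ndTop hPnd hPW
      have hRx := Pieces.perp_inv' hiso hinj le_top hPx (W := ⊤)
      set R := (⊤ : Submodule F (V 2)) ⊓ (SympStd.sympB 2 F).orthogonal (Submodule.span F ({w₁, x w₁} : Set (V 2))) with hR
      have hne : R ≠ ⊥ := fun e => by
        rw [e, finrank_bot, hP, finrank_top, SympStd.finrank_vec] at hsum; omega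
      obtain ⟨w, hw, hww⟩ := hfind R hRx hRnd hne
      obtain ⟨a, b, hab⟩ := Bases.exists_sq_add_sq h2 (one_ne_zero : (1 : F) ≠ 0) (one_ne_zero : (1 : F) ≠ 0)
        (δ * c / SympStd.sympB 2 F w (x w))
      set w₂ := a • w + b • x w with hw₂
      have hw2R : w₂ ∈ R := R.add_mem (R.smul_mem _ hw) (R.smul_mem _ (hRx ⟨w, hw, rfl⟩))
      have hc2 : SympStd.sympB 2 F w₂ (x w₂) = δ * c := by
        rw [hw₂]
        simp only [map_add, map_smul, hx, LinearMap.add_apply, LinearMap.smul_apply, neg_one_smul, map_neg,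
          LinearMap.neg_apply, smul_eq_mul, halt w, halt (x w), hswap w (x w)]
        field_simp at hab
        linear_combination hab
      have hperp : ∀ y ∈ R, SympStd.sympB 2 F w₁ y = 0 ∧ SympStd.sympB 2 F (x w₁) y = 0 := fun y hy =>
        ⟨(mem_perp.1 hy).2 _ (Submodule.subset_span (Set.mem_insert _ _)),
          (mem_perp.1 hy).2 _ (Submodule.subset_span (Set.mem_insert_of_mem _ rfl))⟩
      obtain ⟨o1, o2⟩ := hperp _ hw2R
      obtain ⟨o3, o4⟩ := hperp _ (hRx ⟨w₂, hw2R, rfl⟩)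
      have hdc : δ * c ≠ 0 := mul_ne_zero hδ0 hc1
      refine ⟨![w₁, w₂], ![c⁻¹ • x w₁, (δ * c)⁻¹ • x w₂], 0, ![c, δ * c], _, ?_, ?_, ?_, ?_, ?_,
        Or.inr ⟨rfl, rfl, rfl, hc1, rfl⟩⟩
      · intro i j; fin_cases i <;> fin_cases j
        · simp [← hc, hc1]
        · simp [o3]
        · simp [hswap (x w₁) w₂, o2]
        · simp [hc2, hdc, mul_comm]; field_simp
      · intro i j; fin_cases i <;> fin_cases j <;> simp [halt w₁, halt w₂, o1, hswap w₁ w₂]
      · intro i j; fin_cases i <;> fin_cases j <;>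
          simp [halt (x w₁), halt (x w₂), o4, hswap (x w₁) (x w₂)]
      · intro i; fin_cases i
        · simp [smul_smul, hc1]
        · simp [smul_smul, hdc]
          rw [show δ * c * (c⁻¹ * δ⁻¹) = 1 by field_simp, one_smul]
      · intro i
        have hz1 : (-1 : F) ≠ 1 := fun e => h2 (by linear_combination -e)
        fin_cases i <;> simp [hx, hz1, smul_smul]
  obtain ⟨b, hb⟩ := fam_two hef hee hff
  let T : (V 2) →ₗ[F] (V 2) := b.constr F (Sum.elim ![e 1, δ • e 0] ![δ • f 1, f 0])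
  have hTe : ∀ i, T (e i) = ![e 1, δ • e 0] i := fun i => by
    rw [show e i = b (Sum.inl i) by rw [hb]; rfl, Basis.constr_basis, Sum.elim_inl]
  have hTf : ∀ i, T (f i) = ![δ • f 1, f 0] i := fun i => by
    rw [show f i = b (Sum.inr i) by rw [hb]; rfl, Basis.constr_basis, Sum.elim_inr]
  have hfe : ∀ i j, SympStd.sympB 2 F (f i) (e j) = if j = i then -1 else 0 := fun i j => by
    rw [hswap (e j) (f i), hef]; split_ifs <;> simp
  refine ⟨T, ⟨fun v => ?_, fun u v => ?_⟩, ?_⟩
  · refine LinearMap.congr_fun (show T ∘ₗ T = δ • LinearMap.id from b.ext fun i => ?_) v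
    rcases i with i | i <;> fin_cases i <;> simp [hb, hTe, hTf]
  · refine LinearMap.congr_fun₂ (show (SympStd.sympB 2 F) ∘ₗ T = (SympStd.sympB 2 F).compl₂ T from
      LinearMap.ext_basis b b fun i j => ?_) u v
    rcases i with i | i <;> rcases j with j | j <;> fin_cases i <;> fin_cases j <;>
      simp [hb, hTe, hTf, hef, hee, hff, hfe]
  · rcases hrel with ⟨rfl, rfl, rfl, hp0, hp1⟩ | ⟨rfl, rfl, rfl, hs0, hs1⟩
    · refine ⟨-1, Or.inr rfl, fun v => ?_⟩
      refine LinearMap.congr_fun (show x ∘ₗ T = (-1 : F) • (T ∘ₗ x) from b.ext fun i => ?_) v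
      rcases i with i | i <;> fin_cases i <;> simp [hb, hTe, hTf, hxe, hxf, hp0, hp1]
    · refine ⟨1, Or.inl rfl, fun v => ?_⟩
      have hz1 : (-1 : F) ≠ 1 := fun e => h2 (by linear_combination -e)
      rw [one_smul]
      refine LinearMap.congr_fun (show x ∘ₗ T = T ∘ₗ x from b.ext fun i => ?_) v
      rcases i with i | i <;> fin_cases i <;> simp [hb, hTe, hTf, hxe, hxf, hs1, hz1, smul_smul, hs0, hδ0, mul_comm]

/-- quadratic self-adjoint fields -/
theorem exists_root_gen [Finite F] (h2 : (2 : F) ≠ 0) [Nonempty (Fin d ⊕ Fin d)] (hK : Cfsg.Geo.IsFieldSubalgebra 2 K)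
    (hadj : ∀ a ∈ K, ∀ u v : Fin d ⊕ Fin d → F, SympStd.sympB d F (a *ᵥ u) v = SympStd.sympB d F u (a *ᵥ v)) :
    ∃ δ : F, ¬ IsSquare δ ∧ ∃ T : (V d) →ₗ[F] (V d), BalRoot δ T ∧
      ∀ g : GL (Fin d ⊕ Fin d) F, g ∈ Cfsg.Geo.subalgebraNormalizer K ↔
        ∃ ε : F, (ε = 1 ∨ ε = -1) ∧ ∀ v, lin g (T v) = ε • T (lin g v) := by
  obtain ⟨θ, a, N, hθ, hsq, -, hirr, hspan⟩ := Max.QuadExt.exists_gen hK
  set θ₀ := θ - (a / 2) • (1 : Mat) with hθ₀def
  set δ := a / 2 * (a / 2) - N with hδdef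
  have hθ₀ : θ₀ ∈ K := K.sub_mem hθ (K.smul_mem K.one_mem _)
  have hδ : ¬ IsSquare δ := by
    rintro ⟨s, hs⟩
    refine hirr (s + a / 2) ?_
    rw [hδdef] at hs
    field_simp at hs ⊢
    linear_combination -hs
  have hspan₀ : ∀ x ∈ K, ∃ s t : F, x = s • (1 : Mat) + t • θ₀ := fun x hx => by
    obtain ⟨s, t, rfl⟩ := hspan x hx
    exact ⟨s + t * (a / 2), t, by rw [hθ₀def]; module⟩
  have hθθ : θ₀ * θ₀ = δ • (1 : Mat) := by
    rw [hθ₀def, hδdef]
    simp only [Matrix.mul_sub, Matrix.sub_mul, Matrix.mul_smul, Matrix.smul_mul, Matrix.mul_one, Matrix.one_mul, hsq]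
    match_scalars <;> field_simp <;> ring
  have hsq₀ : θ₀ * θ₀ = (0 : F) • θ₀ - (-δ) • (1 : Mat) := by
    rw [hθθ, zero_smul, zero_sub, neg_smul, neg_neg]
  refine ⟨δ, hδ, Matrix.toLin' θ₀, ⟨fun v => ?_, fun u v => ?_⟩, fun g => ?_⟩
  · rw [Matrix.toLin'_apply, Matrix.toLin'_apply, Matrix.mulVec_mulVec, hθθ, Matrix.smul_mulVec, Matrix.one_mulVec]
  · simp only [Matrix.toLin'_apply]; exact hadj _ hθ₀ u v
  · rw [Max.QuadExt.mem_normalizer hK hspan₀ hθ₀ hsq₀]
    simp only [lin, Matrix.toLin'_apply, zero_smul, zero_sub]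
    constructor
    · rintro (h | h)
      · exact ⟨1, Or.inl rfl, fun v => by rw [one_smul, h]⟩
      · exact ⟨-1, Or.inr rfl, fun v => by rw [neg_one_smul, h]⟩
    · rintro ⟨ε, rfl | rfl, h⟩
      · exact Or.inl fun v => by rw [h, one_smul]
      · exact Or.inr fun v => by rw [h, neg_one_smul]

theorem order_div {r k : ℕ} (hk : k.Prime) (x : ZMod r) :
    (k ∣ orderOf x → orderOf (x ^ k) * k = orderOf x) ∧ (¬ k ∣ orderOf x → orderOf (x ^ k) = orderOf x) := by
  rw [orderOf_pow' x hk.ne_zero]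
  refine ⟨fun h => ?_, fun h => ?_⟩
  · rw [Nat.gcd_eq_right h, Nat.div_mul_cancel h]
  · rw [Nat.Coprime.gcd_eq_one ((Nat.Prime.coprime_iff_not_dvd hk).2 h).symm, Nat.div_one]

/-- the arithmetic of pieces -/
theorem piece_arith {k i i' c c' : ℕ} (hk : k.Prime) (hi0 : 0 < i) (hc : c = if Even i then i else 2 * i)
    (hc' : c' = if Even i' then i' else 2 * i') (h1 : k ∣ i → i' * k = i) (h2 : ¬ k ∣ i → i' = i) (hdvd : k * c' ∣ c) :
    ∀ j, i ∣ 2 * j → k ∣ j := by
  have hki : k ∣ i := by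
    by_contra hn
    rw [h2 hn] at hc'
    rw [← hc, ] at hc'
    subst hc'
    have hc0 : 0 < c' := by rw [hc]; split_ifs <;> omega
    have h3 := Nat.le_of_dvd hc0 hdvd
    have h4 := hk.two_le
    nlinarith
  have h3 := h1 hki
  intro j hj
  rcases Nat.Prime.eq_two_or_odd hk with rfl | hodd
  · have he : Even i := ⟨i', by omega⟩
    rw [if_pos he] at hc
    have he' : Even i' := by
      by_contra hne
      rw [if_neg hne] at hc'
      have h4 := Nat.le_of_dvd (by omega) hdvd
      omega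
    obtain ⟨t, ht⟩ := he'
    obtain ⟨u, hu⟩ := hj
    refine ⟨t * u, ?_⟩
    subst ht; subst h3
    linarith
  · exact (Nat.Coprime.dvd_mul_left ((Nat.Prime.coprime_iff_not_dvd hk).2 fun h => by
      have h4 := (Nat.prime_dvd_prime_iff_eq hk Nat.prime_two).1 h
      omega)).1 (hki.trans hj)

/-- the index is prime to `r` -/
theorem not_dvd_index [Fintype F] (p : ℕ) [Fact p.Prime] [CharP F p] {r k a : ℕ} [hr : Fact r.Prime] (hrp : r ≠ p)
    (hk : 0 < k) {N : Subgroup (GL (Fin d ⊕ Fin d) F)} {Kf : Type*} [Field Kf] [Fintype Kf] (hKc : Fintype.card Kf = Fintype.card F ^ k)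
    (hd : d = k * a) (φ : Matrix.symplecticGroup (Fin a) Kf →* GL (Fin d ⊕ Fin d) F) (hφ : Function.Injective φ)
    (hmem : ∀ g, φ g ∈ N ⊓ Cfsg.spGL d F)
    (hj : ∀ j, orderOf ((Fintype.card F : ℕ) : ZMod r) ∣ 2 * j → k ∣ j) : ¬ r ∣ N.relIndex (Cfsg.spGL d F) := by
  classical
  intro hdvd
  set q := Fintype.card F with hq
  let hom : Matrix.symplecticGroup (Fin a) Kf →* ↥(N ⊓ Cfsg.spGL d F) := φ.codRestrict _ hmem
  obtain ⟨t, ht⟩ := Subgroup.card_dvd_of_injective hom fun x y h => hφ (congrArg Subtype.val h :)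
  have hsp : Nat.card (Cfsg.spGL d F) = Nat.card (symplecticGroup (Fin d) F) := by
    refine (Nat.card_congr (Equiv.ofBijective (fun x => (⟨(exists_gl x).choose, (exists_gl x).choose_spec.1⟩ : Cfsg.spGL d F)) ⟨fun x y h => ?_, fun g => ?_⟩)).symm
    · have h1 := congrArg lin (congrArg Subtype.val h)
      simp only [(exists_gl x).choose_spec.2, (exists_gl y).choose_spec.2] at h1
      exact Subtype.ext (Matrix.toLin'.injective h1)
    · refine ⟨⟨((g : GL (Fin d ⊕ Fin d) F) : Matrix (Fin d ⊕ Fin d) (Fin d ⊕ Fin d) F),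
        SympStd.mem_sp_iff.2 fun u v => g.2 u v⟩, Subtype.ext (Units.ext ?_)⟩
      exact Matrix.toLin'.injective (exists_gl _).choose_spec.2
  have hidx := Subgroup.index_mul_card (N.subgroupOf (Cfsg.spGL d F))
  rw [show Nat.card (N.subgroupOf (Cfsg.spGL d F)) = Nat.card ↥(N ⊓ Cfsg.spGL d F) by
      rw [← Subgroup.inf_subgroupOf_right]; exact Nat.card_congr (Subgroup.subgroupOfEquivOfLe inf_le_right).toEquiv,
    ht, hsp, Symplectic.natCard_sp, Symplectic.natCard_sp, hKc] at hidx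
  let f : ℕ → ℕ := fun i => q ^ (2 * (i + 1)) - 1
  have himg : (Finset.range d).filter (fun i => k ∣ i + 1) = (Finset.range a).image fun l => k * (l + 1) - 1 := by
    ext i
    simp only [Finset.mem_filter, Finset.mem_range, Finset.mem_image]
    constructor
    · rintro ⟨hi, l, hl⟩
      rcases l with _ | l
      · omega
      · exact ⟨l, Nat.lt_of_succ_le (Nat.lt_succ_iff.1 (Nat.succ_lt_succ (Nat.lt_of_mul_lt_mul_left
          (show k * l < k * a by rw [Nat.mul_succ] at hl; omega)))), by omega⟩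
    · rintro ⟨l, hl, rfl⟩
      have h1 : k * (l + 1) ≤ k * a := Nat.mul_le_mul_left k hl
      have h2 : 0 < k * (l + 1) := by positivity
      exact ⟨by omega, l + 1, by omega⟩
  have hsub : ∏ i ∈ (Finset.range d).filter (fun i => k ∣ i + 1), f i = ∏ l ∈ Finset.range a, ((q ^ k) ^ (2 * (l + 1)) - 1) := by
    rw [himg, Finset.prod_image]
    · refine Finset.prod_congr rfl fun l _ => ?_
      have h2 : 0 < k * (l + 1) := by positivity
      show q ^ (2 * (k * (l + 1) - 1 + 1)) - 1 = _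
      rw [Nat.sub_add_cancel h2, ← pow_mul, mul_left_comm]
    · intro l _ l' _ h
      have h2 : 0 < k * (l + 1) := by positivity
      have h2' : 0 < k * (l' + 1) := by positivity
      exact Nat.succ_injective (Nat.eq_of_mul_eq_mul_left hk (show k * (l + 1) = k * (l' + 1) by
        simp only at h; omega))
  rw [← Finset.prod_filter_mul_prod_filter_not (Finset.range d) (fun i => k ∣ i + 1) f, hsub] at hidx
  set P := ∏ l ∈ Finset.range a, ((q ^ k) ^ (2 * (l + 1)) - 1)
  have hq2 : 1 < q := Fintype.one_lt_card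
  have hP : 0 < P := Finset.prod_pos fun l _ => Nat.sub_pos_of_lt (Nat.one_lt_pow (by omega) (Nat.one_lt_pow hk.ne' hq2))
  have h1 : N.relIndex (Cfsg.spGL d F) ∣ q ^ (d ^ 2) * ∏ i ∈ (Finset.range d).filter (fun i => ¬ k ∣ i + 1), f i :=
    ⟨(q ^ k) ^ (a ^ 2) * t, Nat.eq_of_mul_eq_mul_left hP (by
      have : N.relIndex (Cfsg.spGL d F) = (N.subgroupOf (Cfsg.spGL d F)).index := rfl
      rw [this]; linarith)⟩
  rcases hr.out.dvd_mul.1 (hdvd.trans h1) with h | h
  · obtain ⟨n, -, hn⟩ := FiniteField.card F p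
    rw [hq, hn, ← pow_mul] at h
    exact hrp ((Nat.prime_dvd_prime_iff_eq hr.out Fact.out).1 (hr.out.dvd_of_dvd_pow h))
  · obtain ⟨i, hi, hi'⟩ := (Prime.dvd_finsetProd_iff hr.out.prime _).1 h
    refine (Finset.mem_filter.1 hi).2 (hj _ (orderOf_dvd_of_pow_eq_one ?_))
    have hi2 : r ∣ q ^ (2 * (i + 1)) - 1 := hi'
    rw [← Nat.modEq_iff_dvd' (Nat.one_le_pow _ _ (by omega)), ← ZMod.natCast_eq_natCast_iff,
      Nat.cast_pow, Nat.cast_one] at hi2
    exact hi2.symm

theorem fix_conj [Fintype F] {g x : GL (Fin d ⊕ Fin d) F} :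
    finrank F (fixSp (lin (g⁻¹ * x * g))) = finrank F (fixSp (lin x)) := by
  let e : (V d) ≃ₗ[F] (V d) := LinearEquiv.ofLinear (lin g) (lin g⁻¹) (LinearMap.ext fun v => lin_can' g v)
    (LinearMap.ext fun v => lin_can g v)
  have h : (fixSp (lin (g⁻¹ * x * g))).map (e : (V d) →ₗ[F] (V d)) = fixSp (lin x) := by
    ext v
    constructor
    · rintro ⟨w, hw, rfl⟩
      have hw' := mem_fixSp.1 hw
      rw [lin_conj] at hw'
      refine mem_fixSp.2 ?_
      show lin x (lin g w) = lin g w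
      conv_rhs => rw [← hw', lin_can']
    · intro hv
      exact ⟨lin g⁻¹ v, mem_fixSp.2 (by rw [lin_conj, lin_can', mem_fixSp.1 hv]), lin_can' g v⟩
  rw [← h]
  exact (Submodule.equivMapOfInjective (e : (V d) →ₗ[F] (V d)) e.injective _).finrank_eq

/-- Elements of prime order of PSp_n(q) and the field-extension subgroups of type Sp_{n/k}(q^k). Here `T = PSp_{2d}(F)` for a field `F` with `q` elements (`d ≥ 2`, `(d, q) ≠ (2, 2)`), realised through the matrices preserving the standard alternating form `f`; `k` is a prime and `K` is a subalgebra of the `2d × 2d` matrices that is a field of degree `k` over `F` whose elements are self-adjoint for `f` and satisfy `f(a v, v) = 0` (so `F^{2d}` becomes a vector space over `K ≅ F_{q^k}` on which `f` is the trace of a `K`-bilinear alternating form); `H` is the subgroup of `T` normalizing `K` — the symplectic maps that are `K`-linear or `K`-semilinear, a subgroup of type Sp_{2d/k}(q^k) (maximality is not assumed). Ω is the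 set of cosets of `H` in `T`, so an element of `T` of prime order `r` (`x ∈ T` with `x^r` scalar, `x` not scalar) fixes a point of Ω exactly when some `T`-conjugate of `x` normalizes `K`. Let `r` be a prime dividing the index of `H`. Then every element of `T` of order `r` fixes a point of Ω if and only if `r = 2`, `d = 2`, `k = 2` and `q` is odd. -/
theorem result {F : Type*} [Field F] [Fintype F] {p : ℕ} [Fact p.Prime] [CharP F p] {q : ℕ} (hq : Fintype.card F = q)
    (d : ℕ) (hd : 2 ≤ d) (hT : (d, q) ≠ (2, 2)) (k : ℕ) (hk : k.Prime)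
    (K : Subalgebra F (Matrix (Fin d ⊕ Fin d) (Fin d ⊕ Fin d) F)) (hK : Cfsg.Geo.IsFieldSubalgebra k K)
    (hKf : Cfsg.Geo.IsSelfAdjointFor (Cfsg.sympForm d F) K) (hKalt : ∀ a ∈ K, ∀ v : Fin d ⊕ Fin d → F, Cfsg.sympForm d F (a *ᵥ v) v = 0)
    (r : ℕ) [Fact r.Prime]
    (hΩ : r ∣ (Cfsg.Geo.subalgebraNormalizer K).relIndex (Cfsg.spGL d F)) :
    (∀ x ∈ Cfsg.spGL d F, (∃ z : F, ((x ^ r : GL (Fin d ⊕ Fin d) F) : Matrix (Fin d ⊕ Fin d) (Fin d ⊕ Fin d) F) = z • (1 : Matrix (Fin d ⊕ Fin d) (Fin d ⊕ Fin d) F)) →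
      (∀ z : F, (x : Matrix (Fin d ⊕ Fin d) (Fin d ⊕ Fin d) F) ≠ z • (1 : Matrix (Fin d ⊕ Fin d) (Fin d ⊕ Fin d) F)) →
      ∃ g ∈ Cfsg.spGL d F, g⁻¹ * x * g ∈ Cfsg.Geo.subalgebraNormalizer K) ↔
    (r = 2 ∧ d = 2 ∧ k = 2 ∧ Odd q) := by
  classical
  subst hq
  haveI : Nonempty (Fin d ⊕ Fin d) := ⟨Sum.inl ⟨0, by omega⟩⟩
  have hadj : ∀ a ∈ K, ∀ u v : Fin d ⊕ Fin d → F, SympStd.sympB d F (a *ᵥ u) v = SympStd.sympB d F u (a *ᵥ v) :=
    fun a ha u v => by rw [SympStd.sympB_apply, SympStd.sympB_apply]; exact hKf a ha u v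
  have halt : ∀ a ∈ K, ∀ v : Fin d ⊕ Fin d → F, SympStd.sympB d F (a *ᵥ v) v = 0 :=
    fun a ha v => by rw [SympStd.sympB_apply]; exact hKalt a ha v
  have hfield : IsField K :=
    { exists_pair_ne := ⟨0, 1, zero_ne_one⟩
      mul_comm := fun x y => Subtype.ext (hK.comm x.1 x.2 y.1 y.2)
      mul_inv_cancel := fun {x} hx => by
        obtain ⟨y, hy, e⟩ := hK.inv x.1 x.2 fun h => hx (Subtype.ext h)
        exact ⟨⟨y, hy⟩, Subtype.ext e⟩ }
  letI : Field K := hfield.toField
  haveI : FiniteDimensional F K := Module.finite_of_finrank_pos (by rw [hK.finrank_eq]; exact hk.pos)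
  haveI : Finite K := Module.finite_of_finite F
  letI : Fintype K := Fintype.ofFinite K
  have hsmul : ∀ (a : K) (v : Fin d ⊕ Fin d → F), a • v = (a : Matrix (Fin d ⊕ Fin d) (Fin d ⊕ Fin d) F) *ᵥ v :=
    fun a v => rfl
  haveI : IsScalarTower F K (Fin d ⊕ Fin d → F) := IsScalarTower.of_algebraMap_smul fun c v => by
    rw [hsmul]
    show algebraMap F (Matrix (Fin d ⊕ Fin d) (Fin d ⊕ Fin d) F) c *ᵥ v = c • v
    rw [Algebra.algebraMap_eq_smul_one, Matrix.smul_mulVec, Matrix.one_mulVec]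
  have hKc : Fintype.card K = Fintype.card F ^ k := by
    rw [← Nat.card_eq_fintype_card, Module.natCard_eq_pow_finrank (K := F), Nat.card_eq_fintype_card, hK.finrank_eq]
  have hadjK : ∀ (a : K) (x y : Fin d ⊕ Fin d → F), SympStd.sympB d F (a • x) y = SympStd.sympB d F x (a • y) :=
    fun a x y => by rw [hsmul, hsmul]; exact hadj a.1 a.2 x y
  have haltK : ∀ (a : K) (x : Fin d ⊕ Fin d → F), SympStd.sympB d F (a • x) x = 0 :=
    fun a x => by rw [hsmul]; exact halt a.1 a.2 x
  obtain ⟨a₀, hda, φ, hφinj, hφ⟩ := exists_sub (K := K) hadjK haltK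
  rw [hK.finrank_eq] at hda
  have hd0 : 0 < d := by omega
  have hkd : k ∣ 2 * d := Dvd.dvd.mul_left ⟨a₀, hda⟩ 2
  constructor
  · intro H
    have key : ∀ x ∈ Cfsg.spGL d F, lin x ^ r = 1 → (∀ z : F, ∃ v, lin x v ≠ z • v) →
        ∃ g ∈ Cfsg.spGL d F, g⁻¹ * x * g ∈ Cfsg.Geo.subalgebraNormalizer K := by
      intro x hx hxr hx1
      refine H x hx ⟨1, Matrix.toLin'.injective (by
        rw [one_smul, Matrix.toLin'_one, Units.val_pow_eq_pow_val, Matrix.toLin'_pow]; exact hxr)⟩ fun z hz => ?_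
      obtain ⟨v, hv⟩ := hx1 z
      exact hv (by rw [lin, hz, Matrix.toLin'_apply, Matrix.smul_mulVec, Matrix.one_mulVec])
    by_cases hrp : r = p
    · exfalso
      subst hrp
      set u : Fin d ⊕ Fin d → F := Pi.single (Sum.inl ⟨0, hd0⟩) 1 with hu
      obtain ⟨x, hx, hxl⟩ := exists_gl (SympStd.tv u (1 : F))
      have hxv : ∀ v, lin x v = v + SympStd.sympB d F v u • u := fun v => by
        rw [hxl, Matrix.toLin'_apply, SympStd.tv_mulVec, one_mul, SympStd.sympB_apply]
      have hpow : ∀ (n : ℕ) v, (lin x ^ n) v = v + ((n : F) * SympStd.sympB d F v u) • u := fun n => by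
        induction n with
        | zero => simp
        | succ n ih =>
          intro v
          rw [pow_succ', Module.End.mul_apply, ih, hxv, map_add, map_smul, LinearMap.add_apply, LinearMap.smul_apply,
            show SympStd.sympB d F u u = 0 from SympStd.sympB_isAlt u, smul_zero, add_zero, Nat.cast_succ]
          module
      have hu0 : u ≠ 0 := fun e => by simpa [hu] using congrFun e (Sum.inl ⟨0, hd0⟩)
      obtain ⟨g, hg, hgx⟩ := key x hx (LinearMap.ext fun v => by rw [hpow, CharP.cast_eq_zero]; simp) fun z => by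
        by_contra hcon
        push Not at hcon
        have h1 := hcon u
        rw [hxv, show SympStd.sympB d F u u = 0 from SympStd.sympB_isAlt u, zero_smul, add_zero] at h1
        have hz : z = 1 := smul_left_injective F hu0 (h1.symm.trans (one_smul F u).symm)
        have h := hxv (Pi.single (Sum.inr ⟨0, hd0⟩) 1)
        rw [hcon, hz, one_smul, left_eq_add, smul_eq_zero, SympStd.sympB_apply, hu, SympStd.sympForm_inr_inl] at h
        simp [hu] at h
      exact no_root_tv hd hk hK hu0 hxv hg hgx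
    by_cases hr2 : r = 2
    · subst hr2
      have h2 : (2 : F) ≠ 0 := fun e => hrp ((Nat.prime_dvd_prime_iff_eq (Fact.out : p.Prime) Nat.prime_two).1
        ((CharP.cast_eq_zero_iff F p 2).1 (by exact_mod_cast e))).symm
      refine ⟨rfl, ?_⟩
      have hodd : Odd (Fintype.card F) := by
        rw [Nat.odd_iff]
        refine FiniteField.odd_card_of_char_ne_two ?_
        rw [ringChar.eq F p]; exact Ne.symm hrp
      by_contra hcon
      have hd' : 3 ≤ d ∨ (2 ≤ d ∧ k ≠ 2) := by
        by_contra h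
        push Not at h
        exact hcon ⟨by omega, h.2 hd, hodd⟩
      set e : Fin d ⊕ Fin d → F := Pi.single (Sum.inr ⟨0, hd0⟩) 1 with he
      set f : Fin d ⊕ Fin d → F := Pi.single (Sum.inl ⟨0, hd0⟩) 1 with hf
      have hef : SympStd.sympB d F e f = 1 := by
        rw [SympStd.sympB_apply, he, hf, SympStd.sympForm_inr_inl, if_pos rfl]
      have hfe : SympStd.sympB d F f e = -1 := by
        rw [← LinearMap.IsAlt.neg (B := SympStd.sympB d F) SympStd.sympB_isAlt e f, hef]
      have hee : SympStd.sympB d F e e = 0 := SympStd.sympB_isAlt e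
      have hff : SympStd.sympB d F f f = 0 := SympStd.sympB_isAlt f
      let ρ : (Fin d ⊕ Fin d → F) →ₗ[F] (Fin d ⊕ Fin d → F) := LinearMap.id - (2 : F) • ((SympStd.sympB d F).flip f).smulRight e +
        (2 : F) • ((SympStd.sympB d F).flip e).smulRight f
      have hρ : ∀ v, ρ v = v - (2 * SympStd.sympB d F v f) • e + (2 * SympStd.sympB d F v e) • f := fun v => by
        simp [ρ, smul_smul]
      have hρρ : ∀ v, ρ (ρ v) = v := fun v => by
        simp only [hρ, map_add, map_sub, map_smul, LinearMap.add_apply, LinearMap.sub_apply, LinearMap.smul_apply,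
          smul_eq_mul, hef, hfe, hee, hff]
        module
      have hρiso : ∀ u v, SympStd.sympB d F (ρ u) (ρ v) = SympStd.sympB d F u v := fun u v => by
        simp only [hρ, map_add, map_sub, map_smul, LinearMap.add_apply, LinearMap.sub_apply, LinearMap.smul_apply,
          smul_eq_mul, hef, hfe, hee, hff, ← LinearMap.IsAlt.neg (B := SympStd.sympB d F) SympStd.sympB_isAlt v e,
          ← LinearMap.IsAlt.neg (B := SympStd.sympB d F) SympStd.sympB_isAlt v f]
        ring
      let E : (Fin d ⊕ Fin d → F) ≃ₗ[F] (Fin d ⊕ Fin d → F) := LinearEquiv.ofLinear ρ ρ (LinearMap.ext hρρ) (LinearMap.ext hρρ)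
      obtain ⟨x, hx, hxl⟩ := exists_gl (SympStd.ofEquiv E fun u v => by
        rw [← SympStd.sympB_apply, ← SympStd.sympB_apply]; exact hρiso u v)
      have hxρ : ∀ v, lin x v = ρ v := fun v => by rw [hxl, Matrix.toLin'_apply, SympStd.ofEquiv_mulVec]; rfl
      have hxv : ∀ v, lin x v = v - (2 * SympStd.sympB d F v f) • e + (2 * SympStd.sympB d F v e) • f :=
        fun v => (hxρ v).trans (hρ v)
      obtain ⟨g, hg, hgx⟩ := key x hx (LinearMap.ext fun v => by
        rw [sq, Module.End.mul_apply, hxρ, hxρ, hρρ]; rfl) fun z => by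
        by_contra h
        push Not at h
        set w : Fin d ⊕ Fin d → F := Pi.single (Sum.inl ⟨1, by omega⟩) 1 with hw
        have h1 := h e
        have h3 := h w
        rw [hxv, hef, hee] at h1
        rw [hxv, SympStd.sympB_apply, SympStd.sympB_apply, he, hf, hw, SympStd.sympForm_inl_inl,
          SympStd.sympForm_inl_inr, if_neg (by simp)] at h3
        simp only [mul_one, mul_zero, zero_smul, add_zero, sub_zero] at h1 h3
        have hz : z = 1 := by simpa using (congrFun h3 (Sum.inl ⟨1, by omega⟩)).symm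
        have h4 : (2 : F) • e = 0 := by rw [hz, one_smul, sub_eq_self] at h1; exact h1
        rcases smul_eq_zero.1 h4 with h5 | h5
        · exact h2 h5
        · simpa [he] using congrFun h5 (Sum.inr ⟨0, hd0⟩)
      exact no_root_plane h2 hd' hk hK hkd halt hef hxv hg hgx
    exfalso
    have hr0 : (r : F) ≠ 0 := natCast_prime_ne_zero p hrp
    set i := orderOf ((Fintype.card F : ℕ) : ZMod r) with hi
    have hi0 : 0 < i := order_pos p hrp
    have hro : Odd r := (Fact.out : r.Prime).odd_of_ne_two hr2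
    obtain ⟨t, ht, hit⟩ : ∃ t, t ≤ d ∧ 0 < t ∧ i ∣ 2 * t := by
      have hX : r ∣ Nat.card (Cfsg.spGL d F) := hΩ.trans (Subgroup.index_dvd_card _)
      have hsp : Nat.card (Cfsg.spGL d F) ∣ Nat.card (symplecticGroup (Fin d) F) := by
        refine Subgroup.card_dvd_of_injective
          ({ toFun := fun g => ⟨((g : GL (Fin d ⊕ Fin d) F) : Matrix (Fin d ⊕ Fin d) (Fin d ⊕ Fin d) F), SympStd.mem_sp_iff.2 fun u v => g.2 u v⟩
             map_one' := rfl
             map_mul' := fun _ _ => rfl } : Cfsg.spGL d F →* symplecticGroup (Fin d) F)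
          fun g h e => Subtype.ext (Units.ext (congrArg Subtype.val e :))
      have hX' := hX.trans hsp
      rw [Symplectic.natCard_sp] at hX'
      rcases (Fact.out : r.Prime).dvd_mul.1 hX' with h1 | h1
      · obtain ⟨n, -, hn⟩ := FiniteField.card F p
        rw [hn, ← pow_mul] at h1
        exact absurd ((Nat.prime_dvd_prime_iff_eq Fact.out Fact.out).1 ((Fact.out : r.Prime).dvd_of_dvd_pow h1)) hrp
      · obtain ⟨b, hb, hb'⟩ := (Prime.dvd_finsetProd_iff (Fact.out : r.Prime).prime _).1 h1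
        refine ⟨b + 1, by have := Finset.mem_range.1 hb; omega, by omega, orderOf_dvd_of_pow_eq_one ?_⟩
        rw [← Nat.modEq_iff_dvd' (Nat.one_le_pow _ _ Fintype.card_pos), ← ZMod.natCast_eq_natCast_iff,
          Nat.cast_pow, Nat.cast_one] at hb'
        exact hb'.symm
    set c := if Even i then i else 2 * i with hc
    have hir : i ∣ r - 1 := by
      refine orderOf_dvd_of_pow_eq_one (ZMod.pow_card_sub_one_eq_one fun e => hrp ?_)
      obtain ⟨n, -, hn⟩ := FiniteField.card F p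
      rw [ZMod.natCast_eq_zero_iff, hn] at e
      exact (Nat.prime_dvd_prime_iff_eq Fact.out Fact.out).1 ((Fact.out : r.Prime).dvd_of_dvd_pow e)
    have hcr : c ∣ r - 1 := by
      rw [hc]
      split_ifs with he
      · exact hir
      · refine Nat.Coprime.mul_dvd_of_dvd_of_dvd (Nat.coprime_two_left.2 (Nat.not_even_iff_odd.1 he)) ?_ hir
        obtain ⟨n, hn⟩ := hro
        exact ⟨n, by omega⟩
    have hcd : c ≤ 2 * d ∧ Even c := by
      rw [hc]
      split_ifs with he
      · exact ⟨(Nat.le_of_dvd (by omega) hit.2).trans (by omega), he⟩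
      · have h3 : i ∣ t := (Nat.Coprime.dvd_mul_left
          (Nat.coprime_two_right.2 (Nat.not_even_iff_odd.1 he))).1 hit.2
        exact ⟨Nat.mul_le_mul_left 2 ((Nat.le_of_dvd hit.1 h3).trans ht), even_two_mul i⟩
    obtain ⟨e, he⟩ := hcd.2
    have hc0 : 0 < c := by rw [hc]; split_ifs <;> omega
    obtain ⟨y, hy, hyfix⟩ := S5961.exists_model p hrp hr2 hi hc (d := d) (s := 1) (e := e) (by omega) (by omega)
    obtain ⟨x, hx, hxl⟩ := exists_gl y
    rw [← hxl] at hy hyfix
    obtain ⟨g, hg, hgx⟩ := key x hx (LinearMap.ext hy) fun z => by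
      by_contra hcon
      push Not at hcon
      by_cases hz : z = 1
      · have h1 : fixSp (lin x) = ⊤ := eq_top_iff.2 fun v _ => mem_fixSp.2 (by rw [hcon, hz, one_smul])
        rw [h1, finrank_top, SympStd.finrank_vec] at hyfix
        omega
      · set v : Fin d ⊕ Fin d → F := Pi.single (Sum.inl ⟨0, hd0⟩) 1 with hv
        set w : Fin d ⊕ Fin d → F := Pi.single (Sum.inr ⟨0, hd0⟩) 1 with hw
        have hv0 : v ≠ 0 := fun e' => by simpa [hv] using congrFun e' (Sum.inl ⟨0, hd0⟩)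
        have h3 := (mem_spGL.1 hx) v w
        rw [hcon, hcon, map_smul, map_smul, LinearMap.smul_apply, smul_eq_mul, smul_eq_mul, hv, hw,
          SympStd.sympB_apply, SympStd.sympForm_inl_inr, if_pos rfl] at h3
        have hzz : z * z = 1 := by linear_combination (-1 : F) * h3
        have hpw : ∀ (n : ℕ) u, (lin x ^ n) u = z ^ n • u := fun n => by
          induction n with
          | zero => simp
          | succ n ih => intro u; rw [pow_succ', Module.End.mul_apply, ih, map_smul, hcon, smul_smul, ← pow_succ]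
        have h4 := (hpw r v).symm.trans (hy v)
        obtain ⟨n, hn⟩ := hro
        rw [hn, pow_succ, pow_mul, sq, hzz, one_pow, one_mul] at h4
        exact hz (smul_left_injective F hv0 (h4.trans (one_smul F v).symm))
    set G := g⁻¹ * x * g with hG
    have hGfix : finrank F (fixSp (lin G)) = 2 * (d - e) := by rw [hG, fix_conj, hyfix, one_mul]
    have hGr : G ^ r = 1 := by
      have hxr : x ^ r = 1 := Units.ext (Matrix.toLin'.injective (by
        rw [Units.val_pow_eq_pow_val, Matrix.toLin'_pow, Units.val_one, Matrix.toLin'_one]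
        exact LinearMap.ext hy))
      rw [hG, show g⁻¹ * x * g = g⁻¹ * x * g⁻¹⁻¹ by rw [inv_inv], conj_pow, hxr, mul_one, mul_inv_cancel]
    have hGiso := mem_spGL.1 ((Cfsg.spGL d F).mul_mem ((Cfsg.spGL d F).mul_mem ((Cfsg.spGL d F).inv_mem hg) hx) hg)
    have hcomm : ∀ b ∈ K, ∀ v, lin G (b *ᵥ v) = b *ᵥ lin G v := by
      by_contra hcon
      push Not at hcon
      obtain ⟨b, hb, v, hne⟩ := hcon
      have hrk := degree_of_semilinear hk hK hgx hGr hb hne
      have hsmall : finrank F (fixSp (lin G)) ≤ d := by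
        by_contra hbig
        exact hne (comm_of_fixed hK hgx one_ne_zero (W := fixSp (lin G))
          (fun w hw => by rw [mem_fixSp.1 hw, one_smul]) (by omega) b hb v)
      have hcr' := Nat.le_of_dvd (by have := (Fact.out : r.Prime).two_le; omega) hcr
      have hkd' : k ∣ d := ⟨a₀, hda⟩
      have hkd'' := Nat.le_of_dvd hd0 hkd'
      omega
    have hord := order_div hk ((Fintype.card F : ℕ) : ZMod r)
    set i' := orderOf ((Fintype.card K : ℕ) : ZMod r) with hi'
    rw [← hi, show ((Fintype.card F : ℕ) : ZMod r) ^ k = ((Fintype.card K : ℕ) : ZMod r) by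
      rw [hKc, Nat.cast_pow], ← hi'] at hord
    have hc0' : 0 < if Even i' then i' else 2 * i' := by
      have : 0 < i' := by
        by_cases hki : k ∣ i
        · have := hord.1 hki
          rcases Nat.eq_zero_or_pos i' with h | h
          · rw [h, zero_mul] at this; omega
          · exact h
        · rw [hord.2 hki]; exact hi0
      split_ifs <;> omega
    have hdvd := piece_dvd (K := K) hadjK haltK hr2 hr0 hi' rfl hc0' (y := lin G)
      (fun v => by rw [← lin_pow, hGr, lin_one]) hGiso (fun b v => by rw [hsmul, hsmul]; exact hcomm b.1 b.2 v)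
    rw [hK.finrank_eq, hGfix, SympStd.finrank_vec, show 2 * d - 2 * (d - e) = c by omega] at hdvd
    refine not_dvd_index p hrp hk.pos hKc hda φ hφinj (fun g' => ⟨mem_of_comm (fun b hb v => ?_), (hφ g').1⟩)
      (piece_arith hk hi0 hc rfl hord.1 hord.2 hdvd) hΩ
    have := (hφ g').2 ⟨b, hb⟩ v
    rwa [hsmul, hsmul] at this
  · rintro ⟨rfl, rfl, rfl, hodd⟩ x hx ⟨z, hz⟩ hns
    have h2 : (2 : F) ≠ 0 := OrthForms.two_ne_zero_of_odd hodd
    obtain ⟨δ, hδ, T₀, hT₀, hmem⟩ := exists_root_gen h2 hK hadj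
    have hiso := mem_spGL.1 hx
    have hxx : ∀ v, lin x (lin x v) = z • v := fun v => by
      rw [← Module.End.mul_apply, ← sq, ← lin_pow, lin, hz, Matrix.toLin'_apply, Matrix.smul_mulVec, Matrix.one_mulVec]
    have hz1 : z = 1 ∨ z = -1 := by
      refine mul_self_eq_one_iff.1 ?_
      have h3 := hiso (lin x (Pi.single (Sum.inl 0) 1)) (lin x (Pi.single (Sum.inr 0) 1))
      rw [hxx, hxx, hiso, map_smul, map_smul, LinearMap.smul_apply, smul_eq_mul, smul_eq_mul,
        SympStd.sympB_apply, SympStd.sympForm_inl_inr, if_pos rfl] at h3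
      linear_combination (-1 : F) * h3
    obtain ⟨T, hT, ε, hε, hTx⟩ := exists_bal h2 (fun (e : δ = 0) => hδ (e ▸ ⟨0, by simp⟩)) hiso hz1 hxx fun c => by
      by_contra h
      push Not at h
      exact hns c (Matrix.toLin'.injective (LinearMap.ext fun v => by
        rw [map_smul, Matrix.toLin'_one, LinearMap.smul_apply, LinearMap.id_apply]; exact h v))
    obtain ⟨g, hg, hgT⟩ := exists_conj h2 hδ hT₀ hT
    refine ⟨g, hg, (hmem _).2 ⟨ε, hε, fun v => ?_⟩⟩
    have h' : ∀ w, lin g⁻¹ (T w) = T₀ (lin g⁻¹ w) := fun w => by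
      rw [← lin_can g (T₀ (lin g⁻¹ w)), hgT, lin_can']
    rw [lin_conj, lin_conj, hgT, hTx, map_smul, h']

end Cfsg.Agent.S5975
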