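import Cfsg.Statements.S5980
import Cfsg.Agent.S5975
import Cfsg.Agent.S5979

set_option autoImplicit false
open scoped MatrixGroups
open Cfsg

namespace Cfsg.Agent.S5980

open Cfsg.Agent.Forms Cfsg.Agent.Forms.Elusive Cfsg.Agent.Classical Module Matrix Kronecker
open Cfsg.Agent.S5976 (lin lin_mul lin_one lin_pow mem_spGL exists_gl ndTop family_cons basis_of_family)
open Cfsg.Agent.S5975 (lin_conj lin_can lin_can')
open Cfsg.Agent.S5979 (rank_ge rank_one_kronecker rk_eq_rank order_le_rank)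

variable {F : Type*} [Field F]

/-! ### rank bounds -/

/-- powers of a Kronecker product -/
theorem kron_pow {a b : ℕ} (A : Matrix (Fin a) (Fin a) F) (B : Matrix (Fin b) (Fin b) F) (k : ℕ) :
    (A ⊗ₖ B) ^ k = (A ^ k) ⊗ₖ (B ^ k) := by
  induction k with
  | zero => simp
  | succ k ih => rw [pow_succ, ih, pow_succ, pow_succ, ← Matrix.mul_kronecker_mul]

theorem rank_swap {a b : ℕ} (A : Matrix (Fin a) (Fin a) F) (B : Matrix (Fin b) (Fin b) F) :
    (A ⊗ₖ B - (1 : F) • 1).rank = (B ⊗ₖ A - (1 : F) • 1).rank := by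
  rw [show B ⊗ₖ A - (1 : F) • 1 = (A ⊗ₖ B - (1 : F) • 1).submatrix (Equiv.prodComm _ _) (Equiv.prodComm _ _) by
    ext ⟨i, j⟩ ⟨k, l⟩
    simp [Matrix.one_apply, mul_comm, and_comm]]
  exact (Matrix.rank_submatrix _ _ _).symm

theorem kron_vec {a b : ℕ} (A : Matrix (Fin a) (Fin a) F) (B : Matrix (Fin b) (Fin b) F) (w : Fin a × Fin b → F)
    (i : Fin a) : (fun j => ((A ⊗ₖ B) *ᵥ w) (i, j)) = ∑ k, A i k • (B *ᵥ fun l => w (k, l)) := by
  funext j
  simp only [Matrix.mulVec, dotProduct, Matrix.kroneckerMap_apply, Fintype.sum_prod_type, Finset.sum_apply,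
    Pi.smul_apply, smul_eq_mul, Finset.mul_sum, mul_assoc]

/-- generators of the left factor bound the fixed space -/
theorem rk_gen {a b g : ℕ} (A : Matrix (Fin a) (Fin a) F) (B : GL (Fin b) F) (v : Fin g → (Fin a → F))
    (hgen : ∀ S : Submodule F (Fin a → F), (∀ j, v j ∈ S) → S.map (Matrix.toLin' Aᵀ) ≤ S → S = ⊤) :
    a * b ≤ (A ⊗ₖ (B : Matrix (Fin b) (Fin b) F) - (1 : F) • 1).rank + g * b := by
  classical
  set M := A ⊗ₖ (B : Matrix (Fin b) (Fin b) F) - (1 : F) • 1 with hM
  let φ : LinearMap.ker M.mulVecLin →ₗ[F] (Fin g → Fin b → F) :=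
    { toFun := fun w j l => ∑ k, v j k * (w : Fin a × Fin b → F) (k, l)
      map_add' := fun x y => funext fun j => funext fun l => by simp [mul_add, Finset.sum_add_distrib]
      map_smul' := fun c x => funext fun j => funext fun l => by simp [Finset.mul_sum, mul_left_comm] }
  have hinj : Function.Injective φ := by
    rw [injective_iff_map_eq_zero]
    intro w hw
    let W : Matrix (Fin a) (Fin b) F := Matrix.of fun i l => (w : Fin a × Fin b → F) (i, l)
    let ψ : (Fin a → F) →ₗ[F] (Fin b → F) := W.vecMulLinear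
    have hfix : A * W * (B : Matrix (Fin b) (Fin b) F)ᵀ = W := by
      ext i l
      have h : (M *ᵥ (w : Fin a × Fin b → F)) (i, l) = 0 := congrFun (LinearMap.mem_ker.1 w.2) (i, l)
      simp only [M, one_smul, Matrix.sub_mulVec, Matrix.one_mulVec, Pi.sub_apply, sub_eq_zero] at h
      rw [show W i l = (w : Fin a × Fin b → F) (i, l) from rfl, ← h]
      simp only [Matrix.mul_apply, Matrix.transpose_apply, Matrix.mulVec, dotProduct, Matrix.kroneckerMap_apply,
        Fintype.sum_prod_type, Finset.sum_mul, W, Matrix.of_apply]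
      rw [Finset.sum_comm]
      exact Finset.sum_congr rfl fun k _ => Finset.sum_congr rfl fun m _ => by ring
    have heq : ∀ u, (B : Matrix (Fin b) (Fin b) F) *ᵥ ψ (Matrix.toLin' Aᵀ u) = ψ u := fun u => by
      show (B : Matrix (Fin b) (Fin b) F) *ᵥ ((Matrix.toLin' Aᵀ u) ᵥ* W) = u ᵥ* W
      rw [Matrix.toLin'_apply, Matrix.mulVec_transpose, Matrix.vecMul_vecMul, ← Matrix.vecMul_transpose,
        Matrix.vecMul_vecMul, hfix]
    have hker : (LinearMap.ker ψ).map (Matrix.toLin' Aᵀ) ≤ LinearMap.ker ψ := by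
      rintro _ ⟨u, hu, rfl⟩
      refine LinearMap.mem_ker.2 (Matrix.mulVec_injective_iff_isUnit.2 B.isUnit ?_)
      rw [heq, Matrix.mulVec_zero]
      exact hu
    have htop := hgen _ (fun j => LinearMap.mem_ker.2 (show ψ (v j) = 0 from congrFun hw j)) hker
    refine Subtype.ext (funext fun ⟨i, l⟩ => ?_)
    have hm : (Pi.single i 1 : Fin a → F) ∈ LinearMap.ker ψ := by rw [htop]; exact Submodule.mem_top
    have h := congrFun (LinearMap.mem_ker.1 hm) l
    simpa [ψ, W, Matrix.single_one_vecMul] using h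
  have h1 := LinearMap.finrank_le_finrank_of_injective hinj
  rw [Module.finrank_pi_fintype, Finset.sum_const, Finset.card_univ, Fintype.card_fin, smul_eq_mul, Module.finrank_fin_fun] at h1
  have h2 := LinearMap.finrank_range_add_finrank_ker M.mulVecLin
  rw [Module.finrank_pi F, Fintype.card_prod, Fintype.card_fin, Fintype.card_fin] at h2
  rw [Matrix.rank]
  omega

/-- a nontrivial element of prime order on the left -/
theorem rk_cyclic [Fintype F] {a b r i : ℕ} [hr : Fact r.Prime] (hr0 : (r : F) ≠ 0)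
    (hi : i = orderOf ((Fintype.card F : ℕ) : ZMod r)) (hi0 : 0 < i)
    {A : Matrix (Fin a) (Fin a) F} (hA : A ^ r = 1) (hA1 : A ≠ 1) (B : GL (Fin b) F) :
    (i - 1) * b ≤ (A ⊗ₖ (B : Matrix (Fin b) (Fin b) F) - (1 : F) • 1).rank := by
  set f := Matrix.toLin' Aᵀ with hf
  have hfr : ∀ v, (f ^ r) v = v := fun v => by
    rw [hf, ← Matrix.toLin'_pow, ← Matrix.transpose_pow, hA, Matrix.transpose_one, Matrix.toLin'_one, LinearMap.id_apply]
  obtain ⟨D, -, -, hd, hD, hsum⟩ := exists_free_part hr0 hfr (W := ⊤) le_top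
  rw [inf_top_eq, finrank_top, ← hi] at *
  obtain ⟨v, hv, hv0⟩ : ∃ v ∈ D, v ≠ 0 := by
    by_contra hcon
    push Not at hcon
    have h0 : D = ⊥ := (Submodule.eq_bot_iff D).2 hcon
    rw [h0, finrank_bot] at hsum
    have hfix : fixSp f = ⊤ := Submodule.eq_top_of_finrank_eq (by omega)
    refine hA1 (Matrix.transpose_injective (Matrix.toLin'.injective (LinearMap.ext fun u => ?_)))
    rw [← hf, Matrix.transpose_one, Matrix.toLin'_one, LinearMap.id_apply]
    exact mem_fixSp.1 (hfix ▸ Submodule.mem_top)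
  let φ : Polynomial F →ₗ[F] (Fin a → F) :=
    { toFun := fun P => Polynomial.aeval f P v
      map_add' := fun P Q => by rw [map_add, LinearMap.add_apply]
      map_smul' := fun c P => by rw [map_smul, LinearMap.smul_apply]; rfl }
  have hSD : LinearMap.range φ ≤ D := by
    rintro _ ⟨P, rfl⟩; exact aeval_mem hD.inv P hv
  have hSi : (LinearMap.range φ).map f ≤ LinearMap.range φ := by
    rintro _ ⟨_, ⟨P, rfl⟩, rfl⟩
    exact ⟨Polynomial.X * P, by show Polynomial.aeval f (Polynomial.X * P) v = f (Polynomial.aeval f P v); simp⟩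
  have hvC : v ∈ LinearMap.range φ := ⟨1, by simp [φ]⟩
  have hC : i ≤ finrank F (LinearMap.range φ) := Nat.le_of_dvd (Nat.pos_of_ne_zero fun e => hv0 (by
    rw [Submodule.finrank_eq_zero.1 e, Submodule.mem_bot] at hvC; exact hvC)) (hD.dvd _ hSi hSD)
  obtain ⟨C', hC'⟩ := Submodule.exists_isCompl (LinearMap.range φ)
  let bs := Module.finBasis F C'
  have hdim := Submodule.finrank_add_eq_of_isCompl hC'
  rw [Module.finrank_fin_fun] at hdim
  have h := rk_gen A B (Fin.cons v fun j => (bs j : Fin a → F)) fun S hS hSf => by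
    refine eq_top_iff.2 (hC'.sup_eq_top ▸ sup_le ?_ ?_)
    · rintro _ ⟨P, rfl⟩
      exact aeval_mem hSf P (hS 0)
    · intro u hu
      have h1 : ((∑ j, bs.repr ⟨u, hu⟩ j • bs j : C') : Fin a → F) = u := by rw [bs.sum_repr]
      rw [← h1, Submodule.coe_sum]
      exact S.sum_mem fun j _ => S.smul_mem _ (hS j.succ)
  have h3 : (i - 1) * b + (finrank F C' + 1) * b ≤ a * b := by
    rw [← add_mul]
    exact Nat.mul_le_mul_right b (by omega)
  omega

/-- isometries of odd order move an even dimensional space -/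
theorem even_moved {V : Type*} [AddCommGroup V] [Module F V] [FiniteDimensional F V] (Φ : LinearMap.BilinForm F V)
    (hs : ∀ u v, Φ u v = Φ v u) (hnd : ∀ u, (∀ v, Φ u v = 0) → u = 0) {g : V →ₗ[F] V} {n : ℕ}
    (hg : ∀ v, (g ^ (2 * n + 1)) v = v) (hiso : ∀ u v, Φ (g u) (g v) = Φ u v) : Even (Inv.rk g) := by
  let γ : LinearMap.BilinForm F V := Φ.compl₂ g - Φ ∘ₗ g
  have hγ : ∀ u v, γ u v = Φ u (g v) - Φ (g u) v := fun u v => rfl
  have hγalt : γ.IsAlt := fun u => by rw [hγ, hs u (g u), sub_self]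
  have hker : ∀ c, (∀ v, γ c v = 0) → g c = c := by
    intro c hc
    have h1 : ∀ v, Φ c v = Φ (g (g c)) v := fun v => by
      obtain ⟨w, rfl⟩ : ∃ w, g w = v := ⟨(g ^ (2 * n)) v, by rw [← Module.End.mul_apply, ← pow_succ', hg]⟩
      rw [hiso, ← sub_eq_zero, ← hγ]
      exact hc w
    have h2 : g (g c) = c := sub_eq_zero.1 (hnd _ fun v => by rw [map_sub, LinearMap.sub_apply, ← h1, sub_self])
    have hpow : ∀ m, (g ^ (2 * m)) c = c := fun m => by
      induction m with
      | zero => simp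
      | succ m ih => rw [mul_add, mul_one, pow_add, Module.End.mul_apply, sq, Module.End.mul_apply, h2, ih]
    have h3 := hg c
    rwa [pow_succ', Module.End.mul_apply, hpow] at h3
  obtain ⟨C, hC⟩ := Submodule.exists_isCompl (LinearMap.ker (g - LinearMap.id))
  have hsep : ∀ c : C, (∀ c' : C, γ c c' = 0) → c = 0 := fun c hc => by
    have h4 : g c = c := hker c fun v => by
      obtain ⟨k, hk, c', hc', rfl⟩ := Submodule.mem_sup.1 (hC.sup_eq_top ▸ Submodule.mem_top : v ∈ _ ⊔ C)
      have hgk : g k = k := sub_eq_zero.1 hk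
      rw [map_add, hc ⟨c', hc'⟩, add_zero, hγ, hgk]
      nth_rw 2 [← hgk]
      rw [hiso, sub_self]
    exact Subtype.ext (Submodule.disjoint_def.1 hC.disjoint _ (sub_eq_zero.2 h4) c.2)
  obtain ⟨m, hm⟩ := Bases.even_finrank_of_alt (γ.compl₁₂ C.subtype C.subtype) (fun c => hγalt _)
    ⟨hsep, fun c hc => hsep c fun c' => by rw [← LinearMap.IsAlt.neg hγalt, show γ c' c = 0 from hc c', neg_zero]⟩
  have h5 := Submodule.finrank_add_eq_of_isCompl hC
  have h6 := LinearMap.finrank_range_add_finrank_ker (g - LinearMap.id)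
  exact ⟨m, by rw [Inv.rk]; omega⟩

/-! ### coordinates -/

variable {d a b : ℕ} (e : (Fin d ⊕ Fin d) ≃ Fin a × Fin b) (P : GL (Fin d ⊕ Fin d) F)

/-- the linear equivalence of a group element -/
noncomputable def glEquiv {d : ℕ} (g : GL (Fin d ⊕ Fin d) F) : (Fin d ⊕ Fin d → F) ≃ₗ[F] (Fin d ⊕ Fin d → F) :=
  { lin g with invFun := lin g⁻¹, left_inv := fun v => lin_can g v, right_inv := fun v => lin_can' g v }

theorem glEquiv_apply {d : ℕ} (g : GL (Fin d ⊕ Fin d) F) (v : Fin d ⊕ Fin d → F) : glEquiv g v = lin g v := rfl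

theorem rk_equiv {V W : Type*} [AddCommGroup V] [Module F V] [AddCommGroup W] [Module F W] (e : V ≃ₗ[F] W)
    {f : V →ₗ[F] V} {f' : W →ₗ[F] W} (h : ∀ x, e (f x) = f' (e x)) : Inv.rk f' = Inv.rk f := by
  have he : (LinearMap.range (f - LinearMap.id)).map (e : V →ₗ[F] W) = LinearMap.range (f' - LinearMap.id) := by
    ext y
    constructor
    · rintro ⟨_, ⟨x, rfl⟩, rfl⟩
      exact ⟨e x, by simp [h]⟩
    · rintro ⟨x, rfl⟩
      obtain ⟨x, rfl⟩ := e.surjective x
      exact ⟨_, ⟨x, rfl⟩, by simp [h]⟩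
  rw [Inv.rk, Inv.rk, ← he]
  exact ((Submodule.equivMapOfInjective (e : V →ₗ[F] W) e.injective _).finrank_eq).symm

/-- the coordinate map -/
noncomputable def coordE : (Fin a × Fin b → F) ≃ₗ[F] (Fin d ⊕ Fin d → F) :=
  (LinearEquiv.funCongrLeft F F e).trans (glEquiv P)

theorem coordE_apply (w : Fin a × Fin b → F) :
    coordE e P w = (P : Matrix (Fin d ⊕ Fin d) (Fin d ⊕ Fin d) F) *ᵥ (w ∘ e) := rfl

theorem reindex_vec (k : Matrix (Fin a × Fin b) (Fin a × Fin b) F) (w : Fin a × Fin b → F) :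
    Matrix.reindexAlgEquiv F F e.symm k *ᵥ (w ∘ e) = (k *ᵥ w) ∘ e := by
  simp [Matrix.reindexAlgEquiv_apply, Matrix.reindex_apply, Matrix.submatrix_mulVec_equiv, Function.comp_assoc]

theorem mem_iff (g : GL (Fin d ⊕ Fin d) F) :
    g ∈ Cfsg.Geo.tensorProductSubgroup a b e P ↔ ∃ (A : GL (Fin a) F) (B : GL (Fin b) F), ∀ w,
      lin g (coordE e P w) = coordE e P (((A : Matrix (Fin a) (Fin a) F) ⊗ₖ (B : Matrix (Fin b) (Fin b) F)) *ᵥ w) := by
  have key : ∀ (k : GL (Fin a × Fin b) F) (w : Fin a × Fin b → F),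
      lin (P * Cfsg.Geo.glReindex e.symm k * P⁻¹) (coordE e P w) =
        coordE e P ((k : Matrix (Fin a × Fin b) (Fin a × Fin b) F) *ᵥ w) := fun k w => by
    rw [coordE_apply, coordE_apply, ← reindex_vec, lin_mul, lin_mul]
    show lin P (lin _ (lin P⁻¹ (lin P (w ∘ e)))) = _
    rw [lin_can]
    rfl
  constructor
  · rintro ⟨_, ⟨k, ⟨A, B, hk⟩, rfl⟩, rfl⟩
    exact ⟨A, B, fun w => by rw [← hk]; exact key k w⟩
  · rintro ⟨A, B, h⟩
    let k : GL (Fin a × Fin b) F :=
      ⟨(A : Matrix (Fin a) (Fin a) F) ⊗ₖ (B : Matrix (Fin b) (Fin b) F),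
        ((A⁻¹ : GL (Fin a) F) : Matrix (Fin a) (Fin a) F) ⊗ₖ ((B⁻¹ : GL (Fin b) F) : Matrix (Fin b) (Fin b) F),
        by rw [← Matrix.mul_kronecker_mul, Units.mul_inv, Units.mul_inv, Matrix.one_kronecker_one],
        by rw [← Matrix.mul_kronecker_mul, Units.inv_mul, Units.inv_mul, Matrix.one_kronecker_one]⟩
    refine ⟨_, ⟨k, ⟨A, B, rfl⟩, rfl⟩, Units.ext (Matrix.toLin'.injective (LinearMap.ext fun v => ?_))⟩
    obtain ⟨w, rfl⟩ := (coordE e P).surjective v
    exact (key k w).trans (h w).symm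

theorem rk_coord (g : GL (Fin d ⊕ Fin d) F) {M : Matrix (Fin a × Fin b) (Fin a × Fin b) F}
    (h : ∀ w, lin g (coordE e P w) = coordE e P (M *ᵥ w)) : Inv.rk (lin g) = (M - (1 : F) • 1).rank := by
  rw [one_smul, ← rk_eq_rank]
  exact rk_equiv (coordE e P) (f := Matrix.toLin' M) fun w => by rw [Matrix.toLin'_apply]; exact (h w).symm

theorem rk_gl_conj (g x : GL (Fin d ⊕ Fin d) F) : Inv.rk (lin (g⁻¹ * x * g)) = Inv.rk (lin x) :=
  rk_equiv (glEquiv g⁻¹) fun v => by
      show lin g⁻¹ (lin x v) = lin (g⁻¹ * x * g) (lin g⁻¹ v)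
      rw [lin_conj, lin_can']

/-! ### involutions -/

/-- planes of an element with square `z` -/
def Pl {d : ℕ} (z : F) (x : (Fin d ⊕ Fin d → F) →ₗ[F] (Fin d ⊕ Fin d → F)) (e f : Fin d ⊕ Fin d → F) : Prop :=
  ∃ p t w : F, x e = p • e + t • f ∧ x f = p • f + w • e ∧
    ((z = 1 ∧ t = 0 ∧ w = 0 ∧ (p = 1 ∨ p = -1)) ∨ (z = -1 ∧ p = 0 ∧ w = -t⁻¹ ∧ t ≠ 0))

theorem exists_planes (h2 : (2 : F) ≠ 0) {d : ℕ} {x : (Fin d ⊕ Fin d → F) →ₗ[F] (Fin d ⊕ Fin d → F)}
    (hiso : ∀ u v, SympStd.sympB d F (x u) (x v) = SympStd.sympB d F u v) {z : F} (hz : z = 1 ∨ z = -1)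
    (hx : ∀ v, x (x v) = z • v) :
    ∀ (n : ℕ) (W : Submodule F (Fin d ⊕ Fin d → F)), finrank F W = n → W.map x ≤ W → NdOn (SympStd.sympB d F) W →
      ∃ (k : ℕ) (e f : Fin k → (Fin d ⊕ Fin d → F)), Bases.IsSympFamily (SympStd.sympB d F) W e f ∧ ∀ i, Pl z x (e i) (f i) := by
  have halt : (SympStd.sympB d F).IsAlt := SympStd.sympB_isAlt
  have hinj : Function.Injective x := fun u v e => by
    have := congrArg x e
    rw [hx, hx] at this
    rcases hz with rfl | rfl
    · simpa using this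
    · simpa using this
  intro n
  induction n using Nat.strong_induction_on with
  | _ n ih =>
    intro W hn hW hnd
    by_cases hne : W = ⊥
    · exact ⟨0, Fin.elim0, Fin.elim0, ⟨fun i => i.elim0, fun i => i.elim0, fun i => i.elim0, fun i => i.elim0,
        fun i => i.elim0, by rw [hne]; exact bot_le⟩, fun i => i.elim0⟩
    obtain ⟨e, f, he, hf, hef, hok⟩ : ∃ e f, e ∈ W ∧ f ∈ W ∧ SympStd.sympB d F e f = 1 ∧ Pl z x e f := by
      obtain ⟨v, hv, hv0⟩ := Submodule.exists_mem_ne_zero_of_ne_bot hne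
      rcases hz with rfl | rfl
      · simp only [one_smul] at hx
        have heig : ∀ c : F, c = 1 ∨ c = -1 → ∀ u ∈ W, u ≠ 0 → x u = c • u →
            ∃ e f, e ∈ W ∧ f ∈ W ∧ SympStd.sympB d F e f = 1 ∧ Pl 1 x e f := by
          intro c hc' u hu hu0 hxu
          have hc : c * c = 1 := by rcases hc' with rfl | rfl <;> ring
          obtain ⟨w, hw, huw⟩ := hnd u hu hu0
          set w' := w + c • x w with hw'
          have hw'W : w' ∈ W := W.add_mem hw (W.smul_mem _ (hW ⟨w, hw, rfl⟩))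
          have h1 : SympStd.sympB d F u w' ≠ 0 := by
            have h1 : SympStd.sympB d F u (x w) = c * SympStd.sympB d F u w := by
              rw [← hiso u (x w), hxu, hx, map_smul, LinearMap.smul_apply, smul_eq_mul]
            rw [hw', map_add, map_smul, smul_eq_mul, h1, ← mul_assoc, hc, one_mul, ← two_mul]
            exact mul_ne_zero h2 huw
          refine ⟨u, (SympStd.sympB d F u w')⁻¹ • w', hu, W.smul_mem _ hw'W,
            by rw [map_smul, smul_eq_mul, inv_mul_cancel₀ h1], c, 0, 0, by simp [hxu], ?_, Or.inl ⟨rfl, rfl, rfl, hc'⟩⟩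
          rw [zero_smul, add_zero]
          simp only [map_smul, hw', map_add, hx]
          match_scalars <;> grind
        by_cases hp : v + x v = 0
        · refine heig (-1) (Or.inr rfl) v hv hv0 ?_
          rw [neg_one_smul]; exact eq_neg_of_add_eq_zero_right hp
        · exact heig 1 (Or.inl rfl) (v + x v) (W.add_mem hv (hW ⟨v, hv, rfl⟩)) hp
            (by rw [map_add, hx, one_smul, add_comm])
      · obtain ⟨w, hw, hww⟩ : ∃ w ∈ W, SympStd.sympB d F w (x w) ≠ 0 := by
          by_contra hcon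
          push Not at hcon
          obtain ⟨u, hu, huv⟩ := hnd (x v) (hW ⟨v, hv, rfl⟩) (fun e => hv0 (hinj (by rw [e, map_zero])))
          have h1 : SympStd.sympB d F v (x u) = SympStd.sympB d F u (x v) := by
            rw [← hiso u (x v), hx, neg_one_smul, map_neg, ← LinearMap.IsAlt.neg halt (x u) v]
          have h0 := hcon (u + v) (W.add_mem hu hv)
          simp only [map_add, LinearMap.add_apply, hcon u hu, hcon v hv, zero_add, add_zero, h1] at h0
          refine huv ?_
          rw [← LinearMap.IsAlt.neg halt u (x v)]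
          rw [(mul_eq_zero.1 (show (2 : F) * SympStd.sympB d F u (x v) = 0 by linear_combination h0)).resolve_left h2,
            neg_zero]
        refine ⟨w, (SympStd.sympB d F w (x w))⁻¹ • x w, hw, W.smul_mem _ (hW ⟨w, hw, rfl⟩),
          by rw [map_smul, smul_eq_mul, inv_mul_cancel₀ hww], 0, SympStd.sympB d F w (x w), _, ?_, ?_,
          Or.inr ⟨rfl, rfl, rfl, hww⟩⟩
        · rw [zero_smul, zero_add, smul_smul, mul_inv_cancel₀ hww, one_smul]
        · rw [map_smul, hx, zero_smul, zero_add, smul_smul, mul_neg_one]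
    obtain ⟨-, hPnd, hPW, -⟩ := plane_split halt he hf (by rw [hef]; exact one_ne_zero)
    obtain ⟨hP2, -⟩ := plane_split halt he hf (by rw [hef]; exact one_ne_zero)
    obtain ⟨-, -, hsum, hRnd, -⟩ := Pieces.nd_split halt hnd hPnd hPW
    have hPx : (Submodule.span F ({e, f} : Set (Fin d ⊕ Fin d → F))).map x ≤ Submodule.span F ({e, f} : Set (Fin d ⊕ Fin d → F)) := by
      obtain ⟨p, t, u, hxe, hxf, -⟩ := hok
      rw [Submodule.map_span, Submodule.span_le]
      rintro _ ⟨y, rfl | rfl, rfl⟩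
      · exact Submodule.mem_span_pair.2 ⟨p, t, hxe.symm⟩
      · exact Submodule.mem_span_pair.2 ⟨_, p, by rw [hxf, add_comm]⟩
    obtain ⟨k, e', f', hfam, hok'⟩ := ih _ (by omega) _ rfl (Pieces.perp_inv' hiso hinj hW hPx) hRnd
    exact ⟨k + 1, Fin.cons e e', Fin.cons f f', family_cons he hf hef hnd hfam,
      Fin.cases (by simpa using hok) fun i => by simpa using hok' i⟩

/-- planes with prescribed values -/
theorem exists_adjusted [Finite F] (h2 : (2 : F) ≠ 0) {d : ℕ} {x : (Fin d ⊕ Fin d → F) →ₗ[F] (Fin d ⊕ Fin d → F)}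
    (hiso : ∀ u v, SympStd.sympB d F (x u) (x v) = SympStd.sympB d F u v) {z : F} (hz : z = 1 ∨ z = -1)
    (hx : ∀ v, x (x v) = z • v) (τ : Fin d → F) (hτ : ∀ i, τ i ≠ 0) :
    ∃ (b : Basis (Fin d ⊕ Fin d) F (Fin d ⊕ Fin d → F)) (p : Fin d → F),
      (∀ i j, SympStd.sympB d F (b (.inl i)) (b (.inr j)) = if i = j then 1 else 0) ∧
      (∀ i j, SympStd.sympB d F (b (.inl i)) (b (.inl j)) = 0) ∧ (∀ i j, SympStd.sympB d F (b (.inr i)) (b (.inr j)) = 0) ∧
      ((z = 1 ∧ ∀ i, (p i = 1 ∨ p i = -1) ∧ x (b (.inl i)) = p i • b (.inl i) ∧ x (b (.inr i)) = p i • b (.inr i)) ∨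
       (z = -1 ∧ ∀ i, x (b (.inl i)) = τ i • b (.inr i) ∧ x (b (.inr i)) = -((τ i)⁻¹ • b (.inl i)))) := by
  classical
  obtain ⟨k, e, f, hfam, hpl⟩ := exists_planes h2 hiso hz hx _ ⊤ rfl le_top ndTop
  obtain ⟨hk, b, hb⟩ := basis_of_family hfam
  subst k
  choose p t w hxe hxf hor using hpl
  rcases hz with rfl | rfl
  · refine ⟨b, p, fun i j => ?_, fun i j => ?_, fun i j => ?_, Or.inl ⟨rfl, fun i => ?_⟩⟩
    · rw [hb]; exact hfam.ef i j
    · rw [hb]; exact hfam.ee i j
    · rw [hb]; exact hfam.ff i j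
    · rcases hor i with ⟨-, ht, hw, hp⟩ | ⟨h1, -⟩
      · refine ⟨hp, ?_, ?_⟩
        · rw [hb, Sum.elim_inl, hxe, ht, zero_smul, add_zero]
        · rw [hb, Sum.elim_inr, hxf, hw, zero_smul, add_zero]
      · exact absurd h1 fun h => h2 (by linear_combination h)
  · have ht : ∀ i, p i = 0 ∧ t i ≠ 0 ∧ w i = -(t i)⁻¹ := fun i => by
      rcases hor i with ⟨h1, -⟩ | ⟨-, h3, h4, h5⟩
      · exact absurd h1 fun h => h2 (by linear_combination -h)
      · exact ⟨h3, h5, h4⟩
    choose u v huv using fun i => Bases.exists_sq_add_sq h2 (one_ne_zero : (1 : F) ≠ 0) (one_ne_zero : (1 : F) ≠ 0)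
      (τ i / t i)
    let e' := fun i => u i • e i + (v i * t i) • f i
    let f' := fun i => (τ i)⁻¹ • (-(v i) • e i + (u i * t i) • f i)
    have halt : (SympStd.sympB d F).IsAlt := SympStd.sympB_isAlt
    have hfe : ∀ i j, SympStd.sympB d F (f i) (e j) = if j = i then -1 else 0 := fun i j => by
      rw [← LinearMap.IsAlt.neg halt (e j), hfam.ef]; split_ifs <;> simp
    have hfam' : Bases.IsSympFamily (SympStd.sympB d F)
        (Submodule.span F (Set.range (Sum.elim e' f'))) e' f' := by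
      refine ⟨fun i => Submodule.subset_span ⟨Sum.inl i, rfl⟩, fun i => Submodule.subset_span ⟨Sum.inr i, rfl⟩,
        fun i j => ?_, fun i j => ?_, fun i j => ?_, le_rfl⟩
      all_goals
        simp only [e', f', map_add, map_smul, LinearMap.add_apply, LinearMap.smul_apply, smul_eq_mul, hfam.ee, hfam.ff,
          hfam.ef, hfe]
        by_cases hij : i = j
      · subst hij
        have h := huv i
        have ht' := (ht i).2.1
        have hτ' := hτ i
        field_simp at h
        simp only [if_true]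
        field_simp
        linear_combination h
      · simp [hij, Ne.symm hij]
      · subst hij; simp only [if_true]; ring
      · simp [hij, Ne.symm hij]
      · subst hij; simp only [if_true]; ring
      · simp [hij, Ne.symm hij]
    let b' := Basis.mk hfam'.linearIndependent
      (hfam'.linearIndependent.span_eq_top_of_card_eq_finrank' (by rw [SympStd.finrank_vec]; simp [two_mul])).ge
    have hb' : ⇑b' = Sum.elim e' f' := Basis.coe_mk _ _
    refine ⟨b', p, fun i j => ?_, fun i j => ?_, fun i j => ?_, Or.inr ⟨rfl, fun i => ?_⟩⟩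
    · rw [hb']; exact hfam'.ef i j
    · rw [hb']; exact hfam'.ee i j
    · rw [hb']; exact hfam'.ff i j
    · obtain ⟨hp, ht', hw⟩ := ht i
      simp only [hb', Sum.elim_inl, Sum.elim_inr, e', f', map_add, map_smul, hxe, hxf, hw, hp, zero_smul, zero_add]
      constructor
      · match_scalars <;> field_simp [hτ i]
      · match_scalars <;> field_simp [hτ i]

theorem exists_symp_map {d : ℕ} (b b' : Basis (Fin d ⊕ Fin d) F (Fin d ⊕ Fin d → F))
    (h : ∀ x y, SympStd.sympB d F (b' x) (b' y) = SympStd.sympB d F (b x) (b y)) :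
    ∃ g ∈ Cfsg.spGL d F, ∀ z, lin g (b z) = b' z := by
  let E := b.equiv b' (Equiv.refl _)
  have hE : ∀ z, E (b z) = b' z := fun z => by simp [E, Basis.equiv_apply]
  have hiso : ∀ u v, SympStd.sympB d F (E u) (E v) = SympStd.sympB d F u v := by
    have h' : (SympStd.sympB d F).compl₁₂ (E : (Fin d ⊕ Fin d → F) →ₗ[F] (Fin d ⊕ Fin d → F))
        (E : (Fin d ⊕ Fin d → F) →ₗ[F] (Fin d ⊕ Fin d → F)) = SympStd.sympB d F := by
      refine LinearMap.ext_basis b b fun x y => ?_
      rw [LinearMap.compl₁₂_apply, LinearEquiv.coe_coe, hE, hE]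
      exact h x y
    exact fun u v => LinearMap.congr_fun₂ h' u v
  obtain ⟨g, hg, hgl⟩ := exists_gl (SympStd.ofEquiv E fun u v => by
    rw [← SympStd.sympB_apply, ← SympStd.sympB_apply, hiso])
  exact ⟨g, hg, fun z => by rw [hgl, Matrix.toLin'_apply, SympStd.ofEquiv_mulVec, hE]⟩

/-- pure tensors -/
def ot {a b : ℕ} (x : Fin a → F) (y : Fin b → F) : Fin a × Fin b → F := fun p => x p.1 * y p.2

theorem kron_ot {a b : ℕ} (A : Matrix (Fin a) (Fin a) F) (B : Matrix (Fin b) (Fin b) F) (x : Fin a → F) (y : Fin b → F) :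
    (A ⊗ₖ B) *ᵥ ot x y = ot (A *ᵥ x) (B *ᵥ y) := by
  funext ⟨i, j⟩
  simp only [ot, Matrix.mulVec, dotProduct, Matrix.kroneckerMap_apply, Fintype.sum_prod_type, Finset.sum_mul_sum]
  exact Finset.sum_congr rfl fun k _ => Finset.sum_congr rfl fun l _ => by ring

theorem rank_scalar {a b : ℕ} (α : F) (B : Matrix (Fin b) (Fin b) F) :
    ((α • 1 : Matrix (Fin a) (Fin a) F) ⊗ₖ B - (1 : F) • 1).rank = a * (α • B - (1 : F) • 1).rank := by
  rw [← rank_one_kronecker]
  congr 1
  ext ⟨i, j⟩ ⟨k, l⟩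
  rcases eq_or_ne i k with rfl | hik
  · simp [Matrix.one_apply]
  · simp [hik]

theorem bilin_expand {k : ℕ} {f : (Fin k → F) → (Fin k → F) → F} (hf : Cfsg.Geo.IsBilinearForm f) :
    ∃ Φ : LinearMap.BilinForm F (Fin k → F), ∀ u v, Φ u v = f u v ∧
      f u v = ∑ i, ∑ j, u i * Cfsg.Geo.gramMatrix f i j * v j := by
  let Φ : LinearMap.BilinForm F (Fin k → F) := LinearMap.mk₂ F f (fun x y v => hf.add_left x y v)
    (fun c x v => hf.smul_left c x v) (fun v x y => hf.add_right v x y) (fun c v x => hf.smul_right c v x)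
  refine ⟨Φ, fun u v => ⟨rfl, ?_⟩⟩
  show Φ u v = _
  conv_lhs => rw [← Matrix.toLinearMap₂'_toMatrix' (R := F) Φ]
  rw [Matrix.toLinearMap₂'_apply]
  refine Finset.sum_congr rfl fun i _ => Finset.sum_congr rfl fun j _ => ?_
  rw [LinearMap.toMatrix₂'_apply, smul_eq_mul, smul_eq_mul]
  show u i * (v j * f (Pi.single i 1) (Pi.single j 1)) = u i * f (Pi.single i 1) (Pi.single j 1) * v j
  ring

theorem formOfGram_ot {a b : ℕ} (G₁ : Matrix (Fin a) (Fin a) F) (G₂ : Matrix (Fin b) (Fin b) F)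
    (x x' : Fin a → F) (y y' : Fin b → F) :
    Cfsg.Geo.formOfGram id (G₁ ⊗ₖ G₂) (ot x y) (ot x' y') =
      (∑ i, ∑ k, x i * G₁ i k * x' k) * ∑ j, ∑ l, y j * G₂ j l * y' l := by
  simp only [Cfsg.Geo.formOfGram, ot, Matrix.kroneckerMap_apply, id, Fintype.sum_prod_type]
  rw [Finset.sum_mul]
  refine Finset.sum_congr rfl fun i _ => ?_
  rw [Finset.sum_mul, Finset.sum_comm]
  refine Finset.sum_congr rfl fun k _ => ?_
  rw [Finset.mul_sum]
  refine Finset.sum_congr rfl fun j _ => ?_
  rw [Finset.mul_sum]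
  exact Finset.sum_congr rfl fun l _ => by ring

/-- Elements of prime order of PSp_n(q), q odd, and the stabilizers of tensor decompositions Sp_a(q) ⊗ O_b(q). Here `T = PSp_{2d}(F)` for a field `F` with `q` elements, `q` odd, `d ≥ 2`, realised through the matrices preserving the standard alternating form `f`; `2d = a·b` with `a` even, `b ≥ 3`, and the bijection `e` and change of basis `P` exhibit `f` as a non-zero scalar multiple of the tensor product of a non-degenerate alternating form `f₁` on `F^a` and a non-degenerate symmetric bilinear form `f₂` on `F^b`; `H` is the subgroup of `T` stabilizing this tensor decomposition (the elements of `T` in the conjugate by `P` of the group of Kronecker products) — a subgroup of type Sp_a(q) ⊗ O^ε_b(q) (maximality is not assumed). Ω is the set of cosets of `H` in `T`, so an element of `T` of prime order `r` (`x ∈ T` with `x^r` scalar, `x` not scalar) fixes a point of Ω exactly when some `T`-conjugate of `x` lies in `H`. Let `r`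 be a prime dividing the index of `H`. Then every element of `T` of order `r` fixes a point of Ω if and only if `r = 2` and `a = 2`. -/
theorem result {F : Type*} [Field F] [Fintype F] {p : ℕ} [Fact p.Prime] [CharP F p] {q : ℕ} (hq : Fintype.card F = q)
    (hodd : Odd q) (d : ℕ) (hd : 2 ≤ d) (a b : ℕ) (hab : 2 * d = a * b) (ha : Even a) (ha2 : 2 ≤ a) (hb : 3 ≤ b)
    (e : (Fin d ⊕ Fin d) ≃ Fin a × Fin b) (P : GL (Fin d ⊕ Fin d) F)
    (f₁ : (Fin a → F) → (Fin a → F) → F) (f₂ : (Fin b → F) → (Fin b → F) → F)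
    (hf₁ : Cfsg.Geo.IsSymplecticForm f₁) (hf₂ : Cfsg.Geo.IsSymmetricForm f₂)
    (hS : Cfsg.Geo.IsTensorFormStructure id (Cfsg.sympForm d F) f₁ f₂ e P)
    (r : ℕ) [Fact r.Prime]
    (hΩ : r ∣ (Cfsg.Geo.tensorProductSubgroup a b e P).relIndex (Cfsg.spGL d F)) :
    (∀ x ∈ Cfsg.spGL d F, (∃ z : F, ((x ^ r : GL (Fin d ⊕ Fin d) F) : Matrix (Fin d ⊕ Fin d) (Fin d ⊕ Fin d) F) = z • (1 : Matrix (Fin d ⊕ Fin d) (Fin d ⊕ Fin d) F)) →
      (∀ z : F, (x : Matrix (Fin d ⊕ Fin d) (Fin d ⊕ Fin d) F) ≠ z • (1 : Matrix (Fin d ⊕ Fin d) (Fin d ⊕ Fin d) F)) →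
      ∃ g ∈ Cfsg.spGL d F, g⁻¹ * x * g ∈ Cfsg.Geo.tensorProductSubgroup a b e P) ↔ (r = 2 ∧ a = 2) := by
  classical
  subst hq
  have h2 : (2 : F) ≠ 0 := OrthForms.two_ne_zero_of_odd hodd
  haveI : Nonempty (Fin d ⊕ Fin d) := ⟨Sum.inl ⟨0, by omega⟩⟩
  have hd0 : 0 < d := by omega
  obtain ⟨Φ₁, hΦ₁⟩ := bilin_expand hf₁.bilinear
  obtain ⟨Φ₂, hΦ₂⟩ := bilin_expand hf₂.bilinear
  obtain ⟨c₀, hc₀, hform⟩ := hS
  set L := coordE e P with hLdef
  have hB : ∀ u v, SympStd.sympB d F (L u) (L v) =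
      c₀ * Cfsg.Geo.formOfGram id (Cfsg.Geo.gramMatrix f₁ ⊗ₖ Cfsg.Geo.gramMatrix f₂) u v := fun u v => by
    rw [SympStd.sympB_apply, hLdef, coordE_apply, coordE_apply]; exact hform u v
  have hot : ∀ x x' y y', SympStd.sympB d F (L (ot x y)) (L (ot x' y')) = c₀ * (Φ₁ x x' * Φ₂ y y') := fun x x' y y' => by
    rw [hB, formOfGram_ot, ← (hΦ₁ x x').2, ← (hΦ₂ y y').2, (hΦ₁ x x').1, (hΦ₂ y y').1]
  have hΦ₂s : ∀ u v, Φ₂ u v = Φ₂ v u := fun u v => by rw [(hΦ₂ u v).1, (hΦ₂ v u).1, hf₂.symm]
  have hΦ₂n : ∀ u, (∀ v, Φ₂ u v = 0) → u = 0 := fun u hu => by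
    by_contra h
    obtain ⟨v, hv⟩ := (hf₂.nondegenerate u h).2
    exact hv (by rw [← (hΦ₂ u v).1, hu])
  constructor
  · intro H
    have key : ∀ x ∈ Cfsg.spGL d F, lin x ^ r = 1 → 0 < Inv.rk (lin x) → (Odd r ∨ Inv.rk (lin x) < 2 * d) →
        ∃ (A : GL (Fin a) F) (B : GL (Fin b) F),
          ((A : Matrix (Fin a) (Fin a) F) ⊗ₖ (B : Matrix (Fin b) (Fin b) F) - (1 : F) • 1).rank = Inv.rk (lin x) ∧
          ((A : Matrix (Fin a) (Fin a) F) ⊗ₖ (B : Matrix (Fin b) (Fin b) F)) ^ r = 1 ∧
          ∀ u v, SympStd.sympB d F (L (((A : Matrix (Fin a) (Fin a) F) ⊗ₖ (B : Matrix (Fin b) (Fin b) F)) *ᵥ u))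
            (L (((A : Matrix (Fin a) (Fin a) F) ⊗ₖ (B : Matrix (Fin b) (Fin b) F)) *ᵥ v)) = SympStd.sympB d F (L u) (L v) := by
      intro x hx hxr h0 hlt
      obtain ⟨g, hg, hgx⟩ := H x hx ⟨1, Matrix.toLin'.injective (by
        rw [one_smul, Matrix.toLin'_one, Units.val_pow_eq_pow_val, Matrix.toLin'_pow]; exact hxr)⟩ fun z hz => by
          have hlz : ∀ v, lin x v = z • v := fun v => by
            rw [lin, hz, Matrix.toLin'_apply, Matrix.smul_mulVec, Matrix.one_mulVec]
          by_cases hz1 : z = 1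
          · have : lin x - LinearMap.id = 0 := LinearMap.ext fun v => by
              rw [LinearMap.sub_apply, LinearMap.id_apply, hlz, hz1, one_smul, sub_self, LinearMap.zero_apply]
            rw [Inv.rk, this, LinearMap.range_zero, finrank_bot] at h0
            exact lt_irrefl _ h0
          · rcases hlt with hro | hlt
            · set u : Fin d ⊕ Fin d → F := Pi.single (Sum.inr ⟨0, hd0⟩) 1 with hu
              set v : Fin d ⊕ Fin d → F := Pi.single (Sum.inl ⟨0, hd0⟩) 1 with hv
              have hv0 : v ≠ 0 := fun e' => by simpa [hv] using congrFun e' (Sum.inl ⟨0, hd0⟩)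
              have h3 := (mem_spGL.1 hx) u v
              rw [hlz, hlz, map_smul, map_smul, LinearMap.smul_apply, smul_eq_mul, smul_eq_mul, hu, hv,
                SympStd.sympB_apply, SympStd.sympForm_inr_inl, if_pos rfl] at h3
              have hzz : z * z = 1 := by linear_combination h3
              have hpw : ∀ (n : ℕ) w, (lin x ^ n) w = z ^ n • w := fun n => by
                induction n with
                | zero => simp
                | succ n ih => intro w; rw [pow_succ', Module.End.mul_apply, ih, map_smul, hlz, smul_smul, ← pow_succ]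
              have h4 := (hpw r v).symm.trans (by rw [hxr, Module.End.one_apply] : (lin x ^ r) v = v)
              obtain ⟨n, hn⟩ := hro
              rw [hn, pow_succ, pow_mul, sq, hzz, one_pow, one_mul] at h4
              exact hz1 (smul_left_injective F hv0 (h4.trans (one_smul F v).symm))
            have : LinearMap.range (lin x - LinearMap.id) = ⊤ := LinearMap.range_eq_top.2 fun v =>
              ⟨(z - 1)⁻¹ • v, by
                rw [LinearMap.sub_apply, LinearMap.id_apply, hlz, smul_smul, ← sub_smul,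
                  show z * (z - 1)⁻¹ - (z - 1)⁻¹ = 1 by field_simp [sub_ne_zero.2 hz1], one_smul]⟩
            rw [Inv.rk, this, finrank_top, SympStd.finrank_vec] at hlt
            omega
      obtain ⟨A, B, hAB⟩ := (mem_iff e P _).1 hgx
      refine ⟨A, B, ?_, ?_, fun u v => ?_⟩
      · rw [← rk_coord e P _ hAB, rk_gl_conj]
      · have hyr : ∀ (n : ℕ) w, (lin (g⁻¹ * x * g) ^ n) (L w) =
            L ((((A : Matrix (Fin a) (Fin a) F) ⊗ₖ (B : Matrix (Fin b) (Fin b) F)) ^ n) *ᵥ w) := fun n => by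
          induction n with
          | zero => simp
          | succ n ih => intro w; rw [pow_succ', Module.End.mul_apply, ih, hAB, pow_succ', Matrix.mulVec_mulVec]
        have hone : ∀ v, (lin (g⁻¹ * x * g) ^ r) v = v := fun v => by
          rw [← lin_pow, show g⁻¹ * x * g = g⁻¹ * x * g⁻¹⁻¹ by rw [inv_inv], conj_pow, inv_inv, lin_conj, lin_pow, hxr,
            Module.End.one_apply, lin_can]
        exact Matrix.ext_of_mulVec_single fun i => L.injective (by rw [← hyr, hone, Matrix.one_mulVec])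
      · rw [← hAB, ← hAB]
        exact mem_spGL.1 ((Cfsg.spGL d F).mul_mem ((Cfsg.spGL d F).mul_mem ((Cfsg.spGL d F).inv_mem hg) hx) hg) _ _
    set u₀ : Fin d ⊕ Fin d → F := Pi.single (Sum.inl ⟨0, hd0⟩) 1 with hu₀
    have hu0 : u₀ ≠ 0 := fun e' => by simpa [hu₀] using congrFun e' (Sum.inl ⟨0, hd0⟩)
    have hAscal : ∀ (A : GL (Fin a) F) (B : GL (Fin b) F) (k : ℕ), k < b →
        ((A : Matrix (Fin a) (Fin a) F) ⊗ₖ (B : Matrix (Fin b) (Fin b) F) - (1 : F) • 1).rank = k → a ∣ k := by
      intro A B k hk hrk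
      obtain ⟨α, hα⟩ : ∃ α : F, (A : Matrix (Fin a) (Fin a) F) = α • 1 := by
        by_contra hA
        push Not at hA
        have := rank_ge (B := (B : Matrix (Fin b) (Fin b) F)) ((Matrix.isUnit_iff_isUnit_det _).1 B.isUnit) hA (1 : F)
        omega
      rw [hα, rank_scalar] at hrk
      exact ⟨_, hrk.symm⟩
    by_cases hrp : r = p
    · exfalso
      subst hrp
      obtain ⟨x, hx, hxl⟩ := exists_gl (SympStd.tv u₀ (1 : F))
      have hxv : ∀ v, lin x v = v + SympStd.sympB d F v u₀ • u₀ := fun v => by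
        rw [hxl, Matrix.toLin'_apply, SympStd.tv_mulVec, one_mul, SympStd.sympB_apply]
      have hpow : ∀ (n : ℕ) v, (lin x ^ n) v = v + ((n : F) * SympStd.sympB d F v u₀) • u₀ := fun n => by
        induction n with
        | zero => simp
        | succ n ih =>
          intro v
          rw [pow_succ', Module.End.mul_apply, ih, hxv, map_add, map_smul, LinearMap.add_apply, LinearMap.smul_apply,
            show SympStd.sympB d F u₀ u₀ = 0 from SympStd.sympB_isAlt u₀, smul_zero, add_zero, Nat.cast_succ]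
          module
      have hrk : Inv.rk (lin x) = 1 := by
        have hrange : LinearMap.range (lin x - LinearMap.id) = F ∙ u₀ := by
          refine le_antisymm ?_ ((Submodule.span_singleton_le_iff_mem _ _).2 ?_)
          · rintro _ ⟨v, rfl⟩
            exact Submodule.mem_span_singleton.2 ⟨_, by rw [LinearMap.sub_apply, LinearMap.id_apply, hxv, add_sub_cancel_left]⟩
          · obtain ⟨v, hv⟩ : ∃ v, SympStd.sympB d F v u₀ ≠ 0 := by
              by_contra hcon
              push Not at hcon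
              exact hu0 (SympStd.sympB_nondegenerate.2 u₀ hcon)
            exact ⟨(SympStd.sympB d F v u₀)⁻¹ • v, by
              rw [LinearMap.sub_apply, LinearMap.id_apply, hxv, add_sub_cancel_left, map_smul, LinearMap.smul_apply,
                smul_eq_mul, inv_mul_cancel₀ hv, one_smul]⟩
        rw [Inv.rk, hrange, finrank_span_singleton hu0]
      obtain ⟨A, B, hr1, -, -⟩ := key x hx (LinearMap.ext fun v => by rw [hpow, CharP.cast_eq_zero]; simp)
        (by omega) (by omega)
      have := Nat.le_of_dvd one_pos (hAscal A B 1 (by omega) (hr1.trans hrk))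
      omega
    by_cases hr2 : r = 2
    · subst hr2
      refine ⟨rfl, ?_⟩
      by_contra ha'
      set u : Fin d ⊕ Fin d → F := Pi.single (Sum.inr ⟨0, hd0⟩) 1 with hu
      have hef : SympStd.sympB d F u u₀ = 1 := by
        rw [SympStd.sympB_apply, hu, hu₀, SympStd.sympForm_inr_inl, if_pos rfl]
      have hfe : SympStd.sympB d F u₀ u = -1 := by
        rw [← LinearMap.IsAlt.neg (B := SympStd.sympB d F) SympStd.sympB_isAlt u u₀, hef]
      have hee : SympStd.sympB d F u u = 0 := SympStd.sympB_isAlt u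
      have hff : SympStd.sympB d F u₀ u₀ = 0 := SympStd.sympB_isAlt u₀
      let ρ : (Fin d ⊕ Fin d → F) →ₗ[F] (Fin d ⊕ Fin d → F) :=
        LinearMap.id - (2 : F) • ((SympStd.sympB d F).flip u₀).smulRight u +
        (2 : F) • ((SympStd.sympB d F).flip u).smulRight u₀
      have hρ : ∀ v, ρ v = v - (2 * SympStd.sympB d F v u₀) • u + (2 * SympStd.sympB d F v u) • u₀ := fun v => by
        simp [ρ, smul_smul]
      have hρρ : ∀ v, ρ (ρ v) = v := fun v => by
        simp only [hρ, map_add, map_sub, map_smul, LinearMap.add_apply, LinearMap.sub_apply, LinearMap.smul_apply,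
          smul_eq_mul, hef, hfe, hee, hff]
        module
      have hρiso : ∀ v w, SympStd.sympB d F (ρ v) (ρ w) = SympStd.sympB d F v w := fun v w => by
        simp only [hρ, map_add, map_sub, map_smul, LinearMap.add_apply, LinearMap.sub_apply, LinearMap.smul_apply,
          smul_eq_mul, hef, hfe, hee, hff, ← LinearMap.IsAlt.neg (B := SympStd.sympB d F) SympStd.sympB_isAlt w u,
          ← LinearMap.IsAlt.neg (B := SympStd.sympB d F) SympStd.sympB_isAlt w u₀]
        ring
      let E : (Fin d ⊕ Fin d → F) ≃ₗ[F] (Fin d ⊕ Fin d → F) :=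
        { ρ with invFun := ρ, left_inv := hρρ, right_inv := hρρ }
      obtain ⟨x, hx, hxl⟩ := exists_gl (SympStd.ofEquiv E fun v w => by
        rw [← SympStd.sympB_apply, ← SympStd.sympB_apply]; exact hρiso v w)
      have hxρ : lin x = ρ := LinearMap.ext fun v => by rw [hxl, Matrix.toLin'_apply, SympStd.ofEquiv_mulVec]; rfl
      have hrk : Inv.rk (lin x) = 2 := by
        obtain ⟨hP, -⟩ := plane_split SympStd.sympB_isAlt (W := (⊤ : Submodule F (Fin d ⊕ Fin d → F)))
          (Submodule.mem_top (x := u)) (Submodule.mem_top (x := u₀)) (by rw [hef]; exact one_ne_zero)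
        have hspan : LinearMap.range (ρ - LinearMap.id) = Submodule.span F ({u, u₀} : Set (Fin d ⊕ Fin d → F)) := by
          refine le_antisymm ?_ (Submodule.span_le.2 ?_)
          · rintro _ ⟨v, rfl⟩
            exact Submodule.mem_span_pair.2 ⟨-(2 * SympStd.sympB d F v u₀), 2 * SympStd.sympB d F v u, by
              rw [LinearMap.sub_apply, LinearMap.id_apply, hρ]; module⟩
          · rintro y (rfl | rfl)
            · refine ⟨(-(2 : F)⁻¹) • u, ?_⟩
              rw [LinearMap.sub_apply, LinearMap.id_apply, hρ]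
              simp only [map_smul, LinearMap.smul_apply, smul_eq_mul, hef, hee]
              match_scalars <;> field_simp <;> ring
            · refine ⟨(-(2 : F)⁻¹) • u₀, ?_⟩
              rw [LinearMap.sub_apply, LinearMap.id_apply, hρ]
              simp only [map_smul, LinearMap.smul_apply, smul_eq_mul, hfe, hff]
              match_scalars <;> field_simp <;> ring
        rw [Inv.rk, hxρ, hspan, hP]
      obtain ⟨A, B, hr1, -, -⟩ := key x hx (LinearMap.ext fun v => by
        rw [sq, Module.End.mul_apply, hxρ, hρρ]; rfl) (by omega) (by omega)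
      have := Nat.le_of_dvd two_pos (hAscal A B 2 (by omega) (hr1.trans hrk))
      omega
    exfalso
    have hr0 : (r : F) ≠ 0 := natCast_prime_ne_zero p hrp
    set i := orderOf ((Fintype.card F : ℕ) : ZMod r) with hi
    have hi0 : 0 < i := order_pos p hrp
    have hro : Odd r := (Fact.out : r.Prime).odd_of_ne_two hr2
    obtain ⟨t, ht, hit⟩ : ∃ t, t ≤ d ∧ 0 < t ∧ i ∣ 2 * t := by
      have hX : r ∣ Nat.card (Cfsg.spGL d F) := hΩ.trans (Subgroup.index_dvd_card _)
      have hsp : Nat.card (Cfsg.spGL d F) ∣ Nat.card (symplecticGroup (Fin d) F) := by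
        refine Subgroup.card_dvd_of_injective
          ({ toFun := fun g => ⟨((g : GL (Fin d ⊕ Fin d) F) : Matrix (Fin d ⊕ Fin d) (Fin d ⊕ Fin d) F),
              SympStd.mem_sp_iff.2 fun u v => g.2 u v⟩
             map_one' := rfl
             map_mul' := fun _ _ => rfl } : Cfsg.spGL d F →* symplecticGroup (Fin d) F)
          fun g h e' => Subtype.ext (Units.ext (congrArg Subtype.val e' :))
      have hX' := hX.trans hsp
      rw [Symplectic.natCard_sp] at hX'
      rcases (Fact.out : r.Prime).dvd_mul.1 hX' with h1 | h1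
      · obtain ⟨n, -, hn⟩ := FiniteField.card F p
        rw [hn, ← pow_mul] at h1
        exact absurd ((Nat.prime_dvd_prime_iff_eq Fact.out Fact.out).1 ((Fact.out : r.Prime).dvd_of_dvd_pow h1)) hrp
      · obtain ⟨w, hw, hw'⟩ := (Prime.dvd_finsetProd_iff (Fact.out : r.Prime).prime _).1 h1
        refine ⟨w + 1, by have := Finset.mem_range.1 hw; omega, by omega, orderOf_dvd_of_pow_eq_one ?_⟩
        rw [← Nat.modEq_iff_dvd' (Nat.one_le_pow _ _ Fintype.card_pos), ← ZMod.natCast_eq_natCast_iff,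
          Nat.cast_pow, Nat.cast_one] at hw'
        exact hw'.symm
    set c := if Even i then i else 2 * i with hc
    have hcd : c ≤ 2 * d ∧ Even c := by
      rw [hc]
      split_ifs with he
      · exact ⟨(Nat.le_of_dvd (by omega) hit.2).trans (by omega), he⟩
      · have h3 : i ∣ t := (Nat.Coprime.dvd_mul_left
          (Nat.coprime_two_right.2 (Nat.not_even_iff_odd.1 he))).1 hit.2
        exact ⟨Nat.mul_le_mul_left 2 ((Nat.le_of_dvd hit.1 h3).trans ht), even_two_mul i⟩
    obtain ⟨e₁, he₁⟩ := hcd.2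
    have hci : (Even i ∧ c = i) ∨ (Odd i ∧ c = 2 * i) := by
      rw [hc]; split_ifs with he
      · exact Or.inl ⟨he, rfl⟩
      · exact Or.inr ⟨Nat.not_even_iff_odd.1 he, rfl⟩
    have hc0 : 0 < c := by rw [hc]; split_ifs <;> omega
    obtain ⟨y, hy, hyfix⟩ := S5961.exists_model p hrp hr2 hi hc (d := d) (s := 1) (e := e₁) (by omega) (by omega)
    obtain ⟨x, hx, hxl⟩ := exists_gl y
    rw [← hxl] at hy hyfix
    have hrkx : Inv.rk (lin x) + finrank F (fixSp (lin x)) = 2 * d :=
      (LinearMap.finrank_range_add_finrank_ker (lin x - LinearMap.id)).trans SympStd.finrank_vec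
    obtain ⟨A, B, hr1, hMr, hMiso⟩ := key x hx (LinearMap.ext hy) (by omega) (Or.inl hro)
    rw [show Inv.rk (lin x) = c by omega] at hr1
    have hBdet : IsUnit (B : Matrix (Fin b) (Fin b) F).det := (Matrix.isUnit_iff_isUnit_det _).1 B.isUnit
    have hone_kron : ∀ C : Matrix (Fin b) (Fin b) F, (1 : Matrix (Fin a) (Fin a) F) ⊗ₖ C = 1 → C = 1 := fun C hC => by
      ext j l
      have h4 := congrFun (congrFun hC (⟨0, by omega⟩, j)) (⟨0, by omega⟩, l)
      simpa [Matrix.one_apply] using h4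
    by_cases hA : ∃ α : F, (A : Matrix (Fin a) (Fin a) F) = α • 1
    · -- a scalar left factor
      obtain ⟨α, hα⟩ := hA
      set C := α • (B : Matrix (Fin b) (Fin b) F) with hC
      have hM : (A : Matrix (Fin a) (Fin a) F) ⊗ₖ (B : Matrix (Fin b) (Fin b) F) = 1 ⊗ₖ C := by
        rw [hα, hC, Matrix.smul_kronecker, Matrix.kronecker_smul]
      have hCr : C ^ r = 1 := by
        refine hone_kron _ ?_
        rw [hM, kron_pow, one_pow] at hMr
        exact hMr
      rw [hα, rank_scalar, ← hC] at hr1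
      have hC1 : C ≠ 1 := fun e' => by rw [e', one_smul, sub_self, Matrix.rank_zero, mul_zero] at hr1; omega
      have hge : i ≤ (C - (1 : F) • 1).rank := order_le_rank hr0 hCr hC1
      have h2i : 2 * i ≤ a * (C - (1 : F) • 1).rank := Nat.mul_le_mul ha2 hge
      obtain ⟨hie, hci'⟩ : Odd i ∧ c = 2 * i := by
        rcases hci with ⟨-, h⟩ | h
        · omega
        · exact h
      have h2rk : 2 * (C - (1 : F) • 1).rank ≤ a * (C - (1 : F) • 1).rank := Nat.mul_le_mul_right _ ha2
      have hrkC : (C - (1 : F) • 1).rank = i := by omega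
      obtain ⟨x₁, x₂, hxx⟩ : ∃ x₁ x₂, Φ₁ x₁ x₂ ≠ 0 := by
        obtain ⟨v, hv⟩ := (hf₁.nondegenerate (Pi.single (⟨0, by omega⟩ : Fin a) 1) (fun e' => by
          simpa using congrFun e' (⟨0, by omega⟩ : Fin a))).2
        exact ⟨_, v, by rwa [(hΦ₁ _ v).1]⟩
      obtain ⟨n, hn⟩ := hro
      have hev := even_moved Φ₂ hΦ₂s hΦ₂n (g := Matrix.toLin' C) (n := n) (fun v => by
        rw [← hn, ← Matrix.toLin'_pow, hCr, Matrix.toLin'_one, LinearMap.id_apply]) fun u v => by
        have h3 := hMiso (ot x₁ u) (ot x₂ v)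
        rw [hM, kron_ot, kron_ot, Matrix.one_mulVec, Matrix.one_mulVec, hot, hot] at h3
        rw [Matrix.toLin'_apply, Matrix.toLin'_apply]
        exact mul_left_cancel₀ hxx (mul_left_cancel₀ hc₀ h3)
      rw [rk_eq_rank, ← one_smul F (1 : Matrix (Fin b) (Fin b) F), hrkC] at hev
      exact Nat.not_even_iff_odd.2 hie hev
    · push Not at hA
      have hbc : b ≤ c := hr1 ▸ rank_ge hBdet hA (1 : F)
      have hi1 : i ≠ 1 := fun e' => by
        rw [hc, e', if_neg (by decide)] at hbc
        omega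
      have hnd : ¬ r ∣ Fintype.card F - 1 := fun h => hi1 ((order_one_iff r).2 h)
      obtain ⟨α, hα⟩ : ∃ α : F, (A : Matrix (Fin a) (Fin a) F) ^ r = α • 1 := by
        by_contra hns
        push Not at hns
        have h3 := rank_ge (B := (B : Matrix (Fin b) (Fin b) F) ^ r)
          (by rw [Matrix.det_pow]; exact hBdet.pow r) hns (1 : F)
        rw [← kron_pow, hMr, one_smul, sub_self, Matrix.rank_zero] at h3
        omega
      obtain ⟨δ, hδ⟩ := exists_root_of_not_dvd (r := r) hnd α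
      have hδ0 : δ ≠ 0 := by
        rintro rfl
        rw [zero_pow (Fact.out : r.Prime).ne_zero] at hδ
        rw [← hδ, zero_smul] at hα
        haveI : Nonempty (Fin a) := ⟨⟨0, by omega⟩⟩
        exact (((Matrix.isUnit_iff_isUnit_det _).1 A.isUnit).pow r).ne_zero
          (by rw [← Matrix.det_pow, hα, Matrix.det_zero])
      set A' := δ⁻¹ • (A : Matrix (Fin a) (Fin a) F) with hA'
      set B' : GL (Fin b) F := scal (Units.mk0 δ hδ0) * B with hB'
      have hA'r : A' ^ r = 1 := by
        rw [hA', _root_.smul_pow, hα, smul_smul, inv_pow, hδ, inv_mul_cancel₀ (by rw [← hδ]; exact pow_ne_zero _ hδ0), one_smul]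
      have hA'1 : A' ≠ 1 := fun e' => hA δ (by rw [← e', hA', smul_inv_smul₀ hδ0])
      have hM : (A : Matrix (Fin a) (Fin a) F) ⊗ₖ (B : Matrix (Fin b) (Fin b) F) =
          A' ⊗ₖ (B' : Matrix (Fin b) (Fin b) F) := by
        rw [hB', Units.val_mul, scal_val, Units.val_mk0, Matrix.smul_mul, Matrix.one_mul]
        rw [hA', Matrix.smul_kronecker, Matrix.kronecker_smul, smul_smul, inv_mul_cancel₀ hδ0, one_smul]
      rw [hM] at hr1 hMr
      have h1 : (i - 1) * b ≤ c := hr1 ▸ rk_cyclic hr0 hi hi0 hA'r hA'1 B'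
      rcases hci with ⟨hie, hci'⟩ | ⟨hie, hci'⟩
      · have h3 : (i - 1) * 3 ≤ i := (Nat.mul_le_mul_left _ hb).trans (hci' ▸ h1)
        omega
      · have hi3 : 3 ≤ i := by obtain ⟨k, hk⟩ := hie; omega
        have ha' : i ≤ a := by
          have h3 := (order_le_rank hr0 hA'r hA'1).trans (Matrix.rank_le_card_width _)
          rwa [Fintype.card_fin] at h3
        have hB'r : (B' : Matrix (Fin b) (Fin b) F) ^ r = 1 := by
          refine hone_kron _ ?_
          rw [kron_pow, hA'r] at hMr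
          exact hMr
        obtain ⟨ka, hka⟩ := ha
        by_cases hB'1 : (B' : Matrix (Fin b) (Fin b) F) = 1
        · have e1 : A' ⊗ₖ (1 : Matrix (Fin b) (Fin b) F) - (1 : F) • 1 =
              A' ⊗ₖ ((1 : F) • 1 : Matrix (Fin b) (Fin b) F) - (1 : F) • 1 := by rw [one_smul F (1 : Matrix (Fin b) (Fin b) F)]
          rw [hB'1, e1, rank_swap, rank_scalar, one_smul F A'] at hr1
          have h3 : 3 * i ≤ b * (A' - (1 : F) • 1).rank := Nat.mul_le_mul hb (order_le_rank hr0 hA'r hA'1)
          omega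
        · let A'' : GL (Fin a) F := Matrix.GeneralLinearGroup.mkOfDetNeZero A' (by
            intro e'
            have := congrArg Matrix.det hA'r
            rw [Matrix.det_pow, e', zero_pow (Fact.out : r.Prime).ne_zero, Matrix.det_one] at this
            exact zero_ne_one this)
          have h3 : (i - 1) * a ≤ c := by
            rw [← hr1, rank_swap]
            exact rk_cyclic hr0 hi hi0 hB'r hB'1 A''
          have h4 : (i - 1) * 4 ≤ c := (Nat.mul_le_mul_left _ (show 4 ≤ a by omega)).trans h3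
          omega
  · rintro ⟨rfl, rfl⟩ x hx ⟨z, hz⟩ -
    have hiso := mem_spGL.1 hx
    have hxx : ∀ v, lin x (lin x v) = z • v := fun v => by
      rw [← Module.End.mul_apply, ← sq, ← lin_pow, lin, hz, Matrix.toLin'_apply, Matrix.smul_mulVec, Matrix.one_mulVec]
    have hz1 : z = 1 ∨ z = -1 := by
      refine mul_self_eq_one_iff.1 ?_
      have h3 := hiso (lin x (Pi.single (Sum.inl ⟨0, hd0⟩) 1)) (lin x (Pi.single (Sum.inr ⟨0, hd0⟩) 1))
      rw [hxx, hxx, hiso, map_smul, map_smul, LinearMap.smul_apply, smul_eq_mul, smul_eq_mul,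
        SympStd.sympB_apply, SympStd.sympForm_inl_inr, if_pos rfl] at h3
      linear_combination (-1 : F) * h3
    obtain rfl : b = d := by omega
    set ε₀ : Fin 2 → F := Pi.single 0 1 with hε₀
    set ε₁ : Fin 2 → F := Pi.single 1 1 with hε₁
    have h00 : ∀ v, Φ₁ v v = 0 := fun v => by rw [(hΦ₁ v v).1, hf₁.alternating]
    have h10 : Φ₁ ε₁ ε₀ = -Φ₁ ε₀ ε₁ := by rw [(hΦ₁ _ _).1, (hΦ₁ _ _).1, hf₁.skew]
    set γ := Φ₁ ε₀ ε₁ with hγ
    have hγ0 : γ ≠ 0 := by
      intro h
      obtain ⟨v, hv⟩ := (hf₁.nondegenerate ε₀ (fun e' => by simpa [hε₀] using congrFun e' 0)).2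
      refine hv ?_
      have hv' : v = v 0 • ε₀ + v 1 • ε₁ := funext fun k => by fin_cases k <;> simp [hε₀, hε₁]
      rw [← (hΦ₁ _ _).1, hv', map_add, map_smul, map_smul, h00, ← hγ, h, smul_zero, smul_zero, add_zero]
    haveI : Invertible (2 : F) := invertibleOfNonzero h2
    obtain ⟨u', hu'⟩ := LinearMap.BilinForm.exists_orthogonal_basis (B := Φ₂) ⟨fun u v => by
      rw [RingHom.id_apply]; exact hΦ₂s u v⟩
    let u : Basis (Fin b) F (Fin b → F) := u'.reindex (finCongr (Module.finrank_fin_fun F))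
    have huo : ∀ i j, i ≠ j → Φ₂ (u i) (u j) = 0 := fun i j hij => by
      simp only [u, Basis.reindex_apply]
      exact hu' fun e' => hij ((finCongr (Module.finrank_fin_fun F)).symm.injective e')
    set τ : Fin b → F := fun j => c₀ * (γ * Φ₂ (u j) (u j)) with hτ
    have hδ : ∀ j, Φ₂ (u j) (u j) ≠ 0 := fun j h => u.ne_zero j (hΦ₂n _ fun v => by
      rw [← u.sum_repr v, map_sum]
      refine Finset.sum_eq_zero fun k _ => ?_
      rw [map_smul]
      by_cases hk : j = k
      · subst hk; rw [h, smul_zero]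
      · rw [huo j k hk, smul_zero])
    have hτ0 : ∀ j, τ j ≠ 0 := fun j => mul_ne_zero hc₀ (mul_ne_zero hγ0 (hδ j))
    let eT : Fin b → (Fin b ⊕ Fin b → F) := fun j => L (ot ε₀ (u j))
    let fT : Fin b → (Fin b ⊕ Fin b → F) := fun j => (τ j)⁻¹ • L (ot ε₁ (u j))
    have hfam : Bases.IsSympFamily (SympStd.sympB b F) (Submodule.span F (Set.range (Sum.elim eT fT))) eT fT := by
      refine ⟨fun i => Submodule.subset_span ⟨Sum.inl i, rfl⟩, fun i => Submodule.subset_span ⟨Sum.inr i, rfl⟩,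
        fun i j => ?_, fun i j => ?_, fun i j => ?_, le_rfl⟩
      · simp only [eT, fT, map_smul, hot, smul_eq_mul, ← hγ]
        by_cases hij : i = j
        · subst hij; rw [if_pos rfl, inv_mul_cancel₀ (hτ0 i)]
        · rw [if_neg hij, huo i j hij, mul_zero, mul_zero, mul_zero]
      · simp only [eT, hot, h00, zero_mul, mul_zero]
      · simp only [fT, map_smul, LinearMap.smul_apply, hot, h00, zero_mul, mul_zero, smul_zero]
    let T := Basis.mk hfam.linearIndependent
      (hfam.linearIndependent.span_eq_top_of_card_eq_finrank' (by rw [SympStd.finrank_vec]; simp [two_mul])).ge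
    have hT : ⇑T = Sum.elim eT fT := Basis.coe_mk _ _
    obtain ⟨bx, pp, hbef, hbee, hbff, hbx⟩ := exists_adjusted h2 hiso hz1 hxx τ hτ0
    obtain ⟨g, hg, hgT⟩ := exists_symp_map T bx (by
      rintro (i | i) (j | j) <;> simp only [hT, Sum.elim_inl, Sum.elim_inr]
      · rw [hbee, hfam.ee]
      · rw [hbef, hfam.ef]
      · rw [← LinearMap.IsAlt.neg (B := SympStd.sympB b F) SympStd.sympB_isAlt (bx (Sum.inl j)), hbef,
          ← LinearMap.IsAlt.neg (B := SympStd.sympB b F) SympStd.sympB_isAlt (eT j), hfam.ef]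
      · rw [hbff, hfam.ff])
    obtain ⟨A, B, hM⟩ : ∃ (A : GL (Fin 2) F) (B : GL (Fin b) F), ∀ z', lin x (lin g (T z')) = lin g (L
        (((A : Matrix (Fin 2) (Fin 2) F) ⊗ₖ (B : Matrix (Fin b) (Fin b) F)) *ᵥ L.symm (T z'))) := by
      rcases hbx with ⟨-, hp⟩ | ⟨-, hx'⟩
      · let D : (Fin b → F) →ₗ[F] (Fin b → F) := u.constr F fun j => pp j • u j
        have hD : ∀ j, D (u j) = pp j • u j := fun j => u.constr_basis F _ j
        have hDD : LinearMap.toMatrix' D * LinearMap.toMatrix' D = 1 := by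
          rw [← LinearMap.toMatrix'_comp, ← LinearMap.toMatrix'_id]
          congr 1
          refine u.ext fun j => ?_
          rw [LinearMap.comp_apply, hD, map_smul, hD, smul_smul, LinearMap.id_apply]
          rcases (hp j).1 with h | h <;> rw [h] <;> simp
        refine ⟨1, ⟨LinearMap.toMatrix' D, LinearMap.toMatrix' D, hDD, hDD⟩, ?_⟩
        rintro (j | j)
        · rw [hgT, hT, Sum.elim_inl, (hp j).2.1, ← hgT, hT, Sum.elim_inl]
          simp only [eT, L.symm_apply_apply, Units.val_one, kron_ot, Matrix.one_mulVec, LinearMap.toMatrix'_mulVec, hD]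
          rw [← map_smul (lin g), ← map_smul L]
          congr 2; funext q; simp [ot]; ring
        · rw [hgT, hT, Sum.elim_inr, (hp j).2.2, ← hgT, hT, Sum.elim_inr]
          simp only [fT, map_smul, L.symm_apply_apply, Units.val_one, Matrix.mulVec_smul, kron_ot, Matrix.one_mulVec,
            LinearMap.toMatrix'_mulVec, hD]
          rw [smul_comm, ← map_smul (lin g), ← map_smul L]
          congr 3; funext q; simp [ot]; ring
      · let J : GL (Fin 2) F := ⟨!![0, -1; 1, 0], !![0, 1; -1, 0], by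
          ext i j; fin_cases i <;> fin_cases j <;> simp [Matrix.mul_apply, Fin.sum_univ_two], by
          ext i j; fin_cases i <;> fin_cases j <;> simp [Matrix.mul_apply, Fin.sum_univ_two]⟩
        have hJ0 : (J : Matrix (Fin 2) (Fin 2) F) *ᵥ ε₀ = ε₁ := funext fun k => by
          fin_cases k <;> simp [J, hε₀, hε₁]
        have hJ1 : (J : Matrix (Fin 2) (Fin 2) F) *ᵥ ε₁ = -ε₀ := funext fun k => by
          fin_cases k <;> simp [J, hε₀, hε₁]
        refine ⟨J, 1, ?_⟩
        rintro (j | j)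
        · rw [hgT, hT, Sum.elim_inl, (hx' j).1, ← hgT, hT, Sum.elim_inr]
          simp only [eT, fT, L.symm_apply_apply, Units.val_one, kron_ot, Matrix.one_mulVec, hJ0, map_smul, smul_smul,
            mul_inv_cancel₀ (hτ0 j), one_smul]
        · rw [hgT, hT, Sum.elim_inr, (hx' j).2, ← hgT, hT, Sum.elim_inl]
          simp only [eT, fT, map_smul, L.symm_apply_apply, Units.val_one, Matrix.mulVec_smul, kron_ot,
            Matrix.one_mulVec, hJ1]
          rw [show ot (-ε₀) (u j) = -ot ε₀ (u j) by funext q; simp [ot], map_neg, map_neg, smul_neg]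
    refine ⟨g, hg, (mem_iff e P _).2 ⟨A, B, fun w => ?_⟩⟩
    have hlin : lin (g⁻¹ * x * g) = (L : (Fin 2 × Fin b → F) →ₗ[F] (Fin b ⊕ Fin b → F)) ∘ₗ
        Matrix.toLin' ((A : Matrix (Fin 2) (Fin 2) F) ⊗ₖ (B : Matrix (Fin b) (Fin b) F)) ∘ₗ
        (L.symm : (Fin b ⊕ Fin b → F) →ₗ[F] (Fin 2 × Fin b → F)) := T.ext fun z' => by
      rw [lin_conj, hM, lin_can]; rfl
    rw [hlin]
    show L (Matrix.toLin' _ (L.symm (L w))) = _
    rw [L.symm_apply_apply, Matrix.toLin'_apply]

end Cfsg.Agent.S5980
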