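import Cfsg.Statements.S5985
import Cfsg.Agent.Lib.Forms.Invol.Orth
import Cfsg.Agent.Lib.Classical.OrthForms
import Cfsg.Agent.Lib.Classical.QuadClass
import Cfsg.Agent.Lib.Forms.Elusive.Grassmann

set_option autoImplicit false
open scoped MatrixGroups
open Cfsg

namespace Cfsg.Agent.S5985

open Cfsg.Agent.Forms Cfsg.Agent.Classical Cfsg.Agent.Forms.Elusive Module Matrix

variable {F : Type*} [Field F]

theorem mem_omegaGL [Fintype F] [CharP F 2] {ι : Type} [Fintype ι] [DecidableEq ι] (hn : 5 ≤ Fintype.card ι)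
    (Q : QuadraticForm F (ι → F)) (hQ : (QuadraticMap.polarBilin Q).Nondegenerate) {f : (ι → F) →ₗ[F] (ι → F)}
    (hinj : Function.Injective f) (hf : ∀ v, Q (f v) = Q v) (hev : Even (finrank F (LinearMap.range (f - 1)))) :
    ∃ x : GL ι F, x ∈ Cfsg.Geo.omegaGL ⇑Q ∧ ∀ v, (x : Matrix ι ι F) *ᵥ v = f v := by
  have hu : IsUnit (LinearMap.toMatrix' f) := Matrix.mulVec_injective_iff_isUnit.1 (by
    intro u v h; simp only [← Matrix.toLin'_apply, Matrix.toLin'_toMatrix'] at h; exact hinj h)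
  obtain ⟨x, hx⟩ := hu
  have hxf : ∀ v, (x : Matrix ι ι F) *ᵥ v = f v := fun v => by
    rw [hx, ← Matrix.toLin'_apply, Matrix.toLin'_toMatrix']
  have hmem : x ∈ Cfsg.isometryGroup F ⇑Q := fun u v => by
    show Q ((x : Matrix ι ι F) *ᵥ u) = Q u
    rw [hxf, hf]
  have key : (⟨x, hmem⟩ : Cfsg.isometryGroup F ⇑Q) ∈ Cfsg.Omega F ⇑Q := by
    rw [Invol.mem_omega_iff_rank hQ hn]
    rw [Matrix.rank, ← Matrix.toLin'_apply', map_sub, Matrix.toLin'_one,
      show Matrix.toLin' _ = f from LinearMap.ext fun v => (Matrix.toLin'_apply _ v).trans (hxf v)]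
    exact hev
  exact ⟨x, ⟨_, key, rfl⟩, hxf⟩

theorem of_omegaGL [Fintype F] [CharP F 2] {ι : Type} [Fintype ι] [DecidableEq ι] (hn : 5 ≤ Fintype.card ι)
    (Q : QuadraticForm F (ι → F)) (hQ : (QuadraticMap.polarBilin Q).Nondegenerate) {x : GL ι F}
    (hx : x ∈ Cfsg.Geo.omegaGL ⇑Q) :
    (∀ v, Q ((x : Matrix ι ι F) *ᵥ v) = Q v) ∧
      Even (finrank F (LinearMap.range (Matrix.toLin' (x : Matrix ι ι F) - 1))) := by
  obtain ⟨g, hg, rfl⟩ := hx
  refine ⟨fun v => g.2 v v, ?_⟩
  have h := (Invol.mem_omega_iff_rank hQ hn g).1 hg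
  rw [Matrix.rank, ← Matrix.toLin'_apply', map_sub, Matrix.toLin'_one] at h
  exact h

/-- the nonsingular points correspond to the vectors of value one -/
theorem card_points [Fintype F] [CharP F 2] {ι : Type} [Fintype ι] (Q : QuadraticForm F (ι → F)) :
    Nat.card {W : Submodule F (ι → F) // finrank F ↥W = 1 ∧ ∃ v ∈ W, Q v ≠ 0} * (Fintype.card F - 1) +
      OrthCount.zeros ⇑Q = Fintype.card F ^ Fintype.card ι := by
  classical
  have hsq : ∀ a : F, ∃ s : F, s * s = a := fun a => by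
    obtain ⟨s, hs⟩ := FiniteField.isSquare_of_char_two (ringChar.eq F 2) a
    exact ⟨s, hs.symm⟩
  choose s hs using hsq
  have huniq : ∀ x y : F, x * x = y * y → x = y := fun x y h => by
    have h2 : (x - y) * (x + y) = 0 := by linear_combination h
    rcases mul_eq_zero.1 h2 with h3 | h3
    · exact sub_eq_zero.1 h3
    · exact CharTwo.add_eq_zero.1 h3
  have hQs : ∀ (c : F) v, Q (c • v) = c * c * Q v := fun c v => by
    rw [QuadraticMap.map_smul, smul_eq_mul]
  let e : {W : Submodule F (ι → F) // finrank F ↥W = 1 ∧ ∃ v ∈ W, Q v ≠ 0} × {c : F // c ≠ 0} ≃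
      {v : ι → F // ¬ Q v = 0} := Equiv.ofBijective
    (fun Wc => ⟨(Wc.2.1 * (s (Q Wc.1.2.2.choose))⁻¹) • Wc.1.2.2.choose, by
      have h0 := Wc.1.2.2.choose_spec.2
      have hs0 : s (Q Wc.1.2.2.choose) ≠ 0 := fun e => h0 (by rw [← hs (Q Wc.1.2.2.choose), e, zero_mul])
      rw [hQs]
      exact mul_ne_zero (mul_self_ne_zero.2 (mul_ne_zero Wc.2.2 (inv_ne_zero hs0))) h0⟩) ⟨by
      rintro ⟨W, c⟩ ⟨W', c'⟩ he
      have hv := congrArg Subtype.val he
      simp only at hv
      have key : ∀ (W : {W : Submodule F (ι → F) // finrank F ↥W = 1 ∧ ∃ v ∈ W, Q v ≠ 0}) (c : {c : F // c ≠ 0}),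
          W.1 = Submodule.span F {(c.1 * (s (Q W.2.2.choose))⁻¹) • W.2.2.choose} ∧
            Q ((c.1 * (s (Q W.2.2.choose))⁻¹) • W.2.2.choose) = c.1 * c.1 := by
        intro W c
        obtain ⟨hw, h0⟩ := W.2.2.choose_spec
        have hs0 : s (Q W.2.2.choose) ≠ 0 := fun e => h0 (by rw [← hs (Q W.2.2.choose), e, zero_mul])
        refine ⟨?_, ?_⟩
        · refine (Submodule.eq_of_le_of_finrank_eq ?_ ?_).symm
          · rw [Submodule.span_le, Set.singleton_subset_iff]; exact W.1.smul_mem _ hw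
          · exact (finrank_span_singleton (smul_ne_zero (mul_ne_zero c.2 (inv_ne_zero hs0))
              fun e => h0 (by rw [e, QuadraticMap.map_zero]))).trans W.2.1.symm
        · rw [hQs]; nth_rw 3 [← hs (Q W.2.2.choose)]; field_simp
      obtain ⟨h1, h2⟩ := key W c
      obtain ⟨h3, h4⟩ := key W' c'
      rw [hv] at h1 h2
      exact Prod.ext (Subtype.ext (h1.trans h3.symm)) (Subtype.ext (huniq _ _ (h2.symm.trans h4))),
      by
      rintro ⟨v, hv⟩
      have hv0 : v ≠ 0 := fun e => hv (by rw [e, QuadraticMap.map_zero])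
      let W : {W : Submodule F (ι → F) // finrank F ↥W = 1 ∧ ∃ v ∈ W, Q v ≠ 0} :=
        ⟨Submodule.span F {v}, finrank_span_singleton hv0, v, Submodule.mem_span_singleton_self v, hv⟩
      obtain ⟨hw, h0⟩ := W.2.2.choose_spec
      obtain ⟨k, hk⟩ := Submodule.mem_span_singleton.1 hw
      have hk0 : k ≠ 0 := fun e => h0 (by rw [← hk, e, zero_smul, QuadraticMap.map_zero])
      have hs0 : s (Q W.2.2.choose) ≠ 0 := fun e => h0 (by rw [← hs (Q W.2.2.choose), e, zero_mul])
      refine ⟨(W, ⟨s (Q W.2.2.choose) / k, div_ne_zero hs0 hk0⟩), Subtype.ext ?_⟩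
      show ((s (Q W.2.2.choose) / k) * (s (Q W.2.2.choose))⁻¹) • W.2.2.choose = v
      conv_lhs => arg 2; rw [← hk]
      rw [smul_smul]
      convert one_smul F v using 2
      field_simp⟩
  have h1 := Nat.card_congr e
  rw [Nat.card_prod] at h1
  have h2 : Nat.card {c : F // c ≠ 0} = Fintype.card F - 1 := by
    rw [Nat.card_eq_fintype_card, Fintype.card_subtype_compl, Fintype.card_subtype_eq]
  have h3 : Nat.card {v : ι → F // ¬ Q v = 0} + OrthCount.zeros ⇑Q = Fintype.card F ^ Fintype.card ι := by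
    rw [OrthCount.zeros, Nat.card_eq_fintype_card, Nat.card_eq_fintype_card, Fintype.card_subtype_compl,
      Nat.sub_add_cancel (Fintype.card_subtype_le _), Fintype.card_fun]
  rw [← h2, h1]
  exact h3

/-- an involution without fixed nonsingular vectors has a large rank -/
theorem large_rank {ι : Type} [Fintype ι] [DecidableEq ι] [CharP F 2] (Q : QuadraticForm F (ι → F))
    {f : (ι → F) →ₗ[F] (ι → F)} (hf : ∀ v, f (f v) = v) (k : ℕ)
    (hk : ∀ U : Submodule F (ι → F), (∀ u ∈ U, Q u = 0) → finrank F U ≤ k)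
    (hfix : ∀ v, f v = v → Q v = 0) :
    Fintype.card ι ≤ k + finrank F (LinearMap.range (f - 1)) ∧ finrank F (LinearMap.range (f - 1)) ≤ k := by
  have h1 := LinearMap.finrank_range_add_finrank_ker (f - 1)
  rw [Module.finrank_fintype_fun_eq_card] at h1
  have hker : ∀ u ∈ LinearMap.ker (f - 1), Q u = 0 := fun u hu =>
    hfix u (sub_eq_zero.1 (LinearMap.mem_ker.1 hu))
  have h2 := hk _ hker
  have hle : LinearMap.range (f - 1) ≤ LinearMap.ker (f - 1) := by
    rintro _ ⟨v, rfl⟩
    simp only [LinearMap.mem_ker, LinearMap.sub_apply, Module.End.one_apply, map_sub, hf]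
    funext i
    simp only [Pi.sub_apply, Pi.zero_apply, CharTwo.sub_eq_add]
    linear_combination CharTwo.add_self_eq_zero (f v i + v i)
  have h3 := Submodule.finrank_mono hle
  omega

/-- no nonsingular point is fixed by a fixed-point-free isometry of odd order -/
theorem no_point {ι : Type} [Fintype ι] [DecidableEq ι] [CharP F 2] (Q : QuadraticForm F (ι → F))
    {f : (ι → F) →ₗ[F] (ι → F)} {r : ℕ} (hr : Odd r) (hf : ∀ v, (f ^ r) v = v) (hQ : ∀ v, Q (f v) = Q v)
    (hfix : ∀ v, f v = v → v = 0) {W : Submodule F (ι → F)}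
    (hW : finrank F ↥W = 1) (hv : ∃ v ∈ W, Q v ≠ 0) : ¬ W.map f ≤ W := by
  intro hinv
  obtain ⟨v, hvW, hv⟩ := hv
  have hv0 : v ≠ 0 := fun e => hv (by rw [e, QuadraticMap.map_zero])
  have hspan : Submodule.span F {v} = W := Submodule.eq_of_le_of_finrank_eq
    (by rwa [Submodule.span_le, Set.singleton_subset_iff]) (by rw [hW, finrank_span_singleton hv0])
  obtain ⟨μ, hμ⟩ := Submodule.mem_span_singleton.1 (hspan.symm ▸ hinv ⟨v, hvW, rfl⟩ : f v ∈ Submodule.span F {v})
  have hμ2 : μ * μ = 1 := mul_right_cancel₀ hv (by rw [one_mul, ← smul_eq_mul, ← QuadraticMap.map_smul, hμ, hQ])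
  have hμ1 : μ = 1 := by
    have h2 : (μ + 1) * (μ + 1) = 0 := by linear_combination hμ2 + CharTwo.add_self_eq_zero (μ + 1)
    exact CharTwo.add_eq_zero.1 (mul_self_eq_zero.1 h2)
  rw [hμ1, one_smul] at hμ
  exact hv0 (hfix v hμ.symm)

theorem omega_odd [Fintype F] [CharP F 2] {ι : Type} [Fintype ι] [DecidableEq ι] (hn : 5 ≤ Fintype.card ι)
    (he : Even (Fintype.card ι)) (Q : QuadraticForm F (ι → F)) (hQ : (QuadraticMap.polarBilin Q).Nondegenerate)
    {f : (ι → F) →ₗ[F] (ι → F)} {r : ℕ} [hr : Fact r.Prime] (hr2 : r ≠ 2) (hf : ∀ v, (f ^ r) v = v)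
    (hfQ : ∀ v, Q (f v) = Q v) (hfix : ∀ v, f v = v → v = 0) :
    ∃ x : GL ι F, x ∈ Cfsg.Geo.omegaGL ⇑Q ∧
      (∃ z : F, ((x ^ r : GL ι F) : Matrix ι ι F) = z • (1 : Matrix ι ι F)) ∧
      (∀ z : F, (x : Matrix ι ι F) ≠ z • (1 : Matrix ι ι F)) ∧ Matrix.toLin' (x : Matrix ι ι F) = f := by
  have hinj : Function.Injective f := fun u v e => by
    have := congrArg (f ^ (r - 1)) e
    rwa [← Module.End.mul_apply, ← Module.End.mul_apply, ← pow_succ, Nat.sub_add_cancel hr.out.one_lt.le, hf, hf] at this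
  have hrange : LinearMap.range (f - 1) = ⊤ := LinearMap.range_eq_top.2 (LinearMap.injective_iff_surjective.1
    ((injective_iff_map_eq_zero _).2 fun v hv => hfix v (sub_eq_zero.1 hv)))
  obtain ⟨x, hx, hxf⟩ := mem_omegaGL hn Q hQ hinj hfQ
    (by rw [hrange, finrank_top, Module.finrank_fintype_fun_eq_card]; exact he)
  have hxl : Matrix.toLin' (x : Matrix ι ι F) = f := LinearMap.ext fun v => (Matrix.toLin'_apply _ v).trans (hxf v)
  refine ⟨x, hx, ⟨1, ?_⟩, fun z hz => ?_, hxl⟩
  · refine Matrix.toLin'.injective (LinearMap.ext fun v => ?_)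
    rw [Units.val_pow_eq_pow_val, Matrix.toLin'_pow, hxl, one_smul, Matrix.toLin'_one, hf, LinearMap.id_apply]
  · obtain ⟨v, hv⟩ : ∃ v, Q v ≠ 0 := by
      by_contra hex
      push Not at hex
      obtain ⟨i⟩ := Fintype.card_pos_iff.1 (show 0 < Fintype.card ι by omega)
      have := hQ.1 (Pi.single i 1) fun z => by simp [QuadraticMap.polar, hex]
      exact one_ne_zero (α := F) (by simpa using congrFun this i)
    have hv0 : v ≠ 0 := fun e => hv (by rw [e, QuadraticMap.map_zero])
    refine no_point Q (hr.out.odd_of_ne_two hr2) hf hfQ hfix (W := Submodule.span F {v}) (finrank_span_singleton hv0)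
      ⟨v, Submodule.mem_span_singleton_self v, hv⟩ ?_
    rintro _ ⟨w, hw, rfl⟩
    rw [← hxl, Matrix.toLin'_apply, hz, Matrix.smul_mulVec, Matrix.one_mulVec]
    exact Submodule.smul_mem _ _ hw

/-- a free element of a general linear group, doubled, as a hyperbolic isometry -/
theorem exists_hyp [Fintype F] (p : ℕ) [Fact p.Prime] [CharP F p] {r : ℕ} [hr : Fact r.Prime] (hrp : r ≠ p) {d : ℕ}
    (hd : orderOf ((Fintype.card F : ℕ) : ZMod r) ∣ d) :
    ∃ f : (Fin d ⊕ Fin d → F) →ₗ[F] (Fin d ⊕ Fin d → F),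
      (∀ v, (f ^ r) v = v) ∧ (∀ v, Cfsg.quadFormPlus d F (f v) = Cfsg.quadFormPlus d F v) ∧ ∀ v, f v = v → v = 0 := by
  obtain ⟨j, hj⟩ := hd
  obtain ⟨A, hA, -, hfix⟩ := exists_model_free (F := F) d r (natCast_prime_ne_zero p hrp) 0 j
    (by rw [zero_add, mul_comm]; exact hj)
  have hbot : fixSp (Matrix.toLin' A) = ⊥ := Submodule.finrank_eq_zero.1 (Nat.le_zero.1 hfix)
  have hA1 : A ^ r = 1 := Matrix.toLin'.injective (LinearMap.ext fun v => by
    rw [Matrix.toLin'_pow, hA, Matrix.toLin'_one]; rfl)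
  have hA0 : ∀ v : Fin d → F, A *ᵥ v = v → v = 0 := fun v hv => by
    have : v ∈ fixSp (Matrix.toLin' A) := mem_fixSp.2 (by rw [Matrix.toLin'_apply]; exact hv)
    rwa [hbot, Submodule.mem_bot] at this
  set B := A ^ (r - 1) with hB
  have hBA : B * A = 1 := by rw [hB, ← pow_succ, Nat.sub_add_cancel hr.out.one_lt.le, hA1]
  have hB0 : ∀ v : Fin d → F, Bᵀ *ᵥ v = v → v = 0 := by
    have hinj : Function.Injective (fun v => (B - 1) *ᵥ v) := fun u v e => by
      rw [← sub_eq_zero]
      refine hA0 _ ?_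
      have h1 : B *ᵥ (u - v) = u - v := by
        simp only [Matrix.sub_mulVec, Matrix.one_mulVec] at e
        rw [Matrix.mulVec_sub]
        exact (sub_eq_sub_iff_sub_eq_sub.1 e)
      nth_rw 1 [← h1]
      rw [Matrix.mulVec_mulVec, mul_eq_one_comm.1 hBA, Matrix.one_mulVec]
    have hu : IsUnit (B - 1)ᵀ := (Matrix.isUnit_transpose _).2 (Matrix.mulVec_injective_iff_isUnit.1 hinj)
    intro v hv
    refine Matrix.mulVec_injective_iff_isUnit.2 hu ?_
    show (B - 1)ᵀ *ᵥ v = (B - 1)ᵀ *ᵥ 0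
    rw [Matrix.transpose_sub, Matrix.transpose_one, Matrix.sub_mulVec, Matrix.one_mulVec, hv, sub_self,
      Matrix.mulVec_zero]
  let f : (Fin d ⊕ Fin d → F) →ₗ[F] (Fin d ⊕ Fin d → F) :=
    Matrix.toLin' (Matrix.fromBlocks A 0 0 Bᵀ)
  have hfap : ∀ v, f v = Sum.elim (A *ᵥ (v ∘ Sum.inl)) (Bᵀ *ᵥ (v ∘ Sum.inr)) := fun v => by
    simp only [f, Matrix.toLin'_apply, Matrix.fromBlocks_mulVec, Matrix.zero_mulVec, add_zero, zero_add]
  refine ⟨f, fun v => ?_, fun v => ?_, fun v hv => ?_⟩
  · have hBr : Bᵀ ^ r = 1 := by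
      rw [← Matrix.transpose_pow, hB, ← pow_mul, mul_comm, pow_mul, hA1, one_pow, Matrix.transpose_one]
    simp only [f, ← Matrix.toLin'_pow, Matrix.fromBlocks_diagonal_pow, hA1, hBr, Matrix.fromBlocks_one,
      Matrix.toLin'_one, LinearMap.id_apply]
  · show ∑ i, f v (Sum.inl i) * f v (Sum.inr i) = ∑ i, v (Sum.inl i) * v (Sum.inr i)
    simp only [hfap, Sum.elim_inl, Sum.elim_inr]
    show (A *ᵥ (v ∘ Sum.inl)) ⬝ᵥ (Bᵀ *ᵥ (v ∘ Sum.inr)) = (v ∘ Sum.inl) ⬝ᵥ (v ∘ Sum.inr)
    rw [Matrix.mulVec_transpose, dotProduct_comm, ← Matrix.dotProduct_mulVec, Matrix.mulVec_mulVec, hBA,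
      Matrix.one_mulVec, dotProduct_comm]
  · rw [hfap] at hv
    have h1 := hA0 (v ∘ Sum.inl) (funext fun i => congrFun hv (Sum.inl i))
    have h2 := hB0 (v ∘ Sum.inr) (funext fun i => congrFun hv (Sum.inr i))
    funext i
    rcases i with i | i
    · exact congrFun h1 i
    · exact congrFun h2 i


/-- Elements of prime order of Ω⁺_n(q), q even, with no fixed nonsingular 1-space. Here `T = PΩ⁺_n(F)`, `n = 2d ≥ 8`, realised through `Ω⁺_n(q)`, the commutator subgroup of the isometry group of `Q = Σ xᵢyᵢ` over the field `F` with `q` elements; an element of `T` of prime order `r` is an element `x` of `Ω⁺_n(q)` with `x^r` scalar and `x` not scalar; `q` is even (so the centre is trivial). Let Ω be the set of 1-dimensional subspaces spanned by a vector `v` with `Q(v) ≠ 0`, and let `r` be a prime dividing their number. Then every element of `T` of order `r` fixes some nonsingular 1-space if and only if `r = 2` and `n ≡ 2 (mod 4)` (that is, `d` is odd). -/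
theorem result {F : Type*} [Field F] [Fintype F] {p : ℕ} [Fact p.Prime] [CharP F p] {q : ℕ} (hq : Fintype.card F = q)
    (hp : p = 2) (d : ℕ) (hd : 4 ≤ d) (r : ℕ) [Fact r.Prime]
    (hrΩ : r ∣ Nat.card {W : Submodule F (Fin d ⊕ Fin d → F) // Module.finrank F ↥W = 1 ∧ ∃ v ∈ W, Cfsg.quadFormPlus d F v ≠ 0}) :
    (∀ x : GL (Fin d ⊕ Fin d) F, x ∈ Cfsg.Geo.omegaGL (Cfsg.quadFormPlus d F) →
      (∃ z : F, ((x ^ r : GL (Fin d ⊕ Fin d) F) : Matrix (Fin d ⊕ Fin d) (Fin d ⊕ Fin d) F) = z • (1 : Matrix (Fin d ⊕ Fin d) (Fin d ⊕ Fin d) F)) →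
      (∀ z : F, (x : Matrix (Fin d ⊕ Fin d) (Fin d ⊕ Fin d) F) ≠ z • (1 : Matrix (Fin d ⊕ Fin d) (Fin d ⊕ Fin d) F)) →
      ∃ W : Submodule F (Fin d ⊕ Fin d → F), (Module.finrank F ↥W = 1 ∧ ∃ v ∈ W, Cfsg.quadFormPlus d F v ≠ 0) ∧ W.map (Matrix.toLin' (x : Matrix (Fin d ⊕ Fin d) (Fin d ⊕ Fin d) F)) ≤ W) ↔ (r = 2 ∧ Odd d) := by
  classical
  subst hp hq
  have hn : 5 ≤ Fintype.card (Fin d ⊕ Fin d) := by simp; omega
  have he : Even (Fintype.card (Fin d ⊕ Fin d)) := by simp
  have hQ := PlusStd.plusQ_nondeg F d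
  have hQe : ⇑(PlusStd.plusQ F d) = Cfsg.quadFormPlus d F := OrthForms.plusQ_eq d
  rw [← hQe] at hrΩ ⊢
  constructor
  · intro hall
    by_contra hne
    rcases (Fact.out : r.Prime).eq_two_or_odd' with rfl | hodd
    · have hde : Even d := by simpa using hne
      obtain ⟨m, hm⟩ := hde
      let π : Fin d → Fin d := fun i => if h : (i : ℕ) < m then ⟨i + m, by omega⟩ else ⟨i - m, by omega⟩
      have hπ : ∀ i, π (π i) = i := fun i => by
        simp only [π]
        by_cases h : (i : ℕ) < m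
        · rw [dif_pos h, dif_neg (show ¬ (i : ℕ) + m < m by omega)]
          exact Fin.ext (show (i : ℕ) + m - m = i by omega)
        · rw [dif_neg h, dif_pos (show (i : ℕ) - m < m by omega)]
          exact Fin.ext (show (i : ℕ) - m + m = i by omega)
      have hπne : ∀ i, π i ≠ i := fun i e => by
        have := congrArg Fin.val e
        simp only [π] at this
        split_ifs at this with h <;> simp at this <;> omega
      let f : (Fin d ⊕ Fin d → F) →ₗ[F] (Fin d ⊕ Fin d → F) :=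
        { toFun := fun v => Sum.elim (fun i => v (Sum.inl i) + v (Sum.inr (π i))) fun i => v (Sum.inr i)
          map_add' := fun u v => by
            funext x; rcases x with x | x <;> simp; ring
          map_smul' := fun z v => by
            funext x; rcases x with x | x <;> simp; ring }
      have hff : ∀ v, f (f v) = v := fun v => by
        funext x; rcases x with x | x
        · show v (Sum.inl x) + v (Sum.inr (π x)) + v (Sum.inr (π x)) = v (Sum.inl x)
          rw [add_assoc, CharTwo.add_self_eq_zero, add_zero]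
        · rfl
      have hfQ : ∀ v, PlusStd.plusQ F d (f v) = PlusStd.plusQ F d v := fun v => by
        rw [PlusStd.plusQ_apply, PlusStd.plusQ_apply]
        show ∑ i, (v (Sum.inl i) + v (Sum.inr (π i))) * v (Sum.inr i) = ∑ i, v (Sum.inl i) * v (Sum.inr i)
        rw [← sub_eq_zero, ← Finset.sum_sub_distrib]
        refine Finset.sum_involution (fun i _ => π i) (fun i _ => ?_) (fun i _ _ => hπne i) (fun i _ => Finset.mem_univ _)
          (fun i _ => hπ i)
        rw [hπ]
        linear_combination CharTwo.add_self_eq_zero (v (Sum.inr (π i)) * v (Sum.inr i))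
      have hfixr : ∀ v, f v = v → ∀ i, v (Sum.inr i) = 0 := fun v hv i => by
        have h0 := congrFun hv (Sum.inl (π i))
        change v (Sum.inl (π i)) + v (Sum.inr (π (π i))) = v (Sum.inl (π i)) at h0
        rw [hπ] at h0
        linear_combination h0
      have hrk : finrank F (LinearMap.range (f - 1)) = d := by
        have h1 := LinearMap.finrank_range_add_finrank_ker (f - 1)
        rw [Module.finrank_fintype_fun_eq_card, Fintype.card_sum, Fintype.card_fin] at h1
        let E : LinearMap.ker (f - 1) ≃ₗ[F] (Fin d → F) :=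
          { toFun := fun v i => (v : Fin d ⊕ Fin d → F) (Sum.inl i)
            map_add' := fun u v => rfl
            map_smul' := fun z v => rfl
            invFun := fun w => ⟨Sum.elim w 0, by
              rw [LinearMap.mem_ker, LinearMap.sub_apply, Module.End.one_apply, sub_eq_zero]
              funext x; rcases x with x | x
              · show w x + 0 = w x
                rw [add_zero]
              · rfl⟩
            left_inv := fun v => by
              refine Subtype.ext (funext fun x => ?_)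
              rcases x with x | x
              · rfl
              · exact (hfixr v (sub_eq_zero.1 (LinearMap.mem_ker.1 v.2)) x).symm
            right_inv := fun w => rfl }
        rw [E.finrank_eq, finrank_fin_fun] at h1
        omega
      obtain ⟨x, hx, hxf⟩ := mem_omegaGL hn _ hQ (fun u v e => by rw [← hff u, e, hff]) hfQ (by rw [hrk]; exact ⟨m, hm⟩)
      have hxl : Matrix.toLin' (x : Matrix _ _ F) = f := LinearMap.ext fun v => (Matrix.toLin'_apply _ v).trans (hxf v)
      obtain ⟨W, ⟨hW1, v, hvW, hv⟩, hWx⟩ := hall x hx ⟨1, Matrix.toLin'.injective (LinearMap.ext fun v => by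
          rw [Units.val_pow_eq_pow_val, Matrix.toLin'_pow, hxl, one_smul, Matrix.toLin'_one, pow_two,
            Module.End.mul_apply, hff, LinearMap.id_apply])⟩ fun z hz => by
        let i₀ : Fin d := ⟨0, by omega⟩
        let w : Fin d ⊕ Fin d → F := Pi.single (Sum.inr (π i₀)) 1
        have h0 := hxf w
        rw [hz, Matrix.smul_mulVec, Matrix.one_mulVec] at h0
        have h1 := congrFun h0 (Sum.inl i₀)
        change z • w (Sum.inl i₀) = w (Sum.inl i₀) + w (Sum.inr (π i₀)) at h1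
        simp [w] at h1
      have hv0 : v ≠ 0 := fun e => hv (by rw [e, QuadraticMap.map_zero])
      have hspan : Submodule.span F {v} = W := Submodule.eq_of_le_of_finrank_eq
        (by rwa [Submodule.span_le, Set.singleton_subset_iff]) (by rw [hW1, finrank_span_singleton hv0])
      rw [hxl] at hWx
      obtain ⟨μ, hμ⟩ := Submodule.mem_span_singleton.1 (hspan.symm ▸ hWx ⟨v, hvW, rfl⟩ : f v ∈ Submodule.span F {v})
      have hμ2 : μ * μ = 1 := mul_right_cancel₀ hv (by rw [one_mul, ← smul_eq_mul, ← QuadraticMap.map_smul, hμ, hfQ])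
      have hμ1 : μ = 1 := by
        have h2 : (μ + 1) * (μ + 1) = 0 := by linear_combination hμ2 + CharTwo.add_self_eq_zero (μ + 1)
        exact CharTwo.add_eq_zero.1 (mul_self_eq_zero.1 h2)
      rw [hμ1, one_smul] at hμ
      refine hv ?_
      rw [PlusStd.plusQ_apply]
      exact Finset.sum_eq_zero fun i _ => by rw [hfixr v hμ.symm i, mul_zero]
    · have hr2 : r ≠ 2 := fun e => by rw [e] at hodd; exact absurd hodd (by decide)
      set q := Fintype.card F
      have hq2 : 2 ≤ q := Fintype.one_lt_card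
      have hd' : orderOf ((q : ℕ) : ZMod r) ∣ d := by
        have hc := card_points (PlusStd.plusQ F d)
        rw [OrthForms.zeros_plus (F := F) rfl (by omega : 1 ≤ d), Fintype.card_sum, Fintype.card_fin] at hc
        obtain ⟨e, rfl⟩ : ∃ e, d = e + 1 := ⟨d - 1, by omega⟩
        have hrd : r ∣ q ^ e * (q ^ (e + 1) - 1) * (q - 1) := by
          have h4 := (dvd_mul_of_dvd_left hrΩ (q - 1))
          have hle : q ^ e ≤ q ^ (e + 1) := Nat.pow_le_pow_right (by omega) (by omega)
          have e1 : e + 1 + (e + 1) = 2 * e + 1 + 1 := by ring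
          rw [e1, show 2 * (e + 1) - 1 = 2 * e + 1 by omega, show e + 1 - 1 = e from rfl] at hc
          have h5 : q ^ e * (q ^ (e + 1) - 1) * (q - 1) + (q ^ (2 * e + 1) + q ^ (e + 1) - q ^ e) = q ^ (2 * e + 1 + 1) := by
            have h6 : 1 ≤ q ^ (e + 1) := Nat.one_le_pow _ _ (by omega)
            zify [h6, (by omega : 1 ≤ q), le_add_left hle]
            ring
          have h7 : q ^ e * (q ^ (e + 1) - 1) * (q - 1) =
              Nat.card {W : Submodule F (Fin (e + 1) ⊕ Fin (e + 1) → F) //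
                finrank F ↥W = 1 ∧ ∃ v ∈ W, PlusStd.plusQ F (e + 1) v ≠ 0} * (q - 1) := Nat.add_right_cancel (h5.trans hc.symm)
          have h8 := Nat.eq_of_mul_eq_mul_right (by omega) h7
          rw [h8]; exact h4
        have hrq : ¬ r ∣ q := fun h => hr2 ((charP_eq_of_cast_eq_zero (F := F) 2 r).1 ((ZMod.natCast_eq_zero_iff _ _).2 h))
        rcases (Fact.out : r.Prime).dvd_mul.1 hrd with h | h
        · rcases (Fact.out : r.Prime).dvd_mul.1 h with h | h
          · exact absurd ((Fact.out : r.Prime).dvd_of_dvd_pow h) hrq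
          · exact order_dvd_of_dvd_pow_sub_one h
        · exact (order_dvd_of_dvd_pow_sub_one (j := 1) (by rwa [pow_one])).trans (one_dvd _)
      obtain ⟨f, hf, hfQ, hfix⟩ := exists_hyp 2 hr2 hd'
      have hfQ' : ∀ v, PlusStd.plusQ F d (f v) = PlusStd.plusQ F d v := fun v => by rw [hQe]; exact hfQ v
      obtain ⟨x, hx, hz, hns, hxl⟩ := omega_odd hn he _ hQ hr2 hf hfQ' hfix
      obtain ⟨W, ⟨hW1, hv⟩, hWx⟩ := hall x hx hz hns
      rw [hxl] at hWx
      exact no_point _ hodd hf hfQ' hfix hW1 hv hWx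
  · rintro ⟨rfl, hdodd⟩ x hx ⟨z, hz⟩ -
    obtain ⟨hxQ, hev⟩ := of_omegaGL hn _ hQ hx
    set f := Matrix.toLin' (x : Matrix (Fin d ⊕ Fin d) (Fin d ⊕ Fin d) F) with hfd
    have hfQ : ∀ v, PlusStd.plusQ F d (f v) = PlusStd.plusQ F d v := fun v => by
      rw [hfd, Matrix.toLin'_apply]; exact hxQ v
    have hf2 : ∀ v, f (f v) = z • v := fun v => by
      rw [hfd, Matrix.toLin'_apply, Matrix.toLin'_apply, Matrix.mulVec_mulVec, ← pow_two, ← Units.val_pow_eq_pow_val,
        hz, Matrix.smul_mulVec, Matrix.one_mulVec]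
    have hz1 : z = 1 := by
      obtain ⟨v, hv⟩ : ∃ v, PlusStd.plusQ F d v ≠ 0 :=
        ⟨Sum.elim (Pi.single (⟨0, by omega⟩ : Fin d) (1 : F) : Fin d → F) (Pi.single (⟨0, by omega⟩ : Fin d) (1 : F) : Fin d → F), by
          rw [PlusStd.plusQ_apply]
          show ∑ i, (Pi.single (⟨0, by omega⟩ : Fin d) (1 : F) : Fin d → F) i * (Pi.single (⟨0, by omega⟩ : Fin d) (1 : F) : Fin d → F) i ≠ 0
          rw [Finset.sum_eq_single_of_mem (⟨0, by omega⟩ : Fin d) (Finset.mem_univ _)
            (fun j _ hj => by rw [Pi.single_eq_of_ne hj, zero_mul])]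
          simp⟩
      have h1 := hfQ (f v)
      rw [hf2, hfQ, QuadraticMap.map_smul, smul_eq_mul] at h1
      have h2 : z * z = 1 := mul_right_cancel₀ hv (by rw [one_mul]; exact h1)
      have h3 : (z + 1) * (z + 1) = 0 := by linear_combination h2 + CharTwo.add_self_eq_zero (z + 1)
      exact CharTwo.add_eq_zero.1 (mul_self_eq_zero.1 h3)
    rw [hz1] at hf2
    simp only [one_smul] at hf2
    by_contra hno
    have hfix : ∀ v, f v = v → PlusStd.plusQ F d v = 0 := fun v hv => by
      by_contra h0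
      refine hno ⟨Submodule.span F {v}, ⟨finrank_span_singleton fun e => h0 (by rw [e, QuadraticMap.map_zero]),
        v, Submodule.mem_span_singleton_self v, h0⟩, ?_⟩
      rw [Submodule.map_span, Set.image_singleton, hv]
    obtain ⟨h1, h2⟩ := large_rank _ hf2 d (fun U hU => by
      have := QuadClass.two_mul_finrank_le _ hQ U hU
      rw [Module.finrank_fintype_fun_eq_card, Fintype.card_sum, Fintype.card_fin] at this
      omega) hfix
    rw [Fintype.card_sum, Fintype.card_fin] at h1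
    obtain ⟨a, ha⟩ := hev
    obtain ⟨c, hc⟩ := hdodd
    omega

end Cfsg.Agent.S5985
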