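import Cfsg.Statements.S5983
import Cfsg.Agent.S5976
import Cfsg.Agent.S5985
import Cfsg.Agent.Lib.Classical.OrthTypes

set_option autoImplicit false
open scoped MatrixGroups
open Cfsg

namespace Cfsg.Agent.S5983

open Cfsg.Agent.Forms Cfsg.Agent.Classical Cfsg.Agent.Forms.Elusive Module Matrix
open Cfsg.Agent.S5976 (lin lin_mul lin_one lin_pow mem_spGL exists_gl)
open Cfsg.Agent.Classical.OrthTypes (IsPlus)

variable {F : Type*} [Field F] [CharP F 2] {d : ℕ}

theorem swap (u v : Fin d ⊕ Fin d → F) : SympStd.sympB d F v u = SympStd.sympB d F u v := by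
  rw [SympStd.sympB_apply, SympStd.sympB_apply, SympStd.sympForm_swap, CharTwo.neg_eq]

theorem self (u : Fin d ⊕ Fin d → F) : SympStd.sympB d F u u = 0 := SympStd.sympB_isAlt u

theorem refl_B : (SympStd.sympB d F).IsRefl := fun u v h => by rw [swap]; exact h

theorem orth_finrank (W : Submodule F (Fin d ⊕ Fin d → F)) :
    finrank F ↥((SympStd.sympB d F).orthogonal W) + finrank F W = 2 * d := by
  have h := LinearMap.BilinForm.finrank_orthogonal (SympStd.sympB_nondegenerate (m := d) (F := F)) W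
  have h2 := Submodule.finrank_le W
  rw [SympStd.finrank_vec] at h h2
  omega

/-- the forms with polar form the alternating one -/
noncomputable def R (a : Fin d ⊕ Fin d → F) : QuadraticForm F (Fin d ⊕ Fin d → F) :=
  PlusStd.plusQ F d + QuadraticMap.linMulLin (SympStd.sympB d F a) (SympStd.sympB d F a)

theorem R_apply (a v : Fin d ⊕ Fin d → F) :
    R a v = PlusStd.plusQ F d v + SympStd.sympB d F a v * SympStd.sympB d F a v := rfl

theorem R_zero : R (0 : Fin d ⊕ Fin d → F) = PlusStd.plusQ F d := by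
  refine QuadraticMap.ext fun v => ?_
  rw [R_apply, map_zero, LinearMap.zero_apply, mul_zero, add_zero]

theorem plusQ_add (u v : Fin d ⊕ Fin d → F) :
    PlusStd.plusQ F d (u + v) = PlusStd.plusQ F d u + PlusStd.plusQ F d v + SympStd.sympB d F u v := by
  simp only [PlusStd.plusQ_apply, Cfsg.quadFormPlus, SympStd.sympB_apply, SympStd.sympForm_eq, ← Finset.sum_add_distrib]
  refine Finset.sum_congr rfl fun i _ => ?_
  simp only [Pi.add_apply, CharTwo.sub_eq_add]
  ring

theorem R_add (a u v : Fin d ⊕ Fin d → F) : R a (u + v) = R a u + R a v + SympStd.sympB d F u v := by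
  rw [R_apply, R_apply, R_apply, plusQ_add, map_add]
  linear_combination CharTwo.add_self_eq_zero (SympStd.sympB d F a u * SympStd.sympB d F a v)

theorem R_smul (a : Fin d ⊕ Fin d → F) (c : F) (v : Fin d ⊕ Fin d → F) : R a (c • v) = c * c * R a v := by
  rw [QuadraticMap.map_smul, smul_eq_mul]

theorem R_nondeg (a : Fin d ⊕ Fin d → F) : (QuadraticMap.polarBilin (R a)).Nondegenerate := by
  have h : QuadraticMap.polarBilin (R a) = SympStd.sympB d F := LinearMap.ext₂ fun u v => by
    rw [QuadraticMap.polarBilin_apply_apply, QuadraticMap.polar, R_add]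
    ring
  rw [h]
  exact SympStd.sympB_nondegenerate

theorem sq_inj {x y : F} (h : x * x = y * y) : x = y := by
  refine CharTwo.add_eq_zero.1 (mul_self_eq_zero.1 ?_)
  linear_combination h + CharTwo.add_self_eq_zero (x * y) + CharTwo.add_self_eq_zero (y * y)

theorem R_inj {a b : Fin d ⊕ Fin d → F} (h : ∀ v, R a v = R b v) : a = b := by
  refine sub_eq_zero.1 (SympStd.sympB_nondegenerate.1 _ fun v => ?_)
  rw [map_sub, LinearMap.sub_apply, sub_eq_zero]
  refine sq_inj ?_
  have := h v
  rwa [R_apply, R_apply, add_right_inj] at this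

theorem iso_of_R {a b : Fin d ⊕ Fin d → F} {f : (Fin d ⊕ Fin d → F) →ₗ[F] (Fin d ⊕ Fin d → F)}
    (hf : ∀ v, R b (f v) = R a v) (u v : Fin d ⊕ Fin d → F) :
    SympStd.sympB d F (f u) (f v) = SympStd.sympB d F u v := by
  have h := R_add b (f u) (f v)
  rw [← map_add, hf, hf, hf, R_add] at h
  exact (add_left_cancel h).symm

/-- invariant forms differ by fixed vectors -/
theorem inv_diff {a b : Fin d ⊕ Fin d → F} {f : (Fin d ⊕ Fin d → F) →ₗ[F] (Fin d ⊕ Fin d → F)}
    (ha : ∀ v, R a (f v) = R a v) (hb : ∀ v, R b (f v) = R b v) (hs : Function.Surjective f) :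
    f (a + b) = a + b := by
  refine sub_eq_zero.1 (SympStd.sympB_nondegenerate.1 _ fun w => ?_)
  obtain ⟨v, rfl⟩ := hs w
  have h1 := ha v
  have h2 := hb v
  rw [R_apply, R_apply] at h1 h2
  rw [map_sub, LinearMap.sub_apply, iso_of_R ha, sub_eq_zero]
  refine sq_inj ?_
  simp only [map_add, LinearMap.add_apply]
  linear_combination CharTwo.add_self_eq_zero (PlusStd.plusQ F d (f v)) - CharTwo.add_self_eq_zero (PlusStd.plusQ F d v)
    - CharTwo.add_self_eq_zero (SympStd.sympB d F a (f v) * SympStd.sympB d F b (f v))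
    + CharTwo.add_self_eq_zero (SympStd.sympB d F a v * SympStd.sympB d F b v) - h1 - h2

/-- the subgroup of values `t² + t` -/
def AS : AddSubgroup F where
  carrier := {c | ∃ t, t * t + t = c}
  zero_mem' := ⟨0, by simp⟩
  add_mem' := by
    rintro x y ⟨s, rfl⟩ ⟨t, rfl⟩
    exact ⟨s + t, by linear_combination CharTwo.add_self_eq_zero (s * t)⟩
  neg_mem' := by
    rintro x hx
    rwa [CharTwo.neg_eq]

theorem AS_sq (x : F) : x + x * x ∈ (AS : AddSubgroup F) := ⟨x, by ring⟩

variable [Fintype F]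

theorem AS_index : (AS : AddSubgroup F).index = 2 := by
  let φ : F →+ F := AddMonoidHom.mk' (fun t => t * t + t)
    fun s t => by linear_combination CharTwo.add_self_eq_zero (s * t)
  have hrange : φ.range = AS := rfl
  have hker : Nat.card φ.ker = 2 := by
    refine Nat.card_eq_two_iff.2 ⟨0, ⟨1, show (1 : F) * 1 + 1 = 0 by rw [one_mul, CharTwo.add_self_eq_zero]⟩,
      fun h => zero_ne_one (α := F) (congrArg Subtype.val h :), Set.eq_univ_of_forall fun x => ?_⟩
    have hx : (x : F) * x + x = 0 := x.2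
    rcases mul_eq_zero.1 (show (x : F) * ((x : F) + 1) = 0 by linear_combination hx) with h | h
    · exact Or.inl (Subtype.ext h)
    · exact Or.inr (Subtype.ext (CharTwo.add_eq_zero.1 h))
  have h1 := φ.ker.index_mul_card
  rw [hker, AddSubgroup.index_ker, hrange] at h1
  have h2 := (AS : AddSubgroup F).index_mul_card
  have hpos : 0 < Nat.card (AS : AddSubgroup F) := Nat.card_pos
  nlinarith

theorem AS_zero_of_all {x : F} (h : ∀ c : F, c * c * x ∈ (AS : AddSubgroup F)) : x = 0 := by
  by_contra hx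
  obtain ⟨y, hy⟩ : ∃ y : F, y ∉ (AS : AddSubgroup F) := by
    by_contra hcon
    push Not at hcon
    have := AS_index (F := F)
    rw [show (AS : AddSubgroup F) = ⊤ from eq_top_iff.2 fun y _ => hcon y, AddSubgroup.index_top] at this
    omega
  obtain ⟨c, hc⟩ := FiniteField.isSquare_of_char_two (ringChar.eq F 2) (y / x)
  exact hy (by simpa [← hc, div_mul_cancel₀ _ hx] using h c)

/-- the type of a form -/
theorem isPlus_iff (a : Fin d ⊕ Fin d → F) : IsPlus (R a) d ↔ PlusStd.plusQ F d a ∈ (AS : AddSubgroup F) := by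
  constructor
  · rintro ⟨L, hL, hLd⟩
    by_contra hA
    set Q₀ := PlusStd.plusQ F d with hQ₀
    have hLB : ∀ u ∈ L, ∀ v ∈ L, SympStd.sympB d F u v = 0 := fun u hu v hv => by
      have h := R_add a u v
      rw [hL _ (L.add_mem hu hv), hL u hu, hL v hv] at h
      linear_combination -h
    have haL : a ∉ L := fun ha => hA (by
      have h := hL a ha
      rw [R_apply, self, mul_zero, add_zero] at h
      rw [hQ₀, h]; exact zero_mem _)
    obtain ⟨l, hl, hal⟩ : ∃ l ∈ L, SympStd.sympB d F a l = 1 := by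
      by_contra hcon
      push Not at hcon
      have h0 : ∀ l ∈ L, SympStd.sympB d F a l = 0 := fun l hl => by
        by_contra hne
        exact hcon _ (L.smul_mem (SympStd.sympB d F a l)⁻¹ hl) (by rw [map_smul, smul_eq_mul, inv_mul_cancel₀ hne])
      have hle : L ≤ (SympStd.sympB d F).orthogonal L := fun v hv u hu => hLB u hu v hv
      have h1 := orth_finrank L
      exact haL ((Submodule.eq_of_le_of_finrank_le hle (by omega)).symm ▸
        (fun u hu => show SympStd.sympB d F u a = 0 by rw [swap]; exact h0 u hu :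
          a ∈ (SympStd.sympB d F).orthogonal L))
    have hQl : Q₀ l = 1 := by
      have h := hL l hl
      rw [R_apply, hal, mul_one] at h
      exact CharTwo.add_eq_zero.1 h
    set L₀ := L ⊓ LinearMap.ker (SympStd.sympB d F a) with hL₀
    have hL₀Q : ∀ u ∈ L₀, Q₀ u = 0 := fun u hu => by
      have h := hL u hu.1
      rwa [R_apply, show SympStd.sympB d F a u = 0 from hu.2, mul_zero, add_zero] at h
    have hk : d ≤ finrank F L₀ + 1 := by
      have h1 := Submodule.finrank_sup_add_finrank_inf_eq L (LinearMap.ker (SympStd.sympB d F a))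
      have h2 := LinearMap.finrank_range_add_finrank_ker (SympStd.sympB d F a)
      have h3 := Submodule.finrank_le (L ⊔ LinearMap.ker (SympStd.sympB d F a))
      have h4 := Submodule.finrank_le (LinearMap.range (SympStd.sympB d F a))
      rw [Module.finrank_self] at h4
      rw [SympStd.finrank_vec] at h2 h3
      rw [← hL₀] at h1
      omega
    set P := Submodule.span F ({a, l} : Set (Fin d ⊕ Fin d → F)) with hP
    obtain ⟨hP2, -⟩ := plane_split SympStd.sympB_isAlt (W := (⊤ : Submodule F (Fin d ⊕ Fin d → F)))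
      (Submodule.mem_top (x := a)) (Submodule.mem_top (x := l)) (by rw [hal]; exact one_ne_zero)
    have haniso : ∀ w ∈ P, Q₀ w = 0 → w = 0 := by
      intro w hw h0
      obtain ⟨x, y, rfl⟩ := Submodule.mem_span_pair.1 hw
      rw [plusQ_add, QuadraticMap.map_smul, QuadraticMap.map_smul, map_smul, map_smul, LinearMap.smul_apply, hal,
        hQl, smul_eq_mul, smul_eq_mul, smul_eq_mul, smul_eq_mul, mul_one] at h0
      by_cases hx : x = 0
      · rw [hx] at h0
        rw [hx, mul_self_eq_zero.1 (show y * y = 0 by linear_combination h0)]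
        simp
      · refine absurd ⟨y / x, ?_⟩ hA
        field_simp
        linear_combination h0 - CharTwo.add_self_eq_zero (x * x * Q₀ a)
    have hdisj : Disjoint L₀ P := Submodule.disjoint_def.2 fun w h1 h2 => haniso w h2 (hL₀Q w h1)
    have hW : L₀ ⊔ P ≤ (SympStd.sympB d F).orthogonal L₀ := by
      refine sup_le (fun v hv u hu => hLB u hu.1 v hv.1) (Submodule.span_le.2 ?_)
      rintro w (rfl | rfl) u hu
      · show SympStd.sympB d F u _ = 0
        rw [swap]; exact hu.2
      · exact hLB u hu.1 _ hl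
    have hWd := Submodule.finrank_sup_add_finrank_inf_eq L₀ P
    rw [hdisj.eq_bot, finrank_bot, hP2] at hWd
    have hWle := Submodule.finrank_mono hW
    have hL₀o := orth_finrank L₀
    have hWeq : L₀ ⊔ P = (SympStd.sympB d F).orthogonal L₀ := Submodule.eq_of_le_of_finrank_le hW (by omega)
    obtain ⟨U, hU, hUd⟩ := OrthTypes.isPlus_plusQ (F := F) d
    have hUB : ∀ u ∈ U, ∀ v ∈ U, SympStd.sympB d F u v = 0 := fun u hu v hv => by
      have h := plusQ_add u v
      rw [hU _ (U.add_mem hu hv), hU u hu, hU v hv] at h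
      linear_combination -h
    have hUo : U = (SympStd.sympB d F).orthogonal U :=
      Submodule.eq_of_le_of_finrank_le (fun v hv u hu => hUB u hu v hv) (by have := orth_finrank U; omega)
    have hle : (SympStd.sympB d F).orthogonal (U ⊔ L₀) ≤ U ⊓ (L₀ ⊔ P) := le_inf
      ((LinearMap.BilinForm.orthogonal_le le_sup_left).trans hUo.ge)
      ((LinearMap.BilinForm.orthogonal_le le_sup_right).trans hWeq.ge)
    have h5 := Submodule.finrank_mono hle
    have h6 := orth_finrank (U ⊔ L₀)
    have h7 := Submodule.finrank_sup_add_finrank_inf_eq U L₀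
    obtain ⟨w, hw, hw0⟩ : ∃ w ∈ U ⊓ (L₀ ⊔ P), w ∉ L₀ := by
      by_contra hcon
      push Not at hcon
      have hle' : U ⊓ (L₀ ⊔ P) ≤ U ⊓ L₀ := fun w hw => ⟨hw.1, hcon w hw⟩
      have h8 := Submodule.finrank_mono hle'
      omega
    obtain ⟨l₀, hl₀, p, hp, rfl⟩ := Submodule.mem_sup.1 hw.2
    have h9 := hU _ hw.1
    have hlp : SympStd.sympB d F l₀ p = 0 := hW (Submodule.mem_sup_right hp) l₀ hl₀
    rw [plusQ_add, hL₀Q _ hl₀, hlp, zero_add, add_zero] at h9
    exact hw0 (by rw [haniso p hp h9, add_zero]; exact hl₀)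
  · rintro ⟨t, ht⟩
    obtain ⟨s, hs⟩ : ∃ s : F, s + s * s * PlusStd.plusQ F d a = 1 := by
      by_cases h0 : PlusStd.plusQ F d a = 0
      · exact ⟨1, by rw [h0]; ring⟩
      · refine ⟨t / PlusStd.plusQ F d a, ?_⟩
        field_simp
        linear_combination ht
    let τ : (Fin d ⊕ Fin d → F) →ₗ[F] (Fin d ⊕ Fin d → F) :=
      LinearMap.id + (s • SympStd.sympB d F a).smulRight a
    have hτ : ∀ v, τ v = v + (s * SympStd.sympB d F a v) • a := fun v => by simp [τ]
    have hττ : ∀ v, τ (τ v) = v := fun v => by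
      rw [hτ, hτ, map_add, map_smul, self, smul_zero, add_zero, add_assoc, ← add_smul, CharTwo.add_self_eq_zero,
        zero_smul, add_zero]
    let e : (Fin d ⊕ Fin d → F) ≃ₗ[F] (Fin d ⊕ Fin d → F) := { τ with invFun := τ, left_inv := hττ, right_inv := hττ }
    refine (OrthTypes.isPlus_plusQ d).map e fun v => ?_
    have h : ∀ v, PlusStd.plusQ F d (τ v) = R a v := fun v => by
      rw [hτ, plusQ_add, QuadraticMap.map_smul, map_smul, smul_eq_mul, smul_eq_mul, swap a v, R_apply]
      linear_combination (SympStd.sympB d F a v * SympStd.sympB d F a v) * hs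
    show R a (τ v) = _
    rw [← h, hττ]

theorem exists_param {f : (Fin d ⊕ Fin d → F) → F} (hs : ∀ (c : F) v, f (c • v) = c * c * f v)
    (hp : ∀ u v, f (u + v) = f u + f v + SympStd.sympB d F u v) : ∃ a, ∀ v, f v = R a v := by
  have hsq : ∀ x : F, ∃ s : F, x = s * s := fun x => FiniteField.isSquare_of_char_two (ringChar.eq F 2) x
  choose s hs' using hsq
  let φ : (Fin d ⊕ Fin d → F) →ₗ[F] F :=
    { toFun := fun v => s (f v + PlusStd.plusQ F d v)
      map_add' := fun u v => sq_inj (by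
        rw [← hs', hp, plusQ_add]
        linear_combination hs' (f u + PlusStd.plusQ F d u) + hs' (f v + PlusStd.plusQ F d v)
          + CharTwo.add_self_eq_zero (SympStd.sympB d F u v)
          - CharTwo.add_self_eq_zero (s (f u + PlusStd.plusQ F d u) * s (f v + PlusStd.plusQ F d v)))
      map_smul' := fun c v => sq_inj (by
        rw [← hs', hs, QuadraticMap.map_smul, smul_eq_mul, RingHom.id_apply, smul_eq_mul]
        linear_combination (c * c) * hs' (f v + PlusStd.plusQ F d v)) }
  refine ⟨((SympStd.sympB d F).toDual SympStd.sympB_nondegenerate).symm φ, fun v => ?_⟩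
  rw [R_apply, show SympStd.sympB d F (((SympStd.sympB d F).toDual SympStd.sympB_nondegenerate).symm φ) v = φ v by
    rw [← LinearMap.BilinForm.toDual_def SympStd.sympB_nondegenerate, LinearEquiv.apply_symm_apply]]
  show f v = _ + s _ * s _
  rw [← hs']
  linear_combination -CharTwo.add_self_eq_zero (PlusStd.plusQ F d v)

theorem exists_gl_of (f : (Fin d ⊕ Fin d → F) ≃ₗ[F] (Fin d ⊕ Fin d → F))
    (hf : ∀ u v, SympStd.sympB d F (f u) (f v) = SympStd.sympB d F u v) :
    ∃ g ∈ Cfsg.spGL d F, ∀ v, lin g v = f v := by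
  obtain ⟨g, hg, hgl⟩ := exists_gl (SympStd.ofEquiv f fun u v => by
    rw [← SympStd.sympB_apply, ← SympStd.sympB_apply, hf])
  exact ⟨g, hg, fun v => by rw [hgl, Matrix.toLin'_apply, SympStd.ofEquiv_mulVec]⟩

theorem exists_conj {a b : Fin d ⊕ Fin d → F} (h : IsPlus (R a) d ↔ IsPlus (R b) d) :
    ∃ g ∈ Cfsg.spGL d F, ∀ v, R b (lin g v) = R a v := by
  obtain ⟨e, he⟩ := OrthTypes.exists_isometry (m := d) (Q := R a) (R := R b) (by simp [two_mul]) (by simp [two_mul])
    (R_nondeg a) (R_nondeg b) h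
  obtain ⟨g, hg, hgl⟩ := exists_gl_of e (iso_of_R (f := (e : (Fin d ⊕ Fin d → F) →ₗ[F] _)) he)
  exact ⟨g, hg, fun v => by rw [hgl, he]⟩

theorem lin_can (g : GL (Fin d ⊕ Fin d) F) (v : Fin d ⊕ Fin d → F) : lin g⁻¹ (lin g v) = v := by
  rw [← lin_mul, inv_mul_cancel, lin_one]

theorem lin_can' (g : GL (Fin d ⊕ Fin d) F) (v : Fin d ⊕ Fin d → F) : lin g (lin g⁻¹ v) = v := by
  rw [← lin_mul, mul_inv_cancel, lin_one]

theorem type_of_map {a b : Fin d ⊕ Fin d → F} {g : GL (Fin d ⊕ Fin d) F} (h : ∀ v, R b (lin g v) = R a v) :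
    IsPlus (R a) d ↔ IsPlus (R b) d := by
  let e : (Fin d ⊕ Fin d → F) ≃ₗ[F] (Fin d ⊕ Fin d → F) :=
    { lin g with invFun := lin g⁻¹, left_inv := lin_can g, right_inv := lin_can' g }
  exact ⟨fun hp => hp.map e h, fun hp => hp.map e.symm fun v => by
    show R a (lin g⁻¹ v) = R b v
    rw [← h, lin_can']⟩

theorem mem_norm (hd : 0 < d) {a : Fin d ⊕ Fin d → F} {g : GL (Fin d ⊕ Fin d) F} (hg : g ∈ Cfsg.spGL d F) :
    g ∈ Cfsg.Geo.quadSimilarityGroup ⇑(R a) ↔ ∀ v, R a (lin g v) = R a v := by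
  refine ⟨fun ⟨c, hc⟩ v => ?_, fun h => ⟨1, fun v => by rw [Units.val_one, one_mul, ← Matrix.toLin'_apply]; exact h v⟩⟩
  have hc' : ∀ v, R a (lin g v) = (c : F) * R a v := fun v => by rw [lin, Matrix.toLin'_apply]; exact hc v
  set u : Fin d ⊕ Fin d → F := Pi.single (Sum.inr ⟨0, hd⟩) 1
  set w : Fin d ⊕ Fin d → F := Pi.single (Sum.inl ⟨0, hd⟩) 1
  have hB : SympStd.sympB d F u w = 1 := by rw [SympStd.sympB_apply, SympStd.sympForm_inr_inl, if_pos rfl]
  have h1 := R_add a (lin g u) (lin g w)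
  rw [← map_add, hc', hc', hc', R_add, mem_spGL.1 hg, hB] at h1
  have hc1 : (c : F) = 1 := by linear_combination h1
  rw [hc', hc1, one_mul]

theorem index_eq (hd : 0 < d) (a : Fin d ⊕ Fin d → F) :
    (Cfsg.Geo.quadSimilarityGroup ⇑(R a)).relIndex (Cfsg.spGL d F) =
      Nat.card {b : Fin d ⊕ Fin d → F // IsPlus (R b) d ↔ IsPlus (R a) d} := by
  classical
  have hex : ∀ g : Cfsg.spGL d F, ∃ b, ∀ v, R a (lin (g : GL (Fin d ⊕ Fin d) F)⁻¹ v) = R b v := fun g =>
    exists_param (fun c v => by rw [map_smul, R_smul]) fun u v => by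
      rw [map_add, R_add, mem_spGL.1 ((Cfsg.spGL d F).inv_mem g.2)]
  choose β hβ using hex
  have hβtype : ∀ g, IsPlus (R (β g)) d ↔ IsPlus (R a) d := fun g =>
    type_of_map fun v => hβ g v
  let f : Cfsg.spGL d F → {b : Fin d ⊕ Fin d → F // IsPlus (R b) d ↔ IsPlus (R a) d} := fun g => ⟨β g, hβtype g⟩
  have hkey : ∀ g₁ g₂, f g₁ = f g₂ ↔
      g₁⁻¹ * g₂ ∈ (Cfsg.Geo.quadSimilarityGroup ⇑(R a)).subgroupOf (Cfsg.spGL d F) := fun g₁ g₂ => by
    rw [Subgroup.mem_subgroupOf, mem_norm hd (g₁⁻¹ * g₂).2]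
    simp only [Subgroup.coe_mul, Subgroup.coe_inv, lin_mul]
    constructor
    · intro h v
      rw [hβ, show β g₁ = β g₂ from congrArg Subtype.val h, ← hβ, lin_can]
    · intro h
      refine Subtype.ext (R_inj fun v => ?_)
      rw [← hβ, ← hβ, ← h (lin (g₂ : GL (Fin d ⊕ Fin d) F)⁻¹ v), lin_can']
  refine Nat.card_congr (Equiv.ofBijective
    (Quotient.lift f fun g₁ g₂ h => (hkey g₁ g₂).2 (QuotientGroup.leftRel_apply.1 h)) ⟨?_, ?_⟩)
  · rintro ⟨g₁⟩ ⟨g₂⟩ h
    exact Quotient.sound (QuotientGroup.leftRel_apply.2 ((hkey g₁ g₂).1 h))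
  · rintro ⟨b, hb⟩
    obtain ⟨g, hg, hgv⟩ := exists_conj (a := a) (b := b) hb.symm
    refine ⟨Quotient.mk _ ⟨g, hg⟩, Subtype.ext (R_inj fun v => ?_)⟩
    show R (β ⟨g, hg⟩) v = R b v
    rw [← hβ, ← hgv]
    exact congrArg (R b) (lin_can' g v)

theorem count_plus (hd : 1 ≤ d) :
    2 * Nat.card {b : Fin d ⊕ Fin d → F // IsPlus (R b) d} = Fintype.card F ^ d * (Fintype.card F ^ d + 1) := by
  classical
  set q := Fintype.card F with hq
  set Q₀ := PlusStd.plusQ F d
  set N := Nat.card {v : Fin d ⊕ Fin d → F // Q₀ v = 1} with hN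
  have hfib : ∀ c : F, c ≠ 0 → Nat.card {v : Fin d ⊕ Fin d → F // Q₀ v = c} = N := fun c hc => by
    obtain ⟨s, rfl⟩ := FiniteField.isSquare_of_char_two (ringChar.eq F 2) c
    have hs : s ≠ 0 := fun e => hc (by rw [e, mul_zero])
    exact Nat.card_congr
      { toFun := fun v => ⟨s⁻¹ • v.1, by rw [QuadraticMap.map_smul, v.2, smul_eq_mul]; field_simp⟩
        invFun := fun v => ⟨s • v.1, by rw [QuadraticMap.map_smul, v.2, smul_eq_mul, mul_one]⟩
        left_inv := fun v => Subtype.ext (smul_inv_smul₀ hs v.1)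
        right_inv := fun v => Subtype.ext (inv_smul_smul₀ hs v.1) }
  have hsum : ∀ S : Finset F, (0 : F) ∈ S → Nat.card {v : Fin d ⊕ Fin d → F // Q₀ v ∈ S} + N =
      OrthCount.zeros ⇑Q₀ + S.card * N := fun S h0 => by
    have h1 : Nat.card {v : Fin d ⊕ Fin d → F // Q₀ v ∈ S} = ∑ c ∈ S, Nat.card {v : Fin d ⊕ Fin d → F // Q₀ v = c} := by
      simp only [Nat.card_eq_fintype_card, Fintype.card_subtype]
      rw [← Finset.card_biUnion]
      · congr 1; ext v; simp
      · intro x _ y _ hxy
        exact Finset.disjoint_left.2 fun v hx hy => hxy (by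
          rw [← (Finset.mem_filter.1 hx).2, (Finset.mem_filter.1 hy).2])
    rw [h1, ← Finset.add_sum_erase _ _ h0, Finset.sum_congr rfl (fun c hc => hfib c (Finset.ne_of_mem_erase hc)),
      Finset.sum_const, smul_eq_mul, Finset.card_erase_of_mem h0, OrthCount.zeros]
    obtain ⟨m, hm⟩ : ∃ m, S.card = m + 1 := ⟨S.card - 1, by have := Finset.card_pos.2 ⟨0, h0⟩; omega⟩
    rw [hm, Nat.add_sub_cancel]
    ring
  have htot := hsum Finset.univ (Finset.mem_univ _)
  rw [Nat.card_congr (Equiv.subtypeUnivEquiv fun v => Finset.mem_univ _), Nat.card_fun, Nat.card_eq_fintype_card,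
    Finset.card_univ, ← hq, Nat.card_eq_fintype_card, Fintype.card_sum, Fintype.card_fin] at htot
  have hAS := hsum (Finset.univ.filter fun c => c ∈ (AS : AddSubgroup F))
    (Finset.mem_filter.2 ⟨Finset.mem_univ _, zero_mem _⟩)
  have hcard : 2 * (Finset.univ.filter fun c => c ∈ (AS : AddSubgroup F)).card = q := by
    have h := (AS : AddSubgroup F).index_mul_card
    rw [AS_index, Nat.card_eq_fintype_card, Nat.card_eq_fintype_card, Fintype.card_subtype] at h
    exact h
  have heq : Nat.card {b : Fin d ⊕ Fin d → F // IsPlus (R b) d} =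
      Nat.card {v : Fin d ⊕ Fin d → F // Q₀ v ∈ Finset.univ.filter fun c => c ∈ (AS : AddSubgroup F)} :=
    Nat.card_congr (Equiv.subtypeEquivRight fun b => by simp [isPlus_iff, Q₀])
  rw [← heq] at hAS
  have hz := OrthForms.cast_zeros_plus (F := F) (q := q) rfl d
  change (q : ℤ) * (OrthCount.zeros ⇑Q₀ : ℤ) = _ at hz
  set X := Nat.card {b : Fin d ⊕ Fin d → F // IsPlus (R b) d}
  set Z := OrthCount.zeros ⇑Q₀
  have hq2 : 1 < q := Fintype.one_lt_card
  have h1 : (2 * (X : ℤ)) * ((q : ℤ) - 1) = ((q : ℤ) ^ d * ((q : ℤ) ^ d + 1)) * ((q : ℤ) - 1) := by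
    have e1 : (X : ℤ) + N = Z + ((Finset.univ.filter fun c => c ∈ (AS : AddSubgroup F)).card : ℤ) * N := by
      exact_mod_cast hAS
    have e2 : (q : ℤ) ^ (d + d) + N = Z + (q : ℤ) * N := by exact_mod_cast htot
    have e3 : 2 * ((Finset.univ.filter fun c => c ∈ (AS : AddSubgroup F)).card : ℤ) = q := by exact_mod_cast hcard
    rw [show 2 * d = d + d by ring, pow_succ, pow_add] at hz
    rw [pow_add] at e2
    linear_combination (2 * ((q : ℤ) - 1)) * e1 + ((q : ℤ) - 1) * (N : ℤ) * e3 - ((q : ℤ) - 2) * e2 + hz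
  exact_mod_cast mul_right_cancel₀ (sub_ne_zero.2 (by exact_mod_cast hq2.ne' : (q : ℤ) ≠ 1)) h1

/-- invariant forms of a free element are of minus type -/
theorem not_plus_of_free (hd : 1 ≤ d) {r : ℕ} [hr : Fact r.Prime] (hro : Odd r)
    (hq : ((Fintype.card F : ℕ) : ZMod r) ^ d = -1)
    {f : (Fin d ⊕ Fin d → F) →ₗ[F] (Fin d ⊕ Fin d → F)} (hfree : ∀ v, f v = v → v = 0)
    (hf : ∀ v, (f ^ r) v = v) {a : Fin d ⊕ Fin d → F} (ha : ∀ v, R a (f v) = R a v) : ¬ IsPlus (R a) d := by
  classical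
  intro hp
  obtain ⟨g, -, hg⟩ := exists_conj (a := a) (b := 0) ⟨fun _ => by rw [R_zero]; exact OrthTypes.isPlus_plusQ d, fun _ => hp⟩
  let e : {v : Fin d ⊕ Fin d → F // R a v = 0} ≃ {v : Fin d ⊕ Fin d → F // PlusStd.plusQ F d v = 0} :=
    { toFun := fun v => ⟨lin g v.1, by rw [← R_zero, hg, v.2]⟩
      invFun := fun v => ⟨lin g⁻¹ v.1, by rw [← hg, lin_can', R_zero, v.2]⟩
      left_inv := fun v => Subtype.ext (lin_can g v.1)
      right_inv := fun v => Subtype.ext (lin_can' g v.1) }
  let σ : Function.End {v : Fin d ⊕ Fin d → F // R a v = 0} := fun v => ⟨f v.1, by rw [ha, v.2]⟩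
  have hσ : ∀ (n : ℕ) v, (((σ ^ n) v : {v : Fin d ⊕ Fin d → F // R a v = 0}) : Fin d ⊕ Fin d → F) = (f ^ n) v.1 := fun n => by
    induction n with
    | zero => intro v; rfl
    | succ n ih => intro v; rw [pow_succ', pow_succ' f, Module.End.mul_apply, ← ih]; rfl
  have hfix : Fintype.card σ.fixedPoints = 1 := by
    refine Fintype.card_eq_one_iff.2 ⟨⟨⟨0, QuadraticMap.map_zero _⟩, Subtype.ext (map_zero f)⟩, fun v => ?_⟩
    exact Subtype.ext (Subtype.ext (hfree _ (congrArg Subtype.val v.2)))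
  have h1 := Equiv.Perm.card_fixedPoints_modEq (p := r) (n := 1) (f := σ) (by
    rw [pow_one]; funext v; exact Subtype.ext (by rw [hσ, hf]; rfl))
  rw [hfix, ← Nat.card_eq_fintype_card, Nat.card_congr e, ← ZMod.natCast_eq_natCast_iff, Nat.cast_one] at h1
  have hz := congrArg (Int.cast : ℤ → ZMod r) (OrthForms.cast_zeros_plus (F := F) (q := Fintype.card F) rfl d)
  rw [OrthCount.zeros] at hz
  push_cast at hz
  rw [h1, mul_one, show 2 * d = d + d by ring, pow_add, pow_succ, hq] at hz
  have h2 : (2 : ZMod r) * ((Fintype.card F : ZMod r) - 1) = 0 := by linear_combination hz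
  rcases mul_eq_zero.1 h2 with h | h
  · have h' : ((2 : ℕ) : ZMod r) = 0 := by exact_mod_cast h
    rw [ZMod.natCast_eq_zero_iff] at h'
    rw [(Nat.prime_dvd_prime_iff_eq hr.out Nat.prime_two).1 h'] at hro
    exact absurd hro (by decide)
  · rw [sub_eq_zero.1 h, one_pow] at hq
    haveI : Fact (2 < r) := ⟨by
      have := hr.out.two_le
      rcases eq_or_ne r 2 with e2 | e2
      · rw [e2] at hro; exact absurd hro (by decide)
      · omega⟩
    exact ZMod.neg_one_ne_one hq.symm

/-- every involution preserves a form -/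
theorem exists_invariant (a : Fin d ⊕ Fin d → F) {f : (Fin d ⊕ Fin d → F) →ₗ[F] (Fin d ⊕ Fin d → F)}
    (hiso : ∀ u v, SympStd.sympB d F (f u) (f v) = SympStd.sympB d F u v) (hf : ∀ v, f (f v) = v) :
    ∃ b, ∀ v, R b (f v) = R b v := by
  obtain ⟨a', ha'⟩ := exists_param (f := fun v => R a (f v)) (fun c v => by rw [map_smul, R_smul]) fun u v => by
    rw [map_add, R_add, hiso]
  set w := a + a' with hw
  have hD : ∀ v, R a (f v) = R a v + SympStd.sympB d F w v * SympStd.sympB d F w v := fun v => by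
    rw [ha', R_apply, R_apply, hw, map_add, LinearMap.add_apply]
    linear_combination -CharTwo.add_self_eq_zero (SympStd.sympB d F a v * SympStd.sympB d F a' v)
      - CharTwo.add_self_eq_zero (SympStd.sympB d F a v * SympStd.sympB d F a v)
  have hle : LinearMap.range (f + LinearMap.id) ≤ (SympStd.sympB d F).orthogonal (LinearMap.ker (f + LinearMap.id)) := by
    rintro _ ⟨u, rfl⟩ v hv
    have hv' : f v = v := funext fun i => CharTwo.add_eq_zero.1 (congrFun (show f v + v = 0 from hv) i)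
    show SympStd.sympB d F v ((f + LinearMap.id : (Fin d ⊕ Fin d → F) →ₗ[F] _) u) = 0
    rw [LinearMap.add_apply, LinearMap.id_apply, map_add]
    nth_rw 1 [← hv']
    rw [hiso, CharTwo.add_self_eq_zero]
  have hwm : w ∈ (SympStd.sympB d F).orthogonal (LinearMap.ker (f + LinearMap.id)) := fun v hv => by
    have hv' : f v = v := funext fun i => CharTwo.add_eq_zero.1 (congrFun (show f v + v = 0 from hv) i)
    have h := hD v
    rw [hv'] at h
    show SympStd.sympB d F v w = 0
    rw [swap, mul_self_eq_zero.1 (show SympStd.sympB d F w v * SympStd.sympB d F w v = 0 by linear_combination -h)]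
  rw [← Submodule.eq_of_le_of_finrank_le hle (by
    have h1 := LinearMap.finrank_range_add_finrank_ker (f + LinearMap.id)
    have h2 := orth_finrank (LinearMap.ker (f + LinearMap.id))
    rw [SympStd.finrank_vec] at h1
    omega)] at hwm
  obtain ⟨u, hu⟩ := hwm
  refine ⟨a + u, fun v => ?_⟩
  have hR : ∀ x, R (a + u) x = R a x + SympStd.sympB d F u x * SympStd.sympB d F u x := fun x => by
    rw [R_apply, R_apply, map_add, LinearMap.add_apply]
    linear_combination CharTwo.add_self_eq_zero (SympStd.sympB d F a x * SympStd.sympB d F u x)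
  have h3 : SympStd.sympB d F w v = SympStd.sympB d F u (f v) + SympStd.sympB d F u v := by
    rw [← hu, LinearMap.add_apply, LinearMap.id_apply, map_add, LinearMap.add_apply]
    congr 1
    rw [← hiso, hf]
  rw [hR, hR, hD, h3]
  linear_combination CharTwo.add_self_eq_zero (SympStd.sympB d F u (f v) * SympStd.sympB d F u (f v))
    + CharTwo.add_self_eq_zero (SympStd.sympB d F u (f v) * SympStd.sympB d F u v)

/-- the type of an invariant form -/
theorem exists_typed (hP : Prop) (hor : hP ∨ Odd d) {f : (Fin d ⊕ Fin d → F) →ₗ[F] (Fin d ⊕ Fin d → F)}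
    (hf : ∀ v, f (f v) = v) {b : Fin d ⊕ Fin d → F} (hb : ∀ v, R b (f v) = R b v) :
    ∃ b', (∀ v, R b' (f v) = R b' v) ∧ (IsPlus (R b') d ↔ hP) := by
  classical
  by_cases hgood : IsPlus (R b) d ↔ hP
  · exact ⟨b, hb, hgood⟩
  have hiso := iso_of_R hb
  by_cases hfix : ∃ u, f u = u ∧ R b u ∉ (AS : AddSubgroup F)
  · obtain ⟨u, hu, huA⟩ := hfix
    refine ⟨b + u, fun v => ?_, ?_⟩
    · have h1 : SympStd.sympB d F u (f v) = SympStd.sympB d F u v := by
        conv_lhs => rw [← hu]
        exact hiso u v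
      have h2 := hb v
      rw [R_apply, R_apply] at h2
      rw [R_apply, R_apply, map_add, LinearMap.add_apply, LinearMap.add_apply, h1]
      linear_combination h2 + CharTwo.add_self_eq_zero (SympStd.sympB d F b (f v) * SympStd.sympB d F u v)
        - CharTwo.add_self_eq_zero (SympStd.sympB d F b v * SympStd.sympB d F u v)
    · have h : IsPlus (R (b + u)) d ↔ ¬ IsPlus (R b) d := by
        rw [isPlus_iff, isPlus_iff, show PlusStd.plusQ F d (b + u) = PlusStd.plusQ F d b +
          (R b u + (SympStd.sympB d F b u + SympStd.sympB d F b u * SympStd.sympB d F b u)) by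
          rw [plusQ_add, R_apply]
          linear_combination -CharTwo.add_self_eq_zero (SympStd.sympB d F b u * SympStd.sympB d F b u)]
        have h1 := AddSubgroup.add_mem_iff_of_index_two (AS_index (F := F))
          (a := PlusStd.plusQ F d b) (b := R b u + (SympStd.sympB d F b u + SympStd.sympB d F b u * SympStd.sympB d F b u))
        rw [AddSubgroup.add_mem_cancel_right _ (AS_sq _)] at h1
        tauto
      tauto
  · push Not at hfix
    exfalso
    have hsing : ∀ u ∈ LinearMap.ker (f - 1), R b u = 0 := fun u hu => AS_zero_of_all fun c => by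
      have h : f u = u := sub_eq_zero.1 (LinearMap.mem_ker.1 hu)
      rw [← R_smul]
      exact hfix _ (by rw [map_smul, h])
    obtain ⟨hk1, hk2⟩ := S5985.large_rank (R b) hf d (fun U hU => by
      have h := QuadClass.two_mul_finrank_le _ (R_nondeg b) U hU
      rw [SympStd.finrank_vec] at h
      omega) fun v hv => hsing v (LinearMap.mem_ker.2 (sub_eq_zero.2 hv))
    have hk := LinearMap.finrank_range_add_finrank_ker (f - 1)
    rw [SympStd.finrank_vec] at hk
    rw [Fintype.card_sum, Fintype.card_fin] at hk1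
    have hplus : IsPlus (R b) d := ⟨_, hsing, by omega⟩
    have hno : ¬ hP := fun h => hgood ⟨fun _ => h, fun _ => hplus⟩
    have hodd := hor.resolve_left hno
    -- an alternating form on a complement of the fixed space
    obtain ⟨C, hC⟩ := Submodule.exists_isCompl (LinearMap.ker (f - 1))
    have hfixed : ∀ v, f (f v + v) = f v + v := fun v => by rw [map_add, hf, add_comm]
    let γ : LinearMap.BilinForm F C := (SympStd.sympB d F).compl₁₂ C.subtype ((f + 1) ∘ₗ C.subtype)
    have hγalt : γ.IsAlt := fun c => by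
      show SympStd.sympB d F (c : Fin d ⊕ Fin d → F) (f c + c) = 0
      have hw := hsing _ (LinearMap.mem_ker.2 (sub_eq_zero.2 (hfixed c)))
      have h := R_add b (c : Fin d ⊕ Fin d → F) (f c + c)
      rw [hw, show (c : Fin d ⊕ Fin d → F) + (f c + c) = f c from funext fun i => by
        show (c : Fin d ⊕ Fin d → F) i + (f c i + (c : Fin d ⊕ Fin d → F) i) = f c i
        linear_combination CharTwo.add_self_eq_zero ((c : Fin d ⊕ Fin d → F) i), hb] at h
      linear_combination -h
    have hsep : ∀ c : C, (∀ c' : C, γ c' c = 0) → c = 0 := fun c hc => by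
      have h0 : f (c : Fin d ⊕ Fin d → F) + c = 0 := SympStd.sympB_nondegenerate.2 _ fun v => by
        obtain ⟨k, hk', c', hc', rfl⟩ := Submodule.mem_sup.1 (hC.sup_eq_top ▸ Submodule.mem_top : v ∈ _ ⊔ C)
        have hgk : f k = k := sub_eq_zero.1 hk'
        rw [show SympStd.sympB d F (k + c') (f c + c) = SympStd.sympB d F k (f c + c) + SympStd.sympB d F c' (f c + c) from
          LinearMap.map_add₂ _ _ _ _, show SympStd.sympB d F c' (f c + c) = 0 from hc ⟨c', hc'⟩, add_zero, map_add]
        nth_rw 1 [← hgk]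
        rw [hiso, CharTwo.add_self_eq_zero]
      refine Subtype.ext (Submodule.disjoint_def.1 hC.disjoint _ (LinearMap.mem_ker.2 (sub_eq_zero.2 ?_)) c.2)
      exact funext fun i => CharTwo.add_eq_zero.1 (congrFun h0 i)
    obtain ⟨m, hm⟩ := Bases.even_finrank_of_alt γ hγalt
      ⟨fun c hc => hsep c fun c' => by rw [← LinearMap.IsAlt.neg hγalt, hc c', neg_zero], hsep⟩
    have hCd := Submodule.finrank_add_eq_of_isCompl hC
    rw [SympStd.finrank_vec] at hCd
    obtain ⟨k, hk'⟩ := hodd
    omega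

/-- an involution with a Lagrangian fixed space, all whose forms are of plus type -/
theorem exists_special (hde : Even d) (hd : 0 < d) :
    ∃ f : (Fin d ⊕ Fin d → F) →ₗ[F] (Fin d ⊕ Fin d → F), (∀ v, f (f v) = v) ∧
      (∀ v, PlusStd.plusQ F d (f v) = PlusStd.plusQ F d v) ∧ (∃ v, f v ≠ v) ∧
      ∀ v, f v = v → PlusStd.plusQ F d v = 0 := by
  classical
  obtain ⟨m, hm⟩ := hde
  let π : Fin d → Fin d := fun i => if h : (i : ℕ) < m then ⟨i + m, by omega⟩ else ⟨i - m, by omega⟩
  have hπ : ∀ i, π (π i) = i := fun i => by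
    simp only [π]
    by_cases h : (i : ℕ) < m
    · rw [dif_pos h, dif_neg (show ¬ (i : ℕ) + m < m by omega)]
      exact Fin.ext (show (i : ℕ) + m - m = i by omega)
    · rw [dif_neg h, dif_pos (show (i : ℕ) - m < m by omega)]
      exact Fin.ext (show (i : ℕ) - m + m = i by omega)
  have hπne : ∀ i, π i ≠ i := fun i e => by
    have := congrArg Fin.val e
    simp only [π] at this
    split_ifs at this with h <;> simp at this <;> omega
  let f : (Fin d ⊕ Fin d → F) →ₗ[F] (Fin d ⊕ Fin d → F) :=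
    { toFun := fun v => Sum.elim (fun i => v (Sum.inl i) + v (Sum.inr (π i))) fun i => v (Sum.inr i)
      map_add' := fun u v => by
        funext x; rcases x with x | x <;> simp; ring
      map_smul' := fun z v => by
        funext x; rcases x with x | x <;> simp; ring }
  have hfQ : ∀ v, PlusStd.plusQ F d (f v) = PlusStd.plusQ F d v := fun v => by
    rw [PlusStd.plusQ_apply, PlusStd.plusQ_apply]
    show ∑ i, (v (Sum.inl i) + v (Sum.inr (π i))) * v (Sum.inr i) = ∑ i, v (Sum.inl i) * v (Sum.inr i)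
    rw [← sub_eq_zero, ← Finset.sum_sub_distrib]
    refine Finset.sum_involution (fun i _ => π i) (fun i _ => ?_) (fun i _ _ => hπne i) (fun i _ => Finset.mem_univ _)
      (fun i _ => hπ i)
    rw [hπ]
    linear_combination CharTwo.add_self_eq_zero (v (Sum.inr (π i)) * v (Sum.inr i))
  refine ⟨f, fun v => ?_, hfQ, ⟨Pi.single (Sum.inr (π ⟨0, hd⟩)) 1, fun h => ?_⟩, fun v hv => ?_⟩
  · funext x; rcases x with x | x
    · show v (Sum.inl x) + v (Sum.inr (π x)) + v (Sum.inr (π x)) = v (Sum.inl x)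
      rw [add_assoc, CharTwo.add_self_eq_zero, add_zero]
    · rfl
  · have h0 := congrFun h (Sum.inl ⟨0, hd⟩)
    change (Pi.single (Sum.inr (π ⟨0, hd⟩)) 1 : Fin d ⊕ Fin d → F) (Sum.inl ⟨0, hd⟩) +
      (Pi.single (Sum.inr (π ⟨0, hd⟩)) 1 : Fin d ⊕ Fin d → F) (Sum.inr (π ⟨0, hd⟩)) = _ at h0
    simp at h0
  · rw [PlusStd.plusQ_apply]
    refine Finset.sum_eq_zero fun i _ => ?_
    have h0 := congrFun hv (Sum.inl (π i))
    change v (Sum.inl (π i)) + v (Sum.inr (π (π i))) = v (Sum.inl (π i)) at h0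
    rw [hπ] at h0
    rw [show v (Sum.inr i) = 0 by linear_combination h0, mul_zero]

/-- Elements of prime order of PSp_n(q), q even, and the subgroups of orthogonal type. Here `T = Sp_{2d}(F)` for a field `F` of characteristic 2 with `q` elements (`d ≥ 2`, `(d, q) ≠ (2, 2)`), realised as the invertible matrices preserving the standard alternating form; `Q` is a non-degenerate quadratic form on `F^{2d}` whose polar form is that alternating form, and `H` is the subgroup of `T` preserving `Q` up to a scalar (equivalently preserving `Q`) — a subgroup of type O^±_{2d}(q) (maximality is not assumed); `Q` is of plus type when `F^{2d}` contains a `d`-dimensional subspace on which `Q` vanishes, of minus type otherwise. Ω is the set of cosets of `H` in `T`, so an element of `T` of prime order `r` (`x ∈ T` with `x^r` scalar, `x` not scalar) fixes a point of Ω exactly when some `T`-conjugate of `x` preserves `Q`. Let `r` be a prime dividing the index of `H`. Then every element of `T` of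 order `r` fixes a point of Ω if and only if `r = 2` and either `Q` is of plus type or `d` is odd. -/
theorem result {F : Type*} [Field F] [Fintype F] {p : ℕ} [Fact p.Prime] [CharP F p] {q : ℕ} (hq : Fintype.card F = q)
    (hp : p = 2) (d : ℕ) (hd : 2 ≤ d) (hT : (d, q) ≠ (2, 2)) (Q : (Fin d ⊕ Fin d → F) → F) (hQ : Cfsg.Geo.IsNondegenerateQuadraticForm Q)
    (hQf : ∀ u v, QuadraticMap.polar Q u v = Cfsg.sympForm d F u v)
    (r : ℕ) [Fact r.Prime]
    (hΩ : r ∣ (Cfsg.Geo.quadSimilarityGroup Q).relIndex (Cfsg.spGL d F)) :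
    (∀ x ∈ Cfsg.spGL d F, (∃ z : F, ((x ^ r : GL (Fin d ⊕ Fin d) F) : Matrix (Fin d ⊕ Fin d) (Fin d ⊕ Fin d) F) = z • (1 : Matrix (Fin d ⊕ Fin d) (Fin d ⊕ Fin d) F)) →
      (∀ z : F, (x : Matrix (Fin d ⊕ Fin d) (Fin d ⊕ Fin d) F) ≠ z • (1 : Matrix (Fin d ⊕ Fin d) (Fin d ⊕ Fin d) F)) →
      ∃ g ∈ Cfsg.spGL d F, g⁻¹ * x * g ∈ Cfsg.Geo.quadSimilarityGroup Q) ↔
    (r = 2 ∧ (Cfsg.Geo.IsPlusTypeOn Q ⊤ ∨ Odd d)) := by
  classical
  subst hp hq
  have hd1 : 1 ≤ d := by omega
  obtain ⟨a, ha⟩ := exists_param (f := Q) (fun c v => by rw [hQ.smul, sq]) fun u v => by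
    have h := hQf u v
    rw [QuadraticMap.polar] at h
    rw [SympStd.sympB_apply]
    linear_combination h
  have hQa : Q = ⇑(R a) := funext ha
  subst hQa
  have htype : Cfsg.Geo.IsPlusTypeOn ⇑(R a) ⊤ ↔ IsPlus (R a) d := by
    constructor
    · rintro ⟨U, -, hU, hUd⟩
      rw [finrank_top, SympStd.finrank_vec] at hUd
      exact ⟨U, hU, by omega⟩
    · rintro ⟨U, hU, hUd⟩
      exact ⟨U, le_top, hU, by rw [finrank_top, SympStd.finrank_vec, hUd]⟩
  rw [htype]
  rw [index_eq (by omega) a] at hΩ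
  -- membership of a conjugate
  have hconj : ∀ g ∈ Cfsg.spGL d F, ∀ x ∈ Cfsg.spGL d F, g⁻¹ * x * g ∈ Cfsg.Geo.quadSimilarityGroup ⇑(R a) →
      ∃ b, (∀ v, R b (lin x v) = R b v) ∧ (IsPlus (R b) d ↔ IsPlus (R a) d) := by
    intro g hg x hx h
    have hinv := (mem_norm (by omega) (Subgroup.mul_mem _ (Subgroup.mul_mem _ (Subgroup.inv_mem _ hg) hx) hg)).1 h
    obtain ⟨b, hb⟩ := exists_param (f := fun v => R a (lin g⁻¹ v)) (fun c v => by rw [map_smul, R_smul]) fun u v => by
      rw [map_add, R_add, mem_spGL.1 (Subgroup.inv_mem _ hg)]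
    refine ⟨b, fun v => ?_, type_of_map hb⟩
    have h1 := hinv (lin g⁻¹ v)
    rw [lin_mul, lin_mul, lin_can'] at h1
    rw [← hb, ← hb, h1]
  constructor
  · intro hall
    -- test elements
    have test : ∀ (f : (Fin d ⊕ Fin d → F) →ₗ[F] (Fin d ⊕ Fin d → F)),
        (∀ u v, SympStd.sympB d F (f u) (f v) = SympStd.sympB d F u v) → (∀ v, (f ^ r) v = v) → (∃ v, f v ≠ v) →
        ∃ b, (∀ v, R b (f v) = R b v) ∧ (IsPlus (R b) d ↔ IsPlus (R a) d) := by
      intro f hiso hfr ⟨v₀, hv₀⟩
      have hinj : Function.Injective f := (injective_iff_map_eq_zero f).2 fun v hv =>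
        SympStd.sympB_nondegenerate.1 v fun w => by rw [← hiso, hv, map_zero, LinearMap.zero_apply]
      obtain ⟨x, hx, hxl⟩ := exists_gl_of (LinearEquiv.ofBijective f ⟨hinj, LinearMap.injective_iff_surjective.1 hinj⟩) hiso
      have hxf : lin x = f := LinearMap.ext hxl
      obtain ⟨g, hg, hgx⟩ := hall x hx ⟨1, Matrix.toLin'.injective (by
        rw [one_smul, Matrix.toLin'_one, Units.val_pow_eq_pow_val, Matrix.toLin'_pow]
        exact LinearMap.ext fun v => by rw [show Matrix.toLin' (x : Matrix (Fin d ⊕ Fin d) (Fin d ⊕ Fin d) F) = f from hxf, hfr]; rfl)⟩ fun z hz => by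
          have hlz : ∀ v, f v = z • v := fun v => by
            rw [← hxf, lin, hz, Matrix.toLin'_apply, Matrix.smul_mulVec, Matrix.one_mulVec]
          set u : Fin d ⊕ Fin d → F := Pi.single (Sum.inr ⟨0, by omega⟩) 1
          set w : Fin d ⊕ Fin d → F := Pi.single (Sum.inl ⟨0, by omega⟩) 1
          have hB : SympStd.sympB d F u w = 1 := by rw [SympStd.sympB_apply, SympStd.sympForm_inr_inl, if_pos rfl]
          have h3 := hiso u w
          rw [hlz, hlz, map_smul, map_smul, LinearMap.smul_apply, smul_eq_mul, smul_eq_mul, hB, mul_one] at h3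
          rw [sq_inj (show z * z = 1 * 1 by rw [one_mul]; exact h3)] at hlz
          exact hv₀ (by rw [hlz, one_smul])
      obtain ⟨b, hb, hbt⟩ := hconj g hg x hx hgx
      exact ⟨b, fun v => by rw [← hxf]; exact hb v, hbt⟩
    rcases (Fact.out : r.Prime).eq_two_or_odd' with rfl | hro
    · refine ⟨rfl, ?_⟩
      by_contra hcon
      push Not at hcon
      obtain ⟨f, hff, hfQ, hne, hfix⟩ := exists_special (F := F) (Nat.not_odd_iff_even.1 hcon.2) (by omega)
      have hfR : ∀ v, R (0 : Fin d ⊕ Fin d → F) (f v) = R (0 : Fin d ⊕ Fin d → F) v := fun v => by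
        rw [R_zero]; exact hfQ v
      obtain ⟨b, hb, hbt⟩ := test f (iso_of_R hfR) (fun v => by rw [sq, Module.End.mul_apply, hff]) hne
      refine hcon.1 (hbt.1 ((isPlus_iff b).2 ?_))
      rw [hfix b (by have := inv_diff hb hfR fun v => ⟨f v, hff v⟩; rwa [add_zero] at this)]
      exact zero_mem _
    · exfalso
      have hr2 : r ≠ 2 := fun e => by rw [e] at hro; exact absurd hro (by decide)
      have hcount := count_plus (F := F) (d := d) hd1
      set q := Fintype.card F
      have hrq : ¬ r ∣ q := fun h => hr2 ((charP_eq_of_cast_eq_zero (F := F) 2 r).1 ((ZMod.natCast_eq_zero_iff _ _).2 h))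
      have hcast : ∀ m : ℕ, r ∣ q ^ d * m → r ∣ m := fun m h =>
        ((Fact.out : r.Prime).dvd_mul.1 h).resolve_left fun h => hrq ((Fact.out : r.Prime).dvd_of_dvd_pow h)
      by_cases hplus : IsPlus (R a) d
      · rw [Nat.card_congr (Equiv.subtypeEquivRight (p := fun b : Fin d ⊕ Fin d → F => IsPlus (R b) d ↔ IsPlus (R a) d)
          (q := fun b => IsPlus (R b) d) fun b => iff_true_right hplus)] at hΩ
        have h1 : r ∣ q ^ d + 1 := hcast _ (hcount ▸ dvd_mul_of_dvd_right hΩ 2)
        have hqd : ((q : ℕ) : ZMod r) ^ d = -1 := by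
          rw [← ZMod.natCast_eq_zero_iff, Nat.cast_add, Nat.cast_pow, Nat.cast_one] at h1
          exact eq_neg_of_add_eq_zero_left h1
        haveI : Fact (2 < r) := ⟨by have := (Fact.out : r.Prime).two_le; omega⟩
        set i := orderOf ((q : ℕ) : ZMod r) with hi
        have hnd : ¬ i ∣ d := fun h => by
          rw [hi, orderOf_dvd_iff_pow_eq_one, hqd] at h
          exact ZMod.neg_one_ne_one h
        have hi2d : i ∣ 2 * d := orderOf_dvd_of_pow_eq_one (by rw [mul_comm, pow_mul, hqd, neg_one_sq])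
        obtain ⟨e, he⟩ : Even i := by
          by_contra hodd
          exact hnd ((Nat.Coprime.dvd_mul_left (Nat.coprime_two_right.2 (Nat.not_even_iff_odd.1 hodd))).1 hi2d)
        have he0 : 0 < e := by
          rcases Nat.eq_zero_or_pos e with h | h
          · rw [h] at he; rw [he] at hi2d; simp at hi2d; omega
          · exact h
        have hed : e ∣ d := Nat.dvd_of_mul_dvd_mul_left two_pos (by rw [two_mul e, ← he]; exact hi2d)
        obtain ⟨y, hy, hyfix⟩ := S5961.exists_model 2 hr2 hr2 hi (c := i) (by rw [if_pos ⟨e, he⟩]) (d := d)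
          (s := d / e) (e := e) (by omega) (Nat.div_mul_le_self _ _)
        rw [Nat.div_mul_cancel hed, Nat.sub_self, mul_zero] at hyfix
        have hfree : ∀ v, Matrix.toLin' (y : Matrix (Fin d ⊕ Fin d) (Fin d ⊕ Fin d) F) v = v → v = 0 := fun v hv => by
          have h := mem_fixSp.2 hv
          rwa [Submodule.finrank_eq_zero.1 hyfix, Submodule.mem_bot] at h
        obtain ⟨b, hb, hbt⟩ := test _ (fun u v => S5961.iso_of_sp y u v) hy ⟨Pi.single (Sum.inl ⟨0, by omega⟩) 1,
          fun h => by simpa using congrFun (hfree _ h) (Sum.inl ⟨0, by omega⟩)⟩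
        exact not_plus_of_free hd1 hro hqd hfree hy hb (hbt.2 hplus)
      · rw [Nat.card_congr (Equiv.subtypeEquivRight (p := fun b : Fin d ⊕ Fin d → F => IsPlus (R b) d ↔ IsPlus (R a) d)
            (q := fun b => ¬ IsPlus (R b) d) fun b => iff_false_right hplus),
          Nat.card_eq_fintype_card, Fintype.card_subtype_compl, Fintype.card_fun, Fintype.card_sum, Fintype.card_fin,
          ← Nat.card_eq_fintype_card (α := {b : Fin d ⊕ Fin d → F // IsPlus (R b) d})] at hΩ
        have h1 : r ∣ q ^ d - 1 := hcast _ (by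
          have h2 := dvd_mul_of_dvd_right hΩ 2
          rw [Nat.mul_sub, hcount, pow_add] at h2
          rwa [Nat.mul_sub, mul_one, show q ^ d * q ^ d - q ^ d = 2 * (q ^ d * q ^ d) - q ^ d * (q ^ d + 1) by
            rw [mul_add, mul_one]; omega])
        obtain ⟨f, hfr, hfQ, hfree⟩ := S5985.exists_hyp (F := F) 2 hr2 (order_dvd_of_dvd_pow_sub_one h1)
        have hfR : ∀ v, R (0 : Fin d ⊕ Fin d → F) (f v) = R (0 : Fin d ⊕ Fin d → F) v := fun v => by
          rw [R_zero, PlusStd.plusQ_apply, PlusStd.plusQ_apply]; exact hfQ v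
        obtain ⟨b, hb, hbt⟩ := test f (iso_of_R hfR) hfr ⟨Pi.single (Sum.inl ⟨0, by omega⟩) 1,
          fun h => by simpa using congrFun (hfree _ h) (Sum.inl ⟨0, by omega⟩)⟩
        have hb0 : b = 0 := hfree b (by
          have hsurj : Function.Surjective f := fun v => ⟨(f ^ (r - 1)) v, by
            rw [← Module.End.mul_apply, ← pow_succ', Nat.sub_add_cancel (Fact.out : r.Prime).one_lt.le, hfr]⟩
          have := inv_diff hb hfR hsurj
          rwa [add_zero] at this)
        refine hplus (hbt.1 ?_)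
        rw [hb0, R_zero]
        exact OrthTypes.isPlus_plusQ d
  · rintro ⟨rfl, hor⟩ x hx ⟨z, hz⟩ -
    have hiso := mem_spGL.1 hx
    have hz' : ∀ v, lin x (lin x v) = z • v := fun v => by
      rw [← Module.End.mul_apply, ← sq, ← lin_pow, lin, hz, Matrix.toLin'_apply, Matrix.smul_mulVec, Matrix.one_mulVec]
    have hxx : ∀ v, lin x (lin x v) = v := by
      set u : Fin d ⊕ Fin d → F := Pi.single (Sum.inr ⟨0, by omega⟩) 1
      set w : Fin d ⊕ Fin d → F := Pi.single (Sum.inl ⟨0, by omega⟩) 1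
      have hB : SympStd.sympB d F u w = 1 := by rw [SympStd.sympB_apply, SympStd.sympForm_inr_inl, if_pos rfl]
      have h3 := hiso (lin x u) (lin x w)
      rw [hz', hz', hiso, map_smul, map_smul, LinearMap.smul_apply, smul_eq_mul, smul_eq_mul, hB, mul_one] at h3
      intro v
      rw [hz', sq_inj (show z * z = 1 * 1 by rw [one_mul]; exact h3), one_smul]
    obtain ⟨b₀, hb₀⟩ := exists_invariant a hiso hxx
    obtain ⟨b, hb, hbt⟩ := exists_typed (IsPlus (R a) d) hor hxx hb₀
    obtain ⟨g, hg, hgv⟩ := exists_conj hbt.symm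
    refine ⟨g, hg, (mem_norm (by omega) (Subgroup.mul_mem _ (Subgroup.mul_mem _ (Subgroup.inv_mem _ hg) hx) hg)).2 fun v => ?_⟩
    rw [lin_mul, lin_mul, ← hgv, lin_can', hb, hgv]

end Cfsg.Agent.S5983
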