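import Cfsg.Statements.S5984
import Cfsg.Agent.Lib.Classical.UnitaryFrames
import Cfsg.Agent.Lib.Forms.Max.UnitaryBase
-- import your own Cfsg.Agent.* helpers here

set_option autoImplicit false
open scoped MatrixGroups
open Cfsg

namespace Cfsg.Agent.S5984

open Module Matrix Cfsg.Agent.Classical Cfsg.Agent.Classical.Unitary Cfsg.Agent.Forms

variable {F : Type*} [Field F] [Fintype F] {q n m : ℕ} (hF : Fintype.card F = q ^ 2)

local notation "Vec" => (Fin n → F)
local notation "H" => Cfsg.hermForm n F q

/-- a totally singular subspace -/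
def Iso (q : ℕ) (U : Submodule F (Fin n → F)) : Prop := ∀ u ∈ U, ∀ v ∈ U, Cfsg.hermForm n F q u v = 0

/-- a polar pair -/
structure Pair (q m : ℕ) (U U' : Submodule F (Fin n → F)) : Prop where
  iso : Iso q U
  iso' : Iso q U'
  compl : IsCompl U U'
  dim : finrank F U = m
  dim' : finrank F U' = m

/-- a hyperbolic basis -/
def IsHB (q : ℕ) (b : Fin m ⊕ Fin m → Fin n → F) : Prop :=
  ∀ s t, Cfsg.hermForm n F q (b s) (b t) = if t = s.swap then 1 else 0

include hF in
theorem H_comb {b : Fin m ⊕ Fin m → Vec} (hb : IsHB q b) (x y : Fin m ⊕ Fin m → F) :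
    H (∑ s, x s • b s) (∑ t, y t • b t) = ∑ s, x s * y s.swap ^ q := by
  rw [H_sum_left]
  refine Finset.sum_congr rfl fun s _ => ?_
  rw [H_smul_left, H_sum_right hF, Finset.sum_eq_single s.swap]
  · rw [H_smul_right, hb, if_pos rfl, mul_one]
  · intro t _ ht
    rw [H_smul_right, hb, if_neg ht, mul_zero]
  · simp

include hF in
theorem li_of_HB {b : Fin m ⊕ Fin m → Vec} (hb : IsHB q b) : LinearIndependent F b := by
  classical
  refine Fintype.linearIndependent_iff.2 fun x hx s => ?_
  have h := H_comb hF hb x (Pi.single s.swap 1)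
  rw [hx, H_zero_left, Finset.sum_eq_single s, Pi.single_eq_same, one_pow, mul_one] at h
  · exact h.symm
  · intro t _ ht
    rw [Pi.single_eq_of_ne (fun e => ht (by simpa using congrArg Sum.swap e)), zero_pow (q_ne_zero hF), mul_zero]
  · simp

include hF in
/-- the isometry between two hyperbolic bases -/
theorem exists_trans (hn : n = m + m) {b b' : Fin m ⊕ Fin m → Vec} (hb : IsHB q b) (hb' : IsHB q b') :
    ∃ g : Cfsg.GU n F q, (∀ s, gmat g *ᵥ b s = b' s) ∧
      ∀ d : Fin m ⊕ Fin m → F, (∀ s, b' s = d s • b s) → (gmat g).det = ∏ s, d s := by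
  classical
  rcases Nat.eq_zero_or_pos m with rfl | hm
  · exact ⟨1, fun s => s.elim (fun k => k.elim0) (fun k => k.elim0), fun d _ => by
      rw [gmat_one, Matrix.det_one, Finset.univ_eq_empty, Finset.prod_empty]⟩
  haveI : Nonempty (Fin m ⊕ Fin m) := ⟨Sum.inl ⟨0, hm⟩⟩
  let B := basisOfLinearIndependentOfCardEqFinrank (li_of_HB hF hb) (by simp [hn])
  let B' := basisOfLinearIndependentOfCardEqFinrank (li_of_HB hF hb') (by simp [hn])
  have hB : ∀ s, B s = b s := fun s => by simp [B]
  have hB' : ∀ s, B' s = b' s := fun s => by simp [B']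
  let E := B.equiv B' (Equiv.refl _)
  have hE : ∀ s, E (b s) = b' s := fun s => by rw [← hB, ← hB']; simp [E, Basis.equiv_apply]
  have hiso : ∀ u v, H (E u) (E v) = H u v := by
    intro u v
    conv_rhs => rw [← B.sum_repr u, ← B.sum_repr v]
    conv_lhs => rw [← B.sum_repr u, ← B.sum_repr v]
    simp only [map_sum, map_smul, hB, hE]
    rw [H_comb hF hb', H_comb hF hb]
  refine ⟨HermStd.guOfEquiv E hiso, fun s => (HermStd.guOfEquiv_mulVec E hiso _).trans (hE s), fun d hd => ?_⟩
  show (LinearMap.toMatrix' E.toLinearMap).det = _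
  rw [LinearMap.det_toMatrix', ← LinearMap.det_toMatrix B]
  have : LinearMap.toMatrix B B E.toLinearMap = Matrix.diagonal d := by
    ext i j
    rw [LinearMap.toMatrix_apply, LinearEquiv.coe_coe, hB, hE, hd, ← hB, map_smul, B.repr_self]
    rw [Finsupp.smul_apply, Finsupp.single_apply, Matrix.diagonal_apply]
    split_ifs <;> simp_all
  rw [this, Matrix.det_diagonal]

include hF in
/-- a basis of one member extends to a hyperbolic basis -/
theorem exists_HB {U U' : Submodule F Vec} (hP : Pair q m U U') (w : Fin m → Vec) (hw : ∀ k, w k ∈ U)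
    (hli : LinearIndependent F w) :
    ∃ v : Fin m → Vec, IsHB q (Sum.elim w v) ∧ ∀ k, v k ∈ U' := by
  classical
  have hspan : Submodule.span F (Set.range w) = U :=
    Submodule.eq_of_le_of_finrank_eq (Submodule.span_le.2 (Set.range_subset_iff.2 hw))
      (by rw [finrank_span_eq_card hli, Fintype.card_fin, hP.dim])
  let Φ : U' →ₗ[F] (Fin m → F) := (LinearMap.pi fun i => hlin q (w i)).comp U'.subtype
  have hinj : Function.Injective Φ := by
    rw [← LinearMap.ker_eq_bot, LinearMap.ker_eq_bot']
    intro v hv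
    have h0 : ∀ i, H (v : Vec) (w i) = 0 := fun i => congrFun hv i
    refine Subtype.ext (eq_zero_of_H hF fun z => ?_)
    obtain ⟨a, ha, c, hc, rfl⟩ := Submodule.mem_sup.1 (hP.compl.sup_eq_top ▸ (Submodule.mem_top : z ∈ ⊤))
    rw [H_add_right hF, hP.iso' _ v.2 _ hc, add_zero]
    rw [← hspan] at ha
    induction ha using Submodule.span_induction with
    | mem x hx => obtain ⟨i, rfl⟩ := hx; exact h0 i
    | zero => exact H_zero_right hF _
    | add x y _ _ hx hy => rw [H_add_right hF, hx, hy, add_zero]
    | smul c x _ hx => rw [H_smul_right, hx, mul_zero]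
  have hsurj : Function.Surjective Φ :=
    (LinearMap.injective_iff_surjective_of_finrank_eq_finrank (by rw [hP.dim']; simp)).1 hinj
  choose v hv using fun j => hsurj (Pi.single j 1)
  refine ⟨fun j => (v j : Vec), ?_, fun j => (v j).2⟩
  have hvw : ∀ j i, H (v j : Vec) (w i) = if i = j then 1 else 0 := fun j i => by
    have h := congrFun (hv j) i
    rw [Pi.single_apply] at h
    exact h
  rintro (k | k) (l | l)
  · simp [hP.iso _ (hw k) _ (hw l)]
  · simp only [Sum.elim_inl, Sum.elim_inr, Sum.swap_inl, Sum.inr.injEq]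
    rw [← H_conj hF, hvw]
    split_ifs with h1 h2 h2
    · exact one_pow q
    · exact absurd h1.symm h2
    · exact absurd h2.symm h1
    · exact zero_pow (q_ne_zero hF)
  · simp only [Sum.elim_inl, Sum.elim_inr, Sum.swap_inr, Sum.inl.injEq]
    exact hvw k l
  · simp [hP.iso' _ (v k).2 _ (v l).2]

include hF in
theorem exists_basis {U U' : Submodule F Vec} (hP : Pair q m U U') :
    ∃ b : Fin m ⊕ Fin m → Vec, IsHB q b ∧ (∀ k, b (Sum.inl k) ∈ U) ∧ ∀ k, b (Sum.inr k) ∈ U' := by
  let B := Module.finBasisOfFinrankEq F U hP.dim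
  obtain ⟨v, hv, hv'⟩ := exists_HB hF hP (fun k => (B k : Vec)) (fun k => (B k).2)
    (B.linearIndependent.map' U.subtype U.ker_subtype)
  exact ⟨_, hv, fun k => (B k).2, hv'⟩

include hF in
theorem map_of_basis (hn : n = m + m) {b b' : Fin m ⊕ Fin m → Vec} (hb : IsHB q b) (hb' : IsHB q b')
    {U U' W W' : Submodule F Vec} (hP : Pair q m U U') (hQ : Pair q m W W') (hU : ∀ k, b (Sum.inl k) ∈ U)
    (hU' : ∀ k, b (Sum.inr k) ∈ U') (hW : ∀ k, b' (Sum.inl k) ∈ W) (hW' : ∀ k, b' (Sum.inr k) ∈ W')
    {g : Cfsg.GU n F q} (hg : ∀ s, gmat g *ᵥ b s = b' s) :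
    U.map (Matrix.toLin' (gmat g)) = W ∧ U'.map (Matrix.toLin' (gmat g)) = W' := by
  have key : ∀ {X Y : Submodule F Vec} (j : Fin m → Fin m ⊕ Fin m), finrank F X = m → finrank F Y = m →
      Function.Injective j → (∀ k, b (j k) ∈ X) → (∀ k, b' (j k) ∈ Y) →
      X.map (Matrix.toLin' (gmat g)) = Y := by
    intro X Y j hX hY hj hbX hbY
    have h1 : Submodule.span F (Set.range fun k => b (j k)) = X :=
      Submodule.eq_of_le_of_finrank_eq (Submodule.span_le.2 (Set.range_subset_iff.2 hbX))
        (by rw [finrank_span_eq_card (show LinearIndependent F (fun k => b (j k)) from (li_of_HB hF hb).comp j hj),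
          Fintype.card_fin, hX])
    have h2 : Submodule.span F (Set.range fun k => b' (j k)) = Y :=
      Submodule.eq_of_le_of_finrank_eq (Submodule.span_le.2 (Set.range_subset_iff.2 hbY))
        (by rw [finrank_span_eq_card (show LinearIndependent F (fun k => b' (j k)) from (li_of_HB hF hb').comp j hj),
          Fintype.card_fin, hY])
    rw [← h1, ← h2, Submodule.map_span, ← Set.range_comp]
    congr 1
    refine congrArg Set.range (funext fun k => ?_)
    rw [Function.comp_apply, Matrix.toLin'_apply, hg]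
  exact ⟨key _ hP.dim hQ.dim Sum.inl_injective hU hW, key _ hP.dim' hQ.dim' Sum.inr_injective hU' hW'⟩

include hF in
theorem exists_twist {δ : F} (hδ : δ ^ (q + 1) = 1) : ∃ c : F, c ≠ 0 ∧ c = δ * c ^ q := by
  by_cases h : δ = -1
  · obtain ⟨c, hc, hc'⟩ := exists_traceZero hF
    exact ⟨c, hc, by rw [h]; linear_combination hc'⟩
  · refine ⟨1 + δ, fun e => h (eq_neg_of_add_eq_zero_right e), ?_⟩
    rw [HermStd.add_pow_q hF, one_pow, mul_add, mul_one, ← pow_succ', hδ, add_comm]

include hF in
/-- the special unitary group is transitive on the polar pairs -/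
theorem transitive (hn : n = m + m) (hm : 0 < m) {U U' W W' : Submodule F Vec} (hP : Pair q m U U')
    (hQ : Pair q m W W') :
    ∃ g ∈ Cfsg.GU n F q ⊓ Cfsg.Geo.specialLinear (Fin n) F,
      U.map (Matrix.toLin' (g : Matrix (Fin n) (Fin n) F)) = W ∧
        U'.map (Matrix.toLin' (g : Matrix (Fin n) (Fin n) F)) = W' := by
  classical
  obtain ⟨b, hb, hU, hU'⟩ := exists_basis hF hP
  obtain ⟨b', hb', hW, hW'⟩ := exists_basis hF hQ
  obtain ⟨g₀, hg₀, -⟩ := exists_trans hF hn hb hb'
  have hδ : (gmat g₀).det⁻¹ ^ (q + 1) = 1 := by rw [inv_pow, HermStd.det_norm hF (gmat g₀) g₀.2, inv_one]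
  have hd0 : (gmat g₀).det ≠ 0 := det_ne_zero_of_preserves hF g₀.2
  obtain ⟨c, hc0, hc⟩ := exists_twist hF hδ
  set k₀ : Fin m := ⟨0, hm⟩
  set d : Fin m ⊕ Fin m → F := Sum.elim (fun k => if k = k₀ then c else 1)
    (fun k => if k = k₀ then (c ^ q)⁻¹ else 1) with hd
  have hcq : c ^ q ≠ 0 := pow_ne_zero _ hc0
  have hdd : ∀ s, d s * d s.swap ^ q = 1 := by
    rintro (k | k) <;> simp only [hd, Sum.swap_inl, Sum.swap_inr, Sum.elim_inl, Sum.elim_inr] <;> split_ifs
    · rw [inv_pow, pow_qq hF, mul_inv_cancel₀ hc0]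
    · rw [one_pow, mul_one]
    · rw [inv_mul_cancel₀ hcq]
    · rw [one_pow, mul_one]
  have hbd : IsHB q (fun s => d s • b s) := fun s t => by
    show H (d s • b s) (d t • b t) = _
    rw [H_smul_left, H_smul_right, hb]
    split_ifs with e
    · rw [e, mul_one, hdd]
    · rw [mul_zero, mul_zero]
  obtain ⟨g₁, hg₁, hdet⟩ := exists_trans hF hn hb hbd
  obtain ⟨e1, e1'⟩ := map_of_basis hF hn hb hbd hP hP hU hU' (fun k => Submodule.smul_mem _ _ (hU k))
    (fun k => Submodule.smul_mem _ _ (hU' k)) hg₁
  obtain ⟨e0, e0'⟩ := map_of_basis hF hn hb hb' hP hQ hU hU' hW hW' hg₀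
  refine ⟨((g₀ * g₁ : Cfsg.GU n F q) : GL (Fin n) F), ⟨(g₀ * g₁).2, MonoidHom.mem_ker.2 (Units.ext ?_)⟩, ?_, ?_⟩
  · show (gmat (g₀ * g₁)).det = 1
    rw [gmat_mul, Matrix.det_mul, hdet d fun s => rfl, Fintype.prod_sum_type]
    simp only [hd, Sum.elim_inl, Sum.elim_inr, Finset.prod_ite_eq', Finset.mem_univ, if_true]
    field_simp
    field_simp at hc
    linear_combination hc
  · show U.map (Matrix.toLin' (gmat g₀ * gmat g₁)) = W
    rw [Matrix.toLin'_mul, Submodule.map_comp, e1, e0]
  · show U'.map (Matrix.toLin' (gmat g₀ * gmat g₁)) = W'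
    rw [Matrix.toLin'_mul, Submodule.map_comp, e1', e0']

include hF in
/-- the order of the general linear group divides that of the stabilizer of a pair -/
theorem card_dvd_stab (hn : n = m + m) {U U' : Submodule F Vec} (hP : Pair q m U U') (S : Subgroup (Cfsg.GU n F q))
    (hS : ∀ g, g ∈ S ↔ U.map (Matrix.toLin' (gmat g)) = U ∧ U'.map (Matrix.toLin' (gmat g)) = U') :
    Nat.card (GL (Fin m) F) ∣ Nat.card S := by
  classical
  let B := Module.finBasisOfFinrankEq F U hP.dim
  have hres : ∀ g : S, ∀ x : U, gmat (g : Cfsg.GU n F q) *ᵥ (x : Vec) ∈ U := fun g x => by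
    have h := ((hS _).1 g.2).1
    exact (SetLike.ext_iff.1 h _).1 ⟨_, x.2, by rw [Matrix.toLin'_apply]⟩
  let ρ : S →* Module.End F U :=
    { toFun := fun g => LinearMap.codRestrict U ((Matrix.toLin' (gmat (g : Cfsg.GU n F q))).comp U.subtype)
        fun x => by simpa using hres g x
      map_one' := LinearMap.ext fun x => Subtype.ext (by simp [gmat_one])
      map_mul' := fun g h => LinearMap.ext fun x => Subtype.ext (by simp [Matrix.mulVec_mulVec, gmat_mul]) }
  let φ : S →* GL (Fin m) F := ((LinearMap.toMatrixAlgEquiv B).toMonoidHom.comp ρ).toHomUnits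
  refine Subgroup.card_dvd_of_surjective φ fun A => ?_
  let T : U →ₗ[F] U := (LinearMap.toMatrixAlgEquiv B).symm (A : Matrix (Fin m) (Fin m) F)
  have hT : Function.Injective T := by
    have h : IsUnit T := A.isUnit.map (LinearMap.toMatrixAlgEquiv B).symm
    exact ((Module.End.isUnit_iff _).1 h).1
  obtain ⟨v, hv, hvU⟩ := exists_HB hF hP (fun k => (B k : Vec)) (fun k => (B k).2)
    (B.linearIndependent.map' U.subtype U.ker_subtype)
  obtain ⟨v', hv', hvU'⟩ := exists_HB hF hP (fun k => (T (B k) : Vec)) (fun k => (T (B k)).2)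
    ((B.linearIndependent.map' T (LinearMap.ker_eq_bot.2 hT)).map' U.subtype U.ker_subtype)
  obtain ⟨g, hg, -⟩ := exists_trans hF hn hv hv'
  have hgS : g ∈ S := (hS g).2 (map_of_basis hF hn hv hv' hP hP (fun k => (B k).2) hvU (fun k => (T (B k)).2) hvU' hg)
  refine ⟨⟨g, hgS⟩, Units.ext ?_⟩
  show LinearMap.toMatrixAlgEquiv B (ρ ⟨g, hgS⟩) = _
  have : ρ ⟨g, hgS⟩ = T := B.ext fun k => Subtype.ext (by simpa [ρ] using hg (Sum.inl k))
  rw [this]
  exact (LinearMap.toMatrixAlgEquiv B).apply_symm_apply _

/-- the rank of a matrix minus one -/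
noncomputable def rk (A : Matrix (Fin n) (Fin n) F) : ℕ := finrank F (LinearMap.range (Matrix.toLin' (A - 1)))

omit [Fintype F] in
theorem rk_conj (g : GL (Fin n) F) (A : Matrix (Fin n) (Fin n) F) :
    rk (((g⁻¹ : GL (Fin n) F) : Matrix (Fin n) (Fin n) F) * A * (g : Matrix (Fin n) (Fin n) F)) = rk A := by
  have e : ((g⁻¹ : GL (Fin n) F) : Matrix (Fin n) (Fin n) F) * A * (g : Matrix (Fin n) (Fin n) F) - 1 =
      ((g⁻¹ : GL (Fin n) F) : Matrix (Fin n) (Fin n) F) * (A - 1) * (g : Matrix (Fin n) (Fin n) F) := by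
    rw [mul_sub, sub_mul, mul_one, ← Units.val_mul, inv_mul_cancel, Units.val_one]
  show Matrix.rank _ = Matrix.rank (A - 1)
  rw [e, Matrix.rank_mul_eq_left_of_isUnit_det _ _ ((Matrix.isUnit_iff_isUnit_det _).1 g.isUnit),
    Matrix.rank_mul_eq_right_of_isUnit_det _ _ ((Matrix.isUnit_iff_isUnit_det _).1 (g⁻¹).isUnit)]

include hF in
/-- isometries fixing both members have even rank; those exchanging them have large rank -/
theorem rank_fix (hn : n = m + m) {U U' : Submodule F Vec} (hP : Pair q m U U') {A : Matrix (Fin n) (Fin n) F}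
    (hA : ∀ x y, H (A *ᵥ x) (A *ᵥ y) = H x y) (hU : U.map (Matrix.toLin' A) = U)
    (hU' : U'.map (Matrix.toLin' A) = U') : Even (rk A) := by
  set f := Matrix.toLin' (A - 1) with hf
  have hfa : ∀ x, f x = A *ᵥ x - x := fun x => by
    rw [hf, Matrix.toLin'_apply, Matrix.sub_mulVec, Matrix.one_mulVec]
  have hpres : ∀ {X : Submodule F Vec}, X.map (Matrix.toLin' A) = X → X.map f ≤ X := fun {X} hX => by
    rintro _ ⟨x, hx, rfl⟩
    rw [hfa]
    refine X.sub_mem ?_ hx
    exact (SetLike.ext_iff.1 hX _).1 ⟨x, hx, by rw [Matrix.toLin'_apply]⟩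
  have key : ∀ {X Y : Submodule F Vec}, Pair q m X Y → X.map (Matrix.toLin' A) = X → Y.map (Matrix.toLin' A) = Y →
      finrank F (X.map f) ≤ finrank F (Y.map f) := by
    intro X Y hXY hX hY
    set K := Y ⊓ LinearMap.ker f with hK
    have hle : X.map f ≤ Forms.Max.Unitary.perp q (K ⊔ X) := by
      rintro _ ⟨x, hx, rfl⟩
      refine Forms.Max.Unitary.mem_perp.2 fun z hz => ?_
      obtain ⟨k, hk, a, ha, rfl⟩ := Submodule.mem_sup.1 hz
      rw [H_add_right hF, hXY.iso _ (hpres hX ⟨x, hx, rfl⟩) _ ha, add_zero, hfa, H_sub_left]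
      have hk' : A *ᵥ k = k := sub_eq_zero.1 (by rw [← hfa]; exact LinearMap.mem_ker.1 hk.2)
      conv_lhs => arg 1; rw [← hk', hA]
      exact sub_self _
    have h1 := Submodule.finrank_mono hle
    have h2 := Forms.Max.Unitary.finrank_perp hF (K ⊔ X)
    have h3 : finrank F ↥(K ⊔ X) = finrank F K + finrank F X := by
      have h := Submodule.finrank_sup_add_finrank_inf_eq K X
      rw [(hXY.compl.symm.disjoint.mono_left inf_le_left).eq_bot, finrank_bot] at h
      omega
    have h4 : finrank F (Y.map f) + finrank F K = finrank F Y := by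
      have h := LinearMap.finrank_range_add_finrank_ker (f.domRestrict Y)
      rw [LinearMap.range_domRestrict, LinearMap.ker_domRestrict] at h
      rw [← h, hK]
      congr 1
      exact LinearEquiv.finrank_eq ((Submodule.comapSubtypeEquivOfLe inf_le_left).symm.trans
        (LinearEquiv.ofEq _ _ (by rw [Submodule.comap_inf, Submodule.comap_subtype_self, top_inf_eq])))
    rw [hXY.dim] at h3
    rw [hXY.dim'] at h4
    omega
  have heq := le_antisymm (key hP hU hU') (key ⟨hP.iso', hP.iso, hP.compl.symm, hP.dim', hP.dim⟩ hU' hU)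
  refine ⟨finrank F (U.map f), ?_⟩
  show finrank F (LinearMap.range f) = _
  rw [LinearMap.range_eq_map, ← hP.compl.sup_eq_top, Submodule.map_sup]
  have h := Submodule.finrank_sup_add_finrank_inf_eq (U.map f) (U'.map f)
  rw [(hP.compl.disjoint.mono (hpres hU) (hpres hU')).eq_bot, finrank_bot] at h
  omega

omit [Fintype F] in
theorem rank_swap (hn : n = m + m) {U U' : Submodule F Vec} (hP : Pair q m U U') {A : Matrix (Fin n) (Fin n) F}
    (hU : U.map (Matrix.toLin' A) = U') : m ≤ rk A := by
  set f := Matrix.toLin' (A - 1) with hf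
  have h0 : U ⊓ LinearMap.ker f = ⊥ := by
    refine eq_bot_iff.2 fun x hx => ?_
    have hAx : A *ᵥ x = x := by
      have := LinearMap.mem_ker.1 hx.2
      rwa [hf, Matrix.toLin'_apply, Matrix.sub_mulVec, Matrix.one_mulVec, sub_eq_zero] at this
    exact Submodule.disjoint_def.1 hP.compl.disjoint x hx.1 (by rw [← hU]; exact ⟨x, hx.1, by rw [Matrix.toLin'_apply, hAx]⟩) ▸
      Submodule.zero_mem _
  have h1 := Submodule.finrank_sup_add_finrank_inf_eq U (LinearMap.ker f)
  rw [h0, finrank_bot, hP.dim] at h1
  have h2 := LinearMap.finrank_range_add_finrank_ker f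
  have h3 := Submodule.finrank_le (U ⊔ LinearMap.ker f)
  show m ≤ finrank F (LinearMap.range f)
  simp only [finrank_fintype_fun_eq_card, Fintype.card_fin] at h2 h3
  omega

include hF in
/-- an element of order `r` of odd rank -/
theorem exists_odd_rank {r : ℕ} [hr : Fact r.Prime] (hrF : (r : F) ≠ 0) {b : ℕ} (hb : Odd b)
    (hrb : r ∣ q ^ b + 1) (hmin : ∀ j, 0 < j → j < b → ¬ r ∣ (if Even j then q ^ j - 1 else q ^ j + 1)) :
    ∃ g : Cfsg.GU b F q, g ^ r = 1 ∧ g ≠ 1 ∧ ∀ v, gmat g *ᵥ v = v → v = 0 := by
  classical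
  obtain ⟨b', rfl⟩ : ∃ b', b = b' + 1 := ⟨b - 1, by have := hb.pos; omega⟩
  have hcard := natCard_GU (n := b' + 1) hF
  obtain ⟨g, hg⟩ := exists_prime_orderOf_dvd_card' (G := Cfsg.GU (b' + 1) F q) r (by
    rw [hcard]
    refine Dvd.dvd.mul_left (dvd_trans ?_ (Finset.dvd_prod_of_mem _ (Finset.mem_range.2 (Nat.lt_succ_self b')))) _
    rw [if_pos (by have := Nat.odd_add_one.1 hb; exact Nat.not_odd_iff_even.1 this)]
    exact hrb)
  have hgr : g ^ r = 1 := hg ▸ pow_orderOf_eq_one g
  have hg1 : g ≠ 1 := fun e => by rw [e, orderOf_one] at hg; exact hr.out.ne_one hg.symm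
  refine ⟨g, hgr, hg1, ?_⟩
  -- no fixed vector of norm one
  have hnorm : ∀ v, Cfsg.hermForm (b' + 1) F q v v = 1 → gmat g *ᵥ v ≠ v := by
    intro v hv hgv
    letI : MulAction (Cfsg.GU (b' + 1) F q) (Fin (b' + 1) → F) :=
      { smul := fun g v => gmat g *ᵥ v
        one_smul := fun v => by show gmat 1 *ᵥ v = v; rw [gmat_one, Matrix.one_mulVec]
        mul_smul := fun g h v => gmul_mulVec g h v }
    have horb : MulAction.orbit (Cfsg.GU (b' + 1) F q) v = {w | Cfsg.hermForm (b' + 1) F q w w = 1} := by
      ext w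
      constructor
      · rintro ⟨h, rfl⟩
        exact (GU_H h v v).trans hv
      · intro hw
        have key : ∀ u : Fin (b' + 1) → F, Cfsg.hermForm (b' + 1) F q u u = 1 →
            ∃ h : Cfsg.GU (b' + 1) F q, gmat h *ᵥ Pi.single 0 1 = u := by
          intro u hu
          have e : b' + 1 = 1 + b' := add_comm _ _
          have : ∀ N (e : N = 1 + b') (z : Fin N) (hz : (z : ℕ) = 0) (u : Fin N → F),
              Cfsg.hermForm N F q u u = 1 → ∃ h : Cfsg.GU N F q, gmat h *ᵥ Pi.single z 1 = u := by
            intro N e z hz u hu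
            subst e
            obtain ⟨h, hh⟩ := exists_gu_frame hF (fun _ : Fin 1 => u) (fun i j => by
              rw [hu, if_pos (Subsingleton.elim _ _)])
            exact ⟨h, by rw [show z = Fin.castAdd b' 0 from Fin.ext (by simp [hz])]; exact hh 0⟩
          exact this _ e 0 rfl u hu
        obtain ⟨h1, e1⟩ := key v hv
        obtain ⟨h2, e2⟩ := key w hw
        exact ⟨h2 * h1⁻¹, show gmat (h2 * h1⁻¹) *ᵥ v = w by rw [gmul_mulVec, ginv_mulVec h1 e1, e2]⟩
    have h1 := Subgroup.card_mul_index (MulAction.stabilizer (Cfsg.GU (b' + 1) F q) v)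
    rw [MulAction.index_stabilizer, horb, ← Nat.card_coe_set_eq] at h1
    change _ * UnitaryCount.cnt F q (b' + 1) 1 = _ at h1
    have h2 : Nat.card (Cfsg.GU (b' + 1) F q) = UnitaryCount.cnt F q (b' + 1) 1 * Nat.card (Cfsg.GU b' F q) := by
      rw [natCard_GU_eq_frames hF, natCard_GU_eq_frames hF, natCard_frames hF le_rfl, natCard_frames hF le_rfl,
        Finset.prod_range_succ' _ b', mul_comm]
      congr 1
      exact Finset.prod_congr rfl fun i _ => by rw [Nat.succ_sub_succ]
    have hne : UnitaryCount.cnt F q (b' + 1) 1 ≠ 0 := fun e => by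
      have := Nat.card_pos (α := Cfsg.GU (b' + 1) F q)
      rw [h2, e, zero_mul] at this
      omega
    rw [h2, mul_comm] at h1
    have hst := mul_left_cancel₀ hne h1
    have hdvd : r ∣ Nat.card (MulAction.stabilizer (Cfsg.GU (b' + 1) F q) v) := by
      rw [← hg, show orderOf g = orderOf (⟨g, hgv⟩ : MulAction.stabilizer (Cfsg.GU (b' + 1) F q) v) from
        (Subgroup.orderOf_mk _ _).symm]
      exact orderOf_dvd_natCard _
    rw [hst, natCard_GU hF] at hdvd
    rcases hr.out.dvd_mul.1 hdvd with h | h
    · have h' := hr.out.dvd_of_dvd_pow h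
      have hq0 : (q : F) = 0 := by
        have h0 : ((q : F)) ^ 2 = 0 := by
          rw [← Nat.cast_pow, ← hF]; exact FiniteField.cast_card_eq_zero F
        exact eq_zero_of_pow_eq_zero h0
      obtain ⟨c, hc⟩ := h'
      obtain ⟨hp', hpc⟩ : (ringChar F).Prime ∧ CharP F (ringChar F) :=
        ⟨CharP.char_is_prime F _, ringChar.charP F⟩
      have hpq : ringChar F ∣ q := (ringChar.spec F q).1 hq0
      obtain ⟨s, hs, hcard⟩ := FiniteField.card F (ringChar F)
      refine hrF ((ringChar.spec F r).2 ?_)
      have hr2 : r ∣ ringChar F ^ (s : ℕ) := by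
        rw [← hcard, hF]; exact dvd_pow (hc ▸ dvd_mul_right r c) two_ne_zero
      exact ((Nat.prime_dvd_prime_iff_eq hr.out hp').1 (hr.out.dvd_of_dvd_pow hr2)).symm.dvd
    · obtain ⟨j, hj, hjd⟩ := (Prime.dvd_finsetProd_iff hr.out.prime _).1 h
      rw [Finset.mem_range] at hj
      refine hmin (j + 1) (by omega) (by omega) ?_
      by_cases he : Even j
      · rw [if_pos he] at hjd
        rwa [if_neg (by simp [he, parity_simps])]
      · rw [if_neg he] at hjd
        rwa [if_pos (by simp [he, parity_simps])]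
  -- the fixed space is orthogonal to everything
  intro v hv
  have hvv : ∀ w, gmat g *ᵥ w = w → Cfsg.hermForm (b' + 1) F q w w = 0 := by
    intro w hw
    by_contra h
    obtain ⟨c, hc⟩ := UnitaryCount.exists_norm_eq hF (inv_ne_zero h) (by rw [inv_pow, H_conj hF])
    refine hnorm (c • w) ?_ (by rw [Matrix.mulVec_smul, hw])
    rw [H_smul_left, H_smul_right, ← mul_assoc, ← pow_succ', hc, inv_mul_cancel₀ h]
  have hW : ∀ w, gmat g *ᵥ w = w → Cfsg.hermForm (b' + 1) F q v w = 0 := by
    intro w hw
    obtain ⟨a, ha⟩ : ∃ a : F, a + a ^ q ≠ 0 := Forms.Max.Unitary.exists_trace_ne hF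
    set h := Cfsg.hermForm (b' + 1) F q v w
    by_contra h0
    have := hvv (v + ((a / h) ^ q) • w) (by rw [Matrix.mulVec_add, Matrix.mulVec_smul, hv, hw])
    rw [H_add_left, H_add_right hF, H_add_right hF, H_smul_left, H_smul_right, H_smul_left, H_smul_right,
      hvv v hv, hvv w hw, pow_qq hF, ← H_conj hF v w] at this
    simp only [mul_zero, zero_add, add_zero] at this
    rw [show (a / h) * h = a by field_simp, ← mul_pow, show (a / h) * h = a by field_simp] at this
    exact ha this
  refine eq_zero_of_H hF fun z => ?_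
  set S : Fin (b' + 1) → F := ∑ k ∈ Finset.range r, gmat (g ^ k) *ᵥ z with hS
  have hSfix : gmat g *ᵥ S = S := by
    have hsh : ∀ k, gmat g *ᵥ (gmat (g ^ k) *ᵥ z) = gmat (g ^ (k + 1)) *ᵥ z := fun k => by
      rw [← gmul_mulVec, ← pow_succ']
    rw [hS, Matrix.mulVec_sum]
    simp only [hsh]
    have h0 := Finset.sum_range_succ' (fun k => gmat (g ^ k) *ᵥ z) r
    have h1 := Finset.sum_range_succ (fun k => gmat (g ^ k) *ᵥ z) r
    rw [hgr, ← pow_zero g] at h1
    exact add_right_cancel (h0.symm.trans h1)
  have hkfix : ∀ k : ℕ, gmat (g ^ k) *ᵥ v = v := fun k => by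
    induction k with
    | zero => rw [pow_zero, gmat_one, Matrix.one_mulVec]
    | succ k ih => rw [pow_succ, gmul_mulVec, hv, ih]
  have h := hW S hSfix
  rw [hS, H_sum_right hF, Finset.sum_congr rfl (fun k _ => (show Cfsg.hermForm (b' + 1) F q v (gmat (g ^ k) *ᵥ z) =
    Cfsg.hermForm (b' + 1) F q v z by
      conv_lhs => rw [← hkfix k]
      exact GU_H _ _ _)), Finset.sum_const, Finset.card_range, nsmul_eq_mul] at h
  exact (mul_eq_zero.1 h).resolve_left hrF


include hF in
/-- a block embedding -/
theorem exists_embed {b r : ℕ} (hn : n = b + r) (g : Cfsg.GU b F q) (hfix : ∀ v, gmat g *ᵥ v = v → v = 0) :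
    ∃ h : Cfsg.GU n F q, rk (gmat h) = b ∧ (gmat h).det = (gmat g).det ∧
      ∀ k, g ^ k = 1 → h ^ k = 1 := by
  classical
  subst hn
  let e := (finSumFinEquiv : Fin b ⊕ Fin r ≃ Fin (b + r))
  let M : Cfsg.GU b F q → Matrix (Fin (b + r)) (Fin (b + r)) F := fun g =>
    Matrix.reindex e e (Matrix.fromBlocks (gmat g) 0 0 1)
  have hMv : ∀ g x, M g *ᵥ x = Fin.append (gmat g *ᵥ fun i => x (Fin.castAdd r i)) (fun j => x (Fin.natAdd b j)) := by
    intro g x
    simp only [M, Matrix.reindex_apply, Matrix.submatrix_mulVec_equiv, Equiv.symm_symm]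
    funext i
    induction i using Fin.addCases with
    | left i => simp [e, Matrix.fromBlocks_mulVec]; rfl
    | right j => simp [e, Matrix.fromBlocks_mulVec]
  have hMH : ∀ g x y, Cfsg.hermForm (b + r) F q (M g *ᵥ x) (M g *ᵥ y) = Cfsg.hermForm (b + r) F q x y := by
    intro g x y
    rw [hMv, hMv]
    have h := GU_H g (fun i => x (Fin.castAdd r i)) (fun i => y (Fin.castAdd r i))
    unfold Cfsg.hermForm at h ⊢
    rw [Fin.sum_univ_add, Fin.sum_univ_add]
    simp only [Fin.append_left, Fin.append_right]
    rw [h]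
  let φ : Cfsg.GU b F q →* Cfsg.GU (b + r) F q :=
    { toFun := fun g => guMk hF (M g) (hMH g)
      map_one' := GU_ext fun x => by
        show M 1 *ᵥ x = gmat 1 *ᵥ x
        rw [hMv, gmat_one, gmat_one, Matrix.one_mulVec, Matrix.one_mulVec, Fin.append_castAdd_natAdd]
      map_mul' := fun g h => GU_ext fun x => by
        rw [gmul_mulVec]
        show M (g * h) *ᵥ x = M g *ᵥ (M h *ᵥ x)
        rw [hMv, hMv g, hMv h]
        simp only [Fin.append_left, Fin.append_right, gmul_mulVec] }
  refine ⟨φ g, ?_, ?_, fun k hk => by rw [← map_pow, hk, map_one]⟩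
  · set f := Matrix.toLin' (gmat (φ g) - 1) with hf
    have hker : ∀ x, x ∈ LinearMap.ker f ↔ ∀ i, x (Fin.castAdd r i) = 0 := fun x => by
      rw [LinearMap.mem_ker, hf, Matrix.toLin'_apply, Matrix.sub_mulVec, Matrix.one_mulVec, sub_eq_zero,
        show gmat (φ g) *ᵥ x = M g *ᵥ x from rfl, hMv]
      constructor
      · intro h i
        refine congrFun (hfix (fun i => x (Fin.castAdd r i)) (funext fun j => ?_)) i
        simpa using congrFun h (Fin.castAdd r j)
      · intro h
        have h0 : (fun i => x (Fin.castAdd r i)) = 0 := funext h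
        rw [h0, Matrix.mulVec_zero, ← h0, Fin.append_castAdd_natAdd]
    let E : (Fin r → F) ≃ₗ[F] LinearMap.ker f :=
      { toFun := fun y => ⟨Fin.append 0 y, (hker _).2 fun i => by simp⟩
        map_add' := fun a c => Subtype.ext (funext fun i => by induction i using Fin.addCases <;> simp)
        map_smul' := fun a c => Subtype.ext (funext fun i => by induction i using Fin.addCases <;> simp)
        invFun := fun x j => (x : Fin (b + r) → F) (Fin.natAdd b j)
        left_inv := fun y => funext fun j => by simp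
        right_inv := fun x => Subtype.ext (funext fun i => by
          induction i using Fin.addCases with
          | left i => simp [(hker _).1 x.2 i]
          | right j => simp) }
    have h := LinearMap.finrank_range_add_finrank_ker f
    rw [← E.finrank_eq, finrank_fintype_fun_eq_card, finrank_fintype_fun_eq_card, Fintype.card_fin,
      Fintype.card_fin] at h
    show finrank F (LinearMap.range f) = b
    omega
  · show (M g).det = _
    simp [M, Matrix.det_reindex_self, Matrix.det_fromBlocks_zero₂₁]

include hF in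
/-- an orthonormal frame of eigenvectors of a unitary involution -/
theorem exists_eigenframe (h2 : (2 : F) ≠ 0) {u : Matrix (Fin n) (Fin n) F} (hu : u * u = 1)
    (hiso : ∀ x y, H (u *ᵥ x) (u *ᵥ y) = H x y) :
    ∀ k ≤ n, ∃ f : Fin k → Vec, IsFrame q f ∧ ∀ i, u *ᵥ f i = f i ∨ u *ᵥ f i = -f i := by
  intro k
  induction k with
  | zero => exact fun _ => ⟨Fin.elim0, fun i => i.elim0, fun i => i.elim0⟩
  | succ k ih =>
    intro hk
    obtain ⟨f, hf, hfe⟩ := ih (by omega)
    set P := Forms.Max.Unitary.perp q (Submodule.span F (Set.range f)) with hP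
    have hmem : ∀ v, v ∈ P ↔ ∀ i, H v (f i) = 0 := fun v => by
      rw [hP, Forms.Max.Unitary.mem_perp]
      refine ⟨fun h i => h _ (Submodule.subset_span ⟨i, rfl⟩), fun h w hw => ?_⟩
      induction hw using Submodule.span_induction with
      | mem x hx => obtain ⟨i, rfl⟩ := hx; exact h i
      | zero => exact H_zero_right hF _
      | add x y _ _ hx hy => rw [H_add_right hF, hx, hy, add_zero]
      | smul c x _ hx => rw [H_smul_right, hx, mul_zero]
    have huu : ∀ v, u *ᵥ (u *ᵥ v) = v := fun v => by rw [Matrix.mulVec_mulVec, hu, Matrix.one_mulVec]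
    have hPu : ∀ v ∈ P, u *ᵥ v ∈ P := fun v hv => by
      refine (hmem _).2 fun i => ?_
      rw [← hiso, huu]
      rcases hfe i with e | e <;> rw [e]
      · exact (hmem v).1 hv i
      · rw [H_neg_right hF, (hmem v).1 hv i, neg_zero]
    obtain ⟨v, hvP, hv⟩ : ∃ v ∈ P, H v v ≠ 0 := by
      have hli : LinearIndependent F f := Fintype.linearIndependent_iff.2 fun c hc i => by
        have h := congrArg (fun z => H z (f i)) hc
        simp only [H_sum_left, H_smul_left, H_zero_left] at h
        rw [Finset.sum_eq_single i (fun j _ hj => by rw [hf, if_neg hj, mul_zero]) (by simp), hf, if_pos rfl,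
          mul_one] at h
        exact h
      have hd := Forms.Max.Unitary.finrank_perp hF (Submodule.span F (Set.range f))
      rw [finrank_span_eq_card hli, Fintype.card_fin] at hd
      by_contra hcon
      push Not at hcon
      have hne : P ≠ ⊥ := fun e => by
        rw [← hP, e, finrank_bot] at hd
        omega
      obtain ⟨v, hvP, hv0⟩ := Submodule.exists_mem_ne_zero_of_ne_bot hne
      have hperp : ∀ w ∈ P, H v w = 0 := fun w hw => by
        obtain ⟨a, ha⟩ : ∃ a : F, a + a ^ q ≠ 0 := Forms.Max.Unitary.exists_trace_ne hF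
        set h := H v w
        by_contra h0
        have := hcon (v + ((a / h) ^ q) • w) (P.add_mem hvP (P.smul_mem _ hw))
        rw [H_add_left, H_add_right hF, H_add_right hF, H_smul_left, H_smul_right, H_smul_left, H_smul_right,
          hcon v hvP, hcon w hw, pow_qq hF, ← H_conj hF v w] at this
        simp only [mul_zero, zero_add, add_zero] at this
        rw [show (a / h) * h = a by field_simp, ← mul_pow, show (a / h) * h = a by field_simp] at this
        exact ha this
      have hin : v ∈ Submodule.span F (Set.range f) := by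
        rw [← Forms.Max.Unitary.perp_perp hF (Submodule.span F (Set.range f))]
        exact Forms.Max.Unitary.mem_perp.2 hperp
      exact hv0 (eq_zero_of_H hF fun z => by
        obtain ⟨c, hc⟩ := (Submodule.mem_span_range_iff_exists_fun F).1 hin
        have hc0 : ∀ i, c i = 0 := fun i => by
          have h := (hmem v).1 hvP i
          rw [← hc, H_sum_left, Finset.sum_eq_single i (fun j _ hj => by
            rw [H_smul_left, hf, if_neg hj, mul_zero]) (by simp), H_smul_left, hf, if_pos rfl, mul_one] at h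
          exact h
        rw [← hc]
        simp [hc0, H_zero_left])
    obtain ⟨w, hwP, hw, hwe⟩ : ∃ w ∈ P, H w w ≠ 0 ∧ (u *ᵥ w = w ∨ u *ᵥ w = -w) := by
      by_cases h : H (v + u *ᵥ v) (v + u *ᵥ v) = 0
      · refine ⟨v - u *ᵥ v, P.sub_mem hvP (hPu v hvP), fun e => hv ?_, Or.inr ?_⟩
        · simp only [H_add_left, H_add_right hF, H_sub_left, H_sub_right hF, hiso] at h e
          exact (mul_eq_zero.1 (show (2 * 2 : F) * H v v = 0 by linear_combination h + e)).resolve_left
            (mul_ne_zero h2 h2)
        · rw [Matrix.mulVec_sub, huu, neg_sub]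
      · exact ⟨_, P.add_mem hvP (hPu v hvP), h, Or.inl (by rw [Matrix.mulVec_add, huu, add_comm])⟩
    obtain ⟨c, hc⟩ := UnitaryCount.exists_norm_eq hF (inv_ne_zero hw) (by rw [inv_pow, H_conj hF])
    refine ⟨Fin.cons (c • w) f, isFrame_cons.2 ⟨hf, fun i => ?_, fun i => ?_, ?_⟩, Fin.cases ?_ ?_⟩
    · rw [H_smul_left, (hmem w).1 hwP i, mul_zero]
    · rw [H_smul_right, ← H_conj hF, (hmem w).1 hwP i, zero_pow (q_ne_zero hF), mul_zero]
    · rw [H_smul_left, H_smul_right, ← mul_assoc, ← pow_succ', hc, inv_mul_cancel₀ hw]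
    · rw [Fin.cons_zero, Matrix.mulVec_smul]
      rcases hwe with e | e <;> rw [e]
      · exact Or.inl rfl
      · exact Or.inr (smul_neg _ _)
    · intro i
      rw [Fin.cons_succ]
      exact hfe i

include hF in
/-- a unitary involution of determinant one stabilizes a polar pair -/
theorem involution_pair (h2 : (2 : F) ≠ 0) (hn : n = m + m) {u : Matrix (Fin n) (Fin n) F} (hu : u * u = 1)
    (hiso : ∀ x y, H (u *ᵥ x) (u *ᵥ y) = H x y) (hd : u.det = 1) :
    ∃ U U' : Submodule F Vec, Pair q m U U' ∧ U.map (Matrix.toLin' u) ≤ U ∧ U'.map (Matrix.toLin' u) ≤ U' := by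
  classical
  obtain ⟨f, hf, hfe⟩ := exists_eigenframe hF h2 hu hiso n le_rfl
  let ε : Fin n → F := fun i => if u *ᵥ f i = f i then 1 else -1
  have hue : ∀ i, u *ᵥ f i = ε i • f i := fun i => by
    simp only [ε]
    split_ifs with h
    · rw [one_smul, h]
    · rw [neg_one_smul]; exact (hfe i).resolve_left h
  have hli : LinearIndependent F f := Fintype.linearIndependent_iff.2 fun c hc i => by
    have h := congrArg (fun z => H z (f i)) hc
    simp only [H_sum_left, H_smul_left, H_zero_left] at h
    rw [Finset.sum_eq_single i (fun j _ hj => by rw [hf, if_neg hj, mul_zero]) (by simp), hf, if_pos rfl,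
      mul_one] at h
    exact h
  have hprod : ∏ i, ε i = 1 := by
    rcases Nat.eq_zero_or_pos n with h0 | h0
    · subst h0; simp
    haveI : Nonempty (Fin n) := ⟨⟨0, h0⟩⟩
    let B := basisOfLinearIndependentOfCardEqFinrank hli (by simp)
    have hB : ∀ s, B s = f s := fun s => by simp [B]
    have : LinearMap.toMatrix B B (Matrix.toLin' u) = Matrix.diagonal ε := by
      ext i j
      rw [LinearMap.toMatrix_apply, Matrix.toLin'_apply, hB, hue, ← hB, map_smul, B.repr_self,
        Finsupp.smul_apply, Finsupp.single_apply, Matrix.diagonal_apply]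
      split_ifs <;> simp_all
    rw [← Matrix.det_diagonal, ← this, LinearMap.det_toMatrix, LinearMap.det_toLin', hd]
  set A := Finset.univ.filter fun i => ε i = 1 with hA
  have hneg : ∀ i, i ∉ A → ε i = -1 := fun i hi => by
    simp only [hA, Finset.mem_filter, Finset.mem_univ, true_and, ε] at hi ⊢
    split_ifs with h
    · exact absurd (if_pos h) hi
    · rfl
  have hpar : Even Aᶜ.card := by
    rw [← Finset.prod_mul_prod_compl A, Finset.prod_eq_one fun i hi => (Finset.mem_filter.1 hi).2, one_mul,
      Finset.prod_congr rfl fun i hi => hneg i (Finset.mem_compl.1 hi), Finset.prod_const] at hprod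
    by_contra hodd
    rw [(Nat.not_even_iff_odd.1 hodd).neg_one_pow] at hprod
    exact h2 (by linear_combination -hprod)
  have hcard := Finset.card_add_card_compl A
  rw [Fintype.card_fin] at hcard
  obtain ⟨b', hb'⟩ := hpar
  obtain ⟨a', ha'⟩ : ∃ a', A.card = a' + a' := ⟨m - b', by omega⟩
  obtain ⟨g, hg⟩ : ∃ g : Fin m × Fin 2 ≃ Fin n, ∀ k, ε (g (k, 0)) = ε (g (k, 1)) := by
    let eA : Fin a' × Fin 2 ≃ A := finProdFinEquiv.trans ((finCongr (by omega)).trans A.equivFin.symm)
    let eB : Fin b' × Fin 2 ≃ (Aᶜ : Finset (Fin n)) :=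
      finProdFinEquiv.trans ((finCongr (by omega)).trans (Aᶜ).equivFin.symm)
    let eC : A ⊕ (Aᶜ : Finset (Fin n)) ≃ Fin n :=
      (Equiv.sumCongr (Equiv.refl _) (Equiv.subtypeEquivRight (fun i => Finset.mem_compl))).trans
        (Equiv.sumCompl fun i => i ∈ A)
    let eD : Fin m ≃ Fin a' ⊕ Fin b' := (finCongr (by omega)).trans finSumFinEquiv.symm
    refine ⟨((Equiv.prodCongr eD (Equiv.refl _)).trans (Equiv.sumProdDistrib _ _ _)).trans
      ((Equiv.sumCongr eA eB).trans eC), fun k => ?_⟩
    simp only [Equiv.trans_apply, Equiv.prodCongr_apply, Prod.map, Equiv.refl_apply]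
    rcases eD k with x | x
    · have h : ∀ j, ε (eC (Sum.inl (eA (x, j)))) = 1 := fun j => by
        simp only [eC, Equiv.trans_apply, Equiv.sumCongr_apply, Sum.map_inl, Equiv.refl_apply, Equiv.sumCompl_apply_inl]
        exact (Finset.mem_filter.1 (eA (x, j)).2).2
      simp [h]
    · have h : ∀ j, ε (eC (Sum.inr (eB (x, j)))) = -1 := fun j => by
        simp only [eC, Equiv.trans_apply, Equiv.sumCongr_apply, Sum.map_inr, Equiv.sumCompl_apply_inr]
        exact hneg _ (Finset.mem_compl.1 (eB (x, j)).2)
      simp [h]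
  obtain ⟨c, hc⟩ := UnitaryCount.exists_norm_eq hF (μ := -1) (neg_ne_zero.2 one_ne_zero)
    (by rw [← HermStd.qHom_apply hF, map_neg, map_one])
  let b : Fin m ⊕ Fin m → Vec := Sum.elim (fun k => (2 : F)⁻¹ • (f (g (k, 0)) + c • f (g (k, 1))))
    (fun k => f (g (k, 0)) - c • f (g (k, 1)))
  have h2q : ((2 : F)⁻¹) ^ q = (2 : F)⁻¹ := by
    rw [inv_pow, ← HermStd.qHom_apply hF, map_ofNat]
  have hb : IsHB q b := by
    have hcc : c * c ^ q = -1 := by rw [← pow_succ', hc]
    rintro (k | k) (l | l) <;>
      simp only [b, Sum.elim_inl, Sum.elim_inr, H_smul_left, H_smul_right, H_add_left, H_add_right hF, H_sub_left,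
        H_sub_right hF, hf _ _, g.injective.eq_iff, Prod.mk.injEq, h2q, Sum.swap_inl, Sum.swap_inr] <;>
      by_cases hkl : k = l <;>
      simp [hkl, Ne.symm] <;>
      first
        | (field_simp; linear_combination hcc)
        | (field_simp; linear_combination -hcc)
        | linear_combination hcc
        | linear_combination -hcc
        | exact Or.inr (by linear_combination (2 : F)⁻¹ * hcc)
        | (intro e; exact absurd e.symm hkl)
  have hbl := li_of_HB hF hb
  let U := Submodule.span F (Set.range fun k => b (Sum.inl k))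
  let U' := Submodule.span F (Set.range fun k => b (Sum.inr k))
  have hIso : ∀ j : Fin m → Fin m ⊕ Fin m, (∀ k l, j l ≠ (j k).swap) →
      Iso q (Submodule.span F (Set.range fun k => b (j k))) := by
    intro j hj x hx y hy
    obtain ⟨cx, rfl⟩ := (Submodule.mem_span_range_iff_exists_fun F).1 hx
    obtain ⟨cy, rfl⟩ := (Submodule.mem_span_range_iff_exists_fun F).1 hy
    simp only [H_sum_left, H_smul_left, H_sum_right hF, H_smul_right, hb _ _, if_neg (hj _ _), mul_zero,
      Finset.sum_const_zero]
  have hinl : LinearIndependent F (fun k => b (Sum.inl k)) := hbl.comp _ Sum.inl_injective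
  have hinr : LinearIndependent F (fun k => b (Sum.inr k)) := hbl.comp _ Sum.inr_injective
  have hP : Pair q m U U' := by
    refine ⟨hIso _ fun k l => by simp, hIso _ fun k l => by simp, ?_, ?_, ?_⟩
    · refine ⟨?_, codisjoint_iff.2 ?_⟩
      · exact hbl.disjoint_span_image (s := Set.range Sum.inl) (t := Set.range Sum.inr)
          (Set.isCompl_range_inl_range_inr.disjoint) |>.mono (by rw [← Set.range_comp]; rfl) (by rw [← Set.range_comp]; rfl)
      · rw [← Submodule.span_union, ← Set.Sum.elim_range]
        rw [show Sum.elim (fun k => b (Sum.inl k)) (fun k => b (Sum.inr k)) = b by ext (k | k) <;> rfl]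
        exact hbl.span_eq_top_of_card_eq_finrank' (by simp [hn])
    · rw [finrank_span_eq_card hinl, Fintype.card_fin]
    · rw [finrank_span_eq_card hinr, Fintype.card_fin]
  refine ⟨U, U', hP, ?_, ?_⟩
  all_goals
    rw [Submodule.map_span_le]
    rintro _ ⟨k, rfl⟩
    rw [Matrix.toLin'_apply]
  · have e : u *ᵥ b (Sum.inl k) = ε (g (k, 0)) • b (Sum.inl k) := by
      simp only [b, Sum.elim_inl, Matrix.mulVec_smul, Matrix.mulVec_add, hue, ← hg k, smul_add, smul_smul]
      match_scalars <;> ring
    rw [e]
    exact Submodule.smul_mem _ _ (Submodule.subset_span ⟨k, rfl⟩)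
  · have e : u *ᵥ b (Sum.inr k) = ε (g (k, 0)) • b (Sum.inr k) := by
      simp only [b, Sum.elim_inr, Matrix.mulVec_smul, Matrix.mulVec_sub, hue, ← hg k, smul_sub, smul_smul]
      match_scalars <;> ring
    rw [e]
    exact Submodule.smul_mem _ _ (Submodule.subset_span ⟨k, rfl⟩)

/-- Elements of prime order of PSU_n(q) and the stabilizers of pairs of complementary totally singular subspaces. Here `T = PSU_n(q)` is realised through `SU_n(q)`, the matrices of determinant 1 over the field `F` with `q²` elements preserving the hermitian form `Σ uᵢ vᵢ^q`, with `n ≥ 4` even; `D` is a pair of complementary subspaces of dimension `n/2` on each of which the form vanishes identically, and `H` is the subgroup of `SU_n(q)` fixing or interchanging the two members — a subgroup of type GL_{n/2}(q²).2 (maximality is not assumed). Ω is the set of cosets of `H`, so an element of `T` of prime order `r` (`x ∈ SU_n(q)` with `x^r` scalar, `x` not scalar) fixes a point of Ω exactly when some `SU_n(q)`-conjugate of `x` lies in `H`. Let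 `r` be a prime dividing the index of `H`. Then every element of `T` of order `r` fixes a point of Ω if and only if `r = 2`, `q` is odd and `(q + 1)_2 ≤ (n)_2` (2-parts). -/
theorem result {F : Type*} [Field F] [Fintype F] {p : ℕ} [Fact p.Prime] [CharP F p] {q : ℕ} (hq : Fintype.card F = q ^ 2)
    (n : ℕ) (hn : 4 ≤ n) (he : Even n) (D : Fin 2 → Submodule F (Fin n → F)) (hD : Cfsg.Geo.IsMDecomposition (n / 2) D)
    (hDs : ∀ i, Cfsg.Geo.IsTotallySingularFor (Cfsg.hermForm n F q) (D i))
    (r : ℕ) [Fact r.Prime]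
    (hΩ : r ∣ (Cfsg.Geo.decompositionStabilizer D).relIndex (Cfsg.GU n F q ⊓ Cfsg.Geo.specialLinear (Fin n) F)) :
    (∀ x ∈ Cfsg.GU n F q ⊓ Cfsg.Geo.specialLinear (Fin n) F, (∃ z : F, ((x ^ r : GL (Fin n) F) : Matrix (Fin n) (Fin n) F) = z • (1 : Matrix (Fin n) (Fin n) F)) →
      (∀ z : F, (x : Matrix (Fin n) (Fin n) F) ≠ z • (1 : Matrix (Fin n) (Fin n) F)) →
      ∃ g ∈ Cfsg.GU n F q ⊓ Cfsg.Geo.specialLinear (Fin n) F, g⁻¹ * x * g ∈ Cfsg.Geo.decompositionStabilizer D) ↔
    (r = 2 ∧ Odd q ∧ padicValNat 2 (q + 1) ≤ padicValNat 2 n) := by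
  classical
  have hF := hq
  obtain ⟨m, rfl⟩ := he
  have hm2 : 2 ≤ m := by omega
  rw [show (m + m) / 2 = m by omega] at hD
  have hq1 := HermStd.one_lt_q hF
  have hpr : p.Prime := Fact.out
  have hrp : r.Prime := Fact.out
  obtain ⟨e0, -, hcardF⟩ := FiniteField.card F p
  have hdvd_q : p ∣ q := hpr.dvd_of_dvd_pow (n := 2) (by rw [← hF, hcardF]; exact dvd_pow_self p e0.ne_zero)
  have hq_p : ∀ {l : ℕ}, l.Prime → l ∣ q → l = p := fun {l} hl h => by
    have : l ∣ p ^ (e0 : ℕ) := by rw [← hcardF, hF]; exact dvd_pow h two_ne_zero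
    exact (Nat.prime_dvd_prime_iff_eq hl hpr).1 (hl.dvd_of_dvd_pow this)
  have hP : Pair q m (D 0) (D 1) := by
    refine ⟨hDs 0, hDs 1, ⟨hD.indep.pairwiseDisjoint (by decide : (0 : Fin 2) ≠ 1), codisjoint_iff.2 ?_⟩,
      hD.finrank_eq 0, hD.finrank_eq 1⟩
    refine eq_top_iff.2 (hD.iSup_eq_top ▸ iSup_le fun i => ?_)
    fin_cases i
    · exact le_sup_left
    · exact le_sup_right
  set G := Cfsg.GU (m + m) F q ⊓ Cfsg.Geo.specialLinear (Fin (m + m)) F with hG
  have hdet1 : ∀ {x : GL (Fin (m + m)) F}, x ∈ G → (x : Matrix (Fin (m + m)) (Fin (m + m)) F).det = 1 := fun {x} hx =>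
    congrArg Units.val (MonoidHom.mem_ker.1 hx.2)
  constructor
  · intro hall
    -- a derangement of odd order or rank one
    have test : ∀ u : Cfsg.GU (m + m) F q, (gmat u).det = 1 →
        (∃ z : F, (gmat u) ^ r = z • 1) → (∀ z : F, gmat u ≠ z • 1) →
        ∃ g : GL (Fin (m + m)) F, g ∈ G ∧
          g⁻¹ * (u : GL (Fin (m + m)) F) * g ∈ Cfsg.Geo.decompositionStabilizer D := by
      intro u hu ⟨z, hz⟩ hns
      exact hall u ⟨u.2, MonoidHom.mem_ker.2 (Units.ext hu)⟩ ⟨z, by rw [Units.val_pow_eq_pow_val]; exact hz⟩ hns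
    have hsplit : ∀ y : GL (Fin (m + m)) F, y ∈ Cfsg.Geo.decompositionStabilizer D →
        ((D 0).map (Matrix.toLin' (y : Matrix (Fin (m + m)) (Fin (m + m)) F)) = D 0 ∧
          (D 1).map (Matrix.toLin' (y : Matrix (Fin (m + m)) (Fin (m + m)) F)) = D 1) ∨
        ((D 0).map (Matrix.toLin' (y : Matrix (Fin (m + m)) (Fin (m + m)) F)) = D 1 ∧
          (D 1).map (Matrix.toLin' (y : Matrix (Fin (m + m)) (Fin (m + m)) F)) = D 0) := by
      rintro y ⟨σ, hσ⟩
      have hperm : ∀ σ : Equiv.Perm (Fin 2), (σ 0 = 0 ∧ σ 1 = 1) ∨ (σ 0 = 1 ∧ σ 1 = 0) := by decide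
      rcases hperm σ with ⟨h0, h1⟩ | ⟨h0, h1⟩
      · exact Or.inl ⟨by rw [hσ, h0], by rw [hσ, h1]⟩
      · exact Or.inr ⟨by rw [hσ, h0], by rw [hσ, h1]⟩
    have hdd : D 0 ≠ D 1 := fun e => by
      have h := hP.compl.disjoint
      rw [← e, disjoint_self] at h
      have := hP.dim
      rw [h, finrank_bot] at this
      omega
    have hrank : ∀ u : Cfsg.GU (m + m) F q, Odd (rk (gmat u)) → ∀ g : GL (Fin (m + m)) F, g ∈ G →
        g⁻¹ * (u : GL (Fin (m + m)) F) * g ∈ Cfsg.Geo.decompositionStabilizer D →
        m ≤ rk (gmat u) ∧ ¬ (Odd r ∧ u ^ r = 1) := by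
      intro u hu g hg hy
      have hrk := rk_conj g (gmat u)
      rw [← Units.val_mul, ← Units.val_mul] at hrk
      rcases hsplit _ hy with ⟨h0, h1⟩ | ⟨h0, h1⟩
      · have hyU : g⁻¹ * (u : GL (Fin (m + m)) F) * g ∈ Cfsg.GU (m + m) F q :=
          (Cfsg.GU (m + m) F q).mul_mem ((Cfsg.GU (m + m) F q).mul_mem ((Cfsg.GU (m + m) F q).inv_mem hg.1) u.2) hg.1
        have := rank_fix hF rfl hP (HermStd.mem_GU_iff.1 hyU) h0 h1
        rw [hrk] at this
        exact absurd hu (Nat.not_odd_iff_even.2 this)
      · refine ⟨hrk ▸ rank_swap rfl hP h0, fun ⟨hr, hur⟩ => hdd ?_⟩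
        set y := g⁻¹ * (u : GL (Fin (m + m)) F) * g with hy
        have hyr : y ^ r = 1 := by
          have h : (u : GL (Fin (m + m)) F) ^ r = 1 := congrArg Subtype.val hur
          rw [hy, show g⁻¹ * (u : GL (Fin (m + m)) F) * g = g⁻¹ * (u : GL (Fin (m + m)) F) * g⁻¹⁻¹ by rw [inv_inv],
            conj_pow, h, mul_one, mul_inv_cancel]
        have hev : ∀ j, (D 0).map (Matrix.toLin' ((y ^ (2 * j) : GL (Fin (m + m)) F) :
            Matrix (Fin (m + m)) (Fin (m + m)) F)) = D 0 := fun j => by
          induction j with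
          | zero => simp
          | succ j ih =>
            rw [Nat.mul_succ, pow_add, pow_two, Units.val_mul, Units.val_mul, Matrix.toLin'_mul, Matrix.toLin'_mul,
              Submodule.map_comp, Submodule.map_comp, h0, h1, ih]
        obtain ⟨j, hj⟩ := hr
        have h := hev (j + 1)
        rw [show 2 * (j + 1) = r + 1 by omega, pow_succ, hyr, one_mul, h0] at h
        exact h.symm
    have hrp' : r ≠ p := by
      intro e
      subst e
      haveI : NeZero (m + m) := ⟨by omega⟩
      obtain ⟨v, hv, hv1, -⟩ := exists_isotropic_pair hF (0 : Fin (m + m)) ⟨1, by omega⟩ (by simp [Fin.ext_iff])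
      obtain ⟨c, hc0, hc⟩ := exists_traceZero hF
      set T := suToGU (tvu hF hv hc) with hT
      have hTv : ∀ x, gmat T *ᵥ x = x + (c * Cfsg.hermForm (m + m) F q x v) • v := fun x => tvu_mulVec hF hv hc x
      have hv0 : v ≠ 0 := fun e => by rw [e] at hv1; simp at hv1
      obtain ⟨x₀, hx₀⟩ : ∃ x, Cfsg.hermForm (m + m) F q x v ≠ 0 := by
        by_contra hcon
        push Not at hcon
        exact hv0 (eq_zero_of_H hF fun x => (H_eq_zero_comm hF).1 (hcon x))
      have hrk1 : rk (gmat T) = 1 := by
        have : LinearMap.range (Matrix.toLin' (gmat T - 1)) = Submodule.span F {v} := by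
          refine le_antisymm ?_ ((Submodule.span_singleton_le_iff_mem _ _).2 ?_)
          · rintro _ ⟨x, rfl⟩
            rw [Matrix.toLin'_apply, Matrix.sub_mulVec, Matrix.one_mulVec, hTv, add_sub_cancel_left]
            exact Submodule.smul_mem _ _ (Submodule.mem_span_singleton_self v)
          · refine ⟨(c * Cfsg.hermForm (m + m) F q x₀ v)⁻¹ • x₀, ?_⟩
            rw [map_smul, Matrix.toLin'_apply, Matrix.sub_mulVec, Matrix.one_mulVec, hTv, add_sub_cancel_left,
              inv_smul_smul₀ (mul_ne_zero hc0 hx₀)]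
        show finrank F _ = 1
        rw [this, finrank_span_singleton hv0]
      have hTp : T ^ r = 1 := by
        have hk : ∀ (k : ℕ) x, gmat (T ^ k) *ᵥ x = x + ((k : F) * (c * Cfsg.hermForm (m + m) F q x v)) • v := by
          intro k
          induction k with
          | zero => intro x; rw [pow_zero, gmat_one, Matrix.one_mulVec]; simp
          | succ k ih =>
            intro x
            rw [pow_succ, gmul_mulVec, hTv, ih, H_add_left, H_smul_left, hv]
            match_scalars <;> push_cast <;> ring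
        refine GU_ext fun x => ?_
        rw [hk, CharP.cast_eq_zero F r, zero_mul, zero_smul, add_zero, gmat_one, Matrix.one_mulVec]
      have hns : ∀ z : F, gmat T ≠ z • 1 := fun z hz => by
        have h := hTv v
        rw [hv, mul_zero, zero_smul, add_zero, hz, Matrix.smul_mulVec, Matrix.one_mulVec] at h
        have hz1 : z = 1 := by
          rcases smul_left_injective F hv0 (show z • v = (1 : F) • v by rw [h, one_smul]) with rfl
          rfl
        have h' := hTv x₀
        rw [hz, hz1, one_smul, Matrix.one_mulVec, left_eq_add] at h'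
        exact mul_ne_zero hc0 hx₀ ((smul_eq_zero.1 h').resolve_right hv0)
      obtain ⟨g, hg, hy⟩ := test T (tvu hF hv hc).1.2 ⟨1, by
        rw [one_smul]; simpa [gmat] using congrArg (fun u : Cfsg.GU (m + m) F q => gmat u) hTp⟩ hns
      have := (hrank T (by rw [hrk1]; exact odd_one) g hg hy).1
      omega
    have hrq : ¬ r ∣ q := fun h => hrp' (hq_p hrp h)
    rcases eq_or_ne r 2 with rfl | hr2
    · have hqodd : Odd q := Nat.not_even_iff_odd.1 fun h => hrq (even_iff_two_dvd.1 h)
      refine ⟨rfl, hqodd, ?_⟩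
      by_contra hlt
      push Not at hlt
      set c := padicValNat 2 (m + m) with hc
      have hdv : 2 ^ (c + 1) ∣ q + 1 := (padicValNat_dvd_iff_le (by omega)).2 hlt
      haveI : IsCyclic Fˣ := inferInstance
      obtain ⟨ζ, hζ⟩ := IsCyclic.exists_ofOrder_eq_natCard (α := Fˣ)
      have hdF : 2 ^ (c + 1) ∣ orderOf ζ := by
        rw [hζ, natCard_units_F hF]
        exact hdv.mul_left _
      obtain ⟨k, hk⟩ := hdF
      set s : Fˣ := ζ ^ k with hs
      have hso : orderOf s = 2 ^ (c + 1) := by
        rw [hs, orderOf_pow_of_dvd (fun e => by rw [e, mul_zero] at hk; exact (orderOf_pos ζ).ne' hk)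
          ⟨2 ^ (c + 1), by rw [hk, mul_comm]⟩, hk, Nat.mul_div_left _ (by
            rcases Nat.eq_zero_or_pos k with e | e
            · rw [e, mul_zero] at hk; exact absurd hk (orderOf_pos ζ).ne'
            · exact e)]
      have hsq : ((s : F)) ^ (q + 1) = 1 := by
        rw [← Units.val_pow_eq_pow_val, (orderOf_dvd_iff_pow_eq_one (x := s)).1 (hso ▸ hdv), Units.val_one]
      have hsn : ((s : F)) ^ (m + m) = -1 := by
        obtain ⟨o, ho⟩ : 2 ^ c ∣ m + m := pow_padicValNat_dvd
        have hoo : Odd o := by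
          refine Nat.not_even_iff_odd.1 fun he => pow_succ_padicValNat_not_dvd (p := 2) (n := m + m) (by omega) ?_
          obtain ⟨o', rfl⟩ := he
          rw [← hc, ho, pow_succ]
          exact ⟨o', by ring⟩
        have h1 : ((s : F)) ^ (2 ^ c) = -1 := by
          have h2c : (((s : F)) ^ (2 ^ c)) * (((s : F)) ^ (2 ^ c)) = 1 := by
            rw [← pow_add, ← two_mul, ← pow_succ', ← hso, ← Units.val_pow_eq_pow_val, pow_orderOf_eq_one, Units.val_one]
          refine (mul_self_eq_one_iff.1 h2c).resolve_left fun h => ?_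
          have := orderOf_dvd_of_pow_eq_one (x := s) (n := 2 ^ c) (Units.ext (by simpa using h))
          rw [hso] at this
          have := Nat.le_of_dvd (Nat.two_pow_pos c) this
          have := pow_lt_pow_right₀ (show 1 < 2 by norm_num) (Nat.lt_succ_self c)
          omega
        rw [ho, pow_mul, h1, hoo.neg_one_pow]
      haveI : NeZero (m + m) := ⟨by omega⟩
      let d : Fin (m + m) → F := fun i => if i = 0 then -(s : F) else (s : F)
      set u := diagGU hF d (fun i => by
        simp only [d]
        split_ifs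
        · rw [Even.neg_pow (hqodd.add_one), hsq]
        · exact hsq) with hu
      have hud : gmat u = Matrix.diagonal d := gmat_diagGU hF d _
      obtain ⟨g, hg, hy⟩ := test u (by
        rw [hud, Matrix.det_diagonal, ← Finset.mul_prod_erase _ _ (Finset.mem_univ (0 : Fin (m + m))),
          Finset.prod_congr rfl (fun i hi => if_neg (Finset.ne_of_mem_erase hi)), Finset.prod_const,
          Finset.card_erase_of_mem (Finset.mem_univ _), Finset.card_univ, Fintype.card_fin]
        simp only [d, if_true]
        rw [neg_mul, ← pow_succ', show m + m - 1 + 1 = m + m by omega, hsn, neg_neg]) ⟨(s : F) * (s : F), by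
        rw [hud, Matrix.diagonal_pow, ← Matrix.diagonal_one, ← Matrix.diagonal_smul]
        congr 1
        funext i
        simp only [d, Pi.pow_apply, Pi.smul_apply]
        split_ifs <;> simp [pow_two]⟩ (fun z hz => by
        rw [hud] at hz
        have e0 := congrFun (congrFun hz 0) 0
        have e1 := congrFun (congrFun hz ⟨1, by omega⟩) ⟨1, by omega⟩
        rw [Matrix.diagonal_apply_eq, Matrix.smul_apply, Matrix.one_apply_eq, smul_eq_mul, mul_one] at e0 e1
        rw [show d 0 = -(s : F) from if_pos rfl] at e0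
        rw [show d ⟨1, by omega⟩ = (s : F) from if_neg (by simp [Fin.ext_iff])] at e1
        have : (2 : F) * s = 0 := by linear_combination e1 - e0
        rcases mul_eq_zero.1 this with h | h
        · exact hrp' ((Nat.prime_dvd_prime_iff_eq hpr Nat.prime_two).1
            ((CharP.cast_eq_zero_iff F p 2).1 (by exact_mod_cast h))).symm
        · exact s.ne_zero h)
      -- scale to an involution of rank one
      set v : Matrix (Fin (m + m)) (Fin (m + m)) F := ((s : F))⁻¹ • gmat u with hv
      set w := diagGU hF (fun i : Fin (m + m) => if i = 0 then (-1 : F) else 1) (fun i => by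
        split_ifs
        · exact Even.neg_one_pow (hqodd.add_one)
        · exact one_pow _) with hw
      have huw : gmat u = (s : F) • gmat w := by
        rw [hud, hw, gmat_diagGU, ← Matrix.diagonal_smul]
        congr 1
        funext i
        simp only [d, Pi.smul_apply, smul_eq_mul]
        split_ifs <;> simp
      have hrk1 : rk (gmat w) = 1 := by
        show finrank F (LinearMap.range (Matrix.toLin' (gmat w - 1))) = 1
        rw [hw, gmat_diagGU, ← Matrix.diagonal_one, Matrix.diagonal_sub, ]
        have : LinearMap.range (Matrix.toLin' (Matrix.diagonal fun i : Fin (m + m) =>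
            (if i = 0 then (-1 : F) else 1) - 1)) = Submodule.span F {Pi.single 0 1} := by
          refine le_antisymm ?_ ((Submodule.span_singleton_le_iff_mem _ _).2 ?_)
          · rintro _ ⟨x, rfl⟩
            refine Submodule.mem_span_singleton.2 ⟨(-1 - 1) * x 0, ?_⟩
            funext i
            rw [Matrix.toLin'_apply, Matrix.mulVec_diagonal]
            by_cases hi : i = 0 <;> simp [hi]
          · refine ⟨Pi.single 0 (-1 - 1 : F)⁻¹, ?_⟩
            funext i
            rw [Matrix.toLin'_apply, Matrix.mulVec_diagonal]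
            by_cases hi : i = 0
            · subst hi
              simp only [if_true, Pi.single_eq_same]
              refine mul_inv_cancel₀ fun e => hrp' ((Nat.prime_dvd_prime_iff_eq hpr Nat.prime_two).1
                ((CharP.cast_eq_zero_iff F p 2).1 ?_)).symm
              push_cast
              linear_combination -e
            · simp [hi]
        rw [this, finrank_span_singleton (by simp)]
      have hy' : g⁻¹ * (w : GL (Fin (m + m)) F) * g ∈ Cfsg.Geo.decompositionStabilizer D := by
        obtain ⟨σ, hσ⟩ := hy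
        refine ⟨σ, fun i => ?_⟩
        rw [← hσ i]
        rw [Units.val_mul, Units.val_mul, Units.val_mul, Units.val_mul]
        show _ = Submodule.map (Matrix.toLin' (_ * gmat u * _)) _
        rw [huw, Matrix.mul_smul, Matrix.smul_mul, map_smul, Submodule.map_smul _ _ _ s.ne_zero]
      have := (hrank w (by rw [hrk1]; exact odd_one) g hg hy').1
      omega
    · exfalso
      have hodd : Odd r := hrp.odd_of_ne_two hr2
      -- the index
      have hex : ∃ j, Odd j ∧ j ≤ m + m ∧ r ∣ q ^ j + 1 := by
        let S : Subgroup (Cfsg.GU (m + m) F q) :=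
          { carrier := {g | (D 0).map (Matrix.toLin' (gmat g)) = D 0 ∧ (D 1).map (Matrix.toLin' (gmat g)) = D 1}
            mul_mem' := fun {a b} ha hb => by
              constructor <;> simp only [gmat_mul, Matrix.toLin'_mul, Submodule.map_comp]
              · rw [hb.1, ha.1]
              · rw [hb.2, ha.2]
            one_mem' := by constructor <;> simp [gmat_one]
            inv_mem' := fun {a} ha => by
              constructor
              · conv_lhs => rw [← ha.1, ← Submodule.map_comp, ← Matrix.toLin'_mul, ← gmat_mul, inv_mul_cancel, gmat_one,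
                  Matrix.toLin'_one, Submodule.map_id]
              · conv_lhs => rw [← ha.2, ← Submodule.map_comp, ← Matrix.toLin'_mul, ← gmat_mul, inv_mul_cancel, gmat_one,
                  Matrix.toLin'_one, Submodule.map_id] }
        have hGL := card_dvd_stab hF rfl hP S fun g => Iff.rfl
        set H₀ := Cfsg.Geo.decompositionStabilizer D ⊓ G with hH₀
        have hidx : (Cfsg.Geo.decompositionStabilizer D).relIndex G * Nat.card H₀ = Nat.card G := by
          rw [← Subgroup.inf_relIndex_right, mul_comm]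
          rw [← Subgroup.relIndex_bot_left, ← Subgroup.relIndex_bot_left]
          exact Subgroup.relIndex_mul_relIndex ⊥ H₀ G bot_le inf_le_right
        let ψ : S →* Fˣ := (detHom (m + m) F q).comp S.subtype
        have hkerle : Nat.card ψ.ker ∣ Nat.card H₀ := by
          let ι : ψ.ker →* H₀ :=
            { toFun := fun x => ⟨((x : S) : Cfsg.GU (m + m) F q), ⟨⟨Equiv.refl _, fun i => by
                fin_cases i
                · exact (x : S).2.1
                · exact (x : S).2.2⟩, ((x : S) : Cfsg.GU (m + m) F q).2, MonoidHom.mem_ker.2 (Units.ext (by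
                  exact congrArg Units.val (MonoidHom.mem_ker.1 x.2)))⟩⟩
              map_one' := rfl
              map_mul' := fun _ _ => rfl }
          exact Subgroup.card_dvd_of_injective ι fun x y h => Subtype.ext (Subtype.ext (Subtype.ext
            (congrArg Subtype.val h :)))
        have hrange : Nat.card ψ.range ∣ q + 1 := by
          rw [← natCard_normOne hF]
          refine Subgroup.card_dvd_of_le ?_
          rintro _ ⟨x, rfl⟩
          refine MonoidHom.mem_ker.2 (Units.ext ?_)
          simpa [ψ, detHom_apply] using HermStd.det_norm hF _ (x : Cfsg.GU (m + m) F q).2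
        have hS : Nat.card S ∣ Nat.card H₀ * (q + 1) := by
          rw [← Subgroup.card_mul_index ψ.ker, Subgroup.index_ker]
          exact mul_dvd_mul hkerle hrange
        have hmain : (Cfsg.Geo.decompositionStabilizer D).relIndex G * Nat.card (GL (Fin m) F) ∣
            Nat.card (Cfsg.GU (m + m) F q) * (q + 1) := by
          refine (mul_dvd_mul_left _ (hGL.trans hS)).trans ?_
          rw [← mul_assoc, hidx]
          exact mul_dvd_mul_right (Subgroup.card_dvd_of_le inf_le_left) _
        have hpairs : ∀ k, ∏ i ∈ Finset.range (k + k), (if Even i then q ^ (i + 1) + 1 else q ^ (i + 1) - 1) =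
            (∏ t ∈ Finset.range k, (q ^ (2 * t + 1) + 1)) * ∏ t ∈ Finset.range k, ((q ^ 2) ^ (t + 1) - 1) := by
          intro k
          induction k with
          | zero => simp
          | succ k ih =>
            rw [show k + 1 + (k + 1) = k + k + 1 + 1 by ring, Finset.prod_range_succ, Finset.prod_range_succ, ih,
              Finset.prod_range_succ, Finset.prod_range_succ, if_pos ⟨k, rfl⟩, if_neg (by simp [parity_simps]),
              ← pow_mul, show 2 * (k + 1) = k + k + 1 + 1 by ring, show 2 * k + 1 = k + k + 1 by ring]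
            ring
        have hGLc : Nat.card (GL (Fin m) F) =
            (∏ i ∈ Finset.range m, (q ^ 2) ^ i) * ∏ t ∈ Finset.range m, ((q ^ 2) ^ (t + 1) - 1) := by
          rw [Matrix.card_GL_field, ← Finset.prod_range_reflect (fun t => ((q ^ 2) ^ (t + 1) - 1)),
            ← Finset.prod_mul_distrib, hF, ← Fin.prod_univ_eq_prod_range (fun i => (q ^ 2) ^ i * ((q ^ 2) ^ (m - 1 - i + 1) - 1))]
          refine Finset.prod_congr rfl fun i _ => ?_
          rw [Nat.mul_sub, mul_one, ← pow_add, show (i : ℕ) + (m - 1 - i + 1) = m by omega]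
        set B := ∏ t ∈ Finset.range m, ((q ^ 2) ^ (t + 1) - 1) with hB
        have hB0 : 0 < B := Finset.prod_pos fun t _ => by
          have : 1 < (q ^ 2) ^ (t + 1) := one_lt_pow₀ (one_lt_pow₀ hq1 (by norm_num)) (by omega)
          omega
        rw [natCard_GU hF, hpairs, hGLc, ← mul_assoc] at hmain
        have h := (Nat.mul_dvd_mul_iff_right hB0).1 (hmain.trans (dvd_of_eq (show _ =
          ((q ^ ((m + m) * (m + m - 1) / 2) * ∏ t ∈ Finset.range m, (q ^ (2 * t + 1) + 1)) * (q + 1)) * B by
            rw [← hB]; ring)))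
        have h' := hΩ.trans ((dvd_mul_right _ _).trans h)
        rcases hrp.dvd_mul.1 h' with h' | h'
        · rcases hrp.dvd_mul.1 h' with h' | h'
          · exact absurd (hrp.dvd_of_dvd_pow h') hrq
          · obtain ⟨t, ht, htd⟩ := (Prime.dvd_finsetProd_iff hrp.prime _).1 h'
            rw [Finset.mem_range] at ht
            exact ⟨2 * t + 1, ⟨t, rfl⟩, by omega, htd⟩
        · exact ⟨1, odd_one, by omega, by rwa [pow_one]⟩
      have hex' : ∃ j, 0 < j ∧ (r ∣ if Even j then q ^ j - 1 else q ^ j + 1) := by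
        obtain ⟨j, hj, -, hjd⟩ := hex
        exact ⟨j, hj.pos, by rwa [if_neg (Nat.not_even_iff_odd.2 hj)]⟩
      obtain ⟨j, hj, hjn, hjd⟩ := hex
      set b := Nat.find hex' with hb
      obtain ⟨hb0, hbd⟩ := Nat.find_spec hex'
      rw [← hb] at hb0 hbd
      have hcast : ∀ k, (r ∣ if Even k then q ^ k - 1 else q ^ k + 1) ↔ (-(q : ZMod r)) ^ k = 1 := by
        intro k
        rw [← ZMod.natCast_eq_zero_iff, neg_pow]
        split_ifs with h
        · rw [Nat.cast_sub (Nat.one_le_pow _ _ (by omega)), Nat.cast_pow, Nat.cast_one, sub_eq_zero, h.neg_one_pow,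
            one_mul]
        · rw [Nat.cast_add, Nat.cast_pow, Nat.cast_one, (Nat.not_even_iff_odd.1 h).neg_one_pow, neg_one_mul,
            add_eq_zero_iff_eq_neg, neg_eq_iff_eq_neg]
      have hord : orderOf (-(q : ZMod r)) = b := by
        rw [orderOf_eq_iff hb0]
        exact ⟨(hcast b).1 hbd, fun k hk hk0 h => Nat.find_min hex' hk ⟨hk0, (hcast k).2 h⟩⟩
      have hbj : b ∣ j := hord ▸ orderOf_dvd_of_pow_eq_one
        ((hcast j).1 (by rwa [if_neg (Nat.not_even_iff_odd.2 hj)]))
      have hbodd : Odd b := hj.of_dvd_nat hbj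
      have hbn : b ≤ m + m := (Nat.le_of_dvd hj.pos hbj).trans hjn
      rw [if_neg (Nat.not_even_iff_odd.2 hbodd)] at hbd
      have hrF : (r : F) ≠ 0 := fun h => hrp' ((Nat.prime_dvd_prime_iff_eq hpr hrp).1
        ((CharP.cast_eq_zero_iff F p r).1 h)).symm
      -- an element of odd rank and determinant one
      obtain ⟨u, hur, hu1, hurk, hudet⟩ : ∃ u : Cfsg.GU (m + m) F q, u ^ r = 1 ∧ u ≠ 1 ∧ Odd (rk (gmat u)) ∧
          (gmat u).det = 1 := by
        by_cases hb1 : b = 1
        · rw [hb1, pow_one] at hbd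
          obtain ⟨ζ, hζ⟩ := exists_prime_orderOf_dvd_card' (G := Fˣ) r (by
            rw [natCard_units_F hF]; exact hbd.mul_left _)
          have hζr : ((ζ : F)) ^ r = 1 := by
            rw [← Units.val_pow_eq_pow_val, ← hζ, pow_orderOf_eq_one, Units.val_one]
          have hζq : ((ζ : F)) ^ (q + 1) = 1 := by
            obtain ⟨k, hk⟩ := hbd
            rw [hk, pow_mul, hζr, one_pow]
          have hζ1 : (ζ : F) ≠ 1 := fun e => by
            rw [show ζ = 1 from Units.ext e, orderOf_one] at hζ
            exact hrp.ne_one hζ.symm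
          have hζ2 : ((ζ : F) * ζ) ≠ 1 := fun e => by
            have := Nat.le_of_dvd (by norm_num) (orderOf_dvd_of_pow_eq_one (x := ζ) (n := 2)
              (Units.ext (by rw [Units.val_pow_eq_pow_val, pow_two]; exact e)))
            rw [hζ] at this
            have := hrp.two_le
            omega
          let d : Fin (m + m) → F := fun i =>
            if (i : ℕ) = 0 then ζ else if (i : ℕ) = 1 then ζ else if (i : ℕ) = 2 then ((ζ : F) * ζ)⁻¹ else 1
          set u := diagGU hF d (fun i => by
            simp only [d]; split_ifs <;> simp [hζq, mul_pow, inv_pow]) with hu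
          have hud : gmat u = Matrix.diagonal d := gmat_diagGU hF d _
          refine ⟨u, GU_ext fun x => ?_, fun e => hζ1 ?_, ?_, ?_⟩
          · rw [show gmat (u ^ r) = gmat u ^ r from by simp [gmat], hud, Matrix.diagonal_pow, gmat_one,
              Matrix.one_mulVec]
            funext i
            rw [Matrix.mulVec_diagonal, Pi.pow_apply]
            simp only [d]
            split_ifs <;> simp [hζr, inv_pow, mul_pow]
          · have h := congrArg (fun u => gmat u ⟨0, by omega⟩ ⟨0, by omega⟩) e
            simp only [hud, gmat_one] at h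
            simpa [d] using h
          · have hrange : rk (gmat u) = 3 := by
              show Matrix.rank (gmat u - 1) = 3
              rw [hud, ← Matrix.diagonal_one, Matrix.diagonal_sub, Matrix.rank_diagonal,
                Fintype.card_subtype]
              rw [show (Finset.univ.filter fun i : Fin (m + m) => d i - 1 ≠ 0) =
                {⟨0, by omega⟩, ⟨1, by omega⟩, ⟨2, by omega⟩} by
                  ext i
                  simp only [Finset.mem_filter, Finset.mem_univ, true_and, Finset.mem_insert, Finset.mem_singleton,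
                    Fin.ext_iff, d, sub_ne_zero]
                  split_ifs with h0 h1 h2 <;> simp_all
                  rw [← mul_inv, inv_eq_one]; exact hζ2]
              simp [Fin.ext_iff]
            rw [hrange]
            decide
          · rw [hud, Matrix.det_diagonal]
            obtain ⟨k, hk⟩ : ∃ k, m + m = k + 3 := ⟨m + m - 3, by omega⟩
            rw [← Equiv.prod_comp (finCongr hk.symm), Fin.prod_univ_succ, Fin.prod_univ_succ, Fin.prod_univ_succ]
            simp [d, Nat.mod_eq_of_lt (show 2 < k + 3 by omega)]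
        · obtain ⟨g, hgr, hg1, hgfix⟩ := exists_odd_rank hF hrF hbodd hbd fun k hk0 hk h =>
            Nat.find_min hex' hk ⟨hk0, h⟩
          obtain ⟨h, hrk, hdet, hpow⟩ := exists_embed hF (show m + m = b + (m + m - b) by omega) g hgfix
          refine ⟨h, hpow r hgr, fun e => ?_, hrk ▸ hbodd, ?_⟩
          · rw [e, gmat_one] at hrk
            unfold rk at hrk
            rw [sub_self, map_zero, LinearMap.range_zero, finrank_bot] at hrk
            omega
          · rw [hdet]
            have h1 : ((detHom b F q g : Fˣ)) ^ r = 1 := by rw [← map_pow, hgr, map_one]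
            have h2 : ((detHom b F q g : Fˣ)) ^ (q + 1) = 1 := Units.ext (by
              simpa [detHom_apply] using HermStd.det_norm hF _ g.2)
            have hco : Nat.gcd r (q + 1) = 1 := hrp.coprime_iff_not_dvd.2 fun h =>
              Nat.find_min hex' (show 1 < b by omega) ⟨one_pos, by rw [if_neg (by decide), pow_one]; exact h⟩
            have h3 := pow_gcd_eq_one.2 ⟨h1, h2⟩
            rw [hco, pow_one] at h3
            rw [← detHom_apply, h3, Units.val_one]
      obtain ⟨g, hg, hy⟩ := test u hudet ⟨1, by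
        rw [one_smul]; simpa [gmat] using congrArg (fun v : Cfsg.GU (m + m) F q => gmat v) hur⟩ (fun z hz => by
        have hzr : z ^ r = 1 := by
          have h := congrArg (fun v : Cfsg.GU (m + m) F q => gmat v) hur
          simp only [gmat, SubgroupClass.coe_pow, Units.val_pow_eq_pow_val, OneMemClass.coe_one, Units.val_one] at h
          rw [show ((u : GL (Fin (m + m)) F) : Matrix (Fin (m + m)) (Fin (m + m)) F) = z • 1 from hz, smul_pow, one_pow] at h
          have := congrFun (congrFun h ⟨0, by omega⟩) ⟨0, by omega⟩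
          simpa using this
        by_cases hz1 : z = 1
        · exact hu1 (GU_ext fun x => by rw [hz, hz1, one_smul, gmat_one])
        · have hr : rk (gmat u) = m + m := by
            show finrank F _ = _
            rw [hz, show z • (1 : Matrix (Fin (m + m)) (Fin (m + m)) F) - 1 = (z - 1) • 1 by rw [sub_smul, one_smul],
              map_smul, LinearMap.range_smul _ _ (sub_ne_zero.2 hz1), Matrix.toLin'_one, LinearMap.range_id, finrank_top,
              finrank_fintype_fun_eq_card, Fintype.card_fin]
          rw [hr] at hurk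
          exact Nat.not_odd_iff_even.2 ⟨m, rfl⟩ hurk)
      exact (hrank u hurk g hg hy).2 ⟨hodd, hur⟩
  · rintro ⟨rfl, hqodd, hval⟩ x hx ⟨z, hz⟩ hns
    have h2 : (2 : F) ≠ 0 := fun h => by
      have := (Nat.prime_dvd_prime_iff_eq hpr Nat.prime_two).1 ((CharP.cast_eq_zero_iff F p 2).1 (by exact_mod_cast h))
      exact (Nat.not_even_iff_odd.2 hqodd) (even_iff_two_dvd.2 (this ▸ hdvd_q))
    set X := (x : Matrix (Fin (m + m)) (Fin (m + m)) F) with hX
    rw [Units.val_pow_eq_pow_val, pow_two, ← hX] at hz
    have hdX : X.det = 1 := hdet1 hx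
    have hXH := HermStd.mem_GU_iff.1 hx.1
    have hznorm : z ^ (q + 1) = 1 := by
      have h1 := hXH (X *ᵥ Pi.single (⟨0, by omega⟩ : Fin (m + m)) 1) (X *ᵥ Pi.single ⟨0, by omega⟩ 1)
      conv_rhs at h1 => rw [hXH]
      rw [Matrix.mulVec_mulVec, hz, Matrix.smul_mulVec, Matrix.one_mulVec,
        UnitaryCount.hermForm_smul_smul, H_single_single hF, if_pos rfl, mul_one] at h1
      exact h1
    have hz0 : z ≠ 0 := fun e => by rw [e, zero_pow (by omega)] at hznorm; exact zero_ne_one hznorm
    obtain ⟨U, U', hUU, hxU, hxU'⟩ : ∃ U U', Pair q m U U' ∧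
        U.map (Matrix.toLin' X) = U ∧ U'.map (Matrix.toLin' X) = U' := by
      have heq : ∀ {W : Submodule F (Fin (m + m) → F)}, W.map (Matrix.toLin' X) ≤ W → W.map (Matrix.toLin' X) = W := by
        intro W hW
        refine Submodule.eq_of_le_of_finrank_eq hW (LinearEquiv.finrank_eq (Submodule.equivMapOfInjective _ ?_ W).symm)
        intro a c hac
        rw [Matrix.toLin'_apply, Matrix.toLin'_apply] at hac
        exact Matrix.mulVec_injective_iff_isUnit.2 x.isUnit hac
      by_cases hsq : ∃ s : F, s ^ (q + 1) = 1 ∧ s * s = z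
      · obtain ⟨s, hs, hss⟩ := hsq
        have hs0 : s ≠ 0 := fun e => by rw [e, mul_zero] at hss; exact hz0 hss.symm
        have hsn : s ^ (m + m) = 1 := by
          have h := congrArg Matrix.det hz
          rw [Matrix.det_mul, hdX, Matrix.det_smul, Matrix.det_one, Fintype.card_fin, mul_one, mul_one] at h
          rw [← hss, mul_pow, ← pow_two, eq_comm, sq_eq_one_iff] at h
          refine h.resolve_right fun hneg => h2 ?_
          obtain ⟨o, ho⟩ : 2 ^ padicValNat 2 (q + 1) ∣ q + 1 := pow_padicValNat_dvd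
          have hoo : Odd o := by
            refine Nat.not_even_iff_odd.1 fun he =>
              pow_succ_padicValNat_not_dvd (p := 2) (n := q + 1) (by omega) ?_
            obtain ⟨o', rfl⟩ := he
            refine ⟨o', ?_⟩
            rw [pow_succ]
            linear_combination ho
          obtain ⟨o₂, ho₂⟩ : 2 ^ padicValNat 2 (q + 1) ∣ m + m :=
            (pow_dvd_pow 2 hval).trans pow_padicValNat_dvd
          have e : (m + m) * o = (q + 1) * o₂ := by
            rw [ho₂]; nth_rw 2 [ho]; ring
          have := congrArg (· ^ o) hneg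
          simp only [← pow_mul, e, pow_mul s (q + 1), hs, one_pow, hoo.neg_one_pow] at this
          linear_combination this
        set u := s⁻¹ • X with hu
        have huu : u * u = 1 := by
          rw [hu, Matrix.smul_mul, Matrix.mul_smul, hz, smul_smul, smul_smul, ← hss]
          rw [show s⁻¹ * s⁻¹ * (s * s) = 1 by field_simp, one_smul]
        obtain ⟨U, U', hUU, h1, h2'⟩ := involution_pair hF h2 rfl huu (fun a c => by
          rw [hu, Matrix.smul_mulVec, Matrix.smul_mulVec, H_smul_left, H_smul_right, hXH, ← mul_assoc, ← pow_succ',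
            inv_pow, hs, inv_one, one_mul]) (by
          rw [hu, Matrix.det_smul, hdX, mul_one, Fintype.card_fin, inv_pow, hsn, inv_one])
        have hle : ∀ {W : Submodule F (Fin (m + m) → F)}, W.map (Matrix.toLin' u) ≤ W → W.map (Matrix.toLin' X) ≤ W := by
          intro W hW
          rw [show X = s • u by rw [hu, smul_inv_smul₀ hs0], map_smul, Submodule.map_smul _ _ _ hs0]
          exact hW
        exact ⟨U, U', hUU, heq (hle h1), heq (hle h2')⟩
      · obtain ⟨t, ht⟩ : IsSquare z := by
          refine (FiniteField.isSquare_iff (fun e => h2 ?_) hz0).2 ?_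
          · haveI := ringChar.charP F
            rw [← Nat.cast_two, CharP.cast_eq_zero_iff F (ringChar F), e]
          · rw [hF]
            obtain ⟨k, hk⟩ := hqodd
            rw [show q ^ 2 / 2 = (q + 1) * k by
              rw [hk, show (2 * k + 1) ^ 2 = 2 * ((2 * k + 1 + 1) * k) + 1 by ring]
              omega, pow_mul, hznorm, one_pow]
        have ht0 : t ≠ 0 := fun e => by rw [e, mul_zero] at ht; exact hz0 ht
        have htn : t ^ (q + 1) = -1 := by
          have h : t ^ (q + 1) * t ^ (q + 1) = 1 := by rw [← mul_pow, ← ht, hznorm]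
          exact (mul_self_eq_one_iff.1 h).resolve_left fun h1 => hsq ⟨t, h1, ht.symm⟩
        set u := t⁻¹ • X with hu
        have huu : u * u = 1 := by
          rw [hu, Matrix.smul_mul, Matrix.mul_smul, hz, smul_smul, smul_smul, ht]
          rw [show t⁻¹ * t⁻¹ * (t * t) = 1 by field_simp, one_smul]
        have huH : ∀ a c, Cfsg.hermForm (m + m) F q (u *ᵥ a) (u *ᵥ c) = -Cfsg.hermForm (m + m) F q a c := fun a c => by
          rw [hu, Matrix.smul_mulVec, Matrix.smul_mulVec, H_smul_left, H_smul_right, hXH, ← mul_assoc, ← pow_succ',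
            inv_pow, htn, inv_neg_one, neg_one_mul]
        set f := Matrix.toLin' u with hf
        set P := LinearMap.ker (f - LinearMap.id)
        set M := LinearMap.ker (f + LinearMap.id)
        have hPm : ∀ v, v ∈ P ↔ u *ᵥ v = v := fun v => by
          simp [P, hf, sub_eq_zero]
        have hMm : ∀ v, v ∈ M ↔ u *ᵥ v = -v := fun v => by
          simp [M, hf, add_eq_zero_iff_eq_neg]
        have huv : ∀ v, u *ᵥ (u *ᵥ v) = v := fun v => by rw [Matrix.mulVec_mulVec, huu, Matrix.one_mulVec]
        have hisoP : Iso q P := fun a ha c hc => by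
          have h := huH a c
          rw [(hPm a).1 ha, (hPm c).1 hc] at h
          exact (mul_eq_zero.1 (show (2 : F) * Cfsg.hermForm (m + m) F q a c = 0 by linear_combination h)).resolve_left h2
        have hisoM : Iso q M := fun a ha c hc => by
          have h := huH a c
          rw [(hMm a).1 ha, (hMm c).1 hc, H_neg_left, H_neg_right hF, neg_neg] at h
          exact (mul_eq_zero.1 (show (2 : F) * Cfsg.hermForm (m + m) F q a c = 0 by linear_combination h)).resolve_left h2
        have hc : IsCompl P M := by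
          refine ⟨Submodule.disjoint_def.2 fun v hv hv' => ?_, codisjoint_iff.2 (eq_top_iff.2 fun v _ => Submodule.mem_sup.2
            ⟨(2 : F)⁻¹ • (v + u *ᵥ v), (hPm _).2 ?_, (2 : F)⁻¹ • (v - u *ᵥ v), (hMm _).2 ?_, ?_⟩)⟩
          · have h := ((hPm v).1 hv).symm.trans ((hMm v).1 hv')
            have h' : (2 : F) • v = 0 := by rw [two_smul]; nth_rw 1 [h]; exact neg_add_cancel v
            exact (smul_eq_zero.1 h').resolve_left h2
          · rw [Matrix.mulVec_smul, Matrix.mulVec_add, huv]
            congr 1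
            abel
          · rw [Matrix.mulVec_smul, Matrix.mulVec_sub, huv, ← smul_neg, neg_sub]
          · rw [← smul_add, show v + u *ᵥ v + (v - u *ᵥ v) = (2 : F) • v by rw [two_smul]; abel, inv_smul_smul₀ h2]
        have hdimle : ∀ {W : Submodule F (Fin (m + m) → F)}, Iso q W → finrank F W ≤ m := fun {W} hW => by
          have h1 := Submodule.finrank_mono (show W ≤ Forms.Max.Unitary.perp q W from fun a ha =>
            Forms.Max.Unitary.mem_perp.2 fun c hc => hW a ha c hc)
          have h2 := Forms.Max.Unitary.finrank_perp hF W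
          omega
        have hsum := Submodule.finrank_add_eq_of_isCompl hc
        rw [finrank_fintype_fun_eq_card, Fintype.card_fin] at hsum
        have hPd := hdimle hisoP
        have hMd := hdimle hisoM
        refine ⟨P, M, ⟨hisoP, hisoM, hc, by omega, by omega⟩, heq ?_, heq ?_⟩
        all_goals
          rintro _ ⟨v, hv, rfl⟩
          rw [Matrix.toLin'_apply, show X = t • u by rw [hu, smul_inv_smul₀ ht0], Matrix.smul_mulVec]
        · rw [(hPm v).1 hv]; exact P.smul_mem _ hv
        · rw [(hMm v).1 hv]; exact M.smul_mem _ (M.neg_mem hv)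
    obtain ⟨g, hg, hgU, hgU'⟩ := transitive hF rfl (by omega) hP hUU
    refine ⟨g, hg, Equiv.refl _, fun i => ?_⟩
    have key : ∀ {A W : Submodule F (Fin (m + m) → F)}, A.map (Matrix.toLin' (g : Matrix (Fin (m + m)) (Fin (m + m)) F)) = W →
        W.map (Matrix.toLin' X) = W →
        A.map (Matrix.toLin' ((g⁻¹ * x * g : GL (Fin (m + m)) F) : Matrix (Fin (m + m)) (Fin (m + m)) F)) = A := by
      intro A W hAW hW
      rw [Units.val_mul, Units.val_mul, Matrix.toLin'_mul, Matrix.toLin'_mul, Submodule.map_comp, hAW,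
        Submodule.map_comp, ← hX, hW, ← hAW, ← Submodule.map_comp, ← Matrix.toLin'_mul, ← Units.val_mul, inv_mul_cancel,
        Units.val_one, Matrix.toLin'_one, Submodule.map_id]
    fin_cases i
    · exact key hgU hxU
    · exact key hgU' hxU'

end Cfsg.Agent.S5984
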