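import Cfsg.Statements.S5986
import Cfsg.Agent.S5985
import Cfsg.Agent.S0288

set_option autoImplicit false
open scoped MatrixGroups
open Cfsg

namespace Cfsg.Agent.S5986

open Cfsg.Agent.Forms Cfsg.Agent.Classical Cfsg.Agent.Forms.Elusive Module Matrix

variable {F : Type*} [Field F] [Fintype F]

theorem exists_free [CharP F 2] {r : ℕ} [hr : Fact r.Prime] (hr2 : r ≠ 2) (d : ℕ) (a b : F)
    (hab : ∀ x y : F, x ^ 2 + a * x * y + b * y ^ 2 = 0 → x = 0 ∧ y = 0)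
    (hd : ((Fintype.card F : ℕ) : ZMod r) ^ d = -1) :
    ∃ f : ((Fin (d - 1) ⊕ Fin (d - 1)) ⊕ Fin 2 → F) →ₗ[F] ((Fin (d - 1) ⊕ Fin (d - 1)) ⊕ Fin 2 → F),
      (∀ v, (f ^ r) v = v) ∧
      (∀ v, Cfsg.quadFormMinus (d - 1) F a b (f v) = Cfsg.quadFormMinus (d - 1) F a b v) ∧ ∀ v, f v = v → v = 0 := by
  set q := Fintype.card F with hq
  have hr3 : 3 ≤ r := by have := hr.out.two_le; omega
  have hr0 : (r : F) ≠ 0 := natCast_prime_ne_zero 2 hr2
  have hd0 : 0 < d := Nat.pos_of_ne_zero fun e => by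
    rw [e, pow_zero] at hd
    haveI : Fact (2 < r) := ⟨by omega⟩
    exact ZMod.neg_one_ne_one hd.symm
  set i := orderOf ((q : ℕ) : ZMod r) with hi
  have hi2d : i ∣ d * 2 := orderOf_dvd_of_pow_eq_one (by rw [pow_mul, hd, neg_one_sq])
  have hndvd : ¬ i ∣ d := fun hh => by
    rw [hi, orderOf_dvd_iff_pow_eq_one, hd] at hh
    haveI : Fact (2 < r) := ⟨by omega⟩
    exact ZMod.neg_one_ne_one hh
  obtain ⟨h, hh⟩ : 2 ∣ i := by
    by_contra hne
    exact hndvd ((Nat.prime_two.coprime_iff_not_dvd.2 hne).symm.dvd_of_dvd_mul_right hi2d)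
  obtain ⟨k, hk⟩ : h ∣ d := by
    rw [hh, mul_comm d 2] at hi2d
    exact Nat.dvd_of_mul_dvd_mul_left two_pos hi2d
  have hkodd : Odd k := by
    rw [← Nat.not_even_iff_odd]
    rintro ⟨u, hu⟩
    exact hndvd ⟨u, by rw [hh, hk, hu]; ring⟩
  have hh0 : 0 < h := Nat.pos_of_ne_zero fun e => by rw [e, zero_mul] at hk; omega
  have hhd : h ≤ d := by
    rw [hk]; exact Nat.le_mul_of_pos_right h (by obtain ⟨u, hu⟩ := hkodd; omega)
  -- the hyperbolic part
  obtain ⟨f₁, hf₁, hQ₁, hfix₁⟩ := S5985.exists_hyp (F := F) 2 hr2 (d := d - h) (by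
    obtain ⟨u, hu⟩ := hkodd
    refine ⟨u, ?_⟩
    rw [← hq, ← hi, hh, hk, hu, Nat.mul_add, mul_one, Nat.add_sub_cancel]
    ring)
  -- the anisotropic part
  have hqh : ((q : ℕ) : ZMod r) ^ h = -1 := by
    have h2 : (((q : ℕ) : ZMod r) ^ h) ^ 2 = 1 := by rw [← pow_mul, mul_comm, ← hh, hi, pow_orderOf_eq_one]
    rcases sq_eq_one_iff.1 h2 with h3 | h3
    · exfalso
      have h4 := Nat.le_of_dvd hh0 (orderOf_dvd_of_pow_eq_one h3)
      omega
    · exact h3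
  have hrh : r ∣ Nat.card (Cfsg.isometryGroup F (Cfsg.quadFormMinus (h - 1) F a b)) := by
    rw [S0288.result (F := F) rfl h hh0 a b hab]
    refine (Dvd.dvd.mul_left ?_ _).mul_right _
    rw [← ZMod.natCast_eq_zero_iff, Nat.cast_add, Nat.cast_pow, ← hq, hqh, Nat.cast_one, neg_add_cancel]
  obtain ⟨y, hy⟩ := exists_prime_orderOf_dvd_card' r hrh
  set f₂ := Matrix.toLin' ((y : GL ((Fin (h - 1) ⊕ Fin (h - 1)) ⊕ Fin 2) F) :
    Matrix ((Fin (h - 1) ⊕ Fin (h - 1)) ⊕ Fin 2) ((Fin (h - 1) ⊕ Fin (h - 1)) ⊕ Fin 2) F) with hf₂d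
  have hf₂ : ∀ v, (f₂ ^ r) v = v := fun v => by
    rw [hf₂d, ← Matrix.toLin'_pow, ← Units.val_pow_eq_pow_val, ← SubmonoidClass.coe_pow,
      show y ^ r = 1 by rw [← hy, pow_orderOf_eq_one], OneMemClass.coe_one, Units.val_one, Matrix.toLin'_one,
      LinearMap.id_apply]
  have hQ₂ : ∀ v, Cfsg.quadFormMinus (h - 1) F a b (f₂ v) = Cfsg.quadFormMinus (h - 1) F a b v := fun v => by
    rw [hf₂d, Matrix.toLin'_apply]; exact y.2 v v
  have hfix₂ : ∀ v, f₂ v = v → v = 0 := by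
    obtain ⟨D, -, -, hd', hD, hsum⟩ := exists_free_part hr0 hf₂ (W := ⊤) le_top
    rw [inf_top_eq, finrank_top, Module.finrank_fintype_fun_eq_card, Fintype.card_sum, Fintype.card_sum,
      Fintype.card_fin, Fintype.card_fin] at hsum
    obtain ⟨j, hj⟩ := hD.dvd D hD.inv le_rfl
    rw [← hq, ← hi, hh] at hj
    have hne : finrank F D ≠ 0 := fun e => by
      have htop : fixSp f₂ = ⊤ := Submodule.eq_top_of_finrank_eq (by
        rw [Module.finrank_fintype_fun_eq_card, Fintype.card_sum, Fintype.card_sum, Fintype.card_fin, Fintype.card_fin]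
        omega)
      have hy1 : y = 1 := Subtype.ext (Units.ext (Matrix.toLin'.injective (LinearMap.ext fun v => by
        rw [OneMemClass.coe_one, Units.val_one, Matrix.toLin'_one, ← hf₂d,
          mem_fixSp.1 (htop ▸ Submodule.mem_top : v ∈ fixSp f₂), LinearMap.id_apply])))
      rw [hy1, orderOf_one] at hy
      exact hr.out.one_lt.ne hy
    have hj1 : 1 ≤ j := Nat.pos_of_ne_zero fun e => hne (by rw [hj, e, mul_zero])
    have h5 : 2 * h ≤ finrank F D := by rw [hj]; exact Nat.le_mul_of_pos_right _ hj1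
    intro v hv
    have hbot : fixSp f₂ = ⊥ := Submodule.finrank_eq_zero.1 (by omega)
    have : v ∈ fixSp f₂ := mem_fixSp.2 hv
    rwa [hbot, Submodule.mem_bot] at this
  -- put them together
  let φ : Fin (d - 1) ≃ Fin (d - h) ⊕ Fin (h - 1) := (finCongr (show d - 1 = (d - h) + (h - 1) by omega)).trans finSumFinEquiv.symm
  let E : ((Fin (d - 1) ⊕ Fin (d - 1)) ⊕ Fin 2 → F) ≃ₗ[F]
      (Fin (d - h) ⊕ Fin (d - h) → F) × ((Fin (h - 1) ⊕ Fin (h - 1)) ⊕ Fin 2 → F) :=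
    { toFun := fun v => (Sum.elim (fun l => v (Sum.inl (Sum.inl (φ.symm (Sum.inl l))))) (fun l => v (Sum.inl (Sum.inr (φ.symm (Sum.inl l))))),
        Sum.elim (Sum.elim (fun l => v (Sum.inl (Sum.inl (φ.symm (Sum.inr l))))) (fun l => v (Sum.inl (Sum.inr (φ.symm (Sum.inr l))))))
          fun l => v (Sum.inr l))
      map_add' := fun u v => by
        refine Prod.ext (funext fun x => ?_) (funext fun x => ?_)
        · rcases x with x | x <;> rfl
        · rcases x with (x | x) | x <;> rfl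
      map_smul' := fun z v => by
        refine Prod.ext (funext fun x => ?_) (funext fun x => ?_)
        · rcases x with x | x <;> rfl
        · rcases x with (x | x) | x <;> rfl
      invFun := fun w => Sum.elim (Sum.elim
          (Sum.elim (fun l => w.1 (Sum.inl l)) (fun l => w.2 (Sum.inl (Sum.inl l))) ∘ φ)
          (Sum.elim (fun l => w.1 (Sum.inr l)) (fun l => w.2 (Sum.inl (Sum.inr l))) ∘ φ)) fun l => w.2 (Sum.inr l)
      left_inv := fun v => by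
        funext x
        rcases x with (x | x) | x
        · obtain ⟨y, rfl⟩ := φ.symm.surjective x; rcases y with y | y <;> simp
        · obtain ⟨y, rfl⟩ := φ.symm.surjective x; rcases y with y | y <;> simp
        · simp
      right_inv := fun w => by
        refine Prod.ext (funext fun x => ?_) (funext fun x => ?_)
        · rcases x with x | x <;> simp
        · rcases x with (x | x) | x <;> simp }
  have hEQ : ∀ v, Cfsg.quadFormMinus (d - 1) F a b v =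
      Cfsg.quadFormPlus (d - h) F (E v).1 + Cfsg.quadFormMinus (h - 1) F a b (E v).2 := fun v => by
    simp only [Cfsg.quadFormMinus, Cfsg.quadFormPlus]
    rw [← φ.symm.sum_comp, Fintype.sum_sum_type]
    simp [E]
    ring
  let f := E.symm.toLinearMap ∘ₗ (f₁.prodMap f₂) ∘ₗ E.toLinearMap
  have hEf : ∀ v, E (f v) = (f₁ (E v).1, f₂ (E v).2) := fun v => by
    show E (E.symm ((f₁.prodMap f₂) (E v))) = _
    rw [E.apply_symm_apply]; rfl
  have hpow : ∀ (n : ℕ) v, E ((f ^ n) v) = ((f₁ ^ n) (E v).1, (f₂ ^ n) (E v).2) := by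
    intro n
    induction n with
    | zero => intro v; rfl
    | succ n ih =>
      intro v
      rw [pow_succ', Module.End.mul_apply, hEf, ih, pow_succ', pow_succ', Module.End.mul_apply, Module.End.mul_apply]
  refine ⟨f, fun v => E.injective (by rw [hpow, hf₁, hf₂]), fun v => by rw [hEQ, hEQ, hEf, hQ₁, hQ₂], fun v hv => ?_⟩
  have h6 := congrArg E hv
  rw [hEf, Prod.ext_iff] at h6
  exact E.injective (by rw [map_zero]; exact Prod.ext (hfix₁ _ h6.1) (hfix₂ _ h6.2))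

theorem main [CharP F 2] (d : ℕ) (hd : 4 ≤ d) (a b : F) (hab : ∀ x y : F, x ^ 2 + a * x * y + b * y ^ 2 = 0 → x = 0 ∧ y = 0)
    (r : ℕ) [Fact r.Prime]
    (hrΩ : r ∣ Nat.card {W : Submodule F ((Fin (d - 1) ⊕ Fin (d - 1)) ⊕ Fin 2 → F) // Module.finrank F ↥W = 1 ∧ ∃ v ∈ W, Cfsg.quadFormMinus (d - 1) F a b v ≠ 0}) :
    (∀ x : GL ((Fin (d - 1) ⊕ Fin (d - 1)) ⊕ Fin 2) F, x ∈ Cfsg.Geo.omegaGL (Cfsg.quadFormMinus (d - 1) F a b) →
      (∃ z : F, ((x ^ r : GL ((Fin (d - 1) ⊕ Fin (d - 1)) ⊕ Fin 2) F) : Matrix ((Fin (d - 1) ⊕ Fin (d - 1)) ⊕ Fin 2) ((Fin (d - 1) ⊕ Fin (d - 1)) ⊕ Fin 2) F) = z • (1 : Matrix ((Fin (d - 1) ⊕ Fin (d - 1)) ⊕ Fin 2) ((Fin (d - 1) ⊕ Fin (d - 1)) ⊕ Fin 2) F)) →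
      (∀ z : F, (x : Matrix ((Fin (d - 1) ⊕ Fin (d - 1)) ⊕ Fin 2) ((Fin (d - 1) ⊕ Fin (d - 1)) ⊕ Fin 2) F) ≠ z • (1 : Matrix ((Fin (d - 1) ⊕ Fin (d - 1)) ⊕ Fin 2) ((Fin (d - 1) ⊕ Fin (d - 1)) ⊕ Fin 2) F)) →
      ∃ W : Submodule F ((Fin (d - 1) ⊕ Fin (d - 1)) ⊕ Fin 2 → F), (Module.finrank F ↥W = 1 ∧ ∃ v ∈ W, Cfsg.quadFormMinus (d - 1) F a b v ≠ 0) ∧ W.map (Matrix.toLin' (x : Matrix ((Fin (d - 1) ⊕ Fin (d - 1)) ⊕ Fin 2) ((Fin (d - 1) ⊕ Fin (d - 1)) ⊕ Fin 2) F)) ≤ W) ↔ r = 2 := by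
  classical
  have hn : 5 ≤ Fintype.card ((Fin (d - 1) ⊕ Fin (d - 1)) ⊕ Fin 2) := by simp; omega
  have he : Even (Fintype.card ((Fin (d - 1) ⊕ Fin (d - 1)) ⊕ Fin 2)) := by
    simp only [Fintype.card_sum, Fintype.card_fin]; exact ⟨d, by omega⟩
  have hQ := OrthForms.minQ_nondeg (F := F) (d - 1) hab
  have hQe : ⇑(OrthForms.minQ F (d - 1) a b) = Cfsg.quadFormMinus (d - 1) F a b := OrthForms.minQ_eq _ a b
  rw [← hQe] at hrΩ ⊢
  set Q := OrthForms.minQ F (d - 1) a b with hQdef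
  constructor
  · intro hall
    by_contra hr2
    set q := Fintype.card F with hq
    have hq2 : 2 ≤ q := Fintype.one_lt_card
    obtain ⟨e, rfl⟩ : ∃ e, d = e + 1 := ⟨d - 1, by omega⟩
    have hc := S5985.card_points Q
    rw [hQdef, OrthForms.zeros_min (F := F) rfl hab, show Fintype.card ((Fin (e + 1 - 1) ⊕ Fin (e + 1 - 1)) ⊕ Fin 2) = 2 * e + 2 by
      simp; omega, show e + 1 - 1 = e from rfl, ← hq] at hc
    have hle : q ^ (e + 1) ≤ q ^ (2 * e + 1) := Nat.pow_le_pow_right (by omega) (by omega)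
    have h5 : q ^ e * (q ^ (e + 1) + 1) * (q - 1) + (q ^ (2 * e + 1) + q ^ e - q ^ (e + 1)) = q ^ (2 * e + 2) := by
      zify [(by omega : 1 ≤ q), le_add_right hle]
      ring
    have h8 := Nat.eq_of_mul_eq_mul_right (by omega) (Nat.add_right_cancel (h5.trans hc.symm))
    have hr' : r ∣ q ^ e * (q ^ (e + 1) + 1) := h8.symm ▸ hrΩ
    have hrq : ¬ r ∣ q := fun h => hr2 ((charP_eq_of_cast_eq_zero (F := F) 2 r).1 ((ZMod.natCast_eq_zero_iff _ _).2 h))
    have hd1 : ((q : ℕ) : ZMod r) ^ (e + 1) = -1 := by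
      rcases (Fact.out : r.Prime).dvd_mul.1 hr' with h | h
      · exact absurd ((Fact.out : r.Prime).dvd_of_dvd_pow h) hrq
      · rw [← ZMod.natCast_eq_zero_iff, Nat.cast_add, Nat.cast_pow, Nat.cast_one] at h
        exact eq_neg_of_add_eq_zero_left h
    obtain ⟨f, hf, hfQ, hfix⟩ := exists_free hr2 (e + 1) a b hab hd1
    have hfQ' : ∀ v, Q (f v) = Q v := fun v => by rw [hQe]; exact hfQ v
    obtain ⟨x, hx, hz, hns, hxl⟩ := S5985.omega_odd hn he Q hQ hr2 hf hfQ' hfix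
    obtain ⟨W, ⟨hW1, hv⟩, hWx⟩ := hall x hx hz hns
    rw [hxl] at hWx
    exact S5985.no_point Q ((Fact.out : r.Prime).odd_of_ne_two hr2) hf hfQ' hfix hW1 hv hWx
  · rintro rfl x hx ⟨z, hz⟩ -
    obtain ⟨hxQ, -⟩ := S5985.of_omegaGL hn Q hQ hx
    set f := Matrix.toLin' (x : Matrix ((Fin (d - 1) ⊕ Fin (d - 1)) ⊕ Fin 2) ((Fin (d - 1) ⊕ Fin (d - 1)) ⊕ Fin 2) F) with hfd
    have hfQ : ∀ v, Q (f v) = Q v := fun v => by
      rw [hfd, Matrix.toLin'_apply]; exact hxQ v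
    have hf2 : ∀ v, f (f v) = z • v := fun v => by
      rw [hfd, Matrix.toLin'_apply, Matrix.toLin'_apply, Matrix.mulVec_mulVec, ← pow_two, ← Units.val_pow_eq_pow_val,
        hz, Matrix.smul_mulVec, Matrix.one_mulVec]
    have hz1 : z = 1 := by
      obtain ⟨v, hv⟩ : ∃ v, Q v ≠ 0 := by
        refine ⟨Sum.elim 0 ![1, 0], ?_⟩
        rw [hQe]
        simp [Cfsg.quadFormMinus]
      have h1 := hfQ (f v)
      rw [hf2, hfQ, QuadraticMap.map_smul, smul_eq_mul] at h1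
      have h2 : z * z = 1 := mul_right_cancel₀ hv (by rw [one_mul]; exact h1)
      have h3 : (z + 1) * (z + 1) = 0 := by linear_combination h2 + CharTwo.add_self_eq_zero (z + 1)
      exact CharTwo.add_eq_zero.1 (mul_self_eq_zero.1 h3)
    rw [hz1] at hf2
    simp only [one_smul] at hf2
    by_contra hno
    have hfix : ∀ v, f v = v → Q v = 0 := fun v hv => by
      by_contra h0
      refine hno ⟨Submodule.span F {v}, ⟨finrank_span_singleton fun e => h0 (by rw [e, QuadraticMap.map_zero]),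
        v, Submodule.mem_span_singleton_self v, h0⟩, ?_⟩
      rw [Submodule.map_span, Set.image_singleton, hv]
    obtain ⟨h1, h2⟩ := S5985.large_rank Q hf2 (d - 1) (fun U hU => QuadClass.finrank_le_of_minus hab U hU) hfix
    simp only [Fintype.card_sum, Fintype.card_fin] at h1
    omega


/-- Elements of prime order of Ω⁻_n(q), q even, with no fixed nonsingular 1-space. Here `T = PΩ⁻_n(F)`, `n = 2d ≥ 8`, realised through `Ω⁻_n(q)`, the commutator subgroup of the isometry group of `Q = Σ_{i<d−1} xᵢyᵢ + z₁² + a z₁z₂ + b z₂²` with `z₁² + a z₁z₂ + b z₂²` anisotropic, over the field `F` with `q` elements; an element of `T` of prime order `r` is an element `x` of `Ω⁻_n(q)` with `x^r` scalar and `x` not scalar; `q` is even (so the centre is trivial). Let Ω be the set of 1-dimensional subspaces spanned by a vector `v` with `Q(v) ≠ 0`, and let `r` be a prime dividing their number. Then every element of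 `T` of order `r` fixes some nonsingular 1-space if and only if `r = 2`. -/
theorem result {F : Type*} [Field F] [Fintype F] {p : ℕ} [Fact p.Prime] [CharP F p] {q : ℕ} (hq : Fintype.card F = q)
    (hp : p = 2) (d : ℕ) (hd : 4 ≤ d) (a b : F) (hab : ∀ x y : F, x ^ 2 + a * x * y + b * y ^ 2 = 0 → x = 0 ∧ y = 0) (r : ℕ) [Fact r.Prime]
    (hrΩ : r ∣ Nat.card {W : Submodule F ((Fin (d - 1) ⊕ Fin (d - 1)) ⊕ Fin 2 → F) // Module.finrank F ↥W = 1 ∧ ∃ v ∈ W, Cfsg.quadFormMinus (d - 1) F a b v ≠ 0}) :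
    (∀ x : GL ((Fin (d - 1) ⊕ Fin (d - 1)) ⊕ Fin 2) F, x ∈ Cfsg.Geo.omegaGL (Cfsg.quadFormMinus (d - 1) F a b) →
      (∃ z : F, ((x ^ r : GL ((Fin (d - 1) ⊕ Fin (d - 1)) ⊕ Fin 2) F) : Matrix ((Fin (d - 1) ⊕ Fin (d - 1)) ⊕ Fin 2) ((Fin (d - 1) ⊕ Fin (d - 1)) ⊕ Fin 2) F) = z • (1 : Matrix ((Fin (d - 1) ⊕ Fin (d - 1)) ⊕ Fin 2) ((Fin (d - 1) ⊕ Fin (d - 1)) ⊕ Fin 2) F)) →
      (∀ z : F, (x : Matrix ((Fin (d - 1) ⊕ Fin (d - 1)) ⊕ Fin 2) ((Fin (d - 1) ⊕ Fin (d - 1)) ⊕ Fin 2) F) ≠ z • (1 : Matrix ((Fin (d - 1) ⊕ Fin (d - 1)) ⊕ Fin 2) ((Fin (d - 1) ⊕ Fin (d - 1)) ⊕ Fin 2) F)) →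
      ∃ W : Submodule F ((Fin (d - 1) ⊕ Fin (d - 1)) ⊕ Fin 2 → F), (Module.finrank F ↥W = 1 ∧ ∃ v ∈ W, Cfsg.quadFormMinus (d - 1) F a b v ≠ 0) ∧ W.map (Matrix.toLin' (x : Matrix ((Fin (d - 1) ⊕ Fin (d - 1)) ⊕ Fin 2) ((Fin (d - 1) ⊕ Fin (d - 1)) ⊕ Fin 2) F)) ≤ W) ↔ r = 2 := by
  subst hp hq
  exact main d hd a b hab r hrΩ

end Cfsg.Agent.S5986
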