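import Cfsg.Statements.S5987
import Cfsg.Agent.Lib.Classical.IsoInvariant.TsTwo

set_option autoImplicit false
open scoped MatrixGroups
open Cfsg
open Cfsg.Agent Cfsg.Agent.Classical Cfsg.Agent.Classical.IsoInvariant
open Cfsg.Agent.Forms.Elusive

namespace Cfsg.Agent.S5987

/-- Elements of prime order of PΩ⁻_n(q) with no fixed totally singular `m`-space. Here `T = PΩ⁻_n(F)`, `n = 2d ≥ 8`, realised through `Ω⁻_n(q)`, the commutator subgroup of the isometry group of `Q = Σ_{i<d−1} xᵢyᵢ + z₁² + a z₁z₂ + b z₂²` with `z₁² + a z₁z₂ + b z₂²` anisotropic, over the field `F` with `q` elements; an element of `T` of prime order `r` is an element `x` of `Ω⁻_n(q)` with `x^r` scalar and `x` not scalar. Let `1 ≤ m ≤ d − 1` and let `r` be a prime dividing the number of totally singular `m`-spaces (subspaces of dimension `m` on which `Q` vanishes); for `r ≠ p` let `i` be the multiplicative order of `q` modulo `r`, `c =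 i` for `i` even and `c = 2i` for `i` odd, and write `k = n mod c`, `ℓ = m mod i`, `n' = ⌊n/i⌋`, `m' = ⌊m/i⌋`, `t = (r−1)/i`. Then every element of `T` of order `r` fixes some totally singular `m`-space if and only if one of: (i) `r = 2 ≠ p` and (`n ≡ 0 (mod 4)`, or `m` is even, or `q ≢ 7 (mod 8)`); (ii) `r ≠ p` odd, `i` odd, `i ≤ m` and (`k = 0` or `k > 2ℓ`); (iii) `r ≠ p` odd, `i` even, `i ≤ m`, `n' − 2m' ≥ t`, and one of: (a) `i ≥ 2ℓ`, `k = 0`, `n/i` even and `n' − 2m' > t` (all four); (b) `k ≥ 2ℓ` and `n'` odd; (c) `k > 2ℓ` and `n'` even. -/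
theorem result {F : Type*} [Field F] [Fintype F] {p : ℕ} [Fact p.Prime] [CharP F p] {q : ℕ} (hq : Fintype.card F = q)
    (d m : ℕ) (hd : 4 ≤ d) (hm : 1 ≤ m) (hmd : m + 1 ≤ d) (a b : F) (hab : ∀ x y : F, x ^ 2 + a * x * y + b * y ^ 2 = 0 → x = 0 ∧ y = 0)
    (r : ℕ) [Fact r.Prime]
    (hrΩ : r ∣ Nat.card {W : Submodule F ((Fin (d - 1) ⊕ Fin (d - 1)) ⊕ Fin 2 → F) // Module.finrank F ↥W = m ∧ Cfsg.Geo.IsTotallySingularQuad (Cfsg.quadFormMinus (d - 1) F a b) W})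
    (i c : ℕ) (hi : i = orderOf (q : ZMod r)) (hc : c = if Even i then i else 2 * i) :
    (∀ x : GL ((Fin (d - 1) ⊕ Fin (d - 1)) ⊕ Fin 2) F, x ∈ Cfsg.Geo.omegaGL (Cfsg.quadFormMinus (d - 1) F a b) →
      (∃ z : F, ((x ^ r : GL ((Fin (d - 1) ⊕ Fin (d - 1)) ⊕ Fin 2) F) : Matrix ((Fin (d - 1) ⊕ Fin (d - 1)) ⊕ Fin 2) ((Fin (d - 1) ⊕ Fin (d - 1)) ⊕ Fin 2) F) = z • (1 : Matrix ((Fin (d - 1) ⊕ Fin (d - 1)) ⊕ Fin 2) ((Fin (d - 1) ⊕ Fin (d - 1)) ⊕ Fin 2) F)) →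
      (∀ z : F, (x : Matrix ((Fin (d - 1) ⊕ Fin (d - 1)) ⊕ Fin 2) ((Fin (d - 1) ⊕ Fin (d - 1)) ⊕ Fin 2) F) ≠ z • (1 : Matrix ((Fin (d - 1) ⊕ Fin (d - 1)) ⊕ Fin 2) ((Fin (d - 1) ⊕ Fin (d - 1)) ⊕ Fin 2) F)) →
      ∃ W : Submodule F ((Fin (d - 1) ⊕ Fin (d - 1)) ⊕ Fin 2 → F), (Module.finrank F ↥W = m ∧ Cfsg.Geo.IsTotallySingularQuad (Cfsg.quadFormMinus (d - 1) F a b) W) ∧ W.map (Matrix.toLin' (x : Matrix ((Fin (d - 1) ⊕ Fin (d - 1)) ⊕ Fin 2) ((Fin (d - 1) ⊕ Fin (d - 1)) ⊕ Fin 2) F)) ≤ W) ↔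
    ((r = 2 ∧ p ≠ 2 ∧ (Even d ∨ Even m ∨ q % 8 ≠ 7)) ∨
     (r ≠ p ∧ 2 < r ∧ Odd i ∧ i ≤ m ∧ ((2 * d) % c = 0 ∨ 2 * (m % i) < (2 * d) % c)) ∨
     (r ≠ p ∧ 2 < r ∧ Even i ∧ i ≤ m ∧ (r - 1) / i + 2 * (m / i) ≤ (2 * d) / i ∧
       ((2 * (m % i) ≤ i ∧ (2 * d) % c = 0 ∧ Even ((2 * d) / i) ∧ (r - 1) / i + 2 * (m / i) < (2 * d) / i) ∨
        (2 * (m % i) ≤ (2 * d) % c ∧ Odd ((2 * d) / i)) ∨
        (2 * (m % i) < (2 * d) % c ∧ Even ((2 * d) / i))))) := by
  classical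
  have hrP : r.Prime := Fact.out
  have hpP : p.Prime := Fact.out
  subst hq
  simp only [← OrthForms.minQ_eq] at hrΩ ⊢
  set Q := OrthForms.minQ F (d - 1) a b with hQdef
  have hQ : (QuadraticMap.polarBilin Q).Nondegenerate := OrthForms.minQ_nondeg (d - 1) hab
  have hcard : Fintype.card ((Fin (d - 1) ⊕ Fin (d - 1)) ⊕ Fin 2) = 2 * d := by simp; omega
  have hτ : OrthTypes.IsPlus Q d ↔ False := iff_false_intro (by
    have := OrthTypes.not_isPlus_minQ (k := d - 1) hab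
    rwa [show d - 1 + 1 = d by omega] at this)
  have hΩ : r ∣ Nat.card {W : Submodule F ((Fin (d - 1) ⊕ Fin (d - 1)) ⊕ Fin 2 → F) //
      Module.finrank F W = m ∧ ∀ w ∈ W, Q w = 0} := hrΩ
  refine Iff.trans (Iff.rfl : _ ↔ TsElt.AllFix Q m r) ?_
  obtain ⟨hrp, hidx⟩ := TsCount.index_of_dvd hQ p (r := r) hcard (by omega) hΩ
  rcases eq_or_ne r 2 with rfl | hr2
  · have hp2 : p ≠ 2 := Ne.symm hrp
    have h2 : (2 : F) ≠ 0 := fun h => hp2 ((Nat.prime_dvd_prime_iff_eq hpP Nat.prime_two).1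
      ((CharP.cast_eq_zero_iff F p 2).1 (by exact_mod_cast h)))
    have hqodd : Fintype.card F % 2 = 1 := by
      refine FiniteField.odd_card_of_char_ne_two ?_
      rw [ringChar.eq F p]; exact hp2
    rw [TsTwo.allFix_two hQ h2 hcard (by omega) (by omega), FourthRoot.exists_root_iff hQ h2 hcard,
      FourthRoot.isSquare_two_pow h2]
    have hplus : NdType.Plus (EvenDim.pB Q) ⊤ ↔ OrthTypes.IsPlus Q d := by
      rw [← EvenDim.type_iff h2]
      exact QuadNd.qplus_top hcard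
    have hpar : ∀ k : ℕ, IsSquare ((-1 : F) ^ k) ↔ (k % 2 = 0 ∨ Fintype.card F % 4 ≠ 3) := fun k => by
      rcases Nat.even_or_odd k with hk | hk
      · simp [hk.neg_one_pow, Nat.even_iff.1 hk]
      · simp [hk.neg_one_pow, FiniteField.isSquare_neg_one_iff, Nat.odd_iff.1 hk]
    simp only [hp2, hplus, hτ, hpar, FiniteField.isSquare_two_iff, Nat.even_iff, Nat.odd_iff, ne_eq, not_false_eq_true,
      lt_irrefl, true_and, false_and, and_false, or_false, false_or, iff_true, iff_false, true_iff, false_iff,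
      imp_iff_not_or, not_true_eq_false, true_or, or_true, and_true]
    omega
  have h2r : 2 < r := lt_of_le_of_ne hrP.two_le (Ne.symm hr2)
  have hi' : i ∣ r - 1 := by
    rw [hi]
    refine orderOf_dvd_of_pow_eq_one (ZMod.pow_card_sub_one_eq_one fun h => hrp ?_)
    obtain ⟨k, -, hk⟩ := FiniteField.card F p
    rw [ZMod.natCast_eq_zero_iff, hk] at h
    exact (Nat.prime_dvd_prime_iff_eq hrP hpP).1 (hrP.dvd_of_dvd_pow h)
  obtain ⟨hset, P, hPcard, hP⟩ := OrthPrimeClasses.setting_of (F := F) (p := p) (t := (r - 1) / i) rfl hrP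
    hr2 hrp hi (Nat.div_mul_cancel hi')
  have hi0 := OrthPrimeClasses.ne_of_pos hset
  have ht : 1 ≤ (r - 1) / i := Nat.div_pos (Nat.le_of_dvd (by omega) hi') hi0
  rw [TsElt.allFix_iff hset hP (by omega) hQ (by omega) hcard (by omega), hPcard]
  have hcount := hidx i hi hr2
  simp only [hrp, hr2, h2r, ne_eq, not_false_eq_true, true_and, false_and, false_or]
  rcases Nat.even_or_odd i with hev | hodd
  · rw [if_pos hev] at hc
    subst c
    rw [TsArith.even_iff hev hi0 ht hm (by omega) hcount]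
    simp only [hτ, hev, Nat.not_odd_iff_even.2 hev, Nat.even_iff, Nat.odd_iff, true_and, false_and, false_or,
      iff_true, iff_false, true_iff, false_iff, not_not, and_true, and_false, or_false]
    omega
  · rw [if_neg (Nat.not_even_iff_odd.2 hodd)] at hc
    subst c
    rw [TsArith.odd_iff hodd hm (by omega) hcount]
    simp only [hτ, hodd, Nat.not_even_iff_odd.2 hodd, true_and, false_and, false_or, or_false, not_true_eq_false,
      not_false_eq_true, and_true, and_false]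


end Cfsg.Agent.S5987
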