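import Cfsg.Statements.S5988
import Cfsg.Agent.Lib.Classical.IsoInvariant.EvenTypeTwo
import Cfsg.Agent.Lib.Classical.IsoInvariant.FreeArith

set_option autoImplicit false
open scoped MatrixGroups
open Cfsg
open Cfsg.Agent Cfsg.Agent.Classical Cfsg.Agent.Classical.IsoInvariant
open Cfsg.Agent.Forms.Elusive

namespace Cfsg.Agent.S5988

/-- Elements of prime order of PΩ⁺_n(q) with no fixed elliptic `m`-space. Here `T = PΩ⁺_n(F)`, `n = 2d ≥ 8`, realised through `Ω⁺_n(q)`, the commutator subgroup of the isometry group of `Q = Σ xᵢyᵢ` over the field `F` with `q` elements; an element of `T` of prime order `r` is an element `x` of `Ω⁺_n(q)` with `x^r` scalar and `x` not scalar; a nondegenerate `m`-space (even `m`) is a subspace on which the polar form of `Q` is nondegenerate; it is hyperbolic if it contains an `m/2`-dimensional subspace on which `Q` vanishes, elliptic otherwise. Let `m` be even with `2 ≤ m < n/2` and let `r` be a prime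 dividing the number of elliptic `m`-spaces; for `r ≠ p` let `i` be the multiplicative order of `q` modulo `r`, `c = i` for `i` even and `c = 2i` for `i` odd, and write `k = n mod c`, `ℓ = m mod i`, `ℓ' = m mod c`, `n' = ⌊n/i⌋`, `m' = ⌊m/i⌋`, `t = (r−1)/i`. Then every element of `T` of order `r` fixes some elliptic `m`-space if and only if one of: (i) `r = 2 ≠ p` and either `n ≡ 0 (mod 4)`, `q ≡ 3 (mod 4)` and `m ≡ 2 (mod 4)`, or `n ≡ 2 (mod 4)` and `q ≢ 1 (mod 8)`; (ii) `r ≠ p` odd, `i` odd, `c ≤ m` and `k > ℓ' > 0`; (iii) `r ≠ p` odd, `i` even, and either `k = 0` and (`n/i` odd, or `ℓ' = 0` and `m/i` odd), or `i ≤ m` and (`k > ℓ' > 0`, or `k = ℓ' > 0` and `(n + m − 2k)/i` odd, or `k > ℓ' = 0` and `m/i` odd). (For `r = p` there is always an element of order `p` fixing no elliptic `m`-space.) -/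
theorem result {F : Type*} [Field F] [Fintype F] {p : ℕ} [Fact p.Prime] [CharP F p] {q : ℕ} (hq : Fintype.card F = q)
    (d m : ℕ) (hd : 4 ≤ d) (hm : 2 ≤ m) (hme : Even m) (hmd : m < d)
    (r : ℕ) [Fact r.Prime]
    (hrΩ : r ∣ Nat.card {W : Submodule F (Fin d ⊕ Fin d → F) // Module.finrank F ↥W = m ∧ Cfsg.Geo.IsNondegenerateOn (QuadraticMap.polar (Cfsg.quadFormPlus d F)) W ∧ ¬ Cfsg.Geo.IsPlusTypeOn (Cfsg.quadFormPlus d F) W})
    (i c : ℕ) (hi : i = orderOf (q : ZMod r)) (hc : c = if Even i then i else 2 * i) :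
    (∀ x : GL (Fin d ⊕ Fin d) F, x ∈ Cfsg.Geo.omegaGL (Cfsg.quadFormPlus d F) →
      (∃ z : F, ((x ^ r : GL (Fin d ⊕ Fin d) F) : Matrix (Fin d ⊕ Fin d) (Fin d ⊕ Fin d) F) = z • (1 : Matrix (Fin d ⊕ Fin d) (Fin d ⊕ Fin d) F)) →
      (∀ z : F, (x : Matrix (Fin d ⊕ Fin d) (Fin d ⊕ Fin d) F) ≠ z • (1 : Matrix (Fin d ⊕ Fin d) (Fin d ⊕ Fin d) F)) →
      ∃ W : Submodule F (Fin d ⊕ Fin d → F), (Module.finrank F ↥W = m ∧ Cfsg.Geo.IsNondegenerateOn (QuadraticMap.polar (Cfsg.quadFormPlus d F)) W ∧ ¬ Cfsg.Geo.IsPlusTypeOn (Cfsg.quadFormPlus d F) W) ∧ W.map (Matrix.toLin' (x : Matrix (Fin d ⊕ Fin d) (Fin d ⊕ Fin d) F)) ≤ W) ↔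
    ((r = 2 ∧ p ≠ 2 ∧ ((Even d ∧ q % 4 = 3 ∧ m % 4 = 2) ∨ (Odd d ∧ q % 8 ≠ 1))) ∨
     (r ≠ p ∧ 2 < r ∧ Odd i ∧ c ≤ m ∧ 0 < m % c ∧ m % c < (2 * d) % c) ∨
     (r ≠ p ∧ 2 < r ∧ Even i ∧
       (((2 * d) % c = 0 ∧ (Odd ((2 * d) / i) ∨ (m % c = 0 ∧ Odd (m / i)))) ∨
        (i ≤ m ∧ ((0 < m % c ∧ m % c < (2 * d) % c) ∨
                  (0 < m % c ∧ m % c = (2 * d) % c ∧ Odd ((2 * d + m - 2 * ((2 * d) % c)) / i)) ∨
                  (m % c = 0 ∧ 0 < (2 * d) % c ∧ Odd (m / i))))))) := by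
  classical
  have hrP : r.Prime := Fact.out
  have hpP : p.Prime := Fact.out
  subst hq
  simp only [← OrthForms.plusQ_eq, EvenDim.nd_iff] at hrΩ ⊢
  set Q := Forms.PlusStd.plusQ F d with hQdef
  have hQ : (QuadraticMap.polarBilin Q).Nondegenerate := Forms.PlusStd.plusQ_nondeg F d
  have hcard : Fintype.card (Fin d ⊕ Fin d) = 2 * d := by simp; omega
  have hτ : OrthTypes.IsPlus Q d := OrthTypes.isPlus_plusQ d
  obtain ⟨a, rfl⟩ := hme.two_dvd
  have hmap : FreeSplit.AllFix Q (2 * a) False r ↔ (∀ x : GL (Fin d ⊕ Fin d) F, x ∈ Cfsg.Geo.omegaGL ⇑Q →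
      (∃ z : F, ((x ^ r : GL (Fin d ⊕ Fin d) F) : Matrix (Fin d ⊕ Fin d) (Fin d ⊕ Fin d) F) = z • (1 : Matrix (Fin d ⊕ Fin d) (Fin d ⊕ Fin d) F)) →
      (∀ z : F, (x : Matrix (Fin d ⊕ Fin d) (Fin d ⊕ Fin d) F) ≠ z • (1 : Matrix (Fin d ⊕ Fin d) (Fin d ⊕ Fin d) F)) →
      ∃ W : Submodule F (Fin d ⊕ Fin d → F), (Module.finrank F ↥W = 2 * a ∧ NdOn (EvenDim.pB Q) W ∧ (¬ QuadNd.QPlus Q W)) ∧
        W.map (Matrix.toLin' (x : Matrix (Fin d ⊕ Fin d) (Fin d ⊕ Fin d) F)) ≤ W) := by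
    simp only [FreeSplit.AllFix, iff_true, iff_false]
  refine hmap.symm.trans ?_
  rcases eq_or_ne r 2 with rfl | hr2
  · simp only [lt_irrefl, false_and, and_false, or_false, true_and]
    rcases eq_or_ne p 2 with rfl | hp2
    · have h2 : (2 : F) = 0 := CharTwo.two_eq_zero
      have := EvenTypeTwo.not_allFix_char 2 hQ hcard (by omega) (a := a) (by omega) (by omega) False (Or.inr hτ) (by
        rcases Nat.even_or_odd a with h | h
        · exact Or.inl ⟨h, not_false⟩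
        · exact Or.inr ⟨h, Or.inr fun h' => h'.2 hτ⟩)
      simp only [this, ne_eq, not_true_eq_false, false_and, and_false]
    · have h2 : (2 : F) ≠ 0 := fun h => hp2 ((Nat.prime_dvd_prime_iff_eq hpP Nat.prime_two).1
        ((CharP.cast_eq_zero_iff F p 2).1 (by exact_mod_cast h)))
      have hqodd : Fintype.card F % 2 = 1 := by
        refine FiniteField.odd_card_of_char_ne_two ?_
        rw [ringChar.eq F p]; exact hp2
      rw [EvenTypeTwo.allFix_two hQ h2 hcard (by omega) (by omega), FourthRoot.exists_root_iff hQ h2 hcard,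
        FourthRoot.isSquare_two_pow h2]
      have hplus : NdType.Plus (EvenDim.pB Q) ⊤ ↔ True := by
        rw [← EvenDim.type_iff h2]
        show QuadNd.QPlus Q ⊤ ↔ _
        rw [QuadNd.qplus_top hcard]
        simp [hτ]
      have hpar : ∀ k : ℕ, IsSquare ((-1 : F) ^ k) ↔ (k % 2 = 0 ∨ Fintype.card F % 4 ≠ 3) := fun k => by
        rcases Nat.even_or_odd k with hk | hk
        · simp [hk.neg_one_pow, Nat.even_iff.1 hk]
        · simp [hk.neg_one_pow, FiniteField.isSquare_neg_one_iff, Nat.odd_iff.1 hk]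
      simp only [hp2, hplus, hpar, FiniteField.isSquare_two_iff, Nat.even_iff, Nat.odd_iff, ne_eq, not_false_eq_true,
        true_and, false_and, false_or, iff_true, iff_false, true_iff, false_iff]
      omega
  rcases eq_or_ne r p with rfl | hrp
  · have := EvenTypeTwo.not_allFix_char r hQ hcard (by omega) (a := a) (by omega) (by omega) False (Or.inr hτ) (by
      rcases Nat.even_or_odd a with h | h
      · exact Or.inl ⟨h, not_false⟩
      · exact Or.inr ⟨h, Or.inr fun h' => h'.2 hτ⟩)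
    simp only [this, hr2, ne_eq, not_true_eq_false, false_and, or_self]
  have h2r : 2 < r := lt_of_le_of_ne hrP.two_le (Ne.symm hr2)
  have hi' : i ∣ r - 1 := by
    rw [hi]
    refine orderOf_dvd_of_pow_eq_one (ZMod.pow_card_sub_one_eq_one fun h => hrp ?_)
    obtain ⟨k, -, hk⟩ := FiniteField.card F p
    rw [ZMod.natCast_eq_zero_iff, hk] at h
    exact (Nat.prime_dvd_prime_iff_eq hrP hpP).1 (hrP.dvd_of_dvd_pow h)
  obtain ⟨hset, P, hPcard, hP⟩ := OrthPrimeClasses.setting_of (F := F) (p := p) (t := (r - 1) / i) rfl hrP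
    hr2 hrp hi (Nat.div_mul_cancel hi')
  have hi0 := OrthPrimeClasses.ne_of_pos hset
  obtain ⟨Q₀, hQ₀⟩ := Finset.card_pos.1 (hPcard ▸ Nat.div_pos (Nat.le_of_dvd (by omega) hi') hi0)
  obtain ⟨e, he⟩ : ∃ e, a + e = d := ⟨d - a, by omega⟩
  have hidx := TypeSplit.exists_index hQ p hr2 hrp hi hcard (a := a) (e := e) (by omega) (by omega) he False (by
    simpa only [iff_true, iff_false] using hrΩ)
  simp only [hτ, iff_true, iff_false] at hidx
  rw [FreeSplit.allFix_iff hset ((hP Q₀).1 hQ₀) hc hQ (by omega) hcard (even_two_mul a) (by omega) (by omega)]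
  have hA := FreeArith.plus_minus hi0 hc he (by omega) (by omega) rfl (by simpa using hidx)
  simp only [hrp, hr2, h2r, ne_eq, not_false_eq_true, true_and, false_and, false_or]
  rw [← hA]
  simp only [hτ, FreeSplit.Ok, FreeArith.Fixes]

end Cfsg.Agent.S5988
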