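import Cfsg.Statements.S5989
import Cfsg.Agent.Lib.Classical.IsoInvariant.EvenOddNd
import Cfsg.Agent.Lib.Classical.OrthTypes

set_option autoImplicit false
open scoped MatrixGroups
open Cfsg
open Cfsg.Agent Cfsg.Agent.Classical Cfsg.Agent.Classical.IsoInvariant

namespace Cfsg.Agent.S5989

/-- Elements of prime order of PΩ⁺_n(q), q odd, with no fixed nondegenerate `m`-space of odd dimension. Here `T = PΩ⁺_n(F)`, `n = 2d ≥ 8`, realised through `Ω⁺_n(q)`, the commutator subgroup of the isometry group of `Q = Σ xᵢyᵢ` over the field `F` with `q` elements; an element of `T` of prime order `r` is an element `x` of `Ω⁺_n(q)` with `x^r` scalar and `x` not scalar; `q` and `m` are odd, `1 ≤ m < n/2`. The nondegenerate `m`-spaces (subspaces on which the polar form is nondegenerate) fall into two isometry classes, each an orbit of `T`, and the two actions are equivalent; fix one such space `W₀` and let Ω be the set of nondegenerate `m`-spaces isometric to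 `W₀` (some linear isomorphism preserves `Q`). Let `r` be a prime dividing the size of Ω; for `r ≠ p` let `i` be the multiplicative order of `q` modulo `r`, `c = i` for `i` even and `c = 2i` for `i` odd, and write `k = n mod c`, `ℓ = m mod i`, `ℓ' = m mod c`, `n' = ⌊n/i⌋`, `m' = ⌊m/i⌋`, `t = (r−1)/i`. Then every element of `T` of order `r` fixes a member of Ω if and only if one of: (i) `r = 2`, `n ≡ 2 (mod 4)` and `q ≢ 1 (mod 8)`; (ii) `r ≠ p` odd, `i` odd, `c ≤ m` and `k > ℓ' > 0`; (iii) `r ≠ p` odd, `i` even, and either `k = 0` and `n/i` odd, or `i ≤ m` and `k > ℓ' > 0`. (For `r = p` there is always an element of order `p` fixing no member of Ω.) -/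
theorem result {F : Type*} [Field F] [Fintype F] {p : ℕ} [Fact p.Prime] [CharP F p] {q : ℕ} (hq : Fintype.card F = q)
    (hodd : Odd q) (d m : ℕ) (hd : 4 ≤ d) (hm : Odd m) (hmd : m < d)
    (W₀ : Submodule F (Fin d ⊕ Fin d → F)) (hW₀ : Module.finrank F ↥W₀ = m ∧ Cfsg.Geo.IsNondegenerateOn (QuadraticMap.polar (Cfsg.quadFormPlus d F)) W₀)
    (r : ℕ) [Fact r.Prime]
    (hrΩ : r ∣ Nat.card {W : Submodule F (Fin d ⊕ Fin d → F) // Module.finrank F ↥W = m ∧ Cfsg.Geo.IsNondegenerateOn (QuadraticMap.polar (Cfsg.quadFormPlus d F)) W ∧ Cfsg.Geo.AreIsometricFor (Cfsg.quadFormPlus d F) W W₀})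
    (i c : ℕ) (hi : i = orderOf (q : ZMod r)) (hc : c = if Even i then i else 2 * i) :
    (∀ x : GL (Fin d ⊕ Fin d) F, x ∈ Cfsg.Geo.omegaGL (Cfsg.quadFormPlus d F) →
      (∃ z : F, ((x ^ r : GL (Fin d ⊕ Fin d) F) : Matrix (Fin d ⊕ Fin d) (Fin d ⊕ Fin d) F) = z • (1 : Matrix (Fin d ⊕ Fin d) (Fin d ⊕ Fin d) F)) →
      (∀ z : F, (x : Matrix (Fin d ⊕ Fin d) (Fin d ⊕ Fin d) F) ≠ z • (1 : Matrix (Fin d ⊕ Fin d) (Fin d ⊕ Fin d) F)) →
      ∃ W : Submodule F (Fin d ⊕ Fin d → F), (Module.finrank F ↥W = m ∧ Cfsg.Geo.IsNondegenerateOn (QuadraticMap.polar (Cfsg.quadFormPlus d F)) W ∧ Cfsg.Geo.AreIsometricFor (Cfsg.quadFormPlus d F) W W₀) ∧ W.map (Matrix.toLin' (x : Matrix (Fin d ⊕ Fin d) (Fin d ⊕ Fin d) F)) ≤ W) ↔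
    ((r = 2 ∧ Odd d ∧ q % 8 ≠ 1) ∨
     (r ≠ p ∧ 2 < r ∧ Odd i ∧ c ≤ m ∧ 0 < m % c ∧ m % c < (2 * d) % c) ∨
     (r ≠ p ∧ 2 < r ∧ Even i ∧ (((2 * d) % c = 0 ∧ Odd ((2 * d) / i)) ∨ (i ≤ m ∧ 0 < m % c ∧ m % c < (2 * d) % c)))) := by
  classical
  have hr : r.Prime := Fact.out
  have hp : p.Prime := Fact.out
  have hp2 : p ≠ 2 := by
    rintro rfl
    obtain ⟨k, hk, hk'⟩ := FiniteField.card F 2
    rw [← hq, hk'] at hodd
    exact Nat.not_even_iff_odd.2 hodd ((Nat.even_pow' k.pos.ne').2 even_two)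
  have h2 : (2 : F) ≠ 0 := fun h => hp2 ((Nat.prime_dvd_prime_iff_eq hp Nat.prime_two).1
    ((CharP.cast_eq_zero_iff F p 2).1 (by exact_mod_cast h)))
  subst hq
  simp only [← OrthForms.plusQ_eq, EvenDim.nd_iff] at hW₀ hrΩ ⊢
  set Q := Forms.PlusStd.plusQ F d with hQdef
  have hQ : (QuadraticMap.polarBilin Q).Nondegenerate := Forms.PlusStd.plusQ_nondeg F d
  have hcard : Fintype.card (Fin d ⊕ Fin d) = 2 * d := by simp [two_mul]
  have hplus : NdType.Plus (EvenDim.pB Q) ⊤ := by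
    obtain ⟨U, hU1, hU2⟩ := OrthTypes.isPlus_plusQ (F := F) d
    exact ⟨U, le_top, (EvenDim.iso_iff h2 U).2 hU1, by rw [finrank_top, Module.finrank_pi, hcard]; omega⟩
  have hO : Nat.card (Cfsg.isometryGroup F ⇑Q) = 2 * Fintype.card F ^ (d * (d - 1)) * (Fintype.card F ^ d - 1) *
      ∏ a ∈ Finset.range (d - 1), (Fintype.card F ^ (2 * (a + 1)) - 1) := by
    obtain ⟨e, rfl⟩ : ∃ e, d = e + 1 := ⟨d - 1, by omega⟩
    exact OrthForms.natCard_O_plus rfl e
  have hT : Fintype.card F ^ d - 1 ∣ Fintype.card F ^ (2 * d) - 1 := by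
    rw [mul_comm 2 d, pow_mul, ← one_pow (2 : ℕ), Nat.sq_sub_sq, one_pow]
    exact dvd_mul_left _ _
  show EvenOddNd.AllFix Q W₀ m r ↔ _
  rcases eq_or_ne r p with rfl | hrp
  · simp only [EvenOddNd.not_allFix_char r hp2 hQ hcard hd hm hmd hW₀, hp2, ne_eq, not_true_eq_false, false_and,
      or_self]
  rcases eq_or_ne r 2 with rfl | hr2
  · simp only [lt_irrefl, false_and, and_false, or_false, true_and]
    rw [EvenOddNd.allFix_two hQ h2 hcard hm hmd hW₀, FourthRoot.exists_root_iff hQ h2 hcard,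
      FourthRoot.isSquare_two_pow h2]
    rcases Nat.even_or_odd d with hde | hdo
    · simp [hde.neg_one_pow, hde, hplus, Nat.not_odd_iff_even.2 hde]
    · simp only [hdo.neg_one_pow, hplus, hdo, Nat.not_even_iff_odd.2 hdo, false_or, true_iff, true_and,
        FiniteField.isSquare_two_iff, FiniteField.isSquare_neg_one_iff]
      rw [Nat.odd_iff] at hodd
      omega
  · rw [EvenOddNd.iff_odd p hrp hr2 h2 hQ hi hc hcard hm hmd hO hT hW₀ hrΩ]
    have h2r : 2 < r := lt_of_le_of_ne hr.two_le (Ne.symm hr2)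
    simp only [h2r, true_and]
    simp only [hplus, true_iff, hr2, hrp, ne_eq, not_false_eq_true, true_and, false_and, false_or]
    obtain ⟨l, rfl⟩ := hm
    rcases Nat.even_or_odd i with he | ho
    · have hpos : (2 * l + 1) % c % 2 = 1 := by
        rw [Nat.mod_mod_of_dvd _ (by rw [hc, if_pos he]; exact he.two_dvd)]; omega
      rw [hc, if_pos he] at hpos ⊢
      simp only [he, Nat.not_odd_iff_even.2 he, false_or, true_and, false_and, Nat.odd_iff, Nat.even_iff]
      omega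
    · have hpos : (2 * l + 1) % c % 2 = 1 := by
        rw [Nat.mod_mod_of_dvd _ (by rw [hc, if_neg (Nat.not_even_iff_odd.2 ho)]; exact dvd_mul_right 2 i)]; omega
      simp only [ho, Nat.not_even_iff_odd.2 ho, true_or, not_true_eq_false, false_and, and_false, or_false, true_and,
        and_true, false_or]
      omega

end Cfsg.Agent.S5989
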