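import Cfsg.Statements.S5990
import Cfsg.Agent.Lib.Classical.IsoInvariant.EvenTypeTwo
import Cfsg.Agent.Lib.Classical.IsoInvariant.FreeArith

set_option autoImplicit false
open scoped MatrixGroups
open Cfsg
open Cfsg.Agent Cfsg.Agent.Classical Cfsg.Agent.Classical.IsoInvariant
open Cfsg.Agent.Forms.Elusive

namespace Cfsg.Agent.S5990

/-- Elements of prime order of PΩ⁻_n(q) with no fixed elliptic `m`-space. Here `T = PΩ⁻_n(F)`, `n = 2d ≥ 8`, realised through `Ω⁻_n(q)`, the commutator subgroup of the isometry group of `Q = Σ_{i<d−1} xᵢyᵢ + z₁² + a z₁z₂ + b z₂²` with `z₁² + a z₁z₂ + b z₂²` anisotropic, over the field `F` with `q` elements; an element of `T` of prime order `r` is an element `x` of `Ω⁻_n(q)` with `x^r` scalar and `x` not scalar; a nondegenerate `m`-space (even `m`) is a subspace on which the polar form of `Q` is nondegenerate; it is hyperbolic if it contains an `m/2`-dimensional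 subspace on which `Q` vanishes, elliptic otherwise. Let `m` be even with `2 ≤ m ≤ n − 2` (no restriction `m < n/2`: fixing an elliptic `m`-space is the same as fixing its hyperbolic orthogonal complement) and let `r` be a prime dividing the number of elliptic `m`-spaces, with `r = 2` or `r ≠ p`; for `r ≠ p` let `i` be the multiplicative order of `q` modulo `r`, `c = i` for `i` even and `c = 2i` for `i` odd, and write `k = n mod c`, `ℓ = m mod i`, `ℓ' = m mod c`, `n' = ⌊n/i⌋`, `m' = ⌊m/i⌋`, `t = (r−1)/i`. Then every element of `T` of order `r` fixes some elliptic `m`-space if and only if one of: (i) `r = p = 2` and (`n ≡ 0 (mod 4)` or `m ≡ 2 (mod 4)`); (ii) `r = 2 ≠ p` and (`n ≡ 0 (mod 4)`, or `q ≢ 7 (mod 8)`, or `m ≡ 2 (mod 4)`); (iii) `r ≠ p` odd, `i` odd, and `k = 0` or (`c ≤ m` and `k ≥ ℓ' > 0`); (iv) `r ≠ p` odd, `i` even, and either `k = 0` and (`n/i` even, or `ℓ' = 0` and `m/i` odd),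 or `k > 0`, `i ≤ m` and (`k > ℓ' > 0`, or `ℓ' = 0` and `m/i` odd, or `k = ℓ'` and `(n + m − 2k)/i` even). (Odd `r = p` is not covered by this statement.) -/
theorem result {F : Type*} [Field F] [Fintype F] {p : ℕ} [Fact p.Prime] [CharP F p] {q : ℕ} (hq : Fintype.card F = q)
    (d m : ℕ) (hd : 4 ≤ d) (hm : 2 ≤ m) (hme : Even m) (hmn : m + 2 ≤ 2 * d) (a b : F) (hab : ∀ x y : F, x ^ 2 + a * x * y + b * y ^ 2 = 0 → x = 0 ∧ y = 0)
    (r : ℕ) [Fact r.Prime] (hr : r = 2 ∨ r ≠ p)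
    (hrΩ : r ∣ Nat.card {W : Submodule F ((Fin (d - 1) ⊕ Fin (d - 1)) ⊕ Fin 2 → F) // Module.finrank F ↥W = m ∧ Cfsg.Geo.IsNondegenerateOn (QuadraticMap.polar (Cfsg.quadFormMinus (d - 1) F a b)) W ∧ ¬ Cfsg.Geo.IsPlusTypeOn (Cfsg.quadFormMinus (d - 1) F a b) W})
    (i c : ℕ) (hi : i = orderOf (q : ZMod r)) (hc : c = if Even i then i else 2 * i) :
    (∀ x : GL ((Fin (d - 1) ⊕ Fin (d - 1)) ⊕ Fin 2) F, x ∈ Cfsg.Geo.omegaGL (Cfsg.quadFormMinus (d - 1) F a b) →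
      (∃ z : F, ((x ^ r : GL ((Fin (d - 1) ⊕ Fin (d - 1)) ⊕ Fin 2) F) : Matrix ((Fin (d - 1) ⊕ Fin (d - 1)) ⊕ Fin 2) ((Fin (d - 1) ⊕ Fin (d - 1)) ⊕ Fin 2) F) = z • (1 : Matrix ((Fin (d - 1) ⊕ Fin (d - 1)) ⊕ Fin 2) ((Fin (d - 1) ⊕ Fin (d - 1)) ⊕ Fin 2) F)) →
      (∀ z : F, (x : Matrix ((Fin (d - 1) ⊕ Fin (d - 1)) ⊕ Fin 2) ((Fin (d - 1) ⊕ Fin (d - 1)) ⊕ Fin 2) F) ≠ z • (1 : Matrix ((Fin (d - 1) ⊕ Fin (d - 1)) ⊕ Fin 2) ((Fin (d - 1) ⊕ Fin (d - 1)) ⊕ Fin 2) F)) →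
      ∃ W : Submodule F ((Fin (d - 1) ⊕ Fin (d - 1)) ⊕ Fin 2 → F), (Module.finrank F ↥W = m ∧ Cfsg.Geo.IsNondegenerateOn (QuadraticMap.polar (Cfsg.quadFormMinus (d - 1) F a b)) W ∧ ¬ Cfsg.Geo.IsPlusTypeOn (Cfsg.quadFormMinus (d - 1) F a b) W) ∧ W.map (Matrix.toLin' (x : Matrix ((Fin (d - 1) ⊕ Fin (d - 1)) ⊕ Fin 2) ((Fin (d - 1) ⊕ Fin (d - 1)) ⊕ Fin 2) F)) ≤ W) ↔
    ((r = 2 ∧ p = 2 ∧ (Even d ∨ m % 4 = 2)) ∨
     (r = 2 ∧ p ≠ 2 ∧ (Even d ∨ q % 8 ≠ 7 ∨ m % 4 = 2)) ∨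
     (r ≠ p ∧ 2 < r ∧ Odd i ∧ ((2 * d) % c = 0 ∨ (c ≤ m ∧ 0 < m % c ∧ m % c ≤ (2 * d) % c))) ∨
     (r ≠ p ∧ 2 < r ∧ Even i ∧
       (((2 * d) % c = 0 ∧ (Even ((2 * d) / i) ∨ (m % c = 0 ∧ Odd (m / i)))) ∨
        (0 < (2 * d) % c ∧ i ≤ m ∧ ((0 < m % c ∧ m % c < (2 * d) % c) ∨ (m % c = 0 ∧ Odd (m / i)) ∨
                                    (m % c = (2 * d) % c ∧ Even ((2 * d + m - 2 * ((2 * d) % c)) / i))))))) := by
  classical
  have hrP : r.Prime := Fact.out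
  have hpP : p.Prime := Fact.out
  subst hq
  rename' a => a0, b => b0
  simp only [← OrthForms.minQ_eq, EvenDim.nd_iff] at hrΩ ⊢
  set Q := OrthForms.minQ F (d - 1) a0 b0 with hQdef
  have hQ : (QuadraticMap.polarBilin Q).Nondegenerate := OrthForms.minQ_nondeg _ hab
  have hcard : Fintype.card ((Fin (d - 1) ⊕ Fin (d - 1)) ⊕ Fin 2) = 2 * d := by simp; omega
  have hτ : ¬ OrthTypes.IsPlus Q d := by rw [hQdef, show d = d - 1 + 1 by omega]; exact OrthTypes.not_isPlus_minQ hab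
  obtain ⟨a, rfl⟩ := hme.two_dvd
  have hmap : FreeSplit.AllFix Q (2 * a) False r ↔ (∀ x : GL ((Fin (d - 1) ⊕ Fin (d - 1)) ⊕ Fin 2) F, x ∈ Cfsg.Geo.omegaGL ⇑Q →
      (∃ z : F, ((x ^ r : GL ((Fin (d - 1) ⊕ Fin (d - 1)) ⊕ Fin 2) F) : Matrix ((Fin (d - 1) ⊕ Fin (d - 1)) ⊕ Fin 2) ((Fin (d - 1) ⊕ Fin (d - 1)) ⊕ Fin 2) F) = z • (1 : Matrix ((Fin (d - 1) ⊕ Fin (d - 1)) ⊕ Fin 2) ((Fin (d - 1) ⊕ Fin (d - 1)) ⊕ Fin 2) F)) →
      (∀ z : F, (x : Matrix ((Fin (d - 1) ⊕ Fin (d - 1)) ⊕ Fin 2) ((Fin (d - 1) ⊕ Fin (d - 1)) ⊕ Fin 2) F) ≠ z • (1 : Matrix ((Fin (d - 1) ⊕ Fin (d - 1)) ⊕ Fin 2) ((Fin (d - 1) ⊕ Fin (d - 1)) ⊕ Fin 2) F)) →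
      ∃ W : Submodule F ((Fin (d - 1) ⊕ Fin (d - 1)) ⊕ Fin 2 → F), (Module.finrank F ↥W = 2 * a ∧ NdOn (EvenDim.pB Q) W ∧ (¬ QuadNd.QPlus Q W)) ∧
        W.map (Matrix.toLin' (x : Matrix ((Fin (d - 1) ⊕ Fin (d - 1)) ⊕ Fin 2) ((Fin (d - 1) ⊕ Fin (d - 1)) ⊕ Fin 2) F)) ≤ W) := by
    simp only [FreeSplit.AllFix, iff_true, iff_false]
  refine hmap.symm.trans ?_
  rcases eq_or_ne r 2 with rfl | hr2
  · simp only [lt_irrefl, false_and, and_false, or_false, true_and]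
    rcases eq_or_ne p 2 with rfl | hp2
    · have h2 : (2 : F) = 0 := CharTwo.two_eq_zero
      simp only [ne_eq, not_true_eq_false, false_and, or_false, true_and]
      by_cases hok : Odd a ∨ Even d
      · refine iff_of_true (EvenTypeTwo.allFix_two_char_two hQ h2 hcard (by omega) (by omega) False
          (Or.inr ⟨not_false, hτ, hok⟩)) ?_
        simp only [Nat.even_iff, Nat.odd_iff] at hok ⊢
        omega
      · rw [not_or, Nat.not_even_iff_odd, Nat.not_odd_iff_even] at hok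
        refine iff_of_false (EvenTypeTwo.not_allFix_char 2 hQ hcard (by omega) (by omega) (by omega) False (Or.inl hok.2)
          (Or.inl ⟨hok.1, not_false⟩)) ?_
        simp only [Nat.even_iff, Nat.odd_iff] at hok ⊢
        omega
    · have h2 : (2 : F) ≠ 0 := fun h => hp2 ((Nat.prime_dvd_prime_iff_eq hpP Nat.prime_two).1
        ((CharP.cast_eq_zero_iff F p 2).1 (by exact_mod_cast h)))
      have hqodd : Fintype.card F % 2 = 1 := by
        refine FiniteField.odd_card_of_char_ne_two ?_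
        rw [ringChar.eq F p]; exact hp2
      rw [EvenTypeTwo.allFix_two hQ h2 hcard (by omega) (by omega), FourthRoot.exists_root_iff hQ h2 hcard,
        FourthRoot.isSquare_two_pow h2]
      have hplus : NdType.Plus (EvenDim.pB Q) ⊤ ↔ False := by
        rw [← EvenDim.type_iff h2]
        show QuadNd.QPlus Q ⊤ ↔ _
        rw [QuadNd.qplus_top hcard]
        simp [hτ]
      have hpar : ∀ k : ℕ, IsSquare ((-1 : F) ^ k) ↔ (k % 2 = 0 ∨ Fintype.card F % 4 ≠ 3) := fun k => by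
        rcases Nat.even_or_odd k with hk | hk
        · simp [hk.neg_one_pow, Nat.even_iff.1 hk]
        · simp [hk.neg_one_pow, FiniteField.isSquare_neg_one_iff, Nat.odd_iff.1 hk]
      simp only [hp2, hplus, hpar, FiniteField.isSquare_two_iff, Nat.even_iff, Nat.odd_iff, ne_eq, not_false_eq_true,
        true_and, false_and, false_or, iff_true, iff_false, true_iff, false_iff]
      omega
  rcases eq_or_ne r p with rfl | hrp
  · exact absurd (hr.resolve_left hr2) (fun h => h rfl)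
  have h2r : 2 < r := lt_of_le_of_ne hrP.two_le (Ne.symm hr2)
  have hi' : i ∣ r - 1 := by
    rw [hi]
    refine orderOf_dvd_of_pow_eq_one (ZMod.pow_card_sub_one_eq_one fun h => hrp ?_)
    obtain ⟨k, -, hk⟩ := FiniteField.card F p
    rw [ZMod.natCast_eq_zero_iff, hk] at h
    exact (Nat.prime_dvd_prime_iff_eq hrP hpP).1 (hrP.dvd_of_dvd_pow h)
  obtain ⟨hset, P, hPcard, hP⟩ := OrthPrimeClasses.setting_of (F := F) (p := p) (t := (r - 1) / i) rfl hrP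
    hr2 hrp hi (Nat.div_mul_cancel hi')
  have hi0 := OrthPrimeClasses.ne_of_pos hset
  obtain ⟨Q₀, hQ₀⟩ := Finset.card_pos.1 (hPcard ▸ Nat.div_pos (Nat.le_of_dvd (by omega) hi') hi0)
  obtain ⟨e, he⟩ : ∃ e, a + e = d := ⟨d - a, by omega⟩
  have hidx := TypeSplit.exists_index hQ p hr2 hrp hi hcard (a := a) (e := e) (by omega) (by omega) he False (by
    simpa only [iff_true, iff_false] using hrΩ)
  simp only [hτ, iff_true, iff_false] at hidx
  rw [FreeSplit.allFix_iff hset ((hP Q₀).1 hQ₀) hc hQ (by omega) hcard (even_two_mul a) (by omega) (by omega)]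
  have hA := FreeArith.minus_minus hi0 hc he (by omega) (by omega) rfl (by simpa using hidx)
  simp only [hrp, hr2, h2r, ne_eq, not_false_eq_true, true_and, false_and, false_or]
  rw [← hA]
  simp only [hτ, FreeSplit.Ok, FreeArith.Fixes]

end Cfsg.Agent.S5990
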