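import Cfsg.Statements.S5992
import Cfsg.Agent.Lib.Classical.IsoInvariant.OrthOddNd

set_option autoImplicit false
open scoped MatrixGroups
open Cfsg

namespace Cfsg.Agent.S5992

open Cfsg.Agent.Classical.IsoInvariant Cfsg.Agent.Forms.Elusive

/-- Elements of prime order r ≠ p of Ω_n(q), nq odd, with no fixed hyperbolic `m`-space. Here `T = Ω_n(F)`, `n = 2d+1 ≥ 7`, `q` odd, realised as the commutator subgroup of the isometry group of `Q = x₀² + Σ xᵢyᵢ` over the field `F` with `q` elements (trivial centre, so its elements of prime order `r` are used directly); a nondegenerate `m`-space (even `m`) is a subspace on which the polar form of `Q` is nondegenerate; it is hyperbolic if it contains an `m/2`-dimensional subspace on which `Q` vanishes, elliptic otherwise. Let `m` be even with `2 ≤ m ≤ n − 1` (no restriction `m < n/2`) and let `r ≠ p` be a prime dividing the number of hyperbolic `m`-spaces; for `r ≠ p` let `i` be the multiplicative order of `q` modulo `r`,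 `c = i` for `i` even and `c = 2i` for `i` odd, and write `k = n mod c`, `ℓ' = m mod c`. Then every element of `T` of order `r` fixes some hyperbolic `m`-space if and only if `r = 2`, or `r` is odd and one of: (i) `i` odd, `c ≤ m` and either `k > ℓ' > 0` or `ℓ' = 0`; (ii) `i` even, `i ≤ m`, `k > ℓ'`, and `m/i` even whenever `ℓ' = 0`. (`r = p` is not covered by this statement.) -/
theorem result {F : Type*} [Field F] [Fintype F] {p : ℕ} [Fact p.Prime] [CharP F p] {q : ℕ} (hq : Fintype.card F = q) (hqodd : Odd q)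
    (d m : ℕ) (hd : 3 ≤ d) (hm : 2 ≤ m) (hme : Even m) (hmn : m ≤ 2 * d)
    (r : ℕ) [Fact r.Prime] (hrp : r ≠ p)
    (hrΩ : r ∣ Nat.card {W : Submodule F (Unit ⊕ (Fin d ⊕ Fin d) → F) // Module.finrank F ↥W = m ∧ Cfsg.Geo.IsNondegenerateOn (QuadraticMap.polar (Cfsg.quadFormOdd d F)) W ∧ Cfsg.Geo.IsPlusTypeOn (Cfsg.quadFormOdd d F) W})
    (i c : ℕ) (hi : i = orderOf (q : ZMod r)) (hc : c = if Even i then i else 2 * i) :
    (∀ x : GL (Unit ⊕ (Fin d ⊕ Fin d)) F, x ∈ Cfsg.Geo.omegaGL (Cfsg.quadFormOdd d F) → orderOf x = r →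
      ∃ W : Submodule F (Unit ⊕ (Fin d ⊕ Fin d) → F), (Module.finrank F ↥W = m ∧ Cfsg.Geo.IsNondegenerateOn (QuadraticMap.polar (Cfsg.quadFormOdd d F)) W ∧ Cfsg.Geo.IsPlusTypeOn (Cfsg.quadFormOdd d F) W) ∧ W.map (Matrix.toLin' (x : Matrix (Unit ⊕ (Fin d ⊕ Fin d)) (Unit ⊕ (Fin d ⊕ Fin d)) F)) ≤ W) ↔
    (r = 2 ∨
     (2 < r ∧ Odd i ∧ c ≤ m ∧ (m % c = 0 ∨ (0 < m % c ∧ m % c < (2 * d + 1) % c))) ∨
     (2 < r ∧ Even i ∧ i ≤ m ∧ m % c < (2 * d + 1) % c ∧ (0 < m % c ∨ Even (m / i)))) := by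
  classical
  subst hq
  have h2 := Agent.Classical.OrthForms.two_ne_zero_of_odd (F := F) hqodd
  have conv : ∀ W : Submodule F (Unit ⊕ (Fin d ⊕ Fin d) → F),
      (Module.finrank F ↥W = m ∧ Cfsg.Geo.IsNondegenerateOn (QuadraticMap.polar (Cfsg.quadFormOdd d F)) W ∧
        Cfsg.Geo.IsPlusTypeOn (Cfsg.quadFormOdd d F) W) ↔
      (Module.finrank F ↥W = m ∧ NdOn (OrthOdd.oB F d) W ∧ (NdType.Plus (OrthOdd.oB F d) W ↔ True)) := fun W => by
    rw [OrthOddNd.nd_iff, OrthOddNd.type_iff h2, iff_true]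
  simp only [conv] at hrΩ ⊢
  rcases (Fact.out : r.Prime).two_le.lt_or_eq with hr2 | hr2
  · show OrthOddNd.AllFix F d m r True ↔ _
    rw [OrthOddNd.iff_odd p hrp hr2.ne' h2 hi hc hme hm hmn True hrΩ]
    simp only [iff_true]
    rcases Nat.even_or_odd i with hev | hodd
    · have hno : ¬ Odd i := Nat.not_odd_iff_even.2 hev
      rw [if_pos hev] at hc
      subst c
      simp only [hno, false_or, false_and, and_false, or_false, hr2, hr2.ne', true_and, hev]
      constructor
      · rintro ⟨h1, h3, h4⟩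
        exact ⟨h1, h3, (Nat.eq_zero_or_pos (m % i)).symm.imp id h4⟩
      · rintro ⟨h1, h3, h4⟩
        exact ⟨h1, h3, fun h0 => h4.resolve_left (by omega)⟩
    · have hno : ¬ Even i := Nat.not_even_iff_odd.2 hodd
      rw [if_neg hno] at hc
      subst c
      simp only [hodd, true_or, hr2, hr2.ne', hno, false_and, or_false, false_or, true_and, implies_true, and_true]
      constructor
      · rintro ⟨h1, h3⟩
        exact ⟨h1, (Nat.eq_zero_or_pos (m % (2 * i))).imp id fun h => ⟨h, h3⟩⟩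
      · rintro ⟨h1, h3 | ⟨-, h3⟩⟩
        · refine ⟨h1, h3 ▸ Nat.pos_of_ne_zero fun h0 => ?_⟩
          obtain ⟨t, ht⟩ := Nat.dvd_of_mod_eq_zero h0
          have := congrArg (· % 2) ht
          simp [mul_assoc, Nat.add_mod] at this
        · exact ⟨h1, h3⟩
  · subst hr2
    exact iff_of_true (OrthOddNd.two h2 hme hm hmn True) (Or.inl rfl)

end Cfsg.Agent.S5992
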