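import Cfsg.Statements.S5994
import Cfsg.Agent.Lib.Forms.Elusive.OrthUnipotent

set_option autoImplicit false
open scoped MatrixGroups
open Cfsg

namespace Cfsg.Agent.S5994

open Module Cfsg.Agent.Forms Cfsg.Agent.Classical Cfsg.Agent.Forms.Elusive

theorem pair_sum {a b : ℕ} {S : Multiset ℕ} (hS : S ≤ {a, b}) :
    S = 0 ∨ S.sum = a ∨ S.sum = b ∨ S.sum = a + b := by
  have h := Multiset.mem_powerset.2 hS
  simp only [Multiset.insert_eq_cons, Multiset.powerset_cons, Multiset.powerset_zero, ← Multiset.cons_zero,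
    Multiset.map_add, Multiset.map_cons, Multiset.map_zero, Multiset.mem_add, Multiset.mem_cons,
    Multiset.notMem_zero, or_false] at h
  rcases h with (rfl | rfl) | rfl | rfl <;> simp


/-- A necessary condition for every element of order p of PΩ⁻_n(q), q odd, to fix an elliptic `m`-space. Here `T = PΩ⁻_n(F)`, `n = 2d ≥ 8`, realised through `Ω⁻_n(q)`, the commutator subgroup of the isometry group of `Q = Σ_{i<d−1} xᵢyᵢ + z₁² + a z₁z₂ + b z₂²` with `z₁² + a z₁z₂ + b z₂²` anisotropic, over the field `F` with `q` elements; an element of `T` of prime order `r` is an element `x` of `Ω⁻_n(q)` with `x^r` scalar and `x` not scalar; `q` is odd; a nondegenerate `m`-space (even `m`) is a subspace on which the polar form of `Q` is nondegenerate; it is hyperbolic if it contains an `m/2`-dimensional subspace on which `Q` vanishes, elliptic otherwise. Let `m` be even with `2 ≤ m ≤ n − 2` and suppose `p` divides the number of elliptic `m`-spaces. If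 every element of `T` of order `p` fixes some elliptic `m`-space, then `n ≡ m (mod 4)` and every partition of `n` into parts of size at most `p` in which every even part has even multiplicity contains (as a sub-multiset) a partition of `m` in which every even part has even multiplicity. -/
theorem result {F : Type*} [Field F] [Fintype F] {p : ℕ} [Fact p.Prime] [CharP F p] {q : ℕ} (hq : Fintype.card F = q) (hqodd : Odd q)
    (d m : ℕ) (hd : 4 ≤ d) (hm : 2 ≤ m) (hme : Even m) (hmn : m + 2 ≤ 2 * d) (a b : F) (hab : ∀ x y : F, x ^ 2 + a * x * y + b * y ^ 2 = 0 → x = 0 ∧ y = 0)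
    (hpΩ : p ∣ Nat.card {W : Submodule F ((Fin (d - 1) ⊕ Fin (d - 1)) ⊕ Fin 2 → F) // Module.finrank F ↥W = m ∧ Cfsg.Geo.IsNondegenerateOn (QuadraticMap.polar (Cfsg.quadFormMinus (d - 1) F a b)) W ∧ ¬ Cfsg.Geo.IsPlusTypeOn (Cfsg.quadFormMinus (d - 1) F a b) W}) :
    (∀ x : GL ((Fin (d - 1) ⊕ Fin (d - 1)) ⊕ Fin 2) F, x ∈ Cfsg.Geo.omegaGL (Cfsg.quadFormMinus (d - 1) F a b) →
      (∃ z : F, ((x ^ p : GL ((Fin (d - 1) ⊕ Fin (d - 1)) ⊕ Fin 2) F) : Matrix ((Fin (d - 1) ⊕ Fin (d - 1)) ⊕ Fin 2) ((Fin (d - 1) ⊕ Fin (d - 1)) ⊕ Fin 2) F) = z • (1 : Matrix ((Fin (d - 1) ⊕ Fin (d - 1)) ⊕ Fin 2) ((Fin (d - 1) ⊕ Fin (d - 1)) ⊕ Fin 2) F)) →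
      (∀ z : F, (x : Matrix ((Fin (d - 1) ⊕ Fin (d - 1)) ⊕ Fin 2) ((Fin (d - 1) ⊕ Fin (d - 1)) ⊕ Fin 2) F) ≠ z • (1 : Matrix ((Fin (d - 1) ⊕ Fin (d - 1)) ⊕ Fin 2) ((Fin (d - 1) ⊕ Fin (d - 1)) ⊕ Fin 2) F)) →
      ∃ W : Submodule F ((Fin (d - 1) ⊕ Fin (d - 1)) ⊕ Fin 2 → F), (Module.finrank F ↥W = m ∧ Cfsg.Geo.IsNondegenerateOn (QuadraticMap.polar (Cfsg.quadFormMinus (d - 1) F a b)) W ∧ ¬ Cfsg.Geo.IsPlusTypeOn (Cfsg.quadFormMinus (d - 1) F a b) W) ∧ W.map (Matrix.toLin' (x : Matrix ((Fin (d - 1) ⊕ Fin (d - 1)) ⊕ Fin 2) ((Fin (d - 1) ⊕ Fin (d - 1)) ⊕ Fin 2) F)) ≤ W) →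
    ((2 * d) % 4 = m % 4 ∧ (∀ μ : Multiset ℕ, (∀ e ∈ μ, 0 < e ∧ e ≤ p) → (∀ e : ℕ, Even e → Even (μ.count e)) → μ.sum = 2 * d →
        ∃ ν : Multiset ℕ, ν ≤ μ ∧ ν.sum = m ∧ ∀ e : ℕ, Even e → Even (ν.count e))) := by
  classical
  subst hq
  have hp2 : p ≠ 2 := fun h => by
    subst h
    exact OrthForms.two_ne_zero_of_odd (F := F) hqodd (by exact_mod_cast CharP.cast_eq_zero F 2)
  have hpodd : Odd p := (Fact.out : p.Prime).odd_of_ne_two hp2
  have hp3 : 3 ≤ p := by have := (Fact.out : p.Prime).two_le; omega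
  intro hfix
  have hQ := OrthForms.minQ_nondeg (F := F) (d - 1) hab
  have H : ∀ x : GL ((Fin (d - 1) ⊕ Fin (d - 1)) ⊕ Fin 2) F, x ∈ Cfsg.Geo.omegaGL ⇑(OrthForms.minQ F (d - 1) a b) →
      x ^ p = 1 → x ≠ 1 → _ := fun x hx hxp hx1 => by
    rw [OrthForms.minQ_eq] at hx
    refine hfix x hx ⟨1, by rw [hxp, Units.val_one, one_smul]⟩ fun z hz => hx1 ?_
    have h1 : z ^ p = 1 := by
      have h := congrArg (fun M : Matrix _ _ F => M (Sum.inr 0) (Sum.inr 0)) (congrArg Units.val hxp)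
      simp [Units.val_pow_eq_pow_val, hz, _root_.smul_pow] at h
      exact h
    have hz1 : z = 1 := sub_eq_zero.1 (eq_zero_of_pow_eq_zero (n := p) (by rw [sub_pow_char, h1, one_pow, sub_self]))
    exact Units.ext (by rw [hz, hz1, one_smul, Units.val_one])
  have key : ∀ μ : Multiset ℕ, (∀ e ∈ μ, 0 < e ∧ e ≤ p) → (∀ e, Even e → Even (μ.count e)) → μ.sum = 2 * d →
      (∃ e ∈ μ, Odd e) → (∃ e ∈ μ, e ≠ 1) →
      ∃ ν : Multiset ℕ, ν ≤ μ ∧ ν.sum = m ∧ (∀ e, Even e → Even (ν.count e)) ∧ ∃ e ∈ ν, e ≠ 2 :=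
    fun μ hμ hev hsum hodd hone => by
    have hR := OrthUnipotent.exists_element p hp2 (OrthForms.minQ F (d - 1) a b) hQ μ hμ hev (by simp; omega) hodd
    obtain ⟨ν, h1, h2, h3, h4⟩ := OrthUnipotent.split_of_fixes p hp2 (OrthForms.minQ F (d - 1) a b) hQ _ (m := m)
      (fun W hW => ⟨hW.1, by rw [OrthForms.minQ_eq]; exact hW.2.1⟩) H μ hR hone
    refine ⟨ν, h1, h2, h3, ?_⟩
    by_contra hall
    push Not at hall
    obtain ⟨W, hW, hplus⟩ := h4 hall
    exact hW.2.2 (by rwa [OrthForms.minQ_eq] at hplus)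
  refine ⟨?_, OrthUnipotent.odd_reduce hpodd hme (by omega) (by omega) fun μ h1 h2 h3 h4 h5 => by
    obtain ⟨ν, a1, a2, a3, -⟩ := key μ h1 h2 h3 h4 h5
    exact ⟨ν, a1, a2, a3⟩⟩
  have hm2 := Nat.even_iff.1 hme
  rcases Nat.even_or_odd d with hd2 | hd2
  · have hd2' := Nat.even_iff.1 hd2
    obtain ⟨ν, hν, hνs, hνe, -⟩ := key (Multiset.replicate (d - 2) 2 + {3, 1})
      (fun e he => by
        rcases Multiset.mem_add.1 he with he | he
        · rw [Multiset.eq_of_mem_replicate he]; omega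
        · simp at he; omega)
      (fun e he => by
        rw [Multiset.count_add, Multiset.count_replicate,
          show Multiset.count e ({3, 1} : Multiset ℕ) = 0 from Multiset.count_eq_zero.2 (fun h => by
            have := Nat.even_iff.1 he; simp at h; omega), add_zero]
        split_ifs
        · exact Nat.even_iff.2 (by omega)
        · exact ⟨0, rfl⟩)
      (by simp; omega) ⟨1, by simp, odd_one⟩ ⟨3, by simp, by omega⟩
    obtain ⟨j, S, hS, hj, -⟩ := OrthUnipotent.two_three_parts hν hνs hνe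
    rcases pair_sum hS with rfl | h | h | h <;> (try simp at hj) <;> omega
  · have hd2' := Nat.odd_iff.1 hd2
    obtain ⟨ν, hν, hνs, hνe, e, he, hne⟩ := key (Multiset.replicate (d - 1) 2 + {1, 1})
      (fun e he => by
        rcases Multiset.mem_add.1 he with he | he
        · rw [Multiset.eq_of_mem_replicate he]; omega
        · simp at he; omega)
      (fun e he => by
        rw [Multiset.count_add, Multiset.count_replicate,
          show Multiset.count e ({1, 1} : Multiset ℕ) = 0 from Multiset.count_eq_zero.2 (fun h => by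
            have := Nat.even_iff.1 he; simp at h; omega), add_zero]
        split_ifs
        · exact Nat.even_iff.2 (by omega)
        · exact ⟨0, rfl⟩)
      (by simp; omega) ⟨1, by simp, odd_one⟩
      ⟨2, Multiset.mem_add.2 (Or.inl (Multiset.mem_replicate.2 ⟨by omega, rfl⟩)), by omega⟩
    obtain ⟨j, S, hS, hj, hS0⟩ := OrthUnipotent.two_three_parts hν hνs hνe
    rcases pair_sum hS with rfl | h | h | h
    · exact absurd (hS0 rfl e he) hne
    all_goals omega

end Cfsg.Agent.S5994
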