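import Cfsg.Statements.S5995
import Cfsg.Agent.Lib.Forms.Elusive.OrthUnipotent

set_option autoImplicit false
open scoped MatrixGroups
open Cfsg

namespace Cfsg.Agent.S5995

open Module Cfsg.Agent.Forms Cfsg.Agent.Classical Cfsg.Agent.Forms.Elusive

theorem pair_sum {a b : ℕ} {S : Multiset ℕ} (hS : S ≤ {a, b}) :
    S = 0 ∨ S.sum = a ∨ S.sum = b ∨ S.sum = a + b := by
  have h := Multiset.mem_powerset.2 hS
  simp only [Multiset.insert_eq_cons, Multiset.powerset_cons, Multiset.powerset_zero, ← Multiset.cons_zero,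
    Multiset.map_add, Multiset.map_cons, Multiset.map_zero, Multiset.mem_add, Multiset.mem_cons,
    Multiset.notMem_zero, or_false] at h
  rcases h with (rfl | rfl) | rfl | rfl <;> simp


/-- A necessary condition for every element of order p of Ω_n(q), nq odd, to fix a hyperbolic `m`-space. Here `T = Ω_n(F)`, `n = 2d+1 ≥ 7`, `q` odd, realised as the commutator subgroup of the isometry group of `Q = x₀² + Σ xᵢyᵢ` over the field `F` with `q` elements (trivial centre, so its elements of prime order `r` are used directly); a nondegenerate `m`-space (even `m`) is a subspace on which the polar form of `Q` is nondegenerate; it is hyperbolic if it contains an `m/2`-dimensional subspace on which `Q` vanishes, elliptic otherwise. Let `m` be even with `2 ≤ m ≤ n − 1` and suppose `p` divides the number of hyperbolic `m`-spaces. If every element of `T` of order `p` fixes some hyperbolic `m`-space, then `m ≡ 0 (mod 4)` and every partition of `n` into parts of size at most `p` in which every even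 part has even multiplicity contains (as a sub-multiset) a partition of `m` in which every even part has even multiplicity. -/
theorem result {F : Type*} [Field F] [Fintype F] {p : ℕ} [Fact p.Prime] [CharP F p] {q : ℕ} (hq : Fintype.card F = q) (hqodd : Odd q)
    (d m : ℕ) (hd : 3 ≤ d) (hm : 2 ≤ m) (hme : Even m) (hmn : m ≤ 2 * d)
    (hpΩ : p ∣ Nat.card {W : Submodule F (Unit ⊕ (Fin d ⊕ Fin d) → F) // Module.finrank F ↥W = m ∧ Cfsg.Geo.IsNondegenerateOn (QuadraticMap.polar (Cfsg.quadFormOdd d F)) W ∧ Cfsg.Geo.IsPlusTypeOn (Cfsg.quadFormOdd d F) W}) :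
    (∀ x : GL (Unit ⊕ (Fin d ⊕ Fin d)) F, x ∈ Cfsg.Geo.omegaGL (Cfsg.quadFormOdd d F) → orderOf x = p →
      ∃ W : Submodule F (Unit ⊕ (Fin d ⊕ Fin d) → F), (Module.finrank F ↥W = m ∧ Cfsg.Geo.IsNondegenerateOn (QuadraticMap.polar (Cfsg.quadFormOdd d F)) W ∧ Cfsg.Geo.IsPlusTypeOn (Cfsg.quadFormOdd d F) W) ∧ W.map (Matrix.toLin' (x : Matrix (Unit ⊕ (Fin d ⊕ Fin d)) (Unit ⊕ (Fin d ⊕ Fin d)) F)) ≤ W) →
    (m % 4 = 0 ∧ (∀ μ : Multiset ℕ, (∀ e ∈ μ, 0 < e ∧ e ≤ p) → (∀ e : ℕ, Even e → Even (μ.count e)) → μ.sum = 2 * d + 1 →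
        ∃ ν : Multiset ℕ, ν ≤ μ ∧ ν.sum = m ∧ ∀ e : ℕ, Even e → Even (ν.count e))) := by
  classical
  subst hq
  have hp2 : p ≠ 2 := fun h => by
    subst h
    exact OrthForms.two_ne_zero_of_odd (F := F) hqodd (by exact_mod_cast CharP.cast_eq_zero F 2)
  have hpodd : Odd p := (Fact.out : p.Prime).odd_of_ne_two hp2
  have hp3 : 3 ≤ p := by have := (Fact.out : p.Prime).two_le; omega
  intro hfix
  have hQ := OrthForms.oddQ_nondeg (F := F) (OrthForms.two_ne_zero_of_odd hqodd) d
  have H : ∀ x : GL (Unit ⊕ (Fin d ⊕ Fin d)) F, x ∈ Cfsg.Geo.omegaGL ⇑(OrthForms.oddQ F d) → x ^ p = 1 → x ≠ 1 → _ :=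
    fun x hx hxp hx1 => hfix x (by rwa [OrthForms.oddQ_eq] at hx) (orderOf_eq_prime hxp hx1)
  have key : ∀ μ : Multiset ℕ, (∀ e ∈ μ, 0 < e ∧ e ≤ p) → (∀ e, Even e → Even (μ.count e)) → μ.sum = 2 * d + 1 →
      (∃ e ∈ μ, Odd e) → (∃ e ∈ μ, e ≠ 1) →
      ∃ ν : Multiset ℕ, ν ≤ μ ∧ ν.sum = m ∧ ∀ e, Even e → Even (ν.count e) := fun μ hμ hev hsum hodd hone => by
    have hR := OrthUnipotent.exists_element p hp2 (OrthForms.oddQ F d) hQ μ hμ hev (by simp; omega) hodd
    obtain ⟨ν, h1, h2, h3, -⟩ := OrthUnipotent.split_of_fixes p hp2 (OrthForms.oddQ F d) hQ _ (m := m)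
      (fun W hW => ⟨hW.1, by rw [OrthForms.oddQ_eq]; exact hW.2.1⟩) H μ hR hone
    exact ⟨ν, h1, h2, h3⟩
  refine ⟨?_, OrthUnipotent.odd_reduce hpodd hme (by omega) (by omega) key⟩
  have hm2 := Nat.even_iff.1 hme
  rcases Nat.even_or_odd d with hd2 | hd2
  · obtain ⟨ν, hν, hνs, hνe⟩ := key (Multiset.replicate d 2 + {1})
      (fun e he => by
        rcases Multiset.mem_add.1 he with he | he
        · rw [Multiset.eq_of_mem_replicate he]; omega
        · rw [Multiset.mem_singleton.1 he]; omega)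
      (fun e he => by
        rw [Multiset.count_add, Multiset.count_replicate, Multiset.count_singleton]
        have : e ≠ 1 := by rintro rfl; exact Nat.not_even_one he
        rw [if_neg this, add_zero]
        split_ifs
        · exact hd2
        · exact ⟨0, rfl⟩)
      (by simp; omega) ⟨1, by simp, odd_one⟩ ⟨2, Multiset.mem_add.2 (Or.inl (Multiset.mem_replicate.2 ⟨by omega, rfl⟩)), by omega⟩
    obtain ⟨j, S, hS, hj, -⟩ := OrthUnipotent.two_three_parts hν hνs hνe
    rcases Multiset.le_singleton.1 hS with rfl | rfl <;> simp at hj <;> omega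
  · obtain ⟨ν, hν, hνs, hνe⟩ := key (Multiset.replicate (d - 1) 2 + {3})
      (fun e he => by
        rcases Multiset.mem_add.1 he with he | he
        · rw [Multiset.eq_of_mem_replicate he]; omega
        · rw [Multiset.mem_singleton.1 he]; omega)
      (fun e he => by
        rw [Multiset.count_add, Multiset.count_replicate, Multiset.count_singleton]
        have : e ≠ 3 := by rintro rfl; revert he; decide
        rw [if_neg this, add_zero]
        split_ifs
        · obtain ⟨k, hk⟩ := hd2; exact ⟨k, by omega⟩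
        · exact ⟨0, rfl⟩)
      (by simp; omega) ⟨3, by simp, by decide⟩ ⟨3, by simp, by omega⟩
    obtain ⟨j, S, hS, hj, -⟩ := OrthUnipotent.two_three_parts hν hνs hνe
    rcases Multiset.le_singleton.1 hS with rfl | rfl <;> simp at hj <;> omega

end Cfsg.Agent.S5995
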