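import Cfsg.Statements.S5996
import Cfsg.Agent.Lib.Forms.Elusive.OrthUnipotent

set_option autoImplicit false
open scoped MatrixGroups
open Cfsg

namespace Cfsg.Agent.S5996

open Module Cfsg.Agent.Forms Cfsg.Agent.Classical Cfsg.Agent.Forms.Elusive

theorem pair_sum {a b : ℕ} {S : Multiset ℕ} (hS : S ≤ {a, b}) :
    S = 0 ∨ S.sum = a ∨ S.sum = b ∨ S.sum = a + b := by
  have h := Multiset.mem_powerset.2 hS
  simp only [Multiset.insert_eq_cons, Multiset.powerset_cons, Multiset.powerset_zero, ← Multiset.cons_zero,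
    Multiset.map_add, Multiset.map_cons, Multiset.map_zero, Multiset.mem_add, Multiset.mem_cons,
    Multiset.notMem_zero, or_false] at h
  rcases h with (rfl | rfl) | rfl | rfl <;> simp


/-- A necessary condition for every element of order p of PΩ⁺_n(q), q odd, to fix a hyperbolic `m`-space. Here `T = PΩ⁺_n(F)`, `n = 2d ≥ 8`, realised through `Ω⁺_n(q)`, the commutator subgroup of the isometry group of `Q = Σ xᵢyᵢ` over the field `F` with `q` elements; an element of `T` of prime order `r` is an element `x` of `Ω⁺_n(q)` with `x^r` scalar and `x` not scalar; `q` is odd; a nondegenerate `m`-space (even `m`) is a subspace on which the polar form of `Q` is nondegenerate; it is hyperbolic if it contains an `m/2`-dimensional subspace on which `Q` vanishes, elliptic otherwise. Let `m` be even with `2 ≤ m < n/2` and suppose `p` divides the number of hyperbolic `m`-spaces. If every element of `T` of order `p` fixes some hyperbolic `m`-space, then every partition of `n`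 into parts of size at most `p` in which every even part has even multiplicity contains (as a sub-multiset) a partition of `m` in which every even part has even multiplicity. -/
theorem result {F : Type*} [Field F] [Fintype F] {p : ℕ} [Fact p.Prime] [CharP F p] {q : ℕ} (hq : Fintype.card F = q) (hqodd : Odd q)
    (d m : ℕ) (hd : 4 ≤ d) (hm : 2 ≤ m) (hme : Even m) (hmd : m < d)
    (hpΩ : p ∣ Nat.card {W : Submodule F (Fin d ⊕ Fin d → F) // Module.finrank F ↥W = m ∧ Cfsg.Geo.IsNondegenerateOn (QuadraticMap.polar (Cfsg.quadFormPlus d F)) W ∧ Cfsg.Geo.IsPlusTypeOn (Cfsg.quadFormPlus d F) W}) :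
    (∀ x : GL (Fin d ⊕ Fin d) F, x ∈ Cfsg.Geo.omegaGL (Cfsg.quadFormPlus d F) →
      (∃ z : F, ((x ^ p : GL (Fin d ⊕ Fin d) F) : Matrix (Fin d ⊕ Fin d) (Fin d ⊕ Fin d) F) = z • (1 : Matrix (Fin d ⊕ Fin d) (Fin d ⊕ Fin d) F)) →
      (∀ z : F, (x : Matrix (Fin d ⊕ Fin d) (Fin d ⊕ Fin d) F) ≠ z • (1 : Matrix (Fin d ⊕ Fin d) (Fin d ⊕ Fin d) F)) →
      ∃ W : Submodule F (Fin d ⊕ Fin d → F), (Module.finrank F ↥W = m ∧ Cfsg.Geo.IsNondegenerateOn (QuadraticMap.polar (Cfsg.quadFormPlus d F)) W ∧ Cfsg.Geo.IsPlusTypeOn (Cfsg.quadFormPlus d F) W) ∧ W.map (Matrix.toLin' (x : Matrix (Fin d ⊕ Fin d) (Fin d ⊕ Fin d) F)) ≤ W) →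
    (∀ μ : Multiset ℕ, (∀ e ∈ μ, 0 < e ∧ e ≤ p) → (∀ e : ℕ, Even e → Even (μ.count e)) → μ.sum = 2 * d →
        ∃ ν : Multiset ℕ, ν ≤ μ ∧ ν.sum = m ∧ ∀ e : ℕ, Even e → Even (ν.count e)) := by
  classical
  subst hq
  have hp2 : p ≠ 2 := fun h => by
    subst h
    exact OrthForms.two_ne_zero_of_odd (F := F) hqodd (by exact_mod_cast CharP.cast_eq_zero F 2)
  have hpodd : Odd p := (Fact.out : p.Prime).odd_of_ne_two hp2
  have hp3 : 3 ≤ p := by have := (Fact.out : p.Prime).two_le; omega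
  intro hfix
  have hQ := PlusStd.plusQ_nondeg F d
  have H : ∀ x : GL (Fin d ⊕ Fin d) F, x ∈ Cfsg.Geo.omegaGL ⇑(PlusStd.plusQ F d) → x ^ p = 1 → x ≠ 1 → _ := fun x hx hxp hx1 => by
    rw [OrthForms.plusQ_eq] at hx
    refine hfix x hx ⟨1, by rw [hxp, Units.val_one, one_smul]⟩ fun z hz => hx1 ?_
    have h1 : z ^ p = 1 := by
      have h := congrArg (fun M : Matrix _ _ F => M (Sum.inl ⟨0, by omega⟩) (Sum.inl ⟨0, by omega⟩)) (congrArg Units.val hxp)
      simp [Units.val_pow_eq_pow_val, hz, _root_.smul_pow] at h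
      exact h
    have hz1 : z = 1 := sub_eq_zero.1 (eq_zero_of_pow_eq_zero (n := p) (by rw [sub_pow_char, h1, one_pow, sub_self]))
    exact Units.ext (by rw [hz, hz1, one_smul, Units.val_one])
  refine OrthUnipotent.odd_reduce hpodd hme (by omega) (by omega) fun μ hμ hev hsum hodd hone => ?_
  have hR := OrthUnipotent.exists_element p hp2 (PlusStd.plusQ F d) hQ μ hμ hev (by simp; omega) hodd
  obtain ⟨ν, h1, h2, h3, -⟩ := OrthUnipotent.split_of_fixes p hp2 (PlusStd.plusQ F d) hQ _ (m := m)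
    (fun W hW => ⟨hW.1, by rw [OrthForms.plusQ_eq]; exact hW.2.1⟩) H μ hR hone
  exact ⟨ν, h1, h2, h3⟩

end Cfsg.Agent.S5996
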