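import Cfsg.Statements.S5997
import Mathlib.FieldTheory.Finite.Basic
import Mathlib.GroupTheory.SpecificGroups.Quaternion

set_option autoImplicit false
open scoped MatrixGroups
open Cfsg

namespace Cfsg.Agent.S5997

open Matrix Polynomial

variable {F : Type*} [Field F]

local notation "MM" => Matrix (Fin 2) (Fin 2) F

/-- `M` is a scalar matrix. -/
def Sc (M : Matrix (Fin 2) (Fin 2) F) : Prop := ∃ c : F, M = c • (1 : Matrix (Fin 2) (Fin 2) F)

theorem ch (M : Matrix (Fin 2) (Fin 2) F) :
    M * M = M.trace • M - M.det • (1 : Matrix (Fin 2) (Fin 2) F) := by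
  ext i j
  fin_cases i <;> fin_cases j <;>
    simp [Matrix.mul_apply, Fin.sum_univ_two, Matrix.trace_fin_two, Matrix.det_fin_two] <;> ring

theorem span_of_commute {Z M : Matrix (Fin 2) (Fin 2) F} (hZ : ¬ Sc Z) (h : M * Z = Z * M) :
    ∃ x y : F, M = x • (1 : Matrix (Fin 2) (Fin 2) F) + y • Z := by
  have e : ∀ i j, (M * Z) i j = (Z * M) i j := fun i j => by rw [h]
  have e00 := e 0 0
  have e01 := e 0 1
  have e10 := e 1 0
  simp [Matrix.mul_apply, Fin.sum_univ_two] at e00 e01 e10
  by_cases h01 : Z 0 1 = 0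
  · by_cases h10 : Z 1 0 = 0
    · have hd : Z 0 0 - Z 1 1 ≠ 0 := fun hd => hZ ⟨Z 0 0, by
        ext i j
        fin_cases i <;> fin_cases j <;> simp [h01, h10]
        linear_combination -hd⟩
      have m01 : M 0 1 = 0 := by
        have : M 0 1 * (Z 0 0 - Z 1 1) = 0 := by rw [h01] at e01; linear_combination -e01
        exact (mul_eq_zero.1 this).resolve_right hd
      have m10 : M 1 0 = 0 := by
        have : M 1 0 * (Z 0 0 - Z 1 1) = 0 := by rw [h10] at e10; linear_combination e10
        exact (mul_eq_zero.1 this).resolve_right hd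
      refine ⟨M 0 0 - (M 0 0 - M 1 1) / (Z 0 0 - Z 1 1) * Z 0 0, (M 0 0 - M 1 1) / (Z 0 0 - Z 1 1), ?_⟩
      ext i j
      fin_cases i <;> fin_cases j <;> simp [h01, h10, m01, m10]
      field_simp
      ring
    · refine ⟨M 0 0 - M 1 0 / Z 1 0 * Z 0 0, M 1 0 / Z 1 0, ?_⟩
      ext i j
      fin_cases i <;> fin_cases j <;> simp [h10, h01]
      · rw [h01] at e00
        have : M 0 1 * Z 1 0 = 0 := by linear_combination e00
        exact (mul_eq_zero.1 this).resolve_right h10
      · field_simp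
        linear_combination e10
  · refine ⟨M 0 0 - M 0 1 / Z 0 1 * Z 0 0, M 0 1 / Z 0 1, ?_⟩
    ext i j
    fin_cases i <;> fin_cases j <;> simp [h01] <;> field_simp
    · linear_combination -e00
    · linear_combination -e01

theorem not_sc_smul_add {M : Matrix (Fin 2) (Fin 2) F} (hM : ¬ Sc M) {a b : F}
    (h : a • M = b • (1 : Matrix (Fin 2) (Fin 2) F)) : a = 0 := by
  by_contra ha
  exact hM ⟨a⁻¹ * b, by rw [← smul_smul, ← h, smul_smul, inv_mul_cancel₀ ha, one_smul]⟩

theorem smul_one_inj {a b : F} (h : a • (1 : Matrix (Fin 2) (Fin 2) F) = b • 1) : a = b := by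
  simpa using congrFun (congrFun h 0) 0

theorem sq_neg_one {M : Matrix (Fin 2) (Fin 2) F} (hM : ¬ Sc M) (h : M * M = -1) :
    M.trace = 0 ∧ M.det = 1 := by
  have h2 := ch M
  rw [h] at h2
  have h3 : M.trace • M = (M.det - 1) • (1 : Matrix (Fin 2) (Fin 2) F) := by
    rw [sub_smul, one_smul]
    linear_combination (norm := module) -h2
  have ht := not_sc_smul_add hM h3
  refine ⟨ht, ?_⟩
  rw [ht, zero_smul] at h3
  have := smul_one_inj (a := (0 : F)) (b := M.det - 1) (by rw [zero_smul]; exact h3)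
  linear_combination -this

/-- The matrix with columns `v, M v`. -/
def cyc (M : Matrix (Fin 2) (Fin 2) F) (v : Fin 2 → F) : Matrix (Fin 2) (Fin 2) F :=
  Matrix.of fun i j => ![v i, (M *ᵥ v) i] j

theorem cyc_mul (M : Matrix (Fin 2) (Fin 2) F) (v : Fin 2 → F) :
    M * cyc M v = cyc M v * !![0, -M.det; 1, M.trace] := by
  ext i j
  fin_cases i <;> fin_cases j <;>
    simp [cyc, Matrix.mul_apply, Matrix.mulVec, dotProduct, Fin.sum_univ_two, Matrix.trace_fin_two,
      Matrix.det_fin_two] <;> ring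

theorem exists_cyc {M : Matrix (Fin 2) (Fin 2) F} (hM : ¬ Sc M) : ∃ v, (cyc M v).det ≠ 0 := by
  by_cases h10 : M 1 0 = 0
  · by_cases h01 : M 0 1 = 0
    · refine ⟨![1, 1], ?_⟩
      simp [cyc, Matrix.det_fin_two, Matrix.mulVec, dotProduct, Fin.sum_univ_two, h10, h01]
      intro h
      exact hM ⟨M 0 0, by
        ext i j
        fin_cases i <;> fin_cases j <;> simp [h10, h01]
        linear_combination h⟩
    · exact ⟨![0, 1], by simp [cyc, Matrix.det_fin_two, Matrix.mulVec, dotProduct, Fin.sum_univ_two, h01]⟩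
  · exact ⟨![1, 0], by simp [cyc, Matrix.det_fin_two, Matrix.mulVec, dotProduct, Fin.sum_univ_two, h10]⟩

variable [Fintype F]

theorem exists_norm {M : Matrix (Fin 2) (Fin 2) F} (hodd : Fintype.card F % 2 = 1)
    (hd : 4 * M.det - M.trace ^ 2 ≠ 0) (c : F) :
    ∃ x y : F, (x • (1 : Matrix (Fin 2) (Fin 2) F) + y • M).det = c := by
  have h2 : (2 : F) ≠ 0 := by
    intro h2
    have hc : ringChar F = 2 := CharP.ringChar_of_prime_eq_zero Nat.prime_two (by exact_mod_cast h2)
    have := FiniteField.even_card_iff_char_two.1 hc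
    omega
  set D := (4 * M.det - M.trace ^ 2) / 4 with hD
  have h4 : (4 : F) ≠ 0 := by rw [show (4 : F) = 2 * 2 by norm_num]; exact mul_ne_zero h2 h2
  have hD0 : D ≠ 0 := div_ne_zero hd h4
  obtain ⟨a, b, hab⟩ := FiniteField.exists_root_sum_quadratic (f := (X : F[X]) ^ 2 - C c)
    (g := C D * X ^ 2) (degree_X_pow_sub_C two_pos c) (degree_C_mul_X_pow 2 hD0) hodd
  simp at hab
  refine ⟨a - M.trace / 2 * b, b, ?_⟩
  have hdet2 : ∀ x y : F, (x • (1 : Matrix (Fin 2) (Fin 2) F) + y • M).det =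
      x * x + x * y * M.trace + y * y * M.det := fun x y => by
    simp [Matrix.det_fin_two, Matrix.trace_fin_two]
    ring
  rw [hdet2]
  rw [hD] at hab
  field_simp at hab ⊢
  linear_combination hab

/-- Non-scalar matrices with the same invariants are conjugate by a matrix of determinant one. -/
theorem conjugate {A B : Matrix (Fin 2) (Fin 2) F} (hA : ¬ Sc A) (hB : ¬ Sc B)
    (hodd : Fintype.card F % 2 = 1) (ht : A.trace = B.trace) (hdet : A.det = B.det)
    (hd : 4 * B.det - B.trace ^ 2 ≠ 0) :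
    ∃ g ∈ Cfsg.Geo.specialLinear (Fin 2) F,
      A * (g : Matrix (Fin 2) (Fin 2) F) = (g : Matrix (Fin 2) (Fin 2) F) * B := by
  obtain ⟨v, hv⟩ := exists_cyc hA
  obtain ⟨w, hw⟩ := exists_cyc hB
  obtain ⟨x, y, hxy⟩ := exists_norm hodd hd ((cyc A v).det / (cyc B w).det)
  set Mc := x • (1 : Matrix (Fin 2) (Fin 2) F) + y • B with hMc
  have hcom : B * Mc = Mc * B := by
    rw [hMc, mul_add, add_mul, mul_smul_comm, smul_mul_assoc, mul_smul_comm, smul_mul_assoc, mul_one, one_mul]
  set Qb := Mc * cyc B w with hQb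
  have hQd : Qb.det = (cyc A v).det := by rw [hQb, Matrix.det_mul, hxy, div_mul_cancel₀ _ hw]
  have hu : IsUnit Qb.det := by rw [hQd]; exact isUnit_iff_ne_zero.2 hv
  have hP : (cyc A v * Qb⁻¹).det = 1 := by
    rw [Matrix.det_mul, Matrix.det_nonsing_inv, hQd, Ring.inverse_eq_inv', mul_inv_cancel₀ hv]
  refine ⟨Matrix.GeneralLinearGroup.mkOfDetNeZero (cyc A v * Qb⁻¹) (by rw [hP]; exact one_ne_zero), ?_, ?_⟩
  · rw [Cfsg.Geo.specialLinear, MonoidHom.mem_ker]
    exact Units.ext (by rw [Matrix.GeneralLinearGroup.val_det_apply, Units.val_one]; exact hP)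
  · show A * (cyc A v * Qb⁻¹) = cyc A v * Qb⁻¹ * B
    have hBQ : B * Qb = Qb * !![0, -B.det; 1, B.trace] := by
      rw [hQb, ← mul_assoc, hcom, mul_assoc, cyc_mul, ← mul_assoc]
    have h1 : Qb⁻¹ * B = !![0, -B.det; 1, B.trace] * Qb⁻¹ := by
      calc Qb⁻¹ * B = Qb⁻¹ * B * (Qb * Qb⁻¹) := by rw [Matrix.mul_nonsing_inv _ hu, mul_one]
        _ = Qb⁻¹ * (B * Qb) * Qb⁻¹ := by simp only [mul_assoc]
        _ = !![0, -B.det; 1, B.trace] * Qb⁻¹ := by
          rw [hBQ, ← mul_assoc, Matrix.nonsing_inv_mul _ hu, one_mul]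
    rw [← mul_assoc, cyc_mul, ht, hdet, mul_assoc, mul_assoc, h1]

/-- The quaternion data. -/
theorem quat (h2 : (2 : F) ≠ 0) (R : Subgroup (GL (Fin 2) F)) (hR : Nonempty (↥R ≃* QuaternionGroup 2)) :
    ∃ i j : GL (Fin 2) F, i ∈ R ∧ j ∈ R ∧ Subgroup.closure {i, j} = R ∧
      (i : MM) * i = -1 ∧ (j : MM) * j = -1 ∧ (j : MM) * i = -((i : MM) * j) ∧ ¬ Sc (i : MM) ∧ ¬ Sc (j : MM) := by
  obtain ⟨e⟩ := hR
  let q := R.subtype.comp e.symm.toMonoidHom
  have hq : Function.Injective q := R.subtype_injective.comp e.symm.injective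
  set i := q (QuaternionGroup.a 1) with hi
  set j := q (QuaternionGroup.xa 0) with hj
  set Z : MM := ((i * i : GL (Fin 2) F) : MM) with hZ
  have hZZ : Z * Z = 1 := by
    rw [hZ, ← Units.val_mul, hi, ← map_mul, ← map_mul,
      show (QuaternionGroup.a 1 * QuaternionGroup.a 1 * (QuaternionGroup.a 1 * QuaternionGroup.a 1) :
        QuaternionGroup 2) = 1 by decide, map_one, Units.val_one]
  have hZ1 : Z ≠ 1 := fun h => by
    have h' : i * i = 1 := Units.ext (h.trans Units.val_one.symm)
    rw [hi, ← map_mul, ← map_one q] at h'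
    exact absurd (hq h') (by decide)
  have hjj : ((j * j : GL (Fin 2) F) : MM) = Z := by
    rw [hZ, hi, hj, ← map_mul, ← map_mul]
    congr 2
  have hji : j * i = i * i * (i * j) := by
    rw [hi, hj, ← map_mul, ← map_mul, ← map_mul, ← map_mul]
    congr 1
  have hne : j * i ≠ i * j := fun h => by
    rw [hi, hj, ← map_mul, ← map_mul] at h
    exact absurd (hq h) (by decide)
  have hnot : ∀ {x y : GL (Fin 2) F}, x * y ≠ y * x → ¬ Sc (x : MM) := by
    rintro x y hxy ⟨c, hc⟩
    exact hxy (Units.ext (by rw [Units.val_mul, Units.val_mul, hc, smul_mul_assoc, mul_smul_comm, one_mul, mul_one]))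
  have sI : ¬ Sc (i : MM) := hnot (Ne.symm hne)
  have sJ : ¬ Sc (j : MM) := hnot hne
  have hm : Z = -1 := by
    by_contra hneg
    have hsc : ¬ Sc Z := by
      rintro ⟨c, hc⟩
      rw [hc, smul_mul_smul, one_mul] at hZZ
      have h1 : c * c = 1 := smul_one_inj (hZZ.trans (one_smul F (1 : MM)).symm)
      rcases mul_self_eq_one_iff.1 h1 with rfl | rfl
      · exact hZ1 (by rw [hc, one_smul])
      · exact hneg (by rw [hc, neg_smul, one_smul])
    have cI : (i : MM) * Z = Z * (i : MM) := by simp [hZ, mul_assoc]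
    have cJ : (j : MM) * Z = Z * (j : MM) := by rw [← hjj]; simp [mul_assoc]
    obtain ⟨a, b, hab⟩ := span_of_commute hsc cI
    obtain ⟨c, d, hcd⟩ := span_of_commute hsc cJ
    refine hne (Units.ext ?_)
    rw [Units.val_mul, Units.val_mul, hab, hcd]
    simp only [add_mul, mul_add, smul_mul_assoc, mul_smul_comm, one_mul, mul_one]
    module
  refine ⟨i, j, (e.symm (QuaternionGroup.a 1)).2, (e.symm (QuaternionGroup.xa 0)).2, ?_, ?_, ?_, ?_, sI, sJ⟩
  · have hgen : Subgroup.closure {QuaternionGroup.a (1 : ZMod (2 * 2)), QuaternionGroup.xa 0} = ⊤ := by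
      rw [Subgroup.eq_top_iff']
      have ha : ∀ k : ℕ, QuaternionGroup.a (k : ZMod (2 * 2)) ∈
          Subgroup.closure {QuaternionGroup.a (1 : ZMod (2 * 2)), QuaternionGroup.xa 0} := fun k => by
        rw [← QuaternionGroup.a_one_pow]
        exact pow_mem (Subgroup.subset_closure (by simp)) k
      intro x
      cases x with
      | a k => rw [← ZMod.natCast_zmod_val k]; exact ha _
      | xa k =>
        rw [show QuaternionGroup.xa k = QuaternionGroup.xa 0 * QuaternionGroup.a k by simp]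
        refine mul_mem (Subgroup.subset_closure (by simp)) ?_
        rw [← ZMod.natCast_zmod_val k]; exact ha _
    have h1 := congrArg (Subgroup.map q) hgen
    rw [MonoidHom.map_closure, Set.image_pair, ← hi, ← hj] at h1
    rw [h1, ← MonoidHom.range_eq_map, MonoidHom.range_comp,
      MonoidHom.range_eq_top.2 e.symm.surjective, ← MonoidHom.range_eq_map, Subgroup.range_subtype]
  · rw [← Units.val_mul, ← hZ, hm]
  · rw [← Units.val_mul, hjj, hm]
  · rw [← Units.val_mul, hji, Units.val_mul, Units.val_mul (a := i) (b := j), ← hZ, hm, neg_one_mul]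

theorem mem_normalizer_of_map {R : Subgroup (GL (Fin 2) F)} {w : GL (Fin 2) F}
    (h : ∀ x ∈ R, w * x * w⁻¹ ∈ R) : w ∈ Cfsg.Geo.subgroupNormalizer R := by
  rw [Cfsg.Geo.subgroupNormalizer, Subgroup.mem_normalizer_iff]
  have heq : R.map (MulAut.conj w).toMonoidHom = R := by
    refine Subgroup.eq_of_le_of_card_ge ?_ (le_of_eq ?_)
    · rintro _ ⟨x, hx, rfl⟩; exact h x hx
    · exact (Nat.card_congr (R.equivMapOfInjective _ (MulAut.conj w).injective).toEquiv)
  refine fun x => ⟨h x, fun hx => ?_⟩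
  rw [← heq] at hx
  obtain ⟨y, hy, e⟩ := hx
  rwa [(MulAut.conj w).injective (e : MulAut.conj w y = MulAut.conj w x)] at hy

/-- An element of order three of the normaliser. -/
theorem exists_omega (h2 : (2 : F) ≠ 0) (R : Subgroup (GL (Fin 2) F)) (hR : Nonempty (↥R ≃* QuaternionGroup 2)) :
    ∃ w ∈ Cfsg.Geo.subgroupNormalizer R, ¬ Sc (w : MM) ∧ (w : MM).trace = -1 ∧ (w : MM).det = 1 ∧
      ∃ z ∈ R, (z : MM) = -1 := by
  obtain ⟨i, j, hi, hj, hcl, hII, hJJ, hJI, sI, sJ⟩ := quat h2 R hR
  set I := (i : MM)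
  set J := (j : MM)
  set K := I * J with hK
  have hIJ : I * J = K := rfl
  have hKK : K * K = -1 := by
    calc K * K = I * (J * I) * J := by rw [hK]; simp only [mul_assoc]
      _ = -1 := by rw [hJI, mul_neg, neg_mul, ← mul_assoc I I, hII]; simp [mul_assoc, hJJ]
  have hIK : I * K = -J := by rw [hK, ← mul_assoc, hII, neg_one_mul]
  have hKI : K * I = J := by rw [hK, mul_assoc, hJI, mul_neg, ← mul_assoc, hII, neg_mul, one_mul, neg_neg]
  have hKJ : K * J = -I := by rw [hK, mul_assoc, hJJ, mul_neg, mul_one]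
  have hJK : J * K = I := by rw [hK, ← mul_assoc, hJI, neg_mul, mul_assoc, hJJ, mul_neg, mul_one, neg_neg]
  have hJI' : J * I = -K := hJI
  set W : MM := (2 : F)⁻¹ • (-1 + I + J + K) with hW
  have sK : ¬ Sc K := by
    rintro ⟨c, hc⟩
    refine sJ ⟨-c * (1 : F) * 0, ?_⟩
    have : J * K = K * J := by rw [hc, mul_smul_comm, smul_mul_assoc, mul_one, one_mul]
    rw [hJK, hKJ] at this
    exfalso
    refine sI ⟨0, ?_⟩
    have h3 : (2 : F) • I = 0 := by rw [two_smul]; nth_rewrite 2 [this]; exact add_neg_cancel I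
    rw [(smul_eq_zero.1 h3).resolve_left h2, zero_smul]
  have tI := (sq_neg_one sI hII).1
  have tJ := (sq_neg_one sJ hJJ).1
  have tK := (sq_neg_one sK hKK).1
  have htr : W.trace = -1 := by
    rw [hW, Matrix.trace_smul, Matrix.trace_add, Matrix.trace_add, Matrix.trace_add, Matrix.trace_neg,
      Matrix.trace_one, tI, tJ, tK]
    simp
    field_simp
  have hWI : W * I = K * W := by
    rw [hW, smul_mul_assoc, mul_smul_comm]
    simp only [add_mul, mul_add, neg_mul, mul_neg, one_mul, mul_one, hII, hJI', hKI, hKJ, hKK]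
    abel_nf
  have hWJ : W * J = I * W := by
    rw [hW, smul_mul_assoc, mul_smul_comm]
    simp only [add_mul, mul_add, neg_mul, mul_neg, one_mul, mul_one, hII, hJJ, hIJ, hIK, hKJ]
    abel_nf
  have hsc : ¬ Sc W := by
    rintro ⟨c, hc⟩
    have h5 : J * W = W * J := by rw [hc, mul_smul_comm, smul_mul_assoc, mul_one, one_mul]
    rw [hWJ] at h5
    rw [hc, mul_smul_comm, mul_smul_comm, mul_one, mul_one] at h5
    rcases eq_or_ne c 0 with rfl | hc0
    · rw [hc, zero_smul, Matrix.trace_zero] at htr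
      simp at htr
    · exact sK ⟨-1, by
        rw [hK, smul_right_injective MM hc0 h5, hII, neg_smul, one_smul]⟩
  have hWW : W * W = -W - 1 := by
    rw [hW, smul_mul_smul]
    simp only [add_mul, mul_add, neg_mul, mul_neg, one_mul, mul_one, neg_neg, hII, hJJ, hKK, hJI', hIJ,
      hKI, hKJ, hIK, hJK]
    match_scalars <;> field_simp <;> ring
  have hdet : W.det = 1 := by
    have h3 := ch W
    rw [hWW, htr] at h3
    refine smul_one_inj (F := F) ?_
    rw [one_smul]
    linear_combination (norm := module) h3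
  set w := Matrix.GeneralLinearGroup.mkOfDetNeZero W (by rw [hdet]; exact one_ne_zero) with hw
  refine ⟨w, mem_normalizer_of_map ?_, hsc, htr, hdet, i * i, mul_mem hi hi, by rw [Units.val_mul]; exact hII⟩
  have hle : R ≤ R.comap (MulAut.conj w).toMonoidHom := by
    conv_lhs => rw [← hcl]
    rw [Subgroup.closure_le]
    intro x hx
    rcases hx with hx | hx <;> subst x
    · show w * _ * w⁻¹ ∈ R
      have : w * i = i * j * w := Units.ext (by rw [Units.val_mul, Units.val_mul, Units.val_mul]; exact hWI)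
      rw [this, mul_inv_cancel_right]; exact mul_mem hi hj
    · show w * _ * w⁻¹ ∈ R
      have : w * j = i * w := Units.ext (by rw [Units.val_mul, Units.val_mul]; exact hWJ)
      rw [this, mul_inv_cancel_right]; exact hi
  exact fun x hx => hle hx

/-- An element of the normaliser whose `r`-th power is trivial, `r ≥ 5` prime, is scalar. -/
theorem sc_of_normalize (h2 : (2 : F) ≠ 0) (R : Subgroup (GL (Fin 2) F)) (hR : Nonempty (↥R ≃* QuaternionGroup 2))
    (r : ℕ) [hr : Fact r.Prime] (hr5 : 5 ≤ r) {x : GL (Fin 2) F}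
    (hx : x ∈ Cfsg.Geo.subgroupNormalizer R) (hxr : x ^ r = 1) : Sc (x : MM) := by
  obtain ⟨i, j, hi, hj, hcl, hII, hJJ, hJI, sI, sJ⟩ := quat h2 R hR
  rw [Cfsg.Geo.subgroupNormalizer, Subgroup.mem_normalizer_iff] at hx
  have : Finite R := inferInstance
  have hmem : ∀ y ∈ Subgroup.zpowers x, ∀ u ∈ R, y * u * y⁻¹ ∈ R := by
    intro y hy u hu
    have hle : Subgroup.zpowers x ≤ Subgroup.normalizer (R : Set (GL (Fin 2) F)) :=
      Subgroup.zpowers_le.2 (Subgroup.mem_normalizer_iff.2 hx)
    exact (Subgroup.mem_normalizer_iff.1 (hle hy) u).1 hu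
  letI : MulAction (Subgroup.zpowers x) R :=
    { smul := fun y u => ⟨y.1 * u.1 * y.1⁻¹, hmem y.1 y.2 u.1 u.2⟩
      one_smul := fun u => Subtype.ext (by change (1 : GL (Fin 2) F) * u.1 * 1⁻¹ = u.1; group)
      mul_smul := fun y z u => Subtype.ext (by
        change (y.1 * z.1) * u.1 * (y.1 * z.1)⁻¹ = y.1 * (z.1 * u.1 * z.1⁻¹) * y.1⁻¹; group) }
  have hP : IsPGroup r (Subgroup.zpowers x) := by
    have hd : Nat.card (Subgroup.zpowers x) ∣ r := by
      rw [Nat.card_zpowers]; exact orderOf_dvd_of_pow_eq_one hxr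
    rcases (Nat.dvd_prime hr.out).1 hd with h | h
    · exact IsPGroup.of_card (n := 0) (by rw [h, pow_zero])
    · exact IsPGroup.of_card (n := 1) (by rw [h, pow_one])
  let C : Subgroup R :=
    { carrier := {u | x * (u : GL (Fin 2) F) = u * x}
      one_mem' := by simp
      mul_mem' := fun {a b} ha hb => by
        show x * ((a : GL (Fin 2) F) * b) = a * b * x
        rw [← mul_assoc, (ha : x * _ = _), mul_assoc, (hb : x * _ = _), mul_assoc]
      inv_mem' := fun {a} ha => (show Commute x (a : GL (Fin 2) F) from ha).inv_right }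
  have hfix : MulAction.fixedPoints (Subgroup.zpowers x) R = (C : Set R) := by
    ext u
    rw [MulAction.mem_fixedPoints]
    constructor
    · intro h
      have h1 := congrArg Subtype.val (h ⟨x, Subgroup.mem_zpowers x⟩)
      change x * u.1 * x⁻¹ = u.1 at h1
      exact mul_inv_eq_iff_eq_mul.1 h1
    · intro h y
      obtain ⟨k, hk⟩ := y.2
      apply Subtype.ext
      change y.1 * u.1 * y.1⁻¹ = u.1
      rw [← hk]
      have h1 : Commute (x ^ k) u.1 := (show Commute x u.1 from h).zpow_left k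
      rw [h1.eq, mul_inv_cancel_right]
  have hmod := hP.card_modEq_card_fixedPoints R
  have hcard : Nat.card R = 8 := by
    obtain ⟨e⟩ := hR
    rw [Nat.card_congr e.toEquiv, Nat.card_eq_fintype_card, QuaternionGroup.card]
  rw [hfix, show Nat.card ↥(C : Set R) = Nat.card C from rfl, hcard] at hmod
  have hz : (⟨i * i, mul_mem hi hi⟩ : R) ∈ C := by
    show x * (i * i) = i * i * x
    refine Units.ext ?_
    rw [Units.val_mul, Units.val_mul (a := i * i), Units.val_mul, hII, mul_neg, neg_mul, mul_one, one_mul]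
  have hC2 : 2 ≤ Nat.card C := by
    by_contra hlt
    have hle : Nat.card C ≤ 1 := by omega
    have := (Subgroup.card_le_one_iff_eq_bot C).1 hle
    rw [this, Subgroup.mem_bot] at hz
    have h1 : ((i * i : GL (Fin 2) F) : MM) = 1 := by
      rw [show i * i = 1 from congrArg Subtype.val hz, Units.val_one]
    rw [Units.val_mul, hII] at h1
    have h3 := congrFun (congrFun h1 0) 0
    simp at h3
    exact h2 (by linear_combination -h3)
  have hdvd : Nat.card C ∣ 8 := hcard ▸ Subgroup.card_subgroup_dvd_card C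
  have hle : Nat.card C ≤ 8 := Nat.le_of_dvd (by norm_num) hdvd
  have hCt : C = ⊤ := by
    refine Subgroup.eq_top_of_card_eq _ ?_
    rw [hcard]
    by_contra hne
    have hd := (Nat.modEq_iff_dvd' hle).1 hmod.symm
    have : Nat.card C = 2 ∨ Nat.card C = 4 := by
      interval_cases h : Nat.card C <;> omega
    rcases this with h | h <;> rw [h] at hd
    · have := Nat.le_of_dvd (by norm_num) hd
      interval_cases r <;> revert hd <;> first | decide | exact fun _ => absurd hr.out (by norm_num)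
    · have := Nat.le_of_dvd (by norm_num) hd
      omega
  have hcI : x * i = i * x := (show (⟨i, hi⟩ : R) ∈ C from hCt ▸ Subgroup.mem_top _)
  have hcJ : x * j = j * x := (show (⟨j, hj⟩ : R) ∈ C from hCt ▸ Subgroup.mem_top _)
  obtain ⟨a, b, hab⟩ := span_of_commute sI (show (x : MM) * i = i * x by rw [← Units.val_mul, hcI, Units.val_mul])
  have hJx : (x : MM) * j = j * x := by rw [← Units.val_mul, hcJ, Units.val_mul]
  rw [hab, add_mul, mul_add, smul_mul_assoc, mul_smul_comm, smul_mul_assoc, mul_smul_comm, one_mul,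
    mul_one, hJI, add_right_inj, smul_neg] at hJx
  have h3 : (2 * b) • ((i : MM) * j) = 0 := by
    rw [mul_smul, two_smul]; nth_rewrite 2 [hJx]; exact add_neg_cancel _
  have hij : (i : MM) * j ≠ 0 := by
    intro h0
    have := congrArg Matrix.det h0
    rw [Matrix.det_mul, (sq_neg_one sI hII).2, (sq_neg_one sJ hJJ).2] at this
    simp at this
  have hb : b = 0 := (mul_eq_zero.1 ((smul_eq_zero.1 h3).resolve_right hij)).resolve_left h2
  exact ⟨a, by rw [hab, hb, zero_smul, add_zero]⟩

/-- Elements of prime order of PSL_2(p) and the normalizer of a quaternion subgroup. Here `T = PSL_2(F)` for the field `F` with `p` elements, `p ≥ 5` prime; `R` is a subgroup of GL_2(F) isomorphic to the quaternion group of order 8 (an absolutely irreducible 2-group of symplectic type), and `H` is the subgroup of matrices of determinant 1 normalizing `R` — a subgroup of type 2^{1+2}.O₂⁻(2), isomorphic modulo scalars to A₄ or S₄ (maximality is not assumed). Ω is the set of cosets of `H` in `T`, so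 an element of `T` of prime order `r` (a matrix `x` of determinant 1 with `x^r` scalar, `x` not scalar) fixes a point of Ω exactly when some conjugate of `x` by a matrix of determinant 1 normalizes `R`. Let `r` be a prime dividing the index of `H`. Then every element of `T` of order `r` fixes a point of Ω if and only if `r = 2` or `r = 3`. -/
theorem result {F : Type*} [Field F] [Fintype F] {p : ℕ} [Fact p.Prime] [CharP F p] (hF : Fintype.card F = p) (hp : 5 ≤ p)
    (R : Subgroup (GL (Fin 2) F)) (hR : Nonempty (↥R ≃* QuaternionGroup 2))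
    (r : ℕ) [Fact r.Prime]
    (hΩ : r ∣ (Cfsg.Geo.subgroupNormalizer R).relIndex (Cfsg.Geo.specialLinear (Fin 2) F)) :
    (∀ x ∈ Cfsg.Geo.specialLinear (Fin 2) F, (∃ z : F, ((x ^ r : GL (Fin 2) F) : Matrix (Fin 2) (Fin 2) F) = z • (1 : Matrix (Fin 2) (Fin 2) F)) →
      (∀ z : F, (x : Matrix (Fin 2) (Fin 2) F) ≠ z • (1 : Matrix (Fin 2) (Fin 2) F)) →
      ∃ g ∈ Cfsg.Geo.specialLinear (Fin 2) F, g⁻¹ * x * g ∈ Cfsg.Geo.subgroupNormalizer R) ↔ (r = 2 ∨ r = 3) := by
  have h2 : (2 : F) ≠ 0 := by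
    intro h
    have h' : ((2 : ℕ) : F) = 0 := by exact_mod_cast h
    rw [CharP.cast_eq_zero_iff F p] at h'
    exact absurd (Nat.le_of_dvd (by norm_num) h') (by omega)
  have h3 : (3 : F) ≠ 0 := by
    intro h
    have h' : ((3 : ℕ) : F) = 0 := by exact_mod_cast h
    rw [CharP.cast_eq_zero_iff F p] at h'
    exact absurd (Nat.le_of_dvd (by norm_num) h') (by omega)
  have hodd : Fintype.card F % 2 = 1 := by
    rw [hF]
    rcases (Fact.out : p.Prime).eq_two_or_odd with h | h <;> omega
  have hdet : ∀ x ∈ Cfsg.Geo.specialLinear (Fin 2) F, (x : Matrix (Fin 2) (Fin 2) F).det = 1 := fun x hx => by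
    have := congrArg Units.val (MonoidHom.mem_ker.1 hx)
    simpa using this
  constructor
  · intro hall
    by_contra hne
    push Not at hne
    have hr5 : 5 ≤ r := by
      have := (Fact.out : r.Prime).two_le
      by_contra hlt
      have : r = 4 := by omega
      subst this
      exact absurd (Fact.out : Nat.Prime 4) (by norm_num)
    obtain ⟨y, hy⟩ := exists_prime_orderOf_dvd_card' (G := ↥(Cfsg.Geo.specialLinear (Fin 2) F)) r
      (hΩ.trans (Subgroup.relIndex_dvd_card _ _))
    have hyr : (y : GL (Fin 2) F) ^ r = 1 := by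
      rw [← SubgroupClass.coe_pow, ← hy, pow_orderOf_eq_one, OneMemClass.coe_one]
    have hsc : ¬ Sc ((y : GL (Fin 2) F) : Matrix (Fin 2) (Fin 2) F) := by
      rintro ⟨c, hc⟩
      have h1 := hdet _ y.2
      rw [hc] at h1
      simp [Matrix.det_smul] at h1
      have : orderOf y ∣ 2 := orderOf_dvd_of_pow_eq_one (Subtype.ext (Units.ext (by
        rw [SubgroupClass.coe_pow, Units.val_pow_eq_pow_val, hc, _root_.smul_pow, one_pow]
        rcases h1 with rfl | rfl <;> simp)))
      rw [hy] at this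
      have := Nat.le_of_dvd (by norm_num) this
      omega
    obtain ⟨g, -, hg⟩ := hall y y.2 ⟨1, by rw [hyr, Units.val_one, one_smul]⟩ (fun c h => hsc ⟨c, h⟩)
    have hgr : (g⁻¹ * (y : GL (Fin 2) F) * g) ^ r = 1 := by
      have := conj_pow (i := r) (a := g⁻¹) (b := (y : GL (Fin 2) F))
      rw [inv_inv] at this
      rw [this, hyr]; group
    obtain ⟨c, hc⟩ := sc_of_normalize h2 R hR r hr5 hg hgr
    refine hsc ⟨c, ?_⟩
    have e : (y : GL (Fin 2) F) = g * (g⁻¹ * y * g) * g⁻¹ := by group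
    rw [e, Units.val_mul, Units.val_mul, hc, mul_smul_comm, mul_one, smul_mul_assoc, ← Units.val_mul,
      mul_inv_cancel, Units.val_one]
  · intro hr x hx hxr hxs
    obtain ⟨c, hc⟩ := hxr
    have hd := hdet x hx
    have hns : ¬ Sc (x : Matrix (Fin 2) (Fin 2) F) := fun ⟨c, h⟩ => hxs c h
    obtain ⟨i, j, hi, hj, -, hII, -, -, sI, -⟩ := quat h2 R hR
    obtain ⟨w, hw, sW, tW, dW, z, hz, hzv⟩ := exists_omega h2 R hR
    obtain ⟨B, hB, sB, hBt, hBd, hBnd⟩ : ∃ B ∈ Cfsg.Geo.subgroupNormalizer R,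
        ¬ Sc (B : Matrix (Fin 2) (Fin 2) F) ∧
        (x : Matrix (Fin 2) (Fin 2) F).trace = (B : Matrix (Fin 2) (Fin 2) F).trace ∧
        (x : Matrix (Fin 2) (Fin 2) F).det = (B : Matrix (Fin 2) (Fin 2) F).det ∧
        4 * (B : Matrix (Fin 2) (Fin 2) F).det - (B : Matrix (Fin 2) (Fin 2) F).trace ^ 2 ≠ 0 := by
      have hle : R ≤ Cfsg.Geo.subgroupNormalizer R := Subgroup.le_normalizer
      have hch := ch (x : Matrix (Fin 2) (Fin 2) F)
      rw [hd, one_smul] at hch
      rcases hr with rfl | rfl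
      · rw [Units.val_pow_eq_pow_val, pow_two, hch] at hc
        have ht := not_sc_smul_add hns (a := (x : Matrix (Fin 2) (Fin 2) F).trace) (b := c + 1)
          (by rw [add_smul, one_smul, ← hc]; abel)
        refine ⟨i, hle hi, sI, ?_, ?_, ?_⟩
        · rw [ht, (sq_neg_one sI hII).1]
        · rw [hd, (sq_neg_one sI hII).2]
        · rw [(sq_neg_one sI hII).1, (sq_neg_one sI hII).2]
          have : (4 : F) ≠ 0 := by rw [show (4 : F) = 2 * 2 by norm_num]; exact mul_ne_zero h2 h2
          simpa using this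
      · set t := (x : Matrix (Fin 2) (Fin 2) F).trace with ht
        have hcube : ((x ^ 3 : GL (Fin 2) F) : Matrix (Fin 2) (Fin 2) F) =
            (t * t - 1) • (x : Matrix (Fin 2) (Fin 2) F) - t • (1 : Matrix (Fin 2) (Fin 2) F) := by
          rw [Units.val_pow_eq_pow_val, pow_succ, pow_two, hch, sub_mul, smul_mul_assoc, one_mul, hch]
          module
        rw [hcube] at hc
        have ht1 := not_sc_smul_add hns (a := t * t - 1) (b := c + t)
          (by rw [add_smul, ← hc]; abel)
        rcases mul_self_eq_one_iff.1 (sub_eq_zero.1 ht1) with h | h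
        · refine ⟨z * w, mul_mem (hle hz) hw, ?_, ?_, ?_, ?_⟩ <;> rw [Units.val_mul, hzv, neg_one_mul]
          · rintro ⟨a, ha⟩
            exact sW ⟨-a, by rw [neg_smul, ← ha, neg_neg]⟩
          · rw [Matrix.trace_neg, tW, h, neg_neg]
          · rw [hd, Matrix.det_neg, dW]; simp
          · rw [Matrix.trace_neg, Matrix.det_neg, tW, dW]
            simp
            intro h4; exact h3 (by linear_combination h4)
        · refine ⟨w, hw, sW, by rw [tW, h], by rw [hd, dW], ?_⟩
          rw [tW, dW]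
          intro h4; exact h3 (by linear_combination h4)
    obtain ⟨g, hg, hgB⟩ := conjugate hns sB hodd hBt hBd hBnd
    refine ⟨g, hg, ?_⟩
    have : g⁻¹ * x * g = B := by
      rw [mul_assoc]
      exact inv_mul_eq_iff_eq_mul.2 (Units.ext (by rw [Units.val_mul, Units.val_mul]; exact hgB))
    rw [this]; exact hB


end Cfsg.Agent.S5997
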