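import Cfsg.Statements.S5998
import Cfsg.Agent.Lib.Forms.Elusive.Involution
import Cfsg.Agent.Lib.Forms.Elusive.SubfieldThree
import Cfsg.Agent.Lib.Classical.Linear
import Cfsg.Agent.S5971

set_option autoImplicit false
open scoped MatrixGroups
open Cfsg

namespace Cfsg.Agent.S5998


open Cfsg.Agent.Forms.Elusive Module Matrix

variable {F : Type*} [Field F]


/-- a linear automorphism as an element of `GL` -/
noncomputable def ofEquiv (e : (Fin 3 → F) ≃ₗ[F] (Fin 3 → F)) : GL (Fin 3) F :=
  ⟨LinearMap.toMatrix' e.toLinearMap, LinearMap.toMatrix' e.symm.toLinearMap,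
    by rw [← LinearMap.toMatrix'_comp]; simp, by rw [← LinearMap.toMatrix'_comp]; simp⟩

theorem ofEquiv_mulVec (e : (Fin 3 → F) ≃ₗ[F] (Fin 3 → F)) (v : Fin 3 → F) :
    (ofEquiv e : Matrix (Fin 3) (Fin 3) F) *ᵥ v = e v := by
  simp [ofEquiv, LinearMap.toMatrix'_mulVec]

theorem eq_of_basis (b : Basis (Fin 3) F (Fin 3 → F)) {g h : GL (Fin 3) F}
    (e : ∀ i, (g : Matrix (Fin 3) (Fin 3) F) *ᵥ b i = (h : Matrix (Fin 3) (Fin 3) F) *ᵥ b i) : g = h := by
  refine Units.ext (Matrix.toLin'.injective (b.ext fun i => ?_))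
  rw [Matrix.toLin'_apply, Matrix.toLin'_apply, e]

theorem mul_mulVec (g h : GL (Fin 3) F) (v : Fin 3 → F) :
    ((g * h : GL (Fin 3) F) : Matrix (Fin 3) (Fin 3) F) *ᵥ v =
      (g : Matrix (Fin 3) (Fin 3) F) *ᵥ ((h : Matrix (Fin 3) (Fin 3) F) *ᵥ v) := by
  rw [Units.val_mul, Matrix.mulVec_mulVec]

theorem pow_eigen (g : GL (Fin 3) F) {v : Fin 3 → F} {c : F}
    (h : (g : Matrix (Fin 3) (Fin 3) F) *ᵥ v = c • v) (k : ℕ) :
    ((g ^ k : GL (Fin 3) F) : Matrix (Fin 3) (Fin 3) F) *ᵥ v = c ^ k • v := by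
  induction k with
  | zero => simp
  | succ k ih => rw [pow_succ, mul_mulVec, h, Matrix.mulVec_smul, ih, smul_smul, pow_succ, mul_comm]

theorem root_cases {ω x : F} (hω : ω ^ 3 = 1) (hω1 : ω ≠ 1) (hx : x ^ 3 = 1) : ∃ k < 3, x = ω ^ k := by
  have h2 : ω ^ 2 + ω + 1 = 0 := by
    have : (ω - 1) * (ω ^ 2 + ω + 1) = 0 := by linear_combination hω
    exact (mul_eq_zero.1 this).resolve_left (sub_ne_zero.2 hω1)
  have : (x - 1) * (x - ω) * (x - ω ^ 2) = 0 := by
    linear_combination hx - hω + (x * ω - x ^ 2) * h2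
  rcases mul_eq_zero.1 this with h | h
  · rcases mul_eq_zero.1 h with h | h
    · exact ⟨0, by norm_num, by rw [pow_zero]; exact sub_eq_zero.1 h⟩
    · exact ⟨1, by norm_num, by rw [pow_one]; exact sub_eq_zero.1 h⟩
  · exact ⟨2, by norm_num, sub_eq_zero.1 h⟩

theorem pow_inj {ω : F} (hω : ω ^ 3 = 1) (hω1 : ω ≠ 1) :
    Function.Injective fun i : Fin 3 => ω ^ (i : ℕ) := by
  have hω0 : ω ≠ 0 := fun e => by rw [e] at hω; simp at hω
  have h21 : ω ^ 2 ≠ 1 := fun e => hω1 (by linear_combination hω - ω * e)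
  have h2ω : ω ^ 2 ≠ ω := fun e => hω1 (mul_left_cancel₀ hω0 (by rw [mul_one, ← pow_two]; exact e))
  intro i j e
  fin_cases i <;> fin_cases j <;> first
    | rfl
    | (exfalso; simp [hω1, h21, h2ω, Ne.symm hω1, Ne.symm h21, Ne.symm h2ω] at e)

/-- commuting with an element with three different eigenvalues -/
theorem eigen_of_comm {ω : F} (hω : ω ^ 3 = 1) (hω1 : ω ≠ 1) (b : Basis (Fin 3) F (Fin 3 → F))
    {z g : GL (Fin 3) F} (hz : ∀ i, (z : Matrix (Fin 3) (Fin 3) F) *ᵥ b i = ω ^ (i : ℕ) • b i)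
    (hc : g * z = z * g) (i : Fin 3) :
    ∃ d : F, (g : Matrix (Fin 3) (Fin 3) F) *ᵥ b i = d • b i := by
  refine ⟨b.repr ((g : Matrix (Fin 3) (Fin 3) F) *ᵥ b i) i, ?_⟩
  set w := (g : Matrix (Fin 3) (Fin 3) F) *ᵥ b i with hw
  have h1 : (z : Matrix (Fin 3) (Fin 3) F) *ᵥ w = ω ^ (i : ℕ) • w := by
    rw [hw, ← mul_mulVec, ← hc, mul_mulVec, hz, Matrix.mulVec_smul]
  have hj : ∀ j, j ≠ i → b.repr w j = 0 := by
    intro j hj
    have h2 : (z : Matrix (Fin 3) (Fin 3) F) *ᵥ w = ∑ k, (b.repr w k * ω ^ (k : ℕ)) • b k := by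
      conv_lhs => rw [← b.sum_repr w, Matrix.mulVec_sum]
      simp only [Matrix.mulVec_smul, hz, smul_smul]
    have h3 := congrArg (fun v => b.repr v j) h2
    rw [b.repr_sum_self, h1, map_smul, Finsupp.smul_apply, smul_eq_mul] at h3
    have h4 : (ω ^ (i : ℕ) - ω ^ (j : ℕ)) * b.repr w j = 0 := by linear_combination h3
    exact (mul_eq_zero.1 h4).resolve_left (sub_ne_zero.2 fun e => hj (pow_inj hω hω1 e).symm)
  conv_lhs => rw [← b.sum_repr w]
  exact Finset.sum_eq_single i (fun j _ hj' => by rw [hj j hj', zero_smul]) (by simp)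

/-- the standard shape of an extraspecial group of order `27` -/
theorem std [Fintype F] (hp3 : Fintype.card F % 3 = 1) (R : Subgroup (GL (Fin 3) F)) (hR : Nat.card R = 27)
    (hRe : Monoid.exponent R = 3) (hRna : ¬ IsMulCommutative R) :
    ∃ (ω : F) (b : Basis (Fin 3) F (Fin 3 → F)) (A B : GL (Fin 3) F), ω ^ 3 = 1 ∧ ω ≠ 1 ∧ A ∈ R ∧ B ∈ R ∧
      (∀ i, (A : Matrix (Fin 3) (Fin 3) F) *ᵥ b i = ω ^ (i : ℕ) • b i) ∧
      (∀ i, (B : Matrix (Fin 3) (Fin 3) F) *ᵥ b i = b (i + 1)) ∧ Subgroup.closure {A, B} = R := by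
  classical
  haveI : Fact (Nat.Prime 3) := ⟨Nat.prime_three⟩
  obtain ⟨ω₀, hω₀⟩ := exists_prime_orderOf_dvd_card' (G := Fˣ) 3
    (by rw [Nat.card_units, Nat.card_eq_fintype_card]; omega)
  have hw01 : (ω₀ : F) ≠ 1 := fun e => by rw [Units.val_eq_one.1 e, orderOf_one] at hω₀; omega
  have hw03 : (ω₀ : F) ^ 3 = 1 := by
    rw [← Units.val_pow_eq_pow_val, ← hω₀, pow_orderOf_eq_one, Units.val_one]
  have hpg : IsPGroup 3 R := IsPGroup.of_card (n := 3) (by rw [hR]; norm_num)
  haveI : Nontrivial R := Finite.one_lt_card_iff_nontrivial.1 (by rw [hR]; norm_num)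
  have hcube : ∀ g ∈ R, g ^ 3 = 1 := fun g hg => by
    have := Monoid.pow_exponent_eq_one (⟨g, hg⟩ : R)
    rw [hRe] at this
    exact congrArg Subtype.val this
  have hQ : ∀ a b : R, a * b * a⁻¹ * b⁻¹ ∈ Subgroup.center R := by
    haveI := hpg.center_nontrivial
    have h1 := Subgroup.card_eq_card_quotient_mul_card_subgroup (Subgroup.center R)
    rw [hR] at h1
    have h2 : 1 < Nat.card (Subgroup.center R) := Finite.one_lt_card
    obtain ⟨k, hk, hk'⟩ := (Nat.dvd_prime_pow Nat.prime_three).1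
      (show Nat.card (R ⧸ Subgroup.center R) ∣ 3 ^ 3 from ⟨_, by rw [← h1]; norm_num⟩)
    have hk2 : k ≤ 2 := by
      by_contra hh
      obtain rfl : k = 3 := by omega
      rw [hk'] at h1; nlinarith
    intro a b
    rw [← QuotientGroup.eq_one_iff]
    have hcomm : ∀ x y : R ⧸ Subgroup.center R, x * y = y * x := by
      rcases (by omega : k ≤ 1 ∨ k = 2) with hk1 | rfl
      · haveI : IsCyclic (R ⧸ Subgroup.center R) := by
          rcases (by omega : k = 0 ∨ k = 1) with rfl | rfl
          · haveI := (Nat.card_eq_one_iff_unique.1 (show Nat.card (R ⧸ Subgroup.center R) = 1 by rw [hk']; norm_num)).1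
            infer_instance
          · exact isCyclic_of_prime_card (p := 3) (α := R ⧸ Subgroup.center R) (by rw [hk']; norm_num)
        intro x y
        letI := IsCyclic.commGroup (α := R ⧸ Subgroup.center R); exact mul_comm x y
      · exact IsPGroup.commutative_of_card_eq_prime_sq (p := 3) hk'
    simp only [QuotientGroup.mk_mul, QuotientGroup.mk_inv]
    rw [hcomm (a : R ⧸ Subgroup.center R)]
    group
  obtain ⟨a, b, hab⟩ : ∃ a b : R, a * b ≠ b * a := by
    by_contra hh
    push Not at hh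
    exact hRna ⟨⟨hh⟩⟩
  set z := a * b * a⁻¹ * b⁻¹ with hz
  have hzc := Subgroup.mem_center_iff.1 (hQ a b)
  have hz1 : z ≠ 1 := fun e => hab (by
    calc a * b = z * (b * a) := by rw [hz]; group
      _ = b * a := by rw [e, one_mul])
  set Z : GL (Fin 3) F := (z : GL (Fin 3) F) with hZ
  have hZd : (Z : Matrix (Fin 3) (Fin 3) F).det = 1 := by
    have h := congrArg Units.val (map_mul (Matrix.GeneralLinearGroup.det (n := Fin 3) (R := F)) Z 1)
    have h2 : Matrix.GeneralLinearGroup.det Z = 1 := by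
      rw [hZ, hz, Subgroup.coe_mul, Subgroup.coe_mul, Subgroup.coe_mul, Subgroup.coe_inv, Subgroup.coe_inv,
        map_mul, map_mul, map_mul, map_inv, map_inv, mul_inv_cancel_comm, mul_inv_cancel]
    rw [← Matrix.GeneralLinearGroup.val_det_apply, h2, Units.val_one]
  have hZ3 : ∀ v, ((Matrix.toLin' (Z : Matrix (Fin 3) (Fin 3) F)) ^ 3) v = v := fun v => by
    rw [← Matrix.toLin'_pow, ← Units.val_pow_eq_pow_val, hcube Z z.2, Units.val_one, Matrix.toLin'_one,
      LinearMap.id_apply]
  obtain ⟨ω, hωs⟩ : ∃ ω : F, (Z : Matrix (Fin 3) (Fin 3) F) = ω • 1 := by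
    rcases S5971.eigen_cases hZ3 hw03 hw01 with ⟨bz, hbz⟩ | ⟨c, d, hcd, hc, hd, hh⟩
    · exfalso
      have hbz' : ∀ i, (Z : Matrix (Fin 3) (Fin 3) F) *ᵥ bz i = (ω₀ : F) ^ (i : ℕ) • bz i := fun i => by
        rw [← Matrix.toLin'_apply]; exact hbz i
      have hcA : (a : GL (Fin 3) F) * Z = Z * a := congrArg Subtype.val (hzc a)
      have hcB : (b : GL (Fin 3) F) * Z = Z * b := congrArg Subtype.val (hzc b)
      refine hab (Subtype.ext (eq_of_basis bz fun i => ?_))
      obtain ⟨da, hda⟩ := eigen_of_comm hw03 hw01 bz hbz' hcA i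
      obtain ⟨db, hdb⟩ := eigen_of_comm hw03 hw01 bz hbz' hcB i
      rw [Subgroup.coe_mul, Subgroup.coe_mul, mul_mulVec, mul_mulVec, hda, hdb, Matrix.mulVec_smul,
        Matrix.mulVec_smul, hda, hdb, smul_smul, smul_smul, mul_comm]
    · obtain ⟨s, t, Bz, hl, hr, hdet⟩ := S5971.two_eigen hcd hh
      have hst : s + t = 3 := by
        have := (Module.finrank_eq_card_basis Bz).symm
        simpa using this
      rw [LinearMap.det_toLin', hZd] at hdet
      rcases (by omega : s = 0 ∨ t = 0 ∨ (s = 1 ∧ t = 2) ∨ (s = 2 ∧ t = 1)) with h | h | ⟨rfl, rfl⟩ | ⟨rfl, rfl⟩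
      · subst h
        refine ⟨d, Matrix.toLin'.injective (Bz.ext fun i => ?_)⟩
        rcases i with i | i
        · exact i.elim0
        · rw [hr]; simp
      · subst h
        refine ⟨c, Matrix.toLin'.injective (Bz.ext fun i => ?_)⟩
        rcases i with i | i
        · rw [hl]; simp
        · exact i.elim0
      · exact absurd (by linear_combination -d * hdet - c * hd) hcd
      · exact absurd (by linear_combination c * hdet + d * hc) hcd
  have hω : ω ^ 3 = 1 := by
    rw [hωs, Matrix.det_smul, Matrix.det_one, mul_one, Fintype.card_fin] at hZd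
    exact hZd
  have hω1 : ω ≠ 1 := fun e => hz1 (Subtype.ext (Units.ext (by
    show (Z : Matrix (Fin 3) (Fin 3) F) = _
    rw [hωs, e, one_smul]; rfl)))
  set A : GL (Fin 3) F := (a : GL (Fin 3) F)
  set B : GL (Fin 3) F := (b : GL (Fin 3) F)
  have hAB : A * B = Z * (B * A) := by
    have h : a * b = z * (b * a) := by rw [hz]; group
    have := congrArg Subtype.val h
    simpa using this
  have hshift : ∀ (w : Fin 3 → F) (c : F), (A : Matrix (Fin 3) (Fin 3) F) *ᵥ w = c • w →
      (A : Matrix (Fin 3) (Fin 3) F) *ᵥ ((B : Matrix (Fin 3) (Fin 3) F) *ᵥ w) =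
        (ω * c) • ((B : Matrix (Fin 3) (Fin 3) F) *ᵥ w) := fun w c h => by
    rw [← mul_mulVec, hAB, mul_mulVec, mul_mulVec, h, hωs, Matrix.smul_mulVec, Matrix.one_mulVec,
      Matrix.mulVec_smul, smul_smul]
  have hA3 : ∀ v, ((Matrix.toLin' (A : Matrix (Fin 3) (Fin 3) F)) ^ 3) v = v := fun v => by
    rw [← Matrix.toLin'_pow, ← Units.val_pow_eq_pow_val, hcube A a.2, Units.val_one, Matrix.toLin'_one,
      LinearMap.id_apply]
  obtain ⟨v, l, hv0, hv⟩ : ∃ (v : Fin 3 → F) (l : F), v ≠ 0 ∧ (A : Matrix (Fin 3) (Fin 3) F) *ᵥ v = l • v := by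
    rcases S5971.eigen_cases hA3 hω hω1 with ⟨ba, hba⟩ | ⟨c, d, hcd, hc, hd, hh⟩
    · exact ⟨ba 0, _, ba.ne_zero 0, by rw [← Matrix.toLin'_apply]; exact hba 0⟩
    · obtain ⟨s, t, Ba, hl, hr, -⟩ := S5971.two_eigen hcd hh
      obtain ⟨i | i⟩ := Ba.index_nonempty
      · exact ⟨Ba (Sum.inl i), c, Ba.ne_zero _, by rw [← Matrix.toLin'_apply]; exact hl i⟩
      · exact ⟨Ba (Sum.inr i), d, Ba.ne_zero _, by rw [← Matrix.toLin'_apply]; exact hr i⟩
  obtain ⟨k, hk, hlk⟩ : ∃ k < 3, l = ω ^ k := by
    refine root_cases hω hω1 ?_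
    have h := pow_eigen A hv 3
    rw [hcube A a.2, Units.val_one, Matrix.one_mulVec] at h
    have : (l ^ 3 - 1) • v = 0 := by rw [sub_smul, one_smul, ← h, sub_self]
    exact sub_eq_zero.1 ((smul_eq_zero.1 this).resolve_right hv0)
  have hiter : ∀ (j : ℕ) (w : Fin 3 → F) (c : F), (A : Matrix (Fin 3) (Fin 3) F) *ᵥ w = c • w →
      (A : Matrix (Fin 3) (Fin 3) F) *ᵥ (((B ^ j : GL (Fin 3) F) : Matrix (Fin 3) (Fin 3) F) *ᵥ w) =
        (ω ^ j * c) • (((B ^ j : GL (Fin 3) F) : Matrix (Fin 3) (Fin 3) F) *ᵥ w) := by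
    intro j
    induction j with
    | zero => intro w c h; simpa using h
    | succ j ih =>
      intro w c h
      rw [pow_succ', mul_mulVec, hshift _ _ (ih w c h), pow_succ', mul_assoc]
  set v₀ := ((B ^ (3 - k) : GL (Fin 3) F) : Matrix (Fin 3) (Fin 3) F) *ᵥ v with hv₀
  have hA0 : (A : Matrix (Fin 3) (Fin 3) F) *ᵥ v₀ = (1 : F) • v₀ := by
    rw [hv₀, hiter _ _ _ hv, hlk, ← pow_add, Nat.sub_add_cancel hk.le, hω]
  have hinj : ∀ (g : GL (Fin 3) F) (w : Fin 3 → F), w ≠ 0 → (g : Matrix (Fin 3) (Fin 3) F) *ᵥ w ≠ 0 := by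
    intro g w hw h
    refine hw ?_
    have := congrArg (((g⁻¹ : GL (Fin 3) F) : Matrix (Fin 3) (Fin 3) F) *ᵥ ·) h
    simpa [Matrix.mulVec_mulVec] using this
  have hv00 : v₀ ≠ 0 := hinj _ _ hv0
  let vs : Fin 3 → (Fin 3 → F) := fun i => ((B ^ (i : ℕ) : GL (Fin 3) F) : Matrix (Fin 3) (Fin 3) F) *ᵥ v₀
  have hAvs : ∀ i : Fin 3, (A : Matrix (Fin 3) (Fin 3) F) *ᵥ vs i = ω ^ (i : ℕ) • vs i := fun i => by
    rw [hiter _ _ _ hA0, mul_one]
  have hli : LinearIndependent F vs := Module.End.eigenvectors_linearIndependent'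
    (Matrix.toLin' (A : Matrix (Fin 3) (Fin 3) F)) (fun i : Fin 3 => ω ^ (i : ℕ)) (pow_inj hω hω1) vs
    fun i => ⟨Module.End.mem_eigenspace_iff.2 (by rw [Matrix.toLin'_apply]; exact hAvs i), hinj _ _ hv00⟩
  let bb := basisOfLinearIndependentOfCardEqFinrank hli (by simp)
  refine ⟨ω, bb, A, B, hω, hω1, a.2, b.2, fun i => by simpa [bb] using hAvs i, fun i => ?_, ?_⟩
  · simp only [bb, coe_basisOfLinearIndependentOfCardEqFinrank, vs]
    rw [← mul_mulVec, ← pow_succ']
    fin_cases i
    · rfl
    · rfl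
    · show ((B ^ 3 : GL (Fin 3) F) : Matrix (Fin 3) (Fin 3) F) *ᵥ v₀ = _
      rw [hcube B b.2]
      rfl
  · have hle : Subgroup.closure {A, B} ≤ R := by
      rw [Subgroup.closure_le]
      rintro x (rfl | rfl)
      exacts [a.2, b.2]
    refine Subgroup.eq_of_le_of_card_ge hle ?_
    rw [hR]
    by_contra hlt
    obtain ⟨j, hj, hjc⟩ := (Nat.dvd_prime_pow Nat.prime_three).1
      (show Nat.card (Subgroup.closure {A, B}) ∣ 3 ^ 3 by
        have := Subgroup.card_dvd_of_le hle
        rw [hR] at this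
        exact this)
    have hj2 : j ≤ 2 := by
      by_contra hh
      obtain rfl : j = 3 := by omega
      rw [hjc] at hlt; norm_num at hlt
    have hcm : ∀ x y : Subgroup.closure {A, B}, x * y = y * x := by
      rcases (by omega : j ≤ 1 ∨ j = 2) with hj1 | rfl
      · haveI : IsCyclic (Subgroup.closure {A, B}) := by
          rcases (by omega : j = 0 ∨ j = 1) with rfl | rfl
          · haveI := (Nat.card_eq_one_iff_unique.1 (show Nat.card (Subgroup.closure {A, B}) = 1 by rw [hjc]; norm_num)).1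
            infer_instance
          · exact isCyclic_of_prime_card (p := 3) (α := Subgroup.closure {A, B}) (by rw [hjc]; norm_num)
        intro x y
        letI := IsCyclic.commGroup (α := Subgroup.closure {A, B}); exact mul_comm x y
      · exact IsPGroup.commutative_of_card_eq_prime_sq (p := 3) hjc
    refine hab (Subtype.ext ?_)
    have := congrArg Subtype.val (hcm ⟨A, Subgroup.subset_closure (by simp)⟩ ⟨B, Subgroup.subset_closure (by simp)⟩)
    simpa using this

theorem mem_normalizer_of_gen {R : Subgroup (GL (Fin 3) F)} [Finite R] {A B w : GL (Fin 3) F}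
    (hcl : Subgroup.closure {A, B} = R) (hA : ∃ C ∈ R, w * A = C * w) (hB : ∃ C ∈ R, w * B = C * w) :
    w ∈ Cfsg.Geo.subgroupNormalizer R := by
  rw [Cfsg.Geo.subgroupNormalizer, Subgroup.mem_normalizer_iff]
  have hle : R ≤ R.comap (MulAut.conj w).toMonoidHom := by
    conv_lhs => rw [← hcl]
    rw [Subgroup.closure_le]
    rintro x (rfl | rfl)
    · obtain ⟨C, hC, e⟩ := hA
      show w * x * w⁻¹ ∈ R
      rw [e, mul_inv_cancel_right]; exact hC
    · obtain ⟨C, hC, e⟩ := hB
      show w * x * w⁻¹ ∈ R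
      rw [e, mul_inv_cancel_right]; exact hC
  have h : ∀ x ∈ R, w * x * w⁻¹ ∈ R := fun x hx => hle hx
  have heq : R.map (MulAut.conj w).toMonoidHom = R := by
    refine Subgroup.eq_of_le_of_card_ge ?_ (le_of_eq ?_)
    · rintro _ ⟨x, hx, rfl⟩; exact h x hx
    · exact (Nat.card_congr (R.equivMapOfInjective _ (MulAut.conj w).injective).toEquiv)
  refine fun x => ⟨h x, fun hx => ?_⟩
  rw [← heq] at hx
  obtain ⟨y, hy, e⟩ := hx
  rwa [(MulAut.conj w).injective (e : MulAut.conj w y = MulAut.conj w x)] at hy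

/-- conjugacy of diagonalisable maps, determinant one -/
theorem conj_diag {f g : (Fin 3 → F) →ₗ[F] (Fin 3 → F)} (b b' : Basis (Fin 3) F (Fin 3 → F)) (d : Fin 3 → F)
    (hf : ∀ i, f (b i) = d i • b i) (hg : ∀ i, g (b' i) = d i • b' i) :
    ∃ e : (Fin 3 → F) ≃ₗ[F] (Fin 3 → F), LinearEquiv.det e = 1 ∧ ∀ v, e (f v) = g (e v) := by
  classical
  let e₀ := b.equiv b' (Equiv.refl _)
  obtain ⟨C, hC, hCdet⟩ := Inv.exists_scale b (fun i : Fin 3 => if i = 0 then (LinearEquiv.det e₀)⁻¹ else 1)
  refine ⟨C.trans e₀, by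
    rw [LinearEquiv.det_trans, hCdet, Finset.prod_ite_eq', if_pos (Finset.mem_univ _), mul_inv_cancel], fun v => ?_⟩
  have : (C.trans e₀).toLinearMap ∘ₗ f = g ∘ₗ (C.trans e₀).toLinearMap := b.ext fun i => by
    simp [e₀, hC, hf, hg, smul_comm (d i)]
  exact LinearMap.congr_fun this v

theorem smul_mem_normalizer {R : Subgroup (GL (Fin 3) F)} {g h : GL (Fin 3) F} {c : F}
    (e : (g : Matrix (Fin 3) (Fin 3) F) = c • (h : Matrix (Fin 3) (Fin 3) F))
    (hh : h ∈ Cfsg.Geo.subgroupNormalizer R) : g ∈ Cfsg.Geo.subgroupNormalizer R := by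
  have hgh : g = (g * h⁻¹) * h := by group
  rw [hgh]
  refine mul_mem ?_ hh
  rw [Cfsg.Geo.subgroupNormalizer, Subgroup.mem_normalizer_iff]
  intro x
  have hs : ((g * h⁻¹ : GL (Fin 3) F) : Matrix (Fin 3) (Fin 3) F) = c • 1 := by
    rw [Units.val_mul, e, Matrix.smul_mul, ← Units.val_mul, mul_inv_cancel, Units.val_one]
  have hc : (g * h⁻¹) * x = x * (g * h⁻¹) := Units.ext (by
    rw [Units.val_mul, Units.val_mul (a := x), hs, Matrix.smul_mul, Matrix.mul_smul, Matrix.one_mul, Matrix.mul_one])
  rw [hc, mul_inv_cancel_right]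

/-- Elements of prime order of PSL_3(p), p ≡ 1 (mod 3), and the normalizer of an extraspecial subgroup of order 27. Here `T = PSL_3(F)` for the field `F` with `p` elements, `p` a prime with `p ≡ 1 (mod 3)`; `R` is a non-abelian subgroup of GL_3(F) of order 27 and exponent 3 (an extraspecial group 3^{1+2}, acting absolutely irreducibly), and `H` is the subgroup of matrices of determinant 1 normalizing `R` — a subgroup of type 3^{1+2}.Sp₂(3) (maximality is not assumed). Ω is the set of cosets of `H` in `T`, so an element of `T` of prime order `r` (a matrix `x` of determinant 1 with `x^r` scalar, `x` not scalar) fixes a point of Ω exactly when some conjugate of `x` by a matrix of determinant 1 normalizes `R`. Let `r` be a prime dividing the index of `H`. Then every element of `T` of order `r` fixes a point of Ω if and only if `r = 2`, or `r = 3` and `p ≡ 1 (mod 9)`. -/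
theorem result {F : Type*} [Field F] [Fintype F] {p : ℕ} [Fact p.Prime] [CharP F p] (hF : Fintype.card F = p) (hp3 : p % 3 = 1)
    (R : Subgroup (GL (Fin 3) F)) (hR : Nat.card R = 27) (hRe : Monoid.exponent R = 3) (hRna : ¬ IsMulCommutative R)
    (r : ℕ) [Fact r.Prime]
    (hΩ : r ∣ (Cfsg.Geo.subgroupNormalizer R).relIndex (Cfsg.Geo.specialLinear (Fin 3) F)) :
    (∀ x ∈ Cfsg.Geo.specialLinear (Fin 3) F, (∃ z : F, ((x ^ r : GL (Fin 3) F) : Matrix (Fin 3) (Fin 3) F) = z • (1 : Matrix (Fin 3) (Fin 3) F)) →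
      (∀ z : F, (x : Matrix (Fin 3) (Fin 3) F) ≠ z • (1 : Matrix (Fin 3) (Fin 3) F)) →
      ∃ g ∈ Cfsg.Geo.specialLinear (Fin 3) F, g⁻¹ * x * g ∈ Cfsg.Geo.subgroupNormalizer R) ↔ (r = 2 ∨ (r = 3 ∧ p % 9 = 1)) := by
  classical
  haveI : Fact (Nat.Prime 3) := ⟨Nat.prime_three⟩
  haveI : Fact (Nat.Prime 2) := ⟨Nat.prime_two⟩
  have hpp : p.Prime := Fact.out
  have hp2 : p ≠ 2 := fun e => by rw [e] at hp3; norm_num at hp3
  have h2 : (2 : F) ≠ 0 := by
    have := natCast_prime_ne_zero (F := F) p (r := 2) (Ne.symm hp2)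
    exact_mod_cast this
  obtain ⟨ω, b, A, B, hω, hω1, hA, hB, hAb, hBb, hcl⟩ := std (by rw [hF]; exact hp3) R hR hRe hRna
  haveI : Finite R := Nat.finite_of_card_ne_zero (by rw [hR]; norm_num)
  have hdet : ∀ x ∈ Cfsg.Geo.specialLinear (Fin 3) F, (x : Matrix (Fin 3) (Fin 3) F).det = 1 := fun x hx => by
    have := congrArg Units.val (MonoidHom.mem_ker.1 hx)
    simpa using this
  have hle : R ≤ Cfsg.Geo.subgroupNormalizer R := Subgroup.le_normalizer
  -- the general way of producing a conjugate in the normaliser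
  have fin : ∀ x ∈ Cfsg.Geo.specialLinear (Fin 3) F, ∀ (c : F) (w : GL (Fin 3) F)
      (e : (Fin 3 → F) ≃ₗ[F] (Fin 3 → F)), w ∈ Cfsg.Geo.subgroupNormalizer R → LinearEquiv.det e = 1 →
      (∀ v, e ((x : Matrix (Fin 3) (Fin 3) F) *ᵥ v) = c • ((w : Matrix (Fin 3) (Fin 3) F) *ᵥ e v)) →
      ∃ g ∈ Cfsg.Geo.specialLinear (Fin 3) F, g⁻¹ * x * g ∈ Cfsg.Geo.subgroupNormalizer R := by
    intro x hx c w e hw he h
    let xs : Matrix.SpecialLinearGroup (Fin 3) F := ⟨(x : Matrix (Fin 3) (Fin 3) F), hdet x hx⟩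
    obtain ⟨P, hP⟩ := Inv.exists_SL e he xs
    have hxs : Matrix.SpecialLinearGroup.toGL xs = x := Units.ext rfl
    refine ⟨Matrix.SpecialLinearGroup.toGL P, ?_, smul_mem_normalizer (c := c) ?_ hw⟩
    · rw [Cfsg.Geo.specialLinear, MonoidHom.mem_ker]
      exact Units.ext (by rw [Matrix.GeneralLinearGroup.val_det_apply, Units.val_one]; exact P.2)
    · refine Matrix.ext_of_mulVec_single fun i => ?_
      rw [← hxs, ← map_inv, ← map_mul, ← map_mul, Matrix.smul_mulVec]
      show ((P⁻¹ * xs * P : Matrix.SpecialLinearGroup (Fin 3) F) : Matrix (Fin 3) (Fin 3) F) *ᵥ _ = _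
      rw [hP, h, e.apply_symm_apply]
  constructor
  · intro hall
    by_contra hne
    have hcases : r = 3 ∨ 5 ≤ r := by
      have := (Fact.out : r.Prime).two_le
      by_contra hh
      rcases (by omega : r = 2 ∨ r = 4) with h | h
      · exact hne (Or.inl h)
      · exact absurd (h ▸ (Fact.out : r.Prime)) (by norm_num)
    rcases hcases with rfl | hr5
    · -- the index is prime to three
      have hp9 : p % 9 = 4 ∨ p % 9 = 7 := by
        have : p % 9 ≠ 1 := fun e => hne (Or.inr ⟨rfl, e⟩)
        omega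
      have hRS : R ≤ Cfsg.Geo.specialLinear (Fin 3) F := by
        rw [← hcl, Subgroup.closure_le]
        rintro x (rfl | rfl) <;> rw [SetLike.mem_coe, Cfsg.Geo.specialLinear, MonoidHom.mem_ker] <;>
          refine Units.ext ?_ <;> rw [Matrix.GeneralLinearGroup.val_det_apply, Units.val_one, ← LinearMap.det_toLin',
            ← LinearMap.det_toMatrix b]
        · rw [show LinearMap.toMatrix b b (Matrix.toLin' (x : Matrix (Fin 3) (Fin 3) F)) =
              Matrix.diagonal fun i : Fin 3 => ω ^ (i : ℕ) from by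
            ext i j
            rw [LinearMap.toMatrix_apply, Matrix.toLin'_apply, hAb, map_smul, Basis.repr_self]
            rcases eq_or_ne i j with rfl | hij
            · simp
            · simp [hij]]
          rw [Matrix.det_diagonal]
          simp [Fin.prod_univ_three]
          linear_combination hω
        · rw [show LinearMap.toMatrix b b (Matrix.toLin' (x : Matrix (Fin 3) (Fin 3) F)) =
              !![0, 0, 1; 1, 0, 0; 0, 1, 0] from by
            ext i j
            rw [LinearMap.toMatrix_apply, Matrix.toLin'_apply, hBb, Basis.repr_self]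
            fin_cases i <;> fin_cases j <;> simp]
          simp [Matrix.det_fin_three]
      set S := Cfsg.Geo.specialLinear (Fin 3) F
      set N := Cfsg.Geo.subgroupNormalizer R
      have hmul : N.relIndex S * Nat.card (N.subgroupOf S) = Nat.card S := Subgroup.index_mul_card _
      have h27 : 27 ∣ Nat.card (N.subgroupOf S) := by
        rw [← hR, ← Nat.card_congr (Subgroup.subgroupOfEquivOfLe hRS).toEquiv]
        exact Subgroup.card_dvd_of_le (Subgroup.comap_mono hle)
      have h81 : 81 ∣ Nat.card S := hmul ▸ Nat.mul_dvd_mul hΩ h27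
      have hS : Nat.card (Matrix.SpecialLinearGroup (Fin 3) F) = Nat.card S := by
        rw [Classical.Linear.natCard_SL_eq_ker]; rfl
      have h := Classical.Linear.mul_natCard_SL_fin (F := F) (k := 3) (by norm_num)
      rw [hS, hF] at h
      simp only [Fin.prod_univ_three, Fin.val_zero, Fin.val_one, Fin.val_two, pow_zero, pow_one] at h
      obtain ⟨s, hs⟩ : ∃ s, p = 3 * s + 1 := ⟨p / 3, by omega⟩
      have hfac : (p ^ 3 - 1) * (p ^ 3 - p) * (p ^ 3 - p ^ 2) =
          (p - 1) * (27 * (p ^ 3 * s * s * (3 * s + 2) * (3 * (s * s) + 3 * s + 1))) := by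
        subst hs
        rw [Nat.sub_eq_of_eq_add (show (3 * s + 1) ^ 3 = 9 * s * (3 * (s * s) + 3 * s + 1) + 1 by ring),
          Nat.sub_eq_of_eq_add (show (3 * s + 1) ^ 3 = (3 * s + 1) * (3 * s * (3 * s + 2)) + (3 * s + 1) by ring),
          Nat.sub_eq_of_eq_add (show (3 * s + 1) ^ 3 = (3 * s + 1) ^ 2 * (3 * s) + (3 * s + 1) ^ 2 by ring),
          show 3 * s + 1 - 1 = 3 * s by omega]
        ring
      rw [hfac] at h
      have hcS := Nat.eq_of_mul_eq_mul_left (by omega) h
      rw [hcS, show (81 : ℕ) = 27 * 3 by norm_num] at h81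
      have h3 := Nat.dvd_of_mul_dvd_mul_left (by norm_num) h81
      have hs3 : ¬ 3 ∣ s := by omega
      rcases Nat.prime_three.dvd_mul.1 h3 with h3 | h3
      · rcases Nat.prime_three.dvd_mul.1 h3 with h3 | h3
        · rcases Nat.prime_three.dvd_mul.1 h3 with h3 | h3
          · rcases Nat.prime_three.dvd_mul.1 h3 with h3 | h3
            · have := Nat.prime_three.dvd_of_dvd_pow h3; omega
            · exact hs3 h3
          · exact hs3 h3
        · omega
      · omega
    · -- no element of order `r` in the normaliser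
      obtain ⟨y, hy⟩ := exists_prime_orderOf_dvd_card' (G := ↥(Cfsg.Geo.specialLinear (Fin 3) F)) r
        (hΩ.trans (Subgroup.relIndex_dvd_card _ _))
      have hyr : (y : GL (Fin 3) F) ^ r = 1 := by
        rw [← SubgroupClass.coe_pow, ← hy, pow_orderOf_eq_one, OneMemClass.coe_one]
      have hsc : ∀ c : F, ((y : GL (Fin 3) F) : Matrix (Fin 3) (Fin 3) F) ≠ c • 1 := by
        intro c hc
        have h1 := hdet _ y.2
        rw [hc, Matrix.det_smul, Matrix.det_one, mul_one, Fintype.card_fin] at h1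
        have : orderOf y ∣ 3 := orderOf_dvd_of_pow_eq_one (Subtype.ext (Units.ext (by
          rw [SubgroupClass.coe_pow, Units.val_pow_eq_pow_val, hc, _root_.smul_pow, one_pow, h1, one_smul]
          rfl)))
        rw [hy] at this
        have := Nat.le_of_dvd (by norm_num) this
        omega
      obtain ⟨g, -, hg⟩ := hall y y.2 ⟨1, by rw [hyr, Units.val_one, one_smul]⟩ hsc
      set x := g⁻¹ * (y : GL (Fin 3) F) * g with hxdef
      have hxr : x ^ r = 1 := by
        have := conj_pow (i := r) (a := g⁻¹) (b := (y : GL (Fin 3) F))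
        rw [inv_inv] at this
        rw [hxdef, this, hyr]; group
      have hmem : ∀ z ∈ Subgroup.zpowers x, ∀ u ∈ R, z * u * z⁻¹ ∈ R := fun z hz u hu => by
        have hle' : Subgroup.zpowers x ≤ Subgroup.normalizer (R : Set (GL (Fin 3) F)) := Subgroup.zpowers_le.2 hg
        exact (Subgroup.mem_normalizer_iff.1 (hle' hz) u).1 hu
      letI : MulAction (Subgroup.zpowers x) R :=
        { smul := fun z u => ⟨z.1 * u.1 * z.1⁻¹, hmem z.1 z.2 u.1 u.2⟩
          one_smul := fun u => Subtype.ext (by change (1 : GL (Fin 3) F) * u.1 * 1⁻¹ = u.1; group)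
          mul_smul := fun z w u => Subtype.ext (by
            change (z.1 * w.1) * u.1 * (z.1 * w.1)⁻¹ = z.1 * (w.1 * u.1 * w.1⁻¹) * z.1⁻¹; group) }
      have hP : IsPGroup r (Subgroup.zpowers x) := by
        have hd : Nat.card (Subgroup.zpowers x) ∣ r := by
          rw [Nat.card_zpowers]; exact orderOf_dvd_of_pow_eq_one hxr
        rcases (Nat.dvd_prime (Fact.out : r.Prime)).1 hd with h | h
        · exact IsPGroup.of_card (n := 0) (by rw [h, pow_zero])
        · exact IsPGroup.of_card (n := 1) (by rw [h, pow_one])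
      let C : Subgroup R := (Subgroup.centralizer {x}).subgroupOf R
      have hC : ∀ u : R, u ∈ C ↔ x * (u : GL (Fin 3) F) = u * x := fun u => by
        show (u : GL (Fin 3) F) ∈ Subgroup.centralizer {x} ↔ _
        rw [Subgroup.mem_centralizer_singleton_iff]
        exact ⟨fun e => e.symm, fun e => e.symm⟩
      have hfix : MulAction.fixedPoints (Subgroup.zpowers x) R = (C : Set R) := by
        ext u
        rw [MulAction.mem_fixedPoints, SetLike.mem_coe, hC]
        constructor
        · intro h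
          have h1 := congrArg Subtype.val (h ⟨x, Subgroup.mem_zpowers x⟩)
          change x * u.1 * x⁻¹ = u.1 at h1
          exact mul_inv_eq_iff_eq_mul.1 h1
        · intro h z
          obtain ⟨k, hk⟩ := z.2
          apply Subtype.ext
          change z.1 * u.1 * z.1⁻¹ = u.1
          rw [← hk]
          have h1 : Commute (x ^ k) u.1 := (show Commute x u.1 from h).zpow_left k
          rw [h1.eq, mul_inv_cancel_right]
      have hmod := hP.card_modEq_card_fixedPoints R
      rw [hfix, hR] at hmod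
      change 27 ≡ Nat.card C [MOD r] at hmod
      have hzs : ((A * B * A⁻¹ * B⁻¹ : GL (Fin 3) F) : Matrix (Fin 3) (Fin 3) F) = ω • 1 := by
        have e : A * B = scal (Units.mk0 ω (fun e => by rw [e] at hω; simp at hω)) * (B * A) := eq_of_basis b fun i => by
          simp only [mul_mulVec, scal_val, hAb, hBb, Matrix.mulVec_smul, Matrix.smul_mulVec, Matrix.one_mulVec, Units.val_mk0]
          rw [smul_smul]
          congr 1
          fin_cases i <;> simp
          all_goals first
            | linear_combination (norm := ring1) hω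
            | linear_combination (norm := ring1) -hω
            | ring1
        rw [e, show ∀ s : GL (Fin 3) F, s * (B * A) * A⁻¹ * B⁻¹ = s from fun s => by group, scal_val, Units.val_mk0]
      have hzC : (⟨A * B * A⁻¹ * B⁻¹, mul_mem (mul_mem (mul_mem hA hB) (inv_mem hA)) (inv_mem hB)⟩ : R) ∈ C := by
        rw [hC]
        exact Units.ext (by
          simp only [Units.val_mul x, Units.val_mul (b := x), hzs, Matrix.mul_smul, Matrix.mul_one, Matrix.smul_mul, Matrix.one_mul])
      have hC2 : 2 ≤ Nat.card C := by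
        by_contra hlt
        have := (Subgroup.card_le_one_iff_eq_bot C).1 (by omega)
        rw [this, Subgroup.mem_bot] at hzC
        have h1 := congrArg (fun u : R => ((u : GL (Fin 3) F) : Matrix (Fin 3) (Fin 3) F)) hzC
        simp only [hzs, OneMemClass.coe_one, Units.val_one] at h1
        exact hω1 (by simpa using congrFun (congrFun h1 0) 0)
      have hCt : C = ⊤ := by
        refine Subgroup.eq_top_of_card_eq _ ?_
        rw [hR]
        obtain ⟨j, hj, hjc⟩ := (Nat.dvd_prime_pow Nat.prime_three).1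
          (show Nat.card C ∣ 3 ^ 3 by have := Subgroup.card_subgroup_dvd_card C; rw [hR] at this; exact this)
        have hle27 : Nat.card C ≤ 27 := by
          rw [hjc]; exact (Nat.pow_le_pow_right (by norm_num) hj).trans (by norm_num)
        have hd := (Nat.modEq_iff_dvd' hle27).1 hmod.symm
        by_contra hne27
        have key : ∀ m, r ∣ m → m = 2 ^ 3 * 3 ∨ m = 2 * 3 ^ 2 → False := by
          intro m hm hm'
          rcases hm' with rfl | rfl <;> rcases (Fact.out : r.Prime).dvd_mul.1 hm with h | h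
          · have := Nat.le_of_dvd (by norm_num) ((Fact.out : r.Prime).dvd_of_dvd_pow h); omega
          · have := Nat.le_of_dvd (by norm_num) h; omega
          · have := Nat.le_of_dvd (by norm_num) h; omega
          · have := Nat.le_of_dvd (by norm_num) ((Fact.out : r.Prime).dvd_of_dvd_pow h); omega
        rw [hjc] at hne27 hC2 hd
        rcases (by omega : j = 0 ∨ j = 1 ∨ j = 2 ∨ j = 3) with rfl | rfl | rfl | rfl
        · norm_num at hC2
        · exact key _ hd (Or.inl (by norm_num))
        · exact key _ hd (Or.inr (by norm_num))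
        · exact hne27 (by norm_num)
      have hcA : x * A = A * x := (hC ⟨A, hA⟩).1 (hCt ▸ Subgroup.mem_top _)
      have hcB : x * B = B * x := (hC ⟨B, hB⟩).1 (hCt ▸ Subgroup.mem_top _)
      choose d hd using eigen_of_comm hω hω1 b hAb hcA
      have hstep : ∀ i, d (i + 1) = d i := fun i => by
        have h1 : ((x * B : GL (Fin 3) F) : Matrix (Fin 3) (Fin 3) F) *ᵥ b i = d (i + 1) • b (i + 1) := by
          rw [mul_mulVec, hBb, hd]
        rw [hcB, mul_mulVec, hd, Matrix.mulVec_smul, hBb] at h1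
        have h0 : (d i - d (i + 1)) • b (i + 1) = 0 := by rw [sub_smul, h1, sub_self]
        exact (sub_eq_zero.1 ((smul_eq_zero.1 h0).resolve_right (b.ne_zero _))).symm
      have hd0 : ∀ i, d i = d 0 := by
        intro i
        fin_cases i
        · rfl
        · exact hstep 0
        · exact (hstep 1).trans (hstep 0)
      have hx : (x : Matrix (Fin 3) (Fin 3) F) = d 0 • 1 := Matrix.toLin'.injective (b.ext fun i => by
        rw [Matrix.toLin'_apply, hd, hd0]; simp)
      refine hsc (d 0) ?_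
      have e : (y : GL (Fin 3) F) = g * x * g⁻¹ := by rw [hxdef]; group
      rw [e, Units.val_mul, Units.val_mul, hx, Matrix.mul_smul, Matrix.mul_one, Matrix.smul_mul, ← Units.val_mul,
        mul_inv_cancel, Units.val_one]
  · intro hr x hx ⟨c, hc⟩ hxs
    have hd1 := hdet x hx
    have hc3 : c ^ 3 = 1 := by
      have h1 := congrArg Matrix.det hc
      rw [Units.val_pow_eq_pow_val, Matrix.det_pow, hd1, one_pow, Matrix.det_smul, Matrix.det_one, mul_one,
        Fintype.card_fin] at h1
      exact h1.symm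
    have hc0 : c ≠ 0 := fun e => by rw [e] at hc3; simp at hc3
    have hxpow : ∀ v, ((Matrix.toLin' (x : Matrix (Fin 3) (Fin 3) F)) ^ r) v = c • v := fun v => by
      rw [← Matrix.toLin'_pow, ← Units.val_pow_eq_pow_val, hc, map_smul, Matrix.toLin'_one]; rfl
    rcases hr with rfl | ⟨rfl, hp9⟩
    · set e₁ := c ^ 2 with he₁
      have he0 : e₁ ≠ 0 := pow_ne_zero _ hc0
      let f : (Fin 3 → F) →ₗ[F] (Fin 3 → F) := e₁⁻¹ • Matrix.toLin' (x : Matrix (Fin 3) (Fin 3) F)
      have hfx : ∀ v, (x : Matrix (Fin 3) (Fin 3) F) *ᵥ v = e₁ • f v := fun v => by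
        simp only [f, LinearMap.smul_apply, Matrix.toLin'_apply, smul_inv_smul₀ he0]
      have hf : ∀ v, f (f v) = v := fun v => by
        have h := hxpow v
        rw [pow_two, Module.End.mul_apply] at h
        simp only [f, LinearMap.smul_apply, map_smul, h, smul_smul]
        rw [show e₁⁻¹ * (e₁⁻¹ * c) = 1 by rw [he₁]; field_simp; linear_combination -hc3, one_smul]
      have hfd : LinearMap.det f = 1 := by
        show LinearMap.det (e₁⁻¹ • Matrix.toLin' (x : Matrix (Fin 3) (Fin 3) F)) = 1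
        rw [LinearMap.det_smul, Module.finrank_fin_fun, LinearMap.det_toLin', hd1, mul_one, inv_pow, he₁, ← pow_mul,
          mul_comm 2 3, pow_mul, hc3, one_pow, inv_one]
      have hrk : Inv.rk f = 2 := by
        have h := Inv.det_involution h2 hf
        rw [hfd] at h
        have hev : Even (Inv.rk f) := by
          rw [← Nat.not_odd_iff_even]
          intro ho
          rw [ho.neg_one_pow] at h
          exact h2 (by linear_combination h)
        have h3 := Inv.rk_le f
        rw [Module.finrank_fin_fun] at h3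
        rcases (by omega : Inv.rk f = 0 ∨ Inv.rk f = 1 ∨ Inv.rk f = 2 ∨ Inv.rk f = 3) with e | e | e | e
        · exfalso
          rw [Inv.rk, Submodule.finrank_eq_zero, LinearMap.range_eq_bot, sub_eq_zero] at e
          exact hxs e₁ (Matrix.ext_of_mulVec_single fun i => by
            rw [hfx, e, LinearMap.id_apply, Matrix.smul_mulVec, Matrix.one_mulVec])
        · rw [e] at hev; exact absurd hev (by decide)
        · exact e
        · rw [e] at hev; exact absurd hev (by decide)
      let wl : (Fin 3 → F) →ₗ[F] (Fin 3 → F) := b.constr F fun i => - b (-i)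
      have ewl : ∀ i, wl (b i) = - b (-i) := fun i => Basis.constr_basis b F _ i
      have hwl : ∀ v, wl (wl v) = v := fun v => by
        have : wl ∘ₗ wl = LinearMap.id := b.ext fun i => by simp [ewl]
        exact LinearMap.congr_fun this v
      let we : (Fin 3 → F) ≃ₗ[F] (Fin 3 → F) := LinearEquiv.ofInvolutive wl hwl
      set w := ofEquiv we with hw
      have hwb : ∀ i, (w : Matrix (Fin 3) (Fin 3) F) *ᵥ b i = - b (-i) := fun i => by
        rw [hw, ofEquiv_mulVec]; exact ewl i
      have hwN : w ∈ Cfsg.Geo.subgroupNormalizer R := mem_normalizer_of_gen hcl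
        ⟨A ^ 2, pow_mem hA 2, eq_of_basis b fun i => by
          rw [mul_mulVec, mul_mulVec, hAb, Matrix.mulVec_smul, hwb, Matrix.mulVec_neg, pow_eigen A (hAb _), smul_neg,
            ← pow_mul]
          congr 2
          fin_cases i
          · rfl
          · show ω ^ 1 = ω ^ (2 * 2)
            linear_combination -ω * hω
          · show ω ^ 2 = ω ^ (1 * 2)
            ring⟩
        ⟨B ^ 2, pow_mem hB 2, eq_of_basis b fun i => by
          rw [mul_mulVec, mul_mulVec, hBb, hwb, hwb, Matrix.mulVec_neg, pow_two, mul_mulVec, hBb, hBb]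
          congr 2
          fin_cases i <;> decide⟩
      have hwd : LinearMap.det wl = 1 := by
        rw [← LinearMap.det_toMatrix b, show LinearMap.toMatrix b b wl = !![-1, 0, 0; 0, 0, -1; 0, -1, 0] from by
          ext i j
          rw [LinearMap.toMatrix_apply, ewl, map_neg, Basis.repr_self]
          fin_cases i <;> fin_cases j <;> simp [Finsupp.single_apply] <;> decide]
        simp [Matrix.det_fin_three]
      have hwr : Inv.rk wl = 2 := by
        have h := Inv.det_involution h2 hwl
        rw [hwd] at h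
        have hev : Even (Inv.rk wl) := by
          rw [← Nat.not_odd_iff_even]
          intro ho
          rw [ho.neg_one_pow] at h
          exact h2 (by linear_combination h)
        have h3 := Inv.rk_le wl
        rw [Module.finrank_fin_fun] at h3
        rcases (by omega : Inv.rk wl = 0 ∨ Inv.rk wl = 1 ∨ Inv.rk wl = 2 ∨ Inv.rk wl = 3) with e | e | e | e
        · exfalso
          rw [Inv.rk, Submodule.finrank_eq_zero, LinearMap.range_eq_bot, sub_eq_zero] at e
          have h4 := ewl 0
          rw [e, LinearMap.id_apply, neg_zero, eq_neg_iff_add_eq_zero, ← two_smul F] at h4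
          exact b.ne_zero 0 ((smul_eq_zero.1 h4).resolve_left h2)
        · rw [e] at hev; exact absurd hev (by decide)
        · exact e
        · rw [e] at hev; exact absurd hev (by decide)
      obtain ⟨e, he, hedet⟩ := Inv.exists_conj hf hwl (hrk.trans hwr.symm) 1
      refine fin x hx e₁ w e hwN hedet fun v => ?_
      rw [hfx, map_smul, he, hw, ofEquiv_mulVec]
      rfl
    · obtain ⟨e₁, he⟩ : ∃ e₁ : F, e₁ ^ 3 = c := by
        refine (pow_iff (r := 3) (by rw [hF]; omega) hc0).2 ?_
        rw [hF]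
        obtain ⟨t, ht⟩ : 3 ∣ (p - 1) / 3 := by omega
        rw [ht, pow_mul, hc3, one_pow]
      have he0 : e₁ ≠ 0 := fun e => hc0 (by rw [← he, e, zero_pow three_ne_zero])
      let f : (Fin 3 → F) →ₗ[F] (Fin 3 → F) := e₁⁻¹ • Matrix.toLin' (x : Matrix (Fin 3) (Fin 3) F)
      have hfx : ∀ v, (x : Matrix (Fin 3) (Fin 3) F) *ᵥ v = e₁ • f v := fun v => by
        simp only [f, LinearMap.smul_apply, Matrix.toLin'_apply, smul_inv_smul₀ he0]
      have hf : ∀ v, (f ^ 3) v = v := fun v => by
        rw [show f ^ 3 = (e₁⁻¹) ^ 3 • Matrix.toLin' (x : Matrix (Fin 3) (Fin 3) F) ^ 3 from _root_.smul_pow _ _ _,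
          LinearMap.smul_apply, hxpow, smul_smul, inv_pow, he, inv_mul_cancel₀ hc0, one_smul]
      rcases S5971.eigen_cases hf hω hω1 with ⟨b', hb'⟩ | ⟨l, m, hlm, hl3, hm3, hh⟩
      · obtain ⟨e, hedet, he'⟩ := conj_diag (g := Matrix.toLin' (A : Matrix (Fin 3) (Fin 3) F)) b' b _ hb'
          fun i => by rw [Matrix.toLin'_apply, hAb]
        exact fin x hx e₁ A e (hle hA) hedet fun v => by rw [hfx, map_smul, he', Matrix.toLin'_apply]
      · obtain ⟨s, t, Bf, hl, hr, -⟩ := S5971.two_eigen hlm hh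
        have hst : s + t = 3 := by
          have := (Module.finrank_eq_card_basis Bf).symm
          simpa using this
        -- a double eigenvalue and a single one
        obtain ⟨b', α, β, hα, hβ, hb'⟩ : ∃ (b' : Basis (Fin 3) F (Fin 3 → F)) (α β : F), α ^ 3 = 1 ∧ β ^ 3 = 1 ∧
            ∀ i, f (b' i) = (if i = 2 then β else α) • b' i := by
          rcases (by omega : s = 0 ∨ t = 0 ∨ (s = 1 ∧ t = 2) ∨ (s = 2 ∧ t = 1)) with h | h | ⟨rfl, rfl⟩ | ⟨rfl, rfl⟩
          · subst h
            exfalso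
            refine hxs (e₁ * m) (Matrix.toLin'.injective (Bf.ext fun i => ?_))
            rcases i with i | i
            · exact i.elim0
            · rw [Matrix.toLin'_apply, hfx, hr, smul_smul]; simp
          · subst h
            exfalso
            refine hxs (e₁ * l) (Matrix.toLin'.injective (Bf.ext fun i => ?_))
            rcases i with i | i
            · rw [Matrix.toLin'_apply, hfx, hl, smul_smul]; simp
            · exact i.elim0
          · refine ⟨Bf.reindex ((Equiv.sumComm _ _).trans finSumFinEquiv), m, l, hm3, hl3, fun i => ?_⟩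
            fin_cases i
            · simp; exact hr 0
            · simp; exact hr 1
            · simp; exact hl 0
          · refine ⟨Bf.reindex finSumFinEquiv, l, m, hl3, hm3, fun i => ?_⟩
            fin_cases i
            · simp; exact hl 0
            · simp; exact hl 1
            · simp; exact hr 0
        have hα0 : α ≠ 0 := fun e => by rw [e] at hα; simp at hα
        obtain ⟨k, hk, hμ⟩ := root_cases hω hω1 (x := β / α) (by rw [div_pow, hα, hβ, div_one])
        have hω0 : ω ≠ 0 := fun e => by rw [e] at hω; simp at hω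
        let d : Fin 3 → Fˣ := fun i => if i = 2 then Units.mk0 (ω ^ k) (pow_ne_zero _ hω0) else 1
        obtain ⟨U, hU, -⟩ := Inv.exists_scale b d
        set u := ofEquiv U with hu
        have hub : ∀ i, (u : Matrix (Fin 3) (Fin 3) F) *ᵥ b i = (d i : F) • b i := fun i => by
          rw [hu, ofEquiv_mulVec, hU]
        have huN : u ∈ Cfsg.Geo.subgroupNormalizer R := mem_normalizer_of_gen hcl
          ⟨A, hA, eq_of_basis b fun i => by
            rw [mul_mulVec, mul_mulVec, hAb, Matrix.mulVec_smul, hub, Matrix.mulVec_smul, hAb, smul_comm]⟩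
          ⟨B * A ^ k, mul_mem hB (pow_mem hA k), eq_of_basis b fun i => by
            rw [mul_mulVec, mul_mulVec, mul_mulVec, hBb, hub, hub, Matrix.mulVec_smul, Matrix.mulVec_smul,
              pow_eigen A (hAb i), Matrix.mulVec_smul, hBb, smul_smul]
            congr 1
            fin_cases i <;> simp [d]
            rw [← pow_mul, ← pow_add, show k + 2 * k = 3 * k by ring, pow_mul, hω, one_pow]⟩
        obtain ⟨e, hedet, he'⟩ := conj_diag (g := α • Matrix.toLin' (u : Matrix (Fin 3) (Fin 3) F)) b' b _ hb'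
          fun i => by
            rw [LinearMap.smul_apply, Matrix.toLin'_apply, hub, smul_smul]
            congr 1
            fin_cases i <;> simp [d]
            rw [← hμ]; field_simp
        refine fin x hx (e₁ * α) u e huN hedet fun v => ?_
        rw [hfx, map_smul, he', LinearMap.smul_apply, Matrix.toLin'_apply, smul_smul]

end Cfsg.Agent.S5998
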