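import Cfsg.Statements.S5999
import Cfsg.Agent.S5998
import Cfsg.Agent.Lib.Classical.UnitaryBasic
import Cfsg.Agent.Lib.Classical.UnitaryFrames

set_option autoImplicit false
open scoped MatrixGroups
open Cfsg

namespace Cfsg.Agent.S5999

open Cfsg.Agent.Forms.Elusive Module Matrix Cfsg.Agent.Classical.Unitary Cfsg.Agent.Forms

variable {F : Type*} [Field F] [Fintype F] {q : ℕ} (hF : Fintype.card F = q ^ 2)

local notation "H" => Cfsg.hermForm 3 F q

include hF

theorem eigen_orth {M : Matrix (Fin 3) (Fin 3) F} (hM : ∀ u v, H (M *ᵥ u) (M *ᵥ v) = H u v) {u v : Fin 3 → F}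
    {a b : F} (hu : M *ᵥ u = a • u) (hv : M *ᵥ v = b • v) (hb : b ^ (q + 1) = 1) (hab : a ≠ b) : H u v = 0 := by
  have h := hM u v
  rw [hu, hv, H_smul_left, H_smul_right] at h
  by_contra h0
  have h1 : a * b ^ q = 1 := mul_right_cancel₀ h0 (by rw [one_mul, mul_assoc, h])
  exact hab (by linear_combination (-a) * hb + b * h1)

theorem eq_zero_of_basis (B : Basis (Fin 3) F (Fin 3 → F)) {u : Fin 3 → F} (h : ∀ j, H (B j) u = 0) : u = 0 := by
  have hl : hlin q u = 0 := B.ext fun j => by exact h j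
  exact eq_zero_of_H hF fun v => (H_eq_zero_comm hF).1 (LinearMap.congr_fun hl v)

theorem normalise (w : Fin 3 → Fin 3 → F) (ho : ∀ i j, i ≠ j → H (w i) (w j) = 0) (hn : ∀ i, H (w i) (w i) ≠ 0) :
    ∃ c : Fin 3 → F, (∀ i, c i ≠ 0) ∧ IsFrame q fun i => c i • w i := by
  choose c hc using fun i => Cfsg.Agent.Classical.UnitaryCount.exists_norm_eq hF (hn i) (H_conj hF _ _)
  have hc0 : ∀ i, c i ≠ 0 := fun i e => hn i (by rw [← hc i, e, zero_pow (Nat.succ_ne_zero q)])
  refine ⟨fun i => (c i)⁻¹, fun i => inv_ne_zero (hc0 i), fun i j => ?_⟩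
  rw [H_smul_left, H_smul_right]
  split_ifs with hij
  · subst hij
    rw [← hc i, inv_pow]
    have := hc0 i
    field_simp
    ring
  · rw [ho i j hij, mul_zero, mul_zero]

theorem frame_of_injective {M : Matrix (Fin 3) (Fin 3) F} (hM : ∀ u v, H (M *ᵥ u) (M *ᵥ v) = H u v)
    (B : Basis (Fin 3) F (Fin 3 → F)) (d : Fin 3 → F) (hd : ∀ i, d i ^ (q + 1) = 1) (hinj : Function.Injective d)
    (hB : ∀ i, M *ᵥ B i = d i • B i) :
    ∃ f : Fin 3 → Fin 3 → F, IsFrame q f ∧ ∀ i, M *ᵥ f i = d i • f i := by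
  have ho : ∀ i j, i ≠ j → H (B i) (B j) = 0 := fun i j hij =>
    eigen_orth hF hM (hB i) (hB j) (hd j) fun e => hij (hinj e)
  obtain ⟨c, -, hc⟩ := normalise hF (fun i => B i) ho fun i e => B.ne_zero i (eq_zero_of_basis hF B fun j => by
    rcases eq_or_ne j i with rfl | hji
    · exact e
    · exact ho j i hji)
  exact ⟨_, hc, fun i => by rw [Matrix.mulVec_smul, hB, smul_comm]⟩

theorem frame_of_pattern (h2 : (2 : F) ≠ 0) {M : Matrix (Fin 3) (Fin 3) F}
    (hM : ∀ u v, H (M *ᵥ u) (M *ᵥ v) = H u v) (B : Basis (Fin 3) F (Fin 3 → F)) {α β : F}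
    (hα : α ^ (q + 1) = 1) (hβ : β ^ (q + 1) = 1) (hab : α ≠ β)
    (hB : ∀ i, M *ᵥ B i = (if i = 2 then β else α) • B i) :
    ∃ f : Fin 3 → Fin 3 → F, IsFrame q f ∧ ∀ i, M *ᵥ f i = (if i = 2 then β else α) • f i := by
  have hB0 : M *ᵥ B 0 = α • B 0 := by simpa using hB 0
  have hB1 : M *ᵥ B 1 = α • B 1 := by simpa using hB 1
  have hB2 : M *ᵥ B 2 = β • B 2 := by simpa using hB 2
  have o02 := eigen_orth hF hM hB0 hB2 hβ hab
  have o12 := eigen_orth hF hM hB1 hB2 hβ hab
  have o20 := (H_eq_zero_comm hF).1 o02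
  have o21 := (H_eq_zero_comm hF).1 o12
  obtain ⟨s, t, hst⟩ : ∃ s t : F, H (s • B 0 + t • B 1) (s • B 0 + t • B 1) ≠ 0 := by
    by_cases h0 : H (B 0) (B 0) = 0
    · by_cases h1 : H (B 1) (B 1) = 0
      · have h10 : H (B 1) (B 0) ≠ 0 := fun e => B.ne_zero 0 (eq_zero_of_basis hF B fun j => by
          fin_cases j
          · exact h0
          · exact e
          · exact o20)
        refine ⟨1, (H (B 1) (B 0))⁻¹, ?_⟩
        rw [H_add_left, H_add_right hF, H_add_right hF, H_smul_left, H_smul_left, H_smul_left, H_smul_left,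
          H_smul_right, H_smul_right, H_smul_right, H_smul_right, h0, h1, one_pow, inv_pow, H_conj hF,
          ← H_conj hF (B 1) (B 0)]
        refine ne_of_eq_of_ne ?_ h2
        linear_combination inv_mul_cancel₀ h10 + inv_mul_cancel₀ (pow_ne_zero q h10)
      · exact ⟨0, 1, by simpa using h1⟩
    · exact ⟨1, 0, by simpa using h0⟩
  set u := s • B 0 + t • B 1 with hu
  set x := H (B 1) u with hx
  set y := - H (B 0) u with hy
  set v := x • B 0 + y • B 1 with hv
  have hvu : H v u = 0 := by
    rw [hv, H_add_left, H_smul_left, H_smul_left, hx, hy]; ring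
  have hul : ∀ z, H u z = s * H (B 0) z + t * H (B 1) z := fun z => by
    simp only [hu, H_add_left, H_smul_left]
  have hvl : ∀ z, H v z = x * H (B 0) z + y * H (B 1) z := fun z => by
    simp only [hv, H_add_left, H_smul_left]
  have huu := hul u
  have hvv : H v v ≠ 0 := by
    intro e
    have e1 : H u v = 0 := (H_eq_zero_comm hF).1 hvu
    rw [hul] at e1
    rw [hvl] at e
    have hD : s * y - t * x ≠ 0 := fun e2 => hst (by rw [huu]; linear_combination -e2)
    have hv0 : v = 0 := eq_zero_of_basis hF B fun j => by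
      fin_cases j
      · exact (mul_eq_zero.1 (show (s * y - t * x) * H (B 0) v = 0 by linear_combination y * e1 - t * e)).resolve_left hD
      · exact (mul_eq_zero.1 (show (s * y - t * x) * H (B 1) v = 0 by linear_combination s * e - x * e1)).resolve_left hD
      · show H (B 2) v = 0
        rw [hv, H_add_right hF, H_smul_right, H_smul_right, o20, o21, mul_zero, mul_zero, add_zero]
    have h := congrArg B.repr hv0
    have hx0 : x = 0 := by simpa [hv] using congrArg (fun l => l 0) h
    have hy0 : y = 0 := by simpa [hv] using congrArg (fun l => l 1) h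
    exact hD (by rw [hx0, hy0]; ring)
  have hu2 : H u (B 2) = 0 := by
    rw [hu, H_add_left, H_smul_left, H_smul_left, o02, o12, mul_zero, mul_zero, add_zero]
  have hv2 : H v (B 2) = 0 := by
    rw [hv, H_add_left, H_smul_left, H_smul_left, o02, o12, mul_zero, mul_zero, add_zero]
  have h22 : H (B 2) (B 2) ≠ 0 := fun e => B.ne_zero 2 (eq_zero_of_basis hF B fun j => by
    fin_cases j
    · exact o02
    · exact o12
    · exact e)
  obtain ⟨c, -, hc⟩ := normalise hF ![u, v, B 2] (fun i j hij => by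
      fin_cases i <;> fin_cases j <;> first
        | exact absurd rfl hij
        | exact hu2
        | exact hv2
        | exact hvu
        | exact (H_eq_zero_comm hF).1 hu2
        | exact (H_eq_zero_comm hF).1 hv2
        | exact (H_eq_zero_comm hF).1 hvu) (fun i => by
      fin_cases i
      · exact hst
      · exact hvv
      · exact h22)
  refine ⟨_, hc, fun i => ?_⟩
  rw [Matrix.mulVec_smul, smul_comm _ (c i)]
  congr 1
  fin_cases i
  · simp [hu, Matrix.mulVec_add, Matrix.mulVec_smul, hB0, hB1, smul_comm α]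
  · simp [hv, Matrix.mulVec_add, Matrix.mulVec_smul, hB0, hB1, smul_comm α]
  · simp [hB2]

theorem frame_two (h2 : (2 : F) ≠ 0) {M : Matrix (Fin 3) (Fin 3) F}
    (hM : ∀ u v, H (M *ᵥ u) (M *ᵥ v) = H u v) {a b : F} (ha : a ^ (q + 1) = 1) (hb : b ^ (q + 1) = 1) (hab : a ≠ b)
    (hh : ∀ v, M *ᵥ (M *ᵥ v - b • v) = a • (M *ᵥ v - b • v)) (hns : ∀ z : F, M ≠ z • 1) :
    ∃ α β : F, (α = a ∧ β = b ∨ α = b ∧ β = a) ∧ M.det = α ^ 2 * β ∧
      ∃ f : Fin 3 → Fin 3 → F, IsFrame q f ∧ ∀ i, M *ᵥ f i = (if i = 2 then β else α) • f i := by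
  obtain ⟨s, t, Bf, hl, hr, hdet⟩ := S5971.two_eigen hab (f := Matrix.toLin' M) fun v => by
    simpa only [Matrix.toLin'_apply] using hh v
  rw [LinearMap.det_toLin'] at hdet
  have hst : s + t = 3 := by
    have := (Module.finrank_eq_card_basis Bf).symm
    simpa using this
  rcases (by omega : s = 0 ∨ t = 0 ∨ (s = 1 ∧ t = 2) ∨ (s = 2 ∧ t = 1)) with h | h | ⟨rfl, rfl⟩ | ⟨rfl, rfl⟩
  · subst h
    exfalso
    refine hns b (Matrix.toLin'.injective (Bf.ext fun i => ?_))
    rcases i with i | i
    · exact i.elim0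
    · rw [hr]; simp
  · subst h
    exfalso
    refine hns a (Matrix.toLin'.injective (Bf.ext fun i => ?_))
    rcases i with i | i
    · rw [hl]; simp
    · exact i.elim0
  · refine ⟨b, a, Or.inr ⟨rfl, rfl⟩, by rw [hdet, pow_one, mul_comm],
      frame_of_pattern hF h2 hM (Bf.reindex ((Equiv.sumComm _ _).trans finSumFinEquiv)) hb ha (Ne.symm hab) fun i => ?_⟩
    fin_cases i
    · simp; rw [← Matrix.toLin'_apply]; exact hr 0
    · simp; rw [← Matrix.toLin'_apply]; exact hr 1
    · simp; rw [← Matrix.toLin'_apply]; exact hl 0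
  · refine ⟨a, b, Or.inl ⟨rfl, rfl⟩, by rw [hdet, pow_one],
      frame_of_pattern hF h2 hM (Bf.reindex finSumFinEquiv) ha hb hab fun i => ?_⟩
    fin_cases i
    · simp; rw [← Matrix.toLin'_apply]; exact hl 0
    · simp; rw [← Matrix.toLin'_apply]; exact hl 1
    · simp; rw [← Matrix.toLin'_apply]; exact hr 0

theorem frame_involution (h2 : (2 : F) ≠ 0) {M : Matrix (Fin 3) (Fin 3) F}
    (hM : ∀ u v, H (M *ᵥ u) (M *ᵥ v) = H u v) {c : F} (hc : c ^ 3 = 1) (hcq : c ^ (q + 1) = 1) (hq : Even (q + 1))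
    (hsq : M * M = c • 1) (hdet : M.det = 1) (hns : ∀ z : F, M ≠ z • 1) :
    ∃ f : Fin 3 → Fin 3 → F, IsFrame q f ∧ ∀ i, M *ᵥ f i = (if i = 2 then c ^ 2 else -(c ^ 2)) • f i := by
  have hc0 : c ≠ 0 := fun e => by rw [e] at hc; simp at hc
  have hb : (c ^ 2) ^ (q + 1) = 1 := by rw [← pow_mul, mul_comm, pow_mul, hcq, one_pow]
  have hab : -(c ^ 2) ≠ c ^ 2 := fun e => mul_ne_zero h2 (pow_ne_zero 2 hc0) (by linear_combination -e)
  obtain ⟨α, β, hcase, hd, f, hf, hfe⟩ := frame_two hF h2 hM (by rw [hq.neg_pow, hb]) hb hab (fun v => by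
    have h : M *ᵥ (M *ᵥ v) = c • v := by rw [Matrix.mulVec_mulVec, hsq, Matrix.smul_mulVec, Matrix.one_mulVec]
    rw [Matrix.mulVec_sub, Matrix.mulVec_smul, h]
    match_scalars
    · linear_combination (-c) * hc
    · ring) hns
  rcases hcase with ⟨rfl, rfl⟩ | ⟨rfl, rfl⟩
  · exact ⟨f, hf, hfe⟩
  · exfalso
    rw [hdet] at hd
    exact h2 (by linear_combination hd - (c ^ 3 + 1) * hc)

/-- an element of the unitary group moving one frame onto another -/
theorem exists_map {a c : Fin 3 → Fin 3 → F} (ha : IsFrame q a) (hc : IsFrame q c) :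
    ∃ g : GL (Fin 3) F, g ∈ Cfsg.GU 3 F q ∧ (∀ i, (g : Matrix (Fin 3) (Fin 3) F) *ᵥ a i = c i) ∧
      (g : Matrix (Fin 3) (Fin 3) F).det * (Matrix.of fun r i => a i r).det = (Matrix.of fun r i => c i r).det := by
  have hpres : ∀ f : Fin 3 → Fin 3 → F, IsFrame q f → ∀ u v,
      H ((Matrix.of fun r i => f i r) *ᵥ u) ((Matrix.of fun r i => f i r) *ᵥ v) = H u v := by
    intro f hf u v
    have e : ∀ w : Fin 3 → F, (Matrix.of fun r i => f i r) *ᵥ w = Fintype.linearCombination F f w := by
      intro w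
      funext r
      simp [Matrix.mulVec, dotProduct, Fintype.linearCombination_apply, mul_comm]
    rw [e, e, H_linComb hF hf]
  set A := guMk hF _ (hpres a ha)
  set C := guMk hF _ (hpres c hc)
  have hcol : ∀ (f : Fin 3 → Fin 3 → F) i, (Matrix.of fun r i => f i r) *ᵥ Pi.single i 1 = f i := fun f i => by
    funext r; simp
  refine ⟨_, (C * A⁻¹).2, fun i => ?_, ?_⟩
  · show gmat (C * A⁻¹) *ᵥ a i = c i
    rw [gmul_mulVec, ginv_mulVec A (u := Pi.single i 1) (hcol a i)]
    exact hcol c i
  · show (gmat (C * A⁻¹)).det * (gmat A).det = (gmat C).det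
    rw [← Matrix.det_mul, ← gmat_mul, inv_mul_cancel_right]

theorem det_norm_one {a : Fin 3 → Fin 3 → F} (ha : IsFrame q a) :
    (Matrix.of fun r i => a i r).det ^ (q + 1) = 1 := by
  refine HermStd.det_norm hF _ fun u v => ?_
  have e : ∀ w : Fin 3 → F, (Matrix.of fun r i => a i r) *ᵥ w = Fintype.linearCombination F a w := by
    intro w
    funext r
    simp [Matrix.mulVec, dotProduct, Fintype.linearCombination_apply, mul_comm]
  rw [e, e, H_linComb hF ha]

/-- the same with determinant one, up to a factor on one vector -/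
theorem exists_su {a c : Fin 3 → Fin 3 → F} (ha : IsFrame q a) (hc : IsFrame q c) :
    ∃ g : GL (Fin 3) F, g ∈ Cfsg.GU 3 F q ⊓ Cfsg.Geo.specialLinear (Fin 3) F ∧
      ∀ i, ∃ u : F, (g : Matrix (Fin 3) (Fin 3) F) *ᵥ a i = u • c i := by
  classical
  set da := (Matrix.of fun r i => a i r).det
  set dc := (Matrix.of fun r i => c i r).det
  have hna := det_norm_one hF ha
  have hnc := det_norm_one hF hc
  have hdc : dc ≠ 0 := fun e => by
    rw [show (Matrix.of fun r i => c i r).det = 0 from e, zero_pow (Nat.succ_ne_zero q)] at hnc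
    exact zero_ne_one hnc
  have hda : da ≠ 0 := fun e => by
    rw [show (Matrix.of fun r i => a i r).det = 0 from e, zero_pow (Nat.succ_ne_zero q)] at hna
    exact zero_ne_one hna
  let e : Fin 3 → F := fun i => if i = 0 then da / dc else 1
  have he : ∀ i, e i ^ (q + 1) = 1 := fun i => by
    simp only [e]; split_ifs
    · rw [div_pow, hna, hnc, div_one]
    · exact one_pow _
  have hce : IsFrame q fun i => e i • c i := fun i j => by
    rw [H_smul_left, H_smul_right, hc i j]
    split_ifs with hij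
    · subst hij; rw [mul_one, ← pow_succ', he]
    · ring
  obtain ⟨g, hgU, hg, hgd⟩ := exists_map hF ha hce
  refine ⟨g, Subgroup.mem_inf.2 ⟨hgU, ?_⟩, fun i => ⟨e i, hg i⟩⟩
  rw [Cfsg.Geo.specialLinear, MonoidHom.mem_ker]
  refine Units.ext ?_
  rw [Matrix.GeneralLinearGroup.val_det_apply, Units.val_one]
  refine mul_right_cancel₀ hda (hgd.trans ?_)
  rw [show (Matrix.of fun r i => (e i • c i) r) = (Matrix.of fun r i => c i r) * Matrix.diagonal e by
    ext r i; simp [Matrix.mul_diagonal, mul_comm], Matrix.det_mul, Matrix.det_diagonal, one_mul]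
  simp [e, Fin.prod_univ_three]
  exact mul_div_cancel₀ _ hdc

omit hF


/-- Elements of prime order of PSU_3(p), p ≡ 2 (mod 3), and the normalizer of an extraspecial subgroup of order 27. Here `T = PSU_3(p)` for a prime `p ≥ 5` with `p ≡ 2 (mod 3)`, realised through `SU_3(p)`, the matrices of determinant 1 over the field `F` with `p²` elements preserving the hermitian form `Σ uᵢvᵢ^p`; `R` is a non-abelian subgroup of order 27 and exponent 3 of the full unitary group of that form (an extraspecial group 3^{1+2}, acting absolutely irreducibly), and `H` is the subgroup of `SU_3(p)` normalizing `R` — a subgroup of type 3^{1+2}.Sp₂(3) (maximality is not assumed). Ω is the set of cosets of `H`, so an element of `T` of prime order `r` (`x ∈ SU_3(p)` with `x^r` scalar, `x` not scalar) fixes a point of Ω exactly when some `SU_3(p)`-conjugate of `x` normalizes `R`. Let `r` be a prime dividing the index of `H`. Then every element of `T` of order `r` fixes a point of Ω if and only if `r = 2`, or `r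 = 3` and `p ≡ 8 (mod 9)`. -/
theorem result {F : Type*} [Field F] [Fintype F] {p : ℕ} [Fact p.Prime] [CharP F p] (hF : Fintype.card F = p ^ 2) (hp : 5 ≤ p) (hp3 : p % 3 = 2)
    (R : Subgroup (GL (Fin 3) F)) (hRU : R ≤ Cfsg.GU 3 F p) (hR : Nat.card R = 27) (hRe : Monoid.exponent R = 3) (hRna : ¬ IsMulCommutative R)
    (r : ℕ) [Fact r.Prime]
    (hΩ : r ∣ (Cfsg.Geo.subgroupNormalizer R).relIndex (Cfsg.GU 3 F p ⊓ Cfsg.Geo.specialLinear (Fin 3) F)) :
    (∀ x ∈ Cfsg.GU 3 F p ⊓ Cfsg.Geo.specialLinear (Fin 3) F, (∃ z : F, ((x ^ r : GL (Fin 3) F) : Matrix (Fin 3) (Fin 3) F) = z • (1 : Matrix (Fin 3) (Fin 3) F)) →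
      (∀ z : F, (x : Matrix (Fin 3) (Fin 3) F) ≠ z • (1 : Matrix (Fin 3) (Fin 3) F)) →
      ∃ g ∈ Cfsg.GU 3 F p ⊓ Cfsg.Geo.specialLinear (Fin 3) F, g⁻¹ * x * g ∈ Cfsg.Geo.subgroupNormalizer R) ↔ (r = 2 ∨ (r = 3 ∧ p % 9 = 8)) := by
  classical
  haveI : Fact (Nat.Prime 3) := ⟨Nat.prime_three⟩
  haveI : Fact (Nat.Prime 2) := ⟨Nat.prime_two⟩
  have hpp : p.Prime := Fact.out
  have hp2 : p ≠ 2 := by omega
  have h2 : (2 : F) ≠ 0 := by
    have := natCast_prime_ne_zero (F := F) p (r := 2) (Ne.symm hp2)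
    exact_mod_cast this
  have hpe : Even (p + 1) := (hpp.odd_of_ne_two hp2).add_one
  have hcard3 : Fintype.card F % 3 = 1 := by rw [hF, Nat.pow_mod, hp3]
  obtain ⟨ω, b₁, A, B, hω, hω1, hA, hB, hAb₁, hBb₁, hcl⟩ := S5998.std hcard3 R hR hRe hRna
  haveI : Finite R := Nat.finite_of_card_ne_zero (by rw [hR]; norm_num)
  have hmemU : ∀ g ∈ Cfsg.GU 3 F p, ∀ u v, Cfsg.hermForm 3 F p ((g : Matrix (Fin 3) (Fin 3) F) *ᵥ u)
      ((g : Matrix (Fin 3) (Fin 3) F) *ᵥ v) = Cfsg.hermForm 3 F p u v := fun g hg => hg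
  have cube : ∀ a : F, a ^ 3 = 1 → a ^ (p + 1) = 1 := fun a ha => by
    obtain ⟨t, ht⟩ : 3 ∣ p + 1 := by omega
    rw [ht, pow_mul, ha, one_pow]
  have hpow : ∀ i : Fin 3, (ω ^ (i : ℕ)) ^ 3 = 1 := fun i => by rw [← pow_mul, mul_comm, pow_mul, hω, one_pow]
  have hinjω := S5998.pow_inj hω hω1
  -- a standard frame
  obtain ⟨b, hbF, hAb, hBb⟩ : ∃ b : Basis (Fin 3) F (Fin 3 → F), IsFrame p (fun i => b i) ∧
      (∀ i, (A : Matrix (Fin 3) (Fin 3) F) *ᵥ b i = ω ^ (i : ℕ) • b i) ∧
      (∀ i, (B : Matrix (Fin 3) (Fin 3) F) *ᵥ b i = b (i + 1)) := by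
    have ho : ∀ i j, i ≠ j → Cfsg.hermForm 3 F p (b₁ i) (b₁ j) = 0 := fun i j hij =>
      eigen_orth hF (hmemU A (hRU hA)) (hAb₁ i) (hAb₁ j) (cube _ (hpow j)) fun e => hij (hinjω e)
    have hn : ∀ i, Cfsg.hermForm 3 F p (b₁ i) (b₁ i) ≠ 0 := fun i e => b₁.ne_zero i (eq_zero_of_basis hF b₁ fun j => by
      rcases eq_or_ne j i with rfl | hji
      · exact e
      · exact ho j i hji)
    have hstep : ∀ i : Fin 3, Cfsg.hermForm 3 F p (b₁ (i + 1)) (b₁ (i + 1)) = Cfsg.hermForm 3 F p (b₁ i) (b₁ i) :=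
      fun i => by rw [← hBb₁, hmemU B (hRU hB)]
    have hall : ∀ i, Cfsg.hermForm 3 F p (b₁ i) (b₁ i) = Cfsg.hermForm 3 F p (b₁ 0) (b₁ 0) := fun i => by
      fin_cases i
      · rfl
      · exact hstep 0
      · exact (hstep 1).trans (hstep 0)
    obtain ⟨z, hz⟩ := Cfsg.Agent.Classical.UnitaryCount.exists_norm_eq hF (hn 0) (H_conj hF _ _)
    have hz0 : z ≠ 0 := fun e => hn 0 (by rw [← hz, e, zero_pow (Nat.succ_ne_zero p)])
    refine ⟨b₁.unitsSMul fun _ => (Units.mk0 z hz0)⁻¹, fun i j => ?_, fun i => ?_, fun i => ?_⟩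
    · simp only [Basis.unitsSMul_apply, Units.smul_def, Units.val_inv_eq_inv_val, Units.val_mk0]
      rw [H_smul_left, H_smul_right]
      split_ifs with hij
      · subst hij
        rw [hall, ← hz, inv_pow]
        field_simp
        ring
      · rw [ho i j hij, mul_zero, mul_zero]
    · simp only [Basis.unitsSMul_apply, Units.smul_def]
      rw [Matrix.mulVec_smul, hAb₁, smul_comm]
    · simp only [Basis.unitsSMul_apply, Units.smul_def]
      rw [Matrix.mulVec_smul, hBb₁]
  have hdet : ∀ x ∈ Cfsg.GU 3 F p ⊓ Cfsg.Geo.specialLinear (Fin 3) F, (x : Matrix (Fin 3) (Fin 3) F).det = 1 :=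
    fun x hx => by
      have := congrArg Units.val (MonoidHom.mem_ker.1 (Subgroup.mem_inf.1 hx).2)
      simpa using this
  have hle : R ≤ Cfsg.Geo.subgroupNormalizer R := Subgroup.le_normalizer
  have fin : ∀ (x : GL (Fin 3) F) (c : F) (w : GL (Fin 3) F) (d : Fin 3 → F) (f : Fin 3 → Fin 3 → F),
      w ∈ Cfsg.Geo.subgroupNormalizer R → IsFrame p f →
      (∀ i, (x : Matrix (Fin 3) (Fin 3) F) *ᵥ f i = (c * d i) • f i) →
      (∀ i, (w : Matrix (Fin 3) (Fin 3) F) *ᵥ b i = d i • b i) →
      ∃ g ∈ Cfsg.GU 3 F p ⊓ Cfsg.Geo.specialLinear (Fin 3) F, g⁻¹ * x * g ∈ Cfsg.Geo.subgroupNormalizer R := by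
    intro x c w d f hw hf hxf hwb
    obtain ⟨g, hg, hgb⟩ := exists_su hF hbF hf
    refine ⟨g, hg, S5998.smul_mem_normalizer (c := c) (h := w) (Matrix.toLin'.injective (b.ext fun i => ?_)) hw⟩
    obtain ⟨u, hu⟩ := hgb i
    rw [map_smul, LinearMap.smul_apply, Matrix.toLin'_apply, Matrix.toLin'_apply, hwb i,
      S5998.mul_mulVec, S5998.mul_mulVec, hu, Matrix.mulVec_smul, hxf, Matrix.mulVec_smul, Matrix.mulVec_smul,
      smul_comm u, ← Matrix.mulVec_smul, ← hu, Matrix.mulVec_mulVec, ← Units.val_mul, inv_mul_cancel, Units.val_one,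
      Matrix.one_mulVec, smul_smul]
  constructor
  · intro hall
    by_contra hne
    have hcases : r = 3 ∨ 5 ≤ r := by
      have := (Fact.out : r.Prime).two_le
      by_contra hh
      rcases (by omega : r = 2 ∨ r = 4) with h | h
      · exact hne (Or.inl h)
      · exact absurd (h ▸ (Fact.out : r.Prime)) (by norm_num)
    rcases hcases with rfl | hr5
    · -- the index is prime to three
      have hp9 : p % 9 = 2 ∨ p % 9 = 5 := by
        have : p % 9 ≠ 8 := fun e => hne (Or.inr ⟨rfl, e⟩)
        omega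
      have hRS : R ≤ Cfsg.Geo.specialLinear (Fin 3) F := by
        rw [← hcl, Subgroup.closure_le]
        rintro x (rfl | rfl) <;> rw [SetLike.mem_coe, Cfsg.Geo.specialLinear, MonoidHom.mem_ker] <;>
          refine Units.ext ?_ <;> rw [Matrix.GeneralLinearGroup.val_det_apply, Units.val_one, ← LinearMap.det_toLin',
            ← LinearMap.det_toMatrix b]
        · rw [show LinearMap.toMatrix b b (Matrix.toLin' (x : Matrix (Fin 3) (Fin 3) F)) =
              Matrix.diagonal fun i : Fin 3 => ω ^ (i : ℕ) from by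
            ext i j
            rw [LinearMap.toMatrix_apply, Matrix.toLin'_apply, hAb, map_smul, Basis.repr_self]
            rcases eq_or_ne i j with rfl | hij
            · simp
            · simp [hij]]
          rw [Matrix.det_diagonal]
          simp [Fin.prod_univ_three]
          linear_combination hω
        · rw [show LinearMap.toMatrix b b (Matrix.toLin' (x : Matrix (Fin 3) (Fin 3) F)) =
              !![0, 0, 1; 1, 0, 0; 0, 1, 0] from by
            ext i j
            rw [LinearMap.toMatrix_apply, Matrix.toLin'_apply, hBb, Basis.repr_self]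
            fin_cases i <;> fin_cases j <;> simp]
          simp [Matrix.det_fin_three]
      set S := Cfsg.GU 3 F p ⊓ Cfsg.Geo.specialLinear (Fin 3) F with hSdef
      set N := Cfsg.Geo.subgroupNormalizer R
      have hmul : N.relIndex S * Nat.card (N.subgroupOf S) = Nat.card S := Subgroup.index_mul_card _
      have h27 : 27 ∣ Nat.card (N.subgroupOf S) := by
        rw [← hR, ← Nat.card_congr (Subgroup.subgroupOfEquivOfLe (le_inf hRU hRS)).toEquiv]
        exact Subgroup.card_dvd_of_le (Subgroup.comap_mono hle)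
      have h81 : 81 ∣ Nat.card S := hmul ▸ Nat.mul_dvd_mul hΩ h27
      have hS : Nat.card (Cfsg.SU 3 F p) = Nat.card S := by
        refine Nat.card_congr ((MonoidHom.ofInjective (suToGU_injective (n := 3) (F := F) (q := p))).toEquiv.trans ?_)
        rw [range_suToGU]
        exact
          { toFun := fun g => ⟨g.1.1, Subgroup.mem_inf.2 ⟨g.1.2, g.2⟩⟩
            invFun := fun g => ⟨⟨g.1, (Subgroup.mem_inf.1 g.2).1⟩, (Subgroup.mem_inf.1 g.2).2⟩
            left_inv := fun g => rfl
            right_inv := fun g => rfl }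
      have h := natCard_SU_mul (n := 3) hF (by norm_num)
      rw [hS, natCard_GU hF] at h
      simp only [Finset.prod_range_succ, Finset.prod_range_zero, one_mul, if_pos (show Even 0 by decide),
        if_neg (show ¬ Even 1 by decide), if_pos (show Even 2 by decide), show 3 * (3 - 1) / 2 = 3 from rfl,
        Nat.reduceAdd, zero_add, pow_one] at h
      obtain ⟨t, ht⟩ : ∃ t, p + 1 = 3 * t := ⟨(p + 1) / 3, by omega⟩
      obtain ⟨s, hs⟩ : ∃ s, p = 3 * s + 2 := ⟨p / 3, by omega⟩
      have hfac : p ^ 3 * ((p + 1) * (p ^ 2 - 1) * (p ^ 3 + 1)) =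
          (p + 1) * (27 * (p ^ 3 * t * t * (3 * s + 1) * (3 * (s * s) + 3 * s + 1))) := by
        obtain rfl : t = s + 1 := by omega
        subst hs
        rw [Nat.sub_eq_of_eq_add (show (3 * s + 2) ^ 2 = 3 * (s + 1) * (3 * s + 1) + 1 by ring)]
        ring
      rw [hfac] at h
      have hcS := Nat.eq_of_mul_eq_mul_left (by omega) h
      rw [hcS, show (81 : ℕ) = 27 * 3 by norm_num] at h81
      have h3 := Nat.dvd_of_mul_dvd_mul_left (by norm_num) h81
      have hs3 : ¬ 3 ∣ t := by omega
      rcases Nat.prime_three.dvd_mul.1 h3 with h3 | h3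
      · rcases Nat.prime_three.dvd_mul.1 h3 with h3 | h3
        · rcases Nat.prime_three.dvd_mul.1 h3 with h3 | h3
          · rcases Nat.prime_three.dvd_mul.1 h3 with h3 | h3
            · have := Nat.prime_three.dvd_of_dvd_pow h3; omega
            · exact hs3 h3
          · exact hs3 h3
        · omega
      · omega
    · -- no element of order `r` in the normaliser
      obtain ⟨y, hy⟩ := exists_prime_orderOf_dvd_card' (G := ↥(Cfsg.GU 3 F p ⊓ Cfsg.Geo.specialLinear (Fin 3) F)) r
        (hΩ.trans (Subgroup.relIndex_dvd_card _ _))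
      have hyr : (y : GL (Fin 3) F) ^ r = 1 := by
        rw [← SubgroupClass.coe_pow, ← hy, pow_orderOf_eq_one, OneMemClass.coe_one]
      have hsc : ∀ c : F, ((y : GL (Fin 3) F) : Matrix (Fin 3) (Fin 3) F) ≠ c • 1 := by
        intro c hc
        have h1 := hdet _ y.2
        rw [hc, Matrix.det_smul, Matrix.det_one, mul_one, Fintype.card_fin] at h1
        have : orderOf y ∣ 3 := orderOf_dvd_of_pow_eq_one (Subtype.ext (Units.ext (by
          rw [SubgroupClass.coe_pow, Units.val_pow_eq_pow_val, hc, _root_.smul_pow, one_pow, h1, one_smul]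
          rfl)))
        rw [hy] at this
        have := Nat.le_of_dvd (by norm_num) this
        omega
      obtain ⟨g, -, hg⟩ := hall y y.2 ⟨1, by rw [hyr, Units.val_one, one_smul]⟩ hsc
      set x := g⁻¹ * (y : GL (Fin 3) F) * g with hxdef
      have hxr : x ^ r = 1 := by
        have := conj_pow (i := r) (a := g⁻¹) (b := (y : GL (Fin 3) F))
        rw [inv_inv] at this
        rw [hxdef, this, hyr]; group
      have hmem : ∀ z ∈ Subgroup.zpowers x, ∀ u ∈ R, z * u * z⁻¹ ∈ R := fun z hz u hu => by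
        have hle' : Subgroup.zpowers x ≤ Subgroup.normalizer (R : Set (GL (Fin 3) F)) := Subgroup.zpowers_le.2 hg
        exact (Subgroup.mem_normalizer_iff.1 (hle' hz) u).1 hu
      letI : MulAction (Subgroup.zpowers x) R :=
        { smul := fun z u => ⟨z.1 * u.1 * z.1⁻¹, hmem z.1 z.2 u.1 u.2⟩
          one_smul := fun u => Subtype.ext (by change (1 : GL (Fin 3) F) * u.1 * 1⁻¹ = u.1; group)
          mul_smul := fun z w u => Subtype.ext (by
            change (z.1 * w.1) * u.1 * (z.1 * w.1)⁻¹ = z.1 * (w.1 * u.1 * w.1⁻¹) * z.1⁻¹; group) }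
      have hP : IsPGroup r (Subgroup.zpowers x) := by
        have hd : Nat.card (Subgroup.zpowers x) ∣ r := by
          rw [Nat.card_zpowers]; exact orderOf_dvd_of_pow_eq_one hxr
        rcases (Nat.dvd_prime (Fact.out : r.Prime)).1 hd with h | h
        · exact IsPGroup.of_card (n := 0) (by rw [h, pow_zero])
        · exact IsPGroup.of_card (n := 1) (by rw [h, pow_one])
      let C : Subgroup R := (Subgroup.centralizer {x}).subgroupOf R
      have hC : ∀ u : R, u ∈ C ↔ x * (u : GL (Fin 3) F) = u * x := fun u => by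
        show (u : GL (Fin 3) F) ∈ Subgroup.centralizer {x} ↔ _
        rw [Subgroup.mem_centralizer_singleton_iff]
        exact ⟨fun e => e.symm, fun e => e.symm⟩
      have hfix : MulAction.fixedPoints (Subgroup.zpowers x) R = (C : Set R) := by
        ext u
        rw [MulAction.mem_fixedPoints, SetLike.mem_coe, hC]
        constructor
        · intro h
          have h1 := congrArg Subtype.val (h ⟨x, Subgroup.mem_zpowers x⟩)
          change x * u.1 * x⁻¹ = u.1 at h1
          exact mul_inv_eq_iff_eq_mul.1 h1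
        · intro h z
          obtain ⟨k, hk⟩ := z.2
          apply Subtype.ext
          change z.1 * u.1 * z.1⁻¹ = u.1
          rw [← hk]
          have h1 : Commute (x ^ k) u.1 := (show Commute x u.1 from h).zpow_left k
          rw [h1.eq, mul_inv_cancel_right]
      have hmod := hP.card_modEq_card_fixedPoints R
      rw [hfix, hR] at hmod
      change 27 ≡ Nat.card C [MOD r] at hmod
      have hzs : ((A * B * A⁻¹ * B⁻¹ : GL (Fin 3) F) : Matrix (Fin 3) (Fin 3) F) = ω • 1 := by
        have e : A * B = scal (Units.mk0 ω (fun e => by rw [e] at hω; simp at hω)) * (B * A) := S5998.eq_of_basis b fun i => by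
          simp only [S5998.mul_mulVec, scal_val, hAb, hBb, Matrix.mulVec_smul, Matrix.smul_mulVec, Matrix.one_mulVec, Units.val_mk0]
          rw [smul_smul]
          congr 1
          fin_cases i <;> simp
          all_goals first
            | linear_combination (norm := ring1) hω
            | linear_combination (norm := ring1) -hω
            | ring1
        rw [e, show ∀ s : GL (Fin 3) F, s * (B * A) * A⁻¹ * B⁻¹ = s from fun s => by group, scal_val, Units.val_mk0]
      have hzC : (⟨A * B * A⁻¹ * B⁻¹, mul_mem (mul_mem (mul_mem hA hB) (inv_mem hA)) (inv_mem hB)⟩ : R) ∈ C := by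
        rw [hC]
        exact Units.ext (by
          simp only [Units.val_mul x, Units.val_mul (b := x), hzs, Matrix.mul_smul, Matrix.mul_one, Matrix.smul_mul, Matrix.one_mul])
      have hC2 : 2 ≤ Nat.card C := by
        by_contra hlt
        have := (Subgroup.card_le_one_iff_eq_bot C).1 (by omega)
        rw [this, Subgroup.mem_bot] at hzC
        have h1 := congrArg (fun u : R => ((u : GL (Fin 3) F) : Matrix (Fin 3) (Fin 3) F)) hzC
        simp only [hzs, OneMemClass.coe_one, Units.val_one] at h1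
        exact hω1 (by simpa using congrFun (congrFun h1 0) 0)
      have hCt : C = ⊤ := by
        refine Subgroup.eq_top_of_card_eq _ ?_
        rw [hR]
        obtain ⟨j, hj, hjc⟩ := (Nat.dvd_prime_pow Nat.prime_three).1
          (show Nat.card C ∣ 3 ^ 3 by have := Subgroup.card_subgroup_dvd_card C; rw [hR] at this; exact this)
        have hle27 : Nat.card C ≤ 27 := by
          rw [hjc]; exact (Nat.pow_le_pow_right (by norm_num) hj).trans (by norm_num)
        have hd := (Nat.modEq_iff_dvd' hle27).1 hmod.symm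
        by_contra hne27
        have key : ∀ m, r ∣ m → m = 2 ^ 3 * 3 ∨ m = 2 * 3 ^ 2 → False := by
          intro m hm hm'
          rcases hm' with rfl | rfl <;> rcases (Fact.out : r.Prime).dvd_mul.1 hm with h | h
          · have := Nat.le_of_dvd (by norm_num) ((Fact.out : r.Prime).dvd_of_dvd_pow h); omega
          · have := Nat.le_of_dvd (by norm_num) h; omega
          · have := Nat.le_of_dvd (by norm_num) h; omega
          · have := Nat.le_of_dvd (by norm_num) ((Fact.out : r.Prime).dvd_of_dvd_pow h); omega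
        rw [hjc] at hne27 hC2 hd
        rcases (by omega : j = 0 ∨ j = 1 ∨ j = 2 ∨ j = 3) with rfl | rfl | rfl | rfl
        · norm_num at hC2
        · exact key _ hd (Or.inl (by norm_num))
        · exact key _ hd (Or.inr (by norm_num))
        · exact hne27 (by norm_num)
      have hcA : x * A = A * x := (hC ⟨A, hA⟩).1 (hCt ▸ Subgroup.mem_top _)
      have hcB : x * B = B * x := (hC ⟨B, hB⟩).1 (hCt ▸ Subgroup.mem_top _)
      choose d hd using S5998.eigen_of_comm hω hω1 b hAb hcA
      have hstep : ∀ i, d (i + 1) = d i := fun i => by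
        have h1 : ((x * B : GL (Fin 3) F) : Matrix (Fin 3) (Fin 3) F) *ᵥ b i = d (i + 1) • b (i + 1) := by
          rw [S5998.mul_mulVec, hBb, hd]
        rw [hcB, S5998.mul_mulVec, hd, Matrix.mulVec_smul, hBb] at h1
        have h0 : (d i - d (i + 1)) • b (i + 1) = 0 := by rw [sub_smul, h1, sub_self]
        exact (sub_eq_zero.1 ((smul_eq_zero.1 h0).resolve_right (b.ne_zero _))).symm
      have hd0 : ∀ i, d i = d 0 := by
        intro i
        fin_cases i
        · rfl
        · exact hstep 0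
        · exact (hstep 1).trans (hstep 0)
      have hx : (x : Matrix (Fin 3) (Fin 3) F) = d 0 • 1 := Matrix.toLin'.injective (b.ext fun i => by
        rw [Matrix.toLin'_apply, hd, hd0]; simp)
      refine hsc (d 0) ?_
      have e : (y : GL (Fin 3) F) = g * x * g⁻¹ := by rw [hxdef]; group
      rw [e, Units.val_mul, Units.val_mul, hx, Matrix.mul_smul, Matrix.mul_one, Matrix.smul_mul, ← Units.val_mul,
        mul_inv_cancel, Units.val_one]
  · intro hr x hx ⟨c, hc⟩ hxs
    have hd1 := hdet x hx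
    have hxU := hmemU x (Subgroup.mem_inf.1 hx).1
    have hc3 : c ^ 3 = 1 := by
      have h1 := congrArg Matrix.det hc
      rw [Units.val_pow_eq_pow_val, Matrix.det_pow, hd1, one_pow, Matrix.det_smul, Matrix.det_one, mul_one,
        Fintype.card_fin] at h1
      exact h1.symm
    have hc0 : c ≠ 0 := fun e => by rw [e] at hc3; simp at hc3
    rcases hr with rfl | ⟨rfl, hp9⟩
    · obtain ⟨f, hf, hfe⟩ := frame_involution hF h2 hxU hc3 (cube c hc3) hpe
        (by rw [← pow_two, ← Units.val_pow_eq_pow_val]; exact hc) hd1 hxs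
      -- an involution in the normaliser
      obtain ⟨w, hwU, hwb, -⟩ := exists_map hF hbF (c := fun i => - b (-i)) (fun i j => by
        rw [H_neg_left, H_neg_right hF, neg_neg]
        exact (hbF (-i) (-j)).trans (by simp [neg_inj]))
      have hwN : w ∈ Cfsg.Geo.subgroupNormalizer R := S5998.mem_normalizer_of_gen hcl
        ⟨A ^ 2, pow_mem hA 2, S5998.eq_of_basis b fun i => by
          rw [S5998.mul_mulVec, S5998.mul_mulVec, hAb, Matrix.mulVec_smul, hwb, Matrix.mulVec_neg,
            S5998.pow_eigen A (hAb _), smul_neg, ← pow_mul]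
          congr 2
          fin_cases i
          · rfl
          · show ω ^ 1 = ω ^ (2 * 2)
            linear_combination -ω * hω
          · show ω ^ 2 = ω ^ (1 * 2)
            ring⟩
        ⟨B ^ 2, pow_mem hB 2, S5998.eq_of_basis b fun i => by
          rw [S5998.mul_mulVec, S5998.mul_mulVec, hBb, hwb, hwb, Matrix.mulVec_neg, pow_two, S5998.mul_mulVec, hBb, hBb]
          congr 2
          fin_cases i <;> decide⟩
      have hwd : (w : Matrix (Fin 3) (Fin 3) F).det = 1 := by
        rw [← LinearMap.det_toLin', ← LinearMap.det_toMatrix b,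
          show LinearMap.toMatrix b b (Matrix.toLin' (w : Matrix (Fin 3) (Fin 3) F)) = !![-1, 0, 0; 0, 0, -1; 0, -1, 0] from by
            ext i j
            rw [LinearMap.toMatrix_apply, Matrix.toLin'_apply, hwb, map_neg, Basis.repr_self]
            fin_cases i <;> fin_cases j <;> simp [Finsupp.single_apply] <;> decide]
        simp [Matrix.det_fin_three]
      have hww : (w : Matrix (Fin 3) (Fin 3) F) * w = (1 : F) • 1 := Matrix.toLin'.injective (b.ext fun i => by
        rw [one_smul, Matrix.toLin'_apply, ← Matrix.mulVec_mulVec, hwb, Matrix.mulVec_neg, hwb, neg_neg, neg_neg,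
          Matrix.toLin'_one, LinearMap.id_apply])
      have hwns : ∀ z : F, (w : Matrix (Fin 3) (Fin 3) F) ≠ z • 1 := fun z e => by
        have h1 := hwb 1
        rw [e, Matrix.smul_mulVec, Matrix.one_mulVec] at h1
        have h3 := congrArg (fun v => b.repr v 2) h1
        simp [show (-1 : Fin 3) = 2 from rfl] at h3
      obtain ⟨fw, hfw, hfwe⟩ := frame_involution hF h2 (hmemU w hwU) (one_pow 3) (one_pow _) hpe hww hwd hwns
      -- carry one eigenframe onto the other
      obtain ⟨g, hg, hgb⟩ := exists_su hF hfw hf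
      refine ⟨g, hg, S5998.smul_mem_normalizer (c := c ^ 2) (h := w) ?_ hwN⟩
      refine Matrix.toLin'.injective (LinearMap.ext_on (s := Set.range fw) ?_ ?_)
      · have hli : LinearIndependent F fw := by
          rw [Fintype.linearIndependent_iff]
          intro l hl i
          have h := congrArg (fun v => Cfsg.hermForm 3 F p v (fw i)) hl
          simp only [H_sum_left, H_smul_left, H_zero_left] at h
          rw [Finset.sum_eq_single i (fun j _ hji => by rw [hfw j i, if_neg hji, mul_zero]) (by simp), hfw i i,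
            if_pos rfl, mul_one] at h
          exact h
        exact hli.span_eq_top_of_card_eq_finrank (by simp)
      · rintro _ ⟨i, rfl⟩
        obtain ⟨u, hu⟩ := hgb i
        rw [map_smul, LinearMap.smul_apply, Matrix.toLin'_apply, Matrix.toLin'_apply, hfwe,
          S5998.mul_mulVec, S5998.mul_mulVec, hu, Matrix.mulVec_smul, hfe, Matrix.mulVec_smul, Matrix.mulVec_smul,
          smul_comm u, ← Matrix.mulVec_smul, ← hu, Matrix.mulVec_mulVec, ← Units.val_mul, inv_mul_cancel, Units.val_one,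
          Matrix.one_mulVec, smul_smul]
        congr 1
        split_ifs <;> ring
    · obtain ⟨e₁, he⟩ : ∃ e₁ : F, e₁ ^ 3 = c := by
        refine (pow_iff (r := 3) (by omega) hc0).2 ?_
        obtain ⟨t, ht⟩ : 9 ∣ p + 1 := by omega
        have hq : Fintype.card F - 1 = (p + 1) * (p - 1) := by rw [hF]; simpa using Nat.sq_sub_sq p 1
        rw [hq, show (p + 1) * (p - 1) / 3 = 3 * (t * (p - 1)) by
          rw [ht, show 9 * t * (p - 1) = 3 * (3 * (t * (p - 1))) by ring, Nat.mul_div_cancel_left _ (by norm_num)],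
          pow_mul, hc3, one_pow]
      have he9 : e₁ ^ (p + 1) = 1 := by
        obtain ⟨t, ht⟩ : 9 ∣ p + 1 := by omega
        rw [ht, pow_mul, show (9 : ℕ) = 3 * 3 from rfl, pow_mul, he, hc3, one_pow]
      have he0 : e₁ ≠ 0 := fun e => hc0 (by rw [← he, e, zero_pow three_ne_zero])
      let f : (Fin 3 → F) →ₗ[F] (Fin 3 → F) := e₁⁻¹ • Matrix.toLin' (x : Matrix (Fin 3) (Fin 3) F)
      have hfx : ∀ v, (x : Matrix (Fin 3) (Fin 3) F) *ᵥ v = e₁ • f v := fun v => by
        simp only [f, LinearMap.smul_apply, Matrix.toLin'_apply, smul_inv_smul₀ he0]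
      have hxpow : ∀ v, ((Matrix.toLin' (x : Matrix (Fin 3) (Fin 3) F)) ^ 3) v = c • v := fun v => by
        rw [← Matrix.toLin'_pow, ← Units.val_pow_eq_pow_val, hc, map_smul, Matrix.toLin'_one]; rfl
      have hf : ∀ v, (f ^ 3) v = v := fun v => by
        rw [show f ^ 3 = (e₁⁻¹) ^ 3 • Matrix.toLin' (x : Matrix (Fin 3) (Fin 3) F) ^ 3 from _root_.smul_pow _ _ _,
          LinearMap.smul_apply, hxpow, smul_smul, inv_pow, he, inv_mul_cancel₀ hc0, one_smul]
      rcases S5971.eigen_cases hf hω hω1 with ⟨b', hb'⟩ | ⟨l, m, hlm, hl3, hm3, hh⟩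
      · obtain ⟨fr, hfr, hfre⟩ := frame_of_injective hF hxU b' (fun i => e₁ * ω ^ (i : ℕ))
          (fun i => by rw [mul_pow, he9, one_mul, cube _ (hpow i)])
          (fun i j e => hinjω (mul_left_cancel₀ he0 e))
          (fun i => by rw [hfx, hb', smul_smul])
        exact fin x e₁ A _ fr (hle hA) hfr hfre hAb
      · obtain ⟨α', β', hcase, -, fr, hfr, hfre⟩ := frame_two hF h2 hxU (a := e₁ * l) (b := e₁ * m)
          (by rw [mul_pow, he9, one_mul, cube _ hl3]) (by rw [mul_pow, he9, one_mul, cube _ hm3])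
          (fun e => hlm (mul_left_cancel₀ he0 e)) (fun v => by
            rw [show (x : Matrix (Fin 3) (Fin 3) F) *ᵥ v - (e₁ * m) • v = e₁ • (f v - m • v) by
              rw [hfx, smul_sub, smul_smul], Matrix.mulVec_smul, hfx, hh, smul_smul, smul_smul, smul_smul]
            congr 1
            ring) hxs
        obtain ⟨α, β, hα, hβ, rfl, rfl⟩ : ∃ α β : F, α ^ 3 = 1 ∧ β ^ 3 = 1 ∧ α' = e₁ * α ∧ β' = e₁ * β := by
          rcases hcase with ⟨h1, h2⟩ | ⟨h1, h2⟩
          exacts [⟨l, m, hl3, hm3, h1, h2⟩, ⟨m, l, hm3, hl3, h1, h2⟩]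
        have hα0 : α ≠ 0 := fun e => by rw [e] at hα; simp at hα
        obtain ⟨k, hk, hμ⟩ := S5998.root_cases hω hω1 (x := β / α) (by rw [div_pow, hα, hβ, div_one])
        have hω0 : ω ≠ 0 := fun e => by rw [e] at hω; simp at hω
        let d : Fin 3 → F := fun i => if i = 2 then ω ^ k else 1
        have hd : ∀ i, d i ^ (p + 1) = 1 := fun i => by
          simp only [d]; split_ifs
          · exact cube _ (by rw [← pow_mul, mul_comm, pow_mul, hω, one_pow])
          · exact one_pow _
        obtain ⟨u, -, hub, -⟩ := exists_map hF hbF (c := fun i => d i • b i) (fun i j => by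
          rw [H_smul_left, H_smul_right, hbF i j]
          split_ifs with hij
          · subst hij; rw [mul_one, ← pow_succ', hd]
          · ring)
        have huN : u ∈ Cfsg.Geo.subgroupNormalizer R := S5998.mem_normalizer_of_gen hcl
          ⟨A, hA, S5998.eq_of_basis b fun i => by
            rw [S5998.mul_mulVec, S5998.mul_mulVec, hAb, Matrix.mulVec_smul, hub, Matrix.mulVec_smul, hAb, smul_comm]⟩
          ⟨B * A ^ k, mul_mem hB (pow_mem hA k), S5998.eq_of_basis b fun i => by
            rw [S5998.mul_mulVec, S5998.mul_mulVec, S5998.mul_mulVec, hBb, hub, hub, Matrix.mulVec_smul, Matrix.mulVec_smul,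
              S5998.pow_eigen A (hAb i), Matrix.mulVec_smul, hBb, smul_smul]
            congr 1
            fin_cases i <;> simp [d]
            rw [← pow_mul, ← pow_add, show k + 2 * k = 3 * k by ring, pow_mul, hω, one_pow]⟩
        refine fin x (e₁ * α) u d fr huN hfr (fun i => ?_) hub
        rw [hfre]
        congr 1
        simp only [d]
        split_ifs
        · rw [← hμ]; field_simp
        · ring

end Cfsg.Agent.S5999
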