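import Cfsg.Statements.S6002
import Cfsg.Agent.SympType4.Mono

set_option autoImplicit false
open scoped MatrixGroups
open Cfsg

namespace Cfsg.Agent.S6002

open Cfsg.Agent.SympType4 Matrix Module
open Cfsg.Agent.S5976 (lin exists_gl mem_spGL lin_mul basis_of_family)
open Cfsg.Agent.Forms

variable {F : Type*} [Field F]

/-- the plane element -/
def U (a : F) : M4 F :=
  Matrix.fromBlocks !![0, 0; 0, 1] !![-1, 0; 0, 0] !![1, 0; 0, 0] !![a, 0; 0, 1]

theorem U_mulVec (a : F) (v : I4 → F) : U a *ᵥ v =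
    Sum.elim ![-(v (Sum.inr 0)), v (Sum.inl 1)] ![v (Sum.inl 0) + a * v (Sum.inr 0), v (Sum.inr 1)] := by
  funext x
  rcases x with x | x <;> fin_cases x <;>
    simp [U, Matrix.mulVec, dotProduct, Fintype.sum_sum_type, Fin.sum_univ_two]

theorem U_cubic (a : F) : (U a - 1) * (U a * U a - a • U a + 1) = 0 := by
  refine Matrix.ext_of_mulVec_single fun k => ?_
  simp only [Matrix.zero_mulVec, ← Matrix.mulVec_mulVec, Matrix.sub_mulVec, Matrix.add_mulVec, Matrix.smul_mulVec,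
    Matrix.one_mulVec, U_mulVec]
  funext x
  rcases x with x | x <;> fin_cases x <;> simp <;> ring

theorem U_five {a : F} (ha : a * a + a = 1) : U a ^ 5 = 1 := by
  have h : U a ^ 5 - 1 = (U a * U a + (a + 1) • U a + 1) * ((U a - 1) * (U a * U a - a • U a + 1)) := by
    simp only [pow_succ, pow_zero, one_mul, mul_one, add_mul, mul_add, sub_mul, mul_sub, Matrix.smul_mul,
      Matrix.mul_smul, smul_smul, smul_add, smul_sub, ← mul_assoc]
    match_scalars <;> grind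
  rw [U_cubic, mul_zero, sub_eq_zero] at h
  exact h

theorem U_three : U (-1 : F) ^ 3 = 1 := by
  have h : U (-1 : F) ^ 3 - 1 = (U (-1) - 1) * (U (-1) * U (-1) - (-1 : F) • U (-1) + 1) := by
    simp only [pow_succ, pow_zero, one_mul, mul_one, add_mul, mul_add, sub_mul, mul_sub, Matrix.smul_mul,
      Matrix.mul_smul, smul_smul, smul_add, smul_sub, ← mul_assoc]
    match_scalars <;> grind
  rw [U_cubic, sub_eq_zero] at h
  exact h

theorem exists_U (a : F) {r : ℕ} (hr : 0 < r) (h : U a ^ r = 1) :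
    ∃ u : G4 F, (u : M4 F) = U a ∧ u ∈ Cfsg.spGL 2 F ∧ u ^ r = 1 ∧ ∀ z : F, (u : M4 F) ≠ z • 1 := by
  obtain ⟨n, rfl⟩ : ∃ n, r = n + 1 := ⟨r - 1, by omega⟩
  refine ⟨⟨U a, U a ^ n, by rw [← pow_succ', h], by rw [← pow_succ, h]⟩, rfl, fun u v => ?_,
    Units.ext (by rw [Units.val_pow_eq_pow_val]; exact h), fun z hz => ?_⟩
  · show Cfsg.sympForm 2 F (U a *ᵥ u) (U a *ᵥ v) = _
    rw [SympStd.sympForm_eq, SympStd.sympForm_eq, U_mulVec, U_mulVec]
    simp [Fin.sum_univ_two]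
    ring
  · have h1 := congrFun (congrFun hz (Sum.inr 0)) (Sum.inl 0)
    simp [U] at h1

/-- five independent elements of the centralizer of `U a` -/
theorem exists_commutant (a : F) : ∃ v : Fin 5 → M4 F, (∀ k, U a * v k = v k * U a) ∧ LinearIndependent F v := by
  refine ⟨![1, Matrix.single (Sum.inl 1) (Sum.inl 1) 1, Matrix.single (Sum.inl 1) (Sum.inr 1) 1,
    Matrix.single (Sum.inr 1) (Sum.inl 1) 1, Matrix.single (Sum.inr 1) (Sum.inr 1) 1], fun k => ?_,
    Fintype.linearIndependent_iff.2 fun c hc => ?_⟩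
  · fin_cases k
    · simp
    all_goals
      ext x y
      rcases x with x | x <;> rcases y with y | y <;> fin_cases x <;> fin_cases y <;>
        simp [U, Matrix.mul_apply, Fintype.sum_sum_type, Fin.sum_univ_two, Matrix.single]
  · have e : ∀ x y : I4, (∑ i, c i • (![1, Matrix.single (Sum.inl 1) (Sum.inl 1) 1,
        Matrix.single (Sum.inl 1) (Sum.inr 1) 1, Matrix.single (Sum.inr 1) (Sum.inl 1) 1,
        Matrix.single (Sum.inr 1) (Sum.inr 1) 1] i : M4 F)) x y = 0 := fun x y => by rw [hc]; rfl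
    have e0 := e (Sum.inl 0) (Sum.inl 0)
    have e1 := e (Sum.inl 1) (Sum.inl 1)
    have e2 := e (Sum.inl 1) (Sum.inr 1)
    have e3 := e (Sum.inr 1) (Sum.inl 1)
    have e4 := e (Sum.inr 1) (Sum.inr 1)
    simp [Fin.sum_univ_five, Matrix.sum_apply, Matrix.one_apply, Matrix.single] at e0 e1 e2 e3 e4
    intro i
    fin_cases i <;> simp_all

theorem no_anti (h2 : (2 : F) ≠ 0) {A B : M4 F} (hA : A * A = 1) (hB : B * B = 1) (hAB : A * B = -(B * A)) (a : F)
    (hAU : A * U a = U a * A) (hBU : B * U a = U a * B) : False := by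
  have hrange : ∀ w, (U a - 1) *ᵥ w = w (Sum.inl 0) • ((U a - 1) *ᵥ Pi.single (Sum.inl 0) 1) +
      w (Sum.inr 0) • (U a *ᵥ ((U a - 1) *ᵥ Pi.single (Sum.inl 0) 1)) := fun w => by
    simp only [Matrix.sub_mulVec, Matrix.one_mulVec, U_mulVec]
    funext x
    rcases x with x | x <;> fin_cases x <;> simp <;> ring
  set v : I4 → F := (U a - 1) *ᵥ Pi.single (Sum.inl 0) 1 with hv
  have hv0 : v ≠ 0 := fun h => by
    have := congrFun h (Sum.inr 0)
    simp [hv, U] at this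
  have hC : ∀ C : M4 F, C * U a = U a * C → ∃ α β : F, C *ᵥ v = α • v + β • (U a *ᵥ v) ∧
      ∀ w, C *ᵥ (U a *ᵥ w) = U a *ᵥ (C *ᵥ w) := fun C hC => by
    refine ⟨(C *ᵥ Pi.single (Sum.inl 0) 1) (Sum.inl 0), (C *ᵥ Pi.single (Sum.inl 0) 1) (Sum.inr 0), ?_,
      fun w => by rw [Matrix.mulVec_mulVec, hC, ← Matrix.mulVec_mulVec]⟩
    rw [hv, Matrix.mulVec_mulVec, show C * (U a - 1) = (U a - 1) * C by rw [mul_sub, sub_mul, hC, mul_one, one_mul],
      ← Matrix.mulVec_mulVec]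
    exact hrange _
  obtain ⟨α, β, h1, h1'⟩ := hC A hAU
  obtain ⟨γ, δ, h3, h3'⟩ := hC B hBU
  have hsym : (A * B) *ᵥ v = (B * A) *ᵥ v := by
    rw [← Matrix.mulVec_mulVec, ← Matrix.mulVec_mulVec, h3, h1]
    simp only [Matrix.mulVec_add, Matrix.mulVec_smul, h1', h3', h1, h3]
    module
  rw [hAB, Matrix.neg_mulVec] at hsym
  have h0 : (B * A) *ᵥ v = 0 := by
    funext x
    have := congrFun hsym x
    simp only [Pi.neg_apply] at this
    exact (mul_eq_zero.1 (show (2 : F) * ((B * A) *ᵥ v) x = 0 by linear_combination -this)).resolve_left h2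
  apply hv0
  have := congrArg ((A * B) *ᵥ ·) h0
  simp only [Matrix.mulVec_mulVec, Matrix.mulVec_zero] at this
  rw [show A * B * (B * A) = 1 by rw [mul_assoc, ← mul_assoc B B A, hB, one_mul, hA], Matrix.one_mulVec] at this
  exact this

theorem sq_or_four : ∀ x : ZMod 5, IsSquare x ∨ (x ^ 2 ≠ 1 ∧ x ^ 4 = 1) := by decide

theorem exists_a {p : ℕ} [hp : Fact p.Prime] [CharP F p] (hp2 : p ≠ 2) (h5 : orderOf (p : ZMod 5) ≠ 4) :
    ∃ a : F, a * a + a = 1 := by
  haveI : Fact (Nat.Prime 5) := ⟨Nat.prime_five⟩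
  have h2 : (2 : F) ≠ 0 := fun h => hp2 (((Nat.prime_dvd_prime_iff_eq hp.out Nat.prime_two).1
    ((CharP.cast_eq_zero_iff F p 2).1 (by exact_mod_cast h))))
  obtain ⟨s, hs⟩ : ∃ s : F, s * s = 5 := by
    obtain ⟨s, hs⟩ : IsSquare ((5 : ℕ) : ZMod p) := by
      rcases eq_or_ne p 5 with rfl | hp5
      · exact ⟨0, by rw [mul_zero]; exact ZMod.natCast_self 5⟩
      rw [← ZMod.exists_sq_eq_prime_iff_of_mod_four_eq_one (p := 5) (q := p) (by decide) hp2]
      rcases sq_or_four (p : ZMod 5) with h | ⟨h, h'⟩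
      · exact h
      · exact absurd (orderOf_eq_prime_pow (p := 2) (n := 1) (by rw [pow_one]; exact h) (by norm_num; exact h')) h5
    refine ⟨ZMod.castHom (dvd_refl p) F s, ?_⟩
    rw [← map_mul, ← hs, map_natCast]
    norm_num
  refine ⟨(s - 1) / 2, ?_⟩
  field_simp
  linear_combination hs

/-- an element of `Sp` sending one symplectic family to another -/
theorem exists_map {e f e' f' : Fin 2 → I4 → F}
    (h : Bases.IsSympFamily (SympStd.sympB 2 F) ⊤ e f) (h' : Bases.IsSympFamily (SympStd.sympB 2 F) ⊤ e' f') :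
    ∃ g ∈ Cfsg.spGL 2 F, ∀ i, (g : M4 F) *ᵥ e i = e' i ∧ (g : M4 F) *ᵥ f i = f' i := by
  obtain ⟨-, b, hb⟩ := basis_of_family h
  obtain ⟨-, b', hb'⟩ := basis_of_family h'
  let E := b.equiv b' (Equiv.refl _)
  have hE : ∀ z, E (b z) = b' z := fun z => by simp [E, Basis.equiv_apply]
  have halt : (SympStd.sympB 2 F).IsAlt := SympStd.sympB_isAlt
  have hiso : ∀ u v, SympStd.sympB 2 F (E u) (E v) = SympStd.sympB 2 F u v := by
    have h : (SympStd.sympB 2 F).compl₁₂ (E : (I4 → F) →ₗ[F] (I4 → F)) (E : (I4 → F) →ₗ[F] (I4 → F)) =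
        SympStd.sympB 2 F := by
      refine LinearMap.ext_basis b b fun x y => ?_
      rw [LinearMap.compl₁₂_apply, LinearEquiv.coe_coe, hE, hE, hb, hb']
      rcases x with x | x <;> rcases y with y | y <;> simp only [Sum.elim_inl, Sum.elim_inr]
      · rw [h'.ee, h.ee]
      · rw [h'.ef, h.ef]
      · rw [← LinearMap.IsAlt.neg halt (e' y), h'.ef, ← LinearMap.IsAlt.neg halt (e y), h.ef]
      · rw [h'.ff, h.ff]
    exact fun u v => LinearMap.congr_fun₂ h u v
  obtain ⟨g, hg, hgl⟩ := exists_gl (SympStd.ofEquiv E fun u v => by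
    rw [← SympStd.sympB_apply, ← SympStd.sympB_apply, hiso])
  have hgv : ∀ v, (g : M4 F) *ᵥ v = E v := fun v => by
    rw [← Matrix.toLin'_apply]
    show lin g v = _
    rw [hgl, Matrix.toLin'_apply, SympStd.ofEquiv_mulVec]
  refine ⟨g, hg, fun i => ⟨?_, ?_⟩⟩
  · rw [hgv, show e i = b (Sum.inl i) by rw [hb]; rfl, hE, hb']; rfl
  · rw [hgv, show f i = b (Sum.inr i) by rw [hb]; rfl, hE, hb']; rfl

theorem family_of_pairs {a₀ b₀ a₁ b₁ : I4 → F} (h0 : SympStd.sympB 2 F a₀ b₀ = 1) (h1 : SympStd.sympB 2 F a₁ b₁ = 1)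
    (haa : SympStd.sympB 2 F a₀ a₁ = 0) (hab : SympStd.sympB 2 F a₀ b₁ = 0)
    (hba : SympStd.sympB 2 F b₀ a₁ = 0) (hbb : SympStd.sympB 2 F b₀ b₁ = 0) :
    Bases.IsSympFamily (SympStd.sympB 2 F) ⊤ ![a₀, a₁] ![b₀, b₁] := by
  have halt : (SympStd.sympB 2 F).IsAlt := SympStd.sympB_isAlt
  have hs : ∀ u v, SympStd.sympB 2 F v u = -SympStd.sympB 2 F u v := fun u v => (LinearMap.IsAlt.neg halt u v).symm
  have hef : ∀ i j, SympStd.sympB 2 F (![a₀, a₁] i) (![b₀, b₁] j) = if i = j then 1 else 0 := fun i j => by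
    fin_cases i <;> fin_cases j <;> simp [h0, h1, hab, hs b₀ a₁, hba]
  have hee : ∀ i j, SympStd.sympB 2 F (![a₀, a₁] i) (![a₀, a₁] j) = 0 := fun i j => by
    fin_cases i <;> fin_cases j <;> simp [halt a₀, halt a₁, haa, hs a₀ a₁]
  have hff : ∀ i j, SympStd.sympB 2 F (![b₀, b₁] i) (![b₀, b₁] j) = 0 := fun i j => by
    fin_cases i <;> fin_cases j <;> simp [halt b₀, halt b₁, hbb, hs b₀ b₁]
  refine ⟨fun _ => trivial, fun _ => trivial, hef, hee, hff, ?_⟩
  have hli : LinearIndependent F (Sum.elim ![a₀, a₁] ![b₀, b₁]) := Fintype.linearIndependent_iff.2 fun c hc x => by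
    rw [Fintype.sum_sum_type] at hc
    rcases x with x | x
    · have := congrArg (fun v => SympStd.sympB 2 F v (![b₀, b₁] x)) hc
      simpa [map_sum, hef, hff, -Fin.sum_univ_two] using this
    · have := congrArg (SympStd.sympB 2 F (![a₀, a₁] x)) hc
      simpa [map_sum, hef, hee, -Fin.sum_univ_two] using this
  rw [hli.span_eq_top_of_card_eq_finrank (by simp)]

theorem exists_normal_one {x : G4 F} (h2 : (2 : F) ≠ 0) (hx : x ∈ Cfsg.spGL 2 F) (hxx : x * x = 1) (hx1 : ¬ Sim x 1) :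
    ∃ e f : Fin 2 → I4 → F, Bases.IsSympFamily (SympStd.sympB 2 F) ⊤ e f ∧
      (x : M4 F) *ᵥ e 0 = e 0 ∧ (x : M4 F) *ᵥ f 0 = f 0 ∧ (x : M4 F) *ᵥ e 1 = -e 1 ∧ (x : M4 F) *ᵥ f 1 = -f 1 := by
  have hiso : ∀ u v, SympStd.sympB 2 F ((x : M4 F) *ᵥ u) ((x : M4 F) *ᵥ v) = SympStd.sympB 2 F u v := fun u v => by
    rw [SympStd.sympB_apply, SympStd.sympB_apply]; exact hx u v
  have hinv : ∀ v, (x : M4 F) *ᵥ ((x : M4 F) *ᵥ v) = v := fun v => by
    rw [Matrix.mulVec_mulVec, ← Units.val_mul, hxx, Units.val_one, Matrix.one_mulVec]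
  have hperp : ∀ u v, (x : M4 F) *ᵥ u = u → (x : M4 F) *ᵥ v = -v → SympStd.sympB 2 F u v = 0 := fun u v hu hv => by
    have h := hiso u v
    rw [hu, hv, map_neg] at h
    exact (mul_eq_zero.1 (show (2 : F) * SympStd.sympB 2 F u v = 0 by linear_combination -h)).resolve_left h2
  have hpair : ∀ ε : F, ε = 1 ∨ ε = -1 → ∃ a b, (x : M4 F) *ᵥ a = ε • a ∧ (x : M4 F) *ᵥ b = ε • b ∧
      SympStd.sympB 2 F a b = 1 := by
    intro ε hε
    have hεε : ε * ε = 1 := by rcases hε with rfl | rfl <;> ring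
    let pr : (I4 → F) → (I4 → F) := fun v => v + ε • ((x : M4 F) *ᵥ v)
    have hpr : ∀ v, (x : M4 F) *ᵥ pr v = ε • pr v := fun v => by
      simp only [pr, Matrix.mulVec_add, Matrix.mulVec_smul, hinv, smul_add, smul_smul, hεε, one_smul]
      abel
    by_cases hex : ∃ u v, SympStd.sympB 2 F (pr u) (pr v) ≠ 0
    · obtain ⟨u, v, huv⟩ := hex
      exact ⟨pr u, (SympStd.sympB 2 F (pr u) (pr v))⁻¹ • pr v, hpr u,
        by rw [Matrix.mulVec_smul, hpr, smul_comm], by rw [map_smul, smul_eq_mul, inv_mul_cancel₀ huv]⟩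
    push Not at hex
    exfalso
    have hzero : ∀ u, pr u = 0 := fun u => SympStd.sympB_nondegenerate.1 _ fun v => by
      have h := hex u v
      simp only [pr, map_add, map_smul, LinearMap.add_apply, LinearMap.smul_apply, smul_eq_mul, hiso] at h ⊢
      have h' : SympStd.sympB 2 F u ((x : M4 F) *ᵥ v) = SympStd.sympB 2 F ((x : M4 F) *ᵥ u) v := by
        rw [← hiso u, hinv]
      rw [h'] at h
      exact (mul_eq_zero.1 (show (2 : F) * (SympStd.sympB 2 F u v + ε * SympStd.sympB 2 F ((x : M4 F) *ᵥ u) v) = 0 by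
        linear_combination h - SympStd.sympB 2 F u v * hεε)).resolve_left h2
    refine hx1 ?_
    have hx' : ∀ v, (x : M4 F) *ᵥ v = -(ε • v) := fun v => by
      have h := hzero v
      simp only [pr] at h
      have h' := congrArg (fun w => ε • w) h
      simp only [smul_add, smul_smul, hεε, one_smul, smul_zero] at h'
      exact eq_neg_of_add_eq_zero_right h'
    rcases hε with rfl | rfl
    · exact Or.inr (Units.ext (Matrix.ext_of_mulVec_single fun k => by
        rw [hx', one_smul, Units.val_neg, Units.val_one, Matrix.neg_mulVec, Matrix.one_mulVec]))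
    · exact Or.inl (Units.ext (Matrix.ext_of_mulVec_single fun k => by
        rw [hx', neg_one_smul, neg_neg, Units.val_one, Matrix.one_mulVec]))
  obtain ⟨a₀, b₀, ha₀, hb₀, h0⟩ := hpair 1 (Or.inl rfl)
  obtain ⟨a₁, b₁, ha₁, hb₁, h1⟩ := hpair (-1) (Or.inr rfl)
  rw [one_smul] at ha₀ hb₀
  rw [neg_one_smul] at ha₁ hb₁
  exact ⟨![a₀, a₁], ![b₀, b₁], family_of_pairs h0 h1 (hperp _ _ ha₀ ha₁) (hperp _ _ ha₀ hb₁) (hperp _ _ hb₀ ha₁)
    (hperp _ _ hb₀ hb₁), ha₀, hb₀, ha₁, hb₁⟩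

theorem exists_normal_neg [Finite F] {x : G4 F} (h2 : (2 : F) ≠ 0) (hx : x ∈ Cfsg.spGL 2 F) (hxx : x * x = -1) :
    ∃ e f : Fin 2 → I4 → F, Bases.IsSympFamily (SympStd.sympB 2 F) ⊤ e f ∧ ∀ i, (x : M4 F) *ᵥ e i = f i := by
  have halt : (SympStd.sympB 2 F).IsAlt := SympStd.sympB_isAlt
  have hiso : ∀ u v, SympStd.sympB 2 F ((x : M4 F) *ᵥ u) ((x : M4 F) *ᵥ v) = SympStd.sympB 2 F u v := fun u v => by
    rw [SympStd.sympB_apply, SympStd.sympB_apply]; exact hx u v
  have hinv : ∀ v, (x : M4 F) *ᵥ ((x : M4 F) *ᵥ v) = -v := fun v => by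
    rw [Matrix.mulVec_mulVec, ← Units.val_mul, hxx, Units.val_neg, Units.val_one, Matrix.neg_mulVec, Matrix.one_mulVec]
  set X : (I4 → F) →ₗ[F] (I4 → F) := Matrix.toLin' (x : M4 F) with hX
  have hXv : ∀ v, (x : M4 F) *ᵥ v = X v := fun v => (Matrix.toLin'_apply _ _).symm
  simp only [hXv] at hiso hinv ⊢
  clear_value X
  have hsym : ∀ u v, SympStd.sympB 2 F v (X u) = SympStd.sympB 2 F u (X v) := fun u v => by
    rw [← hiso v (X u), hinv, map_neg, LinearMap.IsAlt.neg halt]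
  have hnorm : ∀ w, SympStd.sympB 2 F w (X w) ≠ 0 → ∃ α β : F,
      SympStd.sympB 2 F (α • w + β • X w) (X (α • w + β • X w)) = 1 := fun w hw => by
    obtain ⟨α, β, hαβ⟩ := Bases.exists_sq_add_sq h2 hw hw (1 : F)
    refine ⟨α, β, ?_⟩
    simp only [map_add, map_smul, LinearMap.add_apply, LinearMap.smul_apply, smul_eq_mul, hinv, map_neg, halt w,
      halt (X w), ← LinearMap.IsAlt.neg halt w (X w)]
    linear_combination hαβ
  have hpol : ∀ S : Submodule F (I4 → F), (∀ w ∈ S, SympStd.sympB 2 F w (X w) = 0) →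
      ∀ u ∈ S, ∀ v ∈ S, SympStd.sympB 2 F u (X v) = 0 := fun S hS u hu v hv => by
    have h := hS _ (S.add_mem hu hv)
    simp only [map_add, LinearMap.add_apply, hS u hu, hS v hv, hsym u v, zero_add, add_zero] at h
    exact (mul_eq_zero.1 (show (2 : F) * SympStd.sympB 2 F u (X v) = 0 by linear_combination h)).resolve_left h2
  obtain ⟨a₀, h0⟩ : ∃ a₀, SympStd.sympB 2 F a₀ (X a₀) = 1 := by
    obtain ⟨w, hw⟩ : ∃ w, SympStd.sympB 2 F w (X w) ≠ 0 := by
      by_contra hcon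
      push Not at hcon
      have hX0 : ∀ v, X v = 0 := fun v => SympStd.sympB_nondegenerate.2 _ fun u =>
        hpol ⊤ (fun w _ => hcon w) u trivial v trivial
      have h := hinv (Pi.single (Sum.inl 0) 1)
      rw [hX0] at h
      simpa using congrFun h (Sum.inl 0)
    obtain ⟨α, β, h⟩ := hnorm w hw
    exact ⟨_, h⟩
  let π : (I4 → F) → (I4 → F) := fun v =>
    v - SympStd.sympB 2 F v (X a₀) • a₀ + SympStd.sympB 2 F v a₀ • X a₀
  have hπ : ∀ v, SympStd.sympB 2 F (π v) a₀ = 0 ∧ SympStd.sympB 2 F (π v) (X a₀) = 0 := fun v => by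
    have h' : SympStd.sympB 2 F (X a₀) a₀ = -1 := by rw [← LinearMap.IsAlt.neg halt a₀, h0]
    constructor <;>
      simp [π, halt a₀, halt (X a₀), h0, h']
  let S : Submodule F (I4 → F) :=
    LinearMap.ker ((SympStd.sympB 2 F).flip a₀) ⊓ LinearMap.ker ((SympStd.sympB 2 F).flip (X a₀))
  have hπS : ∀ v, π v ∈ S := fun v => ⟨(hπ v).1, (hπ v).2⟩
  have hXS : ∀ w ∈ S, X w ∈ S := by
    rintro w ⟨hw1, hw2⟩
    replace hw1 : SympStd.sympB 2 F w a₀ = 0 := hw1
    replace hw2 : SympStd.sympB 2 F w (X a₀) = 0 := hw2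
    refine ⟨?_, ?_⟩
    · show SympStd.sympB 2 F (X w) a₀ = 0
      rw [← hiso (X w) a₀, hinv, map_neg, LinearMap.neg_apply, hw2, neg_zero]
    · show SympStd.sympB 2 F (X w) (X a₀) = 0
      rw [hiso, hw1]
  obtain ⟨a₁, ha₁, h1⟩ : ∃ a₁ ∈ S, SympStd.sympB 2 F a₁ (X a₁) = 1 := by
    obtain ⟨w, hwS, hw⟩ : ∃ w ∈ S, SympStd.sympB 2 F w (X w) ≠ 0 := by
      by_contra hcon
      push Not at hcon
      have hπ0 : ∀ v, π v = 0 := fun v => SympStd.sympB_nondegenerate.1 _ fun u => by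
        have h := hpol S hcon (π v) (hπS v) (X (π u)) (hXS _ (hπS u))
        rw [hinv, map_neg, neg_eq_zero] at h
        rw [show u = π u + (SympStd.sympB 2 F u (X a₀) • a₀ - SympStd.sympB 2 F u a₀ • X a₀) by simp only [π]; abel]
        rw [map_add, h, map_sub, map_smul, map_smul, (hπ v).1, (hπ v).2]
        simp
      have htop : (⊤ : Submodule F (I4 → F)) ≤ Submodule.span F ({a₀, X a₀} : Set (I4 → F)) := fun v _ => by
        refine Submodule.mem_span_pair.2 ⟨SympStd.sympB 2 F v (X a₀), -SympStd.sympB 2 F v a₀, ?_⟩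
        have h := hπ0 v
        simp only [π] at h
        rw [neg_smul, ← sub_eq_zero, ← neg_eq_zero, ← h]
        abel
      have h := Submodule.finrank_mono htop
      rw [finrank_top] at h
      have h' := finrank_range_le_card (R := F) ![a₀, X a₀]
      rw [Set.finrank, Matrix.range_cons, Matrix.range_cons, Matrix.range_empty, Set.union_empty, Set.singleton_union,
        Fintype.card_fin] at h'
      have h'' := le_trans h h'
      simp at h''
    obtain ⟨α, β, h⟩ := hnorm w hw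
    exact ⟨_, S.add_mem (S.smul_mem _ hwS) (S.smul_mem _ (hXS w hwS)), h⟩
  obtain ⟨h3, h4⟩ := ha₁
  replace h3 : SympStd.sympB 2 F a₁ a₀ = 0 := h3
  replace h4 : SympStd.sympB 2 F a₁ (X a₀) = 0 := h4
  refine ⟨![a₀, a₁], ![X a₀, X a₁], family_of_pairs h0 h1 ?_ ?_ ?_ ?_, fun i => by fin_cases i <;> rfl⟩
  · rw [← LinearMap.IsAlt.neg halt a₁, h3, neg_zero]
  · rw [← hsym a₀ a₁, h4]
  · rw [← LinearMap.IsAlt.neg halt a₁, h4, neg_zero]
  · rw [hiso, ← LinearMap.IsAlt.neg halt a₁, h3, neg_zero]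

/-- involutions of the projective group are conjugate when their squares agree -/
theorem exists_conj [Finite F] (h2 : (2 : F) ≠ 0) {x y : G4 F} (hx : x ∈ Cfsg.spGL 2 F) (hy : y ∈ Cfsg.spGL 2 F)
    (h : x * x = y * y) (hs : Sim (x * x) 1) (hx1 : ¬ Sim x 1) (hy1 : ¬ Sim y 1) :
    ∃ g ∈ Cfsg.spGL 2 F, g⁻¹ * x * g = y := by
  suffices hsuff : ∃ g ∈ Cfsg.spGL 2 F, ∃ b : Basis (Fin 2 ⊕ Fin 2) F (I4 → F),
      ∀ z, ((x * g : G4 F) : M4 F) *ᵥ b z = ((g * y : G4 F) : M4 F) *ᵥ b z by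
    obtain ⟨g, hg, b, hb⟩ := hsuff
    refine ⟨g, hg, ?_⟩
    have heq : x * g = g * y := Units.ext (Matrix.toLin'.injective (b.ext fun z => by
      simpa [Matrix.toLin'_apply] using hb z))
    rw [mul_assoc, heq, inv_mul_cancel_left]
  rcases hs with h1 | h1
  · obtain ⟨e, f, hef, k1, k2, k3, k4⟩ := exists_normal_one h2 hy (h ▸ h1) hy1
    obtain ⟨e', f', hef', l1, l2, l3, l4⟩ := exists_normal_one h2 hx h1 hx1
    obtain ⟨g, hg, hgm⟩ := exists_map hef hef'
    obtain ⟨-, b, hb⟩ := basis_of_family hef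
    refine ⟨g, hg, b, fun z => ?_⟩
    rw [Units.val_mul, Units.val_mul, ← Matrix.mulVec_mulVec, ← Matrix.mulVec_mulVec, hb]
    rcases z with z | z <;> fin_cases z <;>
      simp [k1, k2, k3, k4, l1, l2, l3, l4, (hgm 0).1, (hgm 0).2, (hgm 1).1, (hgm 1).2, Matrix.mulVec_neg]
  · obtain ⟨e, f, hef, hk⟩ := exists_normal_neg h2 hy (h ▸ h1)
    obtain ⟨e', f', hef', hl⟩ := exists_normal_neg h2 hx h1
    obtain ⟨g, hg, hgm⟩ := exists_map hef hef'
    obtain ⟨-, b, hb⟩ := basis_of_family hef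
    refine ⟨g, hg, b, fun z => ?_⟩
    rw [Units.val_mul, Units.val_mul, ← Matrix.mulVec_mulVec, ← Matrix.mulVec_mulVec, hb]
    rcases z with z | z
    · simp only [Sum.elim_inl, (hgm z).1, hk, hl, (hgm z).2]
    · have hxx : ∀ (a : G4 F) (w : I4 → F), a * a = -1 → (a : M4 F) *ᵥ ((a : M4 F) *ᵥ w) = -w := fun a w ha => by
        rw [Matrix.mulVec_mulVec, ← Units.val_mul, ha, Units.val_neg, Units.val_one, Matrix.neg_mulVec,
          Matrix.one_mulVec]
      simp only [Sum.elim_inr, (hgm z).2]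
      rw [← hk, ← hl, hxx x _ h1, hxx y _ (h ▸ h1), Matrix.mulVec_neg, (hgm z).1]

/-- elements of order five act without fixed vectors -/
theorem sum_pow [Fintype F] {p : ℕ} [Fact p.Prime] (hF : Fintype.card F = p) (h5 : orderOf (p : ZMod 5) = 4)
    {g : G4 F} (hg : g ^ 5 = 1) (hg1 : g ≠ 1) (v : I4 → F) :
    ∑ j : Fin 5, ((g ^ (j : ℕ) : G4 F) : M4 F) *ᵥ v = 0 := by
  classical
  haveI : Fact (Nat.Prime 5) := ⟨Nat.prime_five⟩
  set W := LinearMap.ker (Matrix.toLin' ((g : M4 F) - 1)) with hW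
  have hmem : ∀ w, w ∈ W ↔ (g : M4 F) *ᵥ w = w := fun w => by
    rw [hW, LinearMap.mem_ker, Matrix.toLin'_apply, Matrix.sub_mulVec, Matrix.one_mulVec, sub_eq_zero]
  let σ : Function.End (I4 → F) := fun w => (g : M4 F) *ᵥ w
  have hσ : ∀ (n : ℕ) w, (σ ^ n) w = ((g ^ n : G4 F) : M4 F) *ᵥ w := fun n => by
    induction n with
    | zero => intro w; rw [pow_zero, pow_zero, Units.val_one, Matrix.one_mulVec]; rfl
    | succ n ih =>
      intro w
      rw [pow_succ' σ, pow_succ' g, Units.val_mul, ← Matrix.mulVec_mulVec, ← ih]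
      rfl
  have h1 := Equiv.Perm.card_fixedPoints_modEq (f := σ) (p := 5) (n := 1) (by
    rw [pow_one]; funext w; rw [hσ, hg, Units.val_one, Matrix.one_mulVec]; rfl)
  have hfix : Fintype.card (Function.fixedPoints σ) = Fintype.card F ^ finrank F W := by
    rw [← Module.card_eq_pow_finrank (K := F) (V := W)]
    exact Fintype.card_congr (Equiv.subtypeEquivRight fun w => (hmem w).symm)
  rw [hfix, Fintype.card_fun, ← ZMod.natCast_eq_natCast_iff, Nat.cast_pow, Nat.cast_pow, hF,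
    show Fintype.card I4 = 4 from rfl] at h1
  have hle : finrank F W ≤ 4 := (Submodule.finrank_le W).trans (by simp)
  rw [← h5, pow_orderOf_eq_one, eq_comm, ← orderOf_dvd_iff_pow_eq_one, h5] at h1
  have hW0 : W = ⊥ := by
    rcases eq_or_ne (finrank F W) 0 with h0 | h0
    · exact Submodule.finrank_eq_zero.1 h0
    have htop : W = ⊤ := Submodule.eq_top_of_finrank_eq (by
      have := Nat.le_of_dvd (Nat.pos_of_ne_zero h0) h1
      simp; omega)
    exact absurd (Units.ext (Matrix.ext_of_mulVec_single fun k => by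
      rw [Units.val_one, Matrix.one_mulVec]; exact (hmem _).1 (htop ▸ Submodule.mem_top))) hg1
  refine (Submodule.mem_bot (R := F)).1 (hW0 ▸ (hmem _).2 ?_)
  simp only [Fin.sum_univ_five, Fin.val_zero, Fin.val_one, Fin.val_two, show ((3 : Fin 5) : ℕ) = 3 from rfl,
    show ((4 : Fin 5) : ℕ) = 4 from rfl]
  simp only [Matrix.mulVec_add, Matrix.mulVec_mulVec, ← Units.val_mul, ← pow_succ', Nat.reduceAdd, hg]
  simp only [pow_zero]
  abel

/-- elements of order five are conjugate into a given subgroup of order five -/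
theorem conj_five [Fintype F] {p : ℕ} [Fact p.Prime] [CharP F p] (hF : Fintype.card F = p)
    (h5 : orderOf (p : ZMod 5) = 4) {t y : G4 F} (ht : t ∈ Cfsg.spGL 2 F) (hy : y ∈ Cfsg.spGL 2 F)
    (ht5 : t ^ 5 = 1) (hy5 : y ^ 5 = 1) (ht1 : t ≠ 1) (hy1 : y ≠ 1) :
    ∃ g ∈ Cfsg.spGL 2 F, g⁻¹ * t * g ∈ Subgroup.zpowers y := by
  classical
  haveI : Fact (Nat.Prime 5) := ⟨Nat.prime_five⟩
  have hp5 : (5 : F) ≠ 0 := fun h => by
    have h' := (Nat.prime_dvd_prime_iff_eq (Fact.out : p.Prime) Nat.prime_five).1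
      ((CharP.cast_eq_zero_iff F p 5).1 (by exact_mod_cast h))
    subst h'
    rw [ZMod.natCast_self, orderOf_zero] at h5
    omega
  let t' : Cfsg.spGL 2 F := ⟨t, ht⟩
  let y' : Cfsg.spGL 2 F := ⟨y, hy⟩
  have ho : ∀ {z : Cfsg.spGL 2 F}, z ^ 5 = 1 → z ≠ 1 → IsPGroup 5 (Subgroup.zpowers z) := fun {z} hz hz1 =>
    IsPGroup.of_card (n := 1) (by rw [Nat.card_zpowers, orderOf_eq_prime hz hz1, pow_one])
  obtain ⟨P, hP⟩ := (ho (z := y') (Subtype.ext hy5) fun h => hy1 (congrArg Subtype.val h)).exists_le_sylow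
  obtain ⟨Q, hQ⟩ := (ho (z := t') (Subtype.ext ht5) fun h => ht1 (congrArg Subtype.val h)).exists_le_sylow
  obtain ⟨g, hg⟩ := MulAction.exists_smul_eq (Cfsg.spGL 2 F) Q P
  have hyP : y' ∈ P.toSubgroup := hP (Subgroup.mem_zpowers y')
  have htP : g * t' * g⁻¹ ∈ P.toSubgroup := by
    rw [← hg]
    exact ⟨t', hQ (Subgroup.mem_zpowers t'), rfl⟩
  haveI : Nontrivial P.toSubgroup :=
    ⟨⟨⟨y', hyP⟩, 1, fun h => hy1 (congrArg (fun a : P.toSubgroup => ((a : Cfsg.spGL 2 F) : G4 F)) h)⟩⟩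
  haveI := IsPGroup.center_nontrivial P.isPGroup'
  obtain ⟨n, hn, hcard⟩ := ((P.isPGroup'.to_subgroup (Subgroup.center P.toSubgroup)).nontrivial_iff_card).1 inferInstance
  obtain ⟨z, hz⟩ := exists_prime_orderOf_dvd_card' (G := Subgroup.center P.toSubgroup) 5
    (hcard ▸ dvd_pow_self 5 hn.ne')
  set Z : G4 F := (((z : P.toSubgroup) : Cfsg.spGL 2 F) : G4 F) with hZ
  have hZ5 : Z ^ 5 = 1 := by
    have h := pow_orderOf_eq_one z
    rw [hz] at h
    exact congrArg (fun a : Subgroup.center P.toSubgroup => (((a : P.toSubgroup) : Cfsg.spGL 2 F) : G4 F)) h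
  have hZ1 : Z ≠ 1 := fun h => by
    have h' : z = 1 := Subtype.ext (Subtype.ext (Subtype.ext h))
    rw [h', orderOf_one] at hz
    omega
  have key : ∀ s : P.toSubgroup, ((s : Cfsg.spGL 2 F) : G4 F) ^ 5 = 1 →
      ((s : Cfsg.spGL 2 F) : G4 F) ∈ Subgroup.zpowers Z := by
    intro s hs
    set S : G4 F := ((s : Cfsg.spGL 2 F) : G4 F) with hS
    have hc : Commute S Z :=
      congrArg (fun a : P.toSubgroup => ((a : Cfsg.spGL 2 F) : G4 F)) (Subgroup.mem_center_iff.1 z.2 s)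
    by_contra hcon
    have hsum : ∀ v, ∑ k : Fin 5, ∑ j : Fin 5, (((S * Z ^ (k : ℕ)) ^ (j : ℕ) : G4 F) : M4 F) *ᵥ v = 0 := fun v =>
      Finset.sum_eq_zero fun k _ => sum_pow hF h5 (by rw [(hc.pow_right _).mul_pow, hs, ← pow_mul, mul_comm, pow_mul,
        hZ5, one_pow, one_mul]) (fun h => hcon (by
        rw [eq_inv_of_mul_eq_one_left h]
        exact Subgroup.inv_mem _ (Subgroup.pow_mem _ (Subgroup.mem_zpowers Z) _))) v
    have hzero : ∀ v : I4 → F, v = 0 := fun v => by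
      have h := hsum v
      rw [Finset.sum_comm, Fin.sum_univ_succ, Finset.sum_eq_zero (s := Finset.univ (α := Fin 4)) fun j _ => ?_] at h
      · simp only [Fin.val_zero, pow_zero, Units.val_one, Matrix.one_mulVec, Finset.sum_const, Finset.card_univ,
          Fintype.card_fin, add_zero] at h
        funext x
        have hx := congrFun h x
        simp only [Pi.smul_apply, Pi.zero_apply, nsmul_eq_mul, Nat.cast_ofNat, mul_eq_zero] at hx
        exact hx.resolve_left hp5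
      · have hZj : Z ^ ((j.succ : Fin 5) : ℕ) ≠ 1 := fun e => by
          have hd := orderOf_dvd_of_pow_eq_one e
          rw [orderOf_eq_prime hZ5 hZ1] at hd
          have := Nat.le_of_dvd (Nat.succ_pos _) hd
          have := j.succ.2
          omega
        have h0 := sum_pow hF h5 (g := Z ^ ((j.succ : Fin 5) : ℕ))
          (by rw [← pow_mul, mul_comm, pow_mul, hZ5, one_pow]) hZj v
        have h1 := congrArg ((((S ^ ((j.succ : Fin 5) : ℕ) : G4 F)) : M4 F) *ᵥ ·) h0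
        simp only [Matrix.mulVec_sum, Matrix.mulVec_zero, Matrix.mulVec_mulVec, ← Units.val_mul] at h1
        refine Eq.trans (Finset.sum_congr rfl fun k _ => ?_) h1
        rw [(hc.pow_right _).mul_pow, ← pow_mul, ← pow_mul, mul_comm (k : ℕ)]
    exact one_ne_zero (congrFun (hzero (Pi.single (Sum.inl 0) 1)) (Sum.inl 0) |> fun h => by simpa using h : (1 : F) = 0)
  have hyz := key ⟨y', hyP⟩ hy5
  have htz := key ⟨g * t' * g⁻¹, htP⟩ (by
    show ((g : G4 F) * t * (g : G4 F)⁻¹) ^ 5 = 1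
    rw [conj_pow, ht5, mul_one, mul_inv_cancel])
  have hyo : orderOf y = 5 := orderOf_eq_prime hy5 hy1
  have heq : Subgroup.zpowers y = Subgroup.zpowers Z := by
    refine Subgroup.eq_of_le_of_card_ge (Subgroup.zpowers_le.2 hyz) ?_
    rw [Nat.card_zpowers, Nat.card_zpowers, hyo, orderOf_eq_prime hZ5 hZ1]
  refine ⟨(g⁻¹ : Cfsg.spGL 2 F), (g⁻¹ : Cfsg.spGL 2 F).2, ?_⟩
  rw [heq]
  simpa using htz


/-- Elements of prime order of PSp_4(p), p odd, and the normalizer of an extraspecial 2-group of order 2⁵ of minus type. Here `T = PSp_4(F)` for the field `F` with `p` elements, `p` an odd prime, realised through the matrices preserving the standard alternating form `f`; `R` is an absolutely irreducible subgroup of `T` (it preserves `f`) that is a 2-group of symplectic type of exponent 4, order 2⁵ and centre of order 2, of minus type (no elementary abelian subgroup of order 2³), and `H` is the subgroup of `T` normalizing `R` — a subgroup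 of type 2^{1+4}.O₄⁻(2) (maximality is not assumed). Ω is the set of cosets of `H` in `T`, so an element of `T` of prime order `r` (`x ∈ T` with `x^r` scalar, `x` not scalar) fixes a point of Ω exactly when some `T`-conjugate of `x` normalizes `R`. Let `r` be a prime dividing the index of `H`. Then every element of `T` of order `r` fixes a point of Ω if and only if `r = 2`, or `r = 5` and `p` has multiplicative order 4 modulo 5. -/
theorem result {F : Type*} [Field F] [Fintype F] {p : ℕ} [Fact p.Prime] [CharP F p] (hF : Fintype.card F = p) (hodd : Odd p)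
    (R : Subgroup (GL (Fin 2 ⊕ Fin 2) F)) (hRs : Cfsg.Geo.IsSymplecticTypeGroup 2 R) (hRi : Cfsg.Geo.ActsAbsolutelyIrreducibly (Cfsg.Geo.matrixSet R))
    (hRf : R ≤ Cfsg.spGL 2 F) (hR5 : Nat.card R = 2 ^ 5) (hRZ : Nat.card (Subgroup.center R) = 2) (hRm : Cfsg.Geo.IsOfMinusType 2 R)
    (r : ℕ) [Fact r.Prime]
    (hΩ : r ∣ (Cfsg.Geo.subgroupNormalizer R).relIndex (Cfsg.spGL 2 F)) :
    (∀ x ∈ Cfsg.spGL 2 F, (∃ z : F, ((x ^ r : GL (Fin 2 ⊕ Fin 2) F) : Matrix (Fin 2 ⊕ Fin 2) (Fin 2 ⊕ Fin 2) F) = z • (1 : Matrix (Fin 2 ⊕ Fin 2) (Fin 2 ⊕ Fin 2) F)) →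
      (∀ z : F, (x : Matrix (Fin 2 ⊕ Fin 2) (Fin 2 ⊕ Fin 2) F) ≠ z • (1 : Matrix (Fin 2 ⊕ Fin 2) (Fin 2 ⊕ Fin 2) F)) →
      ∃ g ∈ Cfsg.spGL 2 F, g⁻¹ * x * g ∈ Cfsg.Geo.subgroupNormalizer R) ↔ (r = 2 ∨ (r = 5 ∧ orderOf (p : ZMod 5) = 4)) := by
  classical
  have hp2 : p ≠ 2 := by
    rintro rfl
    exact absurd hodd (by decide)
  have h2 : (2 : F) ≠ 0 := fun h => hp2 (((Nat.prime_dvd_prime_iff_eq (Fact.out : p.Prime) Nat.prime_two).1
    ((CharP.cast_eq_zero_iff F p 2).1 (by exact_mod_cast h))))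
  have D : Data R := mkData h2 hRs hRi hRf hR5 hRZ hRm
  obtain ⟨e, hE⟩ := D.exists_fam
  have hnegN : (-1 : G4 F) ∈ Cfsg.Geo.subgroupNormalizer R := Subgroup.le_normalizer D.neg_mem
  constructor
  · intro hall
    by_contra hcon
    push Not at hcon
    obtain ⟨hr2, hr5⟩ := hcon
    have hro : Odd r := (Fact.out : r.Prime).odd_of_ne_two hr2
    have test : ∀ u ∈ Cfsg.spGL 2 F, u ^ r = 1 → (∀ z : F, (u : M4 F) ≠ z • 1) →
        ∃ g ∈ Cfsg.spGL 2 F, g⁻¹ * u * g ∈ Cfsg.Geo.subgroupNormalizer R ∧ (g⁻¹ * u * g) ^ r = 1 ∧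
          g⁻¹ * u * g ≠ 1 ∧ g⁻¹ * u * g ∈ Cfsg.spGL 2 F := by
      intro u hu hur hus
      obtain ⟨g, hg, hgu⟩ := hall u hu ⟨1, by rw [hur, one_smul]; rfl⟩ hus
      refine ⟨g, hg, hgu, ?_, fun h => hus 1 ?_, Subgroup.mul_mem _ (Subgroup.mul_mem _ (Subgroup.inv_mem _ hg) hu) hg⟩
      · have h : (g⁻¹ * u * (g⁻¹)⁻¹) ^ r = 1 := by rw [conj_pow, hur, mul_one, mul_inv_cancel]
        rwa [inv_inv] at h
      · have h' : u = 1 := by
          calc u = g * (g⁻¹ * u * g) * g⁻¹ := by group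
            _ = 1 := by rw [h, mul_one, mul_inv_cancel]
        rw [h', one_smul]; rfl
    rcases eq_or_ne r 3 with rfl | hr3
    · obtain ⟨u, huU, hu, hu3, hus⟩ := exists_U (-1 : F) (r := 3) (by norm_num) U_three
      obtain ⟨g, hg, hN, hpow, hne, hS⟩ := test u hu hu3 hus
      obtain ⟨a, b, ha, hb, hab, hca, hcb⟩ := hE.three D hN hpow hne hS
      have hcomm : ∀ c, Commute (g⁻¹ * u * g) c → Commute (g * c * g⁻¹) u := fun c hc => by
        show g * c * g⁻¹ * u = u * (g * c * g⁻¹)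
        calc g * c * g⁻¹ * u = g * (c * (g⁻¹ * u * g)) * g⁻¹ := by group
          _ = g * ((g⁻¹ * u * g) * c) * g⁻¹ := by rw [hc.eq]
          _ = _ := by group
      refine no_anti h2 (A := ((g * a * g⁻¹ : G4 F) : M4 F)) (B := ((g * b * g⁻¹ : G4 F) : M4 F)) ?_ ?_ ?_ (-1 : F) ?_ ?_
      · rw [← Units.val_mul, show g * a * g⁻¹ * (g * a * g⁻¹) = g * (a * a) * g⁻¹ by group, ha, mul_one,
          mul_inv_cancel, Units.val_one]
      · rw [← Units.val_mul, show g * b * g⁻¹ * (g * b * g⁻¹) = g * (b * b) * g⁻¹ by group, hb, mul_one,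
          mul_inv_cancel, Units.val_one]
      · rw [← Units.val_mul, ← Units.val_mul, ← Units.val_neg]
        congr 1
        rw [show g * a * g⁻¹ * (g * b * g⁻¹) = g * (a * b) * g⁻¹ by group, hab, mul_neg, neg_mul]
        group
      · rw [← huU, ← Units.val_mul, ← Units.val_mul, (hcomm a hca).eq]
      · rw [← huU, ← Units.val_mul, ← Units.val_mul, (hcomm b hcb).eq]
    rcases eq_or_ne r 5 with rfl | hr5'
    · obtain ⟨a, ha⟩ := exists_a (F := F) hp2 (hr5 rfl)
      obtain ⟨u, huU, hu, hu5, hus⟩ := exists_U a (r := 5) (by norm_num) (U_five ha)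
      obtain ⟨g, hg, hN, hpow, hne, hS⟩ := test u hu hu5 hus
      obtain ⟨v, hv, hvli⟩ := exists_commutant a
      refine hE.five D hN hpow hne hS (fun k => ((g⁻¹ : G4 F) : M4 F) * v k * (g : M4 F)) (fun k => ?_) ?_
      · have hgg : (g : M4 F) * ((g⁻¹ : G4 F) : M4 F) = 1 := by rw [← Units.val_mul, mul_inv_cancel]; rfl
        simp only [Units.val_mul, huU, mul_assoc]
        rw [← mul_assoc (g : M4 F) ((g⁻¹ : G4 F) : M4 F), hgg, one_mul, ← mul_assoc (g : M4 F) ((g⁻¹ : G4 F) : M4 F),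
          hgg, one_mul, ← mul_assoc (U a), hv, mul_assoc]
      · refine hvli.map' ((LinearMap.mulRight F (g : M4 F)) ∘ₗ LinearMap.mulLeft F ((g⁻¹ : G4 F) : M4 F)) ?_
        refine LinearMap.ker_eq_bot.2 fun X Y hXY => ?_
        have := congrArg (fun Z : M4 F => (g : M4 F) * Z * ((g⁻¹ : G4 F) : M4 F)) hXY
        simpa [mul_assoc, ← Units.val_mul] using this
    · have hdvd : r ∣ Nat.card (Cfsg.spGL 2 F) := hΩ.trans (Subgroup.relIndex_dvd_card _ _)
      obtain ⟨x, hx⟩ := exists_prime_orderOf_dvd_card' r hdvd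
      have hxr : (x : G4 F) ^ r = 1 := by
        rw [← Subgroup.coe_pow, ← hx, pow_orderOf_eq_one]; rfl
      obtain ⟨g, hg, hN, hpow, hne, hS⟩ := test (x : G4 F) x.2 hxr fun z hz => by
        rcases scalar_sp x.2 hz with h | h
        · rw [show x = 1 from Subtype.ext h, orderOf_one] at hx
          exact (Fact.out : r.Prime).ne_one hx.symm
        · rw [h, hro.neg_one_pow] at hxr
          exact one_ne_neg h2 1 hxr.symm
      have := hE.le_five D hro hN hpow hne hS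
      have := (Fact.out : r.Prime).two_le
      obtain ⟨k, hk⟩ := hro
      omega
  · rintro (rfl | ⟨rfl, h5⟩) x hx ⟨z, hz⟩ hns
    · have hsim : ¬ Sim x 1 := by
        rintro (h | h)
        · exact hns 1 (by rw [h, one_smul]; rfl)
        · exact hns (-1) (by rw [h, neg_one_smul]; rfl)
      have hxx : Sim (x * x) 1 := by
        have h := scalar_sp (Subgroup.mul_mem _ hx hx) (z := z) (by rw [← sq]; exact hz)
        exact h
      obtain ⟨w, hwR, hw, hw1⟩ : ∃ w ∈ R, w * w = x * x ∧ ¬ Sim w 1 := by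
        rcases hxx with h | h
        · exact ⟨e 0, hE.mem 0, by rw [hE.sq, h], hE.not_sim_one h2 0⟩
        · refine ⟨e 0 * e 1, R.mul_mem (hE.mem 0) (hE.mem 1), ?_, fun hs => ?_⟩
          · rw [h, mul_assoc, ← mul_assoc (e 1) (e 0) (e 1), hE.anti 1 0 (by decide), neg_mul, mul_neg,
              mul_assoc (e 0) (e 1) (e 1), hE.sq, mul_one, hE.sq]
          · have := hE.mono_inj h2 (o := some (0, 1)) (o' := none) (by simpa [mono] using hs)
            simp at this
      obtain ⟨g, hg, hgx⟩ := exists_conj h2 hx (D.le_sp hwR) hw.symm hxx hsim hw1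
      exact ⟨g, hg, hgx ▸ Subgroup.le_normalizer hwR⟩
    · obtain ⟨y, hy, hyN, hy5, hy1⟩ := hE.exists_five D
      have hcase : ∃ t ∈ Cfsg.spGL 2 F, Sim x t ∧ t ^ 5 = 1 ∧ t ≠ 1 := by
        rcases scalar_sp (Subgroup.pow_mem _ hx 5) hz with h | h
        · exact ⟨x, hx, Or.inl rfl, h, fun h' => hns 1 (by rw [h', one_smul]; rfl)⟩
        · refine ⟨-x, by rw [← neg_one_mul]; exact Subgroup.mul_mem _ neg_mem_sp hx, Or.inr (neg_neg x).symm,
            by rw [Odd.neg_pow (by decide), h, neg_neg], fun h' => hns (-1) ?_⟩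
          rw [neg_eq_iff_eq_neg.1 h', neg_one_smul]; rfl
      obtain ⟨t, ht, hxt, ht5, ht1⟩ := hcase
      obtain ⟨g, hg, hgt⟩ := conj_five hF h5 ht hy ht5 hy5 ht1 hy1
      refine ⟨g, hg, ?_⟩
      have hmem : g⁻¹ * t * g ∈ Cfsg.Geo.subgroupNormalizer R :=
        (Subgroup.zpowers_le.2 hyN) hgt
      rcases hxt with rfl | rfl
      · exact hmem
      · rw [mul_neg, neg_mul, ← neg_one_mul]
        exact Subgroup.mul_mem _ hnegN hmem

end Cfsg.Agent.S6002
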