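import Cfsg.Statements.S6000
import Cfsg.Agent.SympType4.ScalBuild
import Cfsg.Agent.S6002

set_option autoImplicit false
open scoped MatrixGroups
open Cfsg

namespace Cfsg.Agent.S6000

open Cfsg.Agent.SympType4.Scal Matrix Module

variable {F : Type*} [Field F]

theorem mem_SL {g : H4 F} : g ∈ Cfsg.Geo.specialLinear (Fin 4) F ↔ (g : Q4 F).det = 1 := by
  rw [Cfsg.Geo.specialLinear, MonoidHom.mem_ker, Units.ext_iff]
  rfl

theorem scalar_mem {R : Subgroup (H4 F)} {g h : H4 F} {c : F} (hh : h ∈ Cfsg.Geo.subgroupNormalizer R)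
    (e : (g : Q4 F) = c • (h : Q4 F)) : g ∈ Cfsg.Geo.subgroupNormalizer R := by
  have hgh : ((g * h⁻¹ : H4 F) : Q4 F) = c • 1 := by
    rw [Units.val_mul, e, Matrix.smul_mul, ← Units.val_mul, mul_inv_cancel, Units.val_one]
  have hcen : ∀ X : H4 F, g * h⁻¹ * X = X * (g * h⁻¹) := fun X => Units.ext (by
    rw [Units.val_mul (g * h⁻¹) X, Units.val_mul X, hgh, Matrix.smul_mul, Matrix.mul_smul, one_mul, mul_one])
  have hk : g * h⁻¹ ∈ Cfsg.Geo.subgroupNormalizer R := Subgroup.mem_normalizer_iff.2 fun X => by
    rw [hcen X, mul_inv_cancel_right]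
  simpa using Subgroup.mul_mem _ hk hh

theorem trace_conj (g u : H4 F) : Matrix.trace ((g⁻¹ * u * g : H4 F) : Q4 F) = Matrix.trace (u : Q4 F) := by
  rw [Units.val_mul, Units.val_mul, Matrix.trace_units_conj']

theorem trace_of_eq {t M : Q4 F} {g : H4 F} (h : t * (g : Q4 F) = (g : Q4 F) * M) :
    Matrix.trace t = Matrix.trace M := by
  have e : t = (g : Q4 F) * M * ((g⁻¹ : H4 F) : Q4 F) := by
    rw [← h, mul_assoc, ← Units.val_mul, mul_inv_cancel, Units.val_one, mul_one]
  rw [e, Matrix.trace_units_conj]

theorem det_of_eq {t M : Q4 F} {g : H4 F} (h : t * (g : Q4 F) = (g : Q4 F) * M) : t.det = M.det := by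
  have hd : (g : Q4 F).det ≠ 0 := ((Matrix.isUnit_iff_isUnit_det _).1 g.isUnit).ne_zero
  have := congrArg Matrix.det h
  rw [Matrix.det_mul, Matrix.det_mul, mul_comm] at this
  exact mul_left_cancel₀ hd this

theorem single_five {a : F} (ha : a * a + a = 1) : SympType4.Scal.single a (-1) ^ 5 = (1 : Q4 F) := by
  have hc : (SympType4.Scal.single a (-1) - 1) * (SympType4.Scal.single a (-1) * SympType4.Scal.single a (-1) - a • SympType4.Scal.single a (-1) + 1) = (0 : Q4 F) := by
    ext k l
    fin_cases k <;> fin_cases l <;> simp [SympType4.Scal.single, Matrix.mul_apply, Fin.sum_univ_four] <;> ring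
  set U := SympType4.Scal.single a (-1 : F)
  have h : U ^ 5 - 1 = (U * U + (a + 1) • U + 1) * ((U - 1) * (U * U - a • U + 1)) := by
    simp only [pow_succ, pow_zero, one_mul, mul_one, add_mul, mul_add, sub_mul, mul_sub, Matrix.smul_mul,
      Matrix.mul_smul, smul_smul, smul_add, smul_sub, ← mul_assoc]
    match_scalars <;> grind
  rw [hc, mul_zero, sub_eq_zero] at h
  exact h

theorem one_ne_neg_three : (1 : ZMod 3) ≠ -1 := by decide

/-- the classes of elements of order three -/
theorem classify_three [Fintype F] {p : ℕ} (hF : Fintype.card F = p) (hp3 : p % 3 = 2)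
    (hr : ∀ x : F, x * x ≠ -1 * x + -1) {t : H4 F} (ht : t ^ 3 = 1) (ht1 : t ≠ 1) :
    (∃ g : H4 F, (t : Q4 F) * (g : Q4 F) = (g : Q4 F) * quad (-1) (-1)) ∨
      ∃ g : H4 F, (t : Q4 F) * (g : Q4 F) = (g : Q4 F) * SympType4.Scal.single (-1) (-1) := by
  classical
  haveI : Fact (Nat.Prime 3) := ⟨Nat.prime_three⟩
  set X := (t : Q4 F) with hX
  have hX3 : X * (X * X) = 1 := by rw [hX, ← Units.val_mul, ← Units.val_mul, ← pow_three, ht]; rfl
  set W := LinearMap.ker (Matrix.toLin' (X - 1))
  have hmem : ∀ w, w ∈ W ↔ X *ᵥ w = w := fun w => by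
    rw [LinearMap.mem_ker, Matrix.toLin'_apply, Matrix.sub_mulVec, Matrix.one_mulVec, sub_eq_zero]
  by_cases h0 : W = ⊥
  · left
    refine exists_quad hr ?_
    have hz : X * X + X + 1 = 0 := Matrix.ext_of_mulVec_single fun k => by
      rw [Matrix.zero_mulVec]
      refine (Submodule.mem_bot (R := F)).1 (h0 ▸ (hmem _).2 ?_)
      rw [Matrix.mulVec_mulVec, mul_add, mul_add, hX3, mul_one]
      congr 1
      abel
    rw [neg_one_smul, neg_one_smul]
    calc X * X = (X * X + X + 1) + (-X + -1) := by abel
      _ = _ := by rw [hz, zero_add]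
  right
  let σ : Function.End (Fin 4 → F) := fun w => X *ᵥ w
  have h1 := Equiv.Perm.card_fixedPoints_modEq (f := σ) (p := 3) (n := 1) (by
    rw [pow_one]
    funext w
    show X *ᵥ (X *ᵥ (X *ᵥ w)) = w
    rw [Matrix.mulVec_mulVec, Matrix.mulVec_mulVec, mul_assoc, hX3, Matrix.one_mulVec])
  have hfix : Fintype.card (Function.fixedPoints σ) = Fintype.card F ^ finrank F W := by
    rw [← Module.card_eq_pow_finrank (K := F) (V := W)]
    exact Fintype.card_congr (Equiv.subtypeEquivRight fun w => (hmem w).symm)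
  have hp : (p : ZMod 3) = -1 := by
    rw [← ZMod.natCast_mod, hp3]; rfl
  rw [hfix, Fintype.card_fun, Fintype.card_fin, ← ZMod.natCast_eq_natCast_iff, Nat.cast_pow, Nat.cast_pow, hF, hp,
    Even.neg_one_pow (by decide : Even 4)] at h1
  have hle : finrank F W ≤ 4 := (Submodule.finrank_le W).trans (by simp)
  have hne0 : finrank F W ≠ 0 := fun e => h0 (Submodule.finrank_eq_zero.1 e)
  have hne4 : finrank F W ≠ 4 := fun e => ht1 (Units.ext (Matrix.ext_of_mulVec_single fun k => by
    rw [Units.val_one, Matrix.one_mulVec]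
    exact (hmem _).1 ((Submodule.eq_top_of_finrank_eq (S := W) (by rw [e]; simp)).symm ▸ Submodule.mem_top)))
  have hW : finrank F W = 2 := by
    rcases Nat.even_or_odd (finrank F W) with ⟨k, hk⟩ | hodd
    · omega
    · rw [hodd.neg_one_pow] at h1
      first | exact absurd h1 one_ne_neg_three | exact absurd h1.symm one_ne_neg_three
  obtain ⟨u, hu⟩ : ∃ u, u ∉ W := by
    by_contra hcon
    push Not at hcon
    rw [(eq_top_iff.2 fun x _ => hcon x : W = ⊤), finrank_top] at hW
    simp at hW
  let b := Module.finBasisOfFinrankEq F W hW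
  refine exists_single hr (v := X *ᵥ u - u) (w₁ := (b 0 : W)) (w₂ := (b 1 : W))
    (fun e => hu ((hmem u).2 (sub_eq_zero.1 e))) ?_ ((hmem _).1 (b 0).2) ((hmem _).1 (b 1).2) ?_
  · rw [Matrix.mulVec_sub, Matrix.mulVec_sub, Matrix.mulVec_mulVec u X X, Matrix.mulVec_mulVec u X (X * X), hX3,
      Matrix.one_mulVec]
    match_scalars <;> ring
  · have h := (b.linearIndependent.map' W.subtype W.ker_subtype)
    have e : ![((b 0 : W) : Fin 4 → F), ((b 1 : W) : Fin 4 → F)] = W.subtype ∘ b := by
      funext k
      fin_cases k <;> rfl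
    rw [e]
    exact h


/-- Elements of prime order of PSL_4(p), p ≡ 1 (mod 4), and the normalizer of a 2-group of symplectic type of order 2⁶. Here `T = PSL_4(F)` for the field `F` with `p` elements, `p` a prime with `p ≡ 1 (mod 4)`; `R` is an absolutely irreducible subgroup of GL_4(F) of order 2⁶ that is a 2-group of symplectic type of exponent 4 with centre of order 4 (the central product of the scalars of order 4 with an extraspecial group 2^{1+4}), and `H` is the subgroup of matrices of determinant 1 normalizing `R` — a subgroup of type 2⁴.Sp₄(2) (maximality is not assumed). Ω is the set of cosets of `H` in `T`, so an element of `T` of prime order `r` (a matrix `x` of determinant 1 with `x^r` scalar, `x` not scalar) fixes a point of Ω exactly when some conjugate of `x` by a matrix of determinant 1 normalizes `R`. Let `r` be a prime dividing the index of `H`. Then every element of `T` of order `r` fixes a point of Ω if and only if `r = 2`, or `r = 3` and `p ≡ 2 (mod 3)`, or `r = 5` and `p ≡ ±2 (mod 5)` (`p` has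 multiplicative order 4 modulo 5). -/
theorem result {F : Type*} [Field F] [Fintype F] {p : ℕ} [Fact p.Prime] [CharP F p] (hF : Fintype.card F = p) (hp4 : p % 4 = 1)
    (R : Subgroup (GL (Fin 4) F)) (hR : Cfsg.Geo.IsLinearSymplecticTypeData 2 R) (hR6 : Nat.card R = 2 ^ 6)
    (r : ℕ) [Fact r.Prime]
    (hΩ : r ∣ (Cfsg.Geo.subgroupNormalizer R).relIndex (Cfsg.Geo.specialLinear (Fin 4) F)) :
    (∀ x ∈ Cfsg.Geo.specialLinear (Fin 4) F, (∃ z : F, ((x ^ r : GL (Fin 4) F) : Matrix (Fin 4) (Fin 4) F) = z • (1 : Matrix (Fin 4) (Fin 4) F)) →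
      (∀ z : F, (x : Matrix (Fin 4) (Fin 4) F) ≠ z • (1 : Matrix (Fin 4) (Fin 4) F)) →
      ∃ g ∈ Cfsg.Geo.specialLinear (Fin 4) F, g⁻¹ * x * g ∈ Cfsg.Geo.subgroupNormalizer R) ↔ (r = 2 ∨ (r = 3 ∧ p % 3 = 2) ∨ (r = 5 ∧ orderOf (p : ZMod 5) = 4)) := by
  classical
  have hpr : p.Prime := Fact.out
  have hp5le : 5 ≤ p := by
    by_contra hcon
    have := hpr.two_le
    interval_cases p <;> omega
  have hcast : ∀ m n : ℕ, m < p → n < p → (m : F) = (n : F) → m = n := fun m n hm hn e =>
    ((CharP.natCast_eq_natCast F p).1 e).eq_of_lt_of_lt hm hn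
  have h2 : (2 : F) ≠ 0 := fun h => absurd (hcast 2 0 (by omega) (by omega) (by exact_mod_cast h)) (by norm_num)
  have h3F : (3 : F) ≠ 0 := fun h => absurd (hcast 3 0 (by omega) (by omega) (by exact_mod_cast h)) (by norm_num)
  have hRZ : Nat.card (Subgroup.center R) = 4 := by
    obtain ⟨p', e, -, -, ⟨ho, -⟩ | ⟨-, -, h, -⟩ | ⟨-, -, h, -⟩⟩ := hR.field
    · exact absurd ho (by decide)
    · exact h
    · simp at h
  obtain ⟨i, D⟩ := mkData h2 hR.symplecticType hR.absIrred hR6 hRZ
  obtain ⟨a, hG⟩ := D.exists_gens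
  have hnsne : ∀ {x : H4 F}, (∀ z : F, (x : Q4 F) ≠ z • (1 : Q4 F)) → x ≠ 1 := fun h e => h 1 (by rw [e, one_smul]; rfl)
  constructor
  · intro hall
    by_contra hcon
    push Not at hcon
    obtain ⟨hr2, hr3, hr5⟩ := hcon
    have hro : Odd r := (Fact.out : r.Prime).odd_of_ne_two hr2
    have test : ∀ u ∈ Cfsg.Geo.specialLinear (Fin 4) F, u ^ r = 1 → (∀ z : F, (u : Q4 F) ≠ z • 1) →
        ∃ g : H4 F, g⁻¹ * u * g ∈ Cfsg.Geo.subgroupNormalizer R ∧ (g⁻¹ * u * g) ^ r = 1 ∧
          ∀ z : F, ((g⁻¹ * u * g : H4 F) : Q4 F) ≠ z • 1 := by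
      intro u hu hur hus
      obtain ⟨g, -, hgu⟩ := hall u hu ⟨1, by rw [hur, one_smul]; rfl⟩ hus
      refine ⟨g, hgu, ?_, fun z hz => hus z ?_⟩
      · have h : (g⁻¹ * u * (g⁻¹)⁻¹) ^ r = 1 := by rw [conj_pow, hur, mul_one, mul_inv_cancel]
        rwa [inv_inv] at h
      · rw [show u = g * (g⁻¹ * u * g) * g⁻¹ by group, Units.val_mul, Units.val_mul, hz, Matrix.mul_smul, mul_one,
          Matrix.smul_mul, ← Units.val_mul, mul_inv_cancel, Units.val_one]
    have hcard : ∀ (u g : H4 F), g⁻¹ * u * g ∈ Cfsg.Geo.subgroupNormalizer R → (g⁻¹ * u * g) ^ r = 1 →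
        (∀ z : F, ((g⁻¹ * u * g : H4 F) : Q4 F) ≠ z • 1) →
        ∃ k, 2 ≤ k ∧ k ≤ 5 ∧ ((2 ^ k : ℕ) : F) =
          4 * (Matrix.trace (u : Q4 F) * Matrix.trace ((u⁻¹ : H4 F) : Q4 F)) ∧ 64 ≡ 2 ^ k [MOD r] := by
      intro u g hN hpow hns
      obtain ⟨h4, hdvd, hmod⟩ := D.card_fix hN hpow
      have htr := D.trace_formula hN hro hpow
      rw [trace_conj, show (g⁻¹ * u * g)⁻¹ = g⁻¹ * u⁻¹ * g by group, trace_conj] at htr
      obtain ⟨k, hk, hkeq⟩ := (Nat.dvd_prime_pow Nat.prime_two).1
        (show Nat.card (fixR R (g⁻¹ * u * g)) ∣ 2 ^ 6 from hdvd.trans (by norm_num))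
      have hk6 : k ≠ 6 := fun e => by
        obtain ⟨c, hc⟩ := D.scalar_of_fix_all (t := g⁻¹ * u * g) (by rw [hkeq, e]; norm_num)
        exact hns c hc
      rw [hkeq] at htr hmod h4
      refine ⟨k, ?_, by omega, htr, hmod⟩
      rcases k with _ | _ | k <;> simp at h4 ⊢
    rcases eq_or_ne r 3 with rfl | hr3'
    · have hp31 : p % 3 = 1 := by
        have h := hr3 rfl
        have h0 : p % 3 ≠ 0 := fun e => by
          have := (Nat.prime_dvd_prime_iff_eq Nat.prime_three hpr).1 (Nat.dvd_of_mod_eq_zero e)
          omega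
        omega
      haveI : Fact (Nat.Prime 3) := ⟨Nat.prime_three⟩
      obtain ⟨w, hw⟩ := exists_prime_orderOf_dvd_card' (G := Fˣ) 3 (by
        rw [Nat.card_units, Nat.card_eq_fintype_card, hF]
        omega)
      have hw3 : (w : F) * w * w = 1 := by
        have h := congrArg Units.val (pow_orderOf_eq_one w)
        rw [hw, Units.val_pow_eq_pow_val, Units.val_one] at h
        linear_combination h
      have hw1 : (w : F) ≠ 1 := fun e => by
        rw [show w = 1 from Units.ext e, orderOf_one] at hw
        omega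
      have hww : (w : F) * w + w + 1 = 0 := by
        refine (mul_eq_zero.1 (show ((w : F) - 1) * ((w : F) * w + w + 1) = 0 by linear_combination hw3)).resolve_left
          (sub_ne_zero.2 hw1)
      obtain ⟨u, hu1, hu2⟩ : ∃ u : H4 F, (u : Q4 F) = Matrix.diagonal ![(w : F), w, w, 1] ∧
          ((u⁻¹ : H4 F) : Q4 F) = Matrix.diagonal ![(w : F) * w, (w : F) * w, (w : F) * w, 1] := by
        refine ⟨mkUnit (Matrix.diagonal ![(w : F), w, w, 1])
          (Matrix.diagonal ![(w : F) * w, (w : F) * w, (w : F) * w, 1]) ?_, rfl, rfl⟩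
        rw [Matrix.diagonal_mul_diagonal, ← Matrix.diagonal_one]
        congr 1
        funext k
        fin_cases k <;> simp [← mul_assoc, hw3]
      obtain ⟨g, hN, hpow, hns⟩ := test u (mem_SL.2 (by
          rw [hu1, Matrix.det_diagonal, Fin.prod_univ_four]
          simpa using hw3))
        (Units.ext (by
          rw [Units.val_pow_eq_pow_val, hu1, Matrix.diagonal_pow, Units.val_one, ← Matrix.diagonal_one]
          congr 1
          funext k
          fin_cases k <;> simp [pow_succ, hw3]))
        fun z hz => by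
          rw [hu1] at hz
          have e1 := congrFun (congrFun hz 0) 0
          have e2 := congrFun (congrFun hz 3) 3
          simp at e1 e2
          exact hw1 (e1.trans e2.symm)
      obtain ⟨k, hk2, hk5, htr, -⟩ := hcard u g hN hpow hns
      rw [hu1, hu2, Matrix.trace_diagonal, Matrix.trace_diagonal, Fin.sum_univ_four, Fin.sum_univ_four] at htr
      have h28 : ((2 ^ k : ℕ) : F) = ((28 : ℕ) : F) := by
        rw [htr]
        push_cast
        linear_combination (4 * 3) * hww + (4 * 9) * hw3
      have hd := Nat.modEq_iff_dvd.1 ((CharP.natCast_eq_natCast F p).1 h28)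
      have hsmall : ∀ m, m ∈ ({24, 20, 12, 4} : Finset ℕ) → ∀ p, p ≤ m → p % 4 = 1 → p % 3 = 1 → p ∣ m → p = 1 := by
        decide
      have h24 : ∀ m, m ∈ ({24, 20, 12, 4} : Finset ℕ) → p ∣ m → False := fun m hm h => by
        have hm0 : 0 < m := by fin_cases hm <;> norm_num
        exact hpr.ne_one (hsmall m hm p (Nat.le_of_dvd hm0 h) hp4 hp31 h)
      interval_cases k <;> norm_num at hd
      · exact h24 24 (by decide) (Int.natCast_dvd_natCast.1 (by simpa using hd))
      · exact h24 20 (by decide) (Int.natCast_dvd_natCast.1 (by simpa using hd))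
      · exact h24 12 (by decide) (Int.natCast_dvd_natCast.1 (by simpa using hd))
      · exact h24 4 (by decide) (Int.natCast_dvd_natCast.1 (by simpa using hd))
    rcases eq_or_ne r 5 with rfl | hr5'
    · obtain ⟨b, hb⟩ := S6002.exists_a (F := F) (p := p) (by omega) (hr5 rfl)
      have hinv : SympType4.Scal.single b (-1) * !![b, 1, 0, 0; -1, 0, 0, 0; 0, 0, 1, 0; 0, 0, 0, 1] = (1 : Q4 F) := by
        ext k l
        fin_cases k <;> fin_cases l <;> simp [SympType4.Scal.single, Matrix.mul_apply, Fin.sum_univ_four]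
      obtain ⟨u, hu1, hu2⟩ : ∃ u : H4 F, (u : Q4 F) = SympType4.Scal.single b (-1) ∧
          ((u⁻¹ : H4 F) : Q4 F) = !![b, 1, 0, 0; -1, 0, 0, 0; 0, 0, 1, 0; 0, 0, 0, 1] :=
        ⟨mkUnit _ _ hinv, rfl, rfl⟩
      obtain ⟨g, hN, hpow, hns⟩ := test u (mem_SL.2 (by
          rw [hu1]; simp [SympType4.Scal.single, Matrix.det_succ_row_zero, Fin.sum_univ_succ, Fin.succAbove]))
        (Units.ext (by rw [Units.val_pow_eq_pow_val, hu1, single_five hb, Units.val_one]))
        fun z hz => by
          rw [hu1] at hz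
          have e1 := congrFun (congrFun hz 1) 0
          simp [SympType4.Scal.single] at e1
      by_cases hp5 : p = 5
      · subst hp5
        have h5 : (5 : F) = 0 := by exact_mod_cast CharP.cast_eq_zero F 5
        have hb2 : b = 2 := sub_eq_zero.1 (mul_self_eq_zero.1 (show (b - 2) * (b - 2) = 0 by
          linear_combination hb + (1 - b) * h5))
        have hN0 : (SympType4.Scal.single b (-1) - 1) * (SympType4.Scal.single b (-1) - 1) = (0 : Q4 F) := by
          ext k l
          fin_cases k <;> fin_cases l <;> simp [SympType4.Scal.single, Matrix.mul_apply, Fin.sum_univ_four, hb2] <;>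
            first | ring | linear_combination h5 | linear_combination -h5
        set t := g⁻¹ * u * g with ht
        set T := (t : Q4 F) with hT
        have hTN : (T - 1) * (T - 1) = 0 := by
          have e : T - 1 = ((g⁻¹ : H4 F) : Q4 F) * (SympType4.Scal.single b (-1) - 1) * (g : Q4 F) := by
            rw [hT, ht, mul_sub, sub_mul, mul_one, Units.val_mul, Units.val_mul, hu1, ← Units.val_mul g⁻¹ g,
              inv_mul_cancel, Units.val_one]
          rw [e, show ((g⁻¹ : H4 F) : Q4 F) * (SympType4.Scal.single b (-1) - 1) * (g : Q4 F) *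
            (((g⁻¹ : H4 F) : Q4 F) * (SympType4.Scal.single b (-1) - 1) * (g : Q4 F)) = ((g⁻¹ : H4 F) : Q4 F) * (SympType4.Scal.single b (-1) - 1) *
              ((g : Q4 F) * ((g⁻¹ : H4 F) : Q4 F)) * (SympType4.Scal.single b (-1) - 1) * (g : Q4 F) by simp only [mul_assoc],
            ← Units.val_mul, mul_inv_cancel, Units.val_one, mul_one, mul_assoc ((g⁻¹ : H4 F) : Q4 F) (SympType4.Scal.single b (-1) - 1) (SympType4.Scal.single b (-1) - 1), hN0, mul_zero,
            zero_mul]
        set N := T - 1 with hNdef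
        have hT1 : T = 1 + N := by rw [hNdef]; abel
        clear_value N
        have hTi : ((t⁻¹ : H4 F) : Q4 F) = 1 - N := by
          have h : T * (1 - N) = 1 := by
            rw [hT1, add_mul, one_mul, mul_sub, mul_one, hTN, sub_zero, sub_add_cancel]
          calc ((t⁻¹ : H4 F) : Q4 F) = ((t⁻¹ : H4 F) : Q4 F) * (T * (1 - N)) := by rw [h, mul_one]
            _ = 1 - N := by rw [← mul_assoc, hT, ← Units.val_mul, inv_mul_cancel, Units.val_one, one_mul]
        have hTk : ∀ k : ℕ, ((t ^ k : H4 F) : Q4 F) = 1 + (k : F) • N ∧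
            (((t ^ k)⁻¹ : H4 F) : Q4 F) = 1 - (k : F) • N := by
          intro k
          induction k with
          | zero => simp
          | succ k ih =>
            constructor
            · rw [pow_succ, Units.val_mul, ih.1, ← hT, hT1, add_mul, mul_add, mul_add,
                one_mul, one_mul, mul_one, Matrix.smul_mul, hTN, smul_zero, Nat.cast_succ, add_smul, one_smul]
              abel
            · rw [pow_succ, _root_.mul_inv_rev, Units.val_mul, ih.2, hTi, sub_mul, mul_sub, mul_sub, one_mul, one_mul,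
                mul_one, Matrix.mul_smul, hTN, smul_zero, Nat.cast_succ, add_smul, one_smul]
              abel
        obtain ⟨h, hh, hne⟩ : ∃ h ∈ R, t * h ≠ h * t := by
          by_contra hcon
          push Not at hcon
          obtain ⟨c, hc⟩ := D.scal T (by
            rintro _ ⟨h, hh, rfl⟩
            rw [hT, ← Units.val_mul, ← Units.val_mul, hcon h hh])
          exact hns c hc
        have hz : ∀ k, (k = 1 ∨ k = 2 ∨ k = 3) →
            Matrix.trace (((t ^ k * h * (t ^ k)⁻¹ * h⁻¹ : H4 F)) : Q4 F) = 0 := by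
          intro k hk
          by_cases hsc : ∃ c : F, ((t ^ k * h * (t ^ k)⁻¹ * h⁻¹ : H4 F) : Q4 F) = c • 1
          · obtain ⟨c, hc⟩ := hsc
            refine absurd ?_ hne
            have hcom : Commute (t ^ k) h := by
              refine D.root_of_pow (r := 5) (c := c) (by decide) (by rw [← pow_mul, mul_comm, pow_mul, hpow, one_pow])
                hh ?_
              rw [show t ^ k * h * (t ^ k)⁻¹ = (t ^ k * h * (t ^ k)⁻¹ * h⁻¹) * h by group, Units.val_mul, hc,
                Matrix.smul_mul, one_mul]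
            have h6 : t ^ 6 = t := by rw [pow_succ, hpow, one_mul]
            rcases hk with rfl | rfl | rfl
            · rwa [pow_one] at hcom
            · have h' := hcom.pow_left 3
              rwa [← pow_mul, h6] at h'
            · have h' := hcom.pow_left 2
              rwa [← pow_mul, h6] at h'
          · push Not at hsc
            have hmem : t ^ k * h * (t ^ k)⁻¹ * h⁻¹ ∈ R :=
              R.mul_mem ((Subgroup.mem_normalizer_iff.1 (Subgroup.pow_mem _ hN k) h).1 hh) (R.inv_mem hh)
            obtain ⟨Y, hY, hYa⟩ := D.exists_anti ⟨_, hmem, rfl⟩ hsc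
            exact trace_anti h2 hY.isUnit hYa
        have hid : ((t ^ 3 * h * (t ^ 3)⁻¹ * h⁻¹ : H4 F) : Q4 F) - 3 • ((t ^ 2 * h * (t ^ 2)⁻¹ * h⁻¹ : H4 F) : Q4 F) +
            3 • ((t ^ 1 * h * (t ^ 1)⁻¹ * h⁻¹ : H4 F) : Q4 F) - 1 = 0 := by
          have h1 : (1 : Q4 F) = (h : Q4 F) * ((h⁻¹ : H4 F) : Q4 F) := h.mul_inv.symm
          conv_lhs => arg 2; rw [h1]
          simp only [Units.val_mul, (hTk _).1, (hTk _).2]
          simp only [mul_add, add_mul, mul_sub, sub_mul, one_mul, mul_one, Matrix.smul_mul, Matrix.mul_smul, smul_smul,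
            smul_add, smul_sub]
          match_scalars <;> norm_num
        have := congrArg Matrix.trace hid
        rw [Matrix.trace_sub, Matrix.trace_add, Matrix.trace_sub, Matrix.trace_smul, Matrix.trace_smul,
          hz 3 (by simp), hz 2 (by simp), hz 1 (by simp), Matrix.trace_one, Matrix.trace_zero] at this
        simp at this
        exact quarter h2 this
      · obtain ⟨k, hk2, hk5, htr, hmod⟩ := hcard u g hN hpow hns
        have hk : k = 2 := by
          interval_cases k <;> first | rfl | exact absurd hmod (by decide)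
        subst hk
        have t1 : Matrix.trace (u : Q4 F) = b + 2 := by
          rw [hu1]; simp [SympType4.Scal.single, Matrix.trace, Fin.sum_univ_four]; ring
        have t2 : Matrix.trace ((u⁻¹ : H4 F) : Q4 F) = b + 2 := by
          rw [hu2]; simp [Matrix.trace, Fin.sum_univ_four]; ring
        rw [t1, t2] at htr
        push_cast at htr
        have h34 : (3 : F) * b + 4 = 0 :=
          mul_left_cancel₀ (quarter h2) (by linear_combination -htr - 4 * hb)
        have h5 : ((5 : ℕ) : F) = 0 := by
          push_cast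
          linear_combination (3 * b - 1) * h34 - 9 * hb
        exact hp5 ((Nat.prime_dvd_prime_iff_eq hpr Nat.prime_five).1 ((CharP.cast_eq_zero_iff F p 5).1 h5))
    · have hdvd : r ∣ Nat.card (Cfsg.Geo.specialLinear (Fin 4) F) := hΩ.trans (Subgroup.relIndex_dvd_card _ _)
      obtain ⟨x, hx⟩ := exists_prime_orderOf_dvd_card' r hdvd
      have hxr : (x : H4 F) ^ r = 1 := by
        rw [← Subgroup.coe_pow, ← hx, pow_orderOf_eq_one]; rfl
      obtain ⟨g, hN, hpow, hns⟩ := test (x : H4 F) x.2 hxr fun z hz => by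
        have hd := mem_SL.1 x.2
        rw [hz, Matrix.det_smul, Matrix.det_one, mul_one, Fintype.card_fin] at hd
        have hzr : z ^ r = 1 := by
          have h := congrArg (fun y : H4 F => (y : Q4 F)) hxr
          simp only [Units.val_pow_eq_pow_val, hz, smul_pow, one_pow, Units.val_one] at h
          exact smul_one_inj (h.trans (one_smul F (1 : Q4 F)).symm)
        have hg : Nat.gcd r 4 = 1 := ((Fact.out : r.Prime).coprime_iff_not_dvd.2 fun h => by
          have hle := Nat.le_of_dvd (by norm_num) h
          have := (Fact.out : r.Prime).two_le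
          obtain ⟨j, hj⟩ := hro
          omega)
        have hz1 : z = 1 := by
          have := pow_gcd_eq_one.2 ⟨hzr, hd⟩
          rwa [hg, pow_one] at this
        rw [hz1, one_smul] at hz
        rw [show x = 1 from Subtype.ext (Units.ext hz), orderOf_one] at hx
        exact (Fact.out : r.Prime).ne_one hx.symm
      have := D.le_five hN hro hpow hns
      have := (Fact.out : r.Prime).two_le
      obtain ⟨j, hj⟩ := hro
      omega
  · intro hcases x hx hzz hns
    obtain ⟨z, hz⟩ := hzz
    have hdx := mem_SL.1 hx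
    have hz4 : z ^ 4 = 1 := by
      have h := congrArg Matrix.det hz
      rwa [Units.val_pow_eq_pow_val, Matrix.det_pow, hdx, one_pow, Matrix.det_smul, Matrix.det_one, mul_one,
        Fintype.card_fin, eq_comm] at h
    have hz0 : z ≠ 0 := fun e => by rw [e, zero_pow (by norm_num)] at hz4; exact zero_ne_one hz4
    have hconj : ∀ {c : F} {y : H4 F} {v : Q4 F}, y ∈ Cfsg.Geo.subgroupNormalizer R → (x : Q4 F) = c • v →
        (∃ g ∈ Cfsg.Geo.specialLinear (Fin 4) F, v * (g : Q4 F) = (g : Q4 F) * (y : Q4 F)) →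
        ∃ g ∈ Cfsg.Geo.specialLinear (Fin 4) F, g⁻¹ * x * g ∈ Cfsg.Geo.subgroupNormalizer R := by
      intro c y v hy hxv hg
      obtain ⟨g, hgSL, hg⟩ := hg
      refine ⟨g, hgSL, scalar_mem hy (c := c) ?_⟩
      rw [Units.val_mul, Units.val_mul, hxv, Matrix.mul_smul, Matrix.smul_mul, mul_assoc, hg, ← mul_assoc,
        ← Units.val_mul g⁻¹ g, inv_mul_cancel, Units.val_one, one_mul]
    rcases hcases with rfl | ⟨rfl, hp3⟩ | ⟨rfl, h5⟩
    · rw [Units.val_pow_eq_pow_val, pow_two] at hz
      by_cases hs : ∃ s : F, s * s = z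
      · obtain ⟨s, hs⟩ := hs
        have hs0 : s ≠ 0 := fun e => by rw [e, zero_mul] at hs; exact hz0 hs.symm
        set u : Q4 F := s⁻¹ • (x : Q4 F) with hu
        have huu : u * u = 1 := by
          rw [hu, Matrix.smul_mul, Matrix.mul_smul, smul_smul, hz, smul_smul, ← hs]
          rw [show s⁻¹ * s⁻¹ * (s * s) = 1 by field_simp, one_smul]
        have hxu : (x : Q4 F) = s • u := by rw [hu, smul_inv_smul₀ hs0]
        have key : ∀ (v : Q4 F) (y : H4 F), v * v = 1 → (y : Q4 F) * (y : Q4 F) = 1 →
            Matrix.trace v = Matrix.trace (y : Q4 F) →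
            ∃ g ∈ Cfsg.Geo.specialLinear (Fin 4) F, v * (g : Q4 F) = (g : Q4 F) * (y : Q4 F) := by
          intro v y hv hy htr
          obtain ⟨m, hm, hgm⟩ := exists_diag h2 hv
          obtain ⟨m', hm', hgm'⟩ := exists_diag h2 hy
          obtain ⟨g, hg⟩ := hgm
          obtain ⟨g', hg'⟩ := hgm'
          have hmm : m = m' := by
            rw [trace_of_eq hg, trace_of_eq hg', Matrix.trace_diagonal, Matrix.trace_diagonal] at htr
            interval_cases m <;> interval_cases m' <;> first
              | rfl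
              | exfalso
                simp [Fin.sum_univ_four] at htr
                have h4 := quarter h2
                have h6 : (6 : F) ≠ 0 := by
                  rw [show (6 : F) = 2 * 3 by norm_num]; exact mul_ne_zero h2 h3F
                have h8 : (8 : F) ≠ 0 := by
                  rw [show (8 : F) = 2 * 4 by norm_num]; exact mul_ne_zero h2 h4
                first
                  | exact h2 (by linear_combination htr) | exact h2 (by linear_combination -htr)
                  | exact h4 (by linear_combination htr) | exact h4 (by linear_combination -htr)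
                  | exact h6 (by linear_combination htr) | exact h6 (by linear_combination -htr)
                  | exact h8 (by linear_combination htr) | exact h8 (by linear_combination -htr)
          subst hmm
          exact conj_of_form ⟨g, hg⟩ ⟨g', hg'⟩ (diag_adjust m)
        obtain ⟨m, hm, g, hg⟩ := exists_diag h2 huu
        have hdet := det_of_eq hg
        have htru := trace_of_eq hg
        rw [Matrix.det_diagonal, Fin.prod_univ_four, hu, Matrix.det_smul, hdx, mul_one, Fintype.card_fin] at hdet
        rw [Matrix.trace_diagonal, Fin.sum_univ_four] at htru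
        obtain ⟨y₀, hy₀R, hy₀⟩ := hG.mem 0
        obtain ⟨w, hwN, -, hww, hwt⟩ := hG.exists_W D
        have hy₀2 : (y₀ : Q4 F) * (y₀ : Q4 F) = 1 := by rw [hy₀]; exact hG.sq 0
        have hy₀t : Matrix.trace (y₀ : Q4 F) = 0 := by rw [hy₀]; exact hG.trace_one_two D hG.anti.1
        have hy₀N := Subgroup.le_normalizer hy₀R
        interval_cases m <;> simp at hdet htru
        · refine absurd ?_ (hns (-s))
          have h1 : u * (g : Q4 F) = (g : Q4 F) * (-1 : Q4 F) := by
            rw [hg, show Matrix.diagonal (fun k : Fin 4 => if (k : ℕ) < 0 then (1 : F) else -1) = -1 by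
              rw [← Matrix.diagonal_one, Matrix.diagonal_neg]; congr 1]
          rw [mul_neg, mul_one, ← neg_one_mul] at h1
          rw [hxu, g.isUnit.mul_right_cancel h1, smul_neg, neg_smul]
        · refine hconj hwN (c := -s) (v := -u) (by rw [neg_smul, smul_neg, neg_neg]; exact hxu) (key _ w ?_ hww ?_)
          · rw [neg_mul_neg, huu]
          · rw [Matrix.trace_neg, htru, hwt]
            norm_num
        · exact hconj hy₀N hxu (key _ y₀ huu hy₀2 (by rw [htru, hy₀t]))
        · refine hconj hwN hxu (key _ w huu hww ?_)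
          rw [htru, hwt]
          norm_num
        · refine absurd ?_ (hns s)
          have h1 : u * (g : Q4 F) = (g : Q4 F) * (1 : Q4 F) := by
            rw [hg, show Matrix.diagonal (fun k : Fin 4 => if (k : ℕ) < 4 then (1 : F) else -1) = 1 by
              rw [← Matrix.diagonal_one]; congr 1; funext k; rw [if_pos k.2]]
          rw [mul_one] at h1
          rw [hxu, g.isUnit.mul_right_cancel (h1.trans (one_mul _).symm)]
      · push Not at hs
        exfalso
        obtain ⟨g, hg⟩ := exists_quad (α := 0) (β := z) (fun s e => hs s (by rw [e]; ring))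
          (t := (x : Q4 F)) (by rw [zero_smul, zero_add, hz])
        have hdet := det_of_eq hg
        rw [hdx] at hdet
        simp [quad, Matrix.det_succ_row_zero, Fin.sum_univ_succ, Fin.succAbove] at hdet
        rcases mul_self_eq_one_iff.1 (show z * z = 1 by linear_combination -hdet) with e | e
        · exact hs 1 (by rw [e, one_mul])
        · exact hs i (by rw [e, D.isq])
    · have hr : ∀ s : F, s * s ≠ -1 * s + -1 := by
        intro s e
        have hs3 : s ^ 3 = 1 := by linear_combination (s - 1) * e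
        have hs0 : s ≠ 0 := fun h => by rw [h] at hs3; simp at hs3
        have hsp : s ^ (p - 1) = 1 := by rw [← hF]; exact FiniteField.pow_card_sub_one_eq_one s hs0
        have hg : Nat.gcd 3 (p - 1) = 1 := Nat.prime_three.coprime_iff_not_dvd.2 fun h => by omega
        have hs1 : s = 1 := by
          have := pow_gcd_eq_one.2 ⟨hs3, hsp⟩
          rwa [hg, pow_one] at this
        rw [hs1] at e
        exact h3F (by linear_combination e)
      set t : H4 F := mkUnit (z • (x : Q4 F)) (z⁻¹ • ((x⁻¹ : H4 F) : Q4 F)) (by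
        rw [Matrix.smul_mul, Matrix.mul_smul, ← Units.val_mul, mul_inv_cancel, Units.val_one, smul_smul,
          mul_inv_cancel₀ hz0, one_smul]) with ht
      have hxt : (x : Q4 F) = z⁻¹ • (t : Q4 F) := (inv_smul_smul₀ hz0 _).symm
      have ht3 : t ^ 3 = 1 := Units.ext (by
        rw [Units.val_pow_eq_pow_val]
        show (z • (x : Q4 F)) ^ 3 = 1
        rw [smul_pow, ← Units.val_pow_eq_pow_val, hz, smul_smul, ← pow_succ, hz4, one_smul])
      have ht1 : t ≠ 1 := fun e => hns z⁻¹ (by rw [hxt, e]; rfl)
      obtain ⟨A, hA, B, hB, -, hA3, hAB3, hAt, hABt⟩ := hG.exists_threes D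
      have tq : Matrix.trace (quad (-1 : F) (-1)) = -2 := by
        simp [quad, Matrix.trace, Fin.sum_univ_four]; ring
      have ts : Matrix.trace (SympType4.Scal.single (-1 : F) (-1)) = 1 := by
        simp [SympType4.Scal.single, Matrix.trace, Fin.sum_univ_four]
      have hA1 : A ≠ 1 := fun e => by
        rw [e, Units.val_one, Matrix.trace_one, Fintype.card_fin] at hAt
        exact mul_ne_zero h2 h3F (by push_cast at hAt; linear_combination hAt)
      have hAB1 : A * B ≠ 1 := fun e => by
        rw [e, Units.val_one, Matrix.trace_one, Fintype.card_fin] at hABt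
        exact h3F (by push_cast at hABt; linear_combination hABt)
      have hAq : ∃ g : H4 F, (A : Q4 F) * (g : Q4 F) = (g : Q4 F) * quad (-1) (-1) :=
        (classify_three hF hp3 hr hA3 hA1).resolve_right fun ⟨g, hg⟩ => h3F (by
          have := trace_of_eq hg
          rw [hAt, ts] at this
          linear_combination -this)
      have hABs : ∃ g : H4 F, ((A * B : H4 F) : Q4 F) * (g : Q4 F) = (g : Q4 F) * SympType4.Scal.single (-1) (-1) :=
        (classify_three hF hp3 hr hAB3 hAB1).resolve_left fun ⟨g, hg⟩ => h3F (by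
          have := trace_of_eq hg
          rw [hABt, tq] at this
          linear_combination this)
      rcases classify_three hF hp3 hr ht3 ht1 with h | h
      · exact hconj hA hxt (conj_of_form h hAq (quad_adjust h2 hr))
      · exact hconj (Subgroup.mul_mem _ hA hB) hxt (conj_of_form h hABs (single_adjust _ _))
    · haveI : Fact (Nat.Prime 5) := ⟨Nat.prime_five⟩
      have hp5 : p ≠ 5 := fun e => by
        subst e
        rw [ZMod.natCast_self, orderOf_zero] at h5
        omega
      have h5F : (5 : F) ≠ 0 := fun h => hp5 ((Nat.prime_dvd_prime_iff_eq hpr Nat.prime_five).1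
        ((CharP.cast_eq_zero_iff F p 5).1 (by exact_mod_cast h)))
      have hcop : Nat.Coprime (Nat.card Fˣ) 5 := by
        rw [Nat.card_units, Nat.card_eq_fintype_card, hF, Nat.coprime_comm]
        refine Nat.prime_five.coprime_iff_not_dvd.2 fun h => ?_
        have e1 : ((p - 1 : ℕ) : ZMod 5) = 0 := (ZMod.natCast_eq_zero_iff _ _).2 h
        rw [Nat.cast_sub hpr.one_lt.le, Nat.cast_one, sub_eq_zero] at e1
        rw [e1, orderOf_one] at h5
        omega
      have hroot : ∀ c : F, c ≠ 0 → ∃ l : F, l ^ 5 = c := fun c hc => by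
        obtain ⟨l, hl⟩ := (powCoprime hcop).surjective (Units.mk0 c hc)
        exact ⟨l, congrArg Units.val hl⟩
      obtain ⟨y, hyN, -, hy5, hy1⟩ := hG.exists_five D hroot
      have hySL : y ∈ Cfsg.Geo.specialLinear (Fin 4) F := by
        rw [Cfsg.Geo.specialLinear, MonoidHom.mem_ker]
        refine (powCoprime hcop).injective ?_
        show _ ^ 5 = (1 : Fˣ) ^ 5
        rw [← map_pow, hy5, map_one, one_pow]
      set t : H4 F := mkUnit (z⁻¹ • (x : Q4 F)) (z • ((x⁻¹ : H4 F) : Q4 F)) (by
        rw [Matrix.smul_mul, Matrix.mul_smul, ← Units.val_mul, mul_inv_cancel, Units.val_one, smul_smul,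
          inv_mul_cancel₀ hz0, one_smul]) with ht
      have hxt : (x : Q4 F) = z • (t : Q4 F) := (smul_inv_smul₀ hz0 _).symm
      have ht5 : t ^ 5 = 1 := Units.ext (by
        rw [Units.val_pow_eq_pow_val]
        show (z⁻¹ • (x : Q4 F)) ^ 5 = 1
        rw [smul_pow, ← Units.val_pow_eq_pow_val, hz, smul_smul, inv_pow, pow_succ, hz4, one_mul,
          inv_mul_cancel₀ hz0, one_smul])
      have htSL : t ∈ Cfsg.Geo.specialLinear (Fin 4) F := mem_SL.2 (by
        show (z⁻¹ • (x : Q4 F)).det = 1
        rw [Matrix.det_smul, hdx, Fintype.card_fin, inv_pow, hz4, inv_one, one_mul])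
      have ht1 : t ≠ 1 := fun e => hns z (by rw [hxt, e]; rfl)
      have hfix : ∀ g ∈ Cfsg.Geo.specialLinear (Fin 4) F, g ^ 5 = 1 → g ≠ 1 →
          ∀ w, (g : Q4 F) *ᵥ w = w → w = 0 := by
        intro g _ hg hg1
        set W := LinearMap.ker (Matrix.toLin' ((g : Q4 F) - 1)) with hW
        have hmem : ∀ w, w ∈ W ↔ (g : Q4 F) *ᵥ w = w := fun w => by
          rw [hW, LinearMap.mem_ker, Matrix.toLin'_apply, Matrix.sub_mulVec, Matrix.one_mulVec, sub_eq_zero]
        let σ : Function.End (Fin 4 → F) := fun w => (g : Q4 F) *ᵥ w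
        have hσ : ∀ (n : ℕ) w, (σ ^ n) w = ((g ^ n : H4 F) : Q4 F) *ᵥ w := fun n => by
          induction n with
          | zero => intro w; rw [pow_zero, pow_zero, Units.val_one, Matrix.one_mulVec]; rfl
          | succ n ih =>
            intro w
            rw [pow_succ' σ, pow_succ' g, Units.val_mul, ← Matrix.mulVec_mulVec, ← ih]
            rfl
        have h1 := Equiv.Perm.card_fixedPoints_modEq (f := σ) (p := 5) (n := 1) (by
          rw [pow_one]; funext w; rw [hσ, hg, Units.val_one, Matrix.one_mulVec]; rfl)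
        have hf : Fintype.card (Function.fixedPoints σ) = Fintype.card F ^ finrank F W := by
          rw [← Module.card_eq_pow_finrank (K := F) (V := W)]
          exact Fintype.card_congr (Equiv.subtypeEquivRight fun w => (hmem w).symm)
        rw [hf, Fintype.card_fun, Fintype.card_fin, ← ZMod.natCast_eq_natCast_iff, Nat.cast_pow, Nat.cast_pow,
          hF] at h1
        rw [(orderOf_dvd_iff_pow_eq_one.1 (by rw [h5]) : (p : ZMod 5) ^ 4 = 1), eq_comm, ← orderOf_dvd_iff_pow_eq_one, h5] at h1
        have hle : finrank F W ≤ 4 := (Submodule.finrank_le W).trans (by simp)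
        intro w hw
        rcases eq_or_ne (finrank F W) 0 with h0 | h0
        · have := (hmem w).2 hw
          rwa [Submodule.finrank_eq_zero.1 h0, Submodule.mem_bot] at this
        have htop : W = ⊤ := Submodule.eq_top_of_finrank_eq (by
          have := Nat.le_of_dvd (Nat.pos_of_ne_zero h0) h1
          simp; omega)
        exact absurd (Units.ext (Matrix.ext_of_mulVec_single fun k => by
          rw [Units.val_one, Matrix.one_mulVec]; exact (hmem _).1 (htop ▸ Submodule.mem_top))) hg1
      obtain ⟨g, hg, hgt⟩ := conj_five h5F _ hfix htSL hySL ht5 hy5 ht1 hy1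
      refine ⟨g, hg, scalar_mem (Subgroup.zpowers_le.2 hyN hgt) (c := z) ?_⟩
      rw [Units.val_mul, Units.val_mul, hxt, Matrix.mul_smul, Matrix.smul_mul, Units.val_mul, Units.val_mul]

end Cfsg.Agent.S6000
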