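import Cfsg.Statements.S6001
import Cfsg.Agent.SympType4.Unit
import Cfsg.Agent.S6000
-- import your own Cfsg.Agent.* helpers here

set_option autoImplicit false
open scoped MatrixGroups
open Cfsg

namespace Cfsg.Agent.S6001

open Cfsg.Agent.SympType4.Scal Cfsg.Agent.Forms Matrix Module

variable {F : Type*} [Field F]

theorem five_even : ∀ f : Fin 5, (f : ℕ) ≠ 0 → (f : ℕ) ≠ 4 → (-1 : ZMod 5) ^ 4 = (-1) ^ (f : ℕ) → (f : ℕ) = 2 := by
  decide

theorem five_sq : ∀ e : ZMod 5, (e * e) ^ 2 = 1 ∨ e = 0 := by decide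

theorem five_ne : (0 : ZMod 5) ^ 2 ≠ -1 := by decide

theorem five_of_rel {a : F} (ha : a * a + a = 1) {U : Q4 F} (hc : (U - 1) * (U * U - a • U + 1) = 0) :
    U ^ 5 = 1 := by
  have h : U ^ 5 - 1 = (U * U + (a + 1) • U + 1) * ((U - 1) * (U * U - a • U + 1)) := by
    simp only [pow_succ, pow_zero, one_mul, mul_one, add_mul, mul_add, sub_mul, mul_sub, Matrix.smul_mul,
      Matrix.mul_smul, smul_smul, smul_add, smul_sub, ← mul_assoc]
    match_scalars <;> grind
  rw [hc, mul_zero, sub_eq_zero] at h
  exact h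

/-- the spectral projection of an element of order three -/
def Eop (l : F) (X : Q4 F) : Q4 F := (3 : F)⁻¹ • (1 + (l * l) • X + l • (X * X))

theorem Eop_mul (h3 : (3 : F) ≠ 0) {w : F} (hw : w * w + w + 1 = 0) {X : Q4 F} (hX : X * (X * X) = 1) :
    Eop w X * Eop w X = Eop w X ∧ Eop w X * Eop (w * w) X = 0 := by
  have hw3 : w * w * w = 1 := by linear_combination (w - 1) * hw
  have hXX : ∀ Z, X * (X * (X * Z)) = Z := fun Z => by rw [← mul_assoc X X Z, ← mul_assoc X (X * X) Z, hX, one_mul]
  constructor <;>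
    (simp only [Eop, Matrix.smul_mul, Matrix.mul_smul, smul_smul, mul_add, add_mul, one_mul, mul_one, mul_assoc,
      hX, hXX]
     match_scalars <;> field_simp <;> grind)

theorem Eop_comm {l : F} {X Y : Q4 F} (h : X * Y = Y * X) : Eop l X * Y = Y * Eop l X := by
  simp only [Eop, Matrix.smul_mul, Matrix.mul_smul, mul_add, add_mul, one_mul, mul_one]
  rw [mul_assoc X X Y, h, ← mul_assoc X Y X, h, mul_assoc]

theorem ad_Eop [Fintype F] {p : ℕ} (hK : Fintype.card F = p ^ 2) (h3p : ((3 : F)⁻¹) ^ p = (3 : F)⁻¹) {w : F}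
    (hwp : w ^ p = w) (hw : w * w + w + 1 = 0) {X : Q4 F} (hX : X * (X * X) = 1) (ha : ad hK X = X * X) :
    ad hK (Eop w X) = Eop (w * w) X := by
  have hw3 : w * w * w = 1 := by linear_combination (w - 1) * hw
  have h4 : X * X * (X * X) = X := by rw [mul_assoc, hX, mul_one]
  simp only [Eop, ad_smul, ad_add, ad_one, ad_mul, ha, h4, mul_pow, hwp, h3p]
  match_scalars <;> grind

/-- an element of order five with a plane of fixed vectors -/
theorem single_form {g : H4 F} (h5 : (5 : F) ≠ 0) (hg : g ^ 5 = 1) (hd : (g : Q4 F).det = 1)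
    (hno : ∀ c : F, c ^ 5 = 1 → c = 1) {W : Submodule F (Fin 4 → F)} (hW : finrank F W = 2)
    (hmem : ∀ w, w ∈ W ↔ (g : Q4 F) *ᵥ w = w) :
    ∃ α : F, α * α + α = 1 ∧ ∃ P : H4 F, (g : Q4 F) * (P : Q4 F) = (P : Q4 F) * SympType4.Scal.single α (-1) := by
  classical
  set X := (g : Q4 F) with hX
  have hX5 : X * (X * (X * (X * X))) = 1 := by
    have e : g * (g * (g * (g * g))) = 1 := by rw [← hg]; simp [pow_succ, mul_assoc]
    have := congrArg (fun z : H4 F => (z : Q4 F)) e
    simpa only [Units.val_mul, Units.val_one] using this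
  set f := Matrix.toLin' X with hf
  have hf5 : ∀ u, f (f (f (f (f u)))) = u := fun u => by
    simp only [hf, Matrix.toLin'_apply, Matrix.mulVec_mulVec, mul_assoc, hX5, Matrix.one_mulVec]
  obtain ⟨u, hu⟩ : ∃ u, u ∉ W := by
    by_contra hcon
    push Not at hcon
    rw [(eq_top_iff.2 fun x _ => hcon x : W = ⊤), finrank_top] at hW
    simp at hW
  set v := f u - u with hv
  have hv0 : v ≠ 0 := fun e => hu ((hmem u).2 (by rw [← Matrix.toLin'_apply, ← hf]; exact sub_eq_zero.1 e))
  let N : (Fin 4 → F) →ₗ[F] (Fin 4 → F) :=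
    LinearMap.id + f + f ∘ₗ f + f ∘ₗ f ∘ₗ f + f ∘ₗ f ∘ₗ f ∘ₗ f
  have hNf : ∀ x, N (f x) = N x := fun x => by
    simp only [N, LinearMap.add_apply, LinearMap.id_apply, LinearMap.comp_apply, hf5]
    abel
  have hNv : N v = 0 := by rw [hv, map_sub, hNf, sub_self]
  have hfix : ∀ x, x ∈ W → f x = x := fun x hx => by rw [hf, Matrix.toLin'_apply]; exact (hmem x).1 hx
  have hNW : ∀ x, x ∈ W → N x = (5 : F) • x := fun x hx => by
    simp only [N, LinearMap.add_apply, LinearMap.id_apply, LinearMap.comp_apply, hfix x hx]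
    match_scalars
    norm_num
  let b := Module.finBasisOfFinrankEq F W hW
  have hli : LinearIndependent F ![v, f v, (b 0 : W), (b 1 : W)] := by
    refine Fintype.linearIndependent_iff.2 fun c hc => ?_
    simp [Fin.sum_univ_four] at hc
    have hwW : c 2 • ((b 0 : W) : Fin 4 → F) + c 3 • ((b 1 : W) : Fin 4 → F) ∈ W :=
      Submodule.add_mem _ (Submodule.smul_mem _ _ (b 0).2) (Submodule.smul_mem _ _ (b 1).2)
    set x := c 2 • ((b 0 : W) : Fin 4 → F) + c 3 • ((b 1 : W) : Fin 4 → F) with hx
    have hsum : c 0 • v + c 1 • f v + x = 0 := by rw [hx, ← add_assoc]; exact hc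
    have hx0 : x = 0 := by
      have h := congrArg N hsum
      simp only [map_add, map_smul, hNf, hNv, smul_zero, zero_add, map_zero, hNW _ hwW] at h
      exact (smul_eq_zero.1 h).resolve_left h5
    rw [hx0, add_zero] at hsum
    have h23 : c 2 = 0 ∧ c 3 = 0 := by
      have hl := Fintype.linearIndependent_iff.1 b.linearIndependent ![c 2, c 3] (by
        rw [Fin.sum_univ_two]
        exact Subtype.ext hx0)
      exact ⟨hl 0, hl 1⟩
    have h1 : c 1 = 0 := by
      by_contra h1
      have hfv : f v = (-(c 0 / c 1)) • v := by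
        have := congrArg (fun z => (c 1)⁻¹ • z) hsum
        simp only [smul_add, smul_smul, inv_mul_cancel₀ h1, one_smul, smul_zero] at this
        rw [eq_neg_of_add_eq_zero_right this, neg_smul]
        congr 1
        rw [div_eq_inv_mul]
      set l := -(c 0 / c 1)
      have hl5 : l ^ 5 = 1 := by
        have h := hf5 v
        simp only [hfv, map_smul, smul_smul] at h
        refine smul_left_injective F hv0 ?_
        show l ^ 5 • v = (1 : F) • v
        rw [one_smul]
        convert h using 2
        ring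
      rw [hno l hl5, one_smul] at hfv
      have h := hNW v ((hmem v).2 (by rw [← Matrix.toLin'_apply]; exact hfv))
      rw [hNv] at h
      exact hv0 ((smul_eq_zero.1 h.symm).resolve_left h5)
    rw [h1, zero_smul, add_zero] at hsum
    intro j
    fin_cases j
    · exact (smul_eq_zero.1 hsum).resolve_right hv0
    · exact h1
    · exact h23.1
    · exact h23.2
  let B := basisOfLinearIndependentOfCardEqFinrank hli (by simp)
  have hB : ∀ k, B k = ![v, f v, (b 0 : W), (b 1 : W)] k := fun k => by simp [B]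
  obtain ⟨β, α, c, d, hexp⟩ : ∃ β α c d : F,
      f (f v) = β • v + α • f v + c • ((b 0 : W) : Fin 4 → F) + d • ((b 1 : W) : Fin 4 → F) := by
    refine ⟨B.repr (f (f v)) 0, B.repr (f (f v)) 1, B.repr (f (f v)) 2, B.repr (f (f v)) 3, ?_⟩
    conv_lhs => rw [← B.sum_repr (f (f v))]
    simp [Fin.sum_univ_four, hB]
  have hff : f (f v) = β • v + α • f v := by
    have h := congrArg N hexp
    simp only [map_add, map_smul, hNf, hNv, smul_zero, zero_add, hNW _ (b 0).2, hNW _ (b 1).2] at h
    have h' : (5 : F) • (c • ((b 0 : W) : Fin 4 → F) + d • ((b 1 : W) : Fin 4 → F)) = 0 := by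
      rw [smul_add, smul_comm (5 : F) c, smul_comm (5 : F) d]
      exact h.symm
    rw [hexp, add_assoc, (smul_eq_zero.1 h').resolve_left h5, add_zero]
  obtain ⟨P, hP⟩ := exists_conj_of_cols (t := X) (M := SympType4.Scal.single α β) hli fun k => by
    rw [← Matrix.toLin'_apply, ← hf]
    fin_cases k <;>
      simp [SympType4.Scal.single, Fin.sum_univ_four, hff, hfix _ (b 0).2, hfix _ (b 1).2, add_comm]
  have hdet := S6000.det_of_eq hP
  rw [hX, hd] at hdet
  simp [SympType4.Scal.single, Matrix.det_succ_row_zero, Fin.sum_univ_succ, Fin.succAbove] at hdet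
  have hβ : β = -1 := by linear_combination hdet
  subst hβ
  refine ⟨α, ?_, P, hP⟩
  have hz := hNv
  simp only [N, LinearMap.add_apply, LinearMap.id_apply, LinearMap.comp_apply, hff, map_add, map_smul] at hz
  have hl := Fintype.linearIndependent_iff.1 hli ![1 - α - α * α, α * α * α + α * α - α, 0, 0] (by
    rw [Fin.sum_univ_four]
    simp
    rw [← hz]
    match_scalars <;> ring) 0
  simp at hl
  linear_combination -hl


/-- Elements of prime order of PSU_4(p), p ≡ 3 (mod 4), and the normalizer of a 2-group of symplectic type of order 2⁶. Here `T = PSU_4(p)` for a prime `p ≡ 3 (mod 4)`, realised through `SU_4(p)`, the matrices of determinant 1 over the field `F` with `p²` elements preserving the hermitian form `f = Σ uᵢvᵢ^p`; `R` is an absolutely irreducible subgroup of the full unitary group of `f` of order 2⁶ that is a 2-group of symplectic type of exponent 4 with centre of order 4, and `H` is the subgroup of `SU_4(p)` normalizing `R` — a subgroup of type 2⁴.Sp₄(2) (maximality is not assumed). Ω is the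 set of cosets of `H`, so an element of `T` of prime order `r` (`x ∈ SU_4(p)` with `x^r` scalar, `x` not scalar) fixes a point of Ω exactly when some `SU_4(p)`-conjugate of `x` normalizes `R`. Let `r` be a prime dividing the index of `H`. Then every element of `T` of order `r` fixes a point of Ω if and only if `r = 2`, or `r = 3` and `p ≡ 1 (mod 3)`, or `r = 5` and `p ≡ ±2 (mod 5)` (`p` has multiplicative order 4 modulo 5). -/
theorem result {F : Type*} [Field F] [Fintype F] {p : ℕ} [Fact p.Prime] [CharP F p] (hF : Fintype.card F = p ^ 2) (hp4 : p % 4 = 3)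
    (R : Subgroup (GL (Fin 4) F)) (hRs : Cfsg.Geo.IsSymplecticTypeGroup 2 R) (hRi : Cfsg.Geo.ActsAbsolutelyIrreducibly (Cfsg.Geo.matrixSet R))
    (hRU : R ≤ Cfsg.GU 4 F p) (hR6 : Nat.card R = 2 ^ 6) (hRZ : Nat.card (Subgroup.center R) = 4)
    (r : ℕ) [Fact r.Prime]
    (hΩ : r ∣ (Cfsg.Geo.subgroupNormalizer R).relIndex (Cfsg.GU 4 F p ⊓ Cfsg.Geo.specialLinear (Fin 4) F)) :
    (∀ x ∈ Cfsg.GU 4 F p ⊓ Cfsg.Geo.specialLinear (Fin 4) F, (∃ z : F, ((x ^ r : GL (Fin 4) F) : Matrix (Fin 4) (Fin 4) F) = z • (1 : Matrix (Fin 4) (Fin 4) F)) →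
      (∀ z : F, (x : Matrix (Fin 4) (Fin 4) F) ≠ z • (1 : Matrix (Fin 4) (Fin 4) F)) →
      ∃ g ∈ Cfsg.GU 4 F p ⊓ Cfsg.Geo.specialLinear (Fin 4) F, g⁻¹ * x * g ∈ Cfsg.Geo.subgroupNormalizer R) ↔ (r = 2 ∨ (r = 3 ∧ p % 3 = 1) ∨ (r = 5 ∧ orderOf (p : ZMod 5) = 4)) := by
  classical
  have hpr : p.Prime := Fact.out
  have hp3le : 3 ≤ p := by have := hpr.two_le; omega
  have hpne : p ≠ 5 := fun e => by omega
  have hodd : Odd p := hpr.odd_of_ne_two (by omega)
  have hcast : ∀ m n : ℕ, m < p → n < p → (m : F) = (n : F) → m = n := fun m n hm hn e =>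
    ((CharP.natCast_eq_natCast F p).1 e).eq_of_lt_of_lt hm hn
  have h2 : (2 : F) ≠ 0 := fun h => absurd (hcast 2 0 (by omega) (by omega) (by exact_mod_cast h)) (by norm_num)
  have h4F : (4 : F) ≠ 0 := quarter h2
  obtain ⟨i, D⟩ := mkData h2 hRs hRi hR6 hRZ
  obtain ⟨a, hG⟩ := D.exists_gens
  have hi0 : i ≠ 0 := fun e => by have := D.isq; rw [e] at this; simp at this
  have hi4 : i ^ 4 = 1 := by linear_combination (i * i - 1) * D.isq
  have hip : i ^ p = -i := by
    rw [← Nat.div_add_mod p 4, hp4, pow_add, pow_mul, hi4, one_pow]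
    linear_combination i * D.isq
  have hpp : ∀ c : F, (c ^ p) ^ p = c := fun c => by
    rw [← pow_mul, ← pow_two, ← hF, FiniteField.pow_card]
  constructor
  · intro hall
    by_contra hcon
    push Not at hcon
    obtain ⟨hr2, hr3, hr5⟩ := hcon
    have hro : Odd r := (Fact.out : r.Prime).odd_of_ne_two hr2
    have test : ∀ u ∈ Cfsg.GU 4 F p ⊓ Cfsg.Geo.specialLinear (Fin 4) F, u ^ r = 1 → (∀ z : F, (u : Q4 F) ≠ z • 1) →
        ∃ g : H4 F, g⁻¹ * u * g ∈ Cfsg.Geo.subgroupNormalizer R ∧ (g⁻¹ * u * g) ^ r = 1 ∧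
          ∀ z : F, ((g⁻¹ * u * g : H4 F) : Q4 F) ≠ z • 1 := by
      intro u hu hur hus
      obtain ⟨g, -, hgu⟩ := hall u hu ⟨1, by rw [hur, one_smul]; rfl⟩ hus
      refine ⟨g, hgu, ?_, fun z hz => hus z ?_⟩
      · have h : (g⁻¹ * u * (g⁻¹)⁻¹) ^ r = 1 := by rw [conj_pow, hur, mul_one, mul_inv_cancel]
        rwa [inv_inv] at h
      · rw [show u = g * (g⁻¹ * u * g) * g⁻¹ by group, Units.val_mul, Units.val_mul, hz, Matrix.mul_smul, mul_one,
          Matrix.smul_mul, ← Units.val_mul, mul_inv_cancel, Units.val_one]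
    have hcard : ∀ (u g : H4 F), g⁻¹ * u * g ∈ Cfsg.Geo.subgroupNormalizer R → (g⁻¹ * u * g) ^ r = 1 →
        (∀ z : F, ((g⁻¹ * u * g : H4 F) : Q4 F) ≠ z • 1) →
        ∃ k, 2 ≤ k ∧ k ≤ 5 ∧ ((2 ^ k : ℕ) : F) =
          4 * (Matrix.trace (u : Q4 F) * Matrix.trace ((u⁻¹ : H4 F) : Q4 F)) ∧ 64 ≡ 2 ^ k [MOD r] := by
      intro u g hN hpow hns
      obtain ⟨h4, hdvd, hmod⟩ := D.card_fix hN hpow
      have htr := D.trace_formula hN hro hpow
      rw [S6000.trace_conj, show (g⁻¹ * u * g)⁻¹ = g⁻¹ * u⁻¹ * g by group, S6000.trace_conj] at htr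
      obtain ⟨k, hk, hkeq⟩ := (Nat.dvd_prime_pow Nat.prime_two).1
        (show Nat.card (fixR R (g⁻¹ * u * g)) ∣ 2 ^ 6 from hdvd.trans (by norm_num))
      have hk6 : k ≠ 6 := fun e => by
        obtain ⟨c, hc⟩ := D.scalar_of_fix_all (t := g⁻¹ * u * g) (by rw [hkeq, e]; norm_num)
        exact hns c hc
      rw [hkeq] at htr hmod h4
      refine ⟨k, ?_, by omega, htr, hmod⟩
      rcases k with _ | _ | k <;> simp at h4 ⊢
    rcases eq_or_ne r 3 with rfl | hr3'
    · have hp31 : p % 3 ≠ 1 := hr3 rfl
      by_cases hp : p = 3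
      · subst hp
        have h3 : (3 : F) = 0 := by exact_mod_cast CharP.cast_eq_zero F 3
        set J : Q4 F := !![1, 1, 1, 0; 1, 1, 1, 0; 1, 1, 1, 0; 0, 0, 0, 0] with hJ
        have hJJ : J * J = 0 := by
          ext k l
          fin_cases k <;> fin_cases l <;> simp [hJ, Matrix.mul_apply, Fin.sum_univ_four] <;> linear_combination h3
        have hJY : ∀ Y : Q4 F, ∃ c : F, J * Y * J = c • J := fun Y =>
          ⟨Y 0 0 + Y 0 1 + Y 0 2 + (Y 1 0 + Y 1 1 + Y 1 2) + (Y 2 0 + Y 2 1 + Y 2 2), by
            ext k l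
            fin_cases k <;> fin_cases l <;> simp [hJ, Matrix.mul_apply, Fin.sum_univ_four, Matrix.vecMul, dotProduct] <;> ring⟩
        have hadJ : ad hF J = J := by
          ext k l
          rw [ad_apply]
          fin_cases k <;> fin_cases l <;> simp [hJ]
        set M := i • J with hM
        have hMM : M * M = 0 := by rw [hM, Matrix.smul_mul, Matrix.mul_smul, hJJ, smul_zero, smul_zero]
        obtain ⟨u, hu, hu'⟩ : ∃ u : H4 F, (u : Q4 F) = 1 + M ∧ ((u⁻¹ : H4 F) : Q4 F) = 1 - M :=
          ⟨mkUnit (1 + M) (1 - M) (by rw [add_mul, one_mul, mul_sub, mul_one, hMM, sub_zero, sub_add_cancel]), rfl, rfl⟩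
        obtain ⟨g, hN, hpow, hns⟩ := test u ⟨(mem_GU hF).2 (by
            rw [hu, ad_add, ad_one, hM, ad_smul, hip, hadJ, neg_smul, ← hM, ← sub_eq_add_neg, ← hu', ← hu,
              ← Units.val_mul, inv_mul_cancel, Units.val_one]), S6000.mem_SL.2 (by
            rw [hu, hM, hJ]
            rw [show (1 : Q4 F) + i • !![1, 1, 1, 0; 1, 1, 1, 0; 1, 1, 1, 0; 0, 0, 0, 0] =
              !![1 + i, i, i, 0; i, 1 + i, i, 0; i, i, 1 + i, 0; 0, 0, 0, 1] by
                ext k l
                fin_cases k <;> fin_cases l <;> simp]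
            simp [Matrix.det_succ_row_zero, Fin.sum_univ_succ, Fin.succAbove]
            linear_combination i * h3)⟩
          (Units.ext (by
            rw [Units.val_pow_eq_pow_val, hu, pow_three, Units.val_one]
            simp only [add_mul, mul_add, one_mul, mul_one, hMM, mul_zero, add_zero]
            match_scalars <;> first | ring1 | linear_combination h3 | linear_combination i * h3))
          fun z hz => by
            rw [hu, hM, hJ] at hz
            have e1 := congrFun (congrFun hz 0) 1
            simp at e1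
            exact hi0 e1
        obtain ⟨hfix4, hfixd, -⟩ := D.card_fix hN hpow
        have hfix32 : Nat.card (fixR R (g⁻¹ * u * g)) ≤ 32 := by
          obtain ⟨k, hk, hkeq⟩ := (Nat.dvd_prime_pow Nat.prime_two).1
            (show Nat.card (fixR R (g⁻¹ * u * g)) ∣ 2 ^ 6 from hfixd.trans (by norm_num))
          have hk6 : k ≠ 6 := fun e => by
            obtain ⟨c, hc⟩ := D.scalar_of_fix_all (t := g⁻¹ * u * g) (by rw [hkeq, e]; norm_num)
            exact hns c hc
          rw [hkeq]
          exact (Nat.pow_le_pow_right (by norm_num) (show k ≤ 5 by omega)).trans (by norm_num)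
        set t := g⁻¹ * u * g with ht
        set gi : Q4 F := ((g⁻¹ : H4 F) : Q4 F) with hgi
        have hgg : gi * (g : Q4 F) = 1 := by rw [hgi, ← Units.val_mul, inv_mul_cancel, Units.val_one]
        have hgg' : (g : Q4 F) * gi = 1 := mul_eq_one_comm.1 hgg
        set N := gi * M * (g : Q4 F) with hNdef
        have hT : (t : Q4 F) = 1 + N ∧ ((t⁻¹ : H4 F) : Q4 F) = 1 - N := by
          constructor
          · rw [ht, Units.val_mul, Units.val_mul, hu, mul_add, mul_one, add_mul, ← hgi, hgg]
          · rw [ht, show (g⁻¹ * u * g)⁻¹ = g⁻¹ * u⁻¹ * g by group, Units.val_mul, Units.val_mul, hu', mul_sub, mul_one,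
              sub_mul, ← hgi, hgg]
        have hNY : ∀ Y, ∃ c : F, N * Y * N = c • N := fun Y => by
          obtain ⟨c, hc⟩ := hJY ((g : Q4 F) * Y * gi)
          refine ⟨i * c, ?_⟩
          rw [hNdef, show gi * M * (g : Q4 F) * Y * (gi * M * (g : Q4 F)) =
            gi * (M * ((g : Q4 F) * Y * gi) * M) * (g : Q4 F) by simp only [mul_assoc], hM]
          simp only [Matrix.smul_mul, Matrix.mul_smul, hc, smul_smul]
          congr 1
          ring
        have hNN : N * N = 0 := by
          rw [hNdef, show gi * M * (g : Q4 F) * (gi * M * (g : Q4 F)) = gi * M * ((g : Q4 F) * gi) * M * (g : Q4 F) by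
            simp only [mul_assoc], hgg', mul_one, mul_assoc gi M M, hMM, mul_zero, zero_mul]
        let cj : ℕ → H4 F → H4 F := fun k h => t ^ k * h * (t ^ k)⁻¹
        have hcjR : ∀ k {h}, h ∈ R → cj k h ∈ R := fun k h hh =>
          (Subgroup.mem_normalizer_iff.1 (Subgroup.pow_mem _ hN k) h).1 hh
        have hsum : ∀ h : H4 F, ∃ c : F, (cj 0 h : Q4 F) + (cj 1 h : Q4 F) + (cj 2 h : Q4 F) = c • N := by
          intro h
          obtain ⟨c, hc⟩ := hNY (h : Q4 F)
          refine ⟨c, ?_⟩
          rw [← hc, ← sub_eq_zero]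
          have kNN : ∀ Z : Q4 F, N * (N * Z) = 0 := fun Z => by rw [← mul_assoc, hNN, zero_mul]
          calc (cj 0 h : Q4 F) + (cj 1 h : Q4 F) + (cj 2 h : Q4 F) - N * (h : Q4 F) * N =
              (3 : F) • ((h : Q4 F) + N * (h : Q4 F) - (h : Q4 F) * N - (2 : F) • (N * (h : Q4 F) * N)) := by
                simp only [cj, pow_zero, pow_one, pow_two, _root_.mul_inv_rev, inv_one, Units.val_mul, Units.val_one,
                  hT.1, hT.2, add_mul, mul_add, sub_mul, mul_sub, one_mul, mul_one, mul_assoc, hNN, kNN, mul_zero, zero_mul]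
                match_scalars <;> ring
            _ = 0 := by rw [h3, zero_smul]
        have htr0 : ∀ x ∈ R, (∀ c : F, (x : Q4 F) ≠ c • 1) → Matrix.trace (x : Q4 F) = 0 := fun x hx hxs => by
          obtain ⟨Y, hY, hYa⟩ := D.exists_anti ⟨x, hx, rfl⟩ hxs
          exact trace_anti h2 hY.isUnit hYa
        have hself : ∀ h ∈ R, h ∉ fixR R t →
            Matrix.trace (((cj 0 h : Q4 F) + (cj 1 h : Q4 F) + (cj 2 h : Q4 F)) * ((h⁻¹ : H4 F) : Q4 F)) = 4 := by
          intro h hh hnf
          have hz : ∀ k, (k = 1 ∨ k = 2) → Matrix.trace ((cj k h * h⁻¹ : H4 F) : Q4 F) = 0 := by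
            intro k hk
            refine htr0 _ (R.mul_mem (hcjR k hh) (R.inv_mem hh)) fun c hc => hnf ?_
            have hcom : Commute (t ^ k) h := by
              refine D.root_of_pow (r := 3) (c := c) (by decide) (by rw [← pow_mul, mul_comm, pow_mul, hpow, one_pow])
                hh ?_
              rw [show t ^ k * h * (t ^ k)⁻¹ = (cj k h * h⁻¹) * h by simp [cj], Units.val_mul, hc, Matrix.smul_mul,
                one_mul]
            refine mem_fixR.2 ⟨hh, ?_⟩
            rcases hk with rfl | rfl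
            · rwa [pow_one] at hcom
            · have h' := hcom.pow_left 2
              rwa [← pow_mul, show 2 * 2 = 3 + 1 by norm_num, pow_succ, hpow, one_mul] at h'
          rw [add_mul, add_mul, ← Units.val_mul, ← Units.val_mul, ← Units.val_mul, Matrix.trace_add, Matrix.trace_add,
            hz 1 (by simp), hz 2 (by simp)]
          simp [cj]
        obtain ⟨g₀, hg₀R, hg₀⟩ : ∃ g₀ ∈ R, g₀ ∉ fixR R t := by
          by_contra hcon
          push Not at hcon
          have := D.scalar_of_fix_all (t := t) (by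
            rw [show fixR R t = R from le_antisymm inf_le_left hcon, D.card])
          obtain ⟨c, hc⟩ := this
          exact hns c hc
        obtain ⟨c₀, hc₀⟩ := hsum g₀
        have hc₀0 : c₀ ≠ 0 := fun e => h4F (by
          rw [← hself g₀ hg₀R hg₀, hc₀, e, zero_smul, zero_mul, Matrix.trace_zero])
        have hcov : ∀ h ∈ R, h ∉ fixR R t → ∃ c ∈ ({1, -1, i, -i} : Finset F), ∃ k ∈ ({0, 1, 2} : Finset ℕ),
            (h : Q4 F) = c • (cj k g₀ : Q4 F) := by
          intro h hh hnf
          by_contra hcon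
          push Not at hcon
          have hz : ∀ k ∈ ({0, 1, 2} : Finset ℕ), Matrix.trace ((cj k g₀ * h⁻¹ : H4 F) : Q4 F) = 0 := by
            intro k hk
            refine htr0 _ (R.mul_mem (hcjR k hg₀R) (R.inv_mem hh)) fun c hc => ?_
            have hroot := D.root_of_mem ⟨_, R.mul_mem (hcjR k hg₀R) (R.inv_mem hh), hc⟩
            have hc0 : c ≠ 0 := fun e => by
              rw [e, zero_smul] at hc
              exact Units.ne_zero _ hc
            have hcc : c⁻¹ ∈ ({1, -1, i, -i} : Finset F) := by
              have hii : i⁻¹ = -i := inv_eq_of_mul_eq_one_right (by linear_combination -D.isq)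
              rcases hroot with rfl | rfl | rfl | rfl <;> simp [inv_neg, hii]
            refine hcon _ hcc k hk ?_
            rw [show cj k g₀ = (cj k g₀ * h⁻¹) * h by simp, Units.val_mul, hc, Matrix.smul_mul, one_mul, smul_smul,
              inv_mul_cancel₀ hc0, one_smul]
          have h0 : Matrix.trace (N * ((h⁻¹ : H4 F) : Q4 F)) = 0 := by
            have h := congrArg (fun Z : Q4 F => Matrix.trace (Z * ((h⁻¹ : H4 F) : Q4 F))) hc₀
            simp only [add_mul, ← Units.val_mul, Matrix.trace_add, hz 0 (by simp), hz 1 (by simp), hz 2 (by simp),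
              add_zero, Matrix.smul_mul, Matrix.trace_smul, smul_eq_mul] at h
            exact (mul_eq_zero.1 h.symm).resolve_left hc₀0
          obtain ⟨c, hc⟩ := hsum h
          have h4 := hself h hh hnf
          rw [hc, Matrix.smul_mul, Matrix.trace_smul, h0, smul_zero] at h4
          exact h4F h4.symm
        haveI : Finite R := Nat.finite_of_card_ne_zero (by rw [D.card]; norm_num)
        haveI : Fintype R := Fintype.ofFinite _
        set A := Finset.univ.filter fun h : R => (h : H4 F) ∉ fixR R t with hA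
        have hA12 : A.card ≤ 12 := by
          refine le_trans (Finset.card_le_card_of_injOn (fun h : R => ((h : H4 F) : Q4 F))
            (t := (({1, -1, i, -i} : Finset F) ×ˢ ({0, 1, 2} : Finset ℕ)).image
              fun ck => ck.1 • (cj ck.2 g₀ : Q4 F)) ?_ ?_) ?_
          · intro h hh
            obtain ⟨c, hc, k, hk, e⟩ := hcov h h.2 (Finset.mem_filter.1 hh).2
            exact Finset.mem_image.2 ⟨(c, k), Finset.mem_product.2 ⟨hc, hk⟩, e.symm⟩
          · intro h _ h' _ e
            exact Subtype.ext (Units.ext e)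
          · refine Finset.card_image_le.trans ?_
            rw [Finset.card_product]
            exact (Nat.mul_le_mul Finset.card_le_four Finset.card_le_three).trans (by norm_num)
        have hfc : (Finset.univ.filter fun h : R => (h : H4 F) ∈ fixR R t).card = Nat.card (fixR R t) := by
          rw [← Fintype.card_subtype, ← Nat.card_eq_fintype_card]
          exact Nat.card_congr (Equiv.subtypeSubtypeEquivSubtype fun {g} hg => (mem_fixR.1 hg).1)
        have h64 := Finset.card_filter_add_card_filter_not (s := (Finset.univ : Finset R))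
          (fun h : R => (h : H4 F) ∈ fixR R t)
        rw [hfc, Finset.card_univ, ← Nat.card_eq_fintype_card, D.card] at h64
        change _ + A.card = 64 at h64
        omega
      · have hp32 : p % 3 = 2 := by
          have h0 : p % 3 ≠ 0 := fun e => hp
            ((Nat.prime_dvd_prime_iff_eq Nat.prime_three hpr).1 (Nat.dvd_of_mod_eq_zero e)).symm
          omega
        haveI : Fact (Nat.Prime 3) := ⟨Nat.prime_three⟩
        obtain ⟨w, hw⟩ := exists_prime_orderOf_dvd_card' (G := Fˣ) 3 (by
          rw [Nat.card_units, Nat.card_eq_fintype_card, hF, show p ^ 2 - 1 = (p + 1) * (p - 1) from by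
            rw [← Nat.sq_sub_sq, one_pow]]
          exact (Nat.dvd_of_mod_eq_zero (by omega)).mul_right _)
        have hw3 : (w : F) * w * w = 1 := by
          have h := congrArg Units.val (pow_orderOf_eq_one w)
          rw [hw, Units.val_pow_eq_pow_val, Units.val_one] at h
          linear_combination h
        have hw1 : (w : F) ≠ 1 := fun e => by
          rw [show w = 1 from Units.ext e, orderOf_one] at hw
          omega
        have hww : (w : F) * w + w + 1 = 0 := by
          refine (mul_eq_zero.1 (show ((w : F) - 1) * ((w : F) * w + w + 1) = 0 by linear_combination hw3)).resolve_left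
            (sub_ne_zero.2 hw1)
        have hwp : (w : F) ^ p = w * w := by
          rw [← Nat.div_add_mod p 3, hp32, pow_add, pow_mul, show (w : F) ^ 3 = 1 by linear_combination hw3, one_pow,
            one_mul, pow_two]
        obtain ⟨u, hu1, hu2⟩ : ∃ u : H4 F, (u : Q4 F) = Matrix.diagonal ![(w : F), w, w, 1] ∧
            ((u⁻¹ : H4 F) : Q4 F) = Matrix.diagonal ![(w : F) * w, (w : F) * w, (w : F) * w, 1] := by
          refine ⟨mkUnit (Matrix.diagonal ![(w : F), w, w, 1])
            (Matrix.diagonal ![(w : F) * w, (w : F) * w, (w : F) * w, 1]) ?_, rfl, rfl⟩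
          rw [Matrix.diagonal_mul_diagonal, ← Matrix.diagonal_one]
          congr 1
          funext k
          fin_cases k <;> simp [← mul_assoc, hw3]
        obtain ⟨g, hN, hpow, hns⟩ := test u ⟨(mem_GU hF).2 (by
            rw [hu1, ad_diagonal, Matrix.diagonal_mul_diagonal, ← Matrix.diagonal_one]
            congr 1
            funext k
            fin_cases k <;> simp [hwp, hw3]), S6000.mem_SL.2 (by
            rw [hu1, Matrix.det_diagonal, Fin.prod_univ_four]
            simpa using hw3)⟩
          (Units.ext (by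
            rw [Units.val_pow_eq_pow_val, hu1, Matrix.diagonal_pow, Units.val_one, ← Matrix.diagonal_one]
            congr 1
            funext k
            fin_cases k <;> simp [pow_succ, hw3]))
          fun z hz => by
            rw [hu1] at hz
            have e1 := congrFun (congrFun hz 0) 0
            have e2 := congrFun (congrFun hz 3) 3
            simp at e1 e2
            exact hw1 (e1.trans e2.symm)
        obtain ⟨k, hk2, hk5, htr, -⟩ := hcard u g hN hpow hns
        rw [hu1, hu2, Matrix.trace_diagonal, Matrix.trace_diagonal, Fin.sum_univ_four, Fin.sum_univ_four] at htr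
        have h28 : ((2 ^ k : ℕ) : F) = ((28 : ℕ) : F) := by
          rw [htr]
          push_cast
          linear_combination (4 * 3) * hww + (4 * 9) * hw3
        have hd := Nat.modEq_iff_dvd.1 ((CharP.natCast_eq_natCast F p).1 h28)
        have hsmall : ∀ m, m ∈ ({24, 20, 12, 4} : Finset ℕ) → ∀ p, p ≤ m → p % 4 = 3 → p % 3 = 2 → p ∣ m → p = 1 := by
          decide
        have h24 : ∀ m, m ∈ ({24, 20, 12, 4} : Finset ℕ) → p ∣ m → False := fun m hm h => by
          have hm0 : 0 < m := by fin_cases hm <;> norm_num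
          exact hpr.ne_one (hsmall m hm p (Nat.le_of_dvd hm0 h) hp4 hp32 h)
        interval_cases k <;> norm_num at hd
        · exact h24 24 (by decide) (Int.natCast_dvd_natCast.1 (by simpa using hd))
        · exact h24 20 (by decide) (Int.natCast_dvd_natCast.1 (by simpa using hd))
        · exact h24 12 (by decide) (Int.natCast_dvd_natCast.1 (by simpa using hd))
        · exact h24 4 (by decide) (Int.natCast_dvd_natCast.1 (by simpa using hd))
    rcases eq_or_ne r 5 with rfl | hr5'
    · obtain ⟨b0, hb0⟩ := S6002.exists_a (F := ZMod p) (p := p) (by omega) (hr5 rfl)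
      obtain ⟨b, hb, hbp⟩ : ∃ b : F, b * b + b = 1 ∧ b ^ p = b :=
        ⟨ZMod.castHom (dvd_refl p) F b0, by rw [← map_mul, ← map_add, hb0, map_one],
          by rw [← map_pow, ZMod.pow_card]⟩
      set α := b * (2 : F)⁻¹ with hα
      have hαp : α ^ p = α := by rw [hα, mul_pow, hbp, half_pow hF]
      obtain ⟨β, hβ⟩ := Forms.Max.Unitary.exists_norm hF (d := 1 - α * α) (by
        rw [← HermStd.qHom_apply hF, map_sub, map_one, map_mul, HermStd.qHom_apply, hαp])
      obtain ⟨u, hu, hu'⟩ : ∃ u : H4 F, (u : Q4 F) = !![α, -(β ^ p), 0, 0; β, α, 0, 0; 0, 0, 1, 0; 0, 0, 0, 1] ∧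
          ((u⁻¹ : H4 F) : Q4 F) = !![α, β ^ p, 0, 0; -β, α, 0, 0; 0, 0, 1, 0; 0, 0, 0, 1] := by
        refine ⟨mkUnit _ _ ?_, rfl, rfl⟩
        ext k l
        fin_cases k <;> fin_cases l <;> simp [Matrix.mul_apply, Fin.sum_univ_four] <;>
          first | ring1 | linear_combination hβ
      have hb2 : b = 2 * α := by rw [hα]; field_simp
      obtain ⟨g, hN, hpow, hns⟩ := test u ⟨(mem_GU hF).2 (by
          have had : ad hF (u : Q4 F) = ((u⁻¹ : H4 F) : Q4 F) := by
            rw [hu, hu']
            ext k l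
            rw [ad_apply]
            fin_cases k <;> fin_cases l <;> simp [hαp, hpp, hodd.neg_pow, zero_pow hpr.ne_zero]
          rw [had, ← Units.val_mul, inv_mul_cancel, Units.val_one]), S6000.mem_SL.2 (by
          rw [hu]
          simp [Matrix.det_succ_row_zero, Fin.sum_univ_succ, Fin.succAbove]
          linear_combination hβ)⟩
        (Units.ext (by
          rw [Units.val_pow_eq_pow_val, Units.val_one]
          refine five_of_rel hb ?_
          rw [hu]
          ext k l
          fin_cases k <;> fin_cases l <;> simp [Matrix.mul_apply, Fin.sum_univ_four, hb2] <;> grind))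
        fun z hz => by
          rw [hu] at hz
          have e1 := congrFun (congrFun hz 1) 0
          simp at e1
          rw [e1, mul_zero, eq_comm, sub_eq_zero] at hβ
          have hbb : b * b = 4 := by rw [hb2]; linear_combination -4 * hβ
          have h5 : ((5 : ℕ) : F) = 0 := by
            push_cast
            linear_combination hbb - (b - 3) * (hb - hbb)
          exact hpne ((Nat.prime_dvd_prime_iff_eq hpr Nat.prime_five).1 ((CharP.cast_eq_zero_iff F p 5).1 h5))
      obtain ⟨k, hk2, hk5, htr, hmod⟩ := hcard u g hN hpow hns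
      have hk : k = 2 := by
        interval_cases k <;> first | rfl | exact absurd hmod (by decide)
      subst hk
      have t1 : Matrix.trace (u : Q4 F) = b + 2 := by
        rw [hu]; simp [Matrix.trace, Fin.sum_univ_four, hb2]; ring
      have t2 : Matrix.trace ((u⁻¹ : H4 F) : Q4 F) = b + 2 := by
        rw [hu']; simp [Matrix.trace, Fin.sum_univ_four, hb2]; ring
      rw [t1, t2] at htr
      push_cast at htr
      have h34 : (3 : F) * b + 4 = 0 :=
        mul_left_cancel₀ (quarter h2) (by linear_combination -htr - 4 * hb)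
      have h5 : ((5 : ℕ) : F) = 0 := by
        push_cast
        linear_combination (3 * b - 1) * h34 - 9 * hb
      exact hpne ((Nat.prime_dvd_prime_iff_eq hpr Nat.prime_five).1 ((CharP.cast_eq_zero_iff F p 5).1 h5))
    · have hdvd : r ∣ Nat.card ((Cfsg.GU 4 F p ⊓ Cfsg.Geo.specialLinear (Fin 4) F : Subgroup (H4 F))) := hΩ.trans (Subgroup.relIndex_dvd_card _ _)
      obtain ⟨x, hx⟩ := exists_prime_orderOf_dvd_card' r hdvd
      have hxr : (x : H4 F) ^ r = 1 := by
        rw [← Subgroup.coe_pow, ← hx, pow_orderOf_eq_one]; rfl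
      obtain ⟨g, hN, hpow, hns⟩ := test (x : H4 F) x.2 hxr fun z hz => by
        have hd := S6000.mem_SL.1 x.2.2
        rw [hz, Matrix.det_smul, Matrix.det_one, mul_one, Fintype.card_fin] at hd
        have hzr : z ^ r = 1 := by
          have h := congrArg (fun y : H4 F => (y : Q4 F)) hxr
          simp only [Units.val_pow_eq_pow_val, hz, smul_pow, one_pow, Units.val_one] at h
          exact smul_one_inj (h.trans (one_smul F (1 : Q4 F)).symm)
        have hg : Nat.gcd r 4 = 1 := ((Fact.out : r.Prime).coprime_iff_not_dvd.2 fun h => by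
          have hle := Nat.le_of_dvd (by norm_num) h
          have := (Fact.out : r.Prime).two_le
          obtain ⟨j, hj⟩ := hro
          omega)
        have hz1 : z = 1 := by
          have := pow_gcd_eq_one.2 ⟨hzr, hd⟩
          rwa [hg, pow_one] at this
        rw [hz1, one_smul] at hz
        rw [show x = 1 from Subtype.ext (Units.ext hz), orderOf_one] at hx
        exact (Fact.out : r.Prime).ne_one hx.symm
      have := D.le_five hN hro hpow hns
      have := (Fact.out : r.Prime).two_le
      obtain ⟨j, hj⟩ := hro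
      omega
  · intro hcases x hx hzz hns
    obtain ⟨z, hz⟩ := hzz
    obtain ⟨hxU, hxS⟩ := hx
    have hdx := S6000.mem_SL.1 hxS
    have hz4 : z ^ 4 = 1 := by
      have h := congrArg Matrix.det hz
      rwa [Units.val_pow_eq_pow_val, Matrix.det_pow, hdx, one_pow, Matrix.det_smul, Matrix.det_one, mul_one,
        Fintype.card_fin, eq_comm] at h
    have hz0 : z ≠ 0 := fun e => by rw [e, zero_pow (by norm_num)] at hz4; exact zero_ne_one hz4
    have hzn : z ^ (p + 1) = 1 := by
      obtain ⟨m, hm⟩ : 4 ∣ p + 1 := by omega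
      rw [hm, pow_mul, hz4, one_pow]
    have hconj : ∀ {c : F} {y : H4 F} {v : Q4 F}, y ∈ Cfsg.Geo.subgroupNormalizer R → (x : Q4 F) = c • v →
        (∃ g ∈ Cfsg.GU 4 F p ⊓ Cfsg.Geo.specialLinear (Fin 4) F, v * (g : Q4 F) = (g : Q4 F) * (y : Q4 F)) →
        ∃ g ∈ Cfsg.GU 4 F p ⊓ Cfsg.Geo.specialLinear (Fin 4) F, g⁻¹ * x * g ∈ Cfsg.Geo.subgroupNormalizer R := by
      intro c y v hy hxv hg
      obtain ⟨g, hgG, hg⟩ := hg
      refine ⟨g, hgG, S6000.scalar_mem hy (c := c) ?_⟩
      rw [Units.val_mul, Units.val_mul, hxv, Matrix.mul_smul, Matrix.smul_mul, mul_assoc, hg, ← mul_assoc,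
        ← Units.val_mul g⁻¹ g, inv_mul_cancel, Units.val_one, one_mul]
    rcases hcases with rfl | ⟨rfl, hp31⟩ | ⟨rfl, h5⟩
    · rw [Units.val_pow_eq_pow_val, pow_two] at hz
      obtain ⟨s, hs⟩ : IsSquare z := by
        refine (FiniteField.isSquare_iff (fun e => ?_) hz0).2 ?_
        · rw [ringChar.eq F p] at e
          omega
        · rw [hF]
          obtain ⟨k, hk⟩ : ∃ k, p = 4 * k + 3 := ⟨p / 4, by omega⟩
          rw [show p ^ 2 / 2 = 4 * (2 * k ^ 2 + 3 * k + 1) by
            rw [hk, show (4 * k + 3) ^ 2 = 2 * (4 * (2 * k ^ 2 + 3 * k + 1)) + 1 by ring]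
            omega, pow_mul, hz4, one_pow]
      have hs0 : s ≠ 0 := fun e => by rw [e, zero_mul] at hs; exact hz0 hs
      set u : Q4 F := s⁻¹ • (x : Q4 F) with hu
      have huu : u * u = 1 := by
        rw [hu, Matrix.smul_mul, Matrix.mul_smul, smul_smul, hz, smul_smul, hs]
        rw [show s⁻¹ * s⁻¹ * (s * s) = 1 by field_simp, one_smul]
      have hxu : (x : Q4 F) = s • u := by rw [hu, smul_inv_smul₀ hs0]
      set n := s ^ (p + 1) with hn
      have hnn : n * n = 1 := by rw [hn, ← mul_pow, ← hs, hzn]
      have hadu : ad hF u = n • u := by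
        have hxi : ((x⁻¹ : H4 F) : Q4 F) = z⁻¹ • (x : Q4 F) := by
          calc ((x⁻¹ : H4 F) : Q4 F) = z⁻¹ • (((x⁻¹ : H4 F) : Q4 F) * ((x : Q4 F) * (x : Q4 F))) := by
                rw [hz, Matrix.mul_smul, mul_one, inv_smul_smul₀ hz0]
            _ = _ := by rw [← mul_assoc, ← Units.val_mul x⁻¹ x, inv_mul_cancel, Units.val_one, one_mul]
        rw [hu, ad_smul, ad_of_mem hF hxU, hxi, smul_smul, smul_smul]
        congr 1
        have hp0 : s ^ p ≠ 0 := pow_ne_zero _ hs0
        have hnv : n = (s ^ p * s)⁻¹ := by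
          rw [← pow_succ, ← hn]
          exact eq_inv_of_mul_eq_one_left hnn
        rw [hnv, hs, inv_pow]
        field_simp
      obtain ⟨m, hm, g, hg⟩ := exists_diag h2 huu
      have htru := S6000.trace_of_eq hg
      have hdet := S6000.det_of_eq hg
      rw [Matrix.det_diagonal, Fin.prod_univ_four, hu, Matrix.det_smul, hdx, mul_one, Fintype.card_fin] at hdet
      rw [Matrix.trace_diagonal, Fin.sum_univ_four] at htru
      have hm0 : m ≠ 0 := fun e => by
        subst e
        refine hns (-s) ?_
        have h1 : u * (g : Q4 F) = (g : Q4 F) * (-1 : Q4 F) := by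
          rw [hg, show Matrix.diagonal (fun k : Fin 4 => if (k : ℕ) < 0 then (1 : F) else -1) = -1 by
            rw [← Matrix.diagonal_one, Matrix.diagonal_neg]; congr 1]
        rw [mul_neg, mul_one, ← neg_one_mul] at h1
        rw [hxu, g.isUnit.mul_right_cancel h1, smul_neg, neg_smul]
      have hm4 : m ≠ 4 := fun e => by
        subst e
        refine hns s ?_
        have h1 : u * (g : Q4 F) = (g : Q4 F) * (1 : Q4 F) := by
          rw [hg, show Matrix.diagonal (fun k : Fin 4 => if (k : ℕ) < 4 then (1 : F) else -1) = 1 by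
            rw [← Matrix.diagonal_one]; congr 1; funext k; rw [if_pos k.2]]
        rw [mul_one] at h1
        rw [hxu, g.isUnit.mul_right_cancel (h1.trans (one_mul _).symm)]
      have h2p : (2 : F) ^ p = 2 := by rw [show (2 : F) = ((2 : ℕ) : F) by norm_num, natCast_pow hF]
      have hn1 : n = 1 := by
        have hT := ad_trace hF u
        rw [hadu, Matrix.trace_smul, smul_eq_mul] at hT
        have hmcases : m = 1 ∨ m = 2 ∨ m = 3 := by omega
        rcases hmcases with rfl | rfl | rfl <;> simp at hdet htru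
        · rw [show (-1 : F) + -1 = -2 by ring] at htru
          rw [htru, hodd.neg_pow, h2p] at hT
          exact mul_right_cancel₀ (neg_ne_zero.2 h2) (hT.trans (one_mul _).symm)
        · obtain ⟨j, hj⟩ : 4 ∣ p + 1 := by omega
          have hz2 : s ^ 4 = 1 := hdet
          rw [hn, hj, pow_mul, hz2, one_pow]
        · rw [show (1 : F) + 1 = 2 by ring] at htru
          rw [htru, h2p] at hT
          exact mul_right_cancel₀ h2 (hT.trans (one_mul _).symm)
      rw [hn1, one_smul] at hadu
      set U : H4 F := mkUnit u u huu with hU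
      have hUG : U ∈ Cfsg.GU 4 F p := (mem_GU hF).2 (by
        show ad hF u * u = 1
        rw [hadu, huu])
      have hUn : (-U) ∈ Cfsg.GU 4 F p := (mem_GU hF).2 (by
        show ad hF (-u) * (-u) = 1
        rw [ad_neg, neg_mul_neg, hadu, huu])
      -- targets commute with the projection
      set P : Q4 F := (4 : F)⁻¹ • ((1 + a 0) * (1 + a 2)) with hP
      have e00 : (1 + a 0) * (1 + a 0) = (2 : F) • (1 + a 0) := by
        rw [mul_add, add_mul, add_mul, one_mul, one_mul, mul_one, hG.sq, two_smul]; abel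
      have e22 : (1 + a 2) * (1 + a 2) = (2 : F) • (1 + a 2) := by
        rw [mul_add, add_mul, add_mul, one_mul, one_mul, mul_one, hG.sq, two_smul]; abel
      have e02 : (1 + a 2) * (1 + a 0) = (1 + a 0) * (1 + a 2) := by
        simp only [mul_add, add_mul, one_mul, mul_one, hG.com.1]; abel
      have hPP : P * P = P := by
        rw [hP, Matrix.smul_mul, Matrix.mul_smul, smul_smul,
          show (1 + a 0) * (1 + a 2) * ((1 + a 0) * (1 + a 2)) = (1 + a 0) * ((1 + a 2) * (1 + a 0)) * (1 + a 2) by
            simp only [mul_assoc], e02, ← mul_assoc, e00, mul_assoc, e22, Matrix.smul_mul, Matrix.mul_smul, smul_smul,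
          smul_smul]
        congr 1
        field_simp
        ring
      have hta : ∀ j : Fin 4, (j = 0 ∨ j = 2) → Matrix.trace (a j) = 0 := by
        rintro j (rfl | rfl)
        · exact hG.trace_one_two D hG.anti.1
        · exact trace_anti h2 (hG.mem 3).isUnit hG.anti.2
      have htrP : Matrix.trace P = 1 := by
        rw [hP, Matrix.trace_smul, mul_add, add_mul, add_mul, one_mul, one_mul, mul_one, Matrix.trace_add,
          Matrix.trace_add, Matrix.trace_add, Matrix.trace_one, hta 0 (Or.inl rfl), hta 2 (Or.inr rfl),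
          hG.trace_one_two D (X := a 0 * a 2) (by
            rw [mul_assoc, ← hG.com.2.2.1, ← mul_assoc, hG.anti.1, neg_mul, mul_assoc]), Fintype.card_fin, smul_eq_mul]
        field_simp
        norm_num
      have hP1 : P ≠ 1 := fun e => by
        have h : a 0 * P = P := by
          rw [hP, Matrix.mul_smul, ← mul_assoc, show a 0 * (1 + a 0) = 1 + a 0 by rw [mul_add, mul_one, hG.sq, add_comm]]
        rw [e, mul_one] at h
        have := hta 0 (Or.inl rfl)
        rw [h, Matrix.trace_one, Fintype.card_fin] at this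
        exact h4F (by exact_mod_cast this)
      have hadP : ad hF P = P := by
        rw [hP, ad_smul, ad_mul, ad_add, ad_add, ad_one, (hG.mem 0).ad_self hF hRU (hG.sq 0),
          (hG.mem 2).ad_self hF hRU (hG.sq 2), e02, inv_pow, show (4 : F) = ((4 : ℕ) : F) by norm_num, natCast_pow hF]
      have hPc : ∀ h : Q4 F, a 0 * h = h * a 0 → a 2 * h = h * a 2 → P * h = h * P := fun h h0 h2' => by
        simp only [hP, Matrix.smul_mul, Matrix.mul_smul, mul_add, add_mul, one_mul, mul_one]
        rw [mul_assoc, h2', ← mul_assoc, h0, mul_assoc]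
      clear_value P
      have key : ∀ (v y : H4 F), v ∈ Cfsg.GU 4 F p → y ∈ Cfsg.GU 4 F p → (v : Q4 F) * (v : Q4 F) = 1 →
          (y : Q4 F) * (y : Q4 F) = 1 → (∀ c : F, (v : Q4 F) ≠ c • 1) → (∀ c : F, (y : Q4 F) ≠ c • 1) →
          Matrix.trace (v : Q4 F) = Matrix.trace (y : Q4 F) → P * (y : Q4 F) = (y : Q4 F) * P →
          ∃ g ∈ Cfsg.GU 4 F p ⊓ Cfsg.Geo.specialLinear (Fin 4) F, (v : Q4 F) * (g : Q4 F) = (g : Q4 F) * (y : Q4 F) := by
        intro v y hvG hyG hv hy hvs hys htr hPy
        refine conj_SU hF hvG hyG ?_ fun δ hδ => ⟨1 + (δ - 1) • P, ?_, ?_, ?_⟩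
        · have hbound : ∀ {v : H4 F} {m : ℕ} {g : H4 F}, (∀ c : F, (v : Q4 F) ≠ c • 1) → m ≤ 4 →
              (v : Q4 F) * (g : Q4 F) = (g : Q4 F) * Matrix.diagonal (fun k : Fin 4 => if (k : ℕ) < m then (1 : F) else -1) →
              m = 1 ∨ m = 2 ∨ m = 3 := by
            intro v m g hvs hm hg
            by_contra hcon
            push Not at hcon
            have hd : ∃ c : F, Matrix.diagonal (fun k : Fin 4 => if (k : ℕ) < m then (1 : F) else -1) = c • 1 := by
              rcases (show m = 0 ∨ m = 4 by omega) with rfl | rfl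
              · exact ⟨-1, by rw [← Matrix.diagonal_one, ← Matrix.diagonal_smul]; congr 1; funext k; simp⟩
              · exact ⟨1, by rw [← Matrix.diagonal_one, ← Matrix.diagonal_smul]; congr 1; funext k; simp [k.2]⟩
            obtain ⟨c, hc⟩ := hd
            refine hvs c (g.isUnit.mul_right_cancel ?_)
            rw [hg, hc, Matrix.mul_smul, mul_one, Matrix.smul_mul, one_mul]
          obtain ⟨m, hm, g, hg⟩ := exists_diag h2 hv
          obtain ⟨m', hm', g', hg'⟩ := exists_diag h2 hy
          have hmm : m = m' := by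
            rw [S6000.trace_of_eq hg, S6000.trace_of_eq hg', Matrix.trace_diagonal, Matrix.trace_diagonal] at htr
            rcases hbound hvs hm hg with rfl | rfl | rfl <;> rcases hbound hys hm' hg' with rfl | rfl | rfl <;> first
              | rfl
              | exfalso
                simp [Fin.sum_univ_four] at htr
                first
                  | exact h2 (by linear_combination htr) | exact h2 (by linear_combination -htr)
                  | exact h4F (by linear_combination htr) | exact h4F (by linear_combination -htr)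
          subst hmm
          refine ⟨g * g'⁻¹, ?_⟩
          have h' : ((g'⁻¹ : H4 F) : Q4 F) * (y : Q4 F) =
              Matrix.diagonal (fun k : Fin 4 => if (k : ℕ) < m then (1 : F) else -1) * ((g'⁻¹ : H4 F) : Q4 F) := by
            have h := congrArg (fun Z => ((g'⁻¹ : H4 F) : Q4 F) * Z * ((g'⁻¹ : H4 F) : Q4 F)) hg'
            simp only [mul_assoc] at h
            rw [← Units.val_mul g' g'⁻¹, mul_inv_cancel, Units.val_one, mul_one] at h
            rw [← mul_assoc (((g'⁻¹ : H4 F) : Q4 F)) (g' : Q4 F), ← Units.val_mul g'⁻¹ g', inv_mul_cancel, Units.val_one,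
              one_mul] at h
            exact h
          rw [Units.val_mul, ← mul_assoc, hg, mul_assoc, mul_assoc, h']
        · rw [ad_add, ad_one, ad_smul, hadP, show (δ - 1) ^ p = δ ^ p - 1 by
            rw [← HermStd.qHom_apply hF, map_sub, map_one, HermStd.qHom_apply]]
          simp only [mul_add, add_mul, one_mul, mul_one, Matrix.smul_mul, Matrix.mul_smul, smul_smul, hPP]
          match_scalars
          · ring
          · linear_combination hδ
        · rw [add_mul, mul_add, one_mul, mul_one, Matrix.smul_mul, Matrix.mul_smul, hPy]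
        · rw [det_one_add h2 hPP htrP hP1]
          ring
      obtain ⟨y₀, hy₀R, hy₀⟩ := hG.mem 0
      obtain ⟨w, hwN, hwe, hww, hwt⟩ := hG.exists_W D
      have hy₀s : ∀ c : F, (y₀ : Q4 F) ≠ c • 1 := fun c e => by
        have h := hG.anti.1
        rw [← hy₀, e, Matrix.smul_mul, Matrix.mul_smul, one_mul, mul_one] at h
        have hc : c ≠ 0 := fun e0 => by rw [e0, zero_smul] at e; exact Units.ne_zero _ e
        have h' : (2 * c) • a 1 = 0 := by rw [two_mul, add_smul]; nth_rw 1 [h]; exact neg_add_cancel _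
        exact Units.ne_zero _ ((hG.mem 1).choose_spec.2.trans
          ((smul_eq_zero.1 h').resolve_left (mul_ne_zero h2 hc)))
      have hws : ∀ c : F, (w : Q4 F) ≠ c • 1 := fun c e => by
        have h := Wop_step (hG.sq 2) hG.com.1 hG.anti.1 hG.com.2.2.1.symm
        rw [← hwe, e, Matrix.smul_mul, one_mul, Matrix.mul_smul, mul_one] at h
        have hc : c ≠ 0 := fun e0 => by rw [e0, zero_smul] at e; exact Units.ne_zero _ e
        have h1 : a 2 = 1 := by
          have := congrArg (fun Z => a 1 * Z) (smul_right_injective (Q4 F) hc h)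
          simp only [← mul_assoc, hG.sq, one_mul] at this
          exact this.symm
        have := hta 2 (Or.inr rfl)
        rw [h1, Matrix.trace_one, Fintype.card_fin] at this
        exact h4F (by exact_mod_cast this)
      have hy₀2 : (y₀ : Q4 F) * (y₀ : Q4 F) = 1 := by rw [hy₀]; exact hG.sq 0
      have hwc : P * (w : Q4 F) = (w : Q4 F) * P := by
        rw [hwe]
        exact (Wop_comm (hPc _ rfl hG.com.1.symm).symm (hPc _ hG.com.1 rfl).symm).symm
      have hy₀c : P * (y₀ : Q4 F) = (y₀ : Q4 F) * P := by rw [hy₀]; exact hPc _ rfl hG.com.1.symm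
      have hus : ∀ c : F, u ≠ c • 1 := fun c e => hns (s * c) (by rw [hxu, e, smul_smul])
      have hwG := Wop_GU hF D hG hRU hwe
      rcases (show m = 1 ∨ m = 2 ∨ m = 3 by omega) with rfl | rfl | rfl <;> simp at htru
      · refine hconj hwN (c := -s) (v := -u) (by rw [neg_smul, smul_neg, neg_neg]; exact hxu)
          (key (-U) w hUn hwG (by show -u * -u = 1; rw [neg_mul_neg, huu]) hww (fun c e => hus (-c) ?_) hws ?_ hwc)
        · change -u = c • 1 at e
          rw [neg_smul, ← e, neg_neg]
        · show Matrix.trace (-u) = _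
          rw [Matrix.trace_neg, htru, hwt]
          norm_num
      · exact hconj (Subgroup.le_normalizer hy₀R) hxu (key U y₀ hUG (hRU hy₀R) huu hy₀2 hus hy₀s (by
          show Matrix.trace u = _
          rw [htru, hy₀, hta 0 (Or.inl rfl)]) hy₀c)
      · refine hconj hwN hxu (key U w hUG hwG huu hww hus hws ?_ hwc)
        show Matrix.trace u = _
        rw [htru, hwt]
        norm_num
    · haveI : Fact (Nat.Prime 3) := ⟨Nat.prime_three⟩
      have hp5le : 5 ≤ p := by omega
      have h3F : (3 : F) ≠ 0 := fun h => absurd (hcast 3 0 (by omega) (by omega) (by exact_mod_cast h)) (by norm_num)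
      obtain ⟨w₀, hw₀⟩ := exists_prime_orderOf_dvd_card' (G := (ZMod p)ˣ) 3 (by
        rw [Nat.card_units, Nat.card_zmod]
        omega)
      set w : F := ZMod.castHom (dvd_refl p) F (w₀ : ZMod p) with hwdef
      have hwp : w ^ p = w := by rw [hwdef, ← map_pow, ZMod.pow_card]
      have hw : w * w + w + 1 = 0 := by
        have h := congrArg Units.val (pow_orderOf_eq_one w₀)
        rw [hw₀, Units.val_pow_eq_pow_val, Units.val_one] at h
        have h' : (w₀ : ZMod p) * w₀ + w₀ + 1 = 0 := by
          refine (mul_eq_zero.1 (show ((w₀ : ZMod p) - 1) * ((w₀ : ZMod p) * w₀ + w₀ + 1) = 0 by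
            linear_combination h)).resolve_left (sub_ne_zero.2 fun e => ?_)
          rw [show w₀ = 1 from Units.ext e, orderOf_one] at hw₀
          omega
        rw [hwdef, ← map_mul, ← map_add, ← map_one (ZMod.castHom (dvd_refl p) F), ← map_add, h', map_zero]
      have h3p : ((3 : F)⁻¹) ^ p = (3 : F)⁻¹ := by
        rw [inv_pow, show (3 : F) = ((3 : ℕ) : F) by norm_num, natCast_pow hF]
      set t : H4 F := mkUnit (z • (x : Q4 F)) (z⁻¹ • ((x⁻¹ : H4 F) : Q4 F)) (by
        rw [Matrix.smul_mul, Matrix.mul_smul, ← Units.val_mul, mul_inv_cancel, Units.val_one, smul_smul,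
          mul_inv_cancel₀ hz0, one_smul]) with ht
      have hxt : (x : Q4 F) = z⁻¹ • (t : Q4 F) := (inv_smul_smul₀ hz0 _).symm
      have ht3 : t ^ 3 = 1 := Units.ext (by
        rw [Units.val_pow_eq_pow_val]
        show (z • (x : Q4 F)) ^ 3 = 1
        rw [smul_pow, ← Units.val_pow_eq_pow_val, hz, smul_smul, ← pow_succ, hz4, one_smul])
      have ht1 : t ≠ 1 := fun e => hns z⁻¹ (by rw [hxt, e]; rfl)
      have htG : t ∈ Cfsg.GU 4 F p := (mem_GU hF).2 (by
        show ad hF (z • (x : Q4 F)) * (z • (x : Q4 F)) = 1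
        rw [ad_smul, Matrix.smul_mul, Matrix.mul_smul, (mem_GU hF).1 hxU, smul_smul, ← pow_succ, hzn, one_smul])
      have hti : Matrix.trace ((t⁻¹ : H4 F) : Q4 F) = Matrix.trace (t : Q4 F) ^ p := by
        rw [← ad_of_mem hF htG, ad_trace]
      have cube : ∀ {y : H4 F}, y ^ 3 = 1 → (y : Q4 F) * ((y : Q4 F) * (y : Q4 F)) = 1 ∧
          ((y⁻¹ : H4 F) : Q4 F) = (y : Q4 F) * (y : Q4 F) := fun {y} hy => by
        rw [pow_three] at hy
        refine ⟨by rw [← Units.val_mul, ← Units.val_mul, hy]; rfl, ?_⟩
        rw [← Units.val_mul, inv_eq_of_mul_eq_one_right hy]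
      obtain ⟨A, hA, B, hB, ⟨hAe, hBe⟩, hA3, hAB3, hAt, hABt⟩ := hG.exists_threes D
      have hG' : Gens R ![a 2, a 3, a 0, a 1] :=
        ⟨fun j => by fin_cases j <;> exact hG.mem _, fun j => by fin_cases j <;> exact hG.sq _,
          ⟨hG.anti.2, hG.anti.1⟩, hG.com.1.symm, hG.com.2.2.1.symm, hG.com.2.1.symm, hG.com.2.2.2.symm⟩
      obtain ⟨A', -, B', -, ⟨hA'e, -⟩, hA'3, -, hA't, -⟩ := hG'.exists_threes D
      have hA'B : A' = B := Units.ext (hA'e.trans hBe.symm)
      subst hA'B
      have hAG : A ∈ Cfsg.GU 4 F p := Aop_GU hF D hG hRU hG.anti.1 hAe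
      have hBG : A' ∈ Cfsg.GU 4 F p := Aop_GU hF D hG hRU hG.anti.2 hBe
      have hsq : ∀ {j k : Fin 4} {A : H4 F}, a j * a k = -(a k * a j) → (A : Q4 F) = Aop (a j * a k) (i • a j) →
          (A : Q4 F) * (A : Q4 F) = -1 - (A : Q4 F) := by
        intro j k A hjk hA
        have hQ := quat_of_pair (i := i) D.isq (hG.sq j) (hG.sq k) hjk
        rw [hA, hQ.sq_eq h2]
        simp only [Aop, Aop']
        match_scalars <;> field_simp <;> ring
      have hA2 := hsq hG.anti.1 hAe
      have hB2 := hsq hG.anti.2 hBe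
      have hAB : (A : Q4 F) * (A' : Q4 F) = (A' : Q4 F) * (A : Q4 F) := by
        rw [hAe, hBe]
        have hc : ∀ h, a 2 * h = h * a 2 → a 3 * h = h * a 3 →
            Aop (a 2 * a 3) (i • a 2) * h = h * Aop (a 2 * a 3) (i • a 2) := fun h p2 p3 =>
          Aop_comm (by rw [mul_assoc, p3, ← mul_assoc, p2, mul_assoc]) (by rw [Matrix.smul_mul, p2, Matrix.mul_smul])
        obtain ⟨h02, h03, h12, h13⟩ := hG.com
        refine Aop_comm ?_ ?_
        · rw [mul_assoc, ← hc _ h12.symm h13.symm, ← mul_assoc, ← hc _ h02.symm h03.symm, mul_assoc]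
        · rw [Matrix.smul_mul, ← hc _ h02.symm h03.symm, Matrix.mul_smul]
      obtain ⟨hAc, hAi⟩ := cube hA3
      obtain ⟨hBc, hBi⟩ := cube hA'3
      have hadA : ad hF (A : Q4 F) = (A : Q4 F) * (A : Q4 F) := by rw [ad_of_mem hF hAG, hAi]
      have hadB : ad hF (A' : Q4 F) = (A' : Q4 F) * (A' : Q4 F) := by rw [ad_of_mem hF hBG, hBi]
      have hw3 : w * w * w = 1 := by linear_combination (w - 1) * hw
      set EA := Eop w (A : Q4 F) with hEA
      set EB := Eop w (A' : Q4 F) with hEB
      set P := EA * EB with hP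
      set P' := Eop (w * w) (A : Q4 F) * Eop (w * w) (A' : Q4 F) with hP'
      have hEc : ∀ l l' : F, Eop l (A : Q4 F) * Eop l' (A' : Q4 F) = Eop l' (A' : Q4 F) * Eop l (A : Q4 F) := fun l l' =>
        Eop_comm (Eop_comm hAB.symm).symm
      have hPP : P * P = P := by
        rw [hP, show EA * EB * (EA * EB) = EA * (EB * EA) * EB by simp only [mul_assoc], hEA, hEB, ← hEc w w]
        simp only [← mul_assoc]
        rw [(Eop_mul h3F hw hAc).1, mul_assoc, (Eop_mul h3F hw hBc).1]
      have hPP' : P * P' = 0 := by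
        rw [hP, hP', show EA * EB * (Eop (w * w) (A : Q4 F) * Eop (w * w) (A' : Q4 F)) =
          EA * (EB * Eop (w * w) (A : Q4 F)) * Eop (w * w) (A' : Q4 F) by simp only [mul_assoc], hEA, hEB,
          ← hEc (w * w) w]
        simp only [← mul_assoc]
        rw [(Eop_mul h3F hw hAc).2, zero_mul, zero_mul]
      have hadP : ad hF P = P' := by
        rw [hP, hP', ad_mul, ad_Eop hF h3p hwp hw hAc hadA, ad_Eop hF h3p hwp hw hBc hadB, hEc]
      have hadP' : ad hF P' = P := by rw [← hadP, ad_ad]
      have hP'P' : P' * P' = P' := by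
        have := congrArg (ad hF) hPP
        rwa [ad_mul, hadP] at this
      have hP'P : P' * P = 0 := by
        have := congrArg (ad hF) hPP'
        rw [ad_mul, hadP, hadP', ad_zero] at this
        rw [hP', hP]
        rw [show Eop (w * w) (A : Q4 F) * Eop (w * w) (A' : Q4 F) * (EA * EB) =
          Eop (w * w) (A : Q4 F) * (Eop (w * w) (A' : Q4 F) * EA) * EB by simp only [mul_assoc], hEA, ← hEc w (w * w)]
        simp only [← mul_assoc]
        have hcA : Eop (w * w) (A : Q4 F) * Eop w (A : Q4 F) = Eop w (A : Q4 F) * Eop (w * w) (A : Q4 F) :=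
          Eop_comm (Eop_comm (Y := (A : Q4 F)) rfl).symm
        rw [hcA, (Eop_mul h3F hw hAc).2, zero_mul, zero_mul]
      have htrP : Matrix.trace P = 1 := by
        rw [hP, hEA, hEB, Eop, Eop, hA2, hB2]
        simp only [Matrix.smul_mul, Matrix.mul_smul, smul_smul, smul_sub, smul_neg, mul_add, add_mul, mul_sub, sub_mul,
          mul_neg, neg_mul, one_mul, mul_one, Matrix.trace_smul, Matrix.trace_add, Matrix.trace_sub, Matrix.trace_neg,
          Matrix.trace_one, ← Units.val_mul, hAt, hA't, hABt, Fintype.card_fin, smul_eq_mul]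
        field_simp
        push_cast
        grind
      have htrP' : Matrix.trace P' = 1 := by rw [← hadP, ad_trace, htrP, one_pow]
      have hP1 : P ≠ 1 := fun e => by
        have h : P' = 0 := by rw [← hPP', e, one_mul]
        rw [h, Matrix.trace_zero] at htrP'
        exact zero_ne_one htrP'
      have hP1' : P' ≠ 1 := fun e => by
        have h : P = 0 := by rw [← hPP', e, mul_one]
        rw [h, Matrix.trace_zero] at htrP
        exact zero_ne_one htrP
      have hPc : ∀ h : Q4 F, (A : Q4 F) * h = h * (A : Q4 F) → (A' : Q4 F) * h = h * (A' : Q4 F) →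
          P * h = h * P ∧ P' * h = h * P' := fun h ha hb => by
        constructor <;>
        · simp only [hP, hP', hEA, hEB]
          rw [mul_assoc, Eop_comm hb, ← mul_assoc, Eop_comm ha, mul_assoc]
      obtain ⟨ta, tb, tc, habc, g, hg⟩ := exists_diag3 h3F hw (cube ht3).1
      have htr : Matrix.trace (t : Q4 F) = Matrix.trace (A : Q4 F) ∨
          Matrix.trace (t : Q4 F) = Matrix.trace ((A * A' : H4 F) : Q4 F) := by
        have T1 := S6000.trace_of_eq hg
        have T2 : Matrix.trace ((t : Q4 F) * (t : Q4 F)) = Matrix.trace (Matrix.diagonal (fun k : Fin 4 =>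
            if (k : ℕ) < ta then (1 : F) else if (k : ℕ) < ta + tb then w else w * w) * Matrix.diagonal (fun k : Fin 4 =>
            if (k : ℕ) < ta then (1 : F) else if (k : ℕ) < ta + tb then w else w * w)) :=
          S6000.trace_of_eq (g := g) (by rw [mul_assoc, hg, ← mul_assoc, hg, mul_assoc])
        rw [← (cube ht3).2, hti] at T2
        rw [T1, Matrix.trace_diagonal, Fin.sum_univ_four] at T2
        rw [Matrix.diagonal_mul_diagonal, Matrix.trace_diagonal, Fin.sum_univ_four] at T2
        rw [T1, hAt, hABt, Matrix.trace_diagonal, Fin.sum_univ_four]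
        have e1 : (1 : F) ≠ w := fun e => h3F (by rw [← e] at hw; linear_combination hw)
        have hne : w - w * w ≠ 0 := fun e => e1 (by linear_combination w * w * e - (1 - w) * hw3)
        obtain rfl : tc = 4 - (ta + tb) := by omega
        have hta : ta ≤ 4 := by omega
        have htb : tb ≤ 4 - ta := by omega
        simp only [← HermStd.qHom_apply hF, map_add] at T2
        interval_cases ta <;> interval_cases tb <;> simp [HermStd.qHom_apply, mul_pow, hwp, show w * w * (w * w) = w by linear_combination w * hw3] at T2 ⊢ <;> first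
          | (left; linear_combination 2 * hw)
          | (right; linear_combination hw)
          | (exfalso; exact hne (by linear_combination T2))
          | (exfalso; exact hne (by linear_combination -T2))
          | (exfalso; exact mul_ne_zero h2 hne (by linear_combination T2))
          | (exfalso; exact mul_ne_zero h2 hne (by linear_combination -T2))
          | (exfalso; exact mul_ne_zero h3F hne (by linear_combination T2))
          | (exfalso; exact mul_ne_zero h3F hne (by linear_combination -T2))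
          | (exfalso; exact mul_ne_zero h4F hne (by linear_combination T2))
          | (exfalso; exact mul_ne_zero h4F hne (by linear_combination -T2))
          | (exfalso
             refine ht1 (Units.ext (g.isUnit.mul_right_cancel ?_))
             rw [hg]
             simp [show (Matrix.diagonal fun k : Fin 4 => if (k : ℕ) < 4 then (1 : F) else _) = 1 from by
               rw [← Matrix.diagonal_one]; congr 1; funext k; rw [if_pos k.2]])
      clear_value P P'
      have key : ∀ y : H4 F, y ∈ Cfsg.GU 4 F p → y ^ 3 = 1 → Matrix.trace (t : Q4 F) = Matrix.trace (y : Q4 F) →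
          P * (y : Q4 F) = (y : Q4 F) * P ∧ P' * (y : Q4 F) = (y : Q4 F) * P' →
          ∃ g ∈ Cfsg.GU 4 F p ⊓ Cfsg.Geo.specialLinear (Fin 4) F, (t : Q4 F) * (g : Q4 F) = (g : Q4 F) * (y : Q4 F) := by
        intro y hyG hy3 he hPy
        refine conj_SU hF htG hyG (conj_three (p := p) hp5le hw ht3 hy3 he (by
          rw [hti, he, ← ad_trace hF, ad_of_mem hF hyG])) fun δ hδ => ?_
        obtain ⟨c, hc0, hc⟩ := exists_hilbert hF hi0 hip hδ
        set d := (c ^ p)⁻¹ with hd
        have hdp : d ^ p = c⁻¹ := by rw [hd, inv_pow, hpp]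
        have hcd : c ^ p * d = 1 := mul_inv_cancel₀ (pow_ne_zero _ hc0)
        refine ⟨(1 + (c - 1) • P) * (1 + (d - 1) • P'), ?_, ?_, ?_⟩
        · rw [ad_mul, ad_add, ad_add, ad_one, ad_smul, ad_smul, hadP, hadP',
            show (c - 1) ^ p = c ^ p - 1 by rw [← HermStd.qHom_apply hF, map_sub, map_one, HermStd.qHom_apply],
            show (d - 1) ^ p = c⁻¹ - 1 by
              rw [← HermStd.qHom_apply hF, map_sub, map_one, HermStd.qHom_apply, hdp]]
          simp only [mul_add, add_mul, one_mul, mul_one, Matrix.smul_mul, Matrix.mul_smul, smul_smul, hPP, hPP', hP'P,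
            hP'P', smul_zero, add_zero, zero_add, mul_assoc, mul_zero]
          have hcc : c⁻¹ * c = 1 := inv_mul_cancel₀ hc0
          match_scalars
          · ring
          all_goals first | linear_combination hcc | linear_combination hcd
        · simp only [mul_add, add_mul, one_mul, mul_one, Matrix.smul_mul, Matrix.mul_smul, hPy.1, hPy.2]
          rw [mul_assoc P P', hPy.2, ← mul_assoc P, hPy.1, mul_assoc]
        · rw [Matrix.det_mul, det_one_add h2 hPP htrP hP1, det_one_add h2 hP'P' htrP' hP1']
          rw [show (1 + (c - 1)) * (1 + (d - 1)) = c * d by ring, hc, mul_assoc, hcd, mul_one]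
      rcases htr with h | h
      · exact hconj hA hxt (key A hAG hA3 h (hPc _ rfl hAB.symm))
      · refine hconj (Subgroup.mul_mem _ hA hB) hxt (key _ ((Cfsg.GU 4 F p).mul_mem hAG hBG) hAB3 h ?_)
        rw [Units.val_mul]
        exact hPc _ (by rw [mul_assoc, hAB]) (by rw [← mul_assoc, ← hAB, mul_assoc])
    · haveI : Fact (Nat.Prime 5) := ⟨Nat.prime_five⟩
      have h5F : (5 : F) ≠ 0 := fun h => hpne ((Nat.prime_dvd_prime_iff_eq hpr Nat.prime_five).1
        ((CharP.cast_eq_zero_iff F p 5).1 (by exact_mod_cast h)))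
      have hp2ne : (p : ZMod 5) ^ 2 ≠ 1 := fun e => by
        have := Nat.le_of_dvd (by norm_num) (orderOf_dvd_of_pow_eq_one e)
        omega
      have hp2 : (p : ZMod 5) ^ 2 = -1 := by
        have h4 : (p : ZMod 5) ^ 4 = 1 := by rw [← h5, pow_orderOf_eq_one]
        exact (mul_self_eq_one_iff.1 (by linear_combination h4)).resolve_left hp2ne
      have hcop : Nat.Coprime (Nat.card Fˣ) 5 := by
        rw [Nat.card_units, Nat.card_eq_fintype_card, hF, Nat.coprime_comm]
        refine Nat.prime_five.coprime_iff_not_dvd.2 fun h => ?_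
        have e1 : ((p ^ 2 - 1 : ℕ) : ZMod 5) = 0 := (ZMod.natCast_eq_zero_iff _ _).2 h
        rw [Nat.cast_sub (Nat.one_le_pow _ _ hpr.pos), Nat.cast_pow, Nat.cast_one, sub_eq_zero] at e1
        exact hp2ne e1
      have hroot : ∀ c : F, c ≠ 0 → ∃ l : F, l ^ 5 = c := fun c hc => by
        obtain ⟨l, hl⟩ := (powCoprime hcop).surjective (Units.mk0 c hc)
        exact ⟨l, congrArg Units.val hl⟩
      have hno : ∀ c : F, c ^ 5 = 1 → c = 1 := fun c hc => by
        have hc0 : c ≠ 0 := fun e => by rw [e] at hc; simp at hc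
        have h : Units.mk0 c hc0 = 1 := (powCoprime hcop).injective (Units.ext (by
          show c ^ 5 = (1 : F) ^ 5
          rw [hc, one_pow]))
        exact congrArg Units.val h
      obtain ⟨y, hyN, ⟨l, hl⟩, hy5, hy1⟩ := hG.exists_five D hroot
      have hyG : y ∈ Cfsg.GU 4 F p ⊓ Cfsg.Geo.specialLinear (Fin 4) F :=
        ⟨five_GU hF D hG hRU hno hl hy5, S6000.mem_SL.2 (hno _ (by
          rw [← Matrix.det_pow, ← Units.val_pow_eq_pow_val, hy5, Units.val_one, Matrix.det_one]))⟩
      set t : H4 F := mkUnit (z⁻¹ • (x : Q4 F)) (z • ((x⁻¹ : H4 F) : Q4 F)) (by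
        rw [Matrix.smul_mul, Matrix.mul_smul, ← Units.val_mul, mul_inv_cancel, Units.val_one, smul_smul,
          inv_mul_cancel₀ hz0, one_smul]) with ht
      have hxt : (x : Q4 F) = z • (t : Q4 F) := (smul_inv_smul₀ hz0 _).symm
      have ht5 : t ^ 5 = 1 := Units.ext (by
        rw [Units.val_pow_eq_pow_val]
        show (z⁻¹ • (x : Q4 F)) ^ 5 = 1
        rw [smul_pow, ← Units.val_pow_eq_pow_val, hz, smul_smul, inv_pow, pow_succ, hz4, one_mul,
          inv_mul_cancel₀ hz0, one_smul])
      have htG : t ∈ Cfsg.GU 4 F p ⊓ Cfsg.Geo.specialLinear (Fin 4) F := ⟨(mem_GU hF).2 (by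
        show ad hF (z⁻¹ • (x : Q4 F)) * (z⁻¹ • (x : Q4 F)) = 1
        rw [ad_smul, Matrix.smul_mul, Matrix.mul_smul, (mem_GU hF).1 hxU, smul_smul, ← pow_succ, inv_pow, hzn, inv_one,
          one_smul]), S6000.mem_SL.2 (by
        show (z⁻¹ • (x : Q4 F)).det = 1
        rw [Matrix.det_smul, hdx, Fintype.card_fin, inv_pow, hz4, inv_one, one_mul])⟩
      have ht1 : t ≠ 1 := fun e => hns z (by rw [hxt, e]; rfl)
      have hfix : ∀ g ∈ Cfsg.GU 4 F p ⊓ Cfsg.Geo.specialLinear (Fin 4) F, g ^ 5 = 1 → g ≠ 1 →
          ∀ w, (g : Q4 F) *ᵥ w = w → w = 0 := by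
        intro g hgG hg hg1
        set W := LinearMap.ker (Matrix.toLin' ((g : Q4 F) - 1)) with hW
        have hmem : ∀ w, w ∈ W ↔ (g : Q4 F) *ᵥ w = w := fun w => by
          rw [hW, LinearMap.mem_ker, Matrix.toLin'_apply, Matrix.sub_mulVec, Matrix.one_mulVec, sub_eq_zero]
        let σ : Function.End (Fin 4 → F) := fun w => (g : Q4 F) *ᵥ w
        have hσ : ∀ (n : ℕ) w, (σ ^ n) w = ((g ^ n : H4 F) : Q4 F) *ᵥ w := fun n => by
          induction n with
          | zero => intro w; rw [pow_zero, pow_zero, Units.val_one, Matrix.one_mulVec]; rfl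
          | succ n ih =>
            intro w
            rw [pow_succ' σ, pow_succ' g, Units.val_mul, ← Matrix.mulVec_mulVec, ← ih]
            rfl
        have h1 := Equiv.Perm.card_fixedPoints_modEq (f := σ) (p := 5) (n := 1) (by
          rw [pow_one]; funext w; rw [hσ, hg, Units.val_one, Matrix.one_mulVec]; rfl)
        have hf : Fintype.card (Function.fixedPoints σ) = Fintype.card F ^ finrank F W := by
          rw [← Module.card_eq_pow_finrank (K := F) (V := W)]
          exact Fintype.card_congr (Equiv.subtypeEquivRight fun w => (hmem w).symm)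
        rw [hf, Fintype.card_fun, Fintype.card_fin, ← ZMod.natCast_eq_natCast_iff, Nat.cast_pow, Nat.cast_pow,
          hF, Nat.cast_pow, hp2] at h1
        have hle : finrank F W ≤ 4 := (Submodule.finrank_le W).trans (by simp)
        intro w hw
        rcases eq_or_ne (finrank F W) 0 with h0 | h0
        · have := (hmem w).2 hw
          rwa [Submodule.finrank_eq_zero.1 h0, Submodule.mem_bot] at this
        rcases eq_or_ne (finrank F W) 4 with h4' | h4'
        · have htop : W = ⊤ := Submodule.eq_top_of_finrank_eq (by rw [h4']; simp)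
          exact absurd (Units.ext (Matrix.ext_of_mulVec_single fun k => by
            rw [Units.val_one, Matrix.one_mulVec]; exact (hmem _).1 (htop ▸ Submodule.mem_top))) hg1
        exfalso
        have h22 : finrank F W = 2 := by
          have key : ∀ f, f ≤ 4 → f ≠ 0 → f ≠ 4 → (-1 : ZMod 5) ^ 4 = (-1) ^ f → f = 2 := fun f hf a b c =>
            five_even ⟨f, by omega⟩ a b c
          first | exact key _ hle h0 h4' h1 | exact key _ hle h0 h4' h1.symm
        obtain ⟨hgU, hgS⟩ := hgG
        obtain ⟨α, hα, P, hP⟩ := single_form h5F hg (S6000.mem_SL.1 hgS) hno h22 hmem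
        have hM : SympType4.Scal.single α (-1) * !![α, 1, 0, 0; -1, 0, 0, 0; 0, 0, 1, 0; 0, 0, 0, 1] = (1 : Q4 F) := by
          ext k l
          fin_cases k <;> fin_cases l <;> simp [SympType4.Scal.single, Matrix.mul_apply, Fin.sum_univ_four]
        have hinv : ((g⁻¹ : H4 F) : Q4 F) * (P : Q4 F) =
            (P : Q4 F) * !![α, 1, 0, 0; -1, 0, 0, 0; 0, 0, 1, 0; 0, 0, 0, 1] := by
          calc ((g⁻¹ : H4 F) : Q4 F) * (P : Q4 F) = ((g⁻¹ : H4 F) : Q4 F) * ((P : Q4 F) *
                (SympType4.Scal.single α (-1) * !![α, 1, 0, 0; -1, 0, 0, 0; 0, 0, 1, 0; 0, 0, 0, 1])) := by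
                rw [hM, mul_one]
            _ = _ := by
                rw [← mul_assoc (P : Q4 F), ← hP, ← mul_assoc, ← mul_assoc, ← Units.val_mul g⁻¹ g, inv_mul_cancel,
                  Units.val_one, one_mul]
        have hT := ad_trace hF (g : Q4 F)
        rw [ad_of_mem hF hgU, S6000.trace_of_eq hinv, S6000.trace_of_eq hP] at hT
        simp [SympType4.Scal.single, Matrix.trace, Fin.sum_univ_four, add_assoc] at hT
        rw [show (1 : F) + 1 = 2 by norm_num, ← HermStd.qHom_apply hF, map_add, HermStd.qHom_apply,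
          HermStd.qHom_apply, show (2 : F) ^ p = 2 by
            rw [show (2 : F) = ((2 : ℕ) : F) by norm_num, natCast_pow hF], add_left_inj] at hT
        set s := 2 * α + 1 with hs
        have hs2 : s * s = 5 := by rw [hs]; linear_combination 4 * hα
        have hsp : s ^ p = s := by
          rw [hs, ← HermStd.qHom_apply hF, map_add, map_mul, map_one, map_ofNat, HermStd.qHom_apply, ← hT]
        have h5Z : ((5 : ℕ) : ZMod p) ≠ 0 := fun e =>
          hpne ((Nat.prime_dvd_prime_iff_eq hpr Nat.prime_five).1 ((ZMod.natCast_eq_zero_iff _ _).1 e))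
        have hsq5 : IsSquare ((5 : ℕ) : ZMod p) := by
          refine (ZMod.euler_criterion p h5Z).2 ((ZMod.castHom (dvd_refl p) F).injective ?_)
          rw [map_pow, map_natCast, map_one, Nat.cast_ofNat, ← hs2, ← pow_two, ← pow_mul,
            show 2 * (p / 2) = p - 1 by omega]
          have hs0 : s ≠ 0 := fun e => h5F (by rw [← hs2, e, mul_zero])
          refine mul_right_cancel₀ hs0 ?_
          rw [← pow_succ, one_mul, show p - 1 + 1 = p by omega, hsp]
        rw [← ZMod.exists_sq_eq_prime_iff_of_mod_four_eq_one (p := 5) (q := p) (by norm_num) (by omega)] at hsq5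
        obtain ⟨e, he⟩ := hsq5
        rcases five_sq e with h | h
        · exact hp2ne (by rw [he]; exact h)
        · rw [h, mul_zero] at he
          rw [he] at hp2
          exact five_ne hp2
      obtain ⟨g, hg, hgt⟩ := conj_five h5F _ hfix htG hyG ht5 hy5 ht1 hy1
      refine ⟨g, hg, S6000.scalar_mem (Subgroup.zpowers_le.2 hyN hgt) (c := z) ?_⟩
      rw [Units.val_mul, Units.val_mul, hxt, Matrix.mul_smul, Matrix.smul_mul, Units.val_mul, Units.val_mul]

end Cfsg.Agent.S6001
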